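/- helper24: fixed spaces of subgroups in a complex representation: dimension as a character sum, stabilizer of a vector, conjugation, two planes in a 3-space meet -/
import Mathlib
import Cfsg.Prelude.Def_Characters

set_option autoImplicit false

namespace Cfsg.Agent.Lib.Helper24.M11Vec

open Cfsg

section generic

variable {G : Type*} [Group G] {V : Type*} [AddCommGroup V] [Module ℂ V]

/-- the subspace of the vectors fixed by a subgroup -/
noncomputable def fixSpace (ρ : Representation ℂ G V) (A : Subgroup G) : Submodule ℂ V :=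
  Representation.invariants (k := ℂ) (G := ↥A) (V := V) (ρ.comp A.subtype)

theorem mem_fixSpace (ρ : Representation ℂ G V) (A : Subgroup G) (v : V) :
    v ∈ fixSpace ρ A ↔ ∀ a ∈ A, ρ a v = v := by
  unfold fixSpace
  rw [Representation.mem_invariants]
  constructor
  · intro h a ha
    exact h ⟨a, ha⟩
  · intro h a
    exact h a.1 a.2

theorem fixSpace_anti (ρ : Representation ℂ G V) {A B : Subgroup G} (h : A ≤ B) :
    fixSpace ρ B ≤ fixSpace ρ A := by
  intro v hv
  rw [mem_fixSpace] at hv ⊢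
  intro a ha
  exact hv a (h ha)

/-- the stabilizer of a vector -/
def vecStab (ρ : Representation ℂ G V) (v : V) : Subgroup G where
  carrier := {g | ρ g v = v}
  one_mem' := by simp
  mul_mem' := by
    intro a b ha hb
    simp only [Set.mem_ofPred_eq] at *
    rw [map_mul, Module.End.mul_apply, hb, ha]
  inv_mem' := by
    intro a ha
    simp only [Set.mem_ofPred_eq] at *
    calc ρ a⁻¹ v = ρ a⁻¹ (ρ a v) := by rw [ha]
      _ = (ρ a⁻¹ * ρ a) v := rfl
      _ = v := by rw [← map_mul, inv_mul_cancel, map_one]; rfl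

theorem mem_vecStab (ρ : Representation ℂ G V) (v : V) (g : G) :
    g ∈ vecStab ρ v ↔ ρ g v = v := Iff.rfl

theorem le_vecStab_iff (ρ : Representation ℂ G V) (v : V) (A : Subgroup G) :
    A ≤ vecStab ρ v ↔ v ∈ fixSpace ρ A := by
  rw [mem_fixSpace]
  rfl

/-- the dimension of the fixed space as a character sum -/
theorem card_mul_finrank_fixSpace [FiniteDimensional ℂ V] (ρ : Representation ℂ G V)
    (A : Subgroup G) [Fintype A] :
    (Nat.card A : ℂ) * (Module.finrank ℂ (fixSpace ρ A) : ℂ) = ∑ a : A, ρ.character a := by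
  have hne : (Fintype.card A : ℂ) ≠ 0 := Nat.cast_ne_zero.mpr Fintype.card_ne_zero
  let _ : Invertible (Fintype.card A : ℂ) := invertibleOfNonzero hne
  have h := (Representation.isProj_averageMap (k := ℂ) (G := ↥A) (V := V) (ρ.comp A.subtype)).trace
  unfold fixSpace
  rw [← h, Nat.card_eq_fintype_card]
  simp only [Representation.averageMap, GroupAlgebra.average, map_smul, map_sum, smul_eq_mul]
  rw [← mul_assoc, mul_invOf_self, one_mul]
  apply Finset.sum_congr rfl
  intro a _
  simp [Representation.character]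

/-- transport of the fixed space under conjugation -/
theorem map_fixSpace (ρ : Representation ℂ G V) (A B : Subgroup G) (c : G)
    (h : ∀ b ∈ B, c⁻¹ * b * c ∈ A) : (fixSpace ρ A).map (ρ c) ≤ fixSpace ρ B := by
  rintro _ ⟨v, hv, rfl⟩
  have hv' := (mem_fixSpace ρ A v).mp hv
  rw [mem_fixSpace]
  intro b hb
  have h1 := hv' _ (h b hb)
  have h2 : ρ b (ρ c v) = ρ c (ρ (c⁻¹ * b * c) v) := by
    have : ρ c * ρ (c⁻¹ * b * c) = ρ b * ρ c := by
      rw [← map_mul, ← map_mul]
      congr 1
      group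
    calc ρ b (ρ c v) = (ρ b * ρ c) v := rfl
      _ = (ρ c * ρ (c⁻¹ * b * c)) v := by rw [this]
      _ = ρ c (ρ (c⁻¹ * b * c) v) := rfl
  rw [h2, h1]

theorem finrank_map_rho (ρ : Representation ℂ G V) (W : Submodule ℂ V) (c : G) :
    Module.finrank ℂ (W.map (ρ c)) = Module.finrank ℂ W := by
  have hinj : Function.Injective (ρ c) := by
    intro x y hxy
    have : (ρ c⁻¹ * ρ c) x = (ρ c⁻¹ * ρ c) y := by
      change ρ c⁻¹ (ρ c x) = ρ c⁻¹ (ρ c y)
      rw [hxy]
    rwa [← map_mul, inv_mul_cancel, map_one] at this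
  exact (Submodule.equivMapOfInjective (ρ c) hinj W).finrank_eq.symm

/-- two subspaces of dimension `2` in a space of dimension at most `3` meet non-trivially -/
theorem exists_common_vector [FiniteDimensional ℂ V] (W1 W2 U : Submodule ℂ V) (h1 : W1 ≤ U)
    (h2 : W2 ≤ U) (d1 : Module.finrank ℂ W1 = 2) (d2 : Module.finrank ℂ W2 = 2)
    (dU : Module.finrank ℂ U ≤ 3) : ∃ v : V, v ≠ 0 ∧ v ∈ W1 ∧ v ∈ W2 := by
  have h := Submodule.finrank_sup_add_finrank_inf_eq W1 W2
  have hle : Module.finrank ℂ ↥(W1 ⊔ W2) ≤ Module.finrank ℂ U :=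
    Submodule.finrank_mono (sup_le h1 h2)
  have hpos : 0 < Module.finrank ℂ ↥(W1 ⊓ W2) := by omega
  rw [Module.finrank_pos_iff] at hpos
  obtain ⟨⟨v, hv⟩, hv0⟩ := exists_ne (0 : ↥(W1 ⊓ W2))
  refine ⟨v, fun h => hv0 (Subtype.ext h), hv.1, hv.2⟩

end generic

end Cfsg.Agent.Lib.Helper24.M11Vec
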