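/- helper24: the product T*Q of a subgroup and a subgroup normalizing it: cardinality, sums, and conjugacy inside a coset T q when q acts fixed-point-freely -/
import Mathlib
import Cfsg.Prelude.Def_Characters

set_option autoImplicit false

namespace Cfsg.Agent.Lib.Helper24.M11Vec

open Cfsg

section prod

variable {G : Type*} [Group G]

/-- the product `T * Q` of a subgroup `T` and a subgroup `Q` normalizing it -/
def prodSub (T Q : Subgroup G) (h : Q ≤ Subgroup.normalizer (T : Set G)) : Subgroup G where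
  carrier := {g | ∃ x ∈ T, ∃ q ∈ Q, g = x * q}
  one_mem' := ⟨1, T.one_mem, 1, Q.one_mem, by simp⟩
  mul_mem' := by
    rintro _ _ ⟨x, hx, q, hq, rfl⟩ ⟨x', hx', q', hq', rfl⟩
    refine ⟨x * (q * x' * q⁻¹),
      T.mul_mem hx ((Subgroup.mem_normalizer_iff.mp (h hq) x').mp hx'), q * q',
      Q.mul_mem hq hq', by group⟩
  inv_mem' := by
    rintro _ ⟨x, hx, q, hq, rfl⟩
    refine ⟨q⁻¹ * x⁻¹ * q, ?_, q⁻¹, Q.inv_mem hq, by group⟩
    have := (Subgroup.mem_normalizer_iff.mp (h (Q.inv_mem hq)) x⁻¹).mp (T.inv_mem hx)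
    simpa using this

theorem mem_prodSub (T Q : Subgroup G) (h : Q ≤ Subgroup.normalizer (T : Set G)) (g : G) :
    g ∈ prodSub T Q h ↔ ∃ x ∈ T, ∃ q ∈ Q, g = x * q := Iff.rfl

theorem left_le_prodSub (T Q : Subgroup G) (h : Q ≤ Subgroup.normalizer (T : Set G)) :
    T ≤ prodSub T Q h := fun x hx => ⟨x, hx, 1, Q.one_mem, by simp⟩

theorem right_le_prodSub (T Q : Subgroup G) (h : Q ≤ Subgroup.normalizer (T : Set G)) :
    Q ≤ prodSub T Q h := fun q hq => ⟨1, T.one_mem, q, hq, by simp⟩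

/-- the bijection `T × Q ≃ T * Q` -/
noncomputable def prodEquiv (T Q : Subgroup G) (h : Q ≤ Subgroup.normalizer (T : Set G))
    (hTQ : ∀ g, g ∈ T → g ∈ Q → g = 1) : ↥T × ↥Q ≃ ↥(prodSub T Q h) :=
  Equiv.ofBijective (fun p => ⟨(p.1 : G) * (p.2 : G), ⟨p.1, p.1.2, p.2, p.2.2, rfl⟩⟩) (by
    constructor
    · rintro ⟨⟨x, hx⟩, ⟨q, hq⟩⟩ ⟨⟨x', hx'⟩, ⟨q', hq'⟩⟩ he
      have he' : x * q = x' * q' := congrArg Subtype.val he
      have h1 : x'⁻¹ * x = q' * q⁻¹ := by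
        calc x'⁻¹ * x = x'⁻¹ * (x * q) * q⁻¹ := by group
          _ = x'⁻¹ * (x' * q') * q⁻¹ := by rw [he']
          _ = q' * q⁻¹ := by group
      have h2 : x'⁻¹ * x = 1 :=
        hTQ _ (T.mul_mem (T.inv_mem hx') hx) (h1 ▸ Q.mul_mem hq' (Q.inv_mem hq))
      have hxx : x = x' := by
        calc x = x' * (x'⁻¹ * x) := by group
          _ = x' := by rw [h2, mul_one]
      have hqq : q = q' := by
        have : q' * q⁻¹ = 1 := by rw [← h1, h2]
        calc q = (q' * q⁻¹)⁻¹ * q' := by group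
          _ = q' := by rw [this]; group
      subst hxx
      subst hqq
      rfl
    · rintro ⟨g, x, hx, q, hq, rfl⟩
      exact ⟨(⟨x, hx⟩, ⟨q, hq⟩), rfl⟩)

theorem card_prodSub (T Q : Subgroup G) (h : Q ≤ Subgroup.normalizer (T : Set G))
    (hTQ : ∀ g, g ∈ T → g ∈ Q → g = 1) :
    Nat.card ↥(prodSub T Q h) = Nat.card ↥T * Nat.card ↥Q := by
  rw [← Nat.card_prod]
  exact (Nat.card_congr (prodEquiv T Q h hTQ)).symm

theorem sum_prodSub (T Q : Subgroup G) (h : Q ≤ Subgroup.normalizer (T : Set G))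
    (hTQ : ∀ g, g ∈ T → g ∈ Q → g = 1) [Fintype ↥T] [Fintype ↥Q] [Fintype ↥(prodSub T Q h)]
    (f : G → ℂ) :
    ∑ k : ↥(prodSub T Q h), f k = ∑ q : ↥Q, ∑ x : ↥T, f ((x : G) * (q : G)) := by
  rw [← Equiv.sum_comp (prodEquiv T Q h hTQ) (fun k => f k), Fintype.sum_prod_type,
    Finset.sum_comm]
  rfl

/-- if `q` normalizes the finite subgroup `T` and centralizes no non-identity element of `T`, then
every element of the coset `T q` is conjugate to `q` under `T` -/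
theorem exists_conj_coset (T : Subgroup G) [Finite ↥T] (q : G)
    (hq : q ∈ Subgroup.normalizer (T : Set G))
    (hfree : ∀ x ∈ T, q * x * q⁻¹ = x → x = 1) (x : G) (hx : x ∈ T) :
    ∃ y ∈ T, y * q * y⁻¹ = x * q := by
  have hmem : ∀ y : ↥T, (y : G) * (q * (y : G)⁻¹ * q⁻¹) ∈ T := fun y =>
    T.mul_mem y.2 ((Subgroup.mem_normalizer_iff.mp hq _).mp (T.inv_mem y.2))
  let φ : ↥T → ↥T := fun y => ⟨(y : G) * (q * (y : G)⁻¹ * q⁻¹), hmem y⟩
  have hinj : Function.Injective φ := by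
    rintro ⟨y, hy⟩ ⟨y', hy'⟩ he
    have he' : y * (q * y⁻¹ * q⁻¹) = y' * (q * y'⁻¹ * q⁻¹) := congrArg Subtype.val he
    have h1 : q * (y'⁻¹ * y) * q⁻¹ = y'⁻¹ * y := by
      calc q * (y'⁻¹ * y) * q⁻¹ = (y'⁻¹ * (y' * (q * y'⁻¹ * q⁻¹))) * (q * y * q⁻¹) := by group
        _ = (y'⁻¹ * (y * (q * y⁻¹ * q⁻¹))) * (q * y * q⁻¹) := by rw [he']
        _ = y'⁻¹ * y := by group
    have h2 := hfree _ (T.mul_mem (T.inv_mem hy') hy) h1
    apply Subtype.ext
    change y = y'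
    calc y = y' * (y'⁻¹ * y) := by group
      _ = y' := by rw [h2, mul_one]
  obtain ⟨y, hy⟩ := (Finite.injective_iff_surjective.mp hinj) ⟨x, hx⟩
  refine ⟨y, y.2, ?_⟩
  have hy' : (y : G) * (q * (y : G)⁻¹ * q⁻¹) = x := congrArg Subtype.val hy
  rw [← hy']
  group

end prod

end Cfsg.Agent.Lib.Helper24.M11Vec
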