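/-
Central characters and integrality (helper24).
For an irreducible complex representation `ρ` of a finite group `G` and a class function `a : G → ℂ`,
the operator `∑ g, a g • ρ g` is the scalar `(∑ g, a g * χ g) / χ 1`; if the values of `a` are algebraic
integers then so is this scalar.  Consequences: `|K| χ(g) / χ(1)` is an algebraic integer, `χ(1) ∣ |G|`.
-/
import Mathlib
import Cfsg.Agent.Lib.Lead.CharBasic

set_option autoImplicit false

namespace Cfsg.Agent.Lib.Helper24

open Representation Module
open scoped ComplexConjugate MonoidAlgebra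

universe u v

variable {G : Type u} [Group G] {V : Type v} [AddCommGroup V] [Module ℂ V]

/-- Schur's lemma: an endomorphism commuting with an irreducible complex representation is a scalar. -/
theorem exists_eq_smul_one_of_comm [FiniteDimensional ℂ V] (ρ : Representation ℂ G V) [ρ.IsIrreducible]
    (T : Module.End ℂ V) (hT : ∀ g : G, T ∘ₗ ρ g = ρ g ∘ₗ T) : ∃ c : ℂ, T = c • (1 : Module.End ℂ V) := by
  let f : IntertwiningMap ρ ρ := ⟨T, hT⟩
  obtain ⟨c, hc⟩ := (IsIrreducible.algebraMap_intertwiningMap_bijective_of_isAlgClosed (ρ := ρ)).surjective f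
  refine ⟨c, ?_⟩
  have h1 : f.toLinearMap = T := rfl
  rw [← h1, ← hc]
  rfl

/-- an irreducible representation lives on a nontrivial space -/
theorem nontrivial_of_isIrreducible (ρ : Representation ℂ G V) [ρ.IsIrreducible] : Nontrivial V := by
  by_contra h
  rw [not_nontrivial_iff_subsingleton] at h
  have : Subsingleton (Subrepresentation ρ) := by
    constructor
    intro a b
    ext x
    simp [Subsingleton.elim x 0]
  exact (IsSimpleOrder.toNontrivial (α := Subrepresentation ρ)).exists_pair_ne.elim
    fun a ⟨b, hab⟩ => hab (Subsingleton.elim a b)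

theorem finrank_pos_of_isIrreducible [FiniteDimensional ℂ V] (ρ : Representation ℂ G V) [ρ.IsIrreducible] :
    0 < finrank ℂ V := by
  have := nontrivial_of_isIrreducible ρ
  exact Module.finrank_pos

/-- The operator attached to a coefficient function `a` on a finite group. -/
noncomputable def coeffSum [Fintype G] (ρ : Representation ℂ G V) (a : G → ℂ) : Module.End ℂ V :=
  ∑ g : G, a g • ρ g

theorem coeffSum_comm [Fintype G] (ρ : Representation ℂ G V) (a : G → ℂ)
    (ha : ∀ g h : G, a (h * g * h⁻¹) = a g) (h : G) :
    coeffSum ρ a ∘ₗ ρ h = ρ h ∘ₗ coeffSum ρ a := by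
  unfold coeffSum
  rw [← Module.End.mul_eq_comp, ← Module.End.mul_eq_comp, Finset.sum_mul, Finset.mul_sum]
  -- reindex the right-hand sum by g ↦ h⁻¹ * g * h
  rw [← Equiv.sum_comp (MulAut.conj h⁻¹).toEquiv (fun g => ρ h * (a g • ρ g))]
  apply Finset.sum_congr rfl
  intro g _
  have h1 : (MulAut.conj h⁻¹).toEquiv g = h⁻¹ * g * h := by simp
  rw [h1]
  have h2 : a (h⁻¹ * g * h) = a g := by
    have := ha g h⁻¹
    simpa using this
  rw [h2, smul_mul_assoc, mul_smul_comm]
  congr 1
  rw [← map_mul, ← map_mul]
  congr 1
  group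

theorem trace_coeffSum [Fintype G] [FiniteDimensional ℂ V] (ρ : Representation ℂ G V) (a : G → ℂ) :
    LinearMap.trace ℂ V (coeffSum ρ a) = ∑ g : G, a g * ρ.character g := by
  unfold coeffSum Representation.character
  rw [map_sum]
  apply Finset.sum_congr rfl
  intro g _
  rw [map_smul, smul_eq_mul]

/-- The central character value of a class function `a` at the irreducible representation `ρ`. -/
noncomputable def omega [Fintype G] (ρ : Representation ℂ G V) (a : G → ℂ) : ℂ :=
  (∑ g : G, a g * ρ.character g) / (finrank ℂ V : ℂ)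

theorem coeffSum_eq_omega_smul [Fintype G] [FiniteDimensional ℂ V] (ρ : Representation ℂ G V) [ρ.IsIrreducible]
    (a : G → ℂ) (ha : ∀ g h : G, a (h * g * h⁻¹) = a g) :
    coeffSum ρ a = omega ρ a • (1 : Module.End ℂ V) := by
  obtain ⟨c, hc⟩ := exists_eq_smul_one_of_comm ρ (coeffSum ρ a) (coeffSum_comm ρ a ha)
  have hpos := finrank_pos_of_isIrreducible ρ
  have h1 : LinearMap.trace ℂ V (coeffSum ρ a) = c * (finrank ℂ V : ℂ) := by
    rw [hc, map_smul, LinearMap.trace_one, smul_eq_mul]
  rw [trace_coeffSum] at h1
  have h2 : omega ρ a = c := by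
    unfold omega
    rw [h1]
    have : (finrank ℂ V : ℂ) ≠ 0 := by exact_mod_cast hpos.ne'
    field_simp
  rw [h2, hc]

/-- `∑ g, a g • ρ g` is integral over `ℤ` when all coefficients are algebraic integers. -/
theorem isIntegral_coeffSum [Fintype G] (ρ : Representation ℂ G V)
    (a : G → ℂ) (hint : ∀ g, IsIntegral ℤ (a g)) :
    IsIntegral ℤ (coeffSum ρ a) := by
  classical
  let R : Subalgebra ℤ ℂ := Algebra.adjoin ℤ (Set.range a)
  have hfin : Module.Finite ℤ R :=
    Algebra.finite_adjoin_of_finite_of_isIntegral (Set.finite_range a)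
      (by rintro _ ⟨g, rfl⟩; exact hint g)
  let a' : G → R := fun g => ⟨a g, Algebra.subset_adjoin ⟨g, rfl⟩⟩
  let z : MonoidAlgebra R G := ∑ g : G, MonoidAlgebra.single g (a' g)
  have hfin2 : Module.Finite ℤ (MonoidAlgebra R G) := Module.Finite.trans R _
  have hz : IsIntegral ℤ z := IsIntegral.of_finite ℤ z
  let φ : MonoidAlgebra R G →ₐ[R] Module.End ℂ V := MonoidAlgebra.lift R (Module.End ℂ V) G ρ
  have hφ : φ z = coeffSum ρ a := by
    simp only [z, map_sum, φ, MonoidAlgebra.lift_single, coeffSum]
    apply Finset.sum_congr rfl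
    intro g _
    rfl
  rw [← hφ]
  exact hz.map φ

/-- a scalar operator on a nontrivial space is integral iff the scalar is -/
theorem isIntegral_of_isIntegral_smul_one [Nontrivial V] (c : ℂ)
    (h : IsIntegral ℤ (c • (1 : Module.End ℂ V))) : IsIntegral ℤ c := by
  have hinj : Function.Injective (algebraMap ℂ (Module.End ℂ V)) := by
    intro x y hxy
    obtain ⟨v, hv⟩ := exists_ne (0 : V)
    have := congrArg (fun T : Module.End ℂ V => T v) hxy
    simp only [Module.algebraMap_end_apply] at this
    have h2 : (x - y) • v = 0 := by rw [sub_smul, this, sub_self]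
    rcases smul_eq_zero.mp h2 with h3 | h3
    · exact sub_eq_zero.mp h3
    · exact absurd h3 hv
  have h1 : c • (1 : Module.End ℂ V) = algebraMap ℂ (Module.End ℂ V) c := by
    rw [Algebra.algebraMap_eq_smul_one]
  rw [h1] at h
  exact (isIntegral_algebraMap_iff hinj).mp h

/-- **Integrality of central characters.** For an irreducible complex representation `ρ` and a class function `a`
with algebraic integer values, `(∑ g, a g * χ g) / χ 1` is an algebraic integer. -/
theorem isIntegral_omega [Fintype G] [FiniteDimensional ℂ V] (ρ : Representation ℂ G V) [ρ.IsIrreducible]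
    (a : G → ℂ) (ha : ∀ g h : G, a (h * g * h⁻¹) = a g) (hint : ∀ g, IsIntegral ℤ (a g)) :
    IsIntegral ℤ (omega ρ a) := by
  have := nontrivial_of_isIrreducible ρ
  apply isIntegral_of_isIntegral_smul_one (V := V)
  rw [← coeffSum_eq_omega_smul ρ a ha]
  exact isIntegral_coeffSum ρ a hint

/-- The size of a conjugacy class is the index of the centralizer. -/
theorem ncard_conj_eq_index (g : G) :
    {x : G | IsConj g x}.ncard = (Subgroup.centralizer ({g} : Set G)).index := by
  have h1 : {x : G | IsConj g x} = MulAction.orbit (ConjAct G) g := by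
    ext x
    rw [ConjAct.mem_orbit_conjAct, isConj_comm]
    rfl
  have h2 : (MulAction.stabilizer (ConjAct G) g).index = (MulAction.orbit (ConjAct G) g).ncard :=
    MulAction.index_stabilizer (ConjAct G) g
  have h3 : (Subgroup.centralizer ({g} : Set G)).index = (MulAction.stabilizer (ConjAct G) g).index := by
    rw [Subgroup.centralizer_eq_comap_stabilizer]
    exact Subgroup.index_comap_of_surjective _ ConjAct.toConjAct.surjective
  rw [h1, ← h2, h3]

/-- class indicator function -/
noncomputable def classInd (g : G) : G → ℂ := fun x => by classical exact if IsConj g x then 1 else 0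

theorem classInd_conj (g x h : G) : classInd g (h * x * h⁻¹) = classInd g x := by
  classical
  unfold classInd
  have : IsConj g (h * x * h⁻¹) ↔ IsConj g x := by
    constructor
    · intro h1
      exact h1.trans (isConj_iff.mpr ⟨h⁻¹, by group⟩)
    · intro h1
      exact h1.trans (isConj_iff.mpr ⟨h, rfl⟩)
  simp only [this]

theorem isIntegral_classInd (g x : G) : IsIntegral ℤ (classInd g x) := by
  classical
  unfold classInd
  split_ifs
  · exact isIntegral_one
  · exact isIntegral_zero

theorem char_eq_of_isConj [FiniteDimensional ℂ V] (ρ : Representation ℂ G V) {g x : G} (h : IsConj g x) :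
    ρ.character x = ρ.character g := by
  obtain ⟨c, hc⟩ := isConj_iff.mp h
  rw [← hc, Representation.char_conj]

theorem sum_classInd_mul_char [Fintype G] [FiniteDimensional ℂ V] (ρ : Representation ℂ G V) (g : G) :
    ∑ x : G, classInd g x * ρ.character x =
      ((Subgroup.centralizer ({g} : Set G)).index : ℂ) * ρ.character g := by
  classical
  have h1 : ∀ x : G, classInd g x * ρ.character x = if IsConj g x then ρ.character g else 0 := by
    intro x
    unfold classInd
    split_ifs with h
    · rw [one_mul, char_eq_of_isConj ρ h]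
    · rw [zero_mul]
  simp_rw [h1]
  rw [Finset.sum_ite, Finset.sum_const_zero, add_zero, Finset.sum_const, nsmul_eq_mul]
  congr 1
  rw [← ncard_conj_eq_index, Set.ncard_eq_toFinset_card']
  congr 2
  ext x
  simp

/-- `|K_g| χ(g) / χ(1)` is an algebraic integer (for irreducible `ρ`). -/
theorem isIntegral_index_mul_char_div [Finite G] [FiniteDimensional ℂ V] (ρ : Representation ℂ G V)
    [ρ.IsIrreducible] (g : G) :
    IsIntegral ℤ (((Subgroup.centralizer ({g} : Set G)).index : ℂ) * ρ.character g / (finrank ℂ V : ℂ)) := by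
  have : Fintype G := Fintype.ofFinite G
  have h := isIntegral_omega ρ (classInd g) (fun x h => classInd_conj g x h) (isIntegral_classInd g)
  unfold omega at h
  rwa [sum_classInd_mul_char] at h

/-- For an irreducible complex representation, `|G| / χ(1)` is an algebraic integer. -/
theorem isIntegral_card_div_finrank [Fintype G] [FiniteDimensional ℂ V] (ρ : Representation ℂ G V)
    [ρ.IsIrreducible] : IsIntegral ℤ ((Nat.card G : ℂ) / (finrank ℂ V : ℂ)) := by
  -- use the class function a g = χ(g⁻¹)
  have h := isIntegral_omega ρ (fun g => ρ.character g⁻¹)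
    (fun g h => by
      have : (h * g * h⁻¹)⁻¹ = h * g⁻¹ * h⁻¹ := by group
      rw [this, Representation.char_conj])
    (fun g => Cfsg.Agent.CharLib.isIntegral_char ρ g⁻¹)
  unfold omega at h
  have horth : ∑ g : G, ρ.character g⁻¹ * ρ.character g = (Nat.card G : ℂ) := by
    have hinv : Invertible (Nat.card G : ℂ) := invertibleOfNonzero (by
      have : 0 < Nat.card G := Nat.card_pos
      exact_mod_cast this.ne')
    have := Representation.char_orthonormal ρ ρ
    rw [if_pos ⟨Representation.Equiv.refl ρ⟩] at this
    have h2 : ∑ g : G, ρ.character g * ρ.character g⁻¹ = (Nat.card G : ℂ) := by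
      have hne : (Nat.card G : ℂ) ≠ 0 := by
        have : 0 < Nat.card G := Nat.card_pos
        exact_mod_cast this.ne'
      field_simp at this
      simpa using this
    rw [← h2]
    apply Finset.sum_congr rfl
    intro g _
    ring
  rwa [horth] at h

/-- **The degree of an irreducible complex representation divides the group order.** -/
theorem finrank_dvd_card [Finite G] [FiniteDimensional ℂ V] (ρ : Representation ℂ G V)
    [ρ.IsIrreducible] : finrank ℂ V ∣ Nat.card G := by
  have : Fintype G := Fintype.ofFinite G
  have h := isIntegral_card_div_finrank ρ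
  have hpos := finrank_pos_of_isIrreducible ρ
  -- a rational algebraic integer is an integer
  have hq : ((Nat.card G : ℂ) / (finrank ℂ V : ℂ)) = (((Nat.card G : ℚ) / (finrank ℂ V : ℚ) : ℚ) : ℂ) := by
    push_cast; rfl
  rw [hq] at h
  have h2 : IsIntegral ℤ ((Nat.card G : ℚ) / (finrank ℂ V : ℚ)) := by
    have := (isIntegral_algebraMap_iff (algebraMap ℚ ℂ).injective (R := ℤ)
      (x := ((Nat.card G : ℚ) / (finrank ℂ V : ℚ)))).mp
    exact this h
  obtain ⟨k, hk⟩ := IsIntegrallyClosed.isIntegral_iff.mp h2
  have h3 : (Nat.card G : ℚ) = (k : ℚ) * (finrank ℂ V : ℚ) := by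
    have hne : (finrank ℂ V : ℚ) ≠ 0 := by exact_mod_cast hpos.ne'
    rw [eq_div_iff hne] at hk
    simpa using hk.symm
  have h4 : (Nat.card G : ℤ) = k * (finrank ℂ V : ℤ) := by exact_mod_cast h3
  have h5 : (finrank ℂ V : ℤ) ∣ (Nat.card G : ℤ) := ⟨k, by rw [h4]; ring⟩
  exact_mod_cast h5

end Cfsg.Agent.Lib.Helper24
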