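/-
Helper24 library: Galois conjugates of character values via power maps `g ↦ g ^ k`, the norm lemma
(the product of `χ (g ^ k)` over `k` prime to `|G|` is a nonzero integer when `χ g ≠ 0`), and the resulting
inequality `0 ≤ ∑ₖ (‖χ (g ^ k)‖² - 1)`.
-/
import Mathlib
import Cfsg.Prelude.Def_Characters
import Cfsg.Agent.Lib.Lead.CharBurnside

set_option autoImplicit false

namespace Cfsg.Agent.Lib.Helper24

open Polynomial Module
open Cfsg.Agent.CharLib

theorem prod_powersums_int_aux {ι : Type*} [Fintype ι] (n : ℕ) [NeZero n]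
    (K : Type*) [Field K] [Algebra ℚ K] [IsCyclotomicExtension {n} ℚ K]
    (μ : ι → ℂ) (hμ : ∀ i, μ i ^ n = 1)
    (h1 : ∑ i, μ i ≠ 0) :
    ∃ m : ℤ, m ≠ 0 ∧ ∏ k : (ZMod n)ˣ, (∑ i, μ i ^ (k : ZMod n).val) = (m : ℂ) := by
  have hζ : IsPrimitiveRoot (IsCyclotomicExtension.zeta n ℚ K) n := IsCyclotomicExtension.zeta_spec n ℚ K
  set ζ := IsCyclotomicExtension.zeta n ℚ K with hζdef
  have : FiniteDimensional ℚ K := IsCyclotomicExtension.finiteDimensional {n} ℚ K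
  have : IsGalois ℚ K := IsCyclotomicExtension.isGalois {n} ℚ K
  let φA : K →ₐ[ℚ] ℂ := IsAlgClosed.lift
  let φ : K →+* ℂ := φA.toRingHom
  have hζ' : IsPrimitiveRoot (φ ζ) n := hζ.map_of_injective φ.injective
  have hexp : ∀ i, ∃ a, a < n ∧ (φ ζ) ^ a = μ i := fun i => hζ'.eq_pow_of_pow_eq_one (hμ i)
  choose a ha1 ha2 using hexp
  let x : K := ∑ i, ζ ^ a i
  have hx : φ x = ∑ i, μ i := by simp [x, map_sum, map_pow, ha2]
  have hirr : Irreducible (cyclotomic n ℚ) := cyclotomic.irreducible_rat (NeZero.pos n)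
  let e := IsCyclotomicExtension.autEquivPow K hirr
  have hσ : ∀ σ : K ≃ₐ[ℚ] K, φ (σ x) = ∑ i, μ i ^ ((e σ : ZMod n)).val := by
    intro σ
    simp only [x, map_sum, map_pow]
    apply Finset.sum_congr rfl
    intro i _
    have h2 : σ ζ = ζ ^ ((e σ : ZMod n)).val := (hζ.autToPow_spec ℚ σ).symm
    rw [h2, map_pow, ← pow_mul, mul_comm, pow_mul, ha2 i]
  have hnorm := Algebra.norm_eq_prod_automorphisms ℚ x
  have hxne : x ≠ 0 := by
    intro h0
    apply h1
    rw [← hx, h0, map_zero]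
  have hxint : IsIntegral ℤ x := by
    apply IsIntegral.sum
    intro i _
    apply IsIntegral.pow
    exact hζ.isIntegral (NeZero.pos n)
  have hNint : IsIntegral ℤ (Algebra.norm ℚ x) := Algebra.isIntegral_norm ℚ hxint
  obtain ⟨m, hm⟩ := IsIntegrallyClosed.isIntegral_iff.mp hNint
  have hNne : Algebra.norm ℚ x ≠ 0 := Algebra.norm_ne_zero_iff.mpr hxne
  refine ⟨m, ?_, ?_⟩
  · rintro rfl
    apply hNne
    rw [← hm, map_zero]
  · have h3 : φ (algebraMap ℚ K (Algebra.norm ℚ x)) = ∏ σ : K ≃ₐ[ℚ] K, φ (σ x) := by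
      rw [hnorm, map_prod]
    rw [← hm] at h3
    have h4 : φ (algebraMap ℚ K (algebraMap ℤ ℚ m)) = (m : ℂ) := by
      simp
    rw [h4] at h3
    rw [h3]
    rw [← Equiv.prod_comp e.toEquiv]
    apply Finset.prod_congr rfl
    intro σ _
    exact (hσ σ).symm

/-- Norm lemma: if the power sum `∑ μ_i` of `n`-th roots of unity is nonzero then the product of its
Galois conjugates `∑ μ_i ^ k`, `k` prime to `n`, is a nonzero integer. -/
theorem prod_powersums_int {ι : Type*} [Fintype ι] (n : ℕ) [NeZero n] (μ : ι → ℂ) (hμ : ∀ i, μ i ^ n = 1)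
    (h1 : ∑ i, μ i ≠ 0) :
    ∃ m : ℤ, m ≠ 0 ∧ ∏ k : (ZMod n)ˣ, (∑ i, μ i ^ (k : ZMod n).val) = (m : ℂ) := by
  have : NeZero ((n : ℕ) : ℚ) := ⟨by exact_mod_cast (NeZero.ne n)⟩
  exact @prod_powersums_int_aux ι _ n _ (CyclotomicField n ℚ) _ _
    (CyclotomicField.isCyclotomicExtension n ℚ) μ hμ h1

/-- If a finite product of complex numbers is a nonzero integer then `0 ≤ ∑ (‖S k‖² - 1)`
(a form of the AM-GM inequality). -/
theorem sum_normSq_sub_one_nonneg {κ : Type*} [Fintype κ] (S : κ → ℂ) (m : ℤ) (hm : m ≠ 0)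
    (h : ∏ k, S k = (m : ℂ)) : 0 ≤ ∑ k, (‖S k‖ ^ 2 - 1) := by
  have hne : ∀ k, S k ≠ 0 := by
    have h0 : ∏ k, S k ≠ 0 := by
      rw [h]; exact_mod_cast hm
    intro k
    exact (Finset.prod_ne_zero_iff.mp h0) k (Finset.mem_univ k)
  have hpos : ∀ k, 0 < ‖S k‖ ^ 2 := fun k => by
    have := norm_pos_iff.mpr (hne k)
    positivity
  have hprod : (1 : ℝ) ≤ ∏ k, ‖S k‖ ^ 2 := by
    rw [Finset.prod_pow, ← norm_prod, h, Complex.norm_intCast]
    have h1 : (1 : ℝ) ≤ |(m : ℝ)| := by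
      have : (1 : ℤ) ≤ |m| := Int.one_le_abs hm
      exact_mod_cast this
    nlinarith
  have hlog : 0 ≤ Real.log (∏ k, ‖S k‖ ^ 2) := Real.log_nonneg hprod
  rw [Real.log_prod (fun k _ => (hpos k).ne')] at hlog
  calc (0 : ℝ) ≤ ∑ k, Real.log (‖S k‖ ^ 2) := hlog
    _ ≤ ∑ k, (‖S k‖ ^ 2 - 1) := Finset.sum_le_sum (fun k _ => Real.log_le_sub_one_of_pos (hpos k))

universe u v

variable {G : Type u} [Group G]

/-- Character values at the powers of `g` are the power sums of the eigenvalues of `ρ g`. -/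
theorem exists_roots_char_pow [Finite G] {V : Type v} [AddCommGroup V] [Module ℂ V]
    [FiniteDimensional ℂ V] (ρ : Representation ℂ G V) (g : G) :
    ∃ (ι : Type) (_ : Fintype ι) (μ : ι → ℂ), (∀ i, μ i ^ orderOf g = 1) ∧ (∀ i, ‖μ i‖ = 1) ∧
      Fintype.card ι = finrank ℂ V ∧ ∀ k : ℕ, ρ.character (g ^ k) = ∑ i, μ i ^ k := by
  obtain ⟨ι, hι, b, μ, h1, h2, h3, h4⟩ := exists_eigenbasis ρ g
  refine ⟨ι, hι, μ, h1, h4, (Module.finrank_eq_card_basis b).symm, ?_⟩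
  intro k
  have hk : ∀ i, ρ (g ^ k) (b i) = (μ i ^ k) • b i := by
    intro i
    induction k with
    | zero => simp
    | succ k ih =>
      rw [pow_succ, map_mul, Module.End.mul_apply, h2 i, map_smul, ih, smul_smul, pow_succ, mul_comm]
  unfold Representation.character
  exact trace_eq_sum_of_eigenbasis b (ρ (g ^ k)) (fun i => μ i ^ k) hk

/-- The Galois-conjugate inequality for character values: if `χ g ≠ 0` and `g ^ n = 1` then all
`χ (g ^ k)`, `k` prime to `n`, are nonzero and `0 ≤ ∑ₖ (‖χ (g ^ k)‖² - 1)`. -/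
theorem char_pow_units_sum_nonneg [Finite G] {V : Type v} [AddCommGroup V] [Module ℂ V]
    [FiniteDimensional ℂ V] (ρ : Representation ℂ G V) (g : G) (n : ℕ) [NeZero n] (hn : g ^ n = 1)
    (hg : ρ.character g ≠ 0) :
    (∀ k : (ZMod n)ˣ, ρ.character (g ^ (k : ZMod n).val) ≠ 0) ∧
      0 ≤ ∑ k : (ZMod n)ˣ, (‖ρ.character (g ^ (k : ZMod n).val)‖ ^ 2 - 1) := by
  obtain ⟨ι, hι, μ, h1, h2, h3, h4⟩ := exists_roots_char_pow ρ g
  have hμn : ∀ i, μ i ^ n = 1 := by
    intro i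
    obtain ⟨c, hc⟩ := orderOf_dvd_of_pow_eq_one hn
    rw [hc, pow_mul, h1 i, one_pow]
  have hsum : ∑ i, μ i ≠ 0 := by
    have := h4 1
    simp only [pow_one] at this
    rw [← this]; exact hg
  obtain ⟨m, hm0, hm⟩ := prod_powersums_int n μ hμn hsum
  have hm' : ∏ k : (ZMod n)ˣ, ρ.character (g ^ (k : ZMod n).val) = (m : ℂ) := by
    rw [← hm]
    apply Finset.prod_congr rfl
    intro k _
    exact h4 _
  constructor
  · have h0 : ∏ k : (ZMod n)ˣ, ρ.character (g ^ (k : ZMod n).val) ≠ 0 := by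
      rw [hm']; exact_mod_cast hm0
    intro k
    exact (Finset.prod_ne_zero_iff.mp h0) k (Finset.mem_univ k)
  · exact sum_normSq_sub_one_nonneg _ m hm0 hm'

/-- If `|χ g| = χ 1` then `|χ (g ^ k)| = χ 1` for every `k`. -/
theorem norm_char_pow_eq_of_norm_char_eq [Finite G] {V : Type v} [AddCommGroup V] [Module ℂ V]
    [FiniteDimensional ℂ V] (ρ : Representation ℂ G V) (g : G)
    (h : ‖ρ.character g‖ = (finrank ℂ V : ℝ)) (k : ℕ) :
    ‖ρ.character (g ^ k)‖ = (finrank ℂ V : ℝ) := by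
  obtain ⟨ι, hι, μ, h1, h2, h3, h4⟩ := exists_roots_char_pow ρ g
  have hg := h4 1
  simp only [pow_one] at hg
  rw [hg, ← h3] at h
  obtain ⟨ω, hω1, hω⟩ := all_eq_of_norm_sum_eq_card μ h2 h
  rw [h4 k, ← h3]
  simp only [hω, Finset.sum_const, Finset.card_univ, nsmul_eq_mul, norm_mul, norm_pow, hω1, one_pow,
    mul_one, Complex.norm_natCast]

end Cfsg.Agent.Lib.Helper24
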