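/-
Class multiplication via characters: sums of conjugates act as scalars on irreducible representations;
irreducible characters separate conjugacy classes; linear characters are multiplicative (helper24).
-/
import Mathlib
import Cfsg.Agent.Lib.Helper24.CentralChar
import Cfsg.Agent.Lib.Lead.CharMain

set_option autoImplicit false

namespace Cfsg.Agent.Lib.Helper24

open Representation Module Cfsg
open scoped ComplexConjugate

universe u v

variable {G : Type u} [Group G] {V : Type v} [AddCommGroup V] [Module ℂ V]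

/-- The sum of all conjugates `ρ (a x a⁻¹)` commutes with the representation. -/
theorem sum_conj_comm [Fintype G] (ρ : Representation ℂ G V) (x h : G) :
    (∑ a : G, ρ (a * x * a⁻¹)) ∘ₗ ρ h = ρ h ∘ₗ (∑ a : G, ρ (a * x * a⁻¹)) := by
  rw [← Module.End.mul_eq_comp, ← Module.End.mul_eq_comp, Finset.sum_mul, Finset.mul_sum]
  rw [← Equiv.sum_comp (Equiv.mulLeft h) (fun a => ρ (a * x * a⁻¹) * ρ h)]
  apply Finset.sum_congr rfl
  intro a _
  rw [← map_mul, ← map_mul]
  congr 1
  simp only [Equiv.coe_mulLeft, mul_inv_rev]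
  group

/-- On an irreducible representation, the sum of all conjugates of `ρ x` is the scalar `|G| χ(x) / χ(1)`. -/
theorem sum_conj_eq_smul_one [Fintype G] [FiniteDimensional ℂ V] (ρ : Representation ℂ G V) [ρ.IsIrreducible]
    (x : G) :
    ∑ a : G, ρ (a * x * a⁻¹) =
      ((Fintype.card G : ℂ) * ρ.character x / (finrank ℂ V : ℂ)) • (1 : Module.End ℂ V) := by
  obtain ⟨c, hc⟩ := exists_eq_smul_one_of_comm ρ (∑ a : G, ρ (a * x * a⁻¹)) (sum_conj_comm ρ x)
  have hpos := finrank_pos_of_isIrreducible ρ
  have hne : (finrank ℂ V : ℂ) ≠ 0 := by exact_mod_cast hpos.ne'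
  have htr := congrArg (LinearMap.trace ℂ V) hc
  rw [map_sum, map_smul, LinearMap.trace_one, smul_eq_mul] at htr
  have h1 : ∀ a : G, LinearMap.trace ℂ V (ρ (a * x * a⁻¹)) = ρ.character x := by
    intro a
    exact Representation.char_conj ρ x a
  rw [Finset.sum_congr rfl (fun a _ => h1 a), Finset.sum_const, Finset.card_univ, nsmul_eq_mul] at htr
  rw [hc]
  congr 1
  field_simp
  rw [htr]

/-- Character form of the class multiplication: the sum over all pairs of conjugates. -/
theorem sum_sum_char_conj_mul [Fintype G] [FiniteDimensional ℂ V] (ρ : Representation ℂ G V) [ρ.IsIrreducible]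
    (x y : G) :
    ∑ a : G, ∑ b : G, ρ.character (a * x * a⁻¹ * (b * y * b⁻¹)) =
      (Fintype.card G : ℂ) ^ 2 * ρ.character x * ρ.character y / (finrank ℂ V : ℂ) := by
  have hpos := finrank_pos_of_isIrreducible ρ
  have hne : (finrank ℂ V : ℂ) ≠ 0 := by exact_mod_cast hpos.ne'
  have h1 : ∑ a : G, ∑ b : G, ρ.character (a * x * a⁻¹ * (b * y * b⁻¹)) =
      LinearMap.trace ℂ V ((∑ a : G, ρ (a * x * a⁻¹)) * (∑ b : G, ρ (b * y * b⁻¹))) := by
    rw [Finset.sum_mul_sum, map_sum]
    apply Finset.sum_congr rfl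
    intro a _
    rw [map_sum]
    apply Finset.sum_congr rfl
    intro b _
    rw [← map_mul]
    rfl
  rw [h1, sum_conj_eq_smul_one ρ x, sum_conj_eq_smul_one ρ y, smul_mul_smul_comm, mul_one, map_smul,
    LinearMap.trace_one, smul_eq_mul]
  field_simp

/-- Irreducible characters separate conjugacy classes. -/
theorem isConj_of_forall_irr_eq [Finite G] {z w : G}
    (h : ∀ χ : IrrCharacter G, (χ : G → ℂ) w = (χ : G → ℂ) z) : IsConj w z := by
  classical
  have := Fintype.ofFinite G
  have := Cfsg.Agent.CharLib.fintypeIrr G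
  have h1 := Cfsg.Agent.CharLib.sum_irr_mul_conj z z
  have h2 := Cfsg.Agent.CharLib.sum_irr_mul_conj w z
  have h3 : ∑ χ : IrrCharacter G, (χ : G → ℂ) w * conj ((χ : G → ℂ) z) =
      ∑ χ : IrrCharacter G, (χ : G → ℂ) z * conj ((χ : G → ℂ) z) :=
    Finset.sum_congr rfl (fun χ _ => by rw [h χ])
  rw [h1, h2] at h3
  have hC : (Nat.card (Subgroup.centralizer ({z} : Set G)) : ℂ) ≠ 0 := by
    have : 0 < Nat.card (Subgroup.centralizer ({z} : Set G)) := Nat.card_pos
    exact_mod_cast this.ne'
  have h4 := mul_right_cancel₀ hC h3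
  simp only [Cfsg.Agent.CharLib.classIndicator] at h4
  by_contra hcon
  rw [if_neg hcon, if_pos (IsConj.refl z)] at h4
  exact zero_ne_one h4

/-- A one-dimensional representation is given by its character. -/
theorem rep_eq_char_smul_one_of_finrank_eq_one [FiniteDimensional ℂ V] (ρ : Representation ℂ G V)
    (h1 : finrank ℂ V = 1) (g : G) : ρ g = ρ.character g • (1 : Module.End ℂ V) := by
  obtain ⟨v, hv⟩ := finrank_eq_one_iff'.mp h1
  obtain ⟨hv0, hv⟩ := hv
  obtain ⟨c, hc⟩ := hv (ρ g v)
  have h2 : ρ g = c • (1 : Module.End ℂ V) := by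
    apply LinearMap.ext
    intro w
    obtain ⟨d, rfl⟩ := hv w
    rw [map_smul, ← hc, LinearMap.smul_apply, Module.End.one_apply, smul_comm]
  have h3 : ρ.character g = c := by
    unfold Representation.character
    rw [h2, map_smul, LinearMap.trace_one, h1]
    simp
  rw [h3, h2]

/-- A character of degree one is multiplicative. -/
theorem char_mul_of_finrank_eq_one [FiniteDimensional ℂ V] (ρ : Representation ℂ G V)
    (h1 : finrank ℂ V = 1) (g h : G) : ρ.character (g * h) = ρ.character g * ρ.character h := by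
  have := Module.nontrivial_of_finrank_pos (R := ℂ) (M := V) (by omega)
  have e1 := rep_eq_char_smul_one_of_finrank_eq_one ρ h1 (g * h)
  rw [map_mul, rep_eq_char_smul_one_of_finrank_eq_one ρ h1 g, rep_eq_char_smul_one_of_finrank_eq_one ρ h1 h,
    smul_mul_smul_comm, mul_one] at e1
  have hinj : Function.Injective (fun c : ℂ => c • (1 : Module.End ℂ V)) := by
    intro c d hcd
    obtain ⟨v, hv⟩ := exists_ne (0 : V)
    have := LinearMap.congr_fun hcd v
    simp only [LinearMap.smul_apply, Module.End.one_apply] at this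
    exact smul_left_injective ℂ hv this
  exact (hinj e1).symm

end Cfsg.Agent.Lib.Helper24
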