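/-
Function-level facts about `IrrCharacter G` (degree, integrality, class multiplication, regular character,
averages over subgroups), packaged so that statements can avoid unpacking representations (helper24).
-/
import Mathlib
import Cfsg.Prelude.Def_Blocks
import Cfsg.Agent.Lib.Helper24.ClassMul

set_option autoImplicit false

namespace Cfsg.Agent.Lib.Helper24

open Representation Module Cfsg
open scoped ComplexConjugate

universe u v

variable {G : Type u} [Group G]

/-- the degree of an irreducible character, as in `charDegree`, equals `χ 1` -/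
theorem irr_apply_one (χ : IrrCharacter G) : (χ : G → ℂ) 1 = (charDegree (χ : G → ℂ) : ℂ) := by
  obtain ⟨χf, n, ρ, hirr, rfl⟩ := χ
  show ρ.character 1 = ((⌊(ρ.character 1).re⌋₊ : ℕ) : ℂ)
  rw [Representation.char_one, Module.finrank_fin_fun]
  simp

theorem irr_charDegree_pos (χ : IrrCharacter G) : 0 < charDegree (χ : G → ℂ) := by
  obtain ⟨k, hk, hk1⟩ := Cfsg.Agent.CharLib.IsIrrCharacter.apply_one_pos χ.2
  have h := irr_apply_one χ
  rw [hk1] at h
  have : k = charDegree (χ : G → ℂ) := by exact_mod_cast h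
  omega

theorem irr_apply_one_ne_zero (χ : IrrCharacter G) : (χ : G → ℂ) 1 ≠ 0 := by
  rw [irr_apply_one]
  exact_mod_cast (irr_charDegree_pos χ).ne'

theorem irr_charDegree_dvd_card [Finite G] (χ : IrrCharacter G) : charDegree (χ : G → ℂ) ∣ Nat.card G := by
  have h1 := irr_apply_one χ
  obtain ⟨χf, n, ρ, hirr, rfl⟩ := χ
  have hirr' : ρ.IsIrreducible := hirr
  have h := finrank_dvd_card ρ
  change ρ.character 1 = (charDegree ρ.character : ℂ) at h1
  rw [Representation.char_one] at h1
  have : finrank ℂ (Fin n → ℂ) = charDegree ρ.character := by exact_mod_cast h1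
  show charDegree ρ.character ∣ Nat.card G
  rw [← this]
  exact h

theorem irr_isIntegral [Finite G] (χ : IrrCharacter G) (g : G) : IsIntegral ℤ ((χ : G → ℂ) g) := by
  obtain ⟨χf, n, ρ, hirr, rfl⟩ := χ
  exact Cfsg.Agent.CharLib.isIntegral_char ρ g

theorem irr_conj (χ : IrrCharacter G) (g h : G) : (χ : G → ℂ) (h * g * h⁻¹) = (χ : G → ℂ) g :=
  Cfsg.Agent.CharLib.IsCharacter.isClassFunction (Cfsg.Agent.CharLib.IsIrrCharacter.isCharacter χ.2) g h

theorem irr_apply_inv [Finite G] (χ : IrrCharacter G) (g : G) : (χ : G → ℂ) g⁻¹ = conj ((χ : G → ℂ) g) :=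
  Cfsg.Agent.CharLib.IsCharacter.apply_inv (Cfsg.Agent.CharLib.IsIrrCharacter.isCharacter χ.2) g

/-- class multiplication, three factors, for a representation -/
theorem sum_sum_char_conj_mul_mul {V : Type v} [AddCommGroup V] [Module ℂ V] [Fintype G] [FiniteDimensional ℂ V]
    (ρ : Representation ℂ G V) [ρ.IsIrreducible] (x y w : G) :
    ∑ a : G, ∑ b : G, ρ.character (a * x * a⁻¹ * (b * y * b⁻¹) * w) =
      ((Fintype.card G : ℂ) * ρ.character x / (finrank ℂ V : ℂ)) *
        ((Fintype.card G : ℂ) * ρ.character y / (finrank ℂ V : ℂ)) * ρ.character w := by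
  have h1 : ∑ a : G, ∑ b : G, ρ.character (a * x * a⁻¹ * (b * y * b⁻¹) * w) =
      LinearMap.trace ℂ V ((∑ a : G, ρ (a * x * a⁻¹)) * (∑ b : G, ρ (b * y * b⁻¹)) * ρ w) := by
    rw [Finset.sum_mul_sum, Finset.sum_mul, map_sum]
    apply Finset.sum_congr rfl
    intro a _
    rw [Finset.sum_mul, map_sum]
    apply Finset.sum_congr rfl
    intro b _
    rw [← map_mul, ← map_mul]
    rfl
  rw [h1, sum_conj_eq_smul_one ρ x, sum_conj_eq_smul_one ρ y, smul_mul_smul_comm, mul_one, smul_mul_assoc,
    one_mul, map_smul, smul_eq_mul]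
  rfl

/-- class multiplication, three factors, function level and division free -/
theorem irr_class_mul3 [Fintype G] (χ : IrrCharacter G) (x y w : G) :
    ((χ : G → ℂ) 1) ^ 2 * ∑ a : G, ∑ b : G, (χ : G → ℂ) (a * x * a⁻¹ * (b * y * b⁻¹) * w) =
      (Fintype.card G : ℂ) ^ 2 * (χ : G → ℂ) x * (χ : G → ℂ) y * (χ : G → ℂ) w := by
  obtain ⟨χf, n, ρ, hirr, rfl⟩ := χ
  have hirr' : ρ.IsIrreducible := hirr
  show (ρ.character 1) ^ 2 * ∑ a : G, ∑ b : G, ρ.character (a * x * a⁻¹ * (b * y * b⁻¹) * w) =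
      (Fintype.card G : ℂ) ^ 2 * ρ.character x * ρ.character y * ρ.character w
  have hpos := finrank_pos_of_isIrreducible ρ
  have hne : (finrank ℂ (Fin n → ℂ) : ℂ) ≠ 0 := by exact_mod_cast hpos.ne'
  rw [sum_sum_char_conj_mul_mul ρ x y w, Representation.char_one]
  field_simp

/-- the regular character: `∑ χ, χ 1 * χ g` is `|G|` at the identity and `0` elsewhere -/
theorem sum_irr_degree_mul [Fintype G] [Fintype (IrrCharacter G)] [DecidableEq G] (g : G) :
    ∑ χ : IrrCharacter G, (χ : G → ℂ) 1 * (χ : G → ℂ) g = if g = 1 then (Fintype.card G : ℂ) else 0 := by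
  classical
  have h := Cfsg.Agent.CharLib.sum_irr_mul_conj g (1 : G)
  have h1 : ∀ χ : IrrCharacter G, (χ : G → ℂ) g * conj ((χ : G → ℂ) 1) = (χ : G → ℂ) 1 * (χ : G → ℂ) g := by
    intro χ
    rw [irr_apply_one χ, Complex.conj_natCast, mul_comm]
  rw [Finset.sum_congr rfl (fun χ _ => h1 χ)] at h
  rw [h]
  simp only [Cfsg.Agent.CharLib.classIndicator]
  have hc : Nat.card (Subgroup.centralizer ({(1 : G)} : Set G)) = Fintype.card G := by
    have : Subgroup.centralizer ({(1 : G)} : Set G) = ⊤ := by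
      ext y
      simp [Subgroup.mem_centralizer_iff]
    rw [this, Subgroup.card_top, Nat.card_eq_fintype_card]
  rw [hc]
  by_cases hg : g = 1
  · subst hg
    simp
  · have : ¬ IsConj g 1 := by
      intro hcj
      exact hg (isConj_one_left.mp hcj)
    rw [if_neg this, if_neg hg, zero_mul]

/-- the sum of an irreducible character (indeed of any character) over a subgroup is `|P|` times a natural number -/
theorem irr_sum_subgroup [Finite G] (χ : IrrCharacter G) (P : Subgroup G) [Fintype P] :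
    ∃ m : ℕ, ∑ z : P, (χ : G → ℂ) (z : G) = (Nat.card P : ℂ) * (m : ℂ) := by
  obtain ⟨χf, n, ρ, hirr, rfl⟩ := χ
  let σ : Representation ℂ P (Fin n → ℂ) := MonoidHom.comp ρ P.subtype
  have hinv : Invertible (Nat.card P : ℂ) := by
    apply invertibleOfNonzero
    have : 0 < Nat.card P := Nat.card_pos
    exact_mod_cast this.ne'
  have h := Representation.card_inv_mul_sum_char_eq_finrank σ
  refine ⟨finrank ℂ (Representation.invariants σ), ?_⟩
  rw [← h]
  have hne : (Nat.card P : ℂ) ≠ 0 := by
    have : 0 < Nat.card P := Nat.card_pos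
    exact_mod_cast this.ne'
  rw [← mul_assoc, mul_inv_cancel₀ hne, one_mul]
  rfl

end Cfsg.Agent.Lib.Helper24
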