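/-
Rational algebraic integers are integers: divisibility consequences (helper24).
-/
import Mathlib

set_option autoImplicit false

namespace Cfsg.Agent.Lib.Helper24

/-- If `a / b` (natural numbers, `b > 0`) is an algebraic integer then `b ∣ a`. -/
theorem nat_dvd_of_isIntegral_div {a b : ℕ} (hb : 0 < b) (h : IsIntegral ℤ ((a : ℂ) / (b : ℂ))) : b ∣ a := by
  have hq : ((a : ℂ) / (b : ℂ)) = (((a : ℚ) / (b : ℚ) : ℚ) : ℂ) := by
    push_cast; rfl
  rw [hq] at h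
  have h2 : IsIntegral ℤ ((a : ℚ) / (b : ℚ)) := by
    have := (isIntegral_algebraMap_iff (algebraMap ℚ ℂ).injective (R := ℤ)
      (x := ((a : ℚ) / (b : ℚ)))).mp
    exact this h
  obtain ⟨k, hk⟩ := IsIntegrallyClosed.isIntegral_iff.mp h2
  have h3 : (a : ℚ) = (k : ℚ) * (b : ℚ) := by
    have hne : (b : ℚ) ≠ 0 := by exact_mod_cast hb.ne'
    rw [eq_div_iff hne] at hk
    simpa using hk.symm
  have h4 : (a : ℤ) = k * (b : ℤ) := by exact_mod_cast h3
  have h5 : (b : ℤ) ∣ (a : ℤ) := ⟨k, by rw [h4]; ring⟩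
  exact_mod_cast h5

/-- If `a = b * β` with `β` an algebraic integer (and `b > 0`), then `b ∣ a`. -/
theorem nat_dvd_of_eq_mul_isIntegral {a b : ℕ} (hb : 0 < b) {β : ℂ} (hβ : IsIntegral ℤ β)
    (h : (a : ℂ) = (b : ℂ) * β) : b ∣ a := by
  apply nat_dvd_of_isIntegral_div hb
  have hne : (b : ℂ) ≠ 0 := by exact_mod_cast hb.ne'
  have : (a : ℂ) / (b : ℂ) = β := by
    rw [h]
    field_simp
  rw [this]
  exact hβ

/-- If `a / b` (integers, `b ≠ 0`) is an algebraic integer then `b ∣ a`. -/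
theorem int_dvd_of_eq_mul_isIntegral {a b : ℤ} (hb : b ≠ 0) {β : ℂ} (hβ : IsIntegral ℤ β)
    (h : (a : ℂ) = (b : ℂ) * β) : b ∣ a := by
  have hne : (b : ℂ) ≠ 0 := by exact_mod_cast hb
  have hq : β = (((a : ℚ) / (b : ℚ) : ℚ) : ℂ) := by
    push_cast
    rw [h]
    field_simp
  rw [hq] at hβ
  have h2 : IsIntegral ℤ ((a : ℚ) / (b : ℚ)) := by
    have := (isIntegral_algebraMap_iff (algebraMap ℚ ℂ).injective (R := ℤ)
      (x := ((a : ℚ) / (b : ℚ)))).mp
    exact this hβ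
  obtain ⟨k, hk⟩ := IsIntegrallyClosed.isIntegral_iff.mp h2
  have h3 : (a : ℚ) = (k : ℚ) * (b : ℚ) := by
    have hne' : (b : ℚ) ≠ 0 := by exact_mod_cast hb
    rw [eq_div_iff hne'] at hk
    simpa using hk.symm
  have h4 : a = k * b := by exact_mod_cast h3
  exact ⟨k, by rw [h4]; ring⟩

end Cfsg.Agent.Lib.Helper24
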