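/-
Basic facts about the local ring / local ideal predicates of `Def_Blocks` (helper24).
-/
import Mathlib
import Cfsg.Prelude.Def_Blocks

set_option autoImplicit false

namespace Cfsg.Agent.Lib.Helper24

open Cfsg

variable {M : Ideal AlgInt}

theorem coe_ne_zero_of_not_mem {b : AlgInt} (hb : b ∉ M) : (b : ℂ) ≠ 0 := by
  intro h
  apply hb
  have : b = 0 := Subtype.ext h
  rw [this]
  exact M.zero_mem

theorem one_not_mem_of_isPModular {p : ℕ} (hM : IsPModular p M) : (1 : AlgInt) ∉ M :=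
  (Ideal.ne_top_iff_one M).mp hM.2.1.ne_top

theorem isPrime_of_isPModular {p : ℕ} (hM : IsPModular p M) : M.IsPrime := hM.2.1.isPrime

/-- a natural number divisible by `p` lies in `M` -/
theorem natCast_mem_of_dvd {p : ℕ} (hM : IsPModular p M) {k : ℕ} (hk : p ∣ k) : (k : AlgInt) ∈ M := by
  obtain ⟨j, rfl⟩ := hk
  rw [Nat.cast_mul]
  exact M.mul_mem_right _ hM.2.2

/-- a natural number not divisible by `p` lies outside `M` -/
theorem natCast_not_mem_of_not_dvd {p : ℕ} (hM : IsPModular p M) {k : ℕ} (hk : ¬ p ∣ k) : (k : AlgInt) ∉ M := by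
  intro hmem
  have hcop : Nat.Coprime p k := (Nat.Prime.coprime_iff_not_dvd hM.1).mpr hk
  -- Bezout: 1 = u p + v k in ℤ
  have hb := Nat.gcd_eq_gcd_ab p k
  rw [hcop.gcd_eq_one] at hb
  have h1 : (1 : AlgInt) = (p : AlgInt) * ((Nat.gcdA p k : ℤ) : AlgInt) + (k : AlgInt) * ((Nat.gcdB p k : ℤ) : AlgInt) := by
    have := congrArg (fun t : ℤ => (t : AlgInt)) hb
    simpa using this
  apply one_not_mem_of_isPModular hM
  rw [h1]
  exact M.add_mem (M.mul_mem_right _ hM.2.2) (M.mul_mem_right _ hmem)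

theorem memLocalRing_of_algInt (z : AlgInt) (hM1 : (1 : AlgInt) ∉ M) : MemLocalRing M (z : ℂ) :=
  ⟨z, 1, hM1, by simp⟩

theorem memLocalIdeal_of_mem {z : AlgInt} (hz : z ∈ M) (hM1 : (1 : AlgInt) ∉ M) : MemLocalIdeal M (z : ℂ) :=
  ⟨z, 1, hz, hM1, by simp⟩

theorem memLocalIdeal_zero (hM1 : (1 : AlgInt) ∉ M) : MemLocalIdeal M 0 :=
  ⟨0, 1, M.zero_mem, hM1, by simp⟩

theorem memLocalRing_of_memLocalIdeal {z : ℂ} (h : MemLocalIdeal M z) : MemLocalRing M z := by
  obtain ⟨a, b, _, hb, h⟩ := h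
  exact ⟨a, b, hb, h⟩

theorem memLocalRing_add [hp : M.IsPrime] {z w : ℂ} (hz : MemLocalRing M z) (hw : MemLocalRing M w) :
    MemLocalRing M (z + w) := by
  obtain ⟨a, b, hb, rfl⟩ := hz
  obtain ⟨a', b', hb', rfl⟩ := hw
  refine ⟨a * b' + a' * b, b * b', fun h => ?_, ?_⟩
  · rcases hp.mem_or_mem h with h | h
    · exact hb h
    · exact hb' h
  · have h1 := coe_ne_zero_of_not_mem hb
    have h2 := coe_ne_zero_of_not_mem hb'
    push_cast
    field_simp

theorem memLocalRing_mul [hp : M.IsPrime] {z w : ℂ} (hz : MemLocalRing M z) (hw : MemLocalRing M w) :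
    MemLocalRing M (z * w) := by
  obtain ⟨a, b, hb, rfl⟩ := hz
  obtain ⟨a', b', hb', rfl⟩ := hw
  refine ⟨a * a', b * b', fun h => ?_, ?_⟩
  · rcases hp.mem_or_mem h with h | h
    · exact hb h
    · exact hb' h
  · push_cast
    rw [div_mul_div_comm]

theorem memLocalRing_neg {z : ℂ} (hz : MemLocalRing M z) : MemLocalRing M (-z) := by
  obtain ⟨a, b, hb, rfl⟩ := hz
  exact ⟨-a, b, hb, by push_cast; rw [neg_div]⟩

theorem memLocalRing_sub [hp : M.IsPrime] {z w : ℂ} (hz : MemLocalRing M z) (hw : MemLocalRing M w) :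
    MemLocalRing M (z - w) := by
  rw [sub_eq_add_neg]; exact memLocalRing_add hz (memLocalRing_neg hw)

theorem memLocalIdeal_add [hp : M.IsPrime] {z w : ℂ} (hz : MemLocalIdeal M z) (hw : MemLocalIdeal M w) :
    MemLocalIdeal M (z + w) := by
  obtain ⟨a, b, ha, hb, rfl⟩ := hz
  obtain ⟨a', b', ha', hb', rfl⟩ := hw
  refine ⟨a * b' + a' * b, b * b', ?_, fun h => ?_, ?_⟩
  · exact M.add_mem (M.mul_mem_right _ ha) (M.mul_mem_right _ ha')
  · rcases hp.mem_or_mem h with h | h
    · exact hb h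
    · exact hb' h
  · have h1 := coe_ne_zero_of_not_mem hb
    have h2 := coe_ne_zero_of_not_mem hb'
    push_cast
    field_simp

theorem memLocalIdeal_neg {z : ℂ} (hz : MemLocalIdeal M z) : MemLocalIdeal M (-z) := by
  obtain ⟨a, b, ha, hb, rfl⟩ := hz
  exact ⟨-a, b, M.neg_mem ha, hb, by push_cast; rw [neg_div]⟩

theorem memLocalIdeal_sub [hp : M.IsPrime] {z w : ℂ} (hz : MemLocalIdeal M z) (hw : MemLocalIdeal M w) :
    MemLocalIdeal M (z - w) := by
  rw [sub_eq_add_neg]; exact memLocalIdeal_add hz (memLocalIdeal_neg hw)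

theorem memLocalIdeal_mul_right [hp : M.IsPrime] {z w : ℂ} (hz : MemLocalIdeal M z) (hw : MemLocalRing M w) :
    MemLocalIdeal M (z * w) := by
  obtain ⟨a, b, ha, hb, rfl⟩ := hz
  obtain ⟨a', b', hb', rfl⟩ := hw
  refine ⟨a * a', b * b', M.mul_mem_right _ ha, fun h => ?_, ?_⟩
  · rcases hp.mem_or_mem h with h | h
    · exact hb h
    · exact hb' h
  · push_cast
    rw [div_mul_div_comm]

theorem memLocalIdeal_mul_left [hp : M.IsPrime] {z w : ℂ} (hz : MemLocalRing M z) (hw : MemLocalIdeal M w) :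
    MemLocalIdeal M (z * w) := by
  rw [mul_comm]; exact memLocalIdeal_mul_right hw hz

/-- For an algebraic integer, lying in the local ideal is the same as lying in `M`. -/
theorem memLocalIdeal_coe_iff [hp : M.IsPrime] (z : AlgInt) : MemLocalIdeal M (z : ℂ) ↔ z ∈ M := by
  constructor
  · rintro ⟨a, b, ha, hb, h⟩
    have hb0 := coe_ne_zero_of_not_mem hb
    have h1 : (a : ℂ) = (z : ℂ) * (b : ℂ) := by
      rw [← h]; field_simp
    have h2 : a = z * b := Subtype.ext (by push_cast; exact h1)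
    rw [h2] at ha
    rcases hp.mem_or_mem ha with h | h
    · exact h
    · exact absurd h hb
  · intro hz
    exact memLocalIdeal_of_mem hz hp.one_notMem

/-- `1` is not in the local ideal. -/
theorem not_memLocalIdeal_one [hp : M.IsPrime] : ¬ MemLocalIdeal M 1 := by
  have := (memLocalIdeal_coe_iff (M := M) 1).not.mpr hp.one_notMem
  simpa using this

theorem sum_memLocalRing [hp : M.IsPrime] {ι : Type*} (s : Finset ι) (f : ι → ℂ)
    (h : ∀ i ∈ s, MemLocalRing M (f i)) : MemLocalRing M (∑ i ∈ s, f i) := by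
  classical
  induction s using Finset.induction_on with
  | empty =>
    rw [Finset.sum_empty]
    exact ⟨0, 1, hp.one_notMem, by simp⟩
  | insert i s hi ih =>
    rw [Finset.sum_insert hi]
    exact memLocalRing_add (h i (Finset.mem_insert_self i s)) (ih fun j hj => h j (Finset.mem_insert_of_mem hj))

theorem sum_memLocalIdeal [hp : M.IsPrime] {ι : Type*} (s : Finset ι) (f : ι → ℂ)
    (h : ∀ i ∈ s, MemLocalIdeal M (f i)) : MemLocalIdeal M (∑ i ∈ s, f i) := by
  classical
  induction s using Finset.induction_on with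
  | empty =>
    rw [Finset.sum_empty]
    exact memLocalIdeal_zero hp.one_notMem
  | insert i s hi ih =>
    rw [Finset.sum_insert hi]
    exact memLocalIdeal_add (h i (Finset.mem_insert_self i s)) (ih fun j hj => h j (Finset.mem_insert_of_mem hj))

end Cfsg.Agent.Lib.Helper24
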