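/-
Kernel of a character vs kernel of the representation; irreducibility along surjections; deflation to
quotient groups (helper24).
-/
import Mathlib
import Cfsg.Agent.Lib.Helper24.CentralChar

set_option autoImplicit false

namespace Cfsg.Agent.Lib.Helper24

open Representation Module
open scoped ComplexConjugate

universe u v w

variable {G : Type u} [Group G] {V : Type v} [AddCommGroup V] [Module ℂ V]

/-- If `χ(g) = χ(1)` then `ρ g = 1`. -/
theorem rep_eq_one_of_char_eq_finrank [Finite G] [FiniteDimensional ℂ V] (ρ : Representation ℂ G V) (g : G)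
    (h : ρ.character g = (finrank ℂ V : ℂ)) : ρ g = 1 := by
  obtain ⟨ι, hι, b, μ, h1, h2, h3, h4⟩ := Cfsg.Agent.CharLib.exists_eigenbasis ρ g
  have htr : ρ.character g = ∑ i, μ i := Cfsg.Agent.CharLib.trace_eq_sum_of_eigenbasis b (ρ g) μ h2
  have hcard : finrank ℂ V = Fintype.card ι := Module.finrank_eq_card_basis b
  have hsum : ∑ i, μ i = (Fintype.card ι : ℂ) := by rw [← htr, h, hcard]
  have hnorm : ‖∑ i, μ i‖ = Fintype.card ι := by rw [hsum]; simp
  obtain ⟨ω, hω, hall⟩ := Cfsg.Agent.CharLib.all_eq_of_norm_sum_eq_card μ h4 hnorm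
  have hμ1 : ∀ i, μ i = 1 := by
    intro i
    have hpos : (0 : ℝ) < Fintype.card ι := by
      exact_mod_cast Fintype.card_pos_iff.mpr ⟨i⟩
    have h5 : (Fintype.card ι : ℂ) * ω = (Fintype.card ι : ℂ) := by
      have h8 : ∑ i, μ i = ∑ _i : ι, ω := Finset.sum_congr rfl (fun i _ => hall i)
      rw [Finset.sum_const, Finset.card_univ, nsmul_eq_mul] at h8
      rw [← h8, hsum]
    have h6 : (Fintype.card ι : ℂ) ≠ 0 := by exact_mod_cast hpos.ne'
    have h7 : ω = 1 := by
      have := mul_left_cancel₀ h6 (h5.trans (mul_one _).symm)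
      exact this
    rw [hall i, h7]
  apply b.ext
  intro i
  rw [h2 i, hμ1 i, one_smul, Module.End.one_apply]

/-- Pulling back along a surjective homomorphism preserves and reflects irreducibility. -/
theorem isIrreducible_comp_iff {H : Type w} [Group H] (f : G →* H) (hf : Function.Surjective f)
    (σ : Representation ℂ H V) :
    Representation.IsIrreducible (MonoidHom.comp σ f : Representation ℂ G V) ↔ σ.IsIrreducible := by
  let e : Subrepresentation (MonoidHom.comp σ f : Representation ℂ G V) ≃o Subrepresentation σ :=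
    { toFun := fun W => ⟨W.toSubmodule, fun h v hv => by
        obtain ⟨g, rfl⟩ := hf h
        exact W.apply_mem_toSubmodule g hv⟩
      invFun := fun W => ⟨W.toSubmodule, fun g v hv => W.apply_mem_toSubmodule (f g) hv⟩
      left_inv := fun W => rfl
      right_inv := fun W => rfl
      map_rel_iff' := Iff.rfl }
  exact e.isSimpleOrder_iff

/-- The deflation of a representation with `N` in its kernel to `G ⧸ N`. -/
noncomputable def deflate (N : Subgroup G) [N.Normal] (ρ : Representation ℂ G V)
    (hN : ∀ n ∈ N, ρ n = 1) : Representation ℂ (G ⧸ N) V :=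
  QuotientGroup.lift N ρ (fun n hn => hN n hn)

theorem deflate_mk (N : Subgroup G) [N.Normal] (ρ : Representation ℂ G V)
    (hN : ∀ n ∈ N, ρ n = 1) (g : G) : deflate N ρ hN (g : G ⧸ N) = ρ g := rfl

theorem deflate_character [FiniteDimensional ℂ V] (N : Subgroup G) [N.Normal] (ρ : Representation ℂ G V)
    (hN : ∀ n ∈ N, ρ n = 1) (g : G) : (deflate N ρ hN).character (g : G ⧸ N) = ρ.character g := rfl

theorem deflate_isIrreducible (N : Subgroup G) [N.Normal] (ρ : Representation ℂ G V)
    (hN : ∀ n ∈ N, ρ n = 1) [hρ : ρ.IsIrreducible] : (deflate N ρ hN).IsIrreducible := by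
  have h1 : (MonoidHom.comp (deflate N ρ hN) (QuotientGroup.mk' N) : Representation ℂ G V) = ρ := by
    ext g : 1
    rfl
  rw [← isIrreducible_comp_iff (QuotientGroup.mk' N) (QuotientGroup.mk'_surjective N), h1]
  exact hρ

/-- If `N ≤ ker χ` for an irreducible `χ`, then `χ(1)` divides `[G : N]`. -/
theorem finrank_dvd_index_of_le_ker [Finite G] [FiniteDimensional ℂ V] (N : Subgroup G) [N.Normal]
    (ρ : Representation ℂ G V) [ρ.IsIrreducible]
    (hN : ∀ n ∈ N, ρ.character n = (finrank ℂ V : ℂ)) : finrank ℂ V ∣ N.index := by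
  have hN' : ∀ n ∈ N, ρ n = 1 := fun n hn => rep_eq_one_of_char_eq_finrank ρ n (hN n hn)
  have := deflate_isIrreducible N ρ hN'
  have h := finrank_dvd_card (deflate N ρ hN')
  rwa [Subgroup.index_eq_card]

end Cfsg.Agent.Lib.Helper24
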