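/-
Central elements act as scalars in irreducible complex representations (helper24).
-/
import Mathlib
import Cfsg.Agent.Lib.Helper24.CentralChar

set_option autoImplicit false

namespace Cfsg.Agent.Lib.Helper24

open Representation Module
open scoped ComplexConjugate

universe u v

variable {G : Type u} [Group G] {V : Type v} [AddCommGroup V] [Module ℂ V]

/-- A central element acts as a scalar in an irreducible representation. -/
theorem exists_central_scalar [FiniteDimensional ℂ V] (ρ : Representation ℂ G V) [ρ.IsIrreducible]
    (z : G) (hz : z ∈ Subgroup.center G) : ∃ c : ℂ, ρ z = c • (1 : Module.End ℂ V) := by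
  apply exists_eq_smul_one_of_comm ρ
  intro g
  rw [← Module.End.mul_eq_comp, ← Module.End.mul_eq_comp, ← map_mul, ← map_mul]
  congr 1
  exact ((Subgroup.mem_center_iff.mp hz) g).symm

/-- If `ρ z` is the scalar `c`, then `χ (z * g) = c * χ g`. -/
theorem char_scalar_mul [FiniteDimensional ℂ V] (ρ : Representation ℂ G V)
    (z : G) (c : ℂ) (hc : ρ z = c • (1 : Module.End ℂ V)) (g : G) :
    ρ.character (z * g) = c * ρ.character g := by
  unfold Representation.character
  rw [map_mul, hc, smul_mul_assoc, one_mul, map_smul, smul_eq_mul]

theorem char_mul_scalar [FiniteDimensional ℂ V] (ρ : Representation ℂ G V)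
    (z : G) (c : ℂ) (hc : ρ z = c • (1 : Module.End ℂ V)) (g : G) :
    ρ.character (g * z) = c * ρ.character g := by
  rw [Representation.char_mul_comm, char_scalar_mul ρ z c hc g]

theorem char_scalar [FiniteDimensional ℂ V] (ρ : Representation ℂ G V)
    (z : G) (c : ℂ) (hc : ρ z = c • (1 : Module.End ℂ V)) :
    ρ.character z = c * (finrank ℂ V : ℂ) := by
  have := char_scalar_mul ρ z c hc 1
  rwa [mul_one, Representation.char_one] at this

end Cfsg.Agent.Lib.Helper24
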