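/-
Helper24 library: groups with a trivial-intersection Sylow `p`-subgroup and `O_p = O_{p'} = 1`:
two nontrivial subnormal subgroups never commute elementwise.
-/
import Mathlib
import Cfsg.Prelude.Def_Solvable
import Cfsg.Agent.Lib.Helper12.Cores
import Cfsg.Agent.Lib.Helper20.Subnormal

set_option autoImplicit false

namespace Cfsg.Agent.Lib.Helper24

open scoped Pointwise

universe u

variable {H : Type u} [Group H]

/-- membership in a conjugate subgroup -/
theorem mem_conj_smul_iff'' (g x : H) (K : Subgroup H) : x ∈ MulAut.conj g • K ↔ g⁻¹ * x * g ∈ K := by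
  rw [Subgroup.mem_pointwise_smul_iff_inv_smul_mem]
  simp [MulAut.smul_def]

/-- membership in a conjugate Sylow subgroup -/
theorem mem_smul_sylow_iff {p : ℕ} (P : Sylow p H) (k u : H) :
    u ∈ ((k • P : Sylow p H) : Subgroup H) ↔ k⁻¹ * u * k ∈ (P : Subgroup H) := by
  rw [Sylow.coe_subgroup_smul, Subgroup.mem_pointwise_smul_iff_inv_smul_mem]
  simp [MulAut.smul_def]

/-- subnormal `p'`-subgroups lie in `O_{p'}` -/
theorem subnormal_coprime_le_pPrimeCore [Finite H] (p : ℕ) (A : Subgroup H) (hA : A.IsSubnormal)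
    (hc : (Nat.card A).Coprime p) : A ≤ Cfsg.pPrimeCore p H := by
  have := Cfsg.Agent.Lib.Helper20.subnormal_le_radical (fun X _ => (Nat.card X).Coprime p)
    (fun X Y _ _ e h => by rw [← Nat.card_congr e.toEquiv]; exact h)
    (fun K _ _ => Cfsg.Agent.Lib.Helper12.pPrimeCore_coprime p) H A hA hc
  exact this

/-- A subgroup of a normal subgroup `M` that is normalized by `M` is subnormal. -/
theorem isSubnormal_of_le_of_normalized (I M : Subgroup H) (hM : M.Normal) (hIM : I ≤ M)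
    (hn : ∀ m ∈ M, ∀ i ∈ I, m * i * m⁻¹ ∈ I) : I.IsSubnormal := by
  refine Subgroup.IsSubnormal.step I M hIM hM.isSubnormal ?_
  rw [Subgroup.normal_subgroupOf_iff hIM]
  intro h k hh hk
  exact hn k hk h hh

/-- Two subgroups of `M` normalized by `M` and meeting trivially commute elementwise. -/
theorem commute_of_normalized_of_inf_eq_bot (A B M : Subgroup H) (hA : A ≤ M) (hB : B ≤ M)
    (hAn : ∀ m ∈ M, ∀ i ∈ A, m * i * m⁻¹ ∈ A) (hBn : ∀ m ∈ M, ∀ i ∈ B, m * i * m⁻¹ ∈ B)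
    (h : A ⊓ B = ⊥) : ∀ a ∈ A, ∀ b ∈ B, a * b = b * a := by
  intro a ha b hb
  have hc : a * b * a⁻¹ * b⁻¹ ∈ A ⊓ B := by
    refine Subgroup.mem_inf.mpr ⟨?_, ?_⟩
    · have h1 : b * a⁻¹ * b⁻¹ ∈ A := hAn b (hB hb) a⁻¹ (A.inv_mem ha)
      have h2 : a * b * a⁻¹ * b⁻¹ = a * (b * a⁻¹ * b⁻¹) := by group
      rw [h2]
      exact A.mul_mem ha h1
    · have h1 : a * b * a⁻¹ ∈ B := hBn a (hA ha) b hb
      exact B.mul_mem h1 (B.inv_mem hb)
  rw [h, Subgroup.mem_bot] at hc
  have : a * b = (a * b * a⁻¹ * b⁻¹) * (b * a) := by group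
  rw [this, hc, one_mul]

variable [Finite H] {p : ℕ} [Fact p.Prime]

/-- In a group with a TI Sylow `p`-subgroup, a nonidentity element lies in at most one Sylow `p`-subgroup. -/
theorem sylow_eq_of_mem_of_ti (P : Sylow p H)
    (hTI : ∀ g : H, g ∉ Subgroup.normalizer ((P : Subgroup H) : Set H) →
      (P : Subgroup H) ⊓ (MulAut.conj g • (P : Subgroup H)) = ⊥)
    (P₁ P₂ : Sylow p H) (x : H) (hx1 : x ≠ 1) (h1 : x ∈ (P₁ : Subgroup H)) (h2 : x ∈ (P₂ : Subgroup H)) :
    P₁ = P₂ := by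
  obtain ⟨a, rfl⟩ := MulAction.exists_smul_eq H P P₁
  obtain ⟨b, rfl⟩ := MulAction.exists_smul_eq H P P₂
  rw [mem_smul_sylow_iff] at h1 h2
  by_cases hg : a⁻¹ * b ∈ Subgroup.normalizer ((P : Subgroup H) : Set H)
  · have h3 := Sylow.smul_eq_iff_mem_normalizer.mpr hg
    rw [mul_smul, inv_smul_eq_iff] at h3
    exact h3.symm
  · exfalso
    have h3 := hTI _ hg
    have h4 : a⁻¹ * x * a ∈ (P : Subgroup H) ⊓ MulAut.conj (a⁻¹ * b) • (P : Subgroup H) := by
      refine Subgroup.mem_inf.mpr ⟨h1, ?_⟩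
      rw [mem_conj_smul_iff'']
      have : (a⁻¹ * b)⁻¹ * (a⁻¹ * x * a) * (a⁻¹ * b) = b⁻¹ * x * b := by group
      rw [this]; exact h2
    rw [h3, Subgroup.mem_bot] at h4
    apply hx1
    have : x = a * (a⁻¹ * x * a) * a⁻¹ := by group
    rw [this, h4]; group

/-- A `p`-element normalizing a Sylow `p`-subgroup lies in it. -/
theorem mem_sylow_of_mem_normalizer_of_orderOf (P' : Sylow p H) (x : H)
    (hx : x ∈ Subgroup.normalizer ((P' : Subgroup H) : Set H)) (k : ℕ) (hk : orderOf x = p ^ k) :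
    x ∈ (P' : Subgroup H) := by
  have hpg : IsPGroup p (Subgroup.zpowers x) :=
    IsPGroup.of_card (n := k) (by rw [Nat.card_zpowers, hk])
  have hle : Subgroup.zpowers x ≤ Subgroup.normalizer ((P' : Subgroup H) : Set H) := by
    rw [Subgroup.zpowers_le]; exact hx
  have hsup := IsPGroup.to_sup_of_normal_right' hpg P'.isPGroup' hle
  have := P'.is_maximal' hsup le_sup_right
  have h2 : Subgroup.zpowers x ≤ (P' : Subgroup H) := by
    rw [← this]; exact le_sup_left
  exact h2 (Subgroup.mem_zpowers x)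

/-- If `X` and `Y` commute elementwise and `p ∣ |Y|` then `X` normalizes some Sylow `p`-subgroup (TI case). -/
theorem le_normalizer_sylow_of_commute (P : Sylow p H)
    (hTI : ∀ g : H, g ∉ Subgroup.normalizer ((P : Subgroup H) : Set H) →
      (P : Subgroup H) ⊓ (MulAut.conj g • (P : Subgroup H)) = ⊥)
    (X Y : Subgroup H) (hXY : ∀ x ∈ X, ∀ y ∈ Y, x * y = y * x) (hpY : p ∣ Nat.card Y) :
    ∃ P' : Sylow p H, X ≤ Subgroup.normalizer ((P' : Subgroup H) : Set H) := by
  have hp : p.Prime := Fact.out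
  obtain ⟨y, hy⟩ := exists_prime_orderOf_dvd_card' (G := Y) p hpY
  have hy' : orderOf (y : H) = p := by rw [Subgroup.orderOf_coe]; exact hy
  have hy1 : (y : H) ≠ 1 := by
    intro h
    rw [h, orderOf_one] at hy'
    exact hp.one_lt.ne hy'
  have hpg : IsPGroup p (Subgroup.zpowers (y : H)) :=
    IsPGroup.of_card (n := 1) (by rw [Nat.card_zpowers, hy', pow_one])
  obtain ⟨P', hP'⟩ := hpg.exists_le_sylow
  refine ⟨P', ?_⟩
  intro x hx
  have hyP : (y : H) ∈ (P' : Subgroup H) := hP' (Subgroup.mem_zpowers _)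
  have hyx : (y : H) ∈ ((x • P' : Sylow p H) : Subgroup H) := by
    rw [mem_smul_sylow_iff]
    have : x⁻¹ * (y : H) * x = y := by
      rw [mul_assoc, ← hXY x hx y y.2, inv_mul_cancel_left]
    rw [this]; exact hyP
  have := sylow_eq_of_mem_of_ti P hTI (x • P') P' y hy1 hyx hyP
  exact Sylow.smul_eq_iff_mem_normalizer.mp this

/-- Key lemma: with `O_p = O_{p'} = 1` and a TI Sylow `p`-subgroup, two nontrivial subnormal subgroups
cannot commute elementwise. -/
theorem false_of_subnormal_commute (hOp : Cfsg.pCore p H = ⊥) (hOp' : Cfsg.pPrimeCore p H = ⊥)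
    (P : Sylow p H)
    (hTI : ∀ g : H, g ∉ Subgroup.normalizer ((P : Subgroup H) : Set H) →
      (P : Subgroup H) ⊓ (MulAut.conj g • (P : Subgroup H)) = ⊥)
    (X Y : Subgroup H) (hX : X.IsSubnormal) (hY : Y.IsSubnormal) (hX1 : X ≠ ⊥) (hY1 : Y ≠ ⊥)
    (hXY : ∀ x ∈ X, ∀ y ∈ Y, x * y = y * x) : False := by
  have hp : p.Prime := Fact.out
  have hdvd : ∀ A : Subgroup H, A.IsSubnormal → A ≠ ⊥ → p ∣ Nat.card A := by
    intro A hA hA1
    by_contra hnd
    have hc : (Nat.card A).Coprime p := ((Nat.Prime.coprime_iff_not_dvd hp).mpr hnd).symm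
    have := subnormal_coprime_le_pPrimeCore p A hA hc
    rw [hOp', le_bot_iff] at this
    exact hA1 this
  have hpY := hdvd Y hY hY1
  have hpX := hdvd X hX hX1
  obtain ⟨P', hP'⟩ := le_normalizer_sylow_of_commute P hTI X Y hXY hpY
  obtain ⟨x₀, hx₀⟩ := exists_prime_orderOf_dvd_card' (G := X) p hpX
  have hx₀' : orderOf (x₀ : H) = p := by rw [Subgroup.orderOf_coe]; exact hx₀
  have hx₀P : (x₀ : H) ∈ (P' : Subgroup H) :=
    mem_sylow_of_mem_normalizer_of_orderOf P' x₀ (hP' x₀.2) 1 (by rw [hx₀', pow_one])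
  set R : Subgroup H := X ⊓ (P' : Subgroup H) with hR
  have hRsub : R.IsSubnormal := by
    refine Subgroup.IsSubnormal.step R X inf_le_left hX ?_
    rw [Subgroup.normal_subgroupOf_iff inf_le_left]
    intro h k hh hk
    have hh' := Subgroup.mem_inf.mp hh
    refine Subgroup.mem_inf.mpr ⟨X.mul_mem (X.mul_mem hk hh'.1) (X.inv_mem hk), ?_⟩
    exact ((Subgroup.mem_normalizer_iff.mp (hP' hk)) h).mp hh'.2
  have hRp : IsPGroup p R := P'.isPGroup'.to_le inf_le_right
  have hRle := Cfsg.Agent.Lib.Helper20.subnormal_pgroup_le_pCore p R hRsub hRp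
  rw [hOp, le_bot_iff] at hRle
  have hx₀R : (x₀ : H) ∈ R := Subgroup.mem_inf.mpr ⟨x₀.2, hx₀P⟩
  rw [hRle, Subgroup.mem_bot] at hx₀R
  rw [hx₀R, orderOf_one] at hx₀'
  exact hp.one_lt.ne hx₀'

end Cfsg.Agent.Lib.Helper24
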