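/-
Helper24 library: `p`-solvable groups (`Cfsg.IsPSolvable`): quotients, existence of a nontrivial normal
`p`- or `p'`-subgroup, `O_p ≠ 1` when `O_{p'} = 1`, and a Hall–Higman type lemma: in a `p`-solvable group with
`O_{p'} = 1`, a Sylow `q`-subgroup (`q ≠ p`) normalized by a Sylow `p`-subgroup is trivial.
-/
import Mathlib
import Cfsg.Prelude.Def_Solvable
import Cfsg.Prelude.Def_Local
import Cfsg.Agent.Lib.Helper12.Cores
import Cfsg.Agent.Lib.Helper24.TISylow
import Cfsg.Agent.Lib.Helper4.Basic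

set_option autoImplicit false

namespace Cfsg.Agent.Lib.Helper24

universe u

variable {G : Type u} [Group G]

theorem pCore_normal' (p : ℕ) : (Cfsg.pCore p G).Normal :=
  Subgroup.sSup_normal _ (fun _ h => h.1)

theorem pPrimeCore_normal' (p : ℕ) : (Cfsg.pPrimeCore p G).Normal :=
  Subgroup.sSup_normal _ (fun _ h => h.1)

/-- Surjective images of `p`-solvable groups are `p`-solvable. -/
theorem isPSolvable_of_surjective {G' : Type*} [Group G'] (p : ℕ) [hp : Fact p.Prime] (f : G →* G')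
    (hf : Function.Surjective f) (h : Cfsg.IsPSolvable p G) : Cfsg.IsPSolvable p G' := by
  obtain ⟨n, H, h0, hlast, hmono, hnorm, hstep⟩ := h
  refine ⟨n, fun i => (H i).map f, ?_, ?_, ?_, ?_, ?_⟩
  · show (H 0).map f = ⊥
    rw [h0, Subgroup.map_bot]
  · show (H (Fin.last n)).map f = ⊤
    rw [hlast, Subgroup.map_top_of_surjective f hf]
  · intro i j hij
    exact Subgroup.map_mono (hmono hij)
  · intro i
    exact Subgroup.Normal.map (hnorm i) f hf
  · intro i
    have hle : H i.castSucc ≤ H i.succ := hmono (Fin.castSucc_lt_succ).le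
    have hdvd : ((H i.castSucc).map f).relIndex ((H i.succ).map f) ∣ (H i.castSucc).relIndex (H i.succ) := by
      rw [Subgroup.relIndex_map_map]
      haveI : (H i.castSucc ⊔ f.ker).Normal := by
        haveI := hnorm i.castSucc
        infer_instance
      have h1 : H i.succ ⊔ f.ker = (H i.castSucc ⊔ f.ker) ⊔ H i.succ := by
        rw [sup_comm (H i.castSucc ⊔ f.ker), ← sup_assoc, sup_eq_left.mpr hle]
      rw [h1, Subgroup.relIndex_sup_left]
      exact Subgroup.relIndex_dvd_of_le_left (H i.succ) le_sup_left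
    rcases hstep i with ⟨m, hm⟩ | hc
    · left
      rw [hm] at hdvd
      obtain ⟨k, _, hk⟩ := (Nat.dvd_prime_pow hp.out).mp hdvd
      exact ⟨k, hk⟩
    · right
      exact Nat.Coprime.coprime_dvd_left hdvd hc

/-- A nontrivial finite `p`-solvable group has a nontrivial normal subgroup that is a `p`-group or a `p'`-group. -/
theorem exists_normal_of_isPSolvable [Finite G] [Nontrivial G] (p : ℕ) [hp : Fact p.Prime]
    (h : Cfsg.IsPSolvable p G) :
    ∃ N : Subgroup G, N.Normal ∧ N ≠ ⊥ ∧ (IsPGroup p N ∨ (Nat.card N).Coprime p) := by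
  obtain ⟨n, H, h0, hlast, hmono, hnorm, hstep⟩ := h
  have key : ∀ i : Fin (n + 1), H i ≠ ⊥ → ∃ j : Fin n, H j.castSucc = ⊥ ∧ H j.succ ≠ ⊥ := by
    intro i
    induction i using Fin.induction with
    | zero => intro hne; exact absurd h0 hne
    | succ i ih =>
      intro hne
      by_cases hc : H i.castSucc = ⊥
      · exact ⟨i, hc, hne⟩
      · exact ih hc
  have htop : H (Fin.last n) ≠ ⊥ := by
    rw [hlast]
    exact top_ne_bot
  obtain ⟨j, hj0, hj1⟩ := key (Fin.last n) htop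
  refine ⟨H j.succ, hnorm _, hj1, ?_⟩
  have hcard : (H j.castSucc).relIndex (H j.succ) = Nat.card (H j.succ) := by
    rw [hj0, Subgroup.relIndex_bot_left]
  rcases hstep j with ⟨m, hm⟩ | hc
  · left
    rw [hcard] at hm
    exact IsPGroup.of_card hm
  · right
    rw [hcard] at hc
    exact hc

/-- `O_{p'}(G / O_{p'}(G)) = 1`. -/
theorem pPrimeCore_quotient_eq_bot' [Finite G] (p : ℕ) :
    haveI := pPrimeCore_normal' (G := G) p
    Cfsg.pPrimeCore p (G ⧸ Cfsg.pPrimeCore p G) = ⊥ := by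
  haveI := pPrimeCore_normal' (G := G) p
  set O := Cfsg.pPrimeCore p G with hO
  set Nb := Cfsg.pPrimeCore p (G ⧸ O) with hNb
  haveI : Nb.Normal := pPrimeCore_normal' p
  have hN : Nb.comap (QuotientGroup.mk' O) ≤ O := by
    apply Cfsg.Agent.Lib.Helper12.le_pPrimeCore
    · infer_instance
    · rw [Cfsg.Agent.Lib.Helper12.card_comap_mk']
      exact Nat.Coprime.mul_left (Cfsg.Agent.Lib.Helper12.pPrimeCore_coprime p)
        (Cfsg.Agent.Lib.Helper12.pPrimeCore_coprime p)
  rw [eq_bot_iff]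
  intro x hx
  obtain ⟨y, rfl⟩ := QuotientGroup.mk'_surjective O x
  have hy : y ∈ Nb.comap (QuotientGroup.mk' O) := hx
  have := hN hy
  rw [Subgroup.mem_bot]
  exact (QuotientGroup.eq_one_iff y).mpr this

/-- In a nontrivial finite `p`-solvable group with `O_{p'} = 1` we have `O_p ≠ 1`. -/
theorem pCore_ne_bot_of_isPSolvable [Finite G] [Nontrivial G] (p : ℕ) [hp : Fact p.Prime]
    (h : Cfsg.IsPSolvable p G) (hO : Cfsg.pPrimeCore p G = ⊥) : Cfsg.pCore p G ≠ ⊥ := by
  obtain ⟨N, hN, hN1, hN2⟩ := exists_normal_of_isPSolvable p h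
  rcases hN2 with hpg | hc
  · intro hbot
    have := Cfsg.Agent.Lib.Helper12.le_pCore' p N hN hpg
    rw [hbot, le_bot_iff] at this
    exact hN1 this
  · exfalso
    have := Cfsg.Agent.Lib.Helper12.le_pPrimeCore p N hN hc
    rw [hO, le_bot_iff] at this
    exact hN1 this

/-- A normal `p`-subgroup lies in every Sylow `p`-subgroup. -/
theorem normal_pgroup_le_sylow {p : ℕ} [Fact p.Prime] (N : Subgroup G) [N.Normal] (hN : IsPGroup p N)
    (P : Sylow p G) : N ≤ (P : Subgroup G) := by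
  have hsup : IsPGroup p (N ⊔ (P : Subgroup G) : Subgroup G) := IsPGroup.to_sup_of_normal_left hN P.isPGroup'
  have := P.is_maximal' hsup le_sup_right
  rw [← this]
  exact le_sup_left

/-- A normal subgroup `R` and a subgroup `Q` normalized by `R` with `R ⊓ Q = ⊥` commute elementwise. -/
theorem commute_of_normal_of_normalizes (R Q : Subgroup G) [R.Normal]
    (hRQ : R ≤ Subgroup.normalizer (Q : Set G)) (hdisj : Disjoint R Q) :
    ∀ r ∈ R, ∀ y ∈ Q, r * y = y * r := by
  intro r hr y hy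
  have hc : r * y * r⁻¹ * y⁻¹ ∈ R ⊓ Q := by
    refine Subgroup.mem_inf.mpr ⟨?_, ?_⟩
    · have h1 : y * r⁻¹ * y⁻¹ ∈ R := Subgroup.Normal.conj_mem inferInstance r⁻¹ (R.inv_mem hr) y
      have h2 : r * y * r⁻¹ * y⁻¹ = r * (y * r⁻¹ * y⁻¹) := by group
      rw [h2]
      exact R.mul_mem hr h1
    · have h1 : r * y * r⁻¹ ∈ Q := ((Subgroup.mem_normalizer_iff.mp (hRQ hr)) y).mp hy
      exact Q.mul_mem h1 (Q.inv_mem hy)
  rw [disjoint_iff.mp hdisj, Subgroup.mem_bot] at hc
  have : r * y = (r * y * r⁻¹ * y⁻¹) * (y * r) := by group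
  rw [this, hc, one_mul]

/-- Hall–Higman type lemma: in a finite `p`-solvable group with `O_{p'} = 1`, a Sylow `q`-subgroup (`q ≠ p`)
normalized by a Sylow `p`-subgroup is trivial. -/
theorem sylow_eq_bot_of_le_normalizer (p q : ℕ) [hp : Fact p.Prime] [hq : Fact q.Prime] (hpq : p ≠ q) :
    ∀ (n : ℕ) (G : Type u) [Group G] [Finite G], Nat.card G = n → Cfsg.IsPSolvable p G →
      Cfsg.pPrimeCore p G = ⊥ → ∀ (P : Sylow p G) (Q : Sylow q G),
      (P : Subgroup G) ≤ Subgroup.normalizer ((Q : Subgroup G) : Set G) → (Q : Subgroup G) = ⊥ := by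
  intro n
  induction n using Nat.strong_induction_on with
  | _ n ih =>
  intro G _ _ hn hsolv hO P Q hPQ
  rcases subsingleton_or_nontrivial G with hs | hnt
  · exact Subgroup.eq_bot_of_subsingleton _
  set R := Cfsg.pCore p G with hRdef
  have hR1 : R ≠ ⊥ := pCore_ne_bot_of_isPSolvable p hsolv hO
  haveI hRn : R.Normal := pCore_normal' p
  have hRp : IsPGroup p R := Cfsg.Agent.Lib.Helper12.pCore_isPGroup' p
  set K₁ := Cfsg.pPrimeCore p (G ⧸ R) with hK₁def
  haveI hK₁n : K₁.Normal := pPrimeCore_normal' p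
  let π₁ : G →* G ⧸ R := QuotientGroup.mk' R
  let π₂ : (G ⧸ R) →* (G ⧸ R) ⧸ K₁ := QuotientGroup.mk' K₁
  let f : G →* (G ⧸ R) ⧸ K₁ := π₂.comp π₁
  have hf : Function.Surjective f :=
    (QuotientGroup.mk'_surjective K₁).comp (QuotientGroup.mk'_surjective R)
  -- cardinalities
  have hcard1 : Nat.card (G ⧸ R) < n := by
    have h1 := Subgroup.card_eq_card_quotient_mul_card_subgroup R
    have h2 : 1 < Nat.card R := by
      rw [Subgroup.one_lt_card_iff_ne_bot]; exact hR1
    have h3 : 0 < Nat.card (G ⧸ R) := Nat.card_pos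
    rw [← hn, h1]
    nlinarith
  have hcard2 : Nat.card ((G ⧸ R) ⧸ K₁) < n :=
    lt_of_le_of_lt (Nat.card_le_card_of_surjective π₂ (QuotientGroup.mk'_surjective K₁)) hcard1
  -- induction hypothesis in the double quotient
  have hsolv2 : Cfsg.IsPSolvable p ((G ⧸ R) ⧸ K₁) := isPSolvable_of_surjective p f hf hsolv
  have hO2 : Cfsg.pPrimeCore p ((G ⧸ R) ⧸ K₁) = ⊥ := pPrimeCore_quotient_eq_bot' (G := G ⧸ R) p
  have hPQ2 : ((P.mapSurjective hf : Sylow p ((G ⧸ R) ⧸ K₁)) : Subgroup ((G ⧸ R) ⧸ K₁)) ≤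
      Subgroup.normalizer (((Q.mapSurjective hf : Sylow q ((G ⧸ R) ⧸ K₁)) : Subgroup ((G ⧸ R) ⧸ K₁)) : Set _) := by
    rw [Sylow.coe_mapSurjective, Sylow.coe_mapSurjective]
    exact (Subgroup.map_mono hPQ).trans (Subgroup.le_normalizer_map f)
  have hQ2 := ih _ hcard2 ((G ⧸ R) ⧸ K₁) rfl hsolv2 hO2 (P.mapSurjective hf) (Q.mapSurjective hf) hPQ2
  rw [Sylow.coe_mapSurjective, Subgroup.map_eq_bot_iff] at hQ2
  -- the kernel L
  set L := f.ker with hLdef
  have hLeq : L = K₁.comap π₁ := by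
    rw [hLdef, ← MonoidHom.comap_ker, QuotientGroup.ker_mk']
  have hLcard : Nat.card L = Nat.card R * Nat.card K₁ := by
    rw [hLeq]; exact Cfsg.Agent.Lib.Helper12.card_comap_mk' R K₁
  have hRL : R ≤ L := by
    intro x hx
    rw [hLdef, MonoidHom.mem_ker]
    show π₂ (π₁ x) = 1
    have : π₁ x = 1 := (QuotientGroup.eq_one_iff x).mpr hx
    rw [this, map_one]
  have hK₁cop : (Nat.card K₁).Coprime p := Cfsg.Agent.Lib.Helper12.pPrimeCore_coprime p
  have hRLidx : R.relIndex L = Nat.card K₁ := by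
    have h1 := Cfsg.Agent.Lib.Helper4.card_mul_relIndex hRL
    rw [hLcard] at h1
    exact Nat.eq_of_mul_eq_mul_left Nat.card_pos h1
  -- R and Q commute
  have hRP : R ≤ (P : Subgroup G) := normal_pgroup_le_sylow R hRp P
  have hdisj : Disjoint R (Q : Subgroup G) := IsPGroup.disjoint_of_ne p q hpq R Q hRp Q.isPGroup'
  have hcomm := commute_of_normal_of_normalizes R (Q : Subgroup G) (hRP.trans hPQ) hdisj
  -- D₀
  set D₀ : Subgroup G := L ⊓ Subgroup.centralizer (R : Set G) with hD₀def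
  haveI hLn : L.Normal := MonoidHom.normal_ker f
  haveI hD₀n : D₀.Normal := Subgroup.normal_inf_normal _ _
  have hQD₀ : (Q : Subgroup G) ≤ D₀ := by
    intro y hy
    refine Subgroup.mem_inf.mpr ⟨hQ2 hy, ?_⟩
    rw [Subgroup.mem_centralizer_iff]
    intro r hr
    exact hcomm r hr y hy
  -- central Sylow p-subgroup of D₀
  have hZp : IsPGroup p (R.subgroupOf D₀) := hRp.comap_subtype
  have hZidx : ¬ p ∣ (R.subgroupOf D₀).index := by
    intro hdvd
    have h1 : R.relIndex D₀ = R.relIndex (R ⊔ D₀) := (Subgroup.relIndex_sup_left D₀ R).symm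
    have h2 : R ⊔ D₀ ≤ L := sup_le hRL inf_le_left
    have h3 := Subgroup.relIndex_mul_relIndex R (R ⊔ D₀) L le_sup_left h2
    have h4 : R.relIndex D₀ ∣ Nat.card K₁ := by
      rw [← hRLidx, ← h3, ← h1]
      exact dvd_mul_right _ _
    have h5 : p ∣ Nat.card K₁ := dvd_trans hdvd h4
    have h6 := Nat.Coprime.eq_one_of_dvd hK₁cop.symm h5
    exact hp.out.one_lt.ne' h6
  let Zs : Sylow p D₀ := hZp.toSylow hZidx
  have hZs : (Zs : Subgroup D₀) = R.subgroupOf D₀ := rfl
  have hNC : Subgroup.normalizer ((Zs : Subgroup D₀) : Set D₀) ≤ Subgroup.centralizer ((Zs : Subgroup D₀) : Set D₀) := by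
    intro x _
    rw [Subgroup.mem_centralizer_iff]
    intro z hz
    have hzR : (z : G) ∈ R := by
      have hz' : z ∈ R.subgroupOf D₀ := hz
      exact Subgroup.mem_subgroupOf.mp hz'
    have hx : (x : G) ∈ Subgroup.centralizer (R : Set G) := (Subgroup.mem_inf.mp x.2).2
    apply Subtype.ext
    exact (Subgroup.mem_centralizer_iff.mp hx) z hzR
  set D : Subgroup D₀ := (MonoidHom.transferSylow Zs hNC).ker with hDdef
  have hDcard : ¬ p ∣ Nat.card D := MonoidHom.not_dvd_card_ker_transferSylow Zs hNC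
  have hDcompl : Subgroup.IsComplement' D (Zs : Subgroup D₀) :=
    MonoidHom.ker_transferSylow_isComplement' Zs hNC
  -- D maps to a subnormal p'-subgroup of G
  have hD'sub : (D.map D₀.subtype).IsSubnormal := by
    refine Subgroup.IsSubnormal.step _ D₀ (Subgroup.map_subtype_le D) hD₀n.isSubnormal ?_
    have : (D.map D₀.subtype).subgroupOf D₀ = D :=
      Subgroup.comap_map_eq_self_of_injective D₀.subtype_injective D
    rw [this]
    exact MonoidHom.normal_ker _
  have hD'cop : (Nat.card (D.map D₀.subtype)).Coprime p := by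
    rw [Subgroup.card_map_of_injective D₀.subtype_injective]
    exact ((Nat.Prime.coprime_iff_not_dvd hp.out).mpr hDcard).symm
  have hD'bot := subnormal_coprime_le_pPrimeCore p _ hD'sub hD'cop
  rw [hO, le_bot_iff] at hD'bot
  have hDbot : D = ⊥ := (Subgroup.map_eq_bot_iff_of_injective D D₀.subtype_injective).mp hD'bot
  have hcardeq : Nat.card (Zs : Subgroup D₀) = Nat.card D₀ := by
    have := hDcompl.card_mul
    rw [hDbot, Subgroup.card_bot, one_mul] at this
    exact this
  have hZtop : R.subgroupOf D₀ = ⊤ := by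
    rw [← hZs]
    exact Subgroup.eq_top_of_card_eq _ hcardeq
  have hD₀R : D₀ ≤ R := Subgroup.subgroupOf_eq_top.mp hZtop
  have hQR : (Q : Subgroup G) ≤ R ⊓ (Q : Subgroup G) := le_inf (hQD₀.trans hD₀R) le_rfl
  rw [disjoint_iff.mp hdisj, le_bot_iff] at hQR
  exact hQR

end Cfsg.Agent.Lib.Helper24
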