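/-
Perfect groups: no central Sylow subgroups, quotients are perfect, homs to commutative groups are trivial;
sum of squares of degrees (helper24).
-/
import Mathlib
import Cfsg.Agent.Lib.Helper24.IrrFacts
import Cfsg.Agent.Lib.Lead.CharBurnside

set_option autoImplicit false

namespace Cfsg.Agent.Lib.Helper24

open Cfsg

universe u

variable {G : Type u} [Group G]

/-- a homomorphism from a perfect group whose image elements commute is trivial -/
theorem hom_eq_one_of_perfect {A : Type*} [Group A] (hperf : commutator G = ⊤) (f : G →* A)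
    (hcomm : ∀ a b : G, f a * f b = f b * f a) (g : G) : f g = 1 := by
  have hle : commutator G ≤ f.ker := by
    rw [commutator_def, Subgroup.commutator_le]
    intro a _ b _
    rw [MonoidHom.mem_ker, commutatorElement_def, map_mul, map_mul, map_mul, map_inv, map_inv, hcomm a b]
    group
  have : g ∈ f.ker := hle (hperf ▸ Subgroup.mem_top g)
  exact this

/-- quotients of perfect groups are perfect -/
theorem commutator_eq_top_of_surjective {H : Type*} [Group H] (hperf : commutator G = ⊤) (f : G →* H)
    (hf : Function.Surjective f) : commutator H = ⊤ := by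
  rw [commutator_def] at hperf ⊢
  have h := Subgroup.map_commutator (⊤ : Subgroup G) ⊤ f
  rw [hperf, Subgroup.map_top_of_surjective f hf] at h
  exact h.symm

/-- a finite perfect group has no nontrivial central Sylow subgroup -/
theorem not_perfect_of_central_sylow [Finite G] (p : ℕ) [Fact p.Prime] (P : Sylow p G)
    (hP : (P : Subgroup G) ≤ Subgroup.center G) (hdvd : p ∣ Nat.card G) : commutator G ≠ ⊤ := by
  intro hperf
  have hNC : Subgroup.normalizer ((P : Subgroup G) : Set G) ≤ Subgroup.centralizer ((P : Subgroup G) : Set G) := by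
    intro x _
    rw [Subgroup.mem_centralizer_iff]
    intro z hz
    exact ((Subgroup.mem_center_iff.mp (hP hz)) x).symm
  have hcomm : ∀ a b : G, MonoidHom.transferSylow P hNC a * MonoidHom.transferSylow P hNC b =
      MonoidHom.transferSylow P hNC b * MonoidHom.transferSylow P hNC a := by
    intro a b
    apply Subtype.ext
    have h1 := (Subgroup.mem_center_iff.mp (hP (MonoidHom.transferSylow P hNC a).2))
      (MonoidHom.transferSylow P hNC b : G)
    exact h1.symm
  have hker : (MonoidHom.transferSylow P hNC).ker = ⊤ := by
    ext g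
    simp only [MonoidHom.mem_ker, Subgroup.mem_top, iff_true]
    exact hom_eq_one_of_perfect hperf _ hcomm g
  have h := MonoidHom.not_dvd_card_ker_transferSylow P hNC
  rw [hker, Subgroup.card_top] at h
  exact h hdvd

/-- the sum of the squares of the irreducible degrees is the group order -/
theorem sum_charDegree_sq [Fintype G] [Fintype (IrrCharacter G)] :
    ∑ χ : IrrCharacter G, charDegree (χ : G → ℂ) ^ 2 = Fintype.card G := by
  classical
  have h := sum_irr_degree_mul (G := G) 1
  rw [if_pos rfl] at h
  have h2 : ∑ χ : IrrCharacter G, (χ : G → ℂ) 1 * (χ : G → ℂ) 1 =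
      ((∑ χ : IrrCharacter G, charDegree (χ : G → ℂ) ^ 2 : ℕ) : ℂ) := by
    push_cast
    apply Finset.sum_congr rfl
    intro χ _
    rw [irr_apply_one χ]
    ring
  rw [h2] at h
  exact_mod_cast h

/-- the trivial irreducible character -/
noncomputable def trivIrr (G : Type u) [Group G] : IrrCharacter G :=
  ⟨(1 : G → ℂ), Cfsg.Agent.CharLib.isIrrCharacter_one⟩

theorem charDegree_trivIrr : charDegree ((trivIrr G : IrrCharacter G) : G → ℂ) = 1 := by
  have h := irr_apply_one (trivIrr G)
  have h1 : ((trivIrr G : IrrCharacter G) : G → ℂ) 1 = 1 := rfl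
  rw [h1] at h
  exact_mod_cast h.symm

/-- a normal subgroup of prime order in a perfect group is central -/
theorem le_center_of_normal_of_prime_card_of_perfect (hperf : commutator G = ⊤) (p : ℕ) [Fact p.Prime]
    (N : Subgroup G) [N.Normal] (hN : Nat.card N = p) : N ≤ Subgroup.center G := by
  have hcyc : IsCyclic N := isCyclic_of_prime_card hN
  let f : G →* (ZMod (Nat.card N))ˣ := (IsCyclic.mulAutMulEquiv N).toMonoidHom.comp MulAut.conjNormal
  have hf : ∀ g : G, f g = 1 := hom_eq_one_of_perfect hperf f (fun a b => mul_comm _ _)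
  intro z hz
  rw [Subgroup.mem_center_iff]
  intro g
  have h1 : (IsCyclic.mulAutMulEquiv N) (MulAut.conjNormal g) = 1 := hf g
  have h2 : (MulAut.conjNormal g : MulAut N) = 1 := by
    have := (IsCyclic.mulAutMulEquiv N).injective (h1.trans (map_one _).symm)
    exact this
  have h3 : (MulAut.conjNormal g : MulAut N) ⟨z, hz⟩ = ⟨z, hz⟩ := by rw [h2]; rfl
  have h4 : g * z * g⁻¹ = z := by
    have := congrArg Subtype.val h3
    rwa [MulAut.conjNormal_apply] at this
  calc g * z = (g * z * g⁻¹) * g := by group
    _ = z * g := by rw [h4]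

/-- A finite perfect group has no irreducible character `χ` with `|G| = p * χ(1)`, `p` prime. -/
theorem perfect_no_prime_mul_degree [Finite G] (hperf : commutator G = ⊤) (χ : IrrCharacter G) (p : ℕ)
    (hp : p.Prime) (hcard : Nat.card G = p * charDegree (χ : G → ℂ)) : False := by
  classical
  haveI : Fact p.Prime := ⟨hp⟩
  have := Fintype.ofFinite G
  have := Cfsg.Agent.CharLib.fintypeIrr G
  set d := charDegree (χ : G → ℂ) with hd
  have hdpos : 0 < d := irr_charDegree_pos χ
  -- d < p
  have hdp : d < p := by
    by_cases hχ : χ = trivIrr G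
    · -- then |G| = p, G cyclic, so abelian and perfect: impossible
      exfalso
      have hd1 : d = 1 := by rw [hd, hχ]; exact charDegree_trivIrr
      rw [hd1, mul_one] at hcard
      have hcyc : IsCyclic G := isCyclic_of_prime_card hcard
      have hone : ∀ g : G, g = 1 := by
        intro g
        exact hom_eq_one_of_perfect hperf (MonoidHom.id G)
          (fun a b => by
            obtain ⟨x, hx⟩ := hcyc.exists_generator
            obtain ⟨i, rfl⟩ := Subgroup.mem_zpowers_iff.mp (hx a)
            obtain ⟨j, rfl⟩ := Subgroup.mem_zpowers_iff.mp (hx b)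
            simp only [MonoidHom.id_apply]
            rw [← zpow_add, ← zpow_add, add_comm]) g
      have : Nat.card G = 1 := by
        rw [Nat.card_eq_one_iff_unique]
        exact ⟨⟨fun a b => (hone a).trans (hone b).symm⟩, ⟨1⟩⟩
      rw [this] at hcard
      exact hp.one_lt.ne hcard
    · have hsum := sum_charDegree_sq (G := G)
      have hsub : ({χ, trivIrr G} : Finset (IrrCharacter G)) ⊆ Finset.univ := Finset.subset_univ _
      have hle := Finset.sum_le_sum_of_subset (f := fun ψ : IrrCharacter G => charDegree (ψ : G → ℂ) ^ 2) hsub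
      rw [Finset.sum_pair hχ, hsum, charDegree_trivIrr, ← Nat.card_eq_fintype_card, hcard] at hle
      nlinarith
  have hpd : ¬ p ∣ d := fun h => absurd (Nat.le_of_dvd hdpos h) (by omega)
  obtain ⟨P⟩ : Nonempty (Sylow p G) := inferInstance
  have hPcard : Nat.card (P : Subgroup G) = p := by
    rw [Sylow.card_eq_multiplicity P, hcard, Nat.factorization_mul hp.ne_zero hdpos.ne']
    simp [hp.factorization_self, Nat.factorization_eq_zero_of_not_dvd hpd]
  have hindex : (P : Subgroup G).index = d := by
    have := (P : Subgroup G).card_mul_index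
    rw [hPcard, hcard] at this
    exact Nat.eq_of_mul_eq_mul_left hp.pos this
  have hnp1 : Nat.card (Sylow p G) = 1 := by
    have h1 : Nat.card (Sylow p G) ∣ d := hindex ▸ Sylow.card_dvd_index P
    have h2 : Nat.card (Sylow p G) ≡ 1 [MOD p] := card_sylow_modEq_one p G
    have h3 : Nat.card (Sylow p G) ≤ d := Nat.le_of_dvd hdpos h1
    have h4 : 0 < Nat.card (Sylow p G) := Nat.card_pos
    unfold Nat.ModEq at h2
    rw [Nat.mod_eq_of_lt (by omega), Nat.mod_eq_of_lt hp.one_lt] at h2
    exact h2
  have hsub : Subsingleton (Sylow p G) := (Nat.card_eq_one_iff_unique.mp hnp1).1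
  have hnormal : (P : Subgroup G).Normal := Sylow.normal_of_subsingleton P
  have hcentral : (P : Subgroup G) ≤ Subgroup.center G :=
    le_center_of_normal_of_prime_card_of_perfect hperf p (P : Subgroup G) hPcard
  exact not_perfect_of_central_sylow p P hcentral (hcard ▸ dvd_mul_right p d) hperf

end Cfsg.Agent.Lib.Helper24
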