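/-
Involutions normalizing p-subgroups when centralizers of p-elements have odd order (helper24).
-/
import Mathlib

set_option autoImplicit false

namespace Cfsg.Agent.Lib.Helper24

open Function in
/-- an involution of a finite set of odd cardinality has a fixed point -/
theorem exists_fixed_of_involutive_of_odd {α : Type*} [Finite α] (f : α → α) (hf : Function.Involutive f)
    (hodd : Odd (Nat.card α)) : ∃ a, f a = a := by
  classical
  have := Fintype.ofFinite α
  let F : Function.End α := f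
  have h2 : F ^ 2 ^ 1 = 1 := by
    rw [pow_one, pow_two]
    funext a
    exact hf a
  have hmod := Equiv.Perm.card_fixedPoints_modEq (p := 2) (n := 1) (f := F) h2
  rw [Nat.card_eq_fintype_card] at hodd
  have hne : Fintype.card (fixedPoints F) ≠ 0 := by
    intro h0
    rw [h0] at hmod
    have : Fintype.card α % 2 = 0 := hmod
    rcases hodd with ⟨k, hk⟩
    omega
  obtain ⟨⟨a, ha⟩⟩ := Fintype.card_pos_iff.mp (Nat.pos_of_ne_zero hne)
  exact ⟨a, ha⟩

variable {G : Type*} [Group G]

/-- An element `g` with `g² = 1` normalizing an odd-order subgroup `H` normalizes some Sylow `p`-subgroup of `H`. -/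
theorem exists_invariant_sylow [Finite G] (p : ℕ) [Fact p.Prime] (g : G) (hg : g * g = 1)
    (H : Subgroup G) (hodd : Odd (Nat.card H)) (hgH : ∀ h ∈ H, g * h * g⁻¹ ∈ H) :
    ∃ S : Subgroup G, S ≤ H ∧ Nat.card S = p ^ (Nat.card H).factorization p ∧ ∀ s ∈ S, g * s * g⁻¹ ∈ S := by
  have hginv : g⁻¹ = g := inv_eq_of_mul_eq_one_left hg
  let φ : H ≃* H :=
    { toFun := fun h => ⟨g * h * g⁻¹, hgH h h.2⟩
      invFun := fun h => ⟨g * h * g⁻¹, hgH h h.2⟩
      left_inv := fun h => by
        apply Subtype.ext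
        show g * (g * h * g⁻¹) * g⁻¹ = h
        rw [hginv]
        calc g * (g * ↑h * g) * g = (g * g) * h * (g * g) := by group
          _ = h := by rw [hg]; group
      right_inv := fun h => by
        apply Subtype.ext
        show g * (g * h * g⁻¹) * g⁻¹ = h
        rw [hginv]
        calc g * (g * ↑h * g) * g = (g * g) * h * (g * g) := by group
          _ = h := by rw [hg]; group
      map_mul' := fun a b => by
        apply Subtype.ext
        show g * (a * b) * g⁻¹ = (g * a * g⁻¹) * (g * b * g⁻¹)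
        group }
  have hφ2 : φ * φ = 1 := by
    ext h
    show g * (g * h * g⁻¹) * g⁻¹ = h
    rw [hginv]
    calc g * (g * ↑h * g) * g = (g * g) * h * (g * g) := by group
      _ = h := by rw [hg]; group
  have hinv : Function.Involutive (fun S : Sylow p H => φ • S) := by
    intro S
    show φ • φ • S = S
    rw [← mul_smul, hφ2, one_smul]
  have hcardodd : Odd (Nat.card (Sylow p H)) := by
    obtain ⟨S0⟩ : Nonempty (Sylow p H) := inferInstance
    have h1 : Nat.card (Sylow p H) ∣ (S0 : Subgroup H).index := Sylow.card_dvd_index S0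
    have h2 : (S0 : Subgroup H).index ∣ Nat.card H := Subgroup.index_dvd_card _
    exact Odd.of_dvd_nat hodd (h1.trans h2)
  obtain ⟨S, hS⟩ := exists_fixed_of_involutive_of_odd _ hinv hcardodd
  refine ⟨(S : Subgroup H).map H.subtype, ?_, ?_, ?_⟩
  · intro x hx
    obtain ⟨y, _, rfl⟩ := Subgroup.mem_map.mp hx
    exact y.2
  · rw [← Sylow.card_eq_multiplicity S]
    exact Nat.card_congr (Subgroup.equivMapOfInjective _ _ H.subtype_injective).symm.toEquiv
  · intro s hs
    obtain ⟨y, hy, rfl⟩ := Subgroup.mem_map.mp hs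
    have h1 : φ y ∈ ((φ • S : Sylow p H) : Subgroup H) := by
      rw [Sylow.pointwise_smul_def]
      exact Subgroup.smul_mem_pointwise_smul y φ _ hy
    have hS' : φ • S = S := hS
    rw [hS'] at h1
    exact Subgroup.mem_map.mpr ⟨φ y, h1, rfl⟩

/-- the conjugation action of a subgroup `K` of the normalizer of `Q` on `Q` -/
@[instance_reducible]
def conjMulActionOn (K Q : Subgroup G) (h : ∀ k ∈ K, ∀ q ∈ Q, k * q * k⁻¹ ∈ Q) : MulAction K Q where
  smul k q := ⟨k * q * (k : G)⁻¹, h k k.2 q q.2⟩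
  one_smul q := by
    apply Subtype.ext
    show (1 : G) * q * (1 : G)⁻¹ = q
    group
  mul_smul a b q := by
    apply Subtype.ext
    show ((a : G) * b) * q * ((a : G) * b)⁻¹ = a * (b * q * (b : G)⁻¹) * (a : G)⁻¹
    group

/-- A nontrivial subgroup `Q` normalized by a `p`-group `K` contains a nonidentity element centralized by `K`. -/
theorem exists_central_in_normalized [Finite G] (p : ℕ) [Fact p.Prime] (K Q : Subgroup G) (hK : IsPGroup p K)
    (hQ : IsPGroup p Q) (hKN : ∀ k ∈ K, ∀ q ∈ Q, k * q * k⁻¹ ∈ Q) (hQ1 : Q ≠ ⊥) :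
    ∃ u ∈ Q, u ≠ 1 ∧ ∀ k ∈ K, k * u = u * k := by
  let _ := conjMulActionOn K Q hKN
  have hdvd : p ∣ Nat.card Q := by
    rcases hQ.card_eq_or_dvd with h | h
    · exact absurd (Subgroup.card_eq_one.mp h) hQ1
    · exact h
  have h1 : (1 : Q) ∈ MulAction.fixedPoints K Q := by
    intro k
    apply Subtype.ext
    show (k : G) * (1 : G) * (k : G)⁻¹ = 1
    group
  obtain ⟨b, hb, hb1⟩ := hK.exists_fixed_point_of_prime_dvd_card_of_fixed_point Q hdvd h1
  refine ⟨b, b.2, ?_, ?_⟩
  · intro h
    apply hb1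
    exact Subtype.ext h.symm
  · intro k hk
    have := hb ⟨k, hk⟩
    have h2 : k * (b : G) * k⁻¹ = b := congrArg Subtype.val this
    calc k * (b : G) = (k * b * k⁻¹) * k := by group
      _ = b * k := by rw [h2]

section

variable [Finite G] (p : ℕ) [Fact p.Prime]
  (hC : ∀ u : G, u ≠ 1 → (∃ k : ℕ, orderOf u = p ^ k) → Odd (Nat.card (Subgroup.centralizer ({u} : Set G))))
  (g : G) (hg : orderOf g = 2)

include hC hg

/-- an involution normalizing a `p`-subgroup inverts it, and the subgroup is abelian -/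
theorem inverts_of_invariant (Q : Subgroup G) (hQ : IsPGroup p Q) (hgQ : ∀ u ∈ Q, g * u * g⁻¹ ∈ Q) :
    (∀ u ∈ Q, g * u * g⁻¹ = u⁻¹) ∧ ∀ u v : G, u ∈ Q → v ∈ Q → u * v = v * u := by
  have hp : p.Prime := Fact.out
  have hg2 : g * g = 1 := by
    have := pow_orderOf_eq_one g
    rwa [hg, pow_two] at this
  have hginv : g⁻¹ = g := inv_eq_of_mul_eq_one_left hg2
  let φ : Q →* Q :=
    { toFun := fun u => ⟨g * u * g⁻¹, hgQ u u.2⟩
      map_one' := by
        apply Subtype.ext
        show g * (1 : G) * g⁻¹ = 1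
        group
      map_mul' := fun a b => by
        apply Subtype.ext
        show g * (a * b) * g⁻¹ = (g * a * g⁻¹) * (g * b * g⁻¹)
        group }
  have hfpf : MonoidHom.FixedPointFree φ := by
    intro u hu
    by_contra hu1
    have hu1' : (u : G) ≠ 1 := fun h => hu1 (Subtype.ext h)
    have hcomm : g * (u : G) * g⁻¹ = u := congrArg Subtype.val hu
    have hord : ∃ k : ℕ, orderOf (u : G) = p ^ k := by
      obtain ⟨k, hk⟩ := (IsPGroup.iff_orderOf.mp hQ) u
      exact ⟨k, by rw [← hk]; exact (Subgroup.orderOf_coe u)⟩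
    have hodd := hC u hu1' hord
    have hmem : g ∈ Subgroup.centralizer ({(u : G)} : Set G) := by
      rw [Subgroup.mem_centralizer_iff]
      intro y hy
      rw [Set.mem_singleton_iff] at hy
      subst hy
      calc (u : G) * g = (g * u * g⁻¹) * g := by rw [hcomm]
        _ = g * u := by group
    have h2 : orderOf g ∣ Nat.card (Subgroup.centralizer ({(u : G)} : Set G)) := by
      have := orderOf_dvd_natCard (⟨g, hmem⟩ : Subgroup.centralizer ({(u : G)} : Set G))
      rwa [Subgroup.orderOf_mk] at this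
    rw [hg] at h2
    rcases hodd with ⟨k, hk⟩
    omega
  have hinvol : Function.Involutive φ := by
    intro u
    apply Subtype.ext
    show g * (g * u * g⁻¹) * g⁻¹ = u
    rw [hginv]
    calc g * (g * ↑u * g) * g = (g * g) * u * (g * g) := by group
      _ = u := by rw [hg2]; group
  have := Finite.of_injective (fun q : Q => (q : G)) Subtype.val_injective
  constructor
  · intro u hu
    have h1 := congrFun (hfpf.coe_eq_inv_of_involutive hinvol) ⟨u, hu⟩
    exact congrArg Subtype.val h1
  · intro u v hu hv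
    have h1 := hfpf.commute_all_of_involutive hinvol ⟨u, hu⟩ ⟨v, hv⟩
    exact congrArg Subtype.val h1.eq

/-- growth step: a nontrivial `g`-invariant `p`-subgroup that is not Sylow lies below a larger one -/
theorem exists_larger_invariant (Q : Subgroup G) (n : ℕ) (hQcard : Nat.card Q = p ^ n) (hn : 1 ≤ n)
    (hgQ : ∀ u ∈ Q, g * u * g⁻¹ ∈ Q) (hdvd : p ^ (n + 1) ∣ Nat.card G) :
    ∃ (S : Subgroup G) (m : ℕ), n < m ∧ Nat.card S = p ^ m ∧ ∀ s ∈ S, g * s * g⁻¹ ∈ S := by
  have hp : p.Prime := Fact.out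
  have hg2 : g * g = 1 := by
    have := pow_orderOf_eq_one g
    rwa [hg, pow_two] at this
  have hginv : g⁻¹ = g := inv_eq_of_mul_eq_one_left hg2
  have hQp : IsPGroup p Q := IsPGroup.of_card hQcard
  obtain ⟨hinvQ, -⟩ := inverts_of_invariant p hC g hg Q hQp hgQ
  obtain ⟨K, hKcard, hQK⟩ := Sylow.exists_subgroup_card_pow_succ hdvd hQcard
  have hKp : IsPGroup p K := IsPGroup.of_card hKcard
  -- Q is normal in K
  have hrel : Q.relIndex K = p := by
    have h1 := Subgroup.relIndex_mul_relIndex ⊥ Q K bot_le hQK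
    rw [Subgroup.relIndex_bot_left, Subgroup.relIndex_bot_left, hQcard, hKcard, pow_succ] at h1
    exact Nat.eq_of_mul_eq_mul_left (pow_pos hp.pos n) h1
  have hnorm : (Q.subgroupOf K).Normal := by
    apply Subgroup.normal_of_index_eq_minFac_card
    rw [hKcard, hp.pow_minFac (Nat.succ_ne_zero n)]
    exact hrel
  have hKN : ∀ k ∈ K, ∀ q ∈ Q, k * q * k⁻¹ ∈ Q :=
    Subgroup.le_normalizer_iff.mp ((Subgroup.normal_subgroupOf_iff_le_normalizer hQK).mp hnorm)
  have hQ1 : Q ≠ ⊥ := by
    intro h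
    rw [h, Subgroup.card_bot] at hQcard
    have : 1 < p ^ n := Nat.one_lt_pow (by omega) hp.one_lt
    omega
  obtain ⟨u, huQ, hu1, hucomm⟩ := exists_central_in_normalized p K Q hKp hQp hKN hQ1
  have hord : ∃ k : ℕ, orderOf u = p ^ k := by
    obtain ⟨k, hk⟩ := (IsPGroup.iff_orderOf.mp hQp) ⟨u, huQ⟩
    exact ⟨k, by rw [← hk]; exact (Subgroup.orderOf_mk u huQ).symm⟩
  have hodd := hC u hu1 hord
  have hgu : g * u * g⁻¹ = u⁻¹ := hinvQ u huQ
  have hgH : ∀ x ∈ Subgroup.centralizer ({u} : Set G), g * x * g⁻¹ ∈ Subgroup.centralizer ({u} : Set G) := by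
    intro x hx
    rw [Subgroup.mem_centralizer_iff] at hx ⊢
    intro y hy
    rw [Set.mem_singleton_iff] at hy
    subst hy
    have hxy := hx y (Set.mem_singleton y)
    have h1 : g⁻¹ * y * g = y⁻¹ := by
      rw [hginv]
      have : g * y * g⁻¹ = y⁻¹ := hgu
      rw [hginv] at this
      exact this
    have hxy' : y⁻¹ * x = x * y⁻¹ := by
      calc y⁻¹ * x = y⁻¹ * (x * y) * y⁻¹ := by group
        _ = y⁻¹ * (y * x) * y⁻¹ := by rw [hxy]
        _ = x * y⁻¹ := by group
    calc y * (g * x * g⁻¹) = g * ((g⁻¹ * y * g) * x) * g⁻¹ := by group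
      _ = g * (y⁻¹ * x) * g⁻¹ := by rw [h1]
      _ = g * (x * y⁻¹) * g⁻¹ := by rw [hxy']
      _ = g * x * g⁻¹ * (g * y⁻¹ * g⁻¹) := by group
      _ = g * x * g⁻¹ * y := by
        have : g * y⁻¹ * g⁻¹ = y := by
          have h2 : g * y⁻¹ * g⁻¹ = (g * y * g⁻¹)⁻¹ := by group
          rw [h2, hgu, inv_inv]
        rw [this]
  have hKH : K ≤ Subgroup.centralizer ({u} : Set G) := by
    intro k hk
    rw [Subgroup.mem_centralizer_iff]
    intro y hy
    rw [Set.mem_singleton_iff] at hy
    subst hy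
    exact (hucomm k hk).symm
  obtain ⟨S, -, hScard, hSg⟩ := exists_invariant_sylow p g hg2 _ hodd hgH
  refine ⟨S, _, ?_, hScard, hSg⟩
  have h1 : p ^ (n + 1) ∣ Nat.card (Subgroup.centralizer ({u} : Set G)) := by
    rw [← hKcard]
    exact Subgroup.card_dvd_of_le hKH
  have hpos : Nat.card (Subgroup.centralizer ({u} : Set G)) ≠ 0 := Nat.card_pos.ne'
  have := (hp.pow_dvd_iff_le_factorization hpos).mp h1
  omega

/-- A nontrivial `g`-invariant `p`-subgroup yields a `g`-invariant Sylow `p`-subgroup. -/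
theorem exists_invariant_full (Q : Subgroup G) (n : ℕ) (hQcard : Nat.card Q = p ^ n) (hn : 1 ≤ n)
    (hgQ : ∀ u ∈ Q, g * u * g⁻¹ ∈ Q) :
    ∃ S : Subgroup G, Nat.card S = p ^ (Nat.card G).factorization p ∧ ∀ s ∈ S, g * s * g⁻¹ ∈ S := by
  have hp : p.Prime := Fact.out
  have hGpos : Nat.card G ≠ 0 := Nat.card_pos.ne'
  set c := (Nat.card G).factorization p with hc
  have key : ∀ d : ℕ, ∀ (Q : Subgroup G) (n : ℕ), Nat.card Q = p ^ n → 1 ≤ n → (∀ u ∈ Q, g * u * g⁻¹ ∈ Q) →
      c - n = d → ∃ S : Subgroup G, Nat.card S = p ^ c ∧ ∀ s ∈ S, g * s * g⁻¹ ∈ S := by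
    intro d
    induction d using Nat.strong_induction_on with
    | _ d ih =>
      intro Q n hQcard hn hgQ hd
      have hnc : n ≤ c := by
        have h1 : p ^ n ∣ Nat.card G := by
          rw [← hQcard]
          exact Subgroup.card_subgroup_dvd_card Q
        exact (hp.pow_dvd_iff_le_factorization hGpos).mp h1
      rcases Nat.lt_or_ge n c with hlt | hge
      · have hdvd : p ^ (n + 1) ∣ Nat.card G := (hp.pow_dvd_iff_le_factorization hGpos).mpr hlt
        obtain ⟨S, m, hnm, hScard, hSg⟩ := exists_larger_invariant p hC g hg Q n hQcard hn hgQ hdvd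
        exact ih (c - m) (by omega) S m hScard (by omega) hSg rfl
      · have : n = c := le_antisymm hnc hge
        subst this
        exact ⟨Q, hQcard, hgQ⟩
  exact key (c - n) Q n hQcard hn hgQ rfl

end

end Cfsg.Agent.Lib.Helper24
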