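/-
helper24 (Brauer-Suzuki for Q8 project, part B): the principal 2-block of a group `X` with a central
involution `t` such that `X / <t>` has Klein four Sylow 2-subgroups and one class of involutions.
-/
import Mathlib
import Cfsg.Agent.Lib.Lead.KleinBlock4
import Cfsg.Agent.Lib.Helper6.NormalPBlock
import Cfsg.Agent.Lib.Helper25.Inflate
import Cfsg.Agent.Lib.Helper24.CentralElt
import Cfsg.Agent.Lib.Helper24.IrrFacts

set_option autoImplicit false

namespace Cfsg.Agent.CharLib

open Cfsg Cfsg.Agent.Lib.Helper24 Cfsg.Agent.Lib.Helper6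
open scoped ComplexConjugate

universe u

/-- A central involution multiplies an irreducible character by a uniform sign. -/
theorem q8c_central_sign {X : Type u} [Group X] [Finite X] (φ : IrrCharacter X) (t : X)
    (ht : orderOf t = 2) (hc : ∀ x : X, x * t = t * x) :
    (∀ x, (φ : X → ℂ) (t * x) = (φ : X → ℂ) x) ∨ (∀ x, (φ : X → ℂ) (t * x) = -(φ : X → ℂ) x) := by
  classical
  obtain ⟨n, ρ, hirr, hρ⟩ := φ.2
  haveI := hirr
  have htc : t ∈ Subgroup.center X := by
    rw [Subgroup.mem_center_iff]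
    intro g
    exact hc g
  obtain ⟨c, hcs⟩ := exists_central_scalar ρ t htc
  have hmul : ∀ g : X, (φ : X → ℂ) (t * g) = c * (φ : X → ℂ) g := by
    intro g
    rw [← hρ]
    exact char_scalar_mul ρ t c hcs g
  have htt : t * t = 1 := by
    have := pow_orderOf_eq_one t
    rwa [ht, pow_two] at this
  have h1 : (φ : X → ℂ) 1 = c * (c * (φ : X → ℂ) 1) := by
    rw [← hmul 1, ← hmul (t * 1), mul_one, htt]
  have h0 := irr_apply_one_ne_zero φ
  have hcc : c * c = 1 := by
    have h2 : (c * c - 1) * (φ : X → ℂ) 1 = 0 := by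
      linear_combination (-1 : ℂ) * h1
    rcases mul_eq_zero.mp h2 with h | h
    · linear_combination h
    · exact absurd h h0
  rcases mul_self_eq_one_iff.mp hcc with h | h
  · left
    intro x
    rw [hmul x, h, one_mul]
  · right
    intro x
    rw [hmul x, h]
    ring

/-- Three pairwise distinct elements give an injective vector. -/
theorem q8c_inj3 {α : Type*} (x y z : α) (hxy : x ≠ y) (hxz : x ≠ z) (hyz : y ≠ z) :
    Function.Injective ![x, y, z] := by
  intro i j h
  fin_cases i <;> fin_cases j <;> simp_all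

/-- Linear independence of `1, a, b` on the elements of odd order, for the principal block of a
group with Klein four Sylow 2-subgroups and one class of involutions. -/
theorem q8c_indep {G : Type u} [Group G] [Finite G] {M : Ideal AlgInt} (hM : IsPModular 2 M)
    (P : Sylow 2 G) (hP : IsKleinFour (P : Subgroup G))
    (hone : ∀ s t : G, orderOf s = 2 → orderOf t = 2 → IsConj s t) (z : G) (hz2 : orderOf z = 2)
    (a b c : IrrCharacter G) (ε : ℤ)
    (ha1 : a ≠ trivIrr G) (hb1 : b ≠ trivIrr G) (hc1 : c ≠ trivIrr G)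
    (hab : a ≠ b) (hac : a ≠ c) (hbc : b ≠ c)
    (haB : a ∈ principalBlock M G) (hbB : b ∈ principalBlock M G) (hcB : c ∈ principalBlock M G)
    (haz : (a : G → ℂ) z = 1) (hbz : (b : G → ℂ) z = (ε : ℂ)) (hcz : (c : G → ℂ) z = -1)
    (r : Fin 3 → ℂ)
    (hr : ∀ y : G, Odd (orderOf y) → r 0 + r 1 * (a : G → ℂ) y + r 2 * (b : G → ℂ) y = 0) :
    r = 0 := by
  classical
  let _ : Fintype G := Fintype.ofFinite G
  have htriv1 : ∀ g : G, ((trivIrr G : IrrCharacter G) : G → ℂ) g = 1 := fun g => rfl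
  have hsing : ∀ ζ ∈ principalBlock M G, ∀ g : G, 2 ∣ orderOf g →
      (ζ : G → ℂ) g = (ζ : G → ℂ) z :=
    fun ζ hζ g hg => klein_apply_singular hM P hP hone z hz2 ζ hζ g hg
  set Θ : G → ℂ := r 0 • ((trivIrr G : IrrCharacter G) : G → ℂ) + r 1 • (a : G → ℂ) +
    r 2 • (b : G → ℂ) with hΘ
  set κ : ℂ := r 0 + r 1 + r 2 * (ε : ℂ) with hκ
  have hΘreg : ∀ g : G, IsPRegular 2 g → Θ g = 0 := by
    intro g hg
    have hodd : Odd (orderOf g) := by
      rw [← Nat.not_even_iff_odd, even_iff_two_dvd]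
      exact hg
    have h1 := hr g hodd
    simp only [hΘ, Pi.add_apply, Pi.smul_apply, smul_eq_mul]
    rw [htriv1, mul_one]
    exact h1
  have hΘsing : ∀ g : G, ¬ IsPRegular 2 g → Θ g = κ := by
    intro g hg
    have hg' : 2 ∣ orderOf g := by
      by_contra h
      exact hg h
    simp only [hΘ, Pi.add_apply, Pi.smul_apply, smul_eq_mul]
    rw [hsing a haB g hg', hsing b hbB g hg', htriv1, haz, hbz, hκ]
    ring
  have hinner : ∀ χ : IrrCharacter G, classInner Θ (χ : G → ℂ) =
      r 0 * (if trivIrr G = χ then 1 else 0) + r 1 * (if a = χ then 1 else 0) +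
        r 2 * (if b = χ then 1 else 0) := by
    intro χ
    rw [hΘ, classInner_add_left, classInner_add_left, classInner_smul_left,
      classInner_smul_left, classInner_smul_left, classInner_irr', classInner_irr',
      classInner_irr']
  have hc0 : classInner Θ (c : G → ℂ) = 0 := by
    rw [hinner c, if_neg (Ne.symm hc1), if_neg hac, if_neg hbc]
    ring
  have hκ0 : κ = 0 := by
    unfold classInner at hc0
    have h1 : ∑ g : G, Θ g * conj ((c : G → ℂ) g) =
        ∑ g : G, (if IsPRegular 2 g then 0 else -κ) := by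
      apply Finset.sum_congr rfl
      intro g _
      by_cases hg : IsPRegular 2 g
      · rw [if_pos hg, hΘreg g hg, zero_mul]
      · have hg' : 2 ∣ orderOf g := by
          by_contra h
          exact hg h
        rw [if_neg hg, hΘsing g hg, hsing c hcB g hg', hcz]
        simp
    rw [h1, Finset.sum_ite, Finset.sum_const_zero, zero_add, Finset.sum_const] at hc0
    have hcard : (Finset.univ.filter (fun g : G => ¬ IsPRegular 2 g)).card ≠ 0 := by
      apply Finset.card_ne_zero_of_mem (a := z)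
      rw [Finset.mem_filter]
      refine ⟨Finset.mem_univ _, ?_⟩
      intro h
      apply h
      rw [hz2]
    have hG0 : (Nat.card G : ℂ)⁻¹ ≠ 0 := inv_ne_zero (Nat.cast_ne_zero.mpr Nat.card_pos.ne')
    rcases mul_eq_zero.mp hc0 with h | h
    · exact absurd h hG0
    · rw [nsmul_eq_mul] at h
      rcases mul_eq_zero.mp h with h' | h'
      · exact absurd (Nat.cast_eq_zero.mp h') hcard
      · exact neg_eq_zero.mp h'
  have hΘ0 : Θ = 0 := by
    funext g
    by_cases hg : IsPRegular 2 g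
    · exact hΘreg g hg
    · rw [hΘsing g hg, hκ0]
      rfl
  have hr0 : r 0 = 0 := by
    have := hinner (trivIrr G)
    rw [hΘ0, if_pos rfl, if_neg ha1, if_neg hb1] at this
    simp only [classInner, Pi.zero_apply, zero_mul, Finset.sum_const_zero, mul_zero] at this
    linear_combination (-1 : ℂ) * this
  have hr1 : r 1 = 0 := by
    have := hinner a
    rw [hΘ0, if_neg (Ne.symm ha1), if_pos rfl, if_neg (Ne.symm hab)] at this
    simp only [classInner, Pi.zero_apply, zero_mul, Finset.sum_const_zero, mul_zero] at this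
    linear_combination (-1 : ℂ) * this
  have hr2 : r 2 = 0 := by
    have := hinner b
    rw [hΘ0, if_neg (Ne.symm hb1), if_neg hab, if_pos rfl] at this
    simp only [classInner, Pi.zero_apply, zero_mul, Finset.sum_const_zero, mul_zero] at this
    linear_combination (-1 : ℂ) * this
  funext i
  fin_cases i
  · exact hr0
  · exact hr1
  · exact hr2

/-- Principal 2-block of a group `X` with a central involution `t` such that `X / <t>` has Klein four
Sylow 2-subgroups and one class of involutions: the characters of the principal block with `t` in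
the kernel are `psi 0 = 1, psi 1, psi 2, psi3`; the others are faithful on `<t>`. -/
theorem quat_central_block {X : Type u} [Group X] [Finite X] {M : Ideal AlgInt}
    (hM : IsPModular 2 M) (t : X) (ht : orderOf t = 2) (hc : ∀ x : X, x * t = t * x)
    [hN : (Subgroup.zpowers t).Normal]
    (P : Sylow 2 (X ⧸ Subgroup.zpowers t))
    (hP : IsKleinFour (P : Subgroup (X ⧸ Subgroup.zpowers t)))
    (hone : ∀ s s' : X ⧸ Subgroup.zpowers t, orderOf s = 2 → orderOf s' = 2 → IsConj s s') :
    ∃ (ψ : Fin 3 → IrrCharacter X) (ψ₃ : IrrCharacter X) (ε : ℤ), (ε = 1 ∨ ε = -1) ∧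
      ψ 0 = trivIrr X ∧ (∀ j, ψ j ∈ principalBlock M X) ∧ ψ₃ ∈ principalBlock M X ∧
      (∀ j x, (ψ j : X → ℂ) (t * x) = (ψ j : X → ℂ) x) ∧
      (∀ x, (ψ₃ : X → ℂ) (t * x) = (ψ₃ : X → ℂ) x) ∧
      Function.Injective ψ ∧ (∀ j, ψ j ≠ ψ₃) ∧
      (∀ φ ∈ principalBlock M X, (∃ j, φ = ψ j) ∨ φ = ψ₃ ∨
        ∀ x, (φ : X → ℂ) (t * x) = -(φ : X → ℂ) x) ∧
      (∀ y : X, Odd (orderOf y) → (ψ₃ : X → ℂ) y =
        (ψ 0 : X → ℂ) y + (ψ 1 : X → ℂ) y + (ε : ℂ) * (ψ 2 : X → ℂ) y) ∧
      (∀ c : Fin 3 → ℂ, (∀ y : X, Odd (orderOf y) → ∑ j, c j * (ψ j : X → ℂ) y = 0) → c = 0) ∧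
      (∀ j, Odd (charDegree (ψ j : X → ℂ))) := by
  classical
  have : Fact (Nat.Prime 2) := ⟨Nat.prime_two⟩
  have hprime : M.IsPrime := isPrime_of_isPModular hM
  set Z : Subgroup X := Subgroup.zpowers t with hZ
  -- the quotient data
  obtain ⟨z, -, hzP, -, hz1, -, -, -⟩ := Cfsg.Agent.Lib.Helper2.klein_exists_gens P hP
  have hz2 : orderOf z = 2 := Cfsg.Agent.Lib.Helper2.klein_orderOf P hP hzP hz1
  obtain ⟨a, b, c, ε, hε, ha1, hb1, hc1, hab, hac, hbc, hmem, haz, hbz, hcz, hda, hdb, hdc, hy⟩ :=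
    klein_principal_block_aux hM P hP hone z hzP hz1
  have haB : a ∈ principalBlock M (X ⧸ Z) := (hmem a).mpr (Or.inr (Or.inl rfl))
  have hbB : b ∈ principalBlock M (X ⧸ Z) := (hmem b).mpr (Or.inr (Or.inr (Or.inl rfl)))
  have hcB : c ∈ principalBlock M (X ⧸ Z) := (hmem c).mpr (Or.inr (Or.inr (Or.inr rfl)))
  have htB : trivIrr (X ⧸ Z) ∈ principalBlock M (X ⧸ Z) := (hmem _).mpr (Or.inl rfl)
  -- basic facts on `Z`
  have htZ : t ∈ Z := Subgroup.mem_zpowers t
  have hZp : IsPGroup 2 Z := by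
    apply IsPGroup.of_card (n := 1)
    rw [hZ, Nat.card_zpowers, ht, pow_one]
  have hZc : ∃ k : ℕ, (Subgroup.centralizer (Z : Set X)).index = 2 ^ k := by
    refine ⟨0, ?_⟩
    have : Subgroup.centralizer (Z : Set X) = ⊤ := by
      rw [Subgroup.centralizer_eq_top_iff_subset]
      intro x hx
      rw [SetLike.mem_coe, hZ, Subgroup.mem_zpowers_iff] at hx
      obtain ⟨k, rfl⟩ := hx
      apply Subgroup.zpow_mem
      rw [Subgroup.mem_center_iff]
      intro g
      exact hc g
    rw [this, Subgroup.index_top, pow_zero]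
  have hmk : ∀ x : X, ((t * x : X) : X ⧸ Z) = (x : X ⧸ Z) := by
    intro x
    rw [QuotientGroup.mk_mul, (QuotientGroup.eq_one_iff t).mpr htZ, one_mul]
  -- inflation of principal block characters
  have hinflB : ∀ θ : IrrCharacter (X ⧸ Z), θ ∈ principalBlock M (X ⧸ Z) →
      Cfsg.Agent.Lib.Helper25.inflateIrr Z θ ∈ principalBlock M X := by
    intro θ hθ
    exact sameBlock_inflate Z (fun _ => (1 : ℂ)) (θ : X ⧸ Z → ℂ) hθ
  have hinflt : ∀ (θ : IrrCharacter (X ⧸ Z)) (x : X),
      (Cfsg.Agent.Lib.Helper25.inflateIrr Z θ : X → ℂ) (t * x) =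
        (Cfsg.Agent.Lib.Helper25.inflateIrr Z θ : X → ℂ) x := by
    intro θ x
    rw [Cfsg.Agent.Lib.Helper25.inflateIrr_apply, Cfsg.Agent.Lib.Helper25.inflateIrr_apply, hmk]
  have htriv : Cfsg.Agent.Lib.Helper25.inflateIrr Z (trivIrr (X ⧸ Z)) = trivIrr X :=
    Subtype.ext (funext fun g => rfl)
  have hdeg : ∀ θ : IrrCharacter (X ⧸ Z),
      charDegree (Cfsg.Agent.Lib.Helper25.inflateIrr Z θ : X → ℂ) =
        charDegree (θ : X ⧸ Z → ℂ) := by
    intro θ
    unfold charDegree
    rw [Cfsg.Agent.Lib.Helper25.inflateIrr_apply, QuotientGroup.mk_one]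
  set θv : Fin 3 → IrrCharacter (X ⧸ Z) := ![trivIrr (X ⧸ Z), a, b] with hθv
  have hθinj : Function.Injective θv := q8c_inj3 _ _ _ (Ne.symm ha1) (Ne.symm hb1) hab
  have hθB : ∀ j, θv j ∈ principalBlock M (X ⧸ Z) := by
    intro j
    fin_cases j
    · exact htB
    · exact haB
    · exact hbB
  have hθc : ∀ j, θv j ≠ c := by
    intro j
    fin_cases j
    · exact Ne.symm hc1
    · exact hac
    · exact hbc
  refine ⟨fun j => Cfsg.Agent.Lib.Helper25.inflateIrr Z (θv j),
    Cfsg.Agent.Lib.Helper25.inflateIrr Z c, ε, hε, htriv, fun j => hinflB _ (hθB j),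
    hinflB _ hcB, fun j x => hinflt _ x, fun x => hinflt _ x,
    (Cfsg.Agent.Lib.Helper25.inflateIrr_injective Z).comp hθinj,
    fun j h => hθc j (Cfsg.Agent.Lib.Helper25.inflateIrr_injective Z h), ?_, ?_, ?_, ?_⟩
  · -- every character of the principal block
    intro φ hφ
    rcases q8c_central_sign φ t ht hc with hplus | hminus
    · have hker : ∀ n ∈ Z, (φ : X → ℂ) n = (φ : X → ℂ) 1 := by
        intro n hn
        have hpow : ∀ k : ℕ, (φ : X → ℂ) (t ^ k) = (φ : X → ℂ) 1 := by
          intro k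
          induction k with
          | zero => rw [pow_zero]
          | succ k ih => rw [pow_succ', hplus, ih]
        rw [hZ, ← mem_powers_iff_mem_zpowers, Submonoid.mem_powers_iff] at hn
        obtain ⟨k, rfl⟩ := hn
        exact hpow k
      obtain ⟨θ, hθ⟩ := Cfsg.Agent.Lib.Helper25.exists_inflateIrr_eq Z φ hker
      have hθB' : θ ∈ principalBlock M (X ⧸ Z) := by
        have h1 : SameBlock M (((trivIrr (X ⧸ Z) : IrrCharacter (X ⧸ Z)) : X ⧸ Z → ℂ) ∘
            QuotientGroup.mk) ((θ : X ⧸ Z → ℂ) ∘ QuotientGroup.mk) := by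
          rw [← hθ] at hφ
          exact hφ
        exact (sameBlock_inflate_iff Z hM hZp hZc (trivIrr (X ⧸ Z)) θ).mpr h1
      rcases (hmem θ).mp hθB' with h | h | h | h
      · left
        exact ⟨0, by rw [← hθ, h]; rfl⟩
      · left
        exact ⟨1, by rw [← hθ, h]; rfl⟩
      · left
        exact ⟨2, by rw [← hθ, h]; rfl⟩
      · right; left
        rw [← hθ, h]
    · right; right
      exact hminus
  · -- the relation on elements of odd order
    intro y hyodd
    have hy' : Odd (orderOf (y : X ⧸ Z)) :=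
      Odd.of_dvd_nat hyodd (orderOf_map_dvd (QuotientGroup.mk' Z) y)
    have h1 := hy (y : X ⧸ Z) hy'
    change (c : X ⧸ Z → ℂ) (y : X ⧸ Z) = 1 + (a : X ⧸ Z → ℂ) (y : X ⧸ Z) +
      (ε : ℂ) * (b : X ⧸ Z → ℂ) (y : X ⧸ Z)
    linear_combination (-1 : ℂ) * h1
  · -- linear independence
    intro r hr
    apply q8c_indep hM P hP hone z hz2 a b c ε ha1 hb1 hc1 hab hac hbc haB hbB hcB haz hbz hcz r
    intro y' hy'
    have hy2 : ¬ 2 ∣ orderOf y' := by
      rw [← even_iff_two_dvd, Nat.not_even_iff_odd]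
      exact hy'
    obtain ⟨x, hx, rfl⟩ := exists_pRegular_lift Z y' hy2
    have hxodd : Odd (orderOf x) := by
      rw [← Nat.not_even_iff_odd, even_iff_two_dvd]
      exact hx
    have h1 := hr x hxodd
    rw [Fin.sum_univ_three] at h1
    change r 0 * 1 + r 1 * (a : X ⧸ Z → ℂ) (x : X ⧸ Z) + r 2 * (b : X ⧸ Z → ℂ) (x : X ⧸ Z) = 0 at h1
    rw [mul_one] at h1
    exact h1
  · -- degrees
    intro j
    rw [hdeg]
    fin_cases j
    · change Odd (charDegree ((trivIrr (X ⧸ Z) : IrrCharacter (X ⧸ Z)) : X ⧸ Z → ℂ))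
      have : charDegree ((trivIrr (X ⧸ Z) : IrrCharacter (X ⧸ Z)) : X ⧸ Z → ℂ) = 1 := by
        apply charDegree_eq_of_apply_one
        change (1 : ℂ) = ((1 : ℕ) : ℂ)
        norm_num
      rw [this]
      exact odd_one
    · change Odd (charDegree (a : X ⧸ Z → ℂ))
      obtain ⟨k, hk⟩ := hda
      rw [Nat.odd_iff]
      omega
    · change Odd (charDegree (b : X ⧸ Z → ℂ))
      obtain ⟨k, hk⟩ := hdb
      rw [Nat.odd_iff]
      rcases hε with h | h <;> rw [h] at hk <;> omega

end Cfsg.Agent.CharLib
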