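/- helper24: S0977 (order 4320) support file Ord4320A -/
import Mathlib
import Cfsg.Agent.Lib.Helper8.SmallSimple2

set_option autoImplicit false
set_option linter.unusedSectionVars false

namespace Cfsg.Agent.Lib.Helper24.Ord4320

open MulAction Cfsg.Agent.Lib.Helper7 Cfsg.Agent.Lib.Helper8.SmallSimple Cfsg.Agent.Lib.Helper8.SmallSimple2

variable {G : Type*} [Group G]

/-- an element of order 2 in a subgroup of even order -/
theorem exists_invol_mem [Finite G] (K : Subgroup G) (h : 2 ∣ Nat.card ↥K) : ∃ t ∈ K, orderOf t = 2 := by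
  have : Fact (Nat.Prime 2) := ⟨Nat.prime_two⟩
  obtain ⟨x, hx⟩ := exists_prime_orderOf_dvd_card' (G := ↥K) 2 h
  exact ⟨(x : G), x.2, by rw [Subgroup.orderOf_coe]; exact hx⟩

/-- the product formula as an inequality: `|H| |K| ≤ |G| |H ∩ K|` -/
theorem card_mul_card_le [Finite G] (H K : Subgroup G) :
    Nat.card ↥H * Nat.card ↥K ≤ Nat.card G * Nat.card ↥(H ⊓ K) := by
  have h1 := Subgroup.index_inf_le (H := H) (K := K)
  have hH := H.card_mul_index
  have hK := K.card_mul_index
  have hHK := (H ⊓ K).card_mul_index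
  have hpos : 0 < H.index * K.index := Nat.mul_pos (Nat.pos_of_ne_zero H.index_ne_zero_of_finite)
    (Nat.pos_of_ne_zero K.index_ne_zero_of_finite)
  apply Nat.le_of_mul_le_mul_right _ hpos
  calc Nat.card ↥H * Nat.card ↥K * (H.index * K.index)
      = (Nat.card ↥H * H.index) * (Nat.card ↥K * K.index) := by ring
    _ = Nat.card G * (Nat.card ↥(H ⊓ K) * (H ⊓ K).index) := by rw [hH, hK, hHK]
    _ ≤ Nat.card G * (Nat.card ↥(H ⊓ K) * (H.index * K.index)) := by
        apply Nat.mul_le_mul_left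
        exact Nat.mul_le_mul_left _ h1
    _ = Nat.card G * Nat.card ↥(H ⊓ K) * (H.index * K.index) := by ring

/-- conjugate elements have centralizers of the same order -/
theorem card_centralizer_conj (w g : G) :
    Nat.card ↥(Subgroup.centralizer ({g * w * g⁻¹} : Set G)) = Nat.card ↥(Subgroup.centralizer ({w} : Set G)) := by
  refine Nat.card_congr
    { toFun := fun c => ⟨g⁻¹ * c.1 * g, ?_⟩
      invFun := fun c => ⟨g * c.1 * g⁻¹, ?_⟩
      left_inv := fun c => by apply Subtype.ext; simp only; group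
      right_inv := fun c => by apply Subtype.ext; simp only; group }
  · have h := Subgroup.mem_centralizer_singleton_iff.mp c.2
    rw [Subgroup.mem_centralizer_singleton_iff]
    calc g⁻¹ * c.1 * g * w = g⁻¹ * (c.1 * (g * w * g⁻¹)) * g := by group
      _ = g⁻¹ * ((g * w * g⁻¹) * c.1) * g := by rw [h]
      _ = w * (g⁻¹ * c.1 * g) := by group
  · have h := Subgroup.mem_centralizer_singleton_iff.mp c.2
    rw [Subgroup.mem_centralizer_singleton_iff]
    calc g * c.1 * g⁻¹ * (g * w * g⁻¹) = g * (c.1 * w) * g⁻¹ := by group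
      _ = g * (w * c.1) * g⁻¹ := by rw [h]
      _ = g * w * g⁻¹ * (g * c.1 * g⁻¹) := by group

theorem card_centralizer_of_isConj {w s : G} (h : IsConj w s) :
    Nat.card ↥(Subgroup.centralizer ({s} : Set G)) = Nat.card ↥(Subgroup.centralizer ({w} : Set G)) := by
  obtain ⟨g, rfl⟩ := isConj_iff.mp h
  exact card_centralizer_conj w g

/-- **orbit inequality**: an involution `w` inverting a subgroup `P` of odd prime order `p` satisfies
`|C(w)|² p ≤ |G| |C(P)|` -/
theorem invol_invert_bound [Finite G] {p : ℕ} [Fact p.Prime] (hp2 : p ≠ 2) (P : Subgroup G)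
    (hP : Nat.card ↥P = p) (w : G) (hw : w * w = 1) (hinv : ∀ z ∈ P, w * z * w⁻¹ = z⁻¹) :
    Nat.card ↥(Subgroup.centralizer ({w} : Set G)) ^ 2 * p ≤
      Nat.card G * Nat.card ↥(Subgroup.centralizer (P : Set G)) := by
  have hp : p.Prime := Fact.out
  have hwinv : w⁻¹ = w := inv_eq_of_mul_eq_one_left hw
  obtain ⟨f0, hf0⟩ := exists_prime_orderOf_dvd_card' (G := ↥P) p (by rw [hP])
  set f : G := (f0 : G) with hf
  have hfo : orderOf f = p := by rw [hf, Subgroup.orderOf_coe]; exact hf0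
  have hfP : f ∈ P := f0.2
  have hodd : ∀ z ∈ P, z * z = 1 → z = 1 := by
    intro z hz hzz
    have h1 : orderOf z ∣ 2 := orderOf_dvd_of_pow_eq_one (by rw [pow_two]; exact hzz)
    have h2 : orderOf z ∣ p := by
      have := Subgroup.orderOf_dvd_natCard P hz
      rwa [hP] at this
    have h3 : orderOf z ∣ Nat.gcd 2 p := Nat.dvd_gcd h1 h2
    have h4 : Nat.gcd 2 p = 1 := by
      rw [Nat.coprime_primes Nat.prime_two hp |>.mpr (Ne.symm hp2)]
    rw [h4, Nat.dvd_one] at h3
    exact orderOf_eq_one_iff.mp h3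
  have hff1 : f * f ≠ 1 := by
    intro h
    have := hodd f hfP h
    rw [← orderOf_eq_one_iff, hfo] at this
    exact hp.one_lt.ne' this
  have hgen : P ≤ Subgroup.zpowers (f * f) := by
    have hle : Subgroup.zpowers (f * f) ≤ P := by
      rw [Subgroup.zpowers_le]; exact P.mul_mem hfP hfP
    have hd : orderOf (f * f) ∣ p := by
      have := Subgroup.orderOf_dvd_natCard P (P.mul_mem hfP hfP)
      rwa [hP] at this
    have ho : orderOf (f * f) = p := by
      rcases (Nat.dvd_prime hp).mp hd with h | h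
      · exact absurd (orderOf_eq_one_iff.mp h) hff1
      · exact h
    have heq : Subgroup.zpowers (f * f) = P :=
      Subgroup.eq_of_le_of_card_ge hle (by rw [Nat.card_zpowers, ho, hP])
    rw [heq]
  set w' : G := f⁻¹ * w * f⁻¹⁻¹ with hw'
  have hww' : w * w' = f * f := by
    have h1 := hinv f hfP
    rw [hwinv] at h1
    have h2 : w * f⁻¹ * w = f := by
      have : w * f⁻¹ * w = (w * f * w)⁻¹ := by
        rw [mul_inv_rev, mul_inv_rev, hwinv, mul_assoc]
      rw [this, h1, inv_inv]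
    calc w * w' = (w * f⁻¹ * w) * f := by rw [hw', inv_inv]; group
      _ = f * f := by rw [h2]
  have hcard' : Nat.card ↥(Subgroup.centralizer ({w'} : Set G)) =
      Nat.card ↥(Subgroup.centralizer ({w} : Set G)) := card_centralizer_conj w f⁻¹
  set Y : Subgroup G := Subgroup.centralizer ({w} : Set G) ⊓ Subgroup.centralizer (P : Set G) with hY
  have hle : Subgroup.centralizer ({w} : Set G) ⊓ Subgroup.centralizer ({w'} : Set G) ≤ Y := by
    intro c hc
    obtain ⟨hc1, hc2⟩ := Subgroup.mem_inf.mp hc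
    refine Subgroup.mem_inf.mpr ⟨hc1, ?_⟩
    rw [Subgroup.mem_centralizer_singleton_iff] at hc1 hc2
    have hcff : c * (f * f) = (f * f) * c := by
      rw [← hww']
      calc c * (w * w') = (c * w) * w' := by group
        _ = w * (c * w') := by rw [hc1]; group
        _ = w * w' * c := by rw [hc2]; group
    rw [Subgroup.mem_centralizer_iff]
    intro z hz
    obtain ⟨k, rfl⟩ := hgen hz
    have : Commute c (f * f) := hcff
    exact ((this.zpow_right k).eq).symm
  have hYP : ∀ z ∈ P, z ∈ Y → z = 1 := by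
    intro z hz hzY
    have h1 := Subgroup.mem_centralizer_singleton_iff.mp hzY.1
    have h2 := hinv z hz
    apply hodd z hz
    have : w * z * w⁻¹ = z := by rw [← h1]; group
    rw [this] at h2
    calc z * z = z * z⁻¹ := by rw [← h2]
      _ = 1 := mul_inv_cancel z
  have hPC : P ≤ Subgroup.centralizer (P : Set G) := by
    intro a ha
    rw [Subgroup.mem_centralizer_iff]
    intro b hb
    exact comm_of_card_prime P hP b hb a ha
  have hYcard : Nat.card ↥Y * p ≤ Nat.card ↥(Subgroup.centralizer (P : Set G)) := by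
    rw [← hP, ← Nat.card_prod]
    refine Nat.card_le_card_of_injective
      (fun q : ↥Y × ↥P => (⟨q.1.1 * q.2.1, Subgroup.mul_mem _ q.1.2.2 (hPC q.2.2)⟩ :
        ↥(Subgroup.centralizer (P : Set G)))) ?_
    rintro ⟨y1, z1⟩ ⟨y2, z2⟩ h
    have h' : y1.1 * z1.1 = y2.1 * z2.1 := congrArg Subtype.val h
    have h3 : y2.1⁻¹ * y1.1 = z2.1 * z1.1⁻¹ := by
      calc y2.1⁻¹ * y1.1 = y2.1⁻¹ * (y1.1 * z1.1) * z1.1⁻¹ := by group
        _ = y2.1⁻¹ * (y2.1 * z2.1) * z1.1⁻¹ := by rw [h']
        _ = z2.1 * z1.1⁻¹ := by group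
    have h4 : z2.1 * z1.1⁻¹ = 1 := by
      apply hYP _ (P.mul_mem z2.2 (P.inv_mem z1.2))
      rw [← h3]
      exact Y.mul_mem (Y.inv_mem y2.2) y1.2
    have h5 : z2.1 = z1.1 := by
      calc z2.1 = z2.1 * z1.1⁻¹ * z1.1 := by group
        _ = z1.1 := by rw [h4, one_mul]
    have h6 : y1.1 = y2.1 := by
      rw [h4] at h3
      calc y1.1 = y2.1 * (y2.1⁻¹ * y1.1) := by group
        _ = y2.1 := by rw [h3, mul_one]
    exact Prod.ext (Subtype.ext h6) (Subtype.ext h5.symm)
  have h1 := card_mul_card_le (Subgroup.centralizer ({w} : Set G)) (Subgroup.centralizer ({w'} : Set G))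
  rw [hcard'] at h1
  have h2 : Nat.card ↥(Subgroup.centralizer ({w} : Set G) ⊓ Subgroup.centralizer ({w'} : Set G)) ≤
      Nat.card ↥Y := Subgroup.card_le_of_le hle
  calc Nat.card ↥(Subgroup.centralizer ({w} : Set G)) ^ 2 * p
      = Nat.card ↥(Subgroup.centralizer ({w} : Set G)) * Nat.card ↥(Subgroup.centralizer ({w} : Set G)) * p := by
        rw [pow_two]
    _ ≤ Nat.card G * Nat.card ↥(Subgroup.centralizer ({w} : Set G) ⊓ Subgroup.centralizer ({w'} : Set G)) * p :=
        Nat.mul_le_mul_right _ h1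
    _ ≤ Nat.card G * Nat.card ↥Y * p := by
        apply Nat.mul_le_mul_right
        exact Nat.mul_le_mul_left _ h2
    _ = Nat.card G * (Nat.card ↥Y * p) := by ring
    _ ≤ Nat.card G * Nat.card ↥(Subgroup.centralizer (P : Set G)) := Nat.mul_le_mul_left _ hYcard

/-- **counting lemma**: for a central subgroup `P` of order 5 of `C`, the elements of `C` with `c ^ 6 = 1`
inject into `C / P` -/
theorem card_pow_six_mul_le [Finite G] (P C : Subgroup G) (hP : Nat.card ↥P = 5) (hPC : P ≤ C)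
    (hcent : ∀ z ∈ P, ∀ c ∈ C, z * c = c * z) :
    Nat.card {c : G // c ∈ C ∧ c ^ 6 = 1} * 5 ≤ Nat.card ↥C := by
  rw [← hP, ← Nat.card_prod]
  refine Nat.card_le_card_of_injective
    (fun q : {c : G // c ∈ C ∧ c ^ 6 = 1} × ↥P => (⟨q.1.1 * q.2.1, C.mul_mem q.1.2.1 (hPC q.2.2)⟩ : ↥C)) ?_
  rintro ⟨j1, z1⟩ ⟨j2, z2⟩ h
  have h' : j1.1 * z1.1 = j2.1 * z2.1 := congrArg Subtype.val h
  set u : G := z2.1 * z1.1⁻¹ with hu
  have huP : u ∈ P := P.mul_mem z2.2 (P.inv_mem z1.2)
  have hj : j1.1 = j2.1 * u := by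
    calc j1.1 = (j1.1 * z1.1) * z1.1⁻¹ := by group
      _ = (j2.1 * z2.1) * z1.1⁻¹ := by rw [h']
      _ = j2.1 * u := by rw [hu]; group
  have hcomm : Commute j2.1 u := (hcent u huP j2.1 j2.2.1).symm
  have h6 : u ^ 6 = 1 := by
    have h1 := j1.2.2
    rw [hj, hcomm.mul_pow, j2.2.2, one_mul] at h1
    exact h1
  have h5 : u ^ 5 = 1 := by
    have := orderOf_dvd_iff_pow_eq_one.mp (Subgroup.orderOf_dvd_natCard P huP)
    rwa [hP] at this
  have hu1 : u = 1 := by
    calc u = u ^ 6 * (u ^ 5)⁻¹ := by group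
      _ = 1 := by rw [h6, h5]; group
  have hz : z2.1 = z1.1 := by
    calc z2.1 = u * z1.1 := by rw [hu]; group
      _ = z1.1 := by rw [hu1, one_mul]
  have hj' : j1.1 = j2.1 := by rw [hj, hu1, mul_one]
  exact Prod.ext (Subtype.ext hj') (Subtype.ext hz.symm)

/-- a nontrivial subgroup `D` of a finite `p`-subgroup `S` which is normalized by `S` contains an element of
order `p` which is central in `S` -/
theorem exists_central_of_normal [Finite G] {p : ℕ} [Fact p.Prime] (S D : Subgroup G) (hS : IsPGroup p S)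
    (hDS : D ≤ S) (hnorm : ∀ s ∈ S, ∀ d ∈ D, s * d * s⁻¹ ∈ D) (hD : D ≠ ⊥) :
    ∃ d ∈ D, orderOf d = p ∧ ∀ s ∈ S, s * d = d * s := by
  have hp : p.Prime := Fact.out
  -- the conjugation action
  set Q : Subgroup (ConjAct G) := S.map (ConjAct.toConjAct (G := G)).toMonoidHom with hQ
  have hQp : IsPGroup p Q := hS.map _
  have hinvar : ∀ y ∈ Q, ∀ a ∈ (D : Set G), y • a ∈ (D : Set G) := by
    rintro _ ⟨s, hs, rfl⟩ a ha
    have : (ConjAct.toConjAct s) • a = s * a * s⁻¹ := ConjAct.toConjAct_smul s a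
    show (ConjAct.toConjAct s) • a ∈ (D : Set G)
    rw [this]
    exact hnorm s hs a ha
  have h1 := card_invariant_modEq (X := G) Q hQp (D : Set G) hinvar
  set Z : Subgroup G := D ⊓ Subgroup.centralizer (S : Set G) with hZ
  have e : Nat.card {a : G // a ∈ (D : Set G) ∧ ∀ y ∈ Q, y • a = a} = Nat.card ↥Z := by
    refine Nat.card_congr
      { toFun := fun a => ⟨a.1, Subgroup.mem_inf.mpr ⟨a.2.1, ?_⟩⟩
        invFun := fun a => ⟨a.1, (Subgroup.mem_inf.mp a.2).1, ?_⟩
        left_inv := fun a => rfl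
        right_inv := fun a => rfl }
    · rw [Subgroup.mem_centralizer_iff]
      intro s hs
      have h2 := a.2.2 (ConjAct.toConjAct s) ⟨s, hs, rfl⟩
      rw [ConjAct.toConjAct_smul] at h2
      calc s * a.1 = s * a.1 * s⁻¹ * s := by group
        _ = a.1 * s := by rw [h2]
    · rintro _ ⟨s, hs, rfl⟩
      have h2 := (Subgroup.mem_centralizer_iff.mp (Subgroup.mem_inf.mp a.2).2) s hs
      show (ConjAct.toConjAct s) • a.1 = a.1
      rw [ConjAct.toConjAct_smul, h2]
      group
  rw [e] at h1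
  have hDp : IsPGroup p D := hS.to_le hDS
  have hDcard : p ∣ Nat.card ↥D := by
    obtain ⟨n, hn⟩ := IsPGroup.iff_card.mp hDp
    rcases Nat.eq_zero_or_pos n with h0 | h0
    · exfalso
      rw [h0, pow_zero] at hn
      exact hD (Subgroup.card_eq_one.mp hn)
    · rw [hn]
      exact dvd_pow_self p h0.ne'
  have hZcard : p ∣ Nat.card ↥Z := by
    have h2 : Nat.card ↥(D : Set G) = Nat.card ↥D := rfl
    rw [h2] at h1
    exact (Nat.modEq_zero_iff_dvd.mp ((h1.symm).trans (Nat.modEq_zero_iff_dvd.mpr hDcard)))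
  obtain ⟨d, hd⟩ := exists_prime_orderOf_dvd_card' (G := ↥Z) p hZcard
  refine ⟨(d : G), (Subgroup.mem_inf.mp d.2).1, by rw [Subgroup.orderOf_coe]; exact hd, ?_⟩
  intro s hs
  exact ((Subgroup.mem_centralizer_iff.mp (Subgroup.mem_inf.mp d.2).2) s hs)

/-- an involution of `N(P) \ C(P)` inverts `P` -/
theorem invol_inverts [Finite G] {p : ℕ} [Fact p.Prime] (P : Subgroup G) (hP : Nat.card ↥P = p) (w : G)
    (hw : w * w = 1) (hwN : w ∈ Subgroup.normalizer (P : Set G))
    (hwC : w ∉ Subgroup.centralizer (P : Set G)) : ∀ z ∈ P, w * z * w⁻¹ = z⁻¹ := by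
  obtain ⟨y0, hy0⟩ := exists_prime_orderOf_dvd_card' (G := ↥P) p (by rw [hP])
  set y : G := (y0 : G) with hy
  have hyo : orderOf y = p := by rw [hy, Subgroup.orderOf_coe]; exact hy0
  have hPy : Subgroup.zpowers y = P := by
    apply Subgroup.eq_of_le_of_card_ge
    · rw [Subgroup.zpowers_le]; exact y0.2
    · rw [Nat.card_zpowers, hyo, hP]
  have hmem : w * y * w⁻¹ ∈ Subgroup.zpowers y := by
    rw [hPy]
    exact (Subgroup.mem_normalizer_iff.mp hwN y).mp y0.2
  have hinv : w * y * w⁻¹ = y⁻¹ := by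
    rcases conj_eq_or_eq_inv y w hyo hw hmem with h | h
    · exfalso
      apply hwC
      rw [← hPy]
      exact mem_centralizer_zpowers y w h
    · exact h
  intro z hz
  rw [← hPy] at hz
  obtain ⟨k, rfl⟩ := hz
  simp only
  rw [← conj_zpow, hinv, inv_zpow]

end Cfsg.Agent.Lib.Helper24.Ord4320
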