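/- helper24: S0977 (order 4320) support file Ord4320Cnt: class multiplication counting -/
import Mathlib
import Cfsg.Agent.Lib.Helper24.IrrFacts

set_option autoImplicit false

namespace Cfsg.Agent.Lib.Helper24.Ord4320

open Cfsg
open scoped ComplexConjugate

universe u

variable {G : Type u} [Group G]

/-- every element is a conjugate of `x` times ... : `G ≃ x^G × C_G(x)` -/
noncomputable def conjAllEquiv (x : G) :
    G ≃ {s : G // IsConj x s} × ↥(Subgroup.centralizer ({x} : Set G)) := by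
  classical
  have hw : ∀ s : {s : G // IsConj x s}, ∃ w : G, w * x * w⁻¹ = s.1 := fun s => isConj_iff.mp s.2
  choose w hwt using hw
  refine
    { toFun := fun g => (⟨g * x * g⁻¹, isConj_iff.mpr ⟨g, rfl⟩⟩,
        ⟨(w ⟨g * x * g⁻¹, isConj_iff.mpr ⟨g, rfl⟩⟩)⁻¹ * g, ?_⟩)
      invFun := fun sz => w sz.1 * sz.2.1
      left_inv := ?_
      right_inv := ?_ }
  · rw [Subgroup.mem_centralizer_singleton_iff]
    have h := hwt ⟨g * x * g⁻¹, isConj_iff.mpr ⟨g, rfl⟩⟩
    simp only at h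
    set v := w ⟨g * x * g⁻¹, isConj_iff.mpr ⟨g, rfl⟩⟩ with hv
    have h2 : x = v⁻¹ * (g * x * g⁻¹) * v := by rw [← h]; group
    calc v⁻¹ * g * x = v⁻¹ * (g * x * g⁻¹) * v * (v⁻¹ * g) := by group
      _ = x * (v⁻¹ * g) := by rw [← h2]
  · intro g
    simp
  · rintro ⟨s, z⟩
    have h := hwt s
    have hz : z.1 * x = x * z.1 := Subgroup.mem_centralizer_singleton_iff.mp z.2
    have hs : (w s * z.1) * x * (w s * z.1)⁻¹ = s.1 := by
      calc (w s * z.1) * x * (w s * z.1)⁻¹ = w s * (z.1 * x) * z.1⁻¹ * (w s)⁻¹ := by group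
        _ = w s * (x * z.1) * z.1⁻¹ * (w s)⁻¹ := by rw [hz]
        _ = w s * x * (w s)⁻¹ := by group
        _ = s.1 := h
    have hs' : (⟨(w s * z.1) * x * (w s * z.1)⁻¹, isConj_iff.mpr ⟨_, rfl⟩⟩ : {s : G // IsConj x s}) = s :=
      Subtype.ext hs
    apply Prod.ext
    · exact hs'
    · apply Subtype.ext
      simp only
      rw [hs']
      group

theorem conjAllEquiv_fst (x g : G) : ((conjAllEquiv x g).1 : G) = g * x * g⁻¹ := rfl

/-- counting pairs of conjugators through pairs of conjugates -/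
theorem card_pairs_conj [Finite G] (x y z : G) :
    Nat.card {p : G × G // p.1 * x * p.1⁻¹ * (p.2 * y * p.2⁻¹) = z} =
      Nat.card {s : G // IsConj x s ∧ IsConj y (s⁻¹ * z)} *
        (Nat.card ↥(Subgroup.centralizer ({x} : Set G)) * Nat.card ↥(Subgroup.centralizer ({y} : Set G))) := by
  have e1 : {p : G × G // p.1 * x * p.1⁻¹ * (p.2 * y * p.2⁻¹) = z} ≃
      {q : ({s : G // IsConj x s} × ↥(Subgroup.centralizer ({x} : Set G))) ×
        ({s : G // IsConj y s} × ↥(Subgroup.centralizer ({y} : Set G))) // (q.1.1 : G) * (q.2.1 : G) = z} :=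
    Equiv.subtypeEquiv ((conjAllEquiv x).prodCongr (conjAllEquiv y)) (fun p => by
      simp only [Equiv.prodCongr_apply, Prod.map_fst, Prod.map_snd, conjAllEquiv_fst])
  have e2 : {q : ({s : G // IsConj x s} × ↥(Subgroup.centralizer ({x} : Set G))) ×
        ({s : G // IsConj y s} × ↥(Subgroup.centralizer ({y} : Set G))) // (q.1.1 : G) * (q.2.1 : G) = z} ≃
      {s : G // IsConj x s ∧ IsConj y (s⁻¹ * z)} ×
        (↥(Subgroup.centralizer ({x} : Set G)) × ↥(Subgroup.centralizer ({y} : Set G))) :=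
    { toFun := fun q => (⟨q.1.1.1.1, q.1.1.1.2, by
          have h : (q.1.1.1.1 : G)⁻¹ * z = q.1.2.1.1 := by
            have h0 := q.2
            calc (q.1.1.1.1 : G)⁻¹ * z = (q.1.1.1.1 : G)⁻¹ * ((q.1.1.1 : G) * (q.1.2.1 : G)) := by rw [h0]
              _ = q.1.2.1.1 := by group
          rw [h]; exact q.1.2.1.2⟩, (q.1.1.2, q.1.2.2))
      invFun := fun r => ⟨((⟨r.1.1, r.1.2.1⟩, r.2.1), (⟨r.1.1⁻¹ * z, r.1.2.2⟩, r.2.2)), by simp⟩
      left_inv := by
        rintro ⟨⟨⟨s, c⟩, ⟨t, d⟩⟩, h⟩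
        simp only at h
        apply Subtype.ext
        simp only
        refine Prod.ext rfl (Prod.ext (Subtype.ext ?_) rfl)
        simp only
        rw [← h]; group
      right_inv := by
        rintro ⟨⟨s, hs⟩, c, d⟩
        rfl }
  rw [Nat.card_congr (e1.trans e2), Nat.card_prod, Nat.card_prod]

open Classical in
/-- the class multiplication formula: number of pairs of conjugators `(a, b)` with `x^a y^b = z` -/
theorem class_mul_count [Fintype G] [Fintype (IrrCharacter G)] (x y z : G) :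
    (Nat.card {p : G × G // p.1 * x * p.1⁻¹ * (p.2 * y * p.2⁻¹) = z} : ℂ) =
      (Fintype.card G : ℂ) * ∑ χ : IrrCharacter G,
        (χ : G → ℂ) x * (χ : G → ℂ) y * (χ : G → ℂ) z⁻¹ / (χ : G → ℂ) 1 := by
  have hG : (Fintype.card G : ℂ) ≠ 0 := by
    have : 0 < Fintype.card G := Fintype.card_pos
    exact_mod_cast this.ne'
  have hT : ∑ a : G, ∑ b : G,
      (if a * x * a⁻¹ * (b * y * b⁻¹) * z⁻¹ = 1 then (Fintype.card G : ℂ) else 0) =
      ∑ χ : IrrCharacter G, (Fintype.card G : ℂ) ^ 2 * ((χ : G → ℂ) x * (χ : G → ℂ) y) * (χ : G → ℂ) z⁻¹ /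
        (χ : G → ℂ) 1 := by
    have h1 : ∀ a b : G, (if a * x * a⁻¹ * (b * y * b⁻¹) * z⁻¹ = 1 then (Fintype.card G : ℂ) else 0) =
        ∑ χ : IrrCharacter G, (χ : G → ℂ) 1 * (χ : G → ℂ) (a * x * a⁻¹ * (b * y * b⁻¹) * z⁻¹) := by
      intro a b
      rw [sum_irr_degree_mul]
    rw [Finset.sum_congr rfl (fun a _ => Finset.sum_congr rfl (fun b _ => h1 a b))]
    rw [Finset.sum_congr rfl (fun a _ => Finset.sum_comm)]
    rw [Finset.sum_comm]
    apply Finset.sum_congr rfl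
    intro χ _
    simp only [← Finset.mul_sum]
    have h2 := irr_class_mul3 χ x y z⁻¹
    have hne := irr_apply_one_ne_zero χ
    rw [eq_div_iff hne]
    linear_combination h2
  have hL : ∑ a : G, ∑ b : G,
      (if a * x * a⁻¹ * (b * y * b⁻¹) * z⁻¹ = 1 then (Fintype.card G : ℂ) else 0) =
      (Fintype.card G : ℂ) * (Nat.card {p : G × G // p.1 * x * p.1⁻¹ * (p.2 * y * p.2⁻¹) = z} : ℂ) := by
    rw [← Fintype.sum_prod_type' (f := fun a b =>
      (if a * x * a⁻¹ * (b * y * b⁻¹) * z⁻¹ = 1 then (Fintype.card G : ℂ) else 0))]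
    have hc : ∀ p : G × G, (p.1 * x * p.1⁻¹ * (p.2 * y * p.2⁻¹) * z⁻¹ = 1) ↔
        (p.1 * x * p.1⁻¹ * (p.2 * y * p.2⁻¹) = z) := by
      intro p
      rw [mul_inv_eq_one]
    simp only [hc]
    rw [Finset.sum_ite, Finset.sum_const, Finset.sum_const_zero, add_zero, nsmul_eq_mul,
      Nat.card_eq_fintype_card, Fintype.card_subtype]
    ring
  rw [hL] at hT
  have h4 : (Fintype.card G : ℂ) * (Nat.card {p : G × G // p.1 * x * p.1⁻¹ * (p.2 * y * p.2⁻¹) = z} : ℂ) =
      (Fintype.card G : ℂ) * ((Fintype.card G : ℂ) * ∑ χ : IrrCharacter G,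
        (χ : G → ℂ) x * (χ : G → ℂ) y * (χ : G → ℂ) z⁻¹ / (χ : G → ℂ) 1) := by
    rw [hT, Finset.mul_sum, Finset.mul_sum]
    apply Finset.sum_congr rfl
    intro χ _
    ring
  exact mul_left_cancel₀ hG h4

end Cfsg.Agent.Lib.Helper24.Ord4320
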