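/- helper24: order 7920, prime graph tools: edges from coprime action, Frattini, Burnside transfer, parity of involutions in perfect groups -/
import Mathlib
import Cfsg.Agent.Lib.Helper7.SimpleTools
import Cfsg.Agent.Lib.Helper7.Involution
import Cfsg.Agent.Lib.Helper24.PerfectLemmas

set_option autoImplicit false

namespace Cfsg.Agent.Lib.Helper24.Ord7920

variable {G : Type*} [Group G]


/-- edge of the prime graph: there is an element of order `r * s` -/
def E (G : Type*) [Group G] (r s : ℕ) : Prop := ∃ g : G, orderOf g = r * s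

theorem E.symm {r s : ℕ} (h : E G r s) : E G s r := by
  obtain ⟨g, hg⟩ := h
  exact ⟨g, by rw [hg, mul_comm]⟩

theorem E_of_commute {r s : ℕ} (x y : G) (hx : orderOf x = r) (hy : orderOf y = s)
    (hxy : Commute x y) (hrs : r.Coprime s) : E G r s :=
  ⟨x * y, by rw [hxy.orderOf_mul_eq_mul_orderOf_of_coprime (by rwa [hx, hy]), hx, hy]⟩

/-- a nontrivial element of prime power order has a power of prime order -/
theorem exists_pow_orderOf_eq_prime {q : ℕ} [hq : Fact q.Prime] (t : G) (ht : ∃ k, orderOf t = q ^ k)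
    (ht1 : t ≠ 1) : ∃ m : ℕ, orderOf (t ^ m) = q := by
  obtain ⟨k, hk⟩ := ht
  have hk0 : k ≠ 0 := by
    rintro rfl
    rw [pow_zero, orderOf_eq_one_iff] at hk
    exact ht1 hk
  obtain ⟨j, rfl⟩ := Nat.exists_eq_succ_of_ne_zero hk0
  refine ⟨q ^ j, ?_⟩
  rw [orderOf_pow_of_dvd (pow_ne_zero _ hq.out.ne_zero) (by rw [hk]; exact pow_dvd_pow q (Nat.le_succ j)), hk,
    pow_succ, Nat.mul_div_cancel_left _ (pow_pos hq.out.pos j)]

theorem E_of_commute_pelts {q r : ℕ} [hq : Fact q.Prime] [hr : Fact r.Prime] (hqr : q ≠ r) (t y : G)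
    (ht : ∃ k, orderOf t = q ^ k) (ht1 : t ≠ 1) (hy : ∃ k, orderOf y = r ^ k) (hy1 : y ≠ 1)
    (hc : Commute t y) : E G q r := by
  obtain ⟨m, hm⟩ := exists_pow_orderOf_eq_prime t ht ht1
  obtain ⟨n, hn⟩ := exists_pow_orderOf_eq_prime y hy hy1
  exact E_of_commute (t ^ m) (y ^ n) hm hn (hc.pow_pow m n) ((Nat.coprime_primes hq.out hr.out).mpr hqr)

/-- conjugation action of a subgroup `T ≤ N(R)` on the nonidentity elements of `R` -/
@[instance_reducible]
def conjNe (T R : Subgroup G) (hTR : T ≤ Subgroup.normalizer (R : Set G)) : MulAction T {y : R // y ≠ 1} where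
  smul t y := ⟨⟨(t : G) * (y.1 : G) * (t : G)⁻¹,
      (Subgroup.mem_normalizer_iff.mp (hTR t.2) (y.1 : G)).mp y.1.2⟩, by
    intro h
    apply y.2
    have h1 : (t : G) * (y.1 : G) * (t : G)⁻¹ = 1 := congrArg Subtype.val h
    have h2 : (y.1 : G) = 1 := by
      have := congrArg (fun z => (t : G)⁻¹ * z * (t : G)) h1
      simpa [mul_assoc] using this
    exact Subtype.ext h2⟩
  one_smul y := by
    apply Subtype.ext; apply Subtype.ext
    show ((1 : T) : G) * (y.1 : G) * ((1 : T) : G)⁻¹ = (y.1 : G)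
    simp
  mul_smul s t y := by
    apply Subtype.ext; apply Subtype.ext
    show ((s * t : T) : G) * (y.1 : G) * ((s * t : T) : G)⁻¹ =
      (s : G) * ((t : G) * (y.1 : G) * (t : G)⁻¹) * (s : G)⁻¹
    simp [mul_assoc]

theorem card_ne_one_subtype [Finite G] (R : Subgroup G) : Nat.card {y : R // y ≠ 1} = Nat.card R - 1 := by
  classical
  have h := Nat.card_congr (Equiv.optionSubtypeNe (1 : R))
  rw [Finite.card_option] at h
  omega

/-- a `q`-group `T` normalizing an `r`-group `R` with `|T| ∤ |R| - 1` gives an element of order `q r` -/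
theorem E_of_normalizes [Finite G] {q r : ℕ} [Fact q.Prime] [Fact r.Prime] (hqr : q ≠ r)
    (T R : Subgroup G) (hT : IsPGroup q T) (hR : IsPGroup r R)
    (hTR : T ≤ Subgroup.normalizer (R : Set G)) (hnd : ¬ Nat.card T ∣ Nat.card R - 1) : E G q r := by
  by_contra hE
  let _inst := conjNe T R hTR
  have hfree : ∀ y : {y : R // y ≠ 1}, MulAction.stabilizer T y = ⊥ := by
    intro y
    rw [Subgroup.eq_bot_iff_forall]
    intro t ht
    by_contra ht1
    apply hE
    have hfix : (t : G) * (y.1 : G) * (t : G)⁻¹ = (y.1 : G) := by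
      have := MulAction.mem_stabilizer_iff.mp ht
      exact congrArg (fun z : {y : R // y ≠ 1} => ((z.1 : R) : G)) this
    have hc : Commute (t : G) (y.1 : G) := by
      unfold Commute SemiconjBy
      calc (t : G) * (y.1 : G) = ((t : G) * (y.1 : G) * (t : G)⁻¹) * (t : G) := by group
        _ = (y.1 : G) * (t : G) := by rw [hfix]
    refine E_of_commute_pelts hqr (t : G) (y.1 : G) ?_ ?_ ?_ ?_ hc
    · obtain ⟨k, hk⟩ := (IsPGroup.iff_orderOf.mp hT) t
      exact ⟨k, by rw [← hk, Subgroup.orderOf_coe]⟩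
    · intro h; exact ht1 (Subtype.ext h)
    · obtain ⟨k, hk⟩ := (IsPGroup.iff_orderOf.mp hR) y.1
      exact ⟨k, by rw [← hk, Subgroup.orderOf_coe]⟩
    · intro h; exact y.2 (Subtype.ext h)
  have e := MulAction.selfEquivOrbitsQuotientProd hfree
  have hcard : Nat.card {y : R // y ≠ 1} =
      Nat.card (Quotient (MulAction.orbitRel T {y : R // y ≠ 1})) * Nat.card T := by
    rw [Nat.card_congr e, Nat.card_prod]
  rw [card_ne_one_subtype] at hcard
  exact hnd ⟨_, by rw [hcard, mul_comm]⟩

/-- Frattini + Sylow: for `K` normal and `R` a Sylow subgroup of `K`, the normalizer of `R` in `G`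
contains subgroups of every prime power order dividing the index of `K` -/
theorem exists_subgroup_normalizing [Finite G] (K : Subgroup G) [K.Normal] {l r : ℕ} [Fact l.Prime]
    [Fact r.Prime] (R : Sylow r K) (n : ℕ) (hn : l ^ n ∣ K.index) :
    ∃ T : Subgroup G, T ≤ Subgroup.normalizer (((R : Subgroup K).map K.subtype : Subgroup G) : Set G) ∧
      Nat.card T = l ^ n := by
  have hF := Sylow.normalizer_sup_eq_top R
  set NR := Subgroup.normalizer (((R : Subgroup K).map K.subtype : Subgroup G) : Set G) with hNR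
  have h1 : K.relIndex NR = K.index := by
    have := Subgroup.relIndex_sup_right NR K
    rw [hF, Subgroup.relIndex_top_right] at this
    exact this.symm
  have h2 : l ^ n ∣ Nat.card NR := hn.trans (h1 ▸ Subgroup.relIndex_dvd_card K NR)
  obtain ⟨T', hT'⟩ := Sylow.exists_subgroup_card_pow_prime l h2
  exact ⟨T'.map NR.subtype, Subgroup.map_subtype_le T', by rw [Subgroup.card_subtype, hT']⟩

/-- Lemma V: `K` normal in `G`, `l ^ n` divides the index of `K`, `r` divides `|K|`, and `l ^ n` does not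
divide `r ^ m - 1` for the possible orders `r ^ m` of a Sylow `r`-subgroup of `K`: then there is an
element of order `l r` -/
theorem E_of_normal [Finite G] (K : Subgroup G) [K.Normal] {l r : ℕ} [Fact l.Prime] [hr : Fact r.Prime]
    (hne : l ≠ r) (n : ℕ) (hn : l ^ n ∣ K.index) (hrK : r ∣ Nat.card K)
    (hnd : ∀ m, 1 ≤ m → r ^ m ∣ Nat.card K → ¬ l ^ n ∣ r ^ m - 1) : E G l r := by
  obtain ⟨R⟩ : Nonempty (Sylow r K) := inferInstance
  obtain ⟨T, hTN, hTc⟩ := exists_subgroup_normalizing K (l := l) R n hn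
  have hRp : IsPGroup r ((R : Subgroup K).map K.subtype) := R.2.map K.subtype
  have hTp : IsPGroup l T := IsPGroup.of_card hTc
  have hRc : Nat.card ((R : Subgroup K).map K.subtype) = r ^ (Nat.card K).factorization r := by
    rw [Subgroup.card_subtype, Sylow.card_eq_multiplicity]
  apply E_of_normalizes hne T _ hTp hRp hTN
  rw [hTc, hRc]
  apply hnd
  · have : 0 < (Nat.card K).factorization r :=
      hr.out.factorization_pos_of_dvd Nat.card_pos.ne' hrK
    omega
  · exact Nat.ordProj_dvd _ _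

/-- a normal `r`-subgroup `K` and a prime power `l ^ n` dividing `|G|` but not `|K| - 1` -/
theorem E_of_normal_pgroup [Finite G] (K : Subgroup G) [K.Normal] {l r : ℕ} [Fact l.Prime] [Fact r.Prime]
    (hne : l ≠ r) (hK : IsPGroup r K) (n : ℕ) (hn : l ^ n ∣ Nat.card G)
    (hnd : ¬ l ^ n ∣ Nat.card K - 1) : E G l r := by
  obtain ⟨T, hT⟩ := Sylow.exists_subgroup_card_pow_prime l hn
  apply E_of_normalizes hne T K (IsPGroup.of_card hT) hK
  · rw [Subgroup.normalizer_eq_top]; exact le_top
  · rwa [hT]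

/-- an element of prime order `s` centralizing a subgroup `K` whose order is divisible by the prime `r ≠ s` -/
theorem E_of_centralizer [Finite G] (K : Subgroup G) {s r : ℕ} [hs : Fact s.Prime] [hr : Fact r.Prime]
    (hne : s ≠ r) (c : G) (hc : c ∈ Subgroup.centralizer (K : Set G)) (hco : orderOf c = s)
    (hrK : r ∣ Nat.card K) : E G s r := by
  obtain ⟨y, hy⟩ := exists_prime_orderOf_dvd_card' (G := K) r hrK
  refine E_of_commute c (y : G) hco (by rw [Subgroup.orderOf_coe]; exact hy) ?_
    ((Nat.coprime_primes hs.out hr.out).mpr hne)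
  exact ((Subgroup.mem_centralizer_iff.mp hc) (y : G) y.2).symm



/-- Burnside transfer: a Sylow subgroup in the centre of its normalizer obstructs perfectness -/
theorem not_perfect_of_NC {H : Type*} [Group H] [Finite H] (p : ℕ) [Fact p.Prime] (P : Sylow p H)
    (hNC : Subgroup.normalizer ((P : Subgroup H) : Set H) ≤ Subgroup.centralizer ((P : Subgroup H) : Set H))
    (hdvd : p ∣ Nat.card H) : commutator H ≠ ⊤ := by
  intro hperf
  have hcomm : ∀ a b : H, MonoidHom.transferSylow P hNC a * MonoidHom.transferSylow P hNC b =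
      MonoidHom.transferSylow P hNC b * MonoidHom.transferSylow P hNC a := by
    intro a b
    apply Subtype.ext
    exact hNC (Subgroup.le_normalizer (MonoidHom.transferSylow P hNC b).2) _ (MonoidHom.transferSylow P hNC a).2
  have hker : (MonoidHom.transferSylow P hNC).ker = ⊤ := by
    ext g
    simp only [MonoidHom.mem_ker, Subgroup.mem_top, iff_true]
    exact Cfsg.Agent.Lib.Helper24.hom_eq_one_of_perfect hperf _ hcomm g
  have h := MonoidHom.not_dvd_card_ker_transferSylow P hNC
  rw [hker, Subgroup.card_top] at h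
  exact h hdvd

/-- an element whose order is the full (nontrivial) `2`-part of `|H|` obstructs perfectness -/
theorem not_perfect_of_cyclic_two {H : Type*} [Group H] [Finite H] (x : H) (j : ℕ) (hj : 1 ≤ j)
    (hx : orderOf x = 2 ^ j) (hcard : (Nat.card H).factorization 2 = j) : commutator H ≠ ⊤ := by
  have h2 : 2 ∣ Nat.card H := by
    have h1 : orderOf x ∣ Nat.card H := orderOf_dvd_natCard x
    rw [hx] at h1
    exact (dvd_pow_self 2 (by omega)).trans h1
  have hmf : (Nat.card H).minFac = 2 := (Nat.minFac_eq_two_iff _).mpr h2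
  have hc : Nat.card (Subgroup.zpowers x) = 2 ^ (Nat.card H).factorization 2 := by
    rw [Nat.card_zpowers, hx, hcard]
  let P : Sylow 2 H := Sylow.ofCard (Subgroup.zpowers x) hc
  have hcyc : IsCyclic (P : Subgroup H) := by
    show IsCyclic (Subgroup.zpowers x)
    infer_instance
  exact not_perfect_of_NC 2 P (IsCyclic.normalizer_le_centralizer hmf hcyc) h2

/-- in a perfect group every element acts as an even permutation -/
theorem sign_eq_one_of_perfect {H : Type*} [Group H] (hperf : commutator H = ⊤) {X : Type*} [Fintype X]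
    [DecidableEq X] [MulAction H X] (t : H) : Equiv.Perm.sign (MulAction.toPermHom H X t) = 1 := by
  have := Cfsg.Agent.Lib.Helper24.hom_eq_one_of_perfect hperf
    (Equiv.Perm.sign.comp (MulAction.toPermHom H X)) (fun a b => mul_comm _ _) t
  simpa using this

/-- in a perfect group an involution moves a multiple of four points -/
theorem four_dvd_moved_of_perfect {H : Type*} [Group H] (hperf : commutator H = ⊤) {X : Type*} [Finite X]
    [MulAction H X] (t : H) (ht : t ^ 2 = 1) :
    ∃ s : ℕ, 4 ∣ s ∧ s + Nat.card (MulAction.fixedBy X t) = Nat.card X := by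
  classical
  have : Fintype X := Fintype.ofFinite X
  refine ⟨(MulAction.toPermHom H X t).support.card, ?_, ?_⟩
  · have h1 := sign_eq_one_of_perfect hperf (X := X) t
    have h2 : (MulAction.toPermHom H X t) ^ 2 = 1 := by rw [← map_pow, ht, map_one]
    have h3 := Cfsg.Agent.Lib.Helper7.sign_of_sq_eq_one _ h2
    rw [h1] at h3
    have heven : Even ((MulAction.toPermHom H X t).support.card / 2) := by
      by_contra hodd
      rw [Nat.not_even_iff_odd] at hodd
      rw [hodd.neg_one_pow] at h3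
      exact absurd h3 (by decide)
    have h2dvd : 2 ∣ (MulAction.toPermHom H X t).support.card := by
      by_cases h1 : MulAction.toPermHom H X t = 1
      · rw [h1]; simp
      have ho : orderOf (MulAction.toPermHom H X t) = 2 := orderOf_eq_prime h2 h1
      obtain ⟨n, hn⟩ := Equiv.Perm.cycleType_prime_order (σ := MulAction.toPermHom H X t)
        (by rw [ho]; exact Nat.prime_two)
      rw [← Equiv.Perm.sum_cycleType, hn, Multiset.sum_replicate, smul_eq_mul, ho]
      exact dvd_mul_left 2 _
    obtain ⟨k, hk⟩ := heven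
    obtain ⟨m, hm⟩ := h2dvd
    omega
  · rw [Cfsg.Agent.Lib.Helper7.card_support_add_card_fixedBy (X := X) t, Nat.card_eq_fintype_card]

/-- divisors of `7920` -/
theorem dvd_7920_cases (d : ℕ) (h : d ∣ 7920) :
    ∃ a b c e : ℕ, a ≤ 4 ∧ b ≤ 2 ∧ c ≤ 1 ∧ e ≤ 1 ∧ d = 2 ^ a * 3 ^ b * 5 ^ c * 11 ^ e := by
  have h1 : d ∣ 2 ^ 4 * (3 ^ 2 * (5 ^ 1 * 11 ^ 1)) := by norm_num; exact h
  obtain ⟨d1, d2, hd1, hd2, rfl⟩ := (Nat.dvd_mul).mp h1
  obtain ⟨d3, d4, hd3, hd4, rfl⟩ := (Nat.dvd_mul).mp hd2
  obtain ⟨d5, d6, hd5, hd6, rfl⟩ := (Nat.dvd_mul).mp hd4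
  obtain ⟨a, ha, rfl⟩ := (Nat.dvd_prime_pow Nat.prime_two).mp hd1
  obtain ⟨b, hb, rfl⟩ := (Nat.dvd_prime_pow Nat.prime_three).mp hd3
  obtain ⟨c, hc, rfl⟩ := (Nat.dvd_prime_pow Nat.prime_five).mp hd5
  obtain ⟨e, he, rfl⟩ := (Nat.dvd_prime_pow (by norm_num : Nat.Prime 11)).mp hd6
  exact ⟨a, b, c, e, ha, hb, hc, he, by ring⟩

end Cfsg.Agent.Lib.Helper24.Ord7920
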