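/- helper24: order 7920, a nontrivial normal subgroup of prime power order forces a connected prime graph -/
import Mathlib
import Cfsg.Agent.Lib.Helper24.Ord7920A

set_option autoImplicit false

namespace Cfsg.Agent.Lib.Helper24.Ord7920

variable {G : Type*} [Group G]

/-- the primes dividing `7920` -/
def PS : Finset ℕ := {2, 3, 5, 11}

/-- connectedness of the prime graph on `{2, 3, 5, 11}` -/
def Conn (G : Type*) [Group G] : Prop :=
  ∀ P : ℕ → Prop, (∀ r ∈ PS, ∀ s ∈ PS, E G r s → (P r ↔ P s)) → (P 2 ↔ P 3) ∧ (P 2 ↔ P 5) ∧ (P 2 ↔ P 11)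

theorem conn_of_edges {a b c d e f : ℕ} (ha : a ∈ PS) (hb : b ∈ PS) (hc : c ∈ PS) (hd : d ∈ PS)
    (he : e ∈ PS) (hf : f ∈ PS) (h1 : E G a b) (h2 : E G c d) (h3 : E G e f)
    (hconn : ∀ P : ℕ → Prop, (P a ↔ P b) → (P c ↔ P d) → (P e ↔ P f) →
      (P 2 ↔ P 3) ∧ (P 2 ↔ P 5) ∧ (P 2 ↔ P 11)) : Conn G :=
  fun P h => hconn P (h a ha b hb h1) (h c hc d hd h2) (h e he f hf h3)

theorem pow_three_dvd_7920 {m : ℕ} (h : 3 ^ m ∣ 7920) : m ≤ 2 := by
  by_contra hlt
  have h1 : 3 ^ 3 ∣ 3 ^ m := pow_dvd_pow 3 (by omega)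
  have := h1.trans h
  norm_num at this

theorem pow_two_dvd_7920 {m : ℕ} (h : 2 ^ m ∣ 7920) : m ≤ 4 := by
  by_contra hlt
  have h1 : 2 ^ 5 ∣ 2 ^ m := pow_dvd_pow 2 (by omega)
  have := h1.trans h
  norm_num at this

theorem pow_five_dvd_7920 {m : ℕ} (h : 5 ^ m ∣ 7920) : m ≤ 1 := by
  by_contra hlt
  have h1 : 5 ^ 2 ∣ 5 ^ m := pow_dvd_pow 5 (by omega)
  have := h1.trans h
  norm_num at this

theorem pow_eleven_dvd_7920 {m : ℕ} (h : 11 ^ m ∣ 7920) : m ≤ 1 := by
  by_contra hlt
  have h1 : 11 ^ 2 ∣ 11 ^ m := pow_dvd_pow 11 (by omega)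
  have := h1.trans h
  norm_num at this

instance fact_prime_five : Fact (Nat.Prime 5) := ⟨by norm_num⟩

instance fact_prime_eleven : Fact (Nat.Prime 11) := ⟨by norm_num⟩

/-- order of a nontrivial `p`-subgroup -/
theorem card_pgroup_of_ne_bot [Finite G] {p : ℕ} [Fact p.Prime] (K : Subgroup G) (hK : IsPGroup p K)
    (hne : K ≠ ⊥) : ∃ m, 1 ≤ m ∧ Nat.card K = p ^ m := by
  obtain ⟨m, hm⟩ := hK.exists_card_eq
  refine ⟨m, ?_, hm⟩
  by_contra h0
  have : m = 0 := by omega
  rw [this, pow_zero] at hm
  exact hne (Subgroup.card_eq_one.mp hm)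

theorem conn_of_normal_3 [Finite G] (hord : Nat.card G = 7920) (K : Subgroup G) [K.Normal]
    (hK : IsPGroup 3 K) (hne : K ≠ ⊥) : Conn G := by
  obtain ⟨m, hm1, hm⟩ := card_pgroup_of_ne_bot K hK hne
  have hm2 : m ≤ 2 := pow_three_dvd_7920 (by rw [← hm, ← hord]; exact Subgroup.card_subgroup_dvd_card K)
  have e2 : E G 2 3 := E_of_normal_pgroup K (by decide) hK 4 (by rw [hord]; norm_num)
    (by rw [hm]; interval_cases m <;> norm_num)
  have e5 : E G 5 3 := E_of_normal_pgroup K (by decide) hK 1 (by rw [hord]; norm_num)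
    (by rw [hm]; interval_cases m <;> norm_num)
  have e11 : E G 11 3 := E_of_normal_pgroup K (by decide) hK 1 (by rw [hord]; norm_num)
    (by rw [hm]; interval_cases m <;> norm_num)
  exact conn_of_edges (by decide) (by decide) (by decide) (by decide) (by decide) (by decide) e2 e5 e11
    (by intro P; tauto)

theorem conn_of_normal_5 [Finite G] (hord : Nat.card G = 7920) (K : Subgroup G) [K.Normal]
    (hK : IsPGroup 5 K) (hne : K ≠ ⊥) : Conn G := by
  obtain ⟨m, hm1, hm⟩ := card_pgroup_of_ne_bot K hK hne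
  have hm2 : m ≤ 1 := pow_five_dvd_7920 (by rw [← hm, ← hord]; exact Subgroup.card_subgroup_dvd_card K)
  have e2 : E G 2 5 := E_of_normal_pgroup K (by decide) hK 4 (by rw [hord]; norm_num)
    (by rw [hm]; interval_cases m; norm_num)
  have e3 : E G 3 5 := E_of_normal_pgroup K (by decide) hK 2 (by rw [hord]; norm_num)
    (by rw [hm]; interval_cases m; norm_num)
  have e11 : E G 11 5 := E_of_normal_pgroup K (by decide) hK 1 (by rw [hord]; norm_num)
    (by rw [hm]; interval_cases m; norm_num)
  exact conn_of_edges (by decide) (by decide) (by decide) (by decide) (by decide) (by decide) e2 e3 e11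
    (by intro P; tauto)

theorem conn_of_normal_11 [Finite G] (hord : Nat.card G = 7920) (K : Subgroup G) [K.Normal]
    (hK : Nat.card K = 11) : Conn G := by
  have hKp : IsPGroup 11 K := IsPGroup.of_card (n := 1) (by simpa using hK)
  have e2 : E G 2 11 := E_of_normal_pgroup K (by decide) hKp 4 (by rw [hord]; norm_num)
    (by rw [hK]; norm_num)
  have e3 : E G 3 11 := E_of_normal_pgroup K (by decide) hKp 2 (by rw [hord]; norm_num)
    (by rw [hK]; norm_num)
  set C := Subgroup.centralizer (K : Set G) with hC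
  have hidx : C.index ∣ 10 := by
    have := Cfsg.Agent.Lib.Helper7.relIndex_centralizer_normalizer_dvd_of_prime (p := 11) K hK
    rwa [Subgroup.normalizer_eq_top, Subgroup.relIndex_top_right] at this
  have hmul : Nat.card C * C.index = 7920 := by rw [← hord]; exact Subgroup.card_mul_index C
  by_cases h5 : 5 ∣ Nat.card C
  · obtain ⟨c, hc⟩ := exists_prime_orderOf_dvd_card' (G := C) 5 h5
    have e5 : E G 5 11 := E_of_centralizer K (by decide) (c : G) c.2
      (by rw [Subgroup.orderOf_coe]; exact hc) (by rw [hK])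
    exact conn_of_edges (by decide) (by decide) (by decide) (by decide) (by decide) (by decide) e2 e3 e5
      (by intro P; tauto)
  · have h5i : 5 ^ 1 ∣ C.index := by
      have h : 5 ∣ Nat.card C * C.index := by rw [hmul]; norm_num
      rw [pow_one]
      exact ((Nat.Prime.dvd_mul Nat.prime_five).mp h).resolve_left h5
    have h3 : 3 ∣ Nat.card C := by
      have h : 3 ∣ Nat.card C * C.index := by rw [hmul]; norm_num
      rcases (Nat.Prime.dvd_mul Nat.prime_three).mp h with h | h
      · exact h
      · exfalso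
        have := h.trans hidx
        norm_num at this
    have e5 : E G 5 3 := by
      refine E_of_normal C (by decide) 1 h5i h3 ?_
      intro m hm1 hm
      have hm2 : m ≤ 2 := pow_three_dvd_7920 (hm.trans (by rw [← hord]; exact Subgroup.card_subgroup_dvd_card C))
      interval_cases m <;> norm_num
    exact conn_of_edges (by decide) (by decide) (by decide) (by decide) (by decide) (by decide) e2 e3 e5
      (by intro P; tauto)

/-- fixed point congruence: an element of prime order `p` centralizes a normal subgroup `K` as soon as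
`|K|` is the only divisor of `|K|` in its class mod `p` -/
theorem mem_centralizer_of_card [Finite G] (K : Subgroup G) [K.Normal] (x : G) {p : ℕ} [Fact p.Prime]
    (hx : orderOf x = p) (h : ∀ d, d ∣ Nat.card K → Nat.card K ≡ d [MOD p] → d = Nat.card K) :
    x ∈ Subgroup.centralizer (K : Set G) := by
  let T := Subgroup.zpowers x
  have hT : IsPGroup p T := IsPGroup.of_card (n := 1) (by rw [Nat.card_zpowers, hx, pow_one])
  let _inst : MulAction T K := MulAction.compHom K ((MulAut.conjNormal (H := K)).comp T.subtype)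
  have hsm : ∀ (t : T) (k : K), ((t • k : K) : G) = (t : G) * (k : G) * (t : G)⁻¹ := fun t k => rfl
  have h1 := hT.card_modEq_card_fixedPoints K
  let D : Subgroup K := (Subgroup.centralizer ({x} : Set G)).subgroupOf K
  have h2 : Nat.card (MulAction.fixedPoints T K) = Nat.card D := by
    apply Nat.card_congr
    apply Equiv.subtypeEquivRight
    intro k
    rw [MulAction.mem_fixedPoints]
    show _ ↔ (k : G) ∈ Subgroup.centralizer ({x} : Set G)
    rw [Subgroup.mem_centralizer_singleton_iff]
    constructor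
    · intro hk
      have := hk ⟨x, Subgroup.mem_zpowers x⟩
      have h3 : x * (k : G) * x⁻¹ = (k : G) := by
        rw [← hsm ⟨x, Subgroup.mem_zpowers x⟩ k, this]
      calc (k : G) * x = (x * (k : G) * x⁻¹) * x := by rw [h3]
        _ = x * (k : G) := by group
    · intro hk t
      apply Subtype.ext
      rw [hsm]
      obtain ⟨t, ⟨n, rfl⟩⟩ := t
      have hc : Commute (x ^ n) (k : G) := (Commute.zpow_left (show Commute x (k : G) from hk.symm) n)
      show x ^ n * (k : G) * (x ^ n)⁻¹ = (k : G)
      rw [hc.eq]; group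
  rw [h2] at h1
  have h3 := h (Nat.card D) (Subgroup.card_subgroup_dvd_card D) h1
  have h4 : D = ⊤ := Subgroup.card_eq_iff_eq_top D |>.mp h3
  rw [Subgroup.mem_centralizer_iff]
  intro k hk
  have : (⟨k, hk⟩ : K) ∈ D := by rw [h4]; trivial
  have h5 : k ∈ Subgroup.centralizer ({x} : Set G) := this
  rw [Subgroup.mem_centralizer_singleton_iff] at h5
  exact h5

/-- a normal subgroup with a unique Sylow `p`-subgroup gives a normal `p`-subgroup of the whole group -/
theorem exists_normal_of_card_sylow_eq_one [Finite G] (C : Subgroup G) [C.Normal] (p : ℕ) [Fact p.Prime]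
    (h : Nat.card (Sylow p C) = 1) :
    ∃ Q : Subgroup G, Q.Normal ∧ Q ≤ C ∧ Nat.card Q = p ^ (Nat.card C).factorization p := by
  have hsub : Subsingleton (Sylow p C) := (Nat.card_eq_one_iff_unique.mp h).1
  obtain ⟨P⟩ : Nonempty (Sylow p C) := inferInstance
  have hn : (P : Subgroup C).Normal := Sylow.normal_of_subsingleton P
  have hch : (P : Subgroup C).Characteristic := Sylow.characteristic_of_normal P hn
  refine ⟨(P : Subgroup C).map C.subtype, ConjAct.normal_of_characteristic_of_normal,
    Subgroup.map_subtype_le _, ?_⟩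
  rw [Subgroup.card_subtype, Sylow.card_eq_multiplicity]

theorem conn_of_normal_16 [Finite G] (hord : Nat.card G = 7920) (K : Subgroup G) [K.Normal]
    (hK : Nat.card K = 16) : Conn G := by
  have hKp : IsPGroup 2 K := IsPGroup.of_card (n := 4) (by rw [hK]; norm_num)
  have e11 : E G 11 2 := E_of_normal_pgroup K (by decide) hKp 1 (by rw [hord]; norm_num)
    (by rw [hK]; norm_num)
  have e3 : E G 3 2 := E_of_normal_pgroup K (by decide) hKp 2 (by rw [hord]; norm_num)
    (by rw [hK]; norm_num)
  set C := Subgroup.centralizer (K : Set G) with hC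
  have hCdvd : Nat.card C ∣ 7920 := by rw [← hord]; exact Subgroup.card_subgroup_dvd_card C
  have hmul : Nat.card C * C.index = 7920 := by rw [← hord]; exact Subgroup.card_mul_index C
  by_cases h5 : 5 ∣ Nat.card C
  · obtain ⟨c, hc⟩ := exists_prime_orderOf_dvd_card' (G := C) 5 h5
    have e5 : E G 5 2 := E_of_centralizer K (by decide) (c : G) c.2
      (by rw [Subgroup.orderOf_coe]; exact hc) (by rw [hK]; norm_num)
    exact conn_of_edges (by decide) (by decide) (by decide) (by decide) (by decide) (by decide) e11 e3 e5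
      (by intro P; tauto)
  have h5i : 5 ^ 1 ∣ C.index := by
    have h : 5 ∣ Nat.card C * C.index := by rw [hmul]; norm_num
    rw [pow_one]
    exact ((Nat.Prime.dvd_mul Nat.prime_five).mp h).resolve_left h5
  by_cases h3 : 3 ∣ Nat.card C
  · have e5 : E G 5 3 := by
      refine E_of_normal C (by decide) 1 h5i h3 ?_
      intro m hm1 hm
      have hm2 : m ≤ 2 := pow_three_dvd_7920 (hm.trans hCdvd)
      interval_cases m <;> norm_num
    exact conn_of_edges (by decide) (by decide) (by decide) (by decide) (by decide) (by decide) e11 e3 e5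
      (by intro P; tauto)
  -- now `|C|` divides `176` and `11` divides it
  obtain ⟨x, hx⟩ := exists_prime_orderOf_dvd_card' (G := G) 11 (by rw [hord]; norm_num)
  have hxC : x ∈ C := by
    apply mem_centralizer_of_card K x hx
    intro d hd hmod
    rw [hK] at hd hmod ⊢
    have hd16 : d ≤ 16 := Nat.le_of_dvd (by norm_num) hd
    have hd0 : 0 < d := Nat.pos_of_dvd_of_pos hd (by norm_num)
    unfold Nat.ModEq at hmod
    interval_cases d <;> simp_all
  have h11 : 11 ∣ Nat.card C := by
    have : orderOf (⟨x, hxC⟩ : C) = 11 := by rw [← Subgroup.orderOf_coe]; exact hx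
    rw [← this]; exact orderOf_dvd_natCard _
  obtain ⟨a, b, c, e, ha, hb, hc, he, hcard⟩ := dvd_7920_cases _ hCdvd
  have hb0 : b = 0 := by
    by_contra hb0
    apply h3
    rw [hcard]
    exact Dvd.dvd.mul_right (Dvd.dvd.mul_right (Dvd.dvd.mul_left (dvd_pow_self 3 hb0) _) _) _
  have hc0 : c = 0 := by
    by_contra hc0
    apply h5
    rw [hcard]
    exact Dvd.dvd.mul_right (Dvd.dvd.mul_left (dvd_pow_self 5 hc0) _) _
  have he1 : e = 1 := by
    by_contra he1
    have he0 : e = 0 := by omega
    rw [hcard, hb0, hc0, he0] at h11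
    simp only [pow_zero, mul_one] at h11
    have := (Nat.Prime.dvd_of_dvd_pow (by norm_num : Nat.Prime 11) h11)
    norm_num at this
  subst hb0 hc0 he1
  -- the number of Sylow 11-subgroups of `C`
  have hn1 : Nat.card (Sylow 11 C) = 1 := by
    obtain ⟨P⟩ : Nonempty (Sylow 11 C) := inferInstance
    have h1 := card_sylow_modEq_one 11 C
    have h2 := Sylow.card_dvd_index P
    have h3 : (P : Subgroup C).index ∣ 2 ^ a := by
      have hPc : Nat.card (P : Subgroup C) = 11 ^ (Nat.card C).factorization 11 := Sylow.card_eq_multiplicity P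
      have hf : (Nat.card C).factorization 11 = 1 := by
        rw [hcard]
        simp only [pow_zero, mul_one, pow_one]
        rw [Nat.factorization_mul (by positivity) (by norm_num)]
        simp [Nat.Prime.factorization_pow Nat.prime_two, Nat.Prime.factorization (by norm_num : Nat.Prime 11)]
      have h4 := Subgroup.card_mul_index (P : Subgroup C)
      rw [hPc, hf, hcard] at h4
      simp only [pow_zero, mul_one, pow_one] at h4
      have : (P : Subgroup C).index = 2 ^ a := by
        have h5 : 11 * (P : Subgroup C).index = 11 * 2 ^ a := by rw [h4]; ring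
        exact Nat.eq_of_mul_eq_mul_left (by norm_num) h5
      rw [this]
    have h4 : Nat.card (Sylow 11 C) ∣ 2 ^ a := h2.trans h3
    obtain ⟨i, hi, hi2⟩ := (Nat.dvd_prime_pow Nat.prime_two).mp h4
    rw [hi2] at h1 ⊢
    have hi4 : i ≤ 4 := hi.trans ha
    unfold Nat.ModEq at h1
    interval_cases i <;> simp_all
  obtain ⟨Q, hQn, hQC, hQc⟩ := exists_normal_of_card_sylow_eq_one C 11 hn1
  have hQ11 : Nat.card Q = 11 := by
    rw [hQc, hcard]
    simp only [pow_zero, mul_one, pow_one]
    rw [Nat.factorization_mul (by positivity) (by norm_num)]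
    simp [Nat.Prime.factorization_pow Nat.prime_two, Nat.Prime.factorization (by norm_num : Nat.Prime 11)]
  exact conn_of_normal_11 hord Q hQ11

theorem conn_of_normal_2 [Finite G] (hord : Nat.card G = 7920) (K : Subgroup G) [K.Normal]
    (hK : IsPGroup 2 K) (hne : K ≠ ⊥) : Conn G := by
  obtain ⟨m, hm1, hm⟩ := card_pgroup_of_ne_bot K hK hne
  have hm2 : m ≤ 4 := pow_two_dvd_7920 (by rw [← hm, ← hord]; exact Subgroup.card_subgroup_dvd_card K)
  by_cases hm4 : m = 4
  · exact conn_of_normal_16 hord K (by rw [hm, hm4]; norm_num)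
  have e11 : E G 11 2 := E_of_normal_pgroup K (by decide) hK 1 (by rw [hord]; norm_num)
    (by rw [hm]; interval_cases m <;> norm_num)
  have e3 : E G 3 2 := E_of_normal_pgroup K (by decide) hK 2 (by rw [hord]; norm_num)
    (by rw [hm]; interval_cases m <;> norm_num)
  have e5 : E G 5 2 := E_of_normal_pgroup K (by decide) hK 1 (by rw [hord]; norm_num)
    (by
      have hm3 : m ≤ 3 := by omega
      rw [hm]; interval_cases m <;> norm_num)
  exact conn_of_edges (by decide) (by decide) (by decide) (by decide) (by decide) (by decide) e11 e3 e5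
    (by intro P; tauto)

/-- a nontrivial normal subgroup of prime power order forces a connected prime graph -/
theorem conn_of_normal_pgroup [Finite G] (hord : Nat.card G = 7920) (K : Subgroup G) [K.Normal]
    {r : ℕ} [hr : Fact r.Prime] (hK : IsPGroup r K) (hne : K ≠ ⊥) : Conn G := by
  obtain ⟨m, hm1, hm⟩ := card_pgroup_of_ne_bot K hK hne
  have hdvd : r ^ m ∣ 7920 := by rw [← hm, ← hord]; exact Subgroup.card_subgroup_dvd_card K
  have hr7920 : r ∣ 7920 := (dvd_pow_self r (by omega)).trans hdvd
  have hr' : r = 2 ∨ r = 3 ∨ r = 5 ∨ r = 11 := by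
    have h1 : r ∣ 2 ^ 4 * (3 ^ 2 * (5 * 11)) := by norm_num; exact hr7920
    rcases (Nat.Prime.dvd_mul hr.out).mp h1 with h | h
    · left; exact (Nat.prime_dvd_prime_iff_eq hr.out Nat.prime_two).mp (hr.out.dvd_of_dvd_pow h)
    rcases (Nat.Prime.dvd_mul hr.out).mp h with h | h
    · right; left; exact (Nat.prime_dvd_prime_iff_eq hr.out Nat.prime_three).mp (hr.out.dvd_of_dvd_pow h)
    rcases (Nat.Prime.dvd_mul hr.out).mp h with h | h
    · right; right; left; exact (Nat.prime_dvd_prime_iff_eq hr.out Nat.prime_five).mp h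
    · right; right; right; exact (Nat.prime_dvd_prime_iff_eq hr.out (by norm_num)).mp h
  rcases hr' with rfl | rfl | rfl | rfl
  · exact conn_of_normal_2 hord K hK hne
  · exact conn_of_normal_3 hord K hK hne
  · exact conn_of_normal_5 hord K hK hne
  · have hm2 : m ≤ 1 := pow_eleven_dvd_7920 hdvd
    have : m = 1 := by omega
    exact conn_of_normal_11 hord K (by rw [hm, this, pow_one])

end Cfsg.Agent.Lib.Helper24.Ord7920
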