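/- helper24: order 7920, the number of Sylow 11-subgroups of a perfect characteristically simple group: 144 and 45 are impossible; 12 is impossible for order 7920 with faithful action -/
import Mathlib
import Cfsg.Agent.Lib.Helper24.Ord7920B
import Cfsg.Agent.Lib.Helper8.SmallSimple2

set_option autoImplicit false

namespace Cfsg.Agent.Lib.Helper24.Ord7920

open MulAction

variable {H : Type*} [Group H]

/-- the elements normalizing every Sylow `p`-subgroup -/
def sylKer (H : Type*) [Group H] (p : ℕ) : Subgroup H :=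
  ⨅ Q : Sylow p H, Subgroup.normalizer ((Q : Subgroup H) : Set H)

theorem mem_sylKer {p : ℕ} {h : H} :
    h ∈ sylKer H p ↔ ∀ Q : Sylow p H, h ∈ Subgroup.normalizer ((Q : Subgroup H) : Set H) := by
  unfold sylKer
  rw [Subgroup.mem_iInf]

instance sylKer_characteristic (p : ℕ) : (sylKer H p).Characteristic := by
  rw [Subgroup.characteristic_iff_map_le]
  intro φ
  rintro _ ⟨h, hh, rfl⟩
  rw [SetLike.mem_coe, mem_sylKer] at hh
  rw [mem_sylKer]
  intro Q
  have hR := hh ((φ⁻¹ : MulAut H) • Q)
  rw [Subgroup.mem_normalizer_iff] at hR ⊢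
  intro y
  have key : ∀ z : H, z ∈ (((φ⁻¹ : MulAut H) • Q : Sylow p H) : Subgroup H) ↔ φ z ∈ (Q : Subgroup H) := by
    intro z
    rw [Sylow.pointwise_smul_def, Subgroup.mem_inv_pointwise_smul_iff]
    rfl
  have h1 := hR (φ.symm y)
  rw [key, key] at h1
  simpa using h1

/-- an element fixing all cosets of a Sylow normalizer normalizes all Sylow subgroups -/
theorem mem_sylKer_of_fixes_all [Finite H] {p : ℕ} [Fact p.Prime] (P : Sylow p H) (t : H)
    (ht : ∀ a : H ⧸ Subgroup.normalizer ((P : Subgroup H) : Set H), t • a = a) : t ∈ sylKer H p := by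
  rw [mem_sylKer]
  intro Q
  obtain ⟨g, rfl⟩ := MulAction.exists_smul_eq H P Q
  have h1 := ht (g : H ⧸ Subgroup.normalizer ((P : Subgroup H) : Set H))
  rw [Cfsg.Agent.S1018.smul_mk_eq_iff] at h1
  have h2 : (g⁻¹ * t * g) • P = P := Sylow.smul_eq_iff_mem_normalizer.mpr h1
  have h3 : t • g • P = g • P := by
    calc t • g • P = g • (g⁻¹ * t * g) • P := by simp only [smul_smul]; congr 1; group
      _ = g • P := by rw [h2]
  exact Sylow.smul_eq_iff_mem_normalizer.mp h3

/-- F3: in a characteristically simple group whose Sylow `p`-subgroups are not normal, only the identity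
fixes all cosets of a Sylow normalizer -/
theorem eq_one_of_fixes_all [Finite H] {p : ℕ} [Fact p.Prime]
    (hcs : ∀ M : Subgroup H, M.Characteristic → M = ⊥ ∨ M = ⊤) (P : Sylow p H)
    (hidx : (Subgroup.normalizer ((P : Subgroup H) : Set H)).index ≠ 1) (t : H)
    (ht : ∀ a : H ⧸ Subgroup.normalizer ((P : Subgroup H) : Set H), t • a = a) : t = 1 := by
  have htM : t ∈ sylKer H p := mem_sylKer_of_fixes_all P t ht
  rcases hcs (sylKer H p) inferInstance with h | h
  · rw [h, Subgroup.mem_bot] at htM; exact htM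
  · exfalso
    apply hidx
    rw [Subgroup.index_eq_one, eq_top_iff]
    intro x _
    have : x ∈ sylKer H p := by rw [h]; trivial
    exact (mem_sylKer.mp this) P

/-- F1: if `t ∈ N` has a single fixed coset of `N`, then `g⁻¹ t g ∈ N` forces `g ∈ N` -/
theorem mem_of_card_fixedBy_eq_one [Finite H] (N : Subgroup H) (t : H) (htN : t ∈ N)
    (hfix : Nat.card (fixedBy (H ⧸ N) t) = 1) (g : H) (hg : g⁻¹ * t * g ∈ N) : g ∈ N := by
  have hsub : Subsingleton (fixedBy (H ⧸ N) t) := (Nat.card_eq_one_iff_unique.mp hfix).1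
  have h1 : ((1 : H) : H ⧸ N) ∈ fixedBy (H ⧸ N) t := by
    rw [mem_fixedBy, Cfsg.Agent.S1018.smul_mk_eq_iff]; simpa using htN
  have h2 : (g : H ⧸ N) ∈ fixedBy (H ⧸ N) t := by
    rw [mem_fixedBy, Cfsg.Agent.S1018.smul_mk_eq_iff]; exact hg
  have h3 : (⟨_, h1⟩ : fixedBy (H ⧸ N) t) = ⟨_, h2⟩ := Subsingleton.elim _ _
  have h4 : ((1 : H) : H ⧸ N) = (g : H ⧸ N) := congrArg Subtype.val h3
  rw [QuotientGroup.eq] at h4
  simpa using h4

/-- F2: in a perfect, characteristically simple group with `45` Sylow `11`-subgroups of order `11`, an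
involution centralizing `P` fixes exactly one coset of `N(P)` -/
theorem card_fixedBy_invol [Finite H] (hperf : commutator H = ⊤)
    (hcs : ∀ M : Subgroup H, M.Characteristic → M = ⊥ ∨ M = ⊤) (P : Sylow 11 H)
    (hP : Nat.card (P : Subgroup H) = 11)
    (hidx : (Subgroup.normalizer ((P : Subgroup H) : Set H)).index = 45) (t : H)
    (htC : t ∈ Subgroup.centralizer ((P : Subgroup H) : Set H)) (ht2 : t ^ 2 = 1) (ht1 : t ≠ 1) :
    Nat.card (fixedBy (H ⧸ Subgroup.normalizer ((P : Subgroup H) : Set H)) t) = 1 := by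
  set N := Subgroup.normalizer ((P : Subgroup H) : Set H) with hN
  have h1 := Cfsg.Agent.Lib.Helper8.SmallSimple.card_fixedBy_modEq_one P hP t htC
  obtain ⟨s, hs4, hs⟩ := four_dvd_moved_of_perfect hperf (X := H ⧸ N) t ht2
  have hcard : Nat.card (H ⧸ N) = 45 := hidx
  rw [hcard] at hs
  have hne : Nat.card (fixedBy (H ⧸ N) t) ≠ 45 := by
    intro h45
    apply ht1
    apply eq_one_of_fixes_all hcs P (by rw [← hN, hidx]; norm_num) t
    apply Cfsg.Agent.Lib.Helper8.SmallSimple.smul_eq_of_card_fixedBy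
    rw [h45, hcard]
  unfold Nat.ModEq at h1
  rw [← hN] at h1
  obtain ⟨k, rfl⟩ := hs4
  omega

/-- F4: the centralizer of `P` acts semiregularly on the cosets of `N(P)` other than `N(P)` itself -/
theorem eq_one_of_fixes_coset [Finite H] (P : Sylow 11 H) (hP : Nat.card (P : Subgroup H) = 11)
    (hinv : ∀ t : H, t ∈ Subgroup.centralizer ((P : Subgroup H) : Set H) → t ^ 2 = 1 → t ≠ 1 →
      Nat.card (fixedBy (H ⧸ Subgroup.normalizer ((P : Subgroup H) : Set H)) t) = 1)
    (hC : Nat.card (Subgroup.centralizer ((P : Subgroup H) : Set H)) ∣ 44)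
    (c : H) (hc : c ∈ Subgroup.centralizer ((P : Subgroup H) : Set H)) (g : H)
    (hg : g ∉ Subgroup.normalizer ((P : Subgroup H) : Set H))
    (hfix : g⁻¹ * c * g ∈ Subgroup.normalizer ((P : Subgroup H) : Set H)) : c = 1 := by
  set N := Subgroup.normalizer ((P : Subgroup H) : Set H) with hN
  set C := Subgroup.centralizer ((P : Subgroup H) : Set H) with hCdef
  have hCN : C ≤ N := Subgroup.centralizer_le_normalizer _
  by_contra hc1
  have ho : orderOf c ∣ 44 := by
    have : orderOf (⟨c, hc⟩ : C) ∣ Nat.card C := orderOf_dvd_natCard _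
    rw [← Subgroup.orderOf_coe] at this
    exact this.trans hC
  have ho1 : orderOf c ≠ 1 := by rwa [Ne, orderOf_eq_one_iff]
  -- a prime divisor of the order
  obtain ⟨q, hq, hqo⟩ := Nat.exists_prime_and_dvd ho1
  have hq' : q = 2 ∨ q = 11 := by
    have h1 : q ∣ 2 ^ 2 * 11 := by norm_num; exact hqo.trans ho
    rcases (Nat.Prime.dvd_mul hq).mp h1 with h | h
    · left; exact (Nat.prime_dvd_prime_iff_eq hq Nat.prime_two).mp (hq.dvd_of_dvd_pow h)
    · right; exact (Nat.prime_dvd_prime_iff_eq hq (by norm_num)).mp h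
  set c' := c ^ (orderOf c / q) with hc'
  have hc'o : orderOf c' = q := by
    have := orderOf_pow_of_dvd (x := c) (n := orderOf c / q)
      (by
        intro h0
        have hpos : 0 < orderOf c := Nat.pos_of_ne_zero (by intro h; rw [h] at ho; norm_num at ho)
        have := Nat.div_eq_zero_iff.mp h0
        rcases this with h | h
        · exact hq.ne_zero h
        · exact absurd (Nat.le_of_dvd hpos hqo) (by omega))
      (Nat.div_dvd_of_dvd hqo)
    rw [this, Nat.div_div_self hqo (by intro h; rw [h] at ho; norm_num at ho)]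
  have hc'C : c' ∈ C := C.pow_mem hc _
  have hc'fix : g⁻¹ * c' * g ∈ N := by
    have : g⁻¹ * c' * g = (g⁻¹ * c * g) ^ (orderOf c / q) := by
      rw [hc']
      have h := conj_pow (i := orderOf c / q) (a := g⁻¹) (b := c)
      rw [inv_inv] at h
      exact h.symm
    rw [this]
    exact N.pow_mem hfix _
  have hcard1 : Nat.card (fixedBy (H ⧸ N) c') = 1 := by
    rcases hq' with rfl | rfl
    · apply hinv c' hc'C
      · rw [← hc'o]; exact pow_orderOf_eq_one c'
      · intro h; rw [h, orderOf_one] at hc'o; norm_num at hc'o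
    · exact Cfsg.Agent.S1018.part1 11 P hP c' hc'o
  exact hg (mem_of_card_fixedBy_eq_one N c' (hCN hc'C) hcard1 g hc'fix)

/-- F5: an involution of `N(P)` outside `C(P)` acts without fixed points on the `90` cosets of `C(P)` -/
theorem false_of_invol_outside [Finite H] (hperf : commutator H = ⊤) (P : Sylow 11 H)
    (hinv : ∀ t : H, t ∈ Subgroup.centralizer ((P : Subgroup H) : Set H) → t ^ 2 = 1 → t ≠ 1 →
      Nat.card (fixedBy (H ⧸ Subgroup.normalizer ((P : Subgroup H) : Set H)) t) = 1)
    (hCidx : (Subgroup.centralizer ((P : Subgroup H) : Set H)).index = 90) (u : H)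
    (huN : u ∈ Subgroup.normalizer ((P : Subgroup H) : Set H))
    (huC : u ∉ Subgroup.centralizer ((P : Subgroup H) : Set H)) (hu2 : u ^ 2 = 1) : False := by
  set N := Subgroup.normalizer ((P : Subgroup H) : Set H) with hN
  set C := Subgroup.centralizer ((P : Subgroup H) : Set H) with hCdef
  have hCN : C ≤ N := Subgroup.centralizer_le_normalizer _
  obtain ⟨s, hs4, hs⟩ := four_dvd_moved_of_perfect hperf (X := H ⧸ C) u hu2
  have hcard : Nat.card (H ⧸ C) = 90 := hCidx
  have hempty : IsEmpty (fixedBy (H ⧸ C) u) := by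
    constructor
    rintro ⟨a, ha⟩
    induction a using QuotientGroup.induction_on with
    | H g =>
      rw [mem_fixedBy, Cfsg.Agent.S1018.smul_mk_eq_iff] at ha
      set t := g⁻¹ * u * g with ht
      have ht2 : t ^ 2 = 1 := by
        have h := conj_pow (i := 2) (a := g⁻¹) (b := u)
        rw [inv_inv] at h
        rw [ht, h, hu2]; group
      have ht1 : t ≠ 1 := by
        intro h
        apply huC
        have : u = g * t * g⁻¹ := by rw [ht]; group
        rw [this, h]; simp
      have hfix := hinv t ha ht2 ht1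
      -- `t` fixes the coset `g⁻¹ N`
      have h1 : (g⁻¹)⁻¹ * t * g⁻¹ ∈ N := by
        have : (g⁻¹)⁻¹ * t * g⁻¹ = u := by rw [ht]; group
        rw [this]; exact huN
      have h2 : g⁻¹ ∈ N := mem_of_card_fixedBy_eq_one N t (hCN ha) hfix g⁻¹ h1
      have h3 : g ∈ N := by simpa using N.inv_mem h2
      apply huC
      have : u = g * t * g⁻¹ := by rw [ht]; group
      rw [this]
      exact Cfsg.Agent.Lib.Helper8.SmallSimple2.conj_mem_centralizer_of_mem_normalizer _ h3 ha
  rw [Nat.card_of_isEmpty, hcard] at hs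
  obtain ⟨k, rfl⟩ := hs4
  omega

/-- variant of `not_perfect_of_cyclic_two` with divisibility hypotheses -/
theorem not_perfect_of_cyclic_two' [Finite H] (x : H) (j : ℕ) (hj : 1 ≤ j)
    (hx : orderOf x = 2 ^ j) (hnd : ¬ 2 ^ (j + 1) ∣ Nat.card H) : commutator H ≠ ⊤ := by
  apply not_perfect_of_cyclic_two x j hj hx
  have hd : 2 ^ j ∣ Nat.card H := by rw [← hx]; exact orderOf_dvd_natCard x
  have hne : Nat.card H ≠ 0 := Nat.card_pos.ne'
  apply le_antisymm
  · by_contra hlt
    apply hnd
    have : 2 ^ (j + 1) ∣ 2 ^ (Nat.card H).factorization 2 := pow_dvd_pow 2 (by omega)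
    exact this.trans (Nat.ordProj_dvd _ _)
  · exact (Nat.Prime.pow_dvd_iff_le_factorization Nat.prime_two hne).mp hd

/-- order of the Sylow `11`-subgroups when they are not normal -/
theorem card_sylow11 [Finite H] (hdvd : Nat.card H ∣ 7920) (P : Sylow 11 H)
    (hidx : (Subgroup.normalizer ((P : Subgroup H) : Set H)).index ≠ 1) :
    Nat.card (P : Subgroup H) = 11 := by
  obtain ⟨k, hk⟩ := P.2.exists_card_eq
  have hk1 : k ≤ 1 :=
    pow_eleven_dvd_7920 (by rw [← hk]; exact (Subgroup.card_subgroup_dvd_card _).trans hdvd)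
  interval_cases k
  · exfalso
    apply hidx
    have hPbot : (P : Subgroup H) = ⊥ := Subgroup.card_eq_one.mp (by simpa using hk)
    rw [hPbot, Subgroup.index_eq_one]
    exact Subgroup.normalizer_eq_top (⊥ : Subgroup H)
  · simpa using hk

theorem no_n11_144 (H : Type*) [Group H] [Finite H] (hperf : commutator H = ⊤)
    (hdvd : Nat.card H ∣ 7920) (hlt : Nat.card H < 7920) : Nat.card (Sylow 11 H) ≠ 144 := by
  intro hn
  obtain ⟨P⟩ : Nonempty (Sylow 11 H) := inferInstance
  set N := Subgroup.normalizer ((P : Subgroup H) : Set H) with hN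
  have hidx : N.index = 144 := by rw [← hn]; exact (Sylow.card_eq_index_normalizer P).symm
  have hmul : 144 * Nat.card N = Nat.card H := by
    have := Cfsg.Agent.Lib.Helper7.card_sylow_mul_card_normalizer P
    rwa [hn] at this
  have hP : Nat.card (P : Subgroup H) = 11 := card_sylow11 hdvd P (by rw [← hN, hidx]; norm_num)
  have hPN : (P : Subgroup H) ≤ N := Subgroup.le_normalizer
  have h11N : 11 ∣ Nat.card N := by rw [← hP]; exact Subgroup.card_dvd_of_le hPN
  have hN11 : Nat.card N = 11 := by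
    obtain ⟨m, hm⟩ := h11N
    have h1 : 144 * (11 * m) ∣ 7920 := by rw [← hm, hmul]; exact hdvd
    have h2 : m ∣ 5 := by
      have : 1584 * m ∣ 1584 * 5 := by convert h1 using 1; ring
      exact (Nat.mul_dvd_mul_iff_left (by norm_num)).mp this
    have h3 : m < 5 := by rw [← hmul, hm] at hlt; omega
    have h4 : 0 < m := Nat.pos_of_dvd_of_pos h2 (by norm_num)
    rw [hm]
    interval_cases m <;> simp_all
  have hNP : N = (P : Subgroup H) := (Subgroup.eq_of_le_of_card_ge hPN (by rw [hN11, hP])).symm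
  have hNC : N ≤ Subgroup.centralizer ((P : Subgroup H) : Set H) := by
    rw [hNP]
    intro a ha
    rw [Subgroup.mem_centralizer_iff]
    intro b hb
    exact Cfsg.Agent.Lib.Helper7.comm_of_card_prime (p := 11) (P : Subgroup H) hP b hb a ha
  exact not_perfect_of_NC 11 P hNC (by rw [← hmul, hN11]; norm_num) hperf

/-- number of elements different from a given one -/
theorem card_ne_subtype {X : Type*} [Finite X] (a : X) : Nat.card {y : X // y ≠ a} = Nat.card X - 1 := by
  classical
  have h := Nat.card_congr (Equiv.optionSubtypeNe a)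
  rw [Finite.card_option] at h
  omega

/-- the case `|N| = 88`: an involution of `N` outside `C` from the pigeonhole principle -/
theorem exists_invol_outside [Finite H] (P : Sylow 11 H) (hP : Nat.card (P : Subgroup H) = 11)
    (hinv : ∀ t : H, t ∈ Subgroup.centralizer ((P : Subgroup H) : Set H) → t ^ 2 = 1 → t ≠ 1 →
      Nat.card (fixedBy (H ⧸ Subgroup.normalizer ((P : Subgroup H) : Set H)) t) = 1)
    (hidx : (Subgroup.normalizer ((P : Subgroup H) : Set H)).index = 45)
    (hN : Nat.card (Subgroup.normalizer ((P : Subgroup H) : Set H)) = 88)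
    (hC : Nat.card (Subgroup.centralizer ((P : Subgroup H) : Set H)) = 44)
    (hsq : ∀ y ∈ Subgroup.normalizer ((P : Subgroup H) : Set H),
      y ^ 2 ∈ Subgroup.centralizer ((P : Subgroup H) : Set H)) :
    ∃ u : H, u ∈ Subgroup.normalizer ((P : Subgroup H) : Set H) ∧
      u ∉ Subgroup.centralizer ((P : Subgroup H) : Set H) ∧ u ^ 2 = 1 := by
  set N := Subgroup.normalizer ((P : Subgroup H) : Set H) with hNdef
  set C := Subgroup.centralizer ((P : Subgroup H) : Set H) with hCdef
  have hNtop : N ≠ ⊤ := by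
    intro h; rw [h, Subgroup.index_top] at hidx; norm_num at hidx
  obtain ⟨g, -, hg⟩ := SetLike.exists_of_lt (lt_top_iff_ne_top.mpr hNtop)
  let f : N → {a : H ⧸ N // a ≠ ((1 : H) : H ⧸ N)} := fun n =>
    ⟨(n : H) • (g : H ⧸ N), by
      intro h
      apply hg
      have h1 : (g : H ⧸ N) = ((n : H)⁻¹ : H) • ((1 : H) : H ⧸ N) := by
        rw [← h, smul_smul, inv_mul_cancel, one_smul]
      rw [MulAction.Quotient.smul_coe, QuotientGroup.eq] at h1
      have h2 : g⁻¹ * ((n : H)⁻¹ • (1 : H)) ∈ N := h1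
      rw [smul_eq_mul, mul_one] at h2
      have h3 : g⁻¹ ∈ N := by
        have := N.mul_mem h2 n.2
        simpa [mul_assoc] using this
      simpa using N.inv_mem h3⟩
  have hlt : Nat.card {a : H ⧸ N // a ≠ ((1 : H) : H ⧸ N)} < Nat.card N := by
    rw [card_ne_subtype, hN]
    have : Nat.card (H ⧸ N) = 45 := hidx
    rw [this]; norm_num
  have hninj : ¬ Function.Injective f := by
    intro hinj
    have := Nat.card_le_card_of_injective f hinj
    omega
  rw [Function.Injective] at hninj
  push Not at hninj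
  obtain ⟨n1, n2, hf, hne⟩ := hninj
  have hf' : (n1 : H) • (g : H ⧸ N) = (n2 : H) • (g : H ⧸ N) := congrArg Subtype.val hf
  set u : H := (n2 : H)⁻¹ * (n1 : H) with hu
  have huN : u ∈ N := N.mul_mem (N.inv_mem n2.2) n1.2
  have hu1 : u ≠ 1 := by
    intro h
    apply hne
    apply Subtype.ext
    have : (n1 : H) = (n2 : H) * u := by rw [hu]; group
    rw [this, h, mul_one]
  have hufix : g⁻¹ * u * g ∈ N := by
    rw [← Cfsg.Agent.S1018.smul_mk_eq_iff, hu, ← smul_smul, hf', smul_smul, inv_mul_cancel, one_smul]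
  have hC44 : Nat.card C ∣ 44 := by rw [hC]
  have huC : u ∉ C := fun h => hu1 (eq_one_of_fixes_coset P hP hinv hC44 u h g hg hufix)
  refine ⟨u, huN, huC, ?_⟩
  apply eq_one_of_fixes_coset P hP hinv hC44 (u ^ 2) (hsq u huN) g hg
  have h := conj_pow (i := 2) (a := g⁻¹) (b := u)
  rw [inv_inv] at h
  rw [← h]
  exact N.pow_mem hufix 2

theorem no_n11_45 (H : Type*) [Group H] [Finite H] (hperf : commutator H = ⊤)
    (hcs : ∀ M : Subgroup H, M.Characteristic → M = ⊥ ∨ M = ⊤)
    (hdvd : Nat.card H ∣ 7920) (hlt : Nat.card H < 7920) : Nat.card (Sylow 11 H) ≠ 45 := by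
  intro hn
  obtain ⟨P⟩ : Nonempty (Sylow 11 H) := inferInstance
  set N := Subgroup.normalizer ((P : Subgroup H) : Set H) with hN
  set C := Subgroup.centralizer ((P : Subgroup H) : Set H) with hCdef
  have hCN : C ≤ N := Subgroup.centralizer_le_normalizer _
  have hidx : N.index = 45 := by rw [← hn]; exact (Sylow.card_eq_index_normalizer P).symm
  have hmul : 45 * Nat.card N = Nat.card H := by
    have := Cfsg.Agent.Lib.Helper7.card_sylow_mul_card_normalizer P
    rwa [hn] at this
  have hP : Nat.card (P : Subgroup H) = 11 := card_sylow11 hdvd P (by rw [← hN, hidx]; norm_num)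
  have hPN : (P : Subgroup H) ≤ N := Subgroup.le_normalizer
  have h11N : 11 ∣ Nat.card N := by rw [← hP]; exact Subgroup.card_dvd_of_le hPN
  have hNcases : Nat.card N = 11 ∨ Nat.card N = 22 ∨ Nat.card N = 44 ∨ Nat.card N = 88 := by
    obtain ⟨m, hm⟩ := h11N
    have h1 : 45 * (11 * m) ∣ 7920 := by rw [← hm, hmul]; exact hdvd
    have h2 : m ∣ 16 := by
      have : 495 * m ∣ 495 * 16 := by convert h1 using 1; ring
      exact (Nat.mul_dvd_mul_iff_left (by norm_num)).mp this
    have h3 : m < 16 := by rw [← hmul, hm] at hlt; omega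
    have h4 : 0 < m := Nat.pos_of_dvd_of_pos h2 (by norm_num)
    rw [hm]
    interval_cases m <;> simp_all
  -- the index of `C` in `N`
  have hr10 : C.relIndex N ∣ 10 :=
    Cfsg.Agent.Lib.Helper7.relIndex_centralizer_normalizer_dvd_of_prime (p := 11) (P : Subgroup H) hP
  have hCr : Nat.card C * C.relIndex N = Nat.card N :=
    Cfsg.Agent.Lib.Helper7.card_centralizer_mul_relIndex (P : Subgroup H)
  have hr : C.relIndex N = 1 ∨ C.relIndex N = 2 := by
    have hrN : C.relIndex N ∣ Nat.card N := Dvd.intro_left _ hCr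
    have hle : C.relIndex N ≤ 10 := Nat.le_of_dvd (by norm_num) hr10
    have hpos : 0 < C.relIndex N := Nat.pos_of_dvd_of_pos hr10 (by norm_num)
    generalize C.relIndex N = r at *
    rcases hNcases with h | h | h | h <;> rw [h] at hrN <;> interval_cases r <;> simp_all
  have h11H : 11 ∣ Nat.card H := h11N.trans (Dvd.intro_left _ hmul)
  rcases hr with hr | hr
  · -- `N ≤ C`: Burnside
    have hNC : N ≤ C := Subgroup.relIndex_eq_one.mp hr
    exact not_perfect_of_NC 11 P hNC h11H hperf
  -- index two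
  rw [hr] at hCr
  have hinv := card_fixedBy_invol hperf hcs P hP hidx
  have hCidx : C.index = 90 := by
    have h1 := Subgroup.card_mul_index C
    have h2 : Nat.card C * C.index = Nat.card C * 90 := by rw [h1, ← hmul, ← hCr]; ring
    exact Nat.eq_of_mul_eq_mul_left Nat.card_pos h2
  have hsq : ∀ y ∈ N, y ^ 2 ∈ C := by
    intro y hy
    have h1 : (C.subgroupOf N).index = 2 := hr
    have h2 := Subgroup.sq_mem_of_index_two h1 (⟨y, hy⟩ : N)
    rw [Subgroup.mem_subgroupOf] at h2
    exact h2
  have hNC : ¬ N ≤ C := by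
    intro h
    have := Subgroup.relIndex_eq_one.mpr h
    omega
  obtain ⟨x0, hx0N, hx0C⟩ := SetLike.not_le_iff_exists.mp hNC
  set x := x0 ^ 11 with hx
  have hxN : x ∈ N := N.pow_mem hx0N 11
  have hxC : x ∉ C := by
    intro h
    apply hx0C
    have h10 : x0 ^ 10 ∈ C := by
      have : x0 ^ 10 = (x0 ^ 2) ^ 5 := by rw [← pow_mul]
      rw [this]; exact C.pow_mem (hsq x0 hx0N) 5
    have : x0 = x * (x0 ^ 10)⁻¹ := by
      rw [hx]; group
    rw [this]; exact C.mul_mem h (C.inv_mem h10)
  have hx1 : x ≠ 1 := fun h => hxC (h ▸ C.one_mem)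
  have hxpow : ∀ m, Nat.card N = 11 * m → x ^ m = 1 := by
    intro m hm
    rw [hx, ← pow_mul, ← hm]
    calc x0 ^ Nat.card N = (((⟨x0, hx0N⟩ : N) ^ Nat.card N : N) : H) := by rw [Subgroup.coe_pow]
      _ = 1 := by rw [pow_card_eq_one']; rfl
  rcases hNcases with h | h | h | h
  · omega
  · -- `|H| = 990`
    have hx2 : x ^ 2 = 1 := hxpow 2 (by rw [h])
    have ho : orderOf x = 2 ^ 1 := by rw [pow_one]; exact orderOf_eq_prime hx2 hx1
    exact not_perfect_of_cyclic_two' x 1 le_rfl ho (by rw [← hmul, h]; norm_num) hperf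
  · -- `|H| = 1980`
    have hx4 : x ^ 4 = 1 := hxpow 4 (by rw [h])
    by_cases hx2 : x ^ 2 = 1
    · exact false_of_invol_outside hperf P hinv hCidx x hxN hxC hx2
    · have ho : orderOf x = 2 ^ 2 := by
        have h1 : orderOf x ∣ 2 ^ 2 := orderOf_dvd_of_pow_eq_one (by norm_num; exact hx4)
        obtain ⟨i, hi, hi2⟩ := (Nat.dvd_prime_pow Nat.prime_two).mp h1
        interval_cases i
        · exfalso; apply hx1; rw [← orderOf_eq_one_iff, hi2]; norm_num
        · exfalso; apply hx2; rw [← orderOf_dvd_iff_pow_eq_one, hi2]; norm_num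
        · exact hi2
      exact not_perfect_of_cyclic_two' x 2 (by norm_num) ho (by rw [← hmul, h]; norm_num) hperf
  · -- `|H| = 3960`
    obtain ⟨u, huN, huC, hu2⟩ := exists_invol_outside P hP hinv hidx h (by show Nat.card C = 44; omega) hsq
    exact false_of_invol_outside hperf P hinv hCidx u huN huC hu2

/-- a group of order `7920` acting faithfully on its Sylow `11`-subgroups does not have `12` of them -/
theorem no_n11_12 (G : Type*) [Group G] [Finite G] (hord : Nat.card G = 7920)
    (hker : sylKer G 11 = ⊥) : Nat.card (Sylow 11 G) ≠ 12 := by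
  intro hn
  obtain ⟨P⟩ : Nonempty (Sylow 11 G) := inferInstance
  set N := Subgroup.normalizer ((P : Subgroup G) : Set G) with hN
  set C := Subgroup.centralizer ((P : Subgroup G) : Set G) with hCdef
  have hidx : N.index = 12 := by rw [← hn]; exact (Sylow.card_eq_index_normalizer P).symm
  have hmul : 12 * Nat.card N = 7920 := by
    have := Cfsg.Agent.Lib.Helper7.card_sylow_mul_card_normalizer P
    rwa [hn, hord] at this
  have hN660 : Nat.card N = 660 := by omega
  have hP : Nat.card (P : Subgroup G) = 11 :=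
    card_sylow11 (by rw [hord]) P (by rw [← hN, hidx]; norm_num)
  have hr10 : C.relIndex N ∣ 10 :=
    Cfsg.Agent.Lib.Helper7.relIndex_centralizer_normalizer_dvd_of_prime (p := 11) (P : Subgroup G) hP
  have hCr : Nat.card C * C.relIndex N = Nat.card N :=
    Cfsg.Agent.Lib.Helper7.card_centralizer_mul_relIndex (P : Subgroup G)
  have h3C : 3 ∣ Nat.card C := by
    have h : 3 ∣ Nat.card C * C.relIndex N := by rw [hCr, hN660]; norm_num
    rcases (Nat.Prime.dvd_mul Nat.prime_three).mp h with h | h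
    · exact h
    · exfalso
      have := h.trans hr10
      norm_num at this
  obtain ⟨z, hz⟩ := exists_prime_orderOf_dvd_card' (G := C) 3 h3C
  have hzo : orderOf (z : G) = 3 := by rw [Subgroup.orderOf_coe]; exact hz
  have h1 := Cfsg.Agent.Lib.Helper8.SmallSimple.card_fixedBy_modEq_one P hP (z : G) z.2
  have h2 := Cfsg.Agent.Lib.Helper8.SmallSimple2.card_modEq_card_fixedBy (X := G ⧸ N) (q := 3) (z : G)
    (IsPGroup.of_card (n := 1) (by rw [Nat.card_zpowers, hzo, pow_one]))
  have hcard : Nat.card (G ⧸ N) = 12 := hidx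
  rw [hcard] at h2
  rw [← hN] at h1
  have hle : Nat.card (fixedBy (G ⧸ N) (z : G)) ≤ 12 := by
    rw [← hcard]; exact Nat.card_le_card_of_injective _ Subtype.val_injective
  have h12 : Nat.card (fixedBy (G ⧸ N) (z : G)) = 12 := by
    unfold Nat.ModEq at h1 h2
    omega
  have hall : ∀ a : G ⧸ N, (z : G) • a = a :=
    Cfsg.Agent.Lib.Helper8.SmallSimple.smul_eq_of_card_fixedBy (z : G) (by rw [h12, hcard])
  have hzk := mem_sylKer_of_fixes_all P (z : G) hall
  rw [hker, Subgroup.mem_bot] at hzk
  rw [hzk, orderOf_one] at hzo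
  norm_num at hzo

end Cfsg.Agent.Lib.Helper24.Ord7920
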