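/- helper24: order 7920, a nonsolvable minimal normal proper subgroup forces a connected prime graph -/
import Mathlib
import Cfsg.Agent.Lib.Helper24.Ord7920C

set_option autoImplicit false

namespace Cfsg.Agent.Lib.Helper24.Ord7920

open MulAction

variable {G : Type*} [Group G]

/-- a normal subgroup containing a Sylow `p`-subgroup has as many Sylow `p`-subgroups as the group -/
theorem card_sylow_eq_of_normal [Finite G] (K : Subgroup G) [K.Normal] {p : ℕ} [Fact p.Prime]
    (Q : Sylow p G) (hQK : (Q : Subgroup G) ≤ K) : Nat.card (Sylow p K) = Nat.card (Sylow p G) := by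
  set N := Subgroup.normalizer ((Q : Subgroup G) : Set G) with hN
  have h1 := Cfsg.Agent.Lib.Helper8.SmallSimple.card_sylow_subgroup_mul Q K hQK
  have h2 := Cfsg.Agent.Lib.Helper7.card_sylow_mul_card_normalizer Q
  have h3 : N ⊔ K = ⊤ := Sylow.normalizer_sup_eq_top' Q hQK
  have h4 : K.relIndex N = K.index := by
    have := Subgroup.relIndex_sup_right N K
    rw [h3, Subgroup.relIndex_top_right] at this
    exact this.symm
  have h5 := Cfsg.Agent.Lib.Helper8.SmallSimple.card_inf_mul_relIndex K N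
  have h6 := Subgroup.card_mul_index K
  rw [← hN] at h1 h2
  rw [h4] at h5
  rw [inf_comm] at h5
  have hpos : 0 < Nat.card (N ⊓ K : Subgroup G) := Nat.card_pos
  have hpos2 : 0 < K.index := Nat.pos_of_ne_zero (Subgroup.index_ne_zero_of_finite)
  have h7 : Nat.card (Sylow p G) * Nat.card (N ⊓ K : Subgroup G) * K.index =
      Nat.card (Sylow p K) * Nat.card (N ⊓ K : Subgroup G) * K.index := by
    rw [h1, h6, mul_assoc, h5, h2]
  have h8 := Nat.eq_of_mul_eq_mul_right hpos2 h7
  exact (Nat.eq_of_mul_eq_mul_right hpos h8).symm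

/-- Burnside: a group whose order divides `7920` and misses two of the four primes is solvable -/
theorem isSolvable_of_exponents (H : Type*) [Group H] [Finite H] (a b c e : ℕ)
    (h : Nat.card H = 2 ^ a * 3 ^ b * 5 ^ c * 11 ^ e)
    (hz : (a = 0 ∧ b = 0) ∨ (a = 0 ∧ c = 0) ∨ (a = 0 ∧ e = 0) ∨ (b = 0 ∧ c = 0) ∨ (b = 0 ∧ e = 0) ∨
      (c = 0 ∧ e = 0)) : Group.IsSolvable H := by
  have p11 : Nat.Prime 11 := by norm_num
  rcases hz with ⟨rfl, rfl⟩ | ⟨rfl, rfl⟩ | ⟨rfl, rfl⟩ | ⟨rfl, rfl⟩ | ⟨rfl, rfl⟩ | ⟨rfl, rfl⟩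
  · exact Cfsg.Agent.CharLib.isSolvable_of_card_pq 5 11 c e Nat.prime_five p11 (by rw [h]; ring)
  · exact Cfsg.Agent.CharLib.isSolvable_of_card_pq 3 11 b e Nat.prime_three p11 (by rw [h]; ring)
  · exact Cfsg.Agent.CharLib.isSolvable_of_card_pq 3 5 b c Nat.prime_three Nat.prime_five (by rw [h]; ring)
  · exact Cfsg.Agent.CharLib.isSolvable_of_card_pq 2 11 a e Nat.prime_two p11 (by rw [h]; ring)
  · exact Cfsg.Agent.CharLib.isSolvable_of_card_pq 2 5 a c Nat.prime_two Nat.prime_five (by rw [h]; ring)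
  · exact Cfsg.Agent.CharLib.isSolvable_of_card_pq 2 3 a b Nat.prime_two Nat.prime_three (by rw [h]; ring)

/-- a nonsolvable group of order dividing `7920`: of any two of the primes one divides the order -/
theorem dvd_or_dvd_of_not_solvable (H : Type*) [Group H] [Finite H] (hdvd : Nat.card H ∣ 7920)
    (hns : ¬ Group.IsSolvable H) :
    (2 ∣ Nat.card H ∨ 3 ∣ Nat.card H) ∧ (2 ∣ Nat.card H ∨ 5 ∣ Nat.card H) ∧
    (2 ∣ Nat.card H ∨ 11 ∣ Nat.card H) ∧ (3 ∣ Nat.card H ∨ 5 ∣ Nat.card H) ∧
    (3 ∣ Nat.card H ∨ 11 ∣ Nat.card H) ∧ (5 ∣ Nat.card H ∨ 11 ∣ Nat.card H) := by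
  obtain ⟨a, b, c, e, ha, hb, hc, he, hcard⟩ := dvd_7920_cases _ hdvd
  have h2 : a ≠ 0 → 2 ∣ Nat.card H := fun h0 => by
    rw [hcard]
    exact Dvd.dvd.mul_right (Dvd.dvd.mul_right (Dvd.dvd.mul_right (dvd_pow_self 2 h0) _) _) _
  have h3 : b ≠ 0 → 3 ∣ Nat.card H := fun h0 => by
    rw [hcard]
    exact Dvd.dvd.mul_right (Dvd.dvd.mul_right (Dvd.dvd.mul_left (dvd_pow_self 3 h0) _) _) _
  have h5 : c ≠ 0 → 5 ∣ Nat.card H := fun h0 => by
    rw [hcard]
    exact Dvd.dvd.mul_right (Dvd.dvd.mul_left (dvd_pow_self 5 h0) _) _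
  have h11 : e ≠ 0 → 11 ∣ Nat.card H := fun h0 => by
    rw [hcard]
    exact Dvd.dvd.mul_left (dvd_pow_self 11 h0) _
  have key := fun hz => hns (isSolvable_of_exponents H a b c e hcard hz)
  refine ⟨?_, ?_, ?_, ?_, ?_, ?_⟩ <;> by_contra hcon <;> push Not at hcon <;> apply key
  · left; exact ⟨by_contra fun h => hcon.1 (h2 h), by_contra fun h => hcon.2 (h3 h)⟩
  · right; left; exact ⟨by_contra fun h => hcon.1 (h2 h), by_contra fun h => hcon.2 (h5 h)⟩
  · right; right; left; exact ⟨by_contra fun h => hcon.1 (h2 h), by_contra fun h => hcon.2 (h11 h)⟩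
  · right; right; right; left; exact ⟨by_contra fun h => hcon.1 (h3 h), by_contra fun h => hcon.2 (h5 h)⟩
  · right; right; right; right; left
    exact ⟨by_contra fun h => hcon.1 (h3 h), by_contra fun h => hcon.2 (h11 h)⟩
  · right; right; right; right; right
    exact ⟨by_contra fun h => hcon.1 (h5 h), by_contra fun h => hcon.2 (h11 h)⟩

theorem map_subtype_eq_self_iff (K : Subgroup G) (M : Subgroup K) : M.map K.subtype = K ↔ M = ⊤ := by
  constructor
  · intro h
    apply Subgroup.map_injective K.subtype_injective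
    rw [h, ← MonoidHom.range_eq_map, Subgroup.range_subtype]
  · rintro rfl
    rw [← MonoidHom.range_eq_map, Subgroup.range_subtype]

/-- a nonsolvable minimal normal subgroup is perfect -/
theorem perfect_of_minimal (K : Subgroup G) [K.Normal]
    (hmin : ∀ M : Subgroup G, M.Normal → M ≤ K → M = ⊥ ∨ M = K) (hns : ¬ Group.IsSolvable K) :
    commutator K = ⊤ := by
  have hn : (⁅K, K⁆ : Subgroup G).Normal := Subgroup.commutator_normal K K
  have hle : (⁅K, K⁆ : Subgroup G) ≤ K := Subgroup.commutator_le_right K K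
  rcases hmin _ hn hle with h | h
  · exfalso
    apply hns
    rw [Subgroup.commutator_eq_bot_iff_le_centralizer] at h
    apply Group.isSolvable_of_comm
    intro a b
    apply Subtype.ext
    have := (Subgroup.mem_centralizer_iff.mp (h a.2)) (b : G) b.2
    exact this.symm
  · rw [← map_subtype_eq_self_iff, Subgroup.map_subtype_commutator, h]

/-- a minimal normal subgroup is characteristically simple -/
theorem charsimple_of_minimal (K : Subgroup G) [K.Normal]
    (hmin : ∀ M : Subgroup G, M.Normal → M ≤ K → M = ⊥ ∨ M = K) :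
    ∀ M : Subgroup K, M.Characteristic → M = ⊥ ∨ M = ⊤ := by
  intro M hM
  have hn : (M.map K.subtype).Normal := ConjAct.normal_of_characteristic_of_normal
  rcases hmin _ hn (Subgroup.map_subtype_le M) with h | h
  · left
    exact (Subgroup.map_eq_bot_iff_of_injective M K.subtype_injective).mp h
  · right
    exact (map_subtype_eq_self_iff K M).mp h

theorem prime_dvd_index_of_not_dvd_card [Finite G] (hord : Nat.card G = 7920) (K : Subgroup G) {l : ℕ}
    (hl : l.Prime) (hl7920 : l ∣ 7920) (h : ¬ l ∣ Nat.card K) : l ^ 1 ∣ K.index := by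
  have h1 : l ∣ Nat.card K * K.index := by rw [Subgroup.card_mul_index, hord]; exact hl7920
  rw [pow_one]
  exact ((Nat.Prime.dvd_mul hl).mp h1).resolve_left h

/-- (a) a normal subgroup of order divisible by `2, 3, 5` but not by `11` -/
theorem conn_of_normal_no11 [Finite G] (hord : Nat.card G = 7920) (K : Subgroup G) [K.Normal]
    (h2 : 2 ∣ Nat.card K) (h3 : 3 ∣ Nat.card K) (h5 : 5 ∣ Nat.card K) (h11 : ¬ 11 ∣ Nat.card K) :
    Conn G := by
  have hKdvd : Nat.card K ∣ 7920 := by rw [← hord]; exact Subgroup.card_subgroup_dvd_card K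
  have hi := prime_dvd_index_of_not_dvd_card hord K (by norm_num : Nat.Prime 11) (by norm_num) h11
  have e2 : E G 11 2 := by
    refine E_of_normal K (by decide) 1 hi h2 ?_
    intro m hm1 hm
    have hm2 : m ≤ 4 := pow_two_dvd_7920 (hm.trans hKdvd)
    interval_cases m <;> norm_num
  have e3 : E G 11 3 := by
    refine E_of_normal K (by decide) 1 hi h3 ?_
    intro m hm1 hm
    have hm2 : m ≤ 2 := pow_three_dvd_7920 (hm.trans hKdvd)
    interval_cases m <;> norm_num
  have e5 : E G 11 5 := by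
    refine E_of_normal K (by decide) 1 hi h5 ?_
    intro m hm1 hm
    have hm2 : m ≤ 1 := pow_five_dvd_7920 (hm.trans hKdvd)
    interval_cases m; norm_num
  exact conn_of_edges (by decide) (by decide) (by decide) (by decide) (by decide) (by decide) e2 e3 e5
    (by intro P; tauto)

/-- (b) a normal subgroup of odd order divisible by `3, 5, 11` -/
theorem conn_of_normal_odd [Finite G] (hord : Nat.card G = 7920) (K : Subgroup G) [K.Normal]
    (h2 : ¬ 2 ∣ Nat.card K) (h3 : 3 ∣ Nat.card K) (h5 : 5 ∣ Nat.card K) (h11 : 11 ∣ Nat.card K) :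
    Conn G := by
  have hKdvd : Nat.card K ∣ 7920 := by rw [← hord]; exact Subgroup.card_subgroup_dvd_card K
  have hi : 2 ^ 4 ∣ K.index := by
    have h1 : 2 ^ 4 ∣ Nat.card K * K.index := by rw [Subgroup.card_mul_index, hord]; norm_num
    have hcop : Nat.Coprime (2 ^ 4) (Nat.card K) :=
      Nat.Coprime.pow_left 4 ((Nat.Prime.coprime_iff_not_dvd Nat.prime_two).mpr h2)
    exact hcop.dvd_of_dvd_mul_left h1
  have e3 : E G 2 3 := by
    refine E_of_normal K (by decide) 4 hi h3 ?_
    intro m hm1 hm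
    have hm2 : m ≤ 2 := pow_three_dvd_7920 (hm.trans hKdvd)
    interval_cases m <;> norm_num
  have e5 : E G 2 5 := by
    refine E_of_normal K (by decide) 4 hi h5 ?_
    intro m hm1 hm
    have hm2 : m ≤ 1 := pow_five_dvd_7920 (hm.trans hKdvd)
    interval_cases m; norm_num
  have e11 : E G 2 11 := by
    refine E_of_normal K (by decide) 4 hi h11 ?_
    intro m hm1 hm
    have hm2 : m ≤ 1 := pow_eleven_dvd_7920 (hm.trans hKdvd)
    interval_cases m; norm_num
  exact conn_of_edges (by decide) (by decide) (by decide) (by decide) (by decide) (by decide) e3 e5 e11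
    (by intro P; tauto)

theorem prime_dvd_7920 {r : ℕ} (hr : r.Prime) (hr7920 : r ∣ 7920) : r = 2 ∨ r = 3 ∨ r = 5 ∨ r = 11 := by
  have h1 : r ∣ 2 ^ 4 * (3 ^ 2 * (5 * 11)) := by norm_num; exact hr7920
  rcases (Nat.Prime.dvd_mul hr).mp h1 with h | h
  · left; exact (Nat.prime_dvd_prime_iff_eq hr Nat.prime_two).mp (hr.dvd_of_dvd_pow h)
  rcases (Nat.Prime.dvd_mul hr).mp h with h | h
  · right; left; exact (Nat.prime_dvd_prime_iff_eq hr Nat.prime_three).mp (hr.dvd_of_dvd_pow h)
  rcases (Nat.Prime.dvd_mul hr).mp h with h | h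
  · right; right; left; exact (Nat.prime_dvd_prime_iff_eq hr Nat.prime_five).mp h
  · right; right; right; exact (Nat.prime_dvd_prime_iff_eq hr (by norm_num)).mp h

/-- an element of prime order in the centralizer of `K` is adjacent to all other primes dividing `|K|` -/
theorem exists_star [Finite G] (hord : Nat.card G = 7920) (K : Subgroup G)
    (hC : Subgroup.centralizer (K : Set G) ≠ ⊥) :
    ∃ s : ℕ, (s = 2 ∨ s = 3 ∨ s = 5 ∨ s = 11) ∧ ∀ r : ℕ, r.Prime → s ≠ r → r ∣ Nat.card K → E G s r := by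
  set C := Subgroup.centralizer (K : Set G) with hCdef
  have hC1 : Nat.card C ≠ 1 := fun h => hC (Subgroup.card_eq_one.mp h)
  obtain ⟨s, hs, hsC⟩ := Nat.exists_prime_and_dvd hC1
  have : Fact s.Prime := ⟨hs⟩
  obtain ⟨c, hc⟩ := exists_prime_orderOf_dvd_card' (G := C) s hsC
  have hco : orderOf (c : G) = s := by rw [Subgroup.orderOf_coe]; exact hc
  have hs7920 : s ∣ 7920 := by
    rw [← hord]; exact hsC.trans (Subgroup.card_subgroup_dvd_card C)
  refine ⟨s, prime_dvd_7920 hs hs7920, ?_⟩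
  intro r hr hne hrK
  have : Fact r.Prime := ⟨hr⟩
  exact E_of_centralizer K hne (c : G) c.2 hco hrK

/-- the edge at the prime missing from `|K|` -/
theorem extra_edge [Finite G] (hord : Nat.card G = 7920) (K : Subgroup G) [K.Normal]
    (h35 : 3 ∣ Nat.card K ∨ 5 ∣ Nat.card K) :
    (3 ∣ Nat.card K ∧ 5 ∣ Nat.card K) ∨ (3 ∣ Nat.card K ∧ E G 5 3) ∨ (5 ∣ Nat.card K ∧ E G 3 5) := by
  have hKdvd : Nat.card K ∣ 7920 := by rw [← hord]; exact Subgroup.card_subgroup_dvd_card K
  by_cases h3 : 3 ∣ Nat.card K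
  · by_cases h5 : 5 ∣ Nat.card K
    · left; exact ⟨h3, h5⟩
    · right; left
      refine ⟨h3, ?_⟩
      have hi := prime_dvd_index_of_not_dvd_card hord K Nat.prime_five (by norm_num) h5
      refine E_of_normal K (by decide) 1 hi h3 ?_
      intro m hm1 hm
      have hm2 : m ≤ 2 := pow_three_dvd_7920 (hm.trans hKdvd)
      interval_cases m <;> norm_num
  · have h5 : 5 ∣ Nat.card K := h35.resolve_left h3
    right; right
    refine ⟨h5, ?_⟩
    have hi := prime_dvd_index_of_not_dvd_card hord K Nat.prime_three (by norm_num) h3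
    refine E_of_normal K (by decide) 1 hi h5 ?_
    intro m hm1 hm
    have hm2 : m ≤ 1 := pow_five_dvd_7920 (hm.trans hKdvd)
    interval_cases m; norm_num

theorem comb_full (P : ℕ → Prop) (s : ℕ) (hs : s = 2 ∨ s = 3 ∨ s = 5 ∨ s = 11)
    (i2 : s ≠ 2 → (P s ↔ P 2)) (i3 : s ≠ 3 → (P s ↔ P 3)) (i5 : s ≠ 5 → (P s ↔ P 5))
    (i11 : s ≠ 11 → (P s ↔ P 11)) : (P 2 ↔ P 3) ∧ (P 2 ↔ P 5) ∧ (P 2 ↔ P 11) := by
  rcases hs with rfl | rfl | rfl | rfl
  · have := i3 (by decide); have := i5 (by decide); have := i11 (by decide); clear i2 i3 i5 i11; tauto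
  · have := i2 (by decide); have := i5 (by decide); have := i11 (by decide); clear i2 i3 i5 i11; tauto
  · have := i2 (by decide); have := i3 (by decide); have := i11 (by decide); clear i2 i3 i5 i11; tauto
  · have := i2 (by decide); have := i3 (by decide); have := i5 (by decide); clear i2 i3 i5 i11; tauto

theorem comb_no5 (P : ℕ → Prop) (s : ℕ) (hs : s = 2 ∨ s = 3 ∨ s = 5 ∨ s = 11)
    (i2 : s ≠ 2 → (P s ↔ P 2)) (i3 : s ≠ 3 → (P s ↔ P 3)) (i53 : P 5 ↔ P 3)
    (i11 : s ≠ 11 → (P s ↔ P 11)) : (P 2 ↔ P 3) ∧ (P 2 ↔ P 5) ∧ (P 2 ↔ P 11) := by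
  rcases hs with rfl | rfl | rfl | rfl
  · have := i3 (by decide); have := i11 (by decide); clear i2 i3 i11; tauto
  · have := i2 (by decide); have := i11 (by decide); clear i2 i3 i11; tauto
  · have := i2 (by decide); have := i3 (by decide); have := i11 (by decide); clear i2 i3 i11; tauto
  · have := i2 (by decide); have := i3 (by decide); clear i2 i3 i11; tauto

theorem comb_no3 (P : ℕ → Prop) (s : ℕ) (hs : s = 2 ∨ s = 3 ∨ s = 5 ∨ s = 11)
    (i2 : s ≠ 2 → (P s ↔ P 2)) (i5 : s ≠ 5 → (P s ↔ P 5)) (i35 : P 3 ↔ P 5)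
    (i11 : s ≠ 11 → (P s ↔ P 11)) : (P 2 ↔ P 3) ∧ (P 2 ↔ P 5) ∧ (P 2 ↔ P 11) := by
  rcases hs with rfl | rfl | rfl | rfl
  · have := i5 (by decide); have := i11 (by decide); clear i2 i5 i11; tauto
  · have := i2 (by decide); have := i5 (by decide); have := i11 (by decide); clear i2 i5 i11; tauto
  · have := i2 (by decide); have := i11 (by decide); clear i2 i5 i11; tauto
  · have := i2 (by decide); have := i5 (by decide); clear i2 i5 i11; tauto

/-- (c) a normal subgroup of order divisible by `2`, `11` and one of `3, 5` with nontrivial centralizer -/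
theorem conn_of_centralizer_ne_bot [Finite G] (hord : Nat.card G = 7920) (K : Subgroup G) [K.Normal]
    (h2 : 2 ∣ Nat.card K) (h11 : 11 ∣ Nat.card K) (h35 : 3 ∣ Nat.card K ∨ 5 ∣ Nat.card K)
    (hC : Subgroup.centralizer (K : Set G) ≠ ⊥) : Conn G := by
  obtain ⟨s, hs', hstar⟩ := exists_star hord K hC
  have hsPS : s ∈ PS := by
    rcases hs' with rfl | rfl | rfl | rfl <;> decide
  have hextra := extra_edge hord K h35
  intro P h
  have i2 : s ≠ 2 → (P s ↔ P 2) := fun hne => h s hsPS 2 (by decide) (hstar 2 Nat.prime_two hne h2)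
  have i11 : s ≠ 11 → (P s ↔ P 11) := fun hne =>
    h s hsPS 11 (by decide) (hstar 11 (by norm_num) hne h11)
  rcases hextra with ⟨h3, h5⟩ | ⟨h3, e53⟩ | ⟨h5, e35⟩
  · exact comb_full P s hs' i2 (fun hne => h s hsPS 3 (by decide) (hstar 3 Nat.prime_three hne h3))
      (fun hne => h s hsPS 5 (by decide) (hstar 5 Nat.prime_five hne h5)) i11
  · exact comb_no5 P s hs' i2 (fun hne => h s hsPS 3 (by decide) (hstar 3 Nat.prime_three hne h3))
      (h 5 (by decide) 3 (by decide) e53) i11
  · exact comb_no3 P s hs' i2 (fun hne => h s hsPS 5 (by decide) (hstar 5 Nat.prime_five hne h5))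
      (h 3 (by decide) 5 (by decide) e35) i11

/-- possible numbers of Sylow `11`-subgroups -/
theorem n11_cases {n : ℕ} (hmod : n ≡ 1 [MOD 11]) (hdvd : n ∣ 720) :
    n = 1 ∨ n = 12 ∨ n = 45 ∨ n = 144 := by
  obtain ⟨k, hk⟩ : ∃ k, n = 11 * k + 1 := ⟨n / 11, by unfold Nat.ModEq at hmod; omega⟩
  have hk65 : k ≤ 65 := by
    have := Nat.le_of_dvd (by norm_num) hdvd
    omega
  rw [hk] at hdvd ⊢
  interval_cases k <;> omega

/-- (d) a nonsolvable minimal normal subgroup of order divisible by `11` with trivial centralizer -/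
theorem conn_of_centralizer_eq_bot [Finite G] (hord : Nat.card G = 7920) (K : Subgroup G) [K.Normal]
    (hKtop : K ≠ ⊤) (hmin : ∀ M : Subgroup G, M.Normal → M ≤ K → M = ⊥ ∨ M = K)
    (hns : ¬ Group.IsSolvable K) (h11 : 11 ∣ Nat.card K)
    (hC : Subgroup.centralizer (K : Set G) = ⊥) : Conn G := by
  have hKdvd : Nat.card K ∣ 7920 := by rw [← hord]; exact Subgroup.card_subgroup_dvd_card K
  have hKlt : Nat.card K < 7920 := by
    rw [← hord]
    apply lt_of_le_of_ne (Subgroup.card_le_card_group K)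
    intro h
    exact hKtop ((Subgroup.card_eq_iff_eq_top K).mp h)
  have hperf := perfect_of_minimal K hmin hns
  have hcs := charsimple_of_minimal K hmin
  -- a Sylow `11`-subgroup of `G` inside `K`
  obtain ⟨y, hy⟩ := exists_prime_orderOf_dvd_card' (G := K) 11 h11
  have hyo : orderOf (y : G) = 11 := by rw [Subgroup.orderOf_coe]; exact hy
  have hyp : IsPGroup 11 (Subgroup.zpowers (y : G)) :=
    IsPGroup.of_card (n := 1) (by rw [Nat.card_zpowers, hyo, pow_one])
  obtain ⟨Q, hQ⟩ := hyp.exists_le_sylow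
  have hQc : Nat.card (Q : Subgroup G) = 11 := by
    obtain ⟨k, hk⟩ := Q.2.exists_card_eq
    have hk1 : k ≤ 1 := pow_eleven_dvd_7920
      (by rw [← hk, ← hord]; exact Subgroup.card_subgroup_dvd_card _)
    have h1 : 11 ∣ Nat.card (Q : Subgroup G) := by
      have := Subgroup.card_dvd_of_le hQ
      rwa [Nat.card_zpowers, hyo] at this
    interval_cases k
    · rw [hk] at h1; norm_num at h1
    · simpa using hk
  have hQK : (Q : Subgroup G) ≤ K := by
    have : Subgroup.zpowers (y : G) = (Q : Subgroup G) :=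
      Subgroup.eq_of_le_of_card_ge hQ (by rw [Nat.card_zpowers, hyo, hQc])
    rw [← this, Subgroup.zpowers_le]
    exact y.2
  have hn := card_sylow_eq_of_normal K Q hQK
  have hmod : Nat.card (Sylow 11 G) ≡ 1 [MOD 11] := card_sylow_modEq_one 11 G
  have hdvd : Nat.card (Sylow 11 G) ∣ 720 := by
    have h1 := Sylow.card_dvd_index Q
    have h2 := Subgroup.card_mul_index (Q : Subgroup G)
    rw [hQc, hord] at h2
    have h3 : (Q : Subgroup G).index = 720 := by omega
    rwa [h3] at h1
  rcases n11_cases hmod hdvd with h | h | h | h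
  · -- a normal Sylow `11`-subgroup
    have hsub : Subsingleton (Sylow 11 G) := (Nat.card_eq_one_iff_unique.mp h).1
    have hQn : (Q : Subgroup G).Normal := Sylow.normal_of_subsingleton Q
    apply conn_of_normal_pgroup hord (Q : Subgroup G) Q.2
    intro hbot
    rw [hbot, Subgroup.card_bot] at hQc
    norm_num at hQc
  · exfalso
    refine no_n11_12 G hord ?_ h
    set M := sylKer G 11 with hM
    have hMn : M.Normal := inferInstance
    have hMK : (M ⊓ K).Normal := inferInstance
    rcases hmin (M ⊓ K) hMK inf_le_right with h1 | h1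
    · have h2 : (⁅M, K⁆ : Subgroup G) ≤ M ⊓ K := Subgroup.commutator_le_inf M K
      rw [h1, le_bot_iff, Subgroup.commutator_eq_bot_iff_le_centralizer, hC, le_bot_iff] at h2
      exact h2
    · exfalso
      have hKM : K ≤ M := by rw [← h1]; exact inf_le_left
      have hKN : K ≤ Subgroup.normalizer ((Q : Subgroup G) : Set G) :=
        fun x hx => (mem_sylKer.mp (hKM hx)) Q
      have h3 : Subgroup.normalizer ((Q : Subgroup G) : Set G) ⊔ K = ⊤ :=
        Sylow.normalizer_sup_eq_top' Q hQK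
      rw [sup_of_le_left hKN] at h3
      have h4 : Nat.card (Sylow 11 G) = (Subgroup.normalizer ((Q : Subgroup G) : Set G)).index :=
        Sylow.card_eq_index_normalizer Q
      rw [h3, Subgroup.index_top] at h4
      omega
  · exfalso
    exact no_n11_45 K hperf hcs hKdvd hKlt (by rw [hn]; exact h)
  · exfalso
    exact no_n11_144 K hperf hKdvd hKlt (by rw [hn]; exact h)

/-- a nonsolvable minimal normal proper subgroup forces a connected prime graph -/
theorem conn_of_minimal_nonsolvable [Finite G] (hord : Nat.card G = 7920) (K : Subgroup G) [K.Normal]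
    (hKtop : K ≠ ⊤) (hmin : ∀ M : Subgroup G, M.Normal → M ≤ K → M = ⊥ ∨ M = K)
    (hns : ¬ Group.IsSolvable K) : Conn G := by
  have hKdvd : Nat.card K ∣ 7920 := by rw [← hord]; exact Subgroup.card_subgroup_dvd_card K
  obtain ⟨h23, h25, h2_11, h35, h3_11, h5_11⟩ := dvd_or_dvd_of_not_solvable K hKdvd hns
  by_cases h11 : 11 ∣ Nat.card K
  · by_cases h2 : 2 ∣ Nat.card K
    · by_cases hC : Subgroup.centralizer (K : Set G) = ⊥
      · exact conn_of_centralizer_eq_bot hord K hKtop hmin hns h11 hC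
      · exact conn_of_centralizer_ne_bot hord K h2 h11 h35 hC
    · exact conn_of_normal_odd hord K h2 (h23.resolve_left h2) (h25.resolve_left h2) h11
  · exact conn_of_normal_no11 hord K (h2_11.resolve_right h11) (h3_11.resolve_right h11)
      (h5_11.resolve_right h11) h11

end Cfsg.Agent.Lib.Helper24.Ord7920
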