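/- helper24: order 7920, a non-simple group of order 7920 has a connected prime graph; solvable minimal normal subgroups; final assembly -/
import Mathlib
import Cfsg.Agent.Lib.Helper24.Ord7920D

set_option autoImplicit false

namespace Cfsg.Agent.Lib.Helper24.Ord7920

open MulAction

variable {G : Type*} [Group G]

/-- a solvable minimal normal subgroup has prime power order -/
theorem exists_prime_isPGroup_of_minimal_solvable [Finite G] (K : Subgroup G) [hKn : K.Normal]
    (hne : K ≠ ⊥) (hmin : ∀ M : Subgroup G, M.Normal → M ≤ K → M = ⊥ ∨ M = K)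
    (hs : Group.IsSolvable K) : ∃ r : ℕ, r.Prime ∧ IsPGroup r K := by
  have hnt : Nontrivial K := (Subgroup.nontrivial_iff_ne_bot K).mpr hne
  -- `K` is abelian
  have hcomm : ∀ a ∈ K, ∀ b ∈ K, a * b = b * a := by
    have hn : (⁅K, K⁆ : Subgroup G).Normal := Subgroup.commutator_normal K K
    have hle : (⁅K, K⁆ : Subgroup G) ≤ K := Subgroup.commutator_le_right K K
    rcases hmin _ hn hle with h | h
    · rw [Subgroup.commutator_eq_bot_iff_le_centralizer] at h
      intro a ha b hb
      exact ((Subgroup.mem_centralizer_iff.mp (h ha)) b hb).symm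
    · exfalso
      have h1 : commutator K = ⊤ := by
        rw [← map_subtype_eq_self_iff, Subgroup.map_subtype_commutator, h]
      have h2 := Group.IsSolvable.commutator_lt_top_of_nontrivial (G := K)
      rw [h1] at h2
      exact lt_irrefl _ h2
  have hK1 : Nat.card K ≠ 1 := fun h => hne (Subgroup.card_eq_one.mp h)
  obtain ⟨r, hr, hrK⟩ := Nat.exists_prime_and_dvd hK1
  have : Fact r.Prime := ⟨hr⟩
  refine ⟨r, hr, ?_⟩
  let M : Subgroup G :=
    { carrier := {x | x ∈ K ∧ x ^ r = 1}
      mul_mem' := by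
        rintro x y ⟨hx, hxr⟩ ⟨hy, hyr⟩
        refine ⟨K.mul_mem hx hy, ?_⟩
        rw [(show Commute x y from hcomm x hx y hy).mul_pow, hxr, hyr, one_mul]
      one_mem' := ⟨K.one_mem, one_pow r⟩
      inv_mem' := by
        rintro x ⟨hx, hxr⟩
        exact ⟨K.inv_mem hx, by rw [inv_pow, hxr, inv_one]⟩ }
  have hMn : M.Normal := by
    constructor
    rintro x ⟨hx, hxr⟩ g
    refine ⟨hKn.conj_mem x hx g, ?_⟩
    rw [conj_pow, hxr, mul_one, mul_inv_cancel]
  have hMK : M ≤ K := fun x hx => hx.1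
  obtain ⟨y, hy⟩ := exists_prime_orderOf_dvd_card' (G := K) r hrK
  have hyM : (y : G) ∈ M := ⟨y.2, by
    have : orderOf (y : G) = r := by rw [Subgroup.orderOf_coe]; exact hy
    rw [← this]; exact pow_orderOf_eq_one _⟩
  have hMne : M ≠ ⊥ := by
    intro h
    rw [h, Subgroup.mem_bot] at hyM
    have : y = 1 := Subtype.ext hyM
    rw [this, orderOf_one] at hy
    exact hr.ne_one hy.symm
  have hMeq : M = K := (hmin M hMn hMK).resolve_left hMne
  intro k
  refine ⟨1, ?_⟩
  have hk : (k : G) ∈ M := by rw [hMeq]; exact k.2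
  apply Subtype.ext
  rw [pow_one, Subgroup.coe_pow, Subgroup.coe_one]
  exact hk.2

/-- a non-simple group of order `7920` has a connected prime graph -/
theorem conn_of_not_simple [Finite G] (hord : Nat.card G = 7920) (hns : ¬ IsSimpleGroup G) : Conn G := by
  have hnt : Nontrivial G := by
    rw [← Finite.one_lt_card_iff_nontrivial, hord]; norm_num
  have hex : ∃ N : Subgroup G, N.Normal ∧ N ≠ ⊥ ∧ N ≠ ⊤ := by
    by_contra h
    push Not at h
    apply hns
    exact { hnt with
      eq_bot_or_eq_top_of_normal := fun N hN => by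
        by_cases hb : N = ⊥
        · left; exact hb
        · right; exact h N hN hb }
  obtain ⟨N, hN⟩ := hex
  let S : Set (Subgroup G) := {M | M.Normal ∧ M ≠ ⊥ ∧ M ≠ ⊤}
  obtain ⟨K, hK, hKmin⟩ := Set.exists_min_image S (fun M => Nat.card M) (Set.toFinite S) ⟨N, hN⟩
  obtain ⟨hKn, hKbot, hKtop⟩ := hK
  have hmin : ∀ M : Subgroup G, M.Normal → M ≤ K → M = ⊥ ∨ M = K := by
    intro M hMn hMK
    by_cases hb : M = ⊥
    · left; exact hb
    · right
      have hMtop : M ≠ ⊤ := by
        rintro rfl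
        exact hKtop (top_le_iff.mp hMK)
      have := hKmin M ⟨hMn, hb, hMtop⟩
      exact Subgroup.eq_of_le_of_card_ge hMK this
  by_cases hs : Group.IsSolvable K
  · obtain ⟨r, hr, hKp⟩ := exists_prime_isPGroup_of_minimal_solvable K hKbot hmin hs
    have : Fact r.Prime := ⟨hr⟩
    exact conn_of_normal_pgroup hord K hKp hKbot
  · exact conn_of_minimal_nonsolvable hord K hKtop hmin hs

/-- a group of order `7920` with disconnected prime graph is simple -/
theorem isSimpleGroup_of_disconnected [Finite G] (hord : Nat.card G = 7920)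
    (hdisc : (∃ A : Set ℕ, (∃ a ∈ A, a.Prime ∧ a ∣ Nat.card G) ∧ (∃ b ∉ A, b.Prime ∧ b ∣ Nat.card G) ∧
      ∀ a ∈ A, ∀ b ∉ A, a.Prime → b.Prime → a ∣ Nat.card G → b ∣ Nat.card G →
        ¬ ∃ g : G, orderOf g = a * b)) : IsSimpleGroup G := by
  by_contra hns
  have hconn := conn_of_not_simple hord hns
  obtain ⟨A, ⟨a, haA, hap, had⟩, ⟨b, hbA, hbp, hbd⟩, hno⟩ := hdisc
  have hPS : ∀ r ∈ PS, r.Prime ∧ r ∣ Nat.card G := by
    intro r hr
    rw [hord]
    have : r = 2 ∨ r = 3 ∨ r = 5 ∨ r = 11 := by simpa [PS] using hr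
    rcases this with rfl | rfl | rfl | rfl <;> norm_num
  have key := hconn (fun r => r ∈ A) (by
    intro r hr s hs hE
    obtain ⟨hrp, hrd⟩ := hPS r hr
    obtain ⟨hsp, hsd⟩ := hPS s hs
    constructor
    · intro hrA
      by_contra hsA
      exact hno r hrA s hsA hrp hsp hrd hsd hE
    · intro hsA
      by_contra hrA
      exact hno s hsA r hrA hsp hrp hsd hrd hE.symm)
  rw [hord] at had hbd
  rcases prime_dvd_7920 hap had with rfl | rfl | rfl | rfl <;>
    rcases prime_dvd_7920 hbp hbd with rfl | rfl | rfl | rfl <;> tauto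

end Cfsg.Agent.Lib.Helper24.Ord7920
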