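/- helper24: simple groups of order 7920: perfect, 144 Sylow 11-subgroups, normalizer of order 55, self-centralizing Sylow 11 -/
import Mathlib
import Cfsg.Agent.Lib.Helper24.Ord7920E

set_option autoImplicit false

namespace Cfsg.Agent.Lib.Helper24.Ord7920

open MulAction
open scoped commutatorElement

variable {G : Type*} [Group G]

/-- a simple group of order `7920` is perfect -/
theorem perfect_of_simple_7920 [Finite G] [IsSimpleGroup G] (hord : Nat.card G = 7920) :
    commutator G = ⊤ := by
  have hn : (commutator G).Normal := inferInstance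
  rcases hn.eq_bot_or_eq_top with h | h
  · exfalso
    have hnp : ¬ (Nat.card G).Prime := by rw [hord]; norm_num
    apply Cfsg.Agent.Lib.Helper7.not_comm_of_card_not_prime hnp
    constructor
    constructor
    intro a b
    have h1 : ⁅a, b⁆ ∈ commutator G := by
      rw [commutator_def]
      exact Subgroup.commutator_mem_commutator (Subgroup.mem_top a) (Subgroup.mem_top b)
    rw [h, Subgroup.mem_bot, commutatorElement_def] at h1
    calc a * b = (a * b * a⁻¹ * b⁻¹) * (b * a) := by group
      _ = b * a := by rw [h1, one_mul]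
  · exact h

/-- a simple group is characteristically simple -/
theorem charsimple_of_simple [IsSimpleGroup G] :
    ∀ M : Subgroup G, M.Characteristic → M = ⊥ ∨ M = ⊤ := by
  intro M hM
  have hn : M.Normal := inferInstance
  exact hn.eq_bot_or_eq_top

variable {H : Type*} [Group H]

/-- F4 with the weaker bound `|C| ∣ 88` -/
theorem eq_one_of_fixes_coset' [Finite H] (P : Sylow 11 H) (hP : Nat.card (P : Subgroup H) = 11)
    (hinv : ∀ t : H, t ∈ Subgroup.centralizer ((P : Subgroup H) : Set H) → t ^ 2 = 1 → t ≠ 1 →
      Nat.card (fixedBy (H ⧸ Subgroup.normalizer ((P : Subgroup H) : Set H)) t) = 1)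
    (hC : Nat.card (Subgroup.centralizer ((P : Subgroup H) : Set H)) ∣ 176)
    (c : H) (hc : c ∈ Subgroup.centralizer ((P : Subgroup H) : Set H)) (g : H)
    (hg : g ∉ Subgroup.normalizer ((P : Subgroup H) : Set H))
    (hfix : g⁻¹ * c * g ∈ Subgroup.normalizer ((P : Subgroup H) : Set H)) : c = 1 := by
  set N := Subgroup.normalizer ((P : Subgroup H) : Set H) with hN
  set C := Subgroup.centralizer ((P : Subgroup H) : Set H) with hCdef
  have hCN : C ≤ N := Subgroup.centralizer_le_normalizer _
  by_contra hc1
  have ho : orderOf c ∣ 176 := by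
    have : orderOf (⟨c, hc⟩ : C) ∣ Nat.card C := orderOf_dvd_natCard _
    rw [← Subgroup.orderOf_coe] at this
    exact this.trans hC
  have ho1 : orderOf c ≠ 1 := by rwa [Ne, orderOf_eq_one_iff]
  obtain ⟨q, hq, hqo⟩ := Nat.exists_prime_and_dvd ho1
  have hq' : q = 2 ∨ q = 11 := by
    have h1 : q ∣ 2 ^ 4 * 11 := by norm_num; exact hqo.trans ho
    rcases (Nat.Prime.dvd_mul hq).mp h1 with h | h
    · left; exact (Nat.prime_dvd_prime_iff_eq hq Nat.prime_two).mp (hq.dvd_of_dvd_pow h)
    · right; exact (Nat.prime_dvd_prime_iff_eq hq (by norm_num)).mp h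
  set c' := c ^ (orderOf c / q) with hc'
  have hc'o : orderOf c' = q := by
    have := orderOf_pow_of_dvd (x := c) (n := orderOf c / q)
      (by
        intro h0
        have hpos : 0 < orderOf c := Nat.pos_of_ne_zero (by intro h; rw [h] at ho; norm_num at ho)
        have := Nat.div_eq_zero_iff.mp h0
        rcases this with h | h
        · exact hq.ne_zero h
        · exact absurd (Nat.le_of_dvd hpos hqo) (by omega))
      (Nat.div_dvd_of_dvd hqo)
    rw [this, Nat.div_div_self hqo (by intro h; rw [h] at ho; norm_num at ho)]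
  have hc'C : c' ∈ C := C.pow_mem hc _
  have hc'fix : g⁻¹ * c' * g ∈ N := by
    have : g⁻¹ * c' * g = (g⁻¹ * c * g) ^ (orderOf c / q) := by
      rw [hc']
      have h := conj_pow (i := orderOf c / q) (a := g⁻¹) (b := c)
      rw [inv_inv] at h
      exact h.symm
    rw [this]
    exact N.pow_mem hfix _
  have hcard1 : Nat.card (fixedBy (H ⧸ N) c') = 1 := by
    rcases hq' with rfl | rfl
    · apply hinv c' hc'C
      · rw [← hc'o]; exact pow_orderOf_eq_one c'
      · intro h; rw [h, orderOf_one] at hc'o; norm_num at hc'o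
    · exact Cfsg.Agent.S1018.part1 11 P hP c' hc'o
  exact hg (mem_of_card_fixedBy_eq_one N c' (hCN hc'C) hcard1 g hc'fix)

/-- version of `no_n11_45` for the full order `7920` -/
theorem no_n11_45_full (H : Type*) [Group H] [Finite H] (hperf : commutator H = ⊤)
    (hcs : ∀ M : Subgroup H, M.Characteristic → M = ⊥ ∨ M = ⊤)
    (hord : Nat.card H = 7920) : Nat.card (Sylow 11 H) ≠ 45 := by
  intro hn
  obtain ⟨P⟩ : Nonempty (Sylow 11 H) := inferInstance
  set N := Subgroup.normalizer ((P : Subgroup H) : Set H) with hN
  set C := Subgroup.centralizer ((P : Subgroup H) : Set H) with hCdef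
  have hCN : C ≤ N := Subgroup.centralizer_le_normalizer _
  have hidx : N.index = 45 := by rw [← hn]; exact (Sylow.card_eq_index_normalizer P).symm
  have hmul : 45 * Nat.card N = 7920 := by
    have := Cfsg.Agent.Lib.Helper7.card_sylow_mul_card_normalizer P
    rwa [hn, hord] at this
  have hN176 : Nat.card N = 176 := by omega
  have hP : Nat.card (P : Subgroup H) = 11 :=
    card_sylow11 (by rw [hord]) P (by rw [← hN, hidx]; norm_num)
  have hr10 : C.relIndex N ∣ 10 :=
    Cfsg.Agent.Lib.Helper7.relIndex_centralizer_normalizer_dvd_of_prime (p := 11) (P : Subgroup H) hP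
  have hCr : Nat.card C * C.relIndex N = Nat.card N :=
    Cfsg.Agent.Lib.Helper7.card_centralizer_mul_relIndex (P : Subgroup H)
  have hr : C.relIndex N = 1 ∨ C.relIndex N = 2 := by
    have hrN : C.relIndex N ∣ 176 := by rw [← hN176]; exact Dvd.intro_left _ hCr
    have hle : C.relIndex N ≤ 10 := Nat.le_of_dvd (by norm_num) hr10
    have hpos : 0 < C.relIndex N := Nat.pos_of_dvd_of_pos hr10 (by norm_num)
    generalize C.relIndex N = r at *
    interval_cases r <;> simp_all
  have h11H : 11 ∣ Nat.card H := by rw [hord]; norm_num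
  have hC88 : 88 ≤ Nat.card C := by
    rcases hr with hr | hr <;> rw [hr, hN176] at hCr <;> omega
  have hC176 : Nat.card C ∣ 176 := by rw [← hN176]; exact Dvd.intro _ hCr
  rcases hr with hr | hr
  · exact not_perfect_of_NC 11 P (Subgroup.relIndex_eq_one.mp hr) h11H hperf
  have hinv := card_fixedBy_invol hperf hcs P hP hidx
  -- pigeonhole on the action of `C`
  have hNtop : N ≠ ⊤ := by
    intro h; rw [h, Subgroup.index_top] at hidx; norm_num at hidx
  obtain ⟨g, -, hg⟩ := SetLike.exists_of_lt (lt_top_iff_ne_top.mpr hNtop)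
  let f : C → {a : H ⧸ N // a ≠ ((1 : H) : H ⧸ N)} := fun n =>
    ⟨(n : H) • (g : H ⧸ N), by
      intro h
      apply hg
      have h1 : (g : H ⧸ N) = ((n : H)⁻¹ : H) • ((1 : H) : H ⧸ N) := by
        rw [← h, smul_smul, inv_mul_cancel, one_smul]
      rw [MulAction.Quotient.smul_coe, QuotientGroup.eq] at h1
      have h2 : g⁻¹ * ((n : H)⁻¹ • (1 : H)) ∈ N := h1
      rw [smul_eq_mul, mul_one] at h2
      have h3 : g⁻¹ ∈ N := by
        have := N.mul_mem h2 (hCN n.2)
        simpa [mul_assoc] using this
      simpa using N.inv_mem h3⟩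
  have hlt : Nat.card {a : H ⧸ N // a ≠ ((1 : H) : H ⧸ N)} < Nat.card C := by
    rw [card_ne_subtype]
    have : Nat.card (H ⧸ N) = 45 := hidx
    rw [this]; omega
  have hninj : ¬ Function.Injective f := by
    intro hinj
    have := Nat.card_le_card_of_injective f hinj
    omega
  rw [Function.Injective] at hninj
  push Not at hninj
  obtain ⟨n1, n2, hf, hne⟩ := hninj
  have hf' : (n1 : H) • (g : H ⧸ N) = (n2 : H) • (g : H ⧸ N) := congrArg Subtype.val hf
  set u : H := (n2 : H)⁻¹ * (n1 : H) with hu
  have huC : u ∈ C := C.mul_mem (C.inv_mem n2.2) n1.2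
  have hu1 : u ≠ 1 := by
    intro h
    apply hne
    apply Subtype.ext
    have : (n1 : H) = (n2 : H) * u := by rw [hu]; group
    rw [this, h, mul_one]
  have hufix : g⁻¹ * u * g ∈ N := by
    rw [← Cfsg.Agent.S1018.smul_mk_eq_iff, hu, ← smul_smul, hf', smul_smul, inv_mul_cancel, one_smul]
  exact hu1 (eq_one_of_fixes_coset' P hP hinv hC176 u huC g hg hufix)

/-- a simple group of order `7920` has `144` Sylow `11`-subgroups -/
theorem card_sylow11_of_simple [Finite G] [IsSimpleGroup G] (hord : Nat.card G = 7920) :
    Nat.card (Sylow 11 G) = 144 := by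
  have hperf := perfect_of_simple_7920 hord
  have hcs := charsimple_of_simple (G := G)
  obtain ⟨Q⟩ : Nonempty (Sylow 11 G) := inferInstance
  have hQne : (Q : Subgroup G) ≠ ⊥ := by
    apply Sylow.ne_bot_of_dvd_card
    rw [hord]; norm_num
  have hQc : Nat.card (Q : Subgroup G) = 11 := by
    obtain ⟨k, hk⟩ := Q.2.exists_card_eq
    have hk1 : k ≤ 1 := pow_eleven_dvd_7920
      (by rw [← hk, ← hord]; exact Subgroup.card_subgroup_dvd_card _)
    interval_cases k
    · exfalso; apply hQne; exact Subgroup.card_eq_one.mp (by simpa using hk)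
    · simpa using hk
  have hmod : Nat.card (Sylow 11 G) ≡ 1 [MOD 11] := card_sylow_modEq_one 11 G
  have hdvd : Nat.card (Sylow 11 G) ∣ 720 := by
    have h1 := Sylow.card_dvd_index Q
    have h2 := Subgroup.card_mul_index (Q : Subgroup G)
    rw [hQc, hord] at h2
    have h3 : (Q : Subgroup G).index = 720 := by omega
    rwa [h3] at h1
  have hidx1 : (Subgroup.normalizer ((Q : Subgroup G) : Set G)).index ≠ 1 := by
    intro h
    rw [Subgroup.index_eq_one, Subgroup.normalizer_eq_top_iff] at h
    rcases h.eq_bot_or_eq_top with h1 | h1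
    · exact hQne h1
    · rw [h1, Subgroup.card_top, hord] at hQc; norm_num at hQc
  rcases n11_cases hmod hdvd with h | h | h | h
  · exfalso
    apply hidx1
    rw [← h]; exact (Sylow.card_eq_index_normalizer Q).symm
  · exfalso
    refine no_n11_12 G hord ?_ h
    rcases hcs (sylKer G 11) inferInstance with h1 | h1
    · exact h1
    · exfalso
      apply hidx1
      rw [Subgroup.index_eq_one, eq_top_iff]
      intro x _
      have : x ∈ sylKer G 11 := by rw [h1]; trivial
      exact (mem_sylKer.mp this) Q
  · exfalso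
    exact no_n11_45_full G hperf hcs hord h
  · exact h

/-- in a simple group of order `7920` the normalizer of a Sylow `11`-subgroup has order `55` -/
theorem card_normalizer_sylow11_of_simple [Finite G] [IsSimpleGroup G] (hord : Nat.card G = 7920)
    (P : Sylow 11 G) : Nat.card (Subgroup.normalizer ((P : Subgroup G) : Set G)) = 55 := by
  have h := Cfsg.Agent.Lib.Helper7.card_sylow_mul_card_normalizer P
  rw [card_sylow11_of_simple hord, hord] at h
  omega

/-- in a simple group of order `7920` the Sylow `11`-subgroups have order `11` -/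
theorem card_sylow11_subgroup_of_simple [Finite G] [IsSimpleGroup G] (hord : Nat.card G = 7920)
    (P : Sylow 11 G) : Nat.card (P : Subgroup G) = 11 := by
  apply card_sylow11 (by rw [hord]) P
  have h1 : Nat.card (Sylow 11 G) = (Subgroup.normalizer ((P : Subgroup G) : Set G)).index :=
    Sylow.card_eq_index_normalizer P
  rw [card_sylow11_of_simple hord] at h1
  intro h
  rw [h] at h1
  norm_num at h1

/-- in a simple group of order `7920` the Sylow `11`-subgroups are self-centralizing -/
theorem centralizer_sylow11_of_simple [Finite G] [IsSimpleGroup G] (hord : Nat.card G = 7920)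
    (P : Sylow 11 G) : Subgroup.centralizer ((P : Subgroup G) : Set G) = (P : Subgroup G) := by
  have hperf := perfect_of_simple_7920 hord
  have hP := card_sylow11_subgroup_of_simple hord P
  have hN := card_normalizer_sylow11_of_simple hord P
  set N := Subgroup.normalizer ((P : Subgroup G) : Set G) with hNdef
  set C := Subgroup.centralizer ((P : Subgroup G) : Set G) with hCdef
  have hr10 : C.relIndex N ∣ 10 :=
    Cfsg.Agent.Lib.Helper7.relIndex_centralizer_normalizer_dvd_of_prime (p := 11) (P : Subgroup G) hP
  have hCr : Nat.card C * C.relIndex N = Nat.card N :=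
    Cfsg.Agent.Lib.Helper7.card_centralizer_mul_relIndex (P : Subgroup G)
  have hPC : (P : Subgroup G) ≤ C := by
    intro a ha
    rw [Subgroup.mem_centralizer_iff]
    intro b hb
    exact Cfsg.Agent.Lib.Helper7.comm_of_card_prime (p := 11) (P : Subgroup G) hP b hb a ha
  have hr : C.relIndex N = 1 ∨ C.relIndex N = 5 := by
    have hrN : C.relIndex N ∣ 55 := by rw [← hN]; exact Dvd.intro_left _ hCr
    have hle : C.relIndex N ≤ 10 := Nat.le_of_dvd (by norm_num) hr10
    have hpos : 0 < C.relIndex N := Nat.pos_of_dvd_of_pos hr10 (by norm_num)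
    generalize C.relIndex N = r at *
    interval_cases r <;> simp_all
  rcases hr with hr | hr
  · exfalso
    exact not_perfect_of_NC 11 P (Subgroup.relIndex_eq_one.mp hr) (by rw [hord]; norm_num) hperf
  · rw [hr, hN] at hCr
    have hC11 : Nat.card C = 11 := by omega
    exact (Subgroup.eq_of_le_of_card_ge hPC (by rw [hC11, hP])).symm

end Cfsg.Agent.Lib.Helper24.Ord7920
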