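/- helper24: simple groups of order 7920, local structure at the prime 11: conjugacy of powers of an 11-element, no product of two conjugate involutions has order 11 -/
import Mathlib
import Cfsg.Agent.Lib.Helper24.Ord7920F
import Cfsg.Agent.Lib.Lead.CharMain

set_option autoImplicit false

namespace Cfsg.Agent.Lib.Helper24.M11Inv

open Cfsg

variable {G : Type*} [Group G]

/-- if conjugation by `u` raises `y` to the `k`-th power, it does so for every power of `y` -/
theorem conj_pow_eq {u y : G} {k : ℕ} (h : u * y * u⁻¹ = y ^ k) (j : ℕ) :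
    u * y ^ j * u⁻¹ = y ^ (j * k) := by
  rw [← conj_pow, h, ← pow_mul, mul_comm]

theorem isConj_pow_mul {u y : G} {k : ℕ} (h : u * y * u⁻¹ = y ^ k) (j : ℕ) :
    IsConj (y ^ j) (y ^ (j * k)) :=
  isConj_iff.mpr ⟨u, conj_pow_eq h j⟩

/-- iterating the conjugation -/
theorem conj_iter_eq {u y : G} {k : ℕ} (h : u * y * u⁻¹ = y ^ k) (i : ℕ) :
    u ^ i * y * (u ^ i)⁻¹ = y ^ (k ^ i) := by
  induction i with
  | zero => simp
  | succ i ih =>
    have e : u ^ (i + 1) * y * (u ^ (i + 1))⁻¹ = u * (u ^ i * y * (u ^ i)⁻¹) * u⁻¹ := by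
      rw [pow_succ']
      group
    rw [e, ih, conj_pow_eq h, pow_succ]

theorem arith_k : ∀ k < 11, k ^ 5 % 11 = 1 → k ≠ 1 → k = 3 ∨ k = 4 ∨ k = 5 ∨ k = 9 := by
  decide

/-- reduce an exponent modulo `11` -/
theorem pow_eq_of_mod {y : G} (hy : orderOf y = 11) (n m : ℕ) (h : n % 11 = m) : y ^ n = y ^ m := by
  rw [← pow_mod_orderOf y n, hy, h]

/-- the conjugates of an element of order `11` under a normalizing element of order `5` -/
theorem isConj_pows {u y : G} (hy : orderOf y = 11) (hu : u ^ 5 = 1)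
    (huy : u * y * u⁻¹ ∈ Subgroup.zpowers y) (hnc : u * y * u⁻¹ ≠ y) :
    IsConj y (y ^ 3) ∧ IsConj y (y ^ 4) ∧ IsConj y (y ^ 5) ∧ IsConj y (y ^ 9) := by
  obtain ⟨k0, hk0⟩ := Subgroup.mem_zpowers_iff.mp huy
  -- a natural exponent below `11`
  have hk : ∃ k : ℕ, k < 11 ∧ u * y * u⁻¹ = y ^ k := by
    refine ⟨(k0 % 11).toNat, ?_, ?_⟩
    · omega
    · rw [← hk0, ← zpow_natCast, Int.toNat_of_nonneg (by omega)]
      have := zpow_mod_orderOf y k0
      rw [hy] at this
      exact this.symm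
  obtain ⟨k, hk11, hk⟩ := hk
  have h5 := conj_iter_eq hk 5
  rw [hu] at h5
  simp only [one_mul, inv_one, mul_one] at h5
  have hmod : k ^ 5 % 11 = 1 := by
    have h6 : y ^ 1 = y ^ (k ^ 5) := by rw [pow_one]; exact h5
    have := (pow_eq_pow_iff_modEq (x := y)).mp h6
    rw [hy] at this
    exact this.symm
  have hk1 : k ≠ 1 := by
    intro h
    rw [h, pow_one] at hk
    exact hnc hk
  have hj : ∀ j m : ℕ, (j * k) % 11 = m → IsConj (y ^ j) (y ^ m) := by
    intro j m hm
    have := isConj_pow_mul hk j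
    rwa [pow_eq_of_mod hy (j * k) m hm] at this
  have h1 : ∀ m : ℕ, k % 11 = m → IsConj y (y ^ m) := by
    intro m hm
    have := hj 1 m (by rw [one_mul]; exact hm)
    rwa [pow_one] at this
  rcases arith_k k hk11 hmod hk1 with rfl | rfl | rfl | rfl
  · have a1 := h1 3 rfl
    have a2 := hj 3 9 rfl
    have a3 := hj 9 5 rfl
    have a4 := hj 5 4 rfl
    exact ⟨a1, ((a1.trans a2).trans a3).trans a4, (a1.trans a2).trans a3, a1.trans a2⟩
  · have a1 := h1 4 rfl
    have a2 := hj 4 5 rfl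
    have a3 := hj 5 9 rfl
    have a4 := hj 9 3 rfl
    exact ⟨((a1.trans a2).trans a3).trans a4, a1, a1.trans a2, (a1.trans a2).trans a3⟩
  · have a1 := h1 5 rfl
    have a2 := hj 5 3 rfl
    have a3 := hj 3 4 rfl
    have a4 := hj 4 9 rfl
    exact ⟨a1.trans a2, (a1.trans a2).trans a3, a1, ((a1.trans a2).trans a3).trans a4⟩
  · have a1 := h1 9 rfl
    have a2 := hj 9 4 rfl
    have a3 := hj 4 3 rfl
    have a4 := hj 3 5 rfl
    exact ⟨(a1.trans a2).trans a3, a1.trans a2, ((a1.trans a2).trans a3).trans a4, a1⟩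

/-- inverting a conjugacy -/
theorem isConj_inv {a b : G} (h : IsConj a b) : IsConj a⁻¹ b⁻¹ := by
  obtain ⟨c, hc⟩ := isConj_iff.mp h
  refine isConj_iff.mpr ⟨c, ?_⟩
  rw [← hc]
  group

/-- the sum of a class function over the cyclic group generated by `y` -/
theorem sum_zpowers_eq {u y : G} (hy : orderOf y = 11) (hu : u ^ 5 = 1)
    (huy : u * y * u⁻¹ ∈ Subgroup.zpowers y) (hnc : u * y * u⁻¹ ≠ y)
    [Fintype ↥(Subgroup.zpowers y)] (F : G → ℂ) (hF : IsClassFunction G F) :
    ∑ x : ↥(Subgroup.zpowers y), F (x : G) = F 1 + 5 * F y + 5 * F y⁻¹ := by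
  obtain ⟨c3, c4, c5, c9⟩ := isConj_pows hy hu huy hnc
  have hfin : IsOfFinOrder y := by
    rw [← orderOf_pos_iff, hy]; norm_num
  have e1 : ∑ x : ↥(Subgroup.zpowers y), F (x : G) =
      ∑ n : Fin (orderOf y), F (y ^ (n : ℕ)) := by
    symm
    apply Fintype.sum_equiv (finEquivZPowers hfin)
    intro n
    rw [finEquivZPowers_apply]
  rw [e1, Fin.sum_univ_eq_sum_range (fun n => F (y ^ n)) (orderOf y), hy]
  have v : ∀ {a b : G}, IsConj a b → F a = F b := fun h => Cfsg.Agent.CharLib.IsClassFunction.of_isConj hF h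
  have i10 : y ^ 10 = y⁻¹ := by
    rw [eq_inv_iff_mul_eq_one, ← pow_succ]
    have := pow_orderOf_eq_one y
    rwa [hy] at this
  have hinvpow : ∀ j m : ℕ, (j + m) % 11 = 0 → y ^ m = (y ^ j)⁻¹ := by
    intro j m h
    rw [eq_inv_iff_mul_eq_one, ← pow_add, add_comm, pow_eq_of_mod hy _ 0 h, pow_zero]
  have f3 : F (y ^ 3) = F y := (v c3).symm
  have f4 : F (y ^ 4) = F y := (v c4).symm
  have f5 : F (y ^ 5) = F y := (v c5).symm
  have f9 : F (y ^ 9) = F y := (v c9).symm
  have f8 : F (y ^ 8) = F y⁻¹ := by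
    rw [hinvpow 3 8 rfl]; exact (v (isConj_inv c3)).symm
  have f7 : F (y ^ 7) = F y⁻¹ := by
    rw [hinvpow 4 7 rfl]; exact (v (isConj_inv c4)).symm
  have f6 : F (y ^ 6) = F y⁻¹ := by
    rw [hinvpow 5 6 rfl]; exact (v (isConj_inv c5)).symm
  have f2 : F (y ^ 2) = F y⁻¹ := by
    rw [hinvpow 9 2 rfl]; exact (v (isConj_inv c9)).symm
  simp only [Finset.sum_range_succ, Finset.sum_range_zero, pow_zero, pow_one, zero_add]
  rw [f2, f3, f4, f5, f6, f7, f8, f9, i10]
  ring

/-- conjugate elements have the same order -/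
theorem orderOf_eq_of_isConj {a b : G} (h : IsConj a b) : orderOf a = orderOf b := by
  obtain ⟨c, hc⟩ := isConj_iff.mp h
  rw [← hc]
  exact (orderOf_injective (MulAut.conj c).toMonoidHom (MulAut.conj c).injective a).symm

/-- an element inverting `x` normalizes the cyclic group generated by `x` -/
theorem mem_normalizer_zpowers_of_inverts {s x : G} (hs : s * s = 1) (h : s * x * s⁻¹ = x⁻¹) :
    s ∈ Subgroup.normalizer ((Subgroup.zpowers x : Subgroup G) : Set G) := by
  have hs' : s⁻¹ = s := inv_eq_of_mul_eq_one_left hs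
  have key : ∀ w : G, w ∈ Subgroup.zpowers x → s * w * s⁻¹ ∈ Subgroup.zpowers x := by
    intro w hw
    obtain ⟨k, rfl⟩ := Subgroup.mem_zpowers_iff.mp hw
    rw [← conj_zpow, h]
    exact Subgroup.zpow_mem _ (Subgroup.inv_mem _ (Subgroup.mem_zpowers x)) k
  rw [Subgroup.mem_normalizer_iff]
  intro w
  constructor
  · exact key w
  · intro hw
    have := key _ hw
    have e : s * (s * w * s⁻¹) * s⁻¹ = w := by
      rw [hs']
      calc s * (s * w * s) * s = (s * s) * w * (s * s) := by group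
        _ = w := by rw [hs, one_mul, mul_one]
    rwa [e] at this

section simple

variable [Finite G] [IsSimpleGroup G]

/-- in a simple group of order `7920` the cyclic group generated by an element of order `11` is a
Sylow subgroup -/
theorem exists_sylow_eq_zpowers (hord : Nat.card G = 7920) [Fact (Nat.Prime 11)] (x : G)
    (hx : orderOf x = 11) : ∃ P : Sylow 11 G, (P : Subgroup G) = Subgroup.zpowers x := by
  have hp : IsPGroup 11 ↥(Subgroup.zpowers x) := by
    apply IsPGroup.of_card (n := 1)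
    rw [Nat.card_zpowers, hx, pow_one]
  obtain ⟨P, hP⟩ := hp.exists_le_sylow
  refine ⟨P, ?_⟩
  symm
  apply Subgroup.eq_of_le_of_card_ge hP
  rw [Cfsg.Agent.Lib.Helper24.Ord7920.card_sylow11_subgroup_of_simple hord P, Nat.card_zpowers, hx]

/-- in a simple group of order `7920` no product of two conjugate involutions has order `11` -/
theorem not_isConj_mul_invol (hord : Nat.card G = 7920) (t z : G) (ht : orderOf t = 2)
    (hz : orderOf z = 11) (a b : G) : ¬ IsConj (a * t * a⁻¹ * (b * t * b⁻¹)) z := by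
  have : Fact (Nat.Prime 11) := ⟨by norm_num⟩
  intro hc
  have htt : t * t = 1 := by
    rw [← pow_two, ← ht]; exact pow_orderOf_eq_one t
  have h11' : a * t * a⁻¹ * (a * t * a⁻¹) = 1 := by
    calc a * t * a⁻¹ * (a * t * a⁻¹) = a * (t * t) * a⁻¹ := by group
      _ = 1 := by rw [htt]; group
  have h22' : b * t * b⁻¹ * (b * t * b⁻¹) = 1 := by
    calc b * t * b⁻¹ * (b * t * b⁻¹) = b * (t * t) * b⁻¹ := by group
      _ = 1 := by rw [htt]; group
  have ho1' : orderOf (a * t * a⁻¹) = 2 := by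
    have : IsConj t (a * t * a⁻¹) := isConj_iff.mpr ⟨a, rfl⟩
    rw [← orderOf_eq_of_isConj this, ht]
  generalize a * t * a⁻¹ = t1 at hc h11' ho1'
  generalize b * t * b⁻¹ = t2 at hc h22'
  have h11 : t1 * t1 = 1 := h11'
  have h22 : t2 * t2 = 1 := h22'
  have hox : orderOf (t1 * t2) = 11 := by rw [orderOf_eq_of_isConj hc, hz]
  have hinv : t1 * (t1 * t2) * t1⁻¹ = (t1 * t2)⁻¹ := by
    have e1 : t1⁻¹ = t1 := inv_eq_of_mul_eq_one_left h11
    have e2 : t2⁻¹ = t2 := inv_eq_of_mul_eq_one_left h22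
    rw [mul_inv_rev, e1, e2, ← mul_assoc, h11, one_mul]
  have hmem := mem_normalizer_zpowers_of_inverts h11 hinv
  obtain ⟨P, hP⟩ := exists_sylow_eq_zpowers hord (t1 * t2) hox
  rw [← hP] at hmem
  have hN := Cfsg.Agent.Lib.Helper24.Ord7920.card_normalizer_sylow11_of_simple hord P
  have hd := Subgroup.orderOf_dvd_natCard _ hmem
  rw [hN] at hd
  rw [ho1'] at hd
  omega

/-- the local data at the prime `11` of a simple group of order `7920` -/
theorem exists_eleven_data (hord : Nat.card G = 7920) :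
    ∃ y u : G, orderOf y = 11 ∧ u ^ 5 = 1 ∧ u * y * u⁻¹ ∈ Subgroup.zpowers y ∧ u * y * u⁻¹ ≠ y ∧
      Nat.card ↥(Subgroup.centralizer ({y} : Set G)) = 11 := by
  have : Fact (Nat.Prime 11) := ⟨by norm_num⟩
  have : Fact (Nat.Prime 5) := ⟨by norm_num⟩
  obtain ⟨P⟩ : Nonempty (Sylow 11 G) := inferInstance
  have hP := Cfsg.Agent.Lib.Helper24.Ord7920.card_sylow11_subgroup_of_simple hord P
  have hN := Cfsg.Agent.Lib.Helper24.Ord7920.card_normalizer_sylow11_of_simple hord P
  have hC := Cfsg.Agent.Lib.Helper24.Ord7920.centralizer_sylow11_of_simple hord P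
  obtain ⟨y0, hy0⟩ := exists_prime_orderOf_dvd_card' (G := ↥(P : Subgroup G)) 11 (by rw [hP])
  obtain ⟨u0, hu0⟩ := exists_prime_orderOf_dvd_card'
    (G := ↥(Subgroup.normalizer ((P : Subgroup G) : Set G))) 5 (by rw [hN]; norm_num)
  set y : G := (y0 : G) with hydef
  set u : G := (u0 : G) with hudef
  have hy : orderOf y = 11 := by rw [hydef, Subgroup.orderOf_coe]; exact hy0
  have hu : orderOf u = 5 := by rw [hudef, Subgroup.orderOf_coe]; exact hu0
  have hyP : y ∈ (P : Subgroup G) := y0.2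
  have huN : u ∈ Subgroup.normalizer ((P : Subgroup G) : Set G) := u0.2
  have hzy : Subgroup.zpowers y = (P : Subgroup G) := by
    apply Subgroup.eq_of_le_of_card_ge
    · rw [Subgroup.zpowers_le]; exact hyP
    · rw [hP, Nat.card_zpowers, hy]
  have hcent : Subgroup.centralizer ({y} : Set G) = (P : Subgroup G) := by
    rw [← hC, ← hzy]
    ext g
    rw [Subgroup.mem_centralizer_singleton_iff, Subgroup.mem_centralizer_iff]
    constructor
    · intro h w hw
      obtain ⟨i, rfl⟩ := hw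
      have hc : Commute g y := h
      exact ((hc.zpow_right i).eq).symm
    · intro h
      exact (h y (Subgroup.mem_zpowers y)).symm
  refine ⟨y, u, hy, ?_, ?_, ?_, ?_⟩
  · rw [← hu]; exact pow_orderOf_eq_one u
  · rw [hzy]
    exact (Subgroup.mem_normalizer_iff.mp huN y).mp hyP
  · intro h
    have hcomm : u * y = y * u := by
      calc u * y = u * y * u⁻¹ * u := by group
        _ = y * u := by rw [h]
    have huC : u ∈ Subgroup.centralizer ({y} : Set G) := by
      rw [Subgroup.mem_centralizer_singleton_iff]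
      exact hcomm
    rw [hcent] at huC
    have hd := Subgroup.orderOf_dvd_natCard _ huC
    rw [hP, hu] at hd
    omega
  · rw [hcent, hP]

end simple

end Cfsg.Agent.Lib.Helper24.M11Inv
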