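/-
A self-centralizing normal subgroup of prime order with index prime to p makes the group a Frobenius group
(helper24).
-/
import Mathlib
import Cfsg.Prelude.Def_Solvable

set_option autoImplicit false

namespace Cfsg.Agent.Lib.Helper24

open Cfsg
open scoped Pointwise

variable {G : Type*} [Group G]

theorem mem_conj_smul_iff (g x : G) (H : Subgroup G) : x ∈ MulAut.conj g • H ↔ g⁻¹ * x * g ∈ H := by
  rw [Subgroup.mem_pointwise_smul_iff_inv_smul_mem]
  simp [MulAut.smul_def]

/-- elements of a subgroup of prime order commute -/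
theorem comm_of_prime_card (p : ℕ) [Fact p.Prime] (P : Subgroup G) (hP : Nat.card P = p) (a b : G)
    (ha : a ∈ P) (hb : b ∈ P) : a * b = b * a := by
  have hcyc : IsCyclic P := isCyclic_of_prime_card hP
  obtain ⟨x, hx⟩ := hcyc.exists_generator
  obtain ⟨i, hi⟩ := Subgroup.mem_zpowers_iff.mp (hx ⟨a, ha⟩)
  obtain ⟨j, hj⟩ := Subgroup.mem_zpowers_iff.mp (hx ⟨b, hb⟩)
  have h1 : (⟨a, ha⟩ : P) * ⟨b, hb⟩ = ⟨b, hb⟩ * ⟨a, ha⟩ := by
    rw [← hi, ← hj, ← zpow_add, ← zpow_add, add_comm]
  exact congrArg Subtype.val h1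

/-- an element commuting with a nonidentity element of a subgroup of prime order centralizes it -/
theorem comm_all_of_comm_one (p : ℕ) [Fact p.Prime] (P : Subgroup G) (hP : Nat.card P = p) (x u : G)
    (hu : u ∈ P) (hu1 : u ≠ 1) (hxu : x * u = u * x) (z : G) (hz : z ∈ P) : x * z = z * x := by
  have hu1' : (⟨u, hu⟩ : P) ≠ 1 := fun h => hu1 (congrArg Subtype.val h)
  have hmem : (⟨z, hz⟩ : P) ∈ Subgroup.zpowers (⟨u, hu⟩ : P) := mem_zpowers_of_prime_card hP hu1'
  obtain ⟨i, hi⟩ := Subgroup.mem_zpowers_iff.mp hmem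
  have hz' : z = u ^ i := by
    have := congrArg Subtype.val hi
    simpa using this.symm
  rw [hz']
  exact ((Commute.zpow_right (show Commute x u from hxu) i)).eq

theorem frobenius_of_prime_normal [Finite G] (p : ℕ) [Fact p.Prime] (P : Subgroup G) [P.Normal]
    (hPcard : Nat.card P = p) (hcent : ∀ c : G, (∀ z ∈ P, c * z = z * c) → c ∈ P)
    (hidx : ¬ p ∣ P.index) (hidx1 : P.index ≠ 1) :
    ∃ H : Subgroup G, IsFrobeniusComplement H ∧ Nat.card (frobeniusKernel H) = p := by
  have hp : p.Prime := Fact.out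
  have hcop : Nat.Coprime (Nat.card P) P.index := by
    rw [hPcard]
    exact (Nat.Prime.coprime_iff_not_dvd hp).mpr hidx
  obtain ⟨H, hc⟩ := Subgroup.exists_left_complement'_of_coprime hcop
  have hdisj : ∀ x : G, x ∈ H → x ∈ P → x = 1 := by
    intro x hxH hxP
    have := hc.disjoint
    rw [Subgroup.disjoint_def] at this
    exact this hxH hxP
  have hcardH : Nat.card H = P.index := hc.index_eq_card.symm
  have hdecomp : ∀ g : G, ∃ h ∈ H, ∃ u ∈ P, g = h * u := by
    intro g
    obtain ⟨⟨h, u⟩, hg⟩ := hc.2 g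
    exact ⟨h, h.2, u, u.2, hg.symm⟩
  -- key fact
  have K1 : ∀ x ∈ H, ∀ u ∈ P, u ≠ 1 → x * u = u * x → x = 1 := by
    intro x hx u hu hu1 hxu
    apply hdisj x hx
    apply hcent
    intro z hz
    exact comm_all_of_comm_one p P hPcard x u hu hu1 hxu z hz
  have hHbot : H ≠ ⊥ := by
    intro h
    rw [h, Subgroup.card_bot] at hcardH
    exact hidx1 hcardH.symm
  have hHtop : H ≠ ⊤ := by
    intro h
    have h1 := hc.card_mul_card
    rw [h, Subgroup.card_top, hPcard] at h1
    have hpos : 0 < Nat.card G := Nat.card_pos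
    have : p = 1 := by
      have h2 : Nat.card G * p = Nat.card G * 1 := by rw [h1, mul_one]
      exact Nat.eq_of_mul_eq_mul_left hpos h2
    exact hp.one_lt.ne' this
  -- trivial intersection
  have hTI : ∀ g : G, g ∉ H → H ⊓ (MulAut.conj g • H) = ⊥ := by
    intro g hg
    rw [eq_bot_iff]
    intro x hx
    rw [Subgroup.mem_bot]
    have hxH : x ∈ H := hx.1
    have hxg : x ∈ MulAut.conj g • H := hx.2
    rw [mem_conj_smul_iff] at hxg
    obtain ⟨h, hh, u, hu, rfl⟩ := hdecomp g
    have hu1 : u ≠ 1 := by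
      intro h1
      apply hg
      rw [h1, mul_one]
      exact hh
    -- x' = h⁻¹ x h ∈ H, y = u⁻¹ x' u ∈ H
    have hx' : h⁻¹ * x * h ∈ H := H.mul_mem (H.mul_mem (H.inv_mem hh) hxH) hh
    have hy : u⁻¹ * (h⁻¹ * x * h) * u ∈ H := by
      have : (h * u)⁻¹ * x * (h * u) = u⁻¹ * (h⁻¹ * x * h) * u := by group
      rw [← this]
      exact hxg
    have hmemP : (h⁻¹ * x * h)⁻¹ * (u⁻¹ * (h⁻¹ * x * h) * u) ∈ P := by
      have h1 : (h⁻¹ * x * h)⁻¹ * u⁻¹ * (h⁻¹ * x * h) ∈ P := by
        have := (inferInstance : P.Normal).conj_mem u⁻¹ (P.inv_mem hu) (h⁻¹ * x * h)⁻¹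
        simpa using this
      have h2 := P.mul_mem h1 hu
      have : (h⁻¹ * x * h)⁻¹ * (u⁻¹ * (h⁻¹ * x * h) * u) = (h⁻¹ * x * h)⁻¹ * u⁻¹ * (h⁻¹ * x * h) * u := by group
      rw [this]
      exact h2
    have hmemH : (h⁻¹ * x * h)⁻¹ * (u⁻¹ * (h⁻¹ * x * h) * u) ∈ H := H.mul_mem (H.inv_mem hx') hy
    have heq := hdisj _ hmemH hmemP
    have hcomm : (h⁻¹ * x * h) * u = u * (h⁻¹ * x * h) := by
      have h1 : u⁻¹ * (h⁻¹ * x * h) * u = h⁻¹ * x * h := by
        have := inv_mul_eq_one.mp heq
        exact this.symm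
      calc (h⁻¹ * x * h) * u = u * (u⁻¹ * (h⁻¹ * x * h) * u) := by group
        _ = u * (h⁻¹ * x * h) := by rw [h1]
    have h1 := K1 _ hx' u hu hu1 hcomm
    have : x = h * (h⁻¹ * x * h) * h⁻¹ := by group
    rw [this, h1]
    group
  refine ⟨H, ⟨hHbot, hHtop, hTI⟩, ?_⟩
  -- the kernel is P
  have hker : frobeniusKernel H = (P : Set G) := by
    ext x
    simp only [frobeniusKernel, Set.mem_ofPred_eq, SetLike.mem_coe]
    constructor
    · rintro (rfl | hx)
      · exact P.one_mem
      · by_contra hxP
        obtain ⟨h, hh, u, hu, rfl⟩ := hdecomp x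
        have hh1 : h ≠ 1 := by
          intro h1
          apply hxP
          rw [h1, one_mul]
          exact hu
        -- conjugation by h⁻¹ on P is fixed point free
        let φ : P →* P :=
          { toFun := fun z => ⟨h⁻¹ * z * h, by
              have := (inferInstance : P.Normal).conj_mem z z.2 h⁻¹
              simpa using this⟩
            map_one' := by
              apply Subtype.ext
              show h⁻¹ * (1 : G) * h = 1
              group
            map_mul' := fun a b => by
              apply Subtype.ext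
              show h⁻¹ * (a * b) * h = (h⁻¹ * a * h) * (h⁻¹ * b * h)
              group }
        have hfpf : MonoidHom.FixedPointFree φ := by
          intro z hz
          by_contra hz1
          have hz1' : (z : G) ≠ 1 := fun h0 => hz1 (Subtype.ext h0)
          have hzc : h⁻¹ * (z : G) * h = z := congrArg Subtype.val hz
          have hcomm : h * (z : G) = z * h := by
            calc h * (z : G) = h * (h⁻¹ * z * h) := by rw [hzc]
              _ = z * h := by group
          exact hh1 (K1 h hh z z.2 hz1' hcomm)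
        have := Finite.of_injective (fun q : P => (q : G)) Subtype.val_injective
        obtain ⟨v, hv⟩ := hfpf.commutatorMap_surjective ⟨u⁻¹, P.inv_mem hu⟩
        have hv' : (v : G) * (h⁻¹ * v * h)⁻¹ = u⁻¹ := by
          have h0 := congrArg Subtype.val hv
          rw [MonoidHom.commutatorMap_apply, div_eq_mul_inv] at h0
          exact h0
        -- then v⁻¹ * (h * u) * v = h
        apply hx v
        rw [mem_conj_smul_iff]
        have hcomm1 : (h⁻¹ * (v : G)⁻¹ * h) * u = u * (h⁻¹ * (v : G)⁻¹ * h) := by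
          apply comm_of_prime_card p P hPcard
          · have := (inferInstance : P.Normal).conj_mem _ (P.inv_mem v.2) h⁻¹
            simpa using this
          · exact hu
        have hcomm2 : (h⁻¹ * (v : G)⁻¹ * h) * v = v * (h⁻¹ * (v : G)⁻¹ * h) := by
          apply comm_of_prime_card p P hPcard
          · have := (inferInstance : P.Normal).conj_mem _ (P.inv_mem v.2) h⁻¹
            simpa using this
          · exact v.2
        have hfinal : (v : G)⁻¹ * (h * u) * v = h := by
          have h1 : (v : G)⁻¹ * (h * u) * v = h * ((h⁻¹ * (v : G)⁻¹ * h) * u * v) := by group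
          have h2 : (h⁻¹ * (v : G)⁻¹ * h) * u * v = 1 := by
            rw [hcomm1, mul_assoc, hcomm2, ← mul_assoc]
            have h3 : (h⁻¹ * (v : G)⁻¹ * h) = (h⁻¹ * v * h)⁻¹ := by group
            rw [h3, mul_assoc, hv']
            group
          rw [h1, h2, mul_one]
        rw [hfinal]
        exact hh
    · intro hxP
      by_cases hx1 : x = 1
      · left; exact hx1
      · right
        intro g hxg
        rw [mem_conj_smul_iff] at hxg
        have hP' : g⁻¹ * x * g ∈ P := by
          have := (inferInstance : P.Normal).conj_mem x hxP g⁻¹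
          simpa using this
        have h1 := hdisj _ hxg hP'
        apply hx1
        have : x = g * (g⁻¹ * x * g) * g⁻¹ := by group
        rw [this, h1]
        group
  rw [hker]
  exact hPcard

end Cfsg.Agent.Lib.Helper24
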