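/- helper24: BG 10.8 prerequisites, part 1: a p-group (p odd) with a maximal elementary abelian subgroup of order p^2 is narrow (via S1453). -/
import Mathlib
import Cfsg.Prelude.Def_OddOrderLocal
import Cfsg.Agent.S1453
import Cfsg.Agent.Lib.Helper11.UniqueSubgroup
import Cfsg.Agent.Lib.Helper1.Coprime

set_option autoImplicit false
set_option linter.unusedSectionVars false
set_option linter.unusedVariables false
set_option linter.style.haveILetI false

namespace Cfsg.Agent.Lib.Helper24.BGBeta

universe u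

variable {R : Type u} [Group R]

/-- the closure of pairwise commuting elements of order dividing `p` is elementary abelian -/
theorem elemAb_closure {p : ℕ} {S : Set R} (hcomm : ∀ a ∈ S, ∀ b ∈ S, a * b = b * a)
    (hpow : ∀ a ∈ S, a ^ p = 1) : Cfsg.IsElementaryAbelian p (Subgroup.closure S) := by
  have hc : IsMulCommutative (Subgroup.closure S) := Subgroup.isMulCommutative_closure hcomm
  refine ⟨hc, ?_⟩
  have hcm : ∀ a ∈ Subgroup.closure S, ∀ b ∈ Subgroup.closure S, a * b = b * a := by
    intro a ha b hb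
    have := hc.is_comm.comm ⟨a, ha⟩ ⟨b, hb⟩
    exact congrArg Subtype.val this
  intro a ha
  induction ha using Subgroup.closure_induction with
  | mem x hx => exact hpow x hx
  | one => exact one_pow p
  | mul x y hx hy ihx ihy =>
    have : Commute x y := hcm x hx y hy
    rw [this.mul_pow, ihx, ihy, one_mul]
  | inv x hx ih => rw [inv_pow, ih, inv_one]

theorem comm_of_elemAb {p : ℕ} {A : Subgroup R} (h : Cfsg.IsElementaryAbelian p A) :
    ∀ a ∈ A, ∀ b ∈ A, a * b = b * a := by
  intro a ha b hb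
  have := h.1.is_comm.comm ⟨a, ha⟩ ⟨b, hb⟩
  exact congrArg Subtype.val this

/-- a `p`-group (`p` odd) with a maximal elementary abelian subgroup of order `p ^ 2` is narrow -/
theorem narrow_of_maximal_sq [Finite R] (p : ℕ) [Fact p.Prime] (hp : p ≠ 2) (hR : IsPGroup p R)
    (E : Subgroup R) (hE : Cfsg.IsElementaryAbelian p E) (hE2 : Nat.card E = p ^ 2)
    (hEmax : ∀ B : Subgroup R, Cfsg.IsElementaryAbelian p B → E ≤ B → B = E) :
    Cfsg.IsNarrow p R := by
  by_cases hr : Cfsg.PRankLE p 2 R
  · exact Or.inl hr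
  right
  obtain ⟨hET, hZcard, ⟨hWea, hWcard⟩, hTchar, hTidx⟩ :=
    Cfsg.Agent.S1453.result p hp hR hr E hE hE2 hEmax
  obtain ⟨W, hW⟩ : ∃ W : Subgroup R, W = Subgroup.closure
    {x : R | x ∈ Subgroup.upperCentralSeries R 2 ∧ x ^ p = 1} := ⟨_, rfl⟩
  rw [← hW] at hET hTchar hTidx
  obtain ⟨T, hT⟩ : ∃ T : Subgroup R, T = Subgroup.centralizer (W : Set R) := ⟨_, rfl⟩
  rw [← hT] at hET hTchar hTidx
  obtain ⟨Z0, hZ0⟩ : ∃ Z0 : Subgroup R, Z0 = Subgroup.closure
    {x : R | x ∈ Subgroup.center R ∧ x ^ p = 1} := ⟨_, rfl⟩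
  rw [← hZ0] at hZcard
  have hpp : p.Prime := Fact.out
  haveI : T.Normal := Subgroup.normal_of_characteristic T
  -- the element `x`
  obtain ⟨x, hxE, hxT⟩ := SetLike.not_le_iff_exists.mp hET
  have hxp : x ^ p = 1 := hE.2 x hxE
  have hx1 : x ≠ 1 := fun h => hxT (h ▸ T.one_mem)
  have hox : orderOf x = p := orderOf_eq_prime hxp hx1
  -- `Z0`
  have hZ0c : Z0 ≤ Subgroup.center R := by
    rw [hZ0]; exact (Subgroup.closure_le _).mpr (fun y hy => hy.1)
  have hcenT : Subgroup.center R ≤ T := by
    intro z hz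
    rw [hT, Subgroup.mem_centralizer_iff]
    intro w _
    exact (Subgroup.mem_center_iff.mp hz) w
  have hZ0T : Z0 ≤ T := hZ0c.trans hcenT
  have hZ0pow : ∀ z ∈ Z0, z ^ p = 1 := by
    intro z hz
    have h1 : (⟨z, hz⟩ : Z0) ^ p = 1 := by
      have := pow_card_eq_one' (G := Z0) (x := ⟨z, hz⟩)
      rwa [hZcard] at this
    have h2 := congrArg (fun y : Z0 => (y : R)) h1
    simpa using h2
  have hcomZ : ∀ z ∈ Z0, ∀ g : R, g * z = z * g := fun z hz g =>
    (Subgroup.mem_center_iff.mp (hZ0c hz)) g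
  -- `Z0 ≤ E`
  have hZ0E : Z0 ≤ E := by
    have hB : Cfsg.IsElementaryAbelian p (Subgroup.closure ((E : Set R) ∪ (Z0 : Set R))) := by
      apply elemAb_closure
      · rintro a (ha | ha) b (hb | hb)
        · exact comm_of_elemAb hE a ha b hb
        · exact hcomZ b hb a
        · exact (hcomZ a ha b).symm
        · exact hcomZ b hb a
      · rintro a (ha | ha)
        · exact hE.2 a ha
        · exact hZ0pow a ha
    have h1 := hEmax _ hB (fun e he => Subgroup.subset_closure (Or.inl he))
    intro z hz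
    rw [← h1]
    exact Subgroup.subset_closure (Or.inr hz)
  -- `E ⊓ T = Z0`
  have hETZ : E ⊓ T = Z0 := by
    symm
    apply Subgroup.eq_of_le_of_card_ge (le_inf hZ0E hZ0T)
    rw [hZcard]
    have h1 : Nat.card (E ⊓ T : Subgroup R) ∣ p ^ 2 := by
      rw [← hE2]; exact Subgroup.card_dvd_of_le inf_le_left
    obtain ⟨j, hj, hcj⟩ := (Nat.dvd_prime_pow hpp).mp h1
    have hj2 : j ≠ 2 := by
      intro h2
      rw [h2, ← hE2] at hcj
      have hEq : E ⊓ T = E := Subgroup.eq_of_le_of_card_ge inf_le_left hcj.ge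
      have hxET : x ∈ E ⊓ T := by rw [hEq]; exact hxE
      exact hxT hxET.2
    rw [hcj]
    have : j ≤ 1 := by omega
    calc p ^ j ≤ p ^ 1 := Nat.pow_le_pow_right hpp.pos this
      _ = p := pow_one p
  -- every element is a power of `x` times an element of `T`
  have hcoset : ∀ y : R, ∃ k : ℤ, (x ^ k)⁻¹ * y ∈ T := by
    intro y
    have hcard : Nat.card (R ⧸ T) = p := by rw [← Subgroup.index_eq_card]; exact hTidx
    have hne : (QuotientGroup.mk' T x) ≠ 1 := by
      intro h
      exact hxT ((QuotientGroup.eq_one_iff x).mp h)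
    have htop : Subgroup.zpowers (QuotientGroup.mk' T x) = ⊤ :=
      zpowers_eq_top_of_prime_card hcard hne
    have hy : QuotientGroup.mk' T y ∈ Subgroup.zpowers (QuotientGroup.mk' T x) := by
      rw [htop]; exact Subgroup.mem_top _
    obtain ⟨k, hk⟩ := Subgroup.mem_zpowers_iff.mp hy
    refine ⟨k, ?_⟩
    rw [← QuotientGroup.eq_one_iff]
    have : (QuotientGroup.mk' T) ((x ^ k)⁻¹ * y) = 1 := by
      rw [map_mul, map_inv, map_zpow, hk]; exact inv_mul_cancel _
    exact this
  -- elements of order `p` in `C_T(x)` lie in `Z0`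
  have hkey : ∀ h ∈ T, h ^ p = 1 → h * x = x * h → h ∈ Z0 := by
    intro h hhT hhp hhx
    have hhE : ∀ e ∈ E, h * e = e * h := by
      intro e he
      obtain ⟨k, hk⟩ := hcoset e
      have h1 : (x ^ k)⁻¹ * e ∈ E ⊓ T :=
        ⟨E.mul_mem (E.inv_mem (E.zpow_mem hxE k)) he, hk⟩
      rw [hETZ] at h1
      have h2 : e = x ^ k * ((x ^ k)⁻¹ * e) := by group
      have h3 : Commute h (x ^ k) := (show Commute h x from hhx).zpow_right k
      have h4 : Commute h ((x ^ k)⁻¹ * e) := hcomZ _ h1 h
      rw [h2]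
      exact (h3.mul_right h4).eq
    have hB : Cfsg.IsElementaryAbelian p (Subgroup.closure ((E : Set R) ∪ {h})) := by
      apply elemAb_closure
      · rintro a (ha | ha) b (hb | hb)
        · exact comm_of_elemAb hE a ha b hb
        · rw [Set.mem_singleton_iff.mp hb]; exact (hhE a ha).symm
        · rw [Set.mem_singleton_iff.mp ha]; exact hhE b hb
        · rw [Set.mem_singleton_iff.mp ha, Set.mem_singleton_iff.mp hb]
      · rintro a (ha | ha)
        · exact hE.2 a ha
        · rw [Set.mem_singleton_iff.mp ha]; exact hhp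
    have h1 := hEmax _ hB (fun e he => Subgroup.subset_closure (Or.inl he))
    have h2 : h ∈ E := by
      rw [← h1]; exact Subgroup.subset_closure (Or.inr rfl)
    rw [← hETZ]; exact ⟨h2, hhT⟩
  -- the two subgroups
  obtain ⟨R₁, hR₁⟩ : ∃ R₁ : Subgroup R, R₁ = T ⊓ Subgroup.centralizer ((Subgroup.zpowers x : Subgroup R) : Set R) :=
    ⟨_, rfl⟩
  have hcx : ∀ g : R, g ∈ Subgroup.centralizer ((Subgroup.zpowers x : Subgroup R) : Set R) ↔ g * x = x * g := by
    intro g
    rw [Subgroup.mem_centralizer_iff]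
    constructor
    · intro h; exact (h x (Subgroup.mem_zpowers x)).symm
    · intro h y hy
      obtain ⟨k, rfl⟩ := Subgroup.mem_zpowers_iff.mp hy
      exact ((show Commute g x from h).zpow_right k).eq.symm
  have hZ0R₁ : Z0 ≤ R₁ := by
    rw [hR₁]
    refine le_inf hZ0T ?_
    intro z hz
    rw [hcx]; exact (hcomZ z hz x).symm
  refine ⟨Subgroup.zpowers x, R₁, ?_, ?_, ?_, ?_, ?_⟩
  · rw [Nat.card_zpowers, hox]
  · -- cyclic
    have hR₁p : IsPGroup p R₁ := hR.to_subgroup R₁
    obtain ⟨m, hm⟩ := IsPGroup.iff_card.mp hR₁p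
    have hm1 : 1 ≤ m := by
      have h1 : p ∣ p ^ m := by
        rw [← hm, ← hZcard]; exact Subgroup.card_dvd_of_le hZ0R₁
      by_contra h0
      have : m = 0 := by omega
      rw [this, pow_zero] at h1
      exact hpp.one_lt.ne' (Nat.dvd_one.mp h1)
    rcases Nat.lt_or_ge 1 m with hlt | hge
    · have key : ∀ H : Subgroup ↥R₁, Nat.card H = p ^ 1 → H = Z0.subgroupOf R₁ := by
        intro H hH
        rw [pow_one] at hH
        apply Subgroup.eq_of_le_of_card_ge
        · intro y hy
          rw [Subgroup.mem_subgroupOf]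
          have hy1 : (y : R) ^ p = 1 := by
            have h1 : (⟨y, hy⟩ : H) ^ p = 1 := by
              have := pow_card_eq_one' (G := H) (x := ⟨y, hy⟩)
              rwa [hH] at this
            have h2 := congrArg (fun z : H => ((z : ↥R₁) : R)) h1
            simpa using h2
          have hy2 : (y : R) ∈ T ⊓ Subgroup.centralizer ((Subgroup.zpowers x : Subgroup R) : Set R) :=
            hR₁.le y.2
          exact hkey _ hy2.1 hy1 ((hcx _).mp hy2.2)
        · rw [Cfsg.Agent.Lib.Helper1.card_subgroupOf_of_le hZ0R₁, hZcard, hH]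
      apply Cfsg.Agent.Lib.Helper11.isCyclic_of_unique_subgroup_card p m 1 hpp hm le_rfl hlt
        (Or.inl hp)
      intro H K hH hK
      rw [key H hH, key K hK]
    · have : m = 1 := by omega
      rw [this, pow_one] at hm
      exact isCyclic_of_prime_card hm
  · -- trivial intersection
    rw [Subgroup.eq_bot_iff_forall]
    rintro y ⟨hy1, hy2⟩
    by_contra hne
    obtain ⟨k, rfl⟩ := Subgroup.mem_zpowers_iff.mp hy1
    -- `x` is a power of `x ^ k`
    have hgen : Subgroup.zpowers (x ^ k) = Subgroup.zpowers x := by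
      apply Subgroup.eq_of_le_of_card_ge
      · rw [Subgroup.zpowers_le]; exact Subgroup.zpow_mem_zpowers x k
      · rw [Nat.card_zpowers, Nat.card_zpowers, hox]
        have h1 : orderOf (x ^ k) ∣ p := by
          rw [orderOf_dvd_iff_pow_eq_one, ← zpow_natCast, ← zpow_mul, mul_comm, zpow_mul,
            zpow_natCast, hxp, one_zpow]
        rcases (Nat.dvd_prime hpp).mp h1 with h | h
        · exact absurd (orderOf_eq_one_iff.mp h) hne
        · exact h.ge
    have hxin : x ∈ Subgroup.zpowers (x ^ k) := by rw [hgen]; exact Subgroup.mem_zpowers x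
    have hle : Subgroup.zpowers (x ^ k) ≤ T := by
      rw [Subgroup.zpowers_le]; rw [hR₁] at hy2; exact hy2.1
    exact hxT (hle hxin)
  · intro a ha b hb
    rw [hR₁] at hb
    have := (Subgroup.mem_centralizer_iff.mp hb.2) a ha
    exact this
  · apply le_antisymm
    · apply sup_le
      · intro y hy
        rw [hcx]
        obtain ⟨k, rfl⟩ := Subgroup.mem_zpowers_iff.mp hy
        exact ((Commute.refl x).zpow_left k).eq
      · rw [hR₁]; exact inf_le_right
    · intro y hy
      obtain ⟨k, hk⟩ := hcoset y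
      have h1 : (x ^ k)⁻¹ * y ∈ R₁ := by
        rw [hR₁]
        refine ⟨hk, ?_⟩
        rw [hcx] at hy
        show _ ∈ Subgroup.centralizer ((Subgroup.zpowers x : Subgroup R) : Set R)
        rw [hcx]
        have h3 : Commute (x ^ k)⁻¹ x := ((Commute.refl x).zpow_left k).inv_left
        exact (h3.mul_left (show Commute y x from hy)).eq
      have h2 : y = x ^ k * ((x ^ k)⁻¹ * y) := by group
      rw [h2]
      exact Subgroup.mul_mem_sup (Subgroup.zpow_mem_zpowers x k) h1

end Cfsg.Agent.Lib.Helper24.BGBeta
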