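/- helper24: BG 10.8 prerequisites, part 2: normal p-complements for a set of primes give a characteristic normal Hall subgroup (hallInf), nilpotency, and a nilpotent Hall complement. -/
import Mathlib
import Cfsg.Prelude.Def_OddOrderLocal
import Cfsg.Agent.Lib.Helper12.Cores
import Cfsg.Agent.Lib.Helper12.PNilpotent

set_option autoImplicit false
set_option linter.unusedSectionVars false
set_option linter.unusedVariables false
set_option linter.style.haveILetI false

namespace Cfsg.Agent.Lib.Helper24.BGBeta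

universe u

variable {X : Type u} [Group X] [Finite X]

/-- with a normal `p`-complement, `O_{p'}` has `p`-power index -/
theorem exists_pow_index_pPrimeCore {p : ℕ} [Fact p.Prime] (h : Cfsg.HasNormalPComplement p X) :
    ∃ k : ℕ, (Cfsg.pPrimeCore p X).index = p ^ k := by
  obtain ⟨P, N, hNn, hN⟩ := h
  have hcop : (Nat.card N).Coprime p := Cfsg.Agent.Lib.Helper12.coprime_card_of_isComplement' P N hN
  have hle : N ≤ Cfsg.pPrimeCore p X := Cfsg.Agent.Lib.Helper12.le_pPrimeCore p N hNn hcop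
  have hidx : N.index = Nat.card (P : Subgroup X) := hN.symm.index_eq_card
  obtain ⟨k, hk⟩ := IsPGroup.iff_card.mp P.isPGroup'
  have hdvd : (Cfsg.pPrimeCore p X).index ∣ p ^ k := by
    rw [← hk, ← hidx]; exact Subgroup.index_dvd_of_le hle
  obtain ⟨j, -, hj⟩ := (Nat.dvd_prime_pow Fact.out).mp hdvd
  exact ⟨j, hj⟩

/-- a `q`-subgroup lies in every normal subgroup of `p`-power index, `q ≠ p` -/
theorem le_of_index_pow {p q : ℕ} (hp : p.Prime) (hq : q.Prime) (hpq : p ≠ q) (K : Subgroup X)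
    [K.Normal] {k : ℕ} (hK : K.index = p ^ k) (Q : Subgroup X) (hQ : IsPGroup q Q) : Q ≤ K := by
  rw [← Subgroup.relIndex_eq_one]
  have h1 : K.relIndex Q ∣ p ^ k := by
    rw [← hK]; exact Subgroup.relIndex_dvd_index_of_normal K Q
  haveI : Fact q.Prime := ⟨hq⟩
  obtain ⟨j, hj⟩ := IsPGroup.iff_card.mp hQ
  have h2 : K.relIndex Q ∣ q ^ j := by
    rw [← hj]; exact Subgroup.relIndex_dvd_card K Q
  have hcop : Nat.Coprime (p ^ k) (q ^ j) :=
    Nat.Coprime.pow k j ((Nat.coprime_primes hp hq).mpr hpq)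
  exact Nat.eq_one_of_dvd_coprimes hcop h1 h2

/-- the intersection of the `O_{p'}` over the primes `p ∈ ρ` dividing the order -/
def hallInf (ρ : Set ℕ) (X : Type u) [Group X] : Subgroup X :=
  ⨅ p : {p : ℕ // p.Prime ∧ p ∈ ρ ∧ p ∣ Nat.card X}, Cfsg.pPrimeCore p.1 X

instance hallInf_characteristic (ρ : Set ℕ) : (hallInf ρ X).Characteristic := by
  rw [Subgroup.characteristic_iff_map_eq]
  intro φ
  unfold hallInf
  apply le_antisymm
  · apply le_iInf
    intro p
    rw [← Cfsg.Agent.Lib.Helper12.pPrimeCore_map_equiv p.1 φ]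
    exact Subgroup.map_mono (iInf_le _ p)
  · intro y hy
    rw [Subgroup.mem_iInf] at hy
    refine ⟨φ.symm y, ?_, by simp⟩
    show φ.symm y ∈ ⨅ p : {p : ℕ // p.Prime ∧ p ∈ ρ ∧ p ∣ Nat.card X}, Cfsg.pPrimeCore p.1 X
    rw [Subgroup.mem_iInf]
    intro p
    have h1 := hy p
    rw [← Cfsg.Agent.Lib.Helper12.pPrimeCore_map_equiv p.1 φ] at h1
    obtain ⟨z, hz, hzy⟩ := h1
    have : φ.symm y = z := by
      rw [← hzy]; simp
    rw [this]; exact hz

theorem hallInf_not_dvd_card (ρ : Set ℕ) {p : ℕ} (hp : p.Prime) (hpρ : p ∈ ρ) :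
    ¬ p ∣ Nat.card (hallInf ρ X) := by
  intro hd
  have hpX : p ∣ Nat.card X := hd.trans (Subgroup.card_subgroup_dvd_card _)
  have hle : hallInf ρ X ≤ Cfsg.pPrimeCore p X := iInf_le _ (⟨p, hp, hpρ, hpX⟩ : {p : ℕ // p.Prime ∧ p ∈ ρ ∧ p ∣ Nat.card X})
  have h1 : p ∣ Nat.card (Cfsg.pPrimeCore p X) := hd.trans (Subgroup.card_dvd_of_le hle)
  have h2 := Cfsg.Agent.Lib.Helper12.pPrimeCore_coprime (X := X) p
  have h3 : p ∣ Nat.gcd (Nat.card (Cfsg.pPrimeCore p X)) p := Nat.dvd_gcd h1 (dvd_refl p)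
  rw [h2] at h3
  exact hp.one_lt.ne' (Nat.dvd_one.mp h3)

theorem hallInf_not_dvd_index (ρ : Set ℕ)
    (hnpc : ∀ p : ℕ, p.Prime → p ∈ ρ → p ∣ Nat.card X → Cfsg.HasNormalPComplement p X)
    {q : ℕ} (hq : q.Prime) (hqρ : q ∉ ρ) : ¬ q ∣ (hallInf ρ X).index := by
  haveI : Fact q.Prime := ⟨hq⟩
  obtain ⟨Q⟩ : Nonempty (Sylow q X) := inferInstance
  have hle : (Q : Subgroup X) ≤ hallInf ρ X := by
    apply le_iInf
    rintro ⟨p, hp, hpρ, hpX⟩
    haveI : Fact p.Prime := ⟨hp⟩
    obtain ⟨k, hk⟩ := exists_pow_index_pPrimeCore (hnpc p hp hpρ hpX)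
    haveI : (Cfsg.pPrimeCore p X).Characteristic :=
      Cfsg.Agent.Lib.Helper12.pPrimeCore_characteristic p
    haveI : (Cfsg.pPrimeCore p X).Normal := Subgroup.normal_of_characteristic _
    have hne : p ≠ q := fun h => hqρ (h ▸ hpρ)
    exact le_of_index_pow hp hq hne _ hk _ Q.isPGroup'
  intro hd
  exact Q.not_dvd_index (hd.trans (Subgroup.index_dvd_of_le hle))

/-- a finite group with a normal `p`-complement for every prime divisor `p` of its order is
nilpotent -/
theorem isNilpotent_of_forall_npc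
    (hnpc : ∀ p : ℕ, p.Prime → p ∣ Nat.card X → Cfsg.HasNormalPComplement p X) :
    Group.IsNilpotent X := by
  apply (Group.isNilpotent_of_finite_tfae (G := X)).out 3 0 |>.mp
  intro p hp P
  have hpp : p.Prime := hp.out
  -- the normal Sylow
  set ρ : Set ℕ := {q | q ≠ p} with hρ
  have hK1 : ∀ q : ℕ, q.Prime → q ∣ Nat.card (hallInf ρ X) → q = p := by
    intro q hq hd
    by_contra hne
    exact hallInf_not_dvd_card ρ hq hne hd
  have hK2 : ¬ p ∣ (hallInf ρ X).index :=
    hallInf_not_dvd_index ρ (fun q hq _ hqX => hnpc q hq hqX) hpp (fun h => h rfl)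
  have hKp : IsPGroup p (hallInf ρ X) := by
    rw [IsPGroup.iff_card]
    have hne : Nat.card (hallInf ρ X) ≠ 0 := Nat.card_pos.ne'
    refine ⟨(Nat.card (hallInf ρ X)).primeFactorsList.length, ?_⟩
    apply Nat.eq_prime_pow_of_unique_prime_dvd hne
    intro q hq hd
    exact hK1 q hq hd
  haveI hKn : (hallInf ρ X).Normal := Subgroup.normal_of_characteristic _
  -- `K ≤ P`
  have hKP : hallInf ρ X ≤ (P : Subgroup X) := by
    have h1 : IsPGroup p ((P : Subgroup X) ⊔ hallInf ρ X : Subgroup X) := by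
      apply IsPGroup.to_sup_of_normal_right P.isPGroup' hKp
    have h2 := P.is_maximal' h1 le_sup_left
    rw [← h2]; exact le_sup_right
  have hEq : hallInf ρ X = (P : Subgroup X) := by
    apply Subgroup.eq_of_le_of_card_ge hKP
    obtain ⟨k, hk⟩ := IsPGroup.iff_card.mp P.isPGroup'
    have h1 : Nat.card (P : Subgroup X) ∣ Nat.card (hallInf ρ X) * (hallInf ρ X).index := by
      rw [Subgroup.card_mul_index]; exact Subgroup.card_subgroup_dvd_card _
    have hcop : Nat.Coprime (Nat.card (P : Subgroup X)) (hallInf ρ X).index := by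
      rw [hk]; exact Nat.Coprime.pow_left k ((Nat.Prime.coprime_iff_not_dvd hpp).mpr hK2)
    exact Nat.le_of_dvd Nat.card_pos (hcop.dvd_of_dvd_mul_right h1)
  rw [← hEq]; exact hKn

/-- a nilpotent Hall `ρ`-subgroup when there are normal `p`-complements for all `p ∈ ρ` -/
theorem exists_nilpotent_hall (ρ : Set ℕ)
    (hnpc : ∀ p : ℕ, p.Prime → p ∈ ρ → p ∣ Nat.card X → Cfsg.HasNormalPComplement p X) :
    ∃ H : Subgroup X, (∀ p : ℕ, p.Prime → p ∣ Nat.card H → p ∈ ρ) ∧
      (∀ p : ℕ, p.Prime → p ∈ ρ → ¬ p ∣ H.index) ∧ Group.IsNilpotent H := by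
  set K := hallInf ρ X with hK
  haveI hKn : K.Normal := Subgroup.normal_of_characteristic _
  have hcop : (Nat.card K).Coprime K.index := by
    apply Nat.Coprime.symm
    apply Nat.coprime_of_dvd
    intro q hq hd1 hd2
    by_cases hqρ : q ∈ ρ
    · exact hallInf_not_dvd_card ρ hq hqρ hd2
    · exact hallInf_not_dvd_index ρ hnpc hq hqρ hd1
  obtain ⟨H, hH⟩ := Subgroup.exists_right_complement'_of_coprime hcop
  have hcardH : Nat.card H = K.index := hH.symm.index_eq_card.symm
  have hidxH : H.index = Nat.card K := hH.index_eq_card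
  refine ⟨H, ?_, ?_, ?_⟩
  · intro p hp hd
    by_contra hpρ
    rw [hcardH] at hd
    exact hallInf_not_dvd_index ρ hnpc hp hpρ hd
  · intro p hp hpρ hd
    rw [hidxH] at hd
    exact hallInf_not_dvd_card ρ hp hpρ hd
  · apply isNilpotent_of_forall_npc
    intro p hp hd
    haveI : Fact p.Prime := ⟨hp⟩
    have hpρ : p ∈ ρ := by
      by_contra hpρ
      rw [hcardH] at hd
      exact hallInf_not_dvd_index ρ hnpc hp hpρ hd
    have hpX : p ∣ Nat.card X := hd.trans (Subgroup.card_subgroup_dvd_card _)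
    exact Cfsg.Agent.Lib.Helper12.hasNormalPComplement_subgroup (hnpc p hp hpρ hpX) H

end Cfsg.Agent.Lib.Helper24.BGBeta
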