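/- helper24: BG 10.8 prerequisites, part 3: for a maximal subgroup M of a minimal simple group of odd order (given the Uniqueness Theorem) and p not in beta(M), the Sylow p-subgroups of M are narrow. -/
import Mathlib
import Cfsg.Prelude.Def_OddOrderLocal
import Cfsg.Agent.Lib.Helper1.BGX2
import Cfsg.Agent.Lib.Helper24.BGBeta1
import Cfsg.Agent.Lib.Helper24.BGBeta2

set_option autoImplicit false
set_option linter.unusedSectionVars false
set_option linter.unusedVariables false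
set_option linter.style.haveILetI false

namespace Cfsg.Agent.Lib.Helper24.BGBeta

open Cfsg.Agent.Lib.Helper1.BGX

universe u

/-- `R` has a maximal elementary abelian subgroup of order `p ^ 2` -/
def HasMaxSq (p : ℕ) (R : Type u) [Group R] : Prop :=
  ∃ E : Subgroup R, Cfsg.IsElementaryAbelian p E ∧ Nat.card E = p ^ 2 ∧
    ∀ B : Subgroup R, Cfsg.IsElementaryAbelian p B → E ≤ B → B = E

theorem elemAb_map {R R' : Type u} [Group R] [Group R'] {p : ℕ} (f : R →* R') {A : Subgroup R}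
    (hA : Cfsg.IsElementaryAbelian p A) : Cfsg.IsElementaryAbelian p (A.map f) := by
  refine ⟨⟨⟨?_⟩⟩, ?_⟩
  · rintro ⟨_, ⟨a, ha, rfl⟩⟩ ⟨_, ⟨b, hb, rfl⟩⟩
    apply Subtype.ext
    show f a * f b = f b * f a
    rw [← map_mul, ← map_mul, comm_of_elemAb hA a ha b hb]
  · rintro _ ⟨a, ha, rfl⟩
    rw [← map_pow, hA.2 a ha, map_one]

theorem HasMaxSq.of_equiv {R R' : Type u} [Group R] [Group R'] {p : ℕ} (e : R ≃* R')
    (h : HasMaxSq p R) : HasMaxSq p R' := by
  obtain ⟨E, hE, hE2, hEmax⟩ := h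
  refine ⟨E.map e.toMonoidHom, elemAb_map _ hE, ?_, ?_⟩
  · rw [Subgroup.card_map_of_injective e.injective, hE2]
  · intro B hB hEB
    have h1 : E ≤ B.map e.symm.toMonoidHom := by
      intro x hx
      refine ⟨e x, hEB ⟨x, hx, rfl⟩, ?_⟩
      simp
    have h2 := hEmax _ (elemAb_map _ hB) h1
    apply le_antisymm
    · intro y hy
      have : e.symm y ∈ B.map e.symm.toMonoidHom := ⟨y, hy, rfl⟩
      rw [h2] at this
      exact ⟨e.symm y, this, by simp⟩
    · exact hEB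

theorem exists_of_not_ideal {G : Type u} [Group G] {p : ℕ} (hpp : p.Prime)
    (hr : ¬ Cfsg.PRankLE p 2 G) (hni : ¬ Cfsg.IsIdealPrime p G) :
    ∃ P : Sylow p G, HasMaxSq p ↥(P : Subgroup G) := by
  unfold Cfsg.IsIdealPrime at hni
  push Not at hni
  obtain ⟨P, A, hAP, hA, hA2, hAmax⟩ := hni hpp hr
  refine ⟨P, A.subgroupOf P, ?_, ?_, ?_⟩
  · refine ⟨⟨⟨?_⟩⟩, ?_⟩
    · rintro ⟨a, ha⟩ ⟨b, hb⟩
      rw [Subgroup.mem_subgroupOf] at ha hb
      apply Subtype.ext; apply Subtype.ext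
      exact comm_of_elemAb hA _ ha _ hb
    · intro a ha
      rw [Subgroup.mem_subgroupOf] at ha
      apply Subtype.ext
      have := hA.2 _ ha
      simpa using this
  · rw [Cfsg.Agent.Lib.Helper1.card_subgroupOf_of_le hAP, hA2]
  · intro B hB hAB
    have hB' : Cfsg.IsElementaryAbelian p (B.map (P : Subgroup G).subtype) := elemAb_map _ hB
    have hle : A ≤ B.map (P : Subgroup G).subtype := by
      intro a ha
      exact ⟨⟨a, hAP ha⟩, hAB (Subgroup.mem_subgroupOf.mpr ha), rfl⟩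
    have hBP : B.map (P : Subgroup G).subtype ≤ (P : Subgroup G) := Subgroup.map_subtype_le _
    have hnlt := hAmax _ hBP hB'
    have heq : A = B.map (P : Subgroup G).subtype := by
      rcases eq_or_lt_of_le hle with h | h
      · exact h
      · exact absurd h hnlt
    apply le_antisymm
    · intro b hb
      rw [Subgroup.mem_subgroupOf, heq]
      exact ⟨b, hb, rfl⟩
    · exact hAB

variable {G : Type u} [Group G] [Finite G]

/-- Sylow `p`-subgroups of a maximal subgroup `M` are narrow when `p ∉ β(M)` -/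
theorem sylow_narrow (hG : Cfsg.IsMinSimpleOddOrder G) (hU : UT G) {M : Subgroup G}
    (hM : IsCoatom M) {p : ℕ} [Fact p.Prime] (hpβ : p ∉ Cfsg.beta M) (S : Sylow p ↥M) :
    Cfsg.IsNarrow p ↥(S : Subgroup ↥M) := by
  have hpp : p.Prime := Fact.out
  by_cases hr : Cfsg.PRankLE p 2 ↥M
  · exact Or.inl (pRankLE_subgroup hr _)
  have hα : p ∈ Cfsg.alpha M := ⟨hpp, hr⟩
  have hσ : p ∈ Cfsg.sigma M := alpha_subset_sigma hG hU hM hα
  have hp2 : p ≠ 2 := ne_two_of_dvd_sub hG.1 hσ.2.1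
  have hni : ¬ Cfsg.IsIdealPrime p G := fun h => hpβ ⟨hα, h⟩
  have hrG : ¬ Cfsg.PRankLE p 2 G := fun h => hr (pRankLE_subgroup h M)
  obtain ⟨P, hP⟩ := exists_of_not_ideal hpp hrG hni
  obtain ⟨S₀, hS₀M, -, -⟩ := exists_sylow_of_mem_sigma hσ
  have e₁ : ↥(P : Subgroup G) ≃* ↥(S₀ : Subgroup G) := Sylow.equiv P S₀
  have e₂ : ↥((S₀ : Subgroup G).subgroupOf M) ≃* ↥(S₀ : Subgroup G) :=
    Subgroup.subgroupOfEquivOfLe hS₀M
  have e₃ : ↥((S₀.subtype hS₀M : Sylow p ↥M) : Subgroup ↥M) ≃* ↥(S : Subgroup ↥M) :=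
    Sylow.equiv _ _
  have e₂' : ↥(S₀ : Subgroup G) ≃* ↥((S₀.subtype hS₀M : Sylow p ↥M) : Subgroup ↥M) := e₂.symm
  have hS : HasMaxSq p ↥(S : Subgroup ↥M) := (hP.of_equiv e₁).of_equiv (e₂'.trans e₃)
  obtain ⟨E, hE, hE2, hEmax⟩ := hS
  exact narrow_of_maximal_sq p hp2 S.isPGroup' E hE hE2 hEmax

end Cfsg.Agent.Lib.Helper24.BGBeta
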