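/- helper24: BG Lemma 10.8 (beta(M)): main theorem beta_main, taking the Uniqueness Theorem (UT), p-length one of proper subgroups and the narrow-Sylow theorem (S1455 form) as hypotheses. -/
import Mathlib
import Cfsg.Prelude.Def_OddOrderLocal
import Cfsg.Agent.Lib.Helper1.BGX2
import Cfsg.Agent.Lib.Helper24.BGBeta3

set_option autoImplicit false
set_option linter.unusedSectionVars false
set_option linter.unusedVariables false
set_option linter.style.haveILetI false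

namespace Cfsg.Agent.Lib.Helper24.BGBeta

open Cfsg.Agent.Lib.Helper1.BGX

universe u

variable {G : Type u} [Group G] [Finite G]

/-- Sylow subgroups for `p ∈ σ(M)` lie in the derived subgroup: `p ∤ |M : M'|` -/
theorem not_dvd_index_commutator (hG : Cfsg.IsMinSimpleOddOrder G) (hU : UT G) {M : Subgroup G}
    (hM : IsCoatom M) {p : ℕ} (hp : p ∈ Cfsg.sigma M) : ¬ p ∣ (commutator ↥M).index := by
  haveI : Fact p.Prime := ⟨hp.1⟩
  obtain ⟨S, hSM, hS1, hNM, hcsf, hSc⟩ := exists_sylow_sigma hG hU hM hp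
  have h1 : ((S.subtype hSM : Sylow p ↥M) : Subgroup ↥M) ≤ commutator ↥M := by
    intro x hx
    rw [Sylow.coe_subtype, Subgroup.mem_subgroupOf] at hx
    have h2 := hSc hx
    rw [← Subgroup.map_subtype_commutator] at h2
    obtain ⟨y, hy, hyx⟩ := h2
    have : y = x := Subtype.ext hyx
    rw [← this]; exact hy
  intro hd
  exact (S.subtype hSM).not_dvd_index (hd.trans (Subgroup.index_dvd_of_le h1))

/-- `M_σ ≤ M'` -/
theorem sigmaCore_le_commutator (hG : Cfsg.IsMinSimpleOddOrder G) (hU : UT G) {M : Subgroup G}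
    (hM : IsCoatom M) : Cfsg.sigmaCore M ≤ ⁅M, M⁆ := by
  have key : Cfsg.piCore (Cfsg.sigma M) ↥M ≤ commutator ↥M := by
    rw [← QuotientGroup.ker_mk' (commutator ↥M), ← Subgroup.map_eq_bot_iff]
    rw [← Subgroup.card_eq_one]
    by_contra hne
    obtain ⟨p, hpp, hpd⟩ := Nat.exists_prime_and_dvd hne
    have h1 : p ∣ Nat.card (Cfsg.piCore (Cfsg.sigma M) ↥M) :=
      hpd.trans (Subgroup.card_map_dvd _ _)
    have h2 : p ∈ Cfsg.sigma M := Cfsg.Agent.Lib.Helper12.piCore_mem _ p hpp h1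
    have h3 : p ∣ (commutator ↥M).index := by
      rw [Subgroup.index_eq_card]
      exact hpd.trans (Subgroup.card_subgroup_dvd_card _)
    exact not_dvd_index_commutator hG hU hM h2 h3
  intro x hx
  obtain ⟨y, hy, rfl⟩ := hx
  rw [← Subgroup.map_subtype_commutator]
  exact ⟨y, key hy, rfl⟩

/-- the conclusion of BG Lemma 10.8 (frozen S1414) -/
def Concl {G : Type u} [Group G] (M : Subgroup G) : Prop :=
  Cfsg.IsPiHallOf (Cfsg.beta M) (Cfsg.piCoreOf (Cfsg.beta M) M) M ∧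
    Cfsg.IsPiHall (Cfsg.beta M) (Cfsg.piCoreOf (Cfsg.beta M) M) ∧
    (∃ H : Subgroup G, Cfsg.IsPiHallOf {q | q.Prime ∧ q ∉ Cfsg.beta M} H ⁅M, M⁆ ∧
      Group.IsNilpotent H) ∧
    (∃ H : Subgroup G, Cfsg.IsPiHallOf {q | q.Prime ∧ q ∉ Cfsg.beta M} H (Cfsg.sigmaCore M) ∧
      Group.IsNilpotent H) ∧
    ∀ p : ℕ, p.Prime → p ∣ Nat.card M → p ∉ Cfsg.beta M →
      Cfsg.HasNormalPComplement p ↥⁅M, M⁆ ∧ Cfsg.HasNormalPComplement p ↥(Cfsg.sigmaCore M) ∧
      ∀ q : ℕ, q.Prime → q ∣ (Cfsg.pPrimeCore p ↥M).index → q ≤ p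

/-- transport of a nilpotent Hall subgroup of the type `↥L` to a subgroup of `G` -/
theorem exists_hall_of_npc (ρ : Set ℕ) (L : Subgroup G)
    (hnpc : ∀ p : ℕ, p.Prime → p ∈ ρ → p ∣ Nat.card L → Cfsg.HasNormalPComplement p ↥L) :
    ∃ H : Subgroup G, Cfsg.IsPiHallOf ρ H L ∧ Group.IsNilpotent H := by
  obtain ⟨H, hH1, hH2, hH3⟩ := exists_nilpotent_hall (X := ↥L) ρ hnpc
  refine ⟨H.map L.subtype, ⟨Subgroup.map_subtype_le _, ?_, ?_⟩, ?_⟩
  · intro p hp hd
    rw [Subgroup.card_map_of_injective L.subtype_injective] at hd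
    exact hH1 p hp hd
  · intro p hp hpρ
    have hrel : (H.map L.subtype).relIndex L = H.index := by
      unfold Subgroup.relIndex Subgroup.subgroupOf
      rw [Subgroup.comap_map_eq_self_of_injective L.subtype_injective]
    rw [hrel]; exact hH2 p hp hpρ
  · exact (Group.isNilpotent_congr (H.equivMapOfInjective L.subtype L.subtype_injective)).mp hH3

theorem beta_main (hG : Cfsg.IsMinSimpleOddOrder G) (hU : UT G)
    (hPL : ∀ (p : ℕ) [Fact p.Prime] (H : Subgroup G), H ≠ ⊤ → Cfsg.PLengthLE p 1 ↥H)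
    {M : Subgroup G} (hM : IsCoatom M)
    (h55 : ∀ (p : ℕ) [Fact p.Prime], p ∣ Nat.card ↥M → ∀ S : Sylow p ↥M,
      Cfsg.IsNarrow p ↥(S : Subgroup ↥M) →
      (¬ Cfsg.PRankLE p 2 ↥(S : Subgroup ↥M) → Cfsg.PLengthLE p 1 ↥M) →
      (∀ q : ℕ, q.Prime → q ∣ (Cfsg.pPrimeCore p ↥M).index → q ≤ p) ∧
        Cfsg.HasNormalPComplement p ↥(commutator ↥M)) :
    Concl M := by
  -- Step A
  have keyA : ∀ p : ℕ, p.Prime → p ∣ Nat.card ↥M → p ∉ Cfsg.beta M →
      (∀ q : ℕ, q.Prime → q ∣ (Cfsg.pPrimeCore p ↥M).index → q ≤ p) ∧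
        Cfsg.HasNormalPComplement p ↥(commutator ↥M) := by
    intro p hpp hpM hpβ
    haveI : Fact p.Prime := ⟨hpp⟩
    obtain ⟨S⟩ : Nonempty (Sylow p ↥M) := inferInstance
    exact h55 p hpM S (sylow_narrow hG hU hM hpβ S) (fun _ => hPL p M hM.1)
  -- the isomorphism `commutator ↥M ≃* ⁅M, M⁆`
  have eX : ↥(commutator ↥M) ≃* ↥⁅M, M⁆ :=
    ((commutator ↥M).equivMapOfInjective M.subtype M.subtype_injective).trans
      (MulEquiv.subgroupCongr (Subgroup.map_subtype_commutator M))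
  have hcomle : ⁅M, M⁆ ≤ M := Subgroup.commutator_le_self M
  have hσle : Cfsg.sigmaCore M ≤ ⁅M, M⁆ := sigmaCore_le_commutator hG hU hM
  set ρ : Set ℕ := {q | q.Prime ∧ q ∉ Cfsg.beta M} with hρ
  have hnpcC : ∀ p : ℕ, p.Prime → p ∣ Nat.card ↥M → p ∉ Cfsg.beta M →
      Cfsg.HasNormalPComplement p ↥⁅M, M⁆ := by
    intro p hpp hpM hpβ
    haveI : Fact p.Prime := ⟨hpp⟩
    exact Cfsg.Agent.Lib.Helper12.hasNormalPComplement_of_injective eX.symm.toMonoidHom
      eX.symm.injective (keyA p hpp hpM hpβ).2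
  have hnpcS : ∀ p : ℕ, p.Prime → p ∣ Nat.card ↥M → p ∉ Cfsg.beta M →
      Cfsg.HasNormalPComplement p ↥(Cfsg.sigmaCore M) := by
    intro p hpp hpM hpβ
    haveI : Fact p.Prime := ⟨hpp⟩
    exact Cfsg.Agent.Lib.Helper12.hasNormalPComplement_of_injective (Subgroup.inclusion hσle)
      (Subgroup.inclusion_injective hσle) (hnpcC p hpp hpM hpβ)
  -- the normal Hall `β(M)`-subgroup
  set X := commutator ↥M with hX
  have hnpcX : ∀ p : ℕ, p.Prime → p ∈ ρ → p ∣ Nat.card ↥X → Cfsg.HasNormalPComplement p ↥X := by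
    intro p hpp hpρ hpX
    exact (keyA p hpp (hpX.trans (Subgroup.card_subgroup_dvd_card _)) hpρ.2).2
  set K := hallInf ρ ↥X with hK
  haveI hKc : K.Characteristic := hallInf_characteristic ρ
  haveI hXn : X.Normal := by rw [hX]; infer_instance
  have hK'n : (K.map X.subtype).Normal := ConjAct.normal_of_characteristic_of_normal
  have hK'le : K.map X.subtype ≤ Cfsg.piCore (Cfsg.beta M) ↥M := by
    apply Cfsg.Agent.Lib.Helper12.le_piCore _ _ hK'n
    intro p hpp hd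
    rw [Subgroup.card_map_of_injective X.subtype_injective] at hd
    by_contra hpβ
    exact hallInf_not_dvd_card ρ hpp ⟨hpp, hpβ⟩ hd
  have hβσ : ∀ p : ℕ, p ∈ Cfsg.beta M → p ∈ Cfsg.sigma M := fun p hp =>
    alpha_subset_sigma hG hU hM hp.1
  have hidx : ∀ p : ℕ, p.Prime → p ∈ Cfsg.beta M →
      ¬ p ∣ (Cfsg.piCore (Cfsg.beta M) ↥M).index := by
    intro p hpp hpβ hd
    have h1 : p ∣ (K.map X.subtype).index := hd.trans (Subgroup.index_dvd_of_le hK'le)
    rw [Subgroup.index_map_subtype] at h1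
    rcases (Nat.Prime.dvd_mul hpp).mp h1 with h | h
    · exact hallInf_not_dvd_index ρ hnpcX hpp (fun hρp => hρp.2 hpβ) h
    · exact not_dvd_index_commutator hG hU hM (hβσ p hpβ) h
  have hcard : Nat.card (Cfsg.piCoreOf (Cfsg.beta M) M) = Nat.card (Cfsg.piCore (Cfsg.beta M) ↥M) :=
    Subgroup.card_map_of_injective M.subtype_injective
  have hprimes : ∀ p : ℕ, p.Prime → p ∣ Nat.card (Cfsg.piCoreOf (Cfsg.beta M) M) →
      p ∈ Cfsg.beta M := by
    intro p hpp hd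
    rw [hcard] at hd
    exact Cfsg.Agent.Lib.Helper12.piCore_mem _ p hpp hd
  have hle : Cfsg.piCoreOf (Cfsg.beta M) M ≤ M := Subgroup.map_subtype_le _
  have hrel : (Cfsg.piCoreOf (Cfsg.beta M) M).relIndex M = (Cfsg.piCore (Cfsg.beta M) ↥M).index := by
    unfold Subgroup.relIndex Cfsg.piCoreOf Subgroup.subgroupOf
    rw [Subgroup.comap_map_eq_self_of_injective M.subtype_injective]
  refine ⟨⟨hle, hprimes, ?_⟩, ⟨hprimes, ?_⟩, ?_, ?_, ?_⟩
  · intro p hpp hp
    rw [hrel]; exact hidx p hpp hp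
  · intro p hpp hp hd
    rw [← Subgroup.relIndex_mul_index hle, hrel] at hd
    haveI : Fact p.Prime := ⟨hpp⟩
    rcases (Nat.Prime.dvd_mul hpp).mp hd with h | h
    · exact hidx p hpp hp h
    · exact not_dvd_index_of_mem_sigma (hβσ p hp) h
  · apply exists_hall_of_npc ρ ⁅M, M⁆
    intro p hpp hpρ hd
    exact hnpcC p hpp (hd.trans (Subgroup.card_dvd_of_le hcomle)) hpρ.2
  · apply exists_hall_of_npc ρ (Cfsg.sigmaCore M)
    intro p hpp hpρ hd
    exact hnpcS p hpp (hd.trans (Subgroup.card_dvd_of_le (hσle.trans hcomle))) hpρ.2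
  · intro p hpp hpM hpβ
    exact ⟨hnpcC p hpp hpM hpβ, hnpcS p hpp hpM hpβ, (keyA p hpp hpM hpβ).1⟩

end Cfsg.Agent.Lib.Helper24.BGBeta
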