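/- helper24: BG 3.6 abelian-K branch, part A (conjugates of subgroups / averaging endomorphisms / general lemmas). -/
import Mathlib

set_option autoImplicit false
open scoped commutatorElement

namespace Cfsg.Agent.Lib.Helper24.BG36Ab

open Subgroup

variable {G : Type*} [Group G]

/-- conjugate of a subgroup by an element -/
def cj (g : G) (Y : Subgroup G) : Subgroup G := Y.map (MulAut.conj g).toMonoidHom

theorem mem_cj {g x : G} {Y : Subgroup G} : x ∈ cj g Y ↔ g⁻¹ * x * g ∈ Y := by
  unfold cj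
  constructor
  · rintro ⟨y, hy, rfl⟩
    have : g⁻¹ * ((MulAut.conj g).toMonoidHom y) * g = y := by
      simp [mul_assoc]
    rw [this]
    exact hy
  · intro h
    refine ⟨g⁻¹ * x * g, h, ?_⟩
    simp [mul_assoc]

theorem conj_mem_cj {g y : G} {Y : Subgroup G} (hy : y ∈ Y) : g * y * g⁻¹ ∈ cj g Y := by
  rw [mem_cj]
  have : g⁻¹ * (g * y * g⁻¹) * g = y := by group
  rw [this]
  exact hy

theorem cj_one (Y : Subgroup G) : cj 1 Y = Y := by
  ext x
  rw [mem_cj]
  simp

theorem cj_mul (g h : G) (Y : Subgroup G) : cj (g * h) Y = cj g (cj h Y) := by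
  ext x
  rw [mem_cj, mem_cj, mem_cj]
  have : (g * h)⁻¹ * x * (g * h) = h⁻¹ * (g⁻¹ * x * g) * h := by group
  rw [this]

theorem cj_inv_cj (g : G) (Y : Subgroup G) : cj g⁻¹ (cj g Y) = Y := by
  rw [← cj_mul, inv_mul_cancel, cj_one]

theorem cj_cj_inv (g : G) (Y : Subgroup G) : cj g (cj g⁻¹ Y) = Y := by
  rw [← cj_mul, mul_inv_cancel, cj_one]

theorem cj_mono {g : G} {Y Z : Subgroup G} (h : Y ≤ Z) : cj g Y ≤ cj g Z := by
  intro x hx
  rw [mem_cj] at hx ⊢
  exact h hx

theorem cj_eq_self_iff {g : G} {Y : Subgroup G} :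
    cj g Y = Y ↔ g ∈ normalizer (Y : Set G) := by
  constructor
  · intro h
    rw [mem_normalizer_iff]
    intro x
    constructor
    · intro hx
      have := conj_mem_cj (g := g) hx
      rw [h] at this
      exact this
    · intro hx
      have h2 : g * x * g⁻¹ ∈ cj g Y := by
        rw [h]
        exact hx
      rw [mem_cj] at h2
      have : g⁻¹ * (g * x * g⁻¹) * g = x := by group
      rw [this] at h2
      exact h2
  · intro h
    rw [mem_normalizer_iff] at h
    ext x
    rw [mem_cj]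
    have := h (g⁻¹ * x * g)
    have h3 : g * (g⁻¹ * x * g) * g⁻¹ = x := by group
    rw [h3] at this
    exact this

theorem cj_eq_self_of_mem {g : G} {Y : Subgroup G} (h : g ∈ normalizer (Y : Set G)) :
    cj g Y = Y := cj_eq_self_iff.mpr h

theorem card_cj (g : G) (Y : Subgroup G) : Nat.card ↥(cj g Y) = Nat.card ↥Y := by
  unfold cj
  exact Subgroup.card_map_of_injective (MulAut.conj g).injective

theorem cj_eq_bot_iff {g : G} {Y : Subgroup G} : cj g Y = ⊥ ↔ Y = ⊥ := by
  unfold cj
  exact (Subgroup.map_eq_bot_iff_of_injective Y (MulAut.conj g).injective)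

theorem cj_le_of_mem_normalizer {g : G} {Y K : Subgroup G} (hg : g ∈ normalizer (K : Set G))
    (h : Y ≤ K) : cj g Y ≤ K := by
  have := cj_mono (g := g) h
  rw [cj_eq_self_of_mem hg] at this
  exact this

theorem cj_inf (g : G) (Y Z : Subgroup G) : cj g (Y ⊓ Z) = cj g Y ⊓ cj g Z := by
  ext x
  rw [mem_cj, mem_inf, mem_inf, mem_cj, mem_cj]

theorem cj_centralizer (g : G) (Y : Subgroup G) :
    cj g (centralizer (Y : Set G)) = centralizer (cj g Y : Set G) := by
  ext x
  rw [mem_cj, mem_centralizer_iff, mem_centralizer_iff]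
  constructor
  · intro h y hy
    have hy' : g⁻¹ * y * g ∈ Y := mem_cj.mp hy
    have := h _ hy'
    -- (g⁻¹ y g) (g⁻¹ x g) = (g⁻¹ x g) (g⁻¹ y g)
    have h1 : y * x = g * ((g⁻¹ * y * g) * (g⁻¹ * x * g)) * g⁻¹ := by group
    have h2 : x * y = g * ((g⁻¹ * x * g) * (g⁻¹ * y * g)) * g⁻¹ := by group
    rw [h1, h2, this]
  · intro h y hy
    have := h _ (conj_mem_cj (g := g) hy)
    have h1 : y * (g⁻¹ * x * g) = g⁻¹ * ((g * y * g⁻¹) * x) * g := by group
    have h2 : g⁻¹ * x * g * y = g⁻¹ * (x * (g * y * g⁻¹)) * g := by group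
    rw [h1, h2, this]

theorem cj_inf_centralizer {g : G} {V : Subgroup G} (hg : g ∈ normalizer (V : Set G))
    (Y : Subgroup G) :
    V ⊓ centralizer (cj g Y : Set G) = cj g (V ⊓ centralizer (Y : Set G)) := by
  rw [cj_inf, cj_centralizer, cj_eq_self_of_mem hg]

theorem normalizer_cj (g : G) (Y : Subgroup G) :
    normalizer (cj g Y : Set G) = cj g (normalizer (Y : Set G)) := by
  ext x
  rw [← cj_eq_self_iff, mem_cj, ← cj_eq_self_iff]
  constructor
  · intro h
    rw [cj_mul, cj_mul, h, cj_inv_cj]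
  · intro h
    rw [cj_mul, cj_mul] at h
    have := congrArg (cj g) h
    rw [cj_cj_inv] at this
    exact this

/-- A subgroup `H` all of whose elements conjugate `S` into `S` normalizes `S`. -/
theorem le_normalizer_of_conj_mem {H S : Subgroup G}
    (h : ∀ g ∈ H, ∀ x ∈ S, g * x * g⁻¹ ∈ S) : H ≤ normalizer (S : Set G) := by
  intro g hg
  rw [mem_normalizer_iff]
  intro x
  constructor
  · exact h g hg x
  · intro hx
    have := h g⁻¹ (H.inv_mem hg) _ hx
    have h2 : g⁻¹ * (g * x * g⁻¹) * g⁻¹⁻¹ = x := by group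
    rw [h2] at this
    exact this

end Cfsg.Agent.Lib.Helper24.BG36Ab
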