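/- helper24: BG 3.6 nonabelian branch, part A (the section N(D)/D and images of subgroups; coprime lifting of centralizers). -/
import Mathlib
import Cfsg.Agent.Lib.Helper1.Coprime
import Cfsg.Agent.Lib.Helper24.BG36AbA

set_option autoImplicit false
open scoped commutatorElement

namespace Cfsg.Agent.Lib.Helper24.BG36Nab

open Subgroup Cfsg.Agent.Lib.Helper24.BG36Ab

variable {G : Type*} [Group G] (D : Subgroup G)

/-- the section `N_G(D)/D` -/
abbrev Gam : Type _ := ↥(normalizer (D : Set G)) ⧸ D.subgroupOf (normalizer (D : Set G))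

/-- the projection `N_G(D) → N_G(D)/D` -/
def proj : ↥(normalizer (D : Set G)) →* Gam D :=
  QuotientGroup.mk' (D.subgroupOf (normalizer (D : Set G)))

/-- the image of a subgroup in `N_G(D)/D` -/
def im (H : Subgroup G) : Subgroup (Gam D) :=
  (H.subgroupOf (normalizer (D : Set G))).map (proj D)

variable {D}

theorem proj_eq_one_iff {h : G} (hn : h ∈ normalizer (D : Set G)) :
    proj D ⟨h, hn⟩ = 1 ↔ h ∈ D := by
  unfold proj
  rw [QuotientGroup.mk'_apply, QuotientGroup.eq_one_iff, mem_subgroupOf]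

theorem mem_im_iff {H : Subgroup G} (hHN : H ≤ normalizer (D : Set G)) {y : Gam D} :
    y ∈ im D H ↔ ∃ h, ∃ hh : h ∈ H, proj D ⟨h, hHN hh⟩ = y := by
  unfold im
  constructor
  · rintro ⟨⟨h, hn⟩, hh, rfl⟩
    rw [SetLike.mem_coe, mem_subgroupOf] at hh
    exact ⟨h, hh, rfl⟩
  · rintro ⟨h, hh, rfl⟩
    refine ⟨⟨h, hHN hh⟩, ?_, rfl⟩
    rw [SetLike.mem_coe, mem_subgroupOf]
    exact hh

theorem proj_mem_im {H : Subgroup G} {h : G} (hh : h ∈ H) (hn : h ∈ normalizer (D : Set G)) :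
    proj D ⟨h, hn⟩ ∈ im D H := by
  unfold im
  refine ⟨⟨h, hn⟩, ?_, rfl⟩
  rw [SetLike.mem_coe, mem_subgroupOf]
  exact hh

theorem im_eq_bot_iff {H : Subgroup G} (hHN : H ≤ normalizer (D : Set G)) :
    im D H = ⊥ ↔ H ≤ D := by
  rw [eq_bot_iff]
  constructor
  · intro h x hx
    have := h (proj_mem_im hx (hHN hx))
    rw [mem_bot, proj_eq_one_iff] at this
    exact this
  · intro h y hy
    obtain ⟨x, hx, rfl⟩ := (mem_im_iff hHN).mp hy
    rw [mem_bot, proj_eq_one_iff]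
    exact h hx

theorem card_im_dvd [Finite G] (H : Subgroup G) (hHN : H ≤ normalizer (D : Set G)) :
    Nat.card (im D H) ∣ Nat.card H := by
  unfold im
  have h1 := Subgroup.card_map_dvd (H := H.subgroupOf (normalizer (D : Set G))) (proj D)
  rwa [Cfsg.Agent.Lib.Helper1.card_subgroupOf_of_le hHN] at h1

theorem im_le_normalizer {H₁ H₂ : Subgroup G} (h₁ : H₁ ≤ normalizer (D : Set G))
    (h₂ : H₂ ≤ normalizer (D : Set G)) (h : H₁ ≤ normalizer (H₂ : Set G)) :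
    im D H₁ ≤ normalizer (im D H₂ : Set (Gam D)) := by
  apply le_normalizer_of_conj_mem
  intro y hy z hz
  obtain ⟨a, ha, rfl⟩ := (mem_im_iff h₁).mp hy
  obtain ⟨b, hb, rfl⟩ := (mem_im_iff h₂).mp hz
  have hc : a * b * a⁻¹ ∈ H₂ := ((mem_normalizer_iff.mp (h ha)) b).mp hb
  have : proj D ⟨a, h₁ ha⟩ * proj D ⟨b, h₂ hb⟩ * (proj D ⟨a, h₁ ha⟩)⁻¹ =
      proj D ⟨a * b * a⁻¹, h₂ hc⟩ := by
    rw [← map_inv, ← map_mul, ← map_mul]
    rfl
  rw [this]
  exact proj_mem_im hc _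

theorem im_mono {H₁ H₂ : Subgroup G} (h : H₁ ≤ H₂) : im D H₁ ≤ im D H₂ := by
  unfold im
  apply Subgroup.map_mono
  intro x hx
  rw [mem_subgroupOf] at hx ⊢
  exact h hx

/-- coprime lifting of centralizers -/
theorem im_inf_centralizer_le [Finite G] {K B : Subgroup G} (hDK : D ≤ K)
    (hK : K ≤ normalizer (D : Set G)) (hB : B ≤ normalizer (D : Set G))
    (hcop : (Nat.card B).Coprime (Nat.card D))
    (hsolv : Group.IsSolvable B ∨ Group.IsSolvable D) :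
    im D K ⊓ centralizer (im D B : Set (Gam D)) ≤ im D (K ⊓ centralizer (B : Set G)) := by
  rintro y ⟨hyK, hyC⟩
  obtain ⟨k, hk, rfl⟩ := (mem_im_iff hK).mp hyK
  have hyC' : proj D ⟨k, hK hk⟩ ∈ centralizer (im D B : Set (Gam D)) := hyC
  rw [mem_centralizer_iff] at hyC'
  have hx : ∀ a ∈ B, k⁻¹ * a * k * a⁻¹ ∈ D := by
    intro a ha
    have hn : k⁻¹ * a * k * a⁻¹ ∈ normalizer (D : Set G) :=
      (normalizer _).mul_mem ((normalizer _).mul_mem ((normalizer _).mul_mem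
        ((normalizer _).inv_mem (hK hk)) (hB ha)) (hK hk)) ((normalizer _).inv_mem (hB ha))
    rw [← proj_eq_one_iff hn]
    have h1 := hyC' (proj D ⟨a, hB ha⟩) (proj_mem_im ha (hB ha))
    have : proj D ⟨k⁻¹ * a * k * a⁻¹, hn⟩ =
        (proj D ⟨k, hK hk⟩)⁻¹ * proj D ⟨a, hB ha⟩ * proj D ⟨k, hK hk⟩ *
          (proj D ⟨a, hB ha⟩)⁻¹ := by
      rw [← map_inv, ← map_inv, ← map_mul, ← map_mul, ← map_mul]
      rfl
    rw [this, mul_assoc ((proj D ⟨k, hK hk⟩)⁻¹), h1]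
    group
  obtain ⟨n, hn, hkn⟩ := Cfsg.Agent.Lib.Helper1.exists_mul_mem_centralizer hB hcop hsolv k hx
  have hknK : k * n ∈ K := K.mul_mem hk (hDK hn)
  have hmem : k * n ∈ K ⊓ centralizer (B : Set G) := ⟨hknK, hkn⟩
  have heq : proj D ⟨k, hK hk⟩ = proj D ⟨k * n, hK hknK⟩ := by
    have h2 : (⟨k * n, hK hknK⟩ : ↥(normalizer (D : Set G))) =
        ⟨k, hK hk⟩ * ⟨n, hK (hDK hn)⟩ := rfl
    rw [h2, map_mul, (proj_eq_one_iff (hK (hDK hn))).mpr hn, mul_one]
  rw [heq]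
  exact proj_mem_im hmem _

end Cfsg.Agent.Lib.Helper24.BG36Nab
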