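/- helper24: B&G Corollary 10.7 from p-length one of all proper subgroups, part 1: N_G(P) controls strong fusion in a Sylow p-subgroup P (Alperin-Gorenstein with the identity functor). -/
import Mathlib
import Cfsg.Agent.Lib.Helper12.Control
import Cfsg.Agent.Lib.Helper9.PLengthFusion

set_option autoImplicit false
set_option linter.unusedSectionVars false
set_option linter.unusedVariables false
set_option linter.style.haveILetI false

open scoped commutatorElement

namespace Cfsg.Agent.Lib.Helper24.BGTen

variable {G : Type*} [Group G] [Finite G] {p : ℕ} [Fact p.Prime]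

/-- standing hypothesis: a nonabelian simple group all of whose proper subgroups have `p`-length at most one -/
structure Hyp (p : ℕ) (G : Type*) [Group G] : Prop where
  simple : IsSimpleGroup G
  nonab : ¬ IsMulCommutative G
  pl : ∀ H : Subgroup G, H ≠ ⊤ → Cfsg.PLengthLE p 1 H

omit [Finite G] [Fact p.Prime] in
theorem idFunctor : Cfsg.IsConjugacyFunctor p (fun P : Subgroup G => P) :=
  fun P _ => ⟨le_rfl, fun h => h, fun g => rfl⟩

/-- in a subgroup of `p`-length one the normalizer of a Sylow subgroup controls strong fusion -/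
theorem local_control (L : Subgroup G) (hL : Cfsg.PLengthLE p 1 L) :
    Cfsg.ControlsStrongFusionIn p (fun P : Subgroup G => P) L := by
  obtain ⟨T'⟩ : Nonempty (Sylow p ↥L) := inferInstance
  have hsub : ((T' : Subgroup ↥L).map L.subtype).subgroupOf L = (T' : Subgroup ↥L) := by
    ext x
    rw [Subgroup.mem_subgroupOf]
    constructor
    · rintro ⟨y, hy, hyx⟩
      have : y = x := Subtype.ext hyx
      rw [← this]; exact hy
    · intro hx
      exact ⟨x, hx, rfl⟩
  refine ⟨(T' : Subgroup ↥L).map L.subtype, Subgroup.map_subtype_le _, T'.2.map _, ?_, ?_⟩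
  · rw [Subgroup.relIndex, hsub]
    exact T'.not_dvd_index
  · intro A h hh hA hAh
    have hAL : ∀ a ∈ A, a ∈ L := fun a ha => Subgroup.map_subtype_le _ (hA ha)
    set Y : Set ↥L := {y | (y : G) ∈ A} with hY
    have hYT : Y ⊆ ((T' : Subgroup ↥L) : Set ↥L) := by
      intro y hy
      obtain ⟨t, ht, hty⟩ := hA hy
      have : t = y := Subtype.ext hty
      rw [← this]; exact ht
    have hYx : (fun y => (⟨h, hh⟩ : ↥L) * y * (⟨h, hh⟩ : ↥L)⁻¹) '' Y ⊆
        ((T' : Subgroup ↥L) : Set ↥L) := by
      rintro _ ⟨y, hy, rfl⟩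
      obtain ⟨t, ht, hty⟩ := hAh ⟨(y : G), hy, rfl⟩
      have : t = (⟨h, hh⟩ : ↥L) * y * (⟨h, hh⟩ : ↥L)⁻¹ := Subtype.ext (by simpa using hty)
      have hmem : (⟨h, hh⟩ : ↥L) * y * (⟨h, hh⟩ : ↥L)⁻¹ ∈ (T' : Subgroup ↥L) := this ▸ ht
      exact hmem
    obtain ⟨g, hg, c, hc, hgc⟩ :=
      Cfsg.Agent.Lib.Helper9.exists_normalizer_mul_centralizer hL T' Y ⟨h, hh⟩ hYT hYx
    refine ⟨(g : G), ⟨g.2, ?_⟩, ?_⟩
    · exact Subgroup.le_normalizer_map L.subtype (Subgroup.mem_map_of_mem L.subtype hg)
    · intro a ha
      have hca := Subgroup.mem_centralizer_iff.mp hc ⟨a, hAL a ha⟩ (show (⟨a, hAL a ha⟩ : ↥L) ∈ Y from ha)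
      have hca' : a * (c : G) = (c : G) * a := congrArg Subtype.val hca
      have hh' : h = (g : G) * (c : G) := by
        have := congrArg Subtype.val hgc
        simpa using this.symm
      rw [hh']
      have e : (g : G) * (c : G) * a * ((g : G) * (c : G))⁻¹ = (g : G) * ((c : G) * a) * (c : G)⁻¹ * (g : G)⁻¹ := by
        group
      rw [e, ← hca']
      group

/-- **`N_G(P)` controls strong fusion in `P`** (B&G 10.7(c), strong form) -/
theorem strong_control (h : Hyp p G) (P : Sylow p G) (A : Set G) (x : G)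
    (hA : A ⊆ ((P : Subgroup G) : Set G))
    (hAx : (fun a => x * a * x⁻¹) '' A ⊆ ((P : Subgroup G) : Set G)) :
    ∃ y ∈ Subgroup.normalizer ((P : Subgroup G) : Set G), ∀ a ∈ A, y * a * y⁻¹ = x * a * x⁻¹ := by
  have hloc : ∀ T : Subgroup G, T ≠ ⊥ →
      Cfsg.IsWellPlaced p (fun P : Subgroup G => P) (P : Subgroup G) T →
      Cfsg.ControlsStrongFusionIn p (fun P : Subgroup G => P)
        (Subgroup.normalizer ((T : Subgroup G) : Set G)) := by
    intro T hT hwp
    apply local_control
    apply h.pl
    intro htop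
    have hTn : T.Normal := Subgroup.normalizer_eq_top_iff.mp htop
    haveI := h.simple
    rcases hTn.eq_bot_or_eq_top with h1 | h1
    · exact hT h1
    · -- `G` would be a `p`-group
      have hPtop : (P : Subgroup G) = ⊤ := by
        rw [eq_top_iff, ← h1]; exact hwp.1
      have hGp : IsPGroup p G := by
        have := P.2
        rw [hPtop] at this
        exact this.of_equiv Subgroup.topEquiv
      haveI : Group.IsNilpotent G := hGp.isNilpotent
      apply h.nonab
      -- a nilpotent simple group is abelian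
      have hc : Subgroup.center G ≠ ⊥ := by
        haveI : Nontrivial G := h.simple.toNontrivial
        intro hb
        have := hGp.center_nontrivial
        rw [Subgroup.nontrivial_iff_ne_bot] at this
        exact this hb
      rcases (inferInstance : (Subgroup.center G).Normal).eq_bot_or_eq_top with h2 | h2
      · exact absurd h2 hc
      · refine ⟨⟨fun a b => ?_⟩⟩
        have : b ∈ Subgroup.center G := h2 ▸ Subgroup.mem_top b
        exact Subgroup.mem_center_iff.mp this a
  have h1 := Cfsg.Agent.Lib.Helper12.controlsStrongFusionIn_top_of_wellPlaced P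
    (fun P : Subgroup G => P) idFunctor hloc
  have h2 := Cfsg.Agent.Lib.Helper12.controlsStrongFusionIn_sylow (fun P : Subgroup G => P)
    idFunctor h1 le_top P.2 (by
      rw [Subgroup.relIndex_top_right]; exact P.not_dvd_index) A x (Subgroup.mem_top x) hA hAx
  obtain ⟨y, hy, hya⟩ := h2
  exact ⟨y, hy.2, hya⟩

end Cfsg.Agent.Lib.Helper24.BGTen
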