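/- helper24: B&G Corollary 10.7 from p-length one of all proper subgroups, part 2: (c) fusion of subgroups, (d) N_P(Q) Sylow in N_G(Q), (e) weak closure. -/
import Mathlib
import Cfsg.Agent.Lib.Helper24.BGTen1

set_option autoImplicit false
set_option linter.unusedSectionVars false
set_option linter.unusedVariables false
set_option linter.style.haveILetI false

open scoped commutatorElement

namespace Cfsg.Agent.Lib.Helper24.BGTen

variable {G : Type*} [Group G] [Finite G] {p : ℕ} [Fact p.Prime]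

omit [Finite G] [Fact p.Prime] in
theorem mem_map_conj {Q : Subgroup G} {x z : G} :
    z ∈ Q.map (MulAut.conj x).toMonoidHom ↔ ∃ a ∈ Q, x * a * x⁻¹ = z := by
  constructor
  · rintro ⟨a, ha, rfl⟩
    exact ⟨a, ha, by simp [MulAut.conj_apply]⟩
  · rintro ⟨a, ha, rfl⟩
    exact ⟨a, ha, by simp [MulAut.conj_apply]⟩

omit [Finite G] [Fact p.Prime] in
theorem map_conj_mul (Q : Subgroup G) (x y : G) :
    Q.map (MulAut.conj (x * y)).toMonoidHom =
      (Q.map (MulAut.conj y).toMonoidHom).map (MulAut.conj x).toMonoidHom := by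
  rw [Subgroup.map_map]
  congr 1
  ext a
  simp [MulAut.conj_apply, mul_assoc]

omit [Finite G] [Fact p.Prime] in
theorem map_conj_eq_self_iff {Q : Subgroup G} {x : G} :
    x ∈ Subgroup.normalizer (Q : Set G) → Q.map (MulAut.conj x).toMonoidHom = Q := by
  intro hx
  ext z
  rw [mem_map_conj]
  constructor
  · rintro ⟨a, ha, rfl⟩
    exact (Subgroup.mem_normalizer_iff.mp hx a).mp ha
  · intro hz
    refine ⟨x⁻¹ * z * x, ?_, by group⟩
    have := (Subgroup.mem_normalizer_iff.mp (Subgroup.inv_mem _ hx) z).mp hz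
    simpa using this

theorem mem_normalizer_of_map_conj_eq {Q : Subgroup G} {x : G}
    (h : Q.map (MulAut.conj x).toMonoidHom = Q) : x ∈ Subgroup.normalizer (Q : Set G) := by
  rw [Subgroup.mem_normalizer_iff]
  intro a
  constructor
  · intro ha
    rw [← h]
    exact mem_map_conj.mpr ⟨a, ha, rfl⟩
  · intro ha
    rw [← h] at ha
    obtain ⟨b, hb, hba⟩ := mem_map_conj.mp ha
    have : b = a := by
      have := congrArg (fun t => x⁻¹ * t * x) hba
      simpa [mul_assoc] using this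
    rw [← this]; exact hb

/-- B&G 10.7(c) -/
theorem fusion_c (h : Hyp p G) (P : Sylow p G) (Q : Subgroup G) (x : G) (hQ : Q ≤ (P : Subgroup G))
    (hQx : Q.map (MulAut.conj x).toMonoidHom ≤ (P : Subgroup G)) :
    ∃ y ∈ Subgroup.normalizer ((P : Subgroup G) : Set G),
      Q.map (MulAut.conj x).toMonoidHom = Q.map (MulAut.conj y).toMonoidHom := by
  obtain ⟨y, hy, hya⟩ := strong_control h P (Q : Set G) x hQ (by
    rintro _ ⟨a, ha, rfl⟩
    exact hQx (mem_map_conj.mpr ⟨a, ha, rfl⟩))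
  refine ⟨y, hy, ?_⟩
  ext z
  rw [mem_map_conj, mem_map_conj]
  constructor
  · rintro ⟨a, ha, rfl⟩
    exact ⟨a, ha, hya a ha⟩
  · rintro ⟨a, ha, rfl⟩
    exact ⟨a, ha, (hya a ha).symm⟩

/-- weak closure: a subgroup of `P` normal in `N_G(P)` is weakly closed in `P` -/
theorem weakly_closed (h : Hyp p G) (P : Sylow p G) (Q : Subgroup G) (hQ : Q ≤ (P : Subgroup G))
    (hN : Subgroup.normalizer ((P : Subgroup G) : Set G) ≤ Subgroup.normalizer (Q : Set G)) (u : G)
    (hu : Q.map (MulAut.conj u).toMonoidHom ≤ (P : Subgroup G)) :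
    Q.map (MulAut.conj u).toMonoidHom = Q := by
  obtain ⟨y, hy, hyu⟩ := fusion_c h P Q u hQ hu
  rw [hyu]
  exact map_conj_eq_self_iff (hN hy)

/-- every `p`-subgroup is conjugate into `P` -/
theorem exists_conj_le (P : Sylow p G) (R : Subgroup G) (hR : IsPGroup p R) :
    ∃ g : G, R.map (MulAut.conj g).toMonoidHom ≤ (P : Subgroup G) := by
  obtain ⟨P', hRP'⟩ := hR.exists_le_sylow
  obtain ⟨g, hg⟩ := MulAction.exists_smul_eq G P' P
  refine ⟨g, ?_⟩
  have h1 : ((g • P' : Sylow p G) : Subgroup G) = (P' : Subgroup G).map (MulAut.conj g).toMonoidHom := by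
    rw [Sylow.coe_subgroup_smul, Subgroup.pointwise_smul_def]
    rfl
  rw [← hg, h1]
  exact Subgroup.map_mono hRP'

/-- B&G 10.7(e) -/
theorem fusion_e (h : Hyp p G) (P : Sylow p G) (R Q : Subgroup G) (hR : IsPGroup p R)
    (hQ : Q ≤ (P : Subgroup G) ⊓ R)
    (hN : Subgroup.normalizer ((P : Subgroup G) : Set G) ≤ Subgroup.normalizer (Q : Set G)) :
    Subgroup.normalizer (R : Set G) ≤ Subgroup.normalizer (Q : Set G) := by
  intro x hx
  obtain ⟨g, hg⟩ := exists_conj_le P R hR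
  have hQP : Q ≤ (P : Subgroup G) := le_trans hQ inf_le_left
  have hQR : Q ≤ R := le_trans hQ inf_le_right
  have h1 : Q.map (MulAut.conj g).toMonoidHom = Q :=
    weakly_closed h P Q hQP hN g (le_trans (Subgroup.map_mono hQR) hg)
  have hRx : R.map (MulAut.conj x).toMonoidHom = R := map_conj_eq_self_iff hx
  have h2 : Q.map (MulAut.conj (g * x)).toMonoidHom = Q := by
    apply weakly_closed h P Q hQP hN (g * x)
    rw [map_conj_mul]
    refine le_trans (Subgroup.map_mono ?_) hg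
    rw [← hRx]
    exact Subgroup.map_mono hQR
  apply mem_normalizer_of_map_conj_eq
  have h3 : Q.map (MulAut.conj g⁻¹).toMonoidHom = Q := by
    conv_lhs => rw [← h1]
    rw [← map_conj_mul, inv_mul_cancel]
    ext z
    rw [mem_map_conj]
    constructor
    · rintro ⟨a, ha, rfl⟩; simpa using ha
    · intro hz; exact ⟨z, hz, by simp⟩
  have h4 : Q.map (MulAut.conj x).toMonoidHom =
      (Q.map (MulAut.conj (g * x)).toMonoidHom).map (MulAut.conj g⁻¹).toMonoidHom := by
    rw [← map_conj_mul]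
    congr 2
    group
  rw [h4, h2, h3]


/-- B&G 10.7(d): `N_P(Q)` is a Sylow subgroup of `N_G(Q)` for every `Q ≤ P` -/
theorem fusion_d (h : Hyp p G) (P : Sylow p G) (Q : Subgroup G) (hQ : Q ≤ (P : Subgroup G)) :
    ¬ p ∣ ((P : Subgroup G) ⊓ Subgroup.normalizer (Q : Set G)).relIndex
      (Subgroup.normalizer (Q : Set G)) := by
  set N := Subgroup.normalizer (Q : Set G) with hN
  have hp1 : IsPGroup p (((P : Subgroup G) ⊓ N).subgroupOf N) :=
    (P.2.to_le inf_le_left).comap_subtype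
  obtain ⟨S', hS'⟩ := hp1.exists_le_sylow
  have hsub : ((S' : Subgroup ↥N).map N.subtype).subgroupOf N = (S' : Subgroup ↥N) := by
    ext x
    rw [Subgroup.mem_subgroupOf]
    constructor
    · rintro ⟨y, hy, hyx⟩
      have : y = x := Subtype.ext hyx
      rw [← this]; exact hy
    · intro hx
      exact ⟨x, hx, rfl⟩
  have hSp : IsPGroup p ((S' : Subgroup ↥N).map N.subtype) := S'.2.map _
  have hSN : (S' : Subgroup ↥N).map N.subtype ≤ N := Subgroup.map_subtype_le _
  have hPS : (P : Subgroup G) ⊓ N ≤ (S' : Subgroup ↥N).map N.subtype := by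
    intro x hx
    have : (⟨x, hx.2⟩ : ↥N) ∈ ((P : Subgroup G) ⊓ N).subgroupOf N := by
      rw [Subgroup.mem_subgroupOf]; exact hx
    exact ⟨⟨x, hx.2⟩, hS' this, rfl⟩
  have hQS : Q ≤ (S' : Subgroup ↥N).map N.subtype :=
    le_trans (le_inf hQ Subgroup.le_normalizer) hPS
  obtain ⟨g, hg⟩ := exists_conj_le P _ hSp
  obtain ⟨y, hy, hya⟩ := strong_control h P (Q : Set G) g hQ (by
    rintro _ ⟨a, ha, rfl⟩
    exact hg (mem_map_conj.mpr ⟨a, hQS ha, rfl⟩))
  have hc : ∀ a ∈ Q, (y⁻¹ * g) * a * (y⁻¹ * g)⁻¹ = a := by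
    intro a ha
    have := hya a ha
    calc (y⁻¹ * g) * a * (y⁻¹ * g)⁻¹ = y⁻¹ * (g * a * g⁻¹) * y := by group
      _ = y⁻¹ * (y * a * y⁻¹) * y := by rw [this]
      _ = a := by group
  have hcinv : ∀ a ∈ Q, (y⁻¹ * g)⁻¹ * a * (y⁻¹ * g) = a := by
    intro a ha
    have := hc a ha
    calc (y⁻¹ * g)⁻¹ * a * (y⁻¹ * g) = (y⁻¹ * g)⁻¹ * ((y⁻¹ * g) * a * (y⁻¹ * g)⁻¹) * (y⁻¹ * g) := by
          rw [this]
      _ = a := by group
  have hcN : y⁻¹ * g ∈ N := by
    rw [hN, Subgroup.mem_normalizer_iff]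
    intro a
    constructor
    · intro ha; rw [hc a ha]; exact ha
    · intro ha
      have := hcinv _ ha
      have e : (y⁻¹ * g)⁻¹ * ((y⁻¹ * g) * a * (y⁻¹ * g)⁻¹) * (y⁻¹ * g) = a := by group
      rw [e] at this
      rw [this]; exact ha
  have hle : ((S' : Subgroup ↥N).map N.subtype).map (MulAut.conj (y⁻¹ * g)).toMonoidHom ≤
      (P : Subgroup G) ⊓ N := by
    intro z hz
    obtain ⟨s, hs, rfl⟩ := mem_map_conj.mp hz
    constructor
    · have h1 : g * s * g⁻¹ ∈ (P : Subgroup G) := hg (mem_map_conj.mpr ⟨s, hs, rfl⟩)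
      have h2 := (Subgroup.mem_normalizer_iff.mp (Subgroup.inv_mem _ hy) (g * s * g⁻¹)).mp h1
      have e : y⁻¹ * g * s * (y⁻¹ * g)⁻¹ = y⁻¹ * (g * s * g⁻¹) * y⁻¹⁻¹ := by group
      rw [e]; exact h2
    · exact N.mul_mem (N.mul_mem hcN (hSN hs)) (N.inv_mem hcN)
  have hcard : Nat.card ((S' : Subgroup ↥N).map N.subtype) ≤
      Nat.card ((P : Subgroup G) ⊓ N : Subgroup G) := by
    have h1 := Subgroup.card_le_of_le hle
    rwa [Subgroup.card_map_of_injective (MulAut.conj (y⁻¹ * g)).injective] at h1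
  have heq : (P : Subgroup G) ⊓ N = (S' : Subgroup ↥N).map N.subtype :=
    Subgroup.eq_of_le_of_card_ge hPS hcard
  rw [heq, Subgroup.relIndex, hsub]
  exact S'.not_dvd_index

end Cfsg.Agent.Lib.Helper24.BGTen
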