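/- helper24: B&G Corollary 10.7 from p-length one of all proper subgroups, part 3: (a) P = [P,V] <= N(P)' via the focal subgroup theorem. -/
import Mathlib
import Cfsg.Prelude.Def_OddOrderLocal
import Cfsg.Agent.Lib.Helper24.BGTen2
import Cfsg.Agent.Lib.Helper1.PGroup

set_option autoImplicit false
set_option linter.unusedSectionVars false
set_option linter.unusedVariables false
set_option linter.style.haveILetI false

open scoped commutatorElement

namespace Cfsg.Agent.Lib.Helper24.BGTen

variable {G : Type*} [Group G] [Finite G] {p : ℕ} [Fact p.Prime]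

omit [Finite G] [Fact p.Prime] in
theorem commutator_eq_top (h : Hyp p G) : commutator G = ⊤ := by
  haveI := h.simple
  rcases (inferInstance : (commutator G).Normal).eq_bot_or_eq_top with h1 | h1
  · exfalso
    apply h.nonab
    refine ⟨⟨fun a b => ?_⟩⟩
    have : ⁅a, b⁆ ∈ commutator G := Subgroup.commutator_mem_commutator (Subgroup.mem_top a) (Subgroup.mem_top b)
    rw [h1, Subgroup.mem_bot, commutatorElement_eq_one_iff_mul_comm] at this
    exact this
  · exact h1

/-- `P ≤ [P, N_G(P)]` (focal subgroup theorem + control of fusion) -/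
theorem sylow_le_commutator_normalizer (h : Hyp p G) (P : Sylow p G) :
    (P : Subgroup G) ≤ ⁅(P : Subgroup G), Subgroup.normalizer ((P : Subgroup G) : Set G)⁆ := by
  have h1 : commutator G ⊓ (P : Subgroup G) = (P : Subgroup G).focalSubgroup :=
    Subgroup.commutator_inf_eq_focalSubgroup P
  rw [commutator_eq_top h, top_inf_eq] at h1
  refine le_trans h1.le ?_
  rw [Subgroup.focalSubgroup_def, Subgroup.closure_le]
  rintro g ⟨hgP, x, hxP, u, rfl⟩
  have h2 : u * x⁻¹ * u⁻¹ ∈ (P : Subgroup G) := by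
    have e : u * x⁻¹ * u⁻¹ = x⁻¹ * ⁅x, u⁆ := by simp only [commutatorElement_def]; group
    rw [e]; exact Subgroup.mul_mem _ (Subgroup.inv_mem _ hxP) hgP
  obtain ⟨n, hn, hnx⟩ := strong_control h P {x⁻¹} u (by
      rintro _ rfl; exact Subgroup.inv_mem _ hxP) (by
      rintro _ ⟨a, rfl, rfl⟩; exact h2)
  have h3 := hnx x⁻¹ rfl
  have e : ⁅x, u⁆ = ⁅x, n⁆ := by
    simp only [commutatorElement_def]
    calc x * u * x⁻¹ * u⁻¹ = x * (u * x⁻¹ * u⁻¹) := by group
      _ = x * (n * x⁻¹ * n⁻¹) := by rw [h3]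
      _ = x * n * x⁻¹ * n⁻¹ := by group
  rw [SetLike.mem_coe, e]
  exact Subgroup.commutator_mem_commutator hxP hn

/-- B&G 10.7(a), second part -/
theorem sylow_le_derived_normalizer (h : Hyp p G) (P : Sylow p G) :
    (P : Subgroup G) ≤ ⁅Subgroup.normalizer ((P : Subgroup G) : Set G),
      Subgroup.normalizer ((P : Subgroup G) : Set G)⁆ :=
  le_trans (sylow_le_commutator_normalizer h P) (Subgroup.commutator_mono Subgroup.le_normalizer le_rfl)

/-- B&G 10.7(a), first part: `P = [P, V]` for a complement `V` of `P` in `N_G(P)` -/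
theorem sylow_eq_commutator_compl (h : Hyp p G) (P : Sylow p G) (V : Subgroup G)
    (hV : Cfsg.IsComplIn (P : Subgroup G) V (Subgroup.normalizer ((P : Subgroup G) : Set G))) :
    (P : Subgroup G) = ⁅(P : Subgroup G), V⁆ := by
  obtain ⟨hPN, hVN, hPV, hprod⟩ := hV
  have hle : ⁅(P : Subgroup G), V⁆ ≤ (P : Subgroup G) := Subgroup.le_normalizer_iff_commutator_le_left.mp hVN
  -- `[P, V]` is normalized by `P`
  have hnorm : ∀ a ∈ (P : Subgroup G), ∀ z ∈ ⁅(P : Subgroup G), V⁆, a * z * a⁻¹ ∈ ⁅(P : Subgroup G), V⁆ := by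
    intro a ha z hz
    have : ⁅(P : Subgroup G), V⁆ ≤ (⁅(P : Subgroup G), V⁆).comap (MulAut.conj a).toMonoidHom := by
      rw [Subgroup.commutator_le]
      intro x hx v hv
      rw [Subgroup.mem_comap]
      have e : (MulAut.conj a).toMonoidHom ⁅x, v⁆ = ⁅a * x, v⁆ * ⁅a, v⁆⁻¹ := by
        simp only [MulEquiv.coe_toMonoidHom, MulAut.conj_apply, commutatorElement_def]; group
      rw [e]
      exact Subgroup.mul_mem _ (Subgroup.commutator_mem_commutator (Subgroup.mul_mem _ ha hx) hv)
        (Subgroup.inv_mem _ (Subgroup.commutator_mem_commutator ha hv))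
    have := this hz
    simpa [Subgroup.mem_comap, MulAut.conj_apply] using this
  -- `P ≤ [P, P] ⊔ [P, V]`
  have h1 : (P : Subgroup G) ≤ ⁅(P : Subgroup G), (P : Subgroup G)⁆ ⊔ ⁅(P : Subgroup G), V⁆ := by
    refine le_trans (sylow_le_commutator_normalizer h P) ?_
    rw [Subgroup.commutator_le]
    intro x hx m hm
    obtain ⟨a, ha, b, hb, rfl⟩ := hprod m hm
    have e : ⁅x, a * b⁆ = ⁅x, a⁆ * (a * ⁅x, b⁆ * a⁻¹) := by
      simp only [commutatorElement_def]; group
    rw [e]
    exact Subgroup.mul_mem _ (Subgroup.mem_sup_left (Subgroup.commutator_mem_commutator hx ha))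
      (Subgroup.mem_sup_right (hnorm a ha _ (Subgroup.commutator_mem_commutator hx hb)))
  -- pass to the group `P`
  have hPp : IsPGroup p ↥(P : Subgroup G) := P.2
  have h2 : (⁅(P : Subgroup G), V⁆).subgroupOf (P : Subgroup G) ⊔ frattini ↥(P : Subgroup G) = ⊤ := by
    rw [eq_top_iff]
    intro y _
    have hy := h1 y.2
    have hcf := Cfsg.Agent.Lib.Helper1.IsPGroup.commutator_le_frattini hPp
    -- decompose
    have hsup : ⁅(P : Subgroup G), (P : Subgroup G)⁆ ⊔ ⁅(P : Subgroup G), V⁆ ≤
        ((⁅(P : Subgroup G), V⁆).subgroupOf (P : Subgroup G) ⊔ frattini ↥(P : Subgroup G)).map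
          (P : Subgroup G).subtype := by
      rw [sup_le_iff]
      constructor
      · have h3 : ⁅(P : Subgroup G), (P : Subgroup G)⁆ = (commutator ↥(P : Subgroup G)).map (P : Subgroup G).subtype := by
          rw [commutator_def, Subgroup.map_commutator, ← MonoidHom.range_eq_map, Subgroup.range_subtype]
        rw [h3]
        exact Subgroup.map_mono (le_trans hcf le_sup_right)
      · intro z hz
        exact ⟨⟨z, hle hz⟩, Subgroup.mem_sup_left (by rw [Subgroup.mem_subgroupOf]; exact hz), rfl⟩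
    obtain ⟨w, hw, hwy⟩ := hsup hy
    have : w = y := Subtype.ext hwy
    rw [← this]; exact hw
  have h3 := frattini_nongenerating h2
  apply le_antisymm _ hle
  intro y hy
  have : (⟨y, hy⟩ : ↥(P : Subgroup G)) ∈ (⁅(P : Subgroup G), V⁆).subgroupOf (P : Subgroup G) := by
    rw [h3]; exact Subgroup.mem_top _
  rw [Subgroup.mem_subgroupOf] at this
  exact this

end Cfsg.Agent.Lib.Helper24.BGTen
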