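/- helper24: BG 3.6 abelian-K branch, part C (conjugates of subgroups / averaging endomorphisms / general lemmas). -/
import Mathlib

set_option autoImplicit false
open scoped commutatorElement

namespace Cfsg.Agent.Lib.Helper24.BG36Ab

open Subgroup

variable {G : Type*} [Group G] [Finite G]

/-- Subgroups of a subgroup of prime order. -/
theorem eq_bot_or_eq_of_prime_card {A B : Subgroup G} (hA : (Nat.card A).Prime) (hBA : B ≤ A) :
    B = ⊥ ∨ B = A := by
  have hd : Nat.card B ∣ Nat.card A := Subgroup.card_dvd_of_le hBA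
  rcases (Nat.dvd_prime hA).mp hd with h | h
  · left
    exact Subgroup.card_eq_one.mp h
  · right
    exact Subgroup.eq_of_le_of_card_ge hBA (le_of_eq h.symm)

/-- card of a subgroup times its relative index -/
theorem card_mul_relIndex' {B K : Subgroup G} (hBK : B ≤ K) :
    Nat.card B * B.relIndex K = Nat.card K := by
  have := relIndex_mul_relIndex ⊥ B K bot_le hBK
  rwa [relIndex_bot_left, relIndex_bot_left] at this

/-- In a `q`-group `K`, a subgroup of relative index at most `q` is `K` or has index `q`. -/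
theorem eq_or_card_mul_eq {q : ℕ} (hq : q.Prime) {B K : Subgroup G} (hBK : B ≤ K) {n : ℕ}
    (hK : Nat.card K = q ^ n) (hB : B.relIndex K ≤ q) :
    B = K ∨ Nat.card B * q = Nat.card K := by
  have hd : B.relIndex K ∣ q ^ n := hK ▸ relIndex_dvd_card B K
  obtain ⟨j, hj, hjq⟩ := (Nat.dvd_prime_pow hq).mp hd
  have hj1 : j ≤ 1 := by
    by_contra hcon
    push Not at hcon
    have : q ^ 2 ≤ q ^ j := Nat.pow_le_pow_right hq.pos hcon
    rw [← hjq] at this
    have h2 : q < q ^ 2 := by
      rw [pow_two]
      nlinarith [hq.two_le]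
    omega
  interval_cases j
  · left
    rw [pow_zero] at hjq
    exact le_antisymm hBK (relIndex_eq_one.mp hjq)
  · right
    rw [pow_one] at hjq
    rw [← hjq]
    exact card_mul_relIndex' hBK

/-- Two distinct subgroups of index `q` generate. -/
theorem le_sup_of_card_mul_eq {q : ℕ} (hq : q.Prime) {K Y0 Y : Subgroup G}
    (hY0 : Y0 ≤ K) (hY : Y ≤ K) (h0 : Nat.card Y0 * q = Nat.card K)
    (h1 : Nat.card Y * q = Nat.card K) (hne : Y0 ≠ Y) : K ≤ Y0 ⊔ Y := by
  have hS : Y0 ⊔ Y ≤ K := sup_le hY0 hY
  have hd1 : Nat.card Y0 ∣ Nat.card ↥(Y0 ⊔ Y) := Subgroup.card_dvd_of_le le_sup_left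
  have hd2 : Nat.card ↥(Y0 ⊔ Y) ∣ Nat.card K := Subgroup.card_dvd_of_le hS
  obtain ⟨d, hd⟩ := hd1
  have hpos : 0 < Nat.card Y0 := Nat.card_pos
  have hdq : d ∣ q := by
    rw [hd, ← h0] at hd2
    exact Nat.dvd_of_mul_dvd_mul_left hpos hd2
  rcases (Nat.dvd_prime hq).mp hdq with h | h
  · exfalso
    rw [h, mul_one] at hd
    have e1 : Y0 = Y0 ⊔ Y := Subgroup.eq_of_le_of_card_ge le_sup_left (le_of_eq hd)
    have hYle : Y ≤ Y0 := by
      rw [e1]
      exact le_sup_right
    have hc : Nat.card Y = Nat.card Y0 := by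
      have : Nat.card Y * q = Nat.card Y0 * q := by rw [h0, h1]
      exact Nat.eq_of_mul_eq_mul_right hq.pos this
    exact hne (Subgroup.eq_of_le_of_card_ge hYle (le_of_eq hc.symm)).symm
  · rw [h, h0] at hd
    have := Subgroup.eq_of_le_of_card_ge hS (le_of_eq hd.symm)
    rw [this]

/-- A `p`-group normalizing a subgroup of order `p` centralizes it. -/
theorem le_centralizer_of_card_eq_prime {p : ℕ} [Fact p.Prime] {P D : Subgroup G}
    (hP : IsPGroup p P) (hD : Nat.card D = p) (hPD : P ≤ normalizer (D : Set G)) :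
    P ≤ centralizer (D : Set G) := by
  letI : MulAction ↥P ↥D := MulAction.compHom ↥D (Subgroup.inclusion hPD)
  have hsm : ∀ (x : P) (d : D), ((x • d : D) : G) = x * d * (x : G)⁻¹ := fun x d => rfl
  have h1 : (1 : D) ∈ MulAction.fixedPoints ↥P ↥D := by
    intro x
    apply Subtype.ext
    rw [hsm]
    simp
  obtain ⟨b, hb, hb1⟩ := hP.exists_fixed_point_of_prime_dvd_card_of_fixed_point ↥D
    (by rw [hD]) h1
  have htop : zpowers b = ⊤ := zpowers_eq_top_of_prime_card hD (Ne.symm hb1)
  intro x hx
  rw [mem_centralizer_iff]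
  intro d hd
  have hdb : (⟨d, hd⟩ : D) ∈ zpowers b := by
    rw [htop]
    trivial
  obtain ⟨k, hk⟩ := mem_zpowers_iff.mp hdb
  have hxb : x * (b : G) * x⁻¹ = b := by
    have := congrArg (fun w : D => (w : G)) (hb ⟨x, hx⟩)
    simpa [hsm] using this
  have hcomm : Commute x (b : G) := by
    show x * (b : G) = b * x
    calc x * (b : G) = (x * b * x⁻¹) * x := by group
      _ = b * x := by rw [hxb]
  have hdk : d = (b : G) ^ k := by
    have := congrArg (fun w : D => (w : G)) hk
    simpa using this.symm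
  rw [hdk]
  exact ((hcomm.zpow_right k).eq).symm

/-- A group `A` of prime order `r` acting on `P` without nontrivial fixed points:
`|P| ≡ 1 mod r`. -/
theorem card_modEq_one {P A : Subgroup G} (hA : (Nat.card A).Prime)
    (hAP : A ≤ normalizer (P : Set G)) (hPA : P ⊓ centralizer (A : Set G) = ⊥) :
    Nat.card P ≡ 1 [MOD Nat.card A] := by
  haveI : Fact (Nat.card A).Prime := ⟨hA⟩
  letI : MulAction ↥A ↥P := MulAction.compHom ↥P (Subgroup.inclusion hAP)
  have hsm : ∀ (x : A) (d : P), ((x • d : P) : G) = x * d * (x : G)⁻¹ := fun x d => rfl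
  have hApg : IsPGroup (Nat.card A) ↥A := IsPGroup.of_card (n := 1) (by rw [pow_one])
  have := hApg.card_modEq_card_fixedPoints ↥P
  have hfix : MulAction.fixedPoints ↥A ↥P = {1} := by
    ext d
    rw [Set.mem_singleton_iff]
    constructor
    · intro hd
      have hmem : (d : G) ∈ P ⊓ centralizer (A : Set G) := by
        refine ⟨d.2, ?_⟩
        show (d : G) ∈ centralizer (A : Set G)
        rw [mem_centralizer_iff]
        intro a ha
        have h1 := congrArg (fun w : P => (w : G)) (hd ⟨a, ha⟩)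
        simp only [hsm] at h1
        calc a * (d : G) = (a * d * a⁻¹) * a := by group
          _ = d * a := by rw [h1]
      rw [hPA, mem_bot] at hmem
      exact Subtype.ext hmem
    · intro hd x
      rw [hd]
      apply Subtype.ext
      rw [hsm]
      simp
  rw [hfix] at this
  simpa using this

end Cfsg.Agent.Lib.Helper24.BG36Ab
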