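/- helper24: BG 11.5 (Block B), part 1: centralizer of a maximal elementary abelian subgroup of order p^2 in a p-group of rank >= 3 is abelian (S1453). -/
import Mathlib
import Cfsg.Prelude.Def_OddOrderLocal
import Cfsg.Agent.S1453
import Cfsg.Agent.Lib.Helper8.SupNormalizer
import Cfsg.Agent.Lib.Helper17.RankOne
import Cfsg.Agent.Lib.Helper24.BGBeta1

set_option autoImplicit false

namespace Cfsg.Agent.Lib.Helper24.BGExB

open Subgroup Cfsg.Agent.Lib.Helper24.BGBeta

theorem comm_of_isCyclic {H : Type*} [Group H] [IsCyclic H] (a b : H) : a * b = b * a := by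
  obtain ⟨g, hg⟩ := IsCyclic.exists_generator (α := H)
  obtain ⟨i, rfl⟩ := mem_zpowers_iff.mp (hg a)
  obtain ⟨j, rfl⟩ := mem_zpowers_iff.mp (hg b)
  rw [← zpow_add, ← zpow_add, add_comm]

/-- a proper subgroup of a group of order `p ^ 2` has order at most `p` -/
theorem card_le_of_lt_of_card_sq {R : Type*} [Group R] [Finite R] {p : ℕ} (hp : p.Prime)
    {E F : Subgroup R} (hE2 : Nat.card E = p ^ 2) (hFE : F ≤ E) (hne : F ≠ E) : Nat.card F ≤ p := by
  have hd : Nat.card F ∣ p ^ 2 := hE2 ▸ Subgroup.card_dvd_of_le hFE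
  obtain ⟨j, hj, hjc⟩ := (Nat.dvd_prime_pow hp).mp hd
  interval_cases j
  · rw [hjc, pow_zero]; exact hp.pos
  · rw [hjc, pow_one]
  · exfalso
    apply hne
    exact Subgroup.eq_of_le_of_card_ge hFE (by rw [hE2, hjc])

/-- **S1453 case**: in a `p`-group of rank at least `3` (`p` odd) the centralizer of a maximal
elementary abelian subgroup of order `p ^ 2` is abelian. -/
theorem comm_centralizer_of_not_rank_two {R : Type*} [Group R] [Finite R] (p : ℕ) [Fact p.Prime]
    (hp : p ≠ 2) (hR : IsPGroup p R) (hr : ¬ Cfsg.PRankLE p 2 R) (E : Subgroup R)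
    (hE : Cfsg.IsElementaryAbelian p E) (hE2 : Nat.card E = p ^ 2)
    (hEmax : ∀ B : Subgroup R, Cfsg.IsElementaryAbelian p B → E ≤ B → B = E) :
    ∀ c ∈ centralizer (E : Set R), ∀ d ∈ centralizer (E : Set R), c * d = d * c := by
  have hpp : p.Prime := Fact.out
  obtain ⟨hET, -, -, hTchar, hTidx⟩ := Cfsg.Agent.S1453.result p hp hR hr E hE hE2 hEmax
  obtain ⟨T, hT⟩ : ∃ T : Subgroup R, T = Subgroup.centralizer ((Subgroup.closure
    {x : R | x ∈ Subgroup.upperCentralSeries R 2 ∧ x ^ p = 1} : Subgroup R) : Set R) := ⟨_, rfl⟩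
  rw [← hT] at hET hTchar hTidx
  haveI hTn : T.Normal := Subgroup.normal_of_characteristic T
  obtain ⟨x, hxE, hxT⟩ := SetLike.not_le_iff_exists.mp hET
  have hEcomm := comm_of_elemAb hE
  -- T ⊔ ⟨x⟩ = ⊤
  have htop : T ⊔ zpowers x = ⊤ := by
    have h1 : (T ⊔ zpowers x).index ∣ T.index := Subgroup.index_dvd_of_le le_sup_left
    rw [hTidx] at h1
    rcases (Nat.dvd_prime hpp).mp h1 with h | h
    · exact Subgroup.index_eq_one.mp h
    · exfalso
      have h2 := Subgroup.relIndex_mul_index (le_sup_left : T ≤ T ⊔ zpowers x)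
      rw [h, hTidx] at h2
      have h3 : T.relIndex (T ⊔ zpowers x) = 1 := by
        have : T.relIndex (T ⊔ zpowers x) * p = 1 * p := by rw [h2, one_mul]
        exact Nat.eq_of_mul_eq_mul_right hpp.pos this
      have h4 := Subgroup.relIndex_eq_one.mp h3
      apply hxT
      apply h4
      exact (le_sup_right : zpowers x ≤ T ⊔ zpowers x) (mem_zpowers x)
  -- the cyclic part
  set CT : Subgroup R := T ⊓ centralizer (E : Set R) with hCT
  have hETlt : E ⊓ T ≠ E := by
    intro h
    apply hxT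
    have : x ∈ E ⊓ T := by rw [h]; exact hxE
    exact this.2
  have hrk : Cfsg.PRankLE p 1 ↥CT := by
    intro B hBc hBp
    rw [pow_one]
    set B' : Subgroup R := B.map CT.subtype with hB'
    have hcard : Nat.card B' = Nat.card B :=
      Subgroup.card_map_of_injective CT.subtype_injective
    have hB'mem : ∀ y ∈ B', y ∈ T ∧ y ∈ centralizer (E : Set R) ∧ y ^ p = 1 ∧
        ∀ z ∈ B', y * z = z * y := by
      rintro y ⟨b, hb, rfl⟩
      refine ⟨b.2.1, b.2.2, ?_, ?_⟩
      · have := hBp b hb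
        have := congrArg (fun w : CT => (w : R)) this
        simpa using this
      · rintro z ⟨c, hc, rfl⟩
        have := hBc.is_comm.comm ⟨b, hb⟩ ⟨c, hc⟩
        have := congrArg (fun w : B => ((w : CT) : R)) this
        simpa using this
    have hB'' : Cfsg.IsElementaryAbelian p (closure ((B' : Set R) ∪ (E : Set R))) := by
      apply elemAb_closure
      · rintro a (ha | ha) b (hb | hb)
        · exact (hB'mem a ha).2.2.2 b hb
        · have := mem_centralizer_iff.mp (hB'mem a ha).2.1 b hb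
          exact this.symm
        · exact mem_centralizer_iff.mp (hB'mem b hb).2.1 a ha
        · exact hEcomm a ha b hb
      · rintro a (ha | ha)
        · exact (hB'mem a ha).2.2.1
        · exact hE.2 a ha
    have hEle : E ≤ closure ((B' : Set R) ∪ (E : Set R)) :=
      fun y hy => subset_closure (Or.inr hy)
    have heq := hEmax _ hB'' hEle
    have hB'E : B' ≤ E ⊓ T := by
      intro y hy
      refine ⟨?_, (hB'mem y hy).1⟩
      rw [← heq]
      exact subset_closure (Or.inl hy)
    rw [← hcard]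
    exact (Nat.le_of_dvd Nat.card_pos (Subgroup.card_dvd_of_le hB'E)).trans
      (card_le_of_lt_of_card_sq hpp hE2 inf_le_left hETlt)
  have hCTp : IsPGroup p ↥(⊤ : Subgroup ↥CT) := (hR.to_subgroup CT).to_subgroup ⊤
  haveI hcyc : IsCyclic ↥(⊤ : Subgroup ↥CT) :=
    Cfsg.Agent.Lib.Helper17.isCyclic_of_pRankLE_one hp hrk ⊤ hCTp
  have hCTcomm : ∀ s ∈ CT, ∀ t ∈ CT, s * t = t * s := by
    intro s hs t ht
    have := comm_of_isCyclic (⟨⟨s, hs⟩, trivial⟩ : ↥(⊤ : Subgroup ↥CT)) ⟨⟨t, ht⟩, trivial⟩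
    have := congrArg (fun w : ↥(⊤ : Subgroup ↥CT) => ((w : CT) : R)) this
    simpa using this
  -- decomposition of elements of `C(E)`
  have hdec : ∀ c ∈ centralizer (E : Set R), ∃ t ∈ CT, ∃ y ∈ zpowers x, c = t * y := by
    intro c hc
    have hcmem : c ∈ T ⊔ zpowers x := by rw [htop]; trivial
    have hn : zpowers x ≤ normalizer (T : Set R) := by
      rw [Subgroup.normalizer_eq_top]
      exact le_top
    obtain ⟨t, ht, y, hy, rfl⟩ := Cfsg.Agent.Lib.Helper8.mem_sup_of_le_normalizer hn hcmem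
    refine ⟨t, ⟨ht, ?_⟩, y, hy, rfl⟩
    have hyE : y ∈ E := (zpowers_le (H := E)).mpr hxE hy
    have hyC : y ∈ centralizer (E : Set R) := by
      rw [mem_centralizer_iff]
      intro e he
      exact hEcomm e he y hyE
    have : t = (t * y) * y⁻¹ := by group
    rw [this]
    exact (centralizer (E : Set R)).mul_mem hc ((centralizer (E : Set R)).inv_mem hyC)
  intro c hc d hd
  obtain ⟨t, ht, y, hy, rfl⟩ := hdec c hc
  obtain ⟨s, hs, z, hz, rfl⟩ := hdec d hd
  have hyE : y ∈ E := (zpowers_le (H := E)).mpr hxE hy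
  have hzE : z ∈ E := (zpowers_le (H := E)).mpr hxE hz
  have h1 : y * s = s * y := mem_centralizer_iff.mp hs.2 y hyE
  have h2 : z * t = t * z := mem_centralizer_iff.mp ht.2 z hzE
  have h3 : t * s = s * t := hCTcomm t ht s hs
  have h4 : y * z = z * y := hEcomm y hyE z hzE
  calc t * y * (s * z) = t * (y * s) * z := by group
    _ = t * (s * y) * z := by rw [h1]
    _ = (t * s) * (y * z) := by group
    _ = (s * t) * (z * y) := by rw [h3, h4]
    _ = s * (t * z) * y := by group
    _ = s * (z * t) * y := by rw [h2]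
    _ = s * z * (t * y) := by group

end Cfsg.Agent.Lib.Helper24.BGExB
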