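/- helper24: rank-two p-groups (p > 3), part 1: Omega_1 has exponent p, order at most p^3, and is nonabelian of order p^3 when R = [R, B] is nonabelian (towards B&G 4.18(e)). -/
import Mathlib
import Cfsg.Prelude.Def_CaseTheorems
import Cfsg.Prelude.Def_PLocal
import Cfsg.Prelude.Def_OddOrderLocal
import Cfsg.Agent.Lib.Helper1.OmegaRankTwo
import Cfsg.Agent.Lib.Helper1.HuppertMeta
import Cfsg.Agent.Lib.Helper1.MetaCoprime
import Cfsg.Agent.Lib.Helper1.AutRankTwo
import Cfsg.Agent.Lib.Helper20.NormalRankTwoB
import Cfsg.Agent.Lib.Helper20.NR4A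

set_option autoImplicit false
set_option linter.unusedSectionVars false
set_option linter.unusedVariables false
set_option linter.style.haveILetI false

open scoped commutatorElement

namespace Cfsg.Agent.Lib.Helper24.RkTwo

universe u

variable {R : Type u} [Group R] [Finite R] {p : ℕ} [Fact p.Prime]

/-- the subgroup generated by the elements of order dividing `p` -/
def om (p : ℕ) (R : Type u) [Group R] : Subgroup R := Subgroup.closure {x : R | x ^ p = 1}

theorem mem_om {x : R} (hx : x ^ p = 1) : x ∈ om p R := Subgroup.subset_closure hx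

theorem om_inv (α : MulAut R) (x : R) : x ∈ om p R ↔ α x ∈ om p R := by
  have key : ∀ γ : MulAut R, ∀ y, y ∈ om p R → γ y ∈ om p R := by
    intro γ y hy
    have h1 : (om p R).map ((γ : R ≃* R) : R →* R) ≤ om p R := by
      unfold om
      rw [MonoidHom.map_closure, Subgroup.closure_le]
      rintro _ ⟨z, hz, rfl⟩
      apply Subgroup.subset_closure
      show (γ z) ^ p = 1
      rw [← map_pow, (hz : z ^ p = 1), map_one]
    exact h1 ⟨y, hy, rfl⟩
  constructor
  · exact key α x
  · intro h
    have := key α⁻¹ _ h
    rwa [MulAut.inv_apply_self] at this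

instance om_normal : (om p R).Normal := by
  refine ⟨fun x hx g => ?_⟩
  have := (om_inv (p := p) (MulAut.conj g) x).mp hx
  simpa [MulAut.conj_apply] using this

theorem om_exp (hp3 : 3 < p) (hR : IsPGroup p R) (hrk : Cfsg.PRankLE p 2 R) :
    ∀ g ∈ om p R, g ^ p = 1 := fun g hg =>
  Cfsg.Agent.Lib.Helper1.omega_exponent_of_rank_two hp3 hR hrk g hg

/-- `|Ω₁(R)| ≤ p ^ 3` for rank at most two. -/
theorem om_card_le (hp3 : 3 < p) (hR : IsPGroup p R) (hrk : Cfsg.PRankLE p 2 R) :
    Nat.card (om p R) ≤ p ^ 3 := by
  have hpp : p.Prime := Fact.out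
  have hexp := om_exp hp3 hR hrk
  have hp2 : p ≠ 2 := by omega
  have hexp' : ∀ x : ↥(om p R), x ^ p = 1 := by
    intro x
    apply Subtype.ext
    simpa using hexp x x.2
  by_cases hcyc : IsCyclic ↥(om p R)
  · obtain ⟨g, hg⟩ := hcyc.exists_generator
    have h1 : Nat.card ↥(om p R) = orderOf g := by
      rw [← Nat.card_zpowers]
      have : Subgroup.zpowers g = ⊤ := by
        rw [eq_top_iff]; intro x _; exact hg x
      rw [this, Subgroup.card_top]
    have h2 : orderOf g ∣ p := orderOf_dvd_of_pow_eq_one (hexp' g)
    have h3 : orderOf g ≤ p := Nat.le_of_dvd hpp.pos h2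
    calc Nat.card ↥(om p R) = orderOf g := h1
      _ ≤ p := h3
      _ = p ^ 1 := (pow_one p).symm
      _ ≤ p ^ 3 := Nat.pow_le_pow_right hpp.pos (by norm_num)
  · have hSp : IsPGroup p ↥(om p R) := hR.to_subgroup _
    obtain ⟨M, hMn, hMc, hMe, hMcard⟩ :=
      Cfsg.Agent.Lib.Helper20.exists_normal_elemAb_of_not_isCyclic hp2 hSp hcyc
    haveI := hMn
    have h1 := Cfsg.Agent.Lib.Helper20.NR4.card_le_mul_card_inf_centralizer hSp M hMe
      (le_of_eq hMcard) ⊤
    rw [top_inf_eq, Subgroup.card_top] at h1
    have hrkS : Cfsg.PRankLE p 2 ↥(om p R) :=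
      Cfsg.Agent.Lib.Helper1.pRankLE_subgroup hrk _
    -- the centralizer of `M` is `M`
    have hCM : Subgroup.centralizer (M : Set ↥(om p R)) ≤ M := by
      intro x hx
      by_contra hxM
      have hcard := Cfsg.Agent.Lib.Helper1.card_sup_zpowers_of_normal M (hexp' x) hxM
      have hcomm : IsMulCommutative ↥(M ⊔ Subgroup.zpowers x) := by
        refine ⟨⟨?_⟩⟩
        have hle : M ⊔ Subgroup.zpowers x ≤
            Subgroup.centralizer ((M ⊔ Subgroup.zpowers x : Subgroup ↥(om p R)) : Set ↥(om p R)) := by
          rw [sup_le_iff]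
          constructor
          · intro m hm
            rw [Subgroup.mem_centralizer_iff]
            intro y hy
            revert y
            show ∀ y ∈ M ⊔ Subgroup.zpowers x, y * m = m * y
            rw [← Subgroup.closure_eq M, Subgroup.zpowers_eq_closure, ← Subgroup.closure_union]
            intro y hy
            have : y ∈ Subgroup.centralizer ({m} : Set ↥(om p R)) := by
              revert y
              show Subgroup.closure _ ≤ _
              rw [Subgroup.closure_le]
              rintro y (hy | hy)
              · rw [SetLike.mem_coe, Subgroup.mem_centralizer_iff]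
                intro z hz
                rw [Set.mem_singleton_iff] at hz
                subst hz
                have := hMc.is_comm.comm (⟨z, hm⟩ : M) ⟨y, hy⟩
                exact congrArg Subtype.val this
              · rw [Set.mem_singleton_iff] at hy
                subst hy
                rw [SetLike.mem_coe, Subgroup.mem_centralizer_iff]
                intro z hz
                rw [Set.mem_singleton_iff] at hz
                subst hz
                exact (Subgroup.mem_centralizer_iff.mp hx z hm)
            exact (Subgroup.mem_centralizer_iff.mp this m rfl).symm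
          · rw [Subgroup.zpowers_le]
            rw [Subgroup.mem_centralizer_iff]
            intro y hy
            revert y
            show ∀ y ∈ M ⊔ Subgroup.zpowers x, y * x = x * y
            rw [← Subgroup.closure_eq M, Subgroup.zpowers_eq_closure, ← Subgroup.closure_union]
            intro y hy
            have : y ∈ Subgroup.centralizer ({x} : Set ↥(om p R)) := by
              revert y
              show Subgroup.closure _ ≤ _
              rw [Subgroup.closure_le]
              rintro y (hy | hy)
              · rw [SetLike.mem_coe, Subgroup.mem_centralizer_iff]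
                intro z hz
                rw [Set.mem_singleton_iff] at hz
                subst hz
                exact (Subgroup.mem_centralizer_iff.mp hx y hy).symm
              · rw [Set.mem_singleton_iff] at hy
                subst hy
                rw [SetLike.mem_coe, Subgroup.mem_centralizer_iff]
                intro z hz
                rw [Set.mem_singleton_iff] at hz
                subst hz
                rfl
            exact (Subgroup.mem_centralizer_iff.mp this x rfl).symm
        rintro ⟨a, ha⟩ ⟨b, hb⟩
        apply Subtype.ext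
        exact (Subgroup.mem_centralizer_iff.mp (hle hb) a ha)
      have h2 := hrkS (M ⊔ Subgroup.zpowers x) hcomm (fun e _ => hexp' e)
      rw [hcard, hMcard] at h2
      have : p ^ 2 < p * p ^ 2 := by
        have := pow_pos hpp.pos 2
        have := hpp.two_le
        nlinarith
      omega
    have hMle : M ≤ Subgroup.centralizer (M : Set ↥(om p R)) := by
      intro m hm
      rw [Subgroup.mem_centralizer_iff]
      intro y hy
      have := hMc.is_comm.comm (⟨y, hy⟩ : M) ⟨m, hm⟩
      exact congrArg Subtype.val this
    have hCeq : Subgroup.centralizer (M : Set ↥(om p R)) = M := le_antisymm hCM hMle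
    rw [hCeq, hMcard] at h1
    calc Nat.card ↥(om p R) ≤ p * p ^ 2 := h1
      _ = p ^ 3 := by ring


open Cfsg.Agent.Lib.Helper1.MetaCoprime in
/-- in the nonabelian case `Ω₁(R)` is nonabelian of order `p ^ 3`. -/
theorem om_cube (hp3 : 3 < p) (hR : IsPGroup p R) (hrk : Cfsg.PRankLE p 2 R)
    (B : Subgroup (MulAut R)) (hcop : (Nat.card B).Coprime p)
    (hgen : Subgroup.closure (genSet B) = ⊤) (hna : ¬ ∀ a b : R, a * b = b * a) :
    Nat.card (om p R) = p ^ 3 ∧ ¬ (∀ a ∈ om p R, ∀ b ∈ om p R, a * b = b * a) := by
  have hpp : p.Prime := Fact.out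
  have hp2 : p ≠ 2 := by omega
  have hexp := om_exp hp3 hR hrk
  have hle := om_card_le hp3 hR hrk
  have hgt : p ^ 2 < Nat.card (om p R) := by
    by_contra hcon
    push Not at hcon
    apply hna
    have hΩ : Nat.card (Cfsg.omegaOne p (⊤ : Subgroup R)) ≤ p ^ 2 := by
      rw [Cfsg.Agent.Lib.Helper1.OmegaQuot.omegaOne_top_eq]
      exact hcon
    have hm := Cfsg.Agent.Lib.Helper1.HuppertMeta.isMetacyclic_of_small_omega hp3 hR hΩ
    exact abstract_claim hp2 (Nat.card R) R rfl hR hm B hcop hgen
  obtain ⟨k, hk⟩ := (hR.to_subgroup (om p R)).exists_card_eq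
  have hk3 : k = 3 := by
    rw [hk] at hgt hle
    have h1 : 2 < k := (Nat.pow_lt_pow_iff_right hpp.one_lt).mp hgt
    have h2 : k ≤ 3 := (Nat.pow_le_pow_iff_right hpp.one_lt).mp hle
    omega
  refine ⟨by rw [hk, hk3], ?_⟩
  intro hab
  have hcomm : IsMulCommutative ↥(om p R) := by
    refine ⟨⟨?_⟩⟩
    rintro ⟨a, ha⟩ ⟨b, hb⟩
    exact Subtype.ext (hab a ha b hb)
  have := hrk (om p R) hcomm hexp
  omega

end Cfsg.Agent.Lib.Helper24.RkTwo
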