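/- helper24: rank-two p-groups, part 2: when Omega_1 is nonabelian of order p^3 and exponent p, its centralizer is cyclic with Omega_1 equal to the centre of Omega_1, and is central when R = [R, B]. -/
import Mathlib
import Cfsg.Agent.Lib.Helper24.RkTwo1
import Cfsg.Agent.Lib.Helper26.OrderPCubeA
import Cfsg.Agent.Lib.Helper11.UniqueSubgroup

set_option autoImplicit false
set_option linter.unusedSectionVars false
set_option linter.unusedVariables false
set_option linter.style.haveILetI false

open scoped commutatorElement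

namespace Cfsg.Agent.Lib.Helper24.RkTwo

universe u

variable {R : Type u} [Group R] [Finite R] {p : ℕ} [Fact p.Prime]

/-- the configuration: `Ω₁(R)` is nonabelian of order `p ^ 3` and exponent `p`. -/
structure Cube (p : ℕ) (R : Type u) [Group R] : Prop where
  hp3 : 3 < p
  hR : IsPGroup p R
  hexp : ∀ g ∈ om p R, g ^ p = 1
  hcard : Nat.card (om p R) = p ^ 3
  hna : ¬ ∀ a ∈ om p R, ∀ b ∈ om p R, a * b = b * a

/-- the centralizer of `Ω₁(R)` -/
def cen (p : ℕ) (R : Type u) [Group R] : Subgroup R := Subgroup.centralizer (om p R : Set R)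

/-- the centre of `Ω₁(R)` -/
def zen (p : ℕ) (R : Type u) [Group R] : Subgroup R := om p R ⊓ cen p R

instance cen_normal : (cen p R).Normal := by
  unfold cen; infer_instance

instance zen_normal : (zen p R).Normal := by
  unfold zen; infer_instance

theorem mem_cen {x : R} : x ∈ cen p R ↔ ∀ s ∈ om p R, s * x = x * s := by
  unfold cen
  rw [Subgroup.mem_centralizer_iff]
  rfl

theorem zen_le_om : zen p R ≤ om p R := inf_le_left
theorem zen_le_cen : zen p R ≤ cen p R := inf_le_right

/-- invariance of centralizers -/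
theorem centralizer_inv (H : Subgroup R) (α : MulAut R) (hH : ∀ x, x ∈ H ↔ α x ∈ H) (x : R) :
    x ∈ Subgroup.centralizer (H : Set R) ↔ α x ∈ Subgroup.centralizer (H : Set R) := by
  rw [Subgroup.mem_centralizer_iff, Subgroup.mem_centralizer_iff]
  constructor
  · intro h d hd
    have hd' : α⁻¹ d ∈ H := by
      rw [hH, MulAut.apply_inv_self]; exact hd
    have := congrArg α (h _ hd')
    rwa [map_mul, map_mul, MulAut.apply_inv_self] at this
  · intro h d hd
    have := h (α d) ((hH d).mp hd)
    rw [← map_mul, ← map_mul] at this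
    exact α.injective this

theorem cen_inv (α : MulAut R) (x : R) : x ∈ cen p R ↔ α x ∈ cen p R :=
  centralizer_inv (om p R) α (om_inv α) x

theorem zen_inv (α : MulAut R) (x : R) : x ∈ zen p R ↔ α x ∈ zen p R := by
  unfold zen
  rw [Subgroup.mem_inf, Subgroup.mem_inf, ← om_inv α x, ← cen_inv α x]

/-- the centre of `Ω₁(R)` has order `p` -/
theorem Cube.card_zen (h : Cube p R) : Nat.card (zen p R) = p := by
  have h1 := Cfsg.Agent.Lib.Helper26.card_center_of_cube (H := ↥(om p R)) (p := p) h.hcard (by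
    intro hab
    apply h.hna
    intro a ha b hb
    exact congrArg Subtype.val (hab ⟨a, ha⟩ ⟨b, hb⟩))
  have h2 : (Subgroup.center ↥(om p R)).map (om p R).subtype = zen p R := by
    ext x
    constructor
    · rintro ⟨y, hy, rfl⟩
      refine ⟨y.2, ?_⟩
      show _ ∈ cen p R
      rw [mem_cen]
      intro s hs
      have := Subgroup.mem_center_iff.mp hy ⟨s, hs⟩
      exact congrArg Subtype.val this
    · rintro ⟨hx1, hx2⟩
      refine ⟨⟨x, hx1⟩, ?_, rfl⟩
      show _ ∈ Subgroup.center _
      rw [Subgroup.mem_center_iff]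
      intro s
      apply Subtype.ext
      exact mem_cen.mp hx2 s s.2
  rw [← h2, Subgroup.card_map_of_injective (Subgroup.subtype_injective _)]
  exact h1

/-- commutators in `Ω₁(R)` are central -/
theorem Cube.comm_mem_zen (h : Cube p R) {a b : R} (ha : a ∈ om p R) (hb : b ∈ om p R) :
    ⁅a, b⁆ ∈ zen p R := by
  have h1 := (Cfsg.Agent.Lib.Helper26.cube_structure (H := ↥(om p R)) (p := p) h.hcard (by
    intro hab
    apply h.hna
    intro a ha b hb
    exact congrArg Subtype.val (hab ⟨a, ha⟩ ⟨b, hb⟩))).1 ⟨a, ha⟩ ⟨b, hb⟩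
  refine ⟨?_, ?_⟩
  · exact (om p R).mul_mem ((om p R).mul_mem ((om p R).mul_mem ha hb) ((om p R).inv_mem ha))
      ((om p R).inv_mem hb)
  · show _ ∈ cen p R
    rw [mem_cen]
    intro s hs
    have := Subgroup.mem_center_iff.mp h1 ⟨s, hs⟩
    exact congrArg Subtype.val this

/-- elements of order dividing `p` in the centralizer are in the centre of `Ω₁` -/
theorem mem_zen_of_pow {x : R} (hx : x ∈ cen p R) (hxp : x ^ p = 1) : x ∈ zen p R :=
  ⟨mem_om hxp, hx⟩

theorem Cube.zen_pow (h : Cube p R) {z : R} (hz : z ∈ zen p R) : z ^ p = 1 :=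
  h.hexp z (zen_le_om hz)

/-- the elements of order dividing `p` of the centralizer generate the centre of `Ω₁` -/
theorem Cube.closure_cen (h : Cube p R) :
    Subgroup.closure {x : R | x ∈ cen p R ∧ x ^ p = 1} = zen p R := by
  apply le_antisymm
  · rw [Subgroup.closure_le]
    rintro x ⟨hx, hxp⟩
    exact mem_zen_of_pow hx hxp
  · intro z hz
    exact Subgroup.subset_closure ⟨zen_le_cen hz, h.zen_pow hz⟩

/-- a subgroup of the centre of `Ω₁` is trivial or everything -/
theorem Cube.eq_bot_or_eq_zen (h : Cube p R) (K : Subgroup R) (hK : K ≤ zen p R) :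
    K = ⊥ ∨ K = zen p R := by
  have hpp : p.Prime := Fact.out
  have hd : Nat.card K ∣ p := by
    rw [← h.card_zen]; exact Subgroup.card_dvd_of_le hK
  rcases (Nat.dvd_prime hpp).mp hd with h1 | h1
  · left; exact Subgroup.card_eq_one.mp h1
  · right
    exact Subgroup.eq_of_le_of_card_ge hK (by rw [h1, h.card_zen])

/-- the derived subgroup of `Ω₁` is its centre -/
theorem Cube.commutator_om (h : Cube p R) : ⁅om p R, om p R⁆ = zen p R := by
  have hle : ⁅om p R, om p R⁆ ≤ zen p R := by
    rw [Subgroup.commutator_le]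
    intro a ha b hb
    exact h.comm_mem_zen ha hb
  rcases h.eq_bot_or_eq_zen _ hle with h1 | h1
  · exfalso
    apply h.hna
    intro a ha b hb
    have : ⁅a, b⁆ ∈ (⊥ : Subgroup R) := h1 ▸ Subgroup.commutator_mem_commutator ha hb
    rw [Subgroup.mem_bot, commutatorElement_eq_one_iff_mul_comm] at this
    exact this
  · exact h1

/-- a nontrivial element of the centre of `Ω₁` generates it -/
theorem Cube.zpowers_eq_zen (h : Cube p R) {z : R} (hz : z ∈ zen p R) (hz1 : z ≠ 1) :
    Subgroup.zpowers z = zen p R := by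
  rcases h.eq_bot_or_eq_zen (Subgroup.zpowers z) (Subgroup.zpowers_le_of_mem hz) with h1 | h1
  · exfalso
    apply hz1
    have : z ∈ (⊥ : Subgroup R) := h1 ▸ Subgroup.mem_zpowers z
    exact Subgroup.mem_bot.mp this
  · exact h1

/-- the centralizer of `Ω₁` is cyclic -/
theorem Cube.cen_cyclic (h : Cube p R) : IsCyclic ↥(cen p R) := by
  have hpp : p.Prime := Fact.out
  obtain ⟨m, hm⟩ := (h.hR.to_subgroup (cen p R)).exists_card_eq
  have hZC : Nat.card (zen p R) ≤ Nat.card (cen p R) := Subgroup.card_le_of_le zen_le_cen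
  rw [h.card_zen, hm] at hZC
  have hm1 : 1 ≤ m := by
    by_contra hcon
    have : m = 0 := by omega
    rw [this, pow_zero] at hZC
    have := hpp.two_le
    omega
  rcases Nat.lt_or_ge 1 m with hlt | hge
  · have hp2 : p ≠ 2 := by have := h.hp3; omega
    have key : ∀ H : Subgroup ↥(cen p R), Nat.card H = p ^ 1 →
        H = (zen p R).subgroupOf (cen p R) := by
      intro H hH
      rw [pow_one] at hH
      apply Subgroup.eq_of_le_of_card_ge
      · intro x hx
        rw [Subgroup.mem_subgroupOf]
        apply mem_zen_of_pow x.2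
        have h1 : (⟨x, hx⟩ : H) ^ p = 1 := by
          have := pow_card_eq_one' (G := H) (x := ⟨x, hx⟩)
          rwa [hH] at this
        have h2 := congrArg (fun y : H => ((y : ↥(cen p R)) : R)) h1
        simpa using h2
      · rw [Cfsg.Agent.Lib.Helper1.card_subgroupOf_of_le zen_le_cen, h.card_zen, hH]
    apply Cfsg.Agent.Lib.Helper11.isCyclic_of_unique_subgroup_card p m 1 hpp hm le_rfl hlt
      (Or.inl hp2)
    intro H K hH hK
    rw [key H hH, key K hK]
  · have : m = 1 := by omega
    rw [this, pow_one] at hm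
    exact isCyclic_of_prime_card hm


open Cfsg.Agent.Lib.Helper1.MetaCoprime in
/-- the (cyclic, invariant) centralizer of `Ω₁` is central when `R = [R, B]` -/
theorem Cube.cen_le_center (h : Cube p R) (B : Subgroup (MulAut R))
    (hgen : Subgroup.closure (genSet B) = ⊤) : cen p R ≤ Subgroup.center R := by
  obtain ⟨⟨g, hgC⟩, hg⟩ := h.cen_cyclic.exists_generator
  have hgen' : ∀ c ∈ cen p R, ∃ k : ℤ, g ^ k = c := by
    intro c hc
    have := hg ⟨c, hc⟩
    obtain ⟨k, hk⟩ := Subgroup.mem_zpowers_iff.mp this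
    refine ⟨k, ?_⟩
    have := congrArg Subtype.val hk
    simpa using this
  -- `β x` and `x` act in the same way on `g`
  have key : ∀ β ∈ B, ∀ x : R, β x * g * (β x)⁻¹ = x * g * x⁻¹ := by
    intro β hβ x
    obtain ⟨a, ha⟩ := hgen' (x * g * x⁻¹) (cen_normal.conj_mem g hgC x)
    have hg1 : β⁻¹ g ∈ cen p R := by
      rw [cen_inv β, MulAut.apply_inv_self]; exact hgC
    obtain ⟨c, hc⟩ := hgen' _ hg1
    have h1 : β x * g * (β x)⁻¹ = β (x * (β⁻¹ g) * x⁻¹) := by
      rw [map_mul, map_mul, MulAut.apply_inv_self, map_inv]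
    have h2 : x * (β⁻¹ g) * x⁻¹ = (β⁻¹ g) ^ a := by
      rw [← hc, ← conj_zpow, ← ha, ← zpow_mul, ← zpow_mul, mul_comm]
    rw [h1, h2, map_zpow, MulAut.apply_inv_self, ha]
  have hK : (⊤ : Subgroup R) ≤ Subgroup.centralizer (cen p R : Set R) := by
    rw [← hgen, Subgroup.closure_le]
    rintro _ ⟨β, hβ, x, rfl⟩
    have h1 : x⁻¹ * β x ∈ Subgroup.centralizer (cen p R : Set R) := by
      rw [Subgroup.mem_centralizer_iff]
      intro c hc
      obtain ⟨k, rfl⟩ := hgen' c hc
      have h2 : g * (x⁻¹ * β x) = x⁻¹ * β x * g := by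
        have := key β hβ x
        calc g * (x⁻¹ * β x) = x⁻¹ * (x * g * x⁻¹) * β x := by group
          _ = x⁻¹ * (β x * g * (β x)⁻¹) * β x := by rw [this]
          _ = x⁻¹ * β x * g := by group
      have hcomm : Commute g (x⁻¹ * β x) := h2
      exact (hcomm.zpow_left k).eq
    have h3 : β x * x⁻¹ = x * (x⁻¹ * β x) * x⁻¹ := by group
    rw [h3]
    exact (inferInstance : (Subgroup.centralizer (cen p R : Set R)).Normal).conj_mem _ h1 x
  intro c hc
  rw [Subgroup.mem_center_iff]
  intro x
  exact (Subgroup.mem_centralizer_iff.mp (hK (Subgroup.mem_top x)) c hc).symm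

end Cfsg.Agent.Lib.Helper24.RkTwo
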