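/- helper24: rank-two p-groups, part 3: normal subgroups M of order p^2 in the nonabelian Omega_1 of order p^3, the commutator map C(M) -> M, uniqueness of M when R is not Omega_1 * C(Omega_1). -/
import Mathlib
import Cfsg.Agent.Lib.Helper24.RkTwo2
import Cfsg.Agent.Lib.Helper4.Basic

set_option autoImplicit false
set_option linter.unusedSectionVars false
set_option linter.unusedVariables false
set_option linter.style.haveILetI false

open scoped commutatorElement

namespace Cfsg.Agent.Lib.Helper24.RkTwo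

universe u

variable {R : Type u} [Group R] [Finite R] {p : ℕ} [Fact p.Prime]

/-- a normal subgroup of order `p ^ 2` inside `Ω₁` -/
structure Sq (p : ℕ) (M : Subgroup R) : Prop where
  nM : M.Normal
  le : M ≤ om p R
  card : Nat.card M = p ^ 2

/-- the centralizer of `M` -/
def tee (M : Subgroup R) : Subgroup R := Subgroup.centralizer (M : Set R)

theorem mem_tee {M : Subgroup R} {x : R} : x ∈ tee M ↔ ∀ m ∈ M, m * x = x * m := by
  unfold tee
  rw [Subgroup.mem_centralizer_iff]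
  rfl

variable {M : Subgroup R}

theorem Sq.comm (hM : Sq p M) {a b : R} (ha : a ∈ M) (hb : b ∈ M) : a * b = b * a := by
  have h1 : IsMulCommutative ↥M := IsPGroup.isMulCommutative_of_card_eq_prime_sq hM.card
  exact congrArg Subtype.val (h1.is_comm.comm (⟨a, ha⟩ : M) ⟨b, hb⟩)

theorem Sq.le_tee (hM : Sq p M) : M ≤ tee M := by
  intro x hx
  rw [mem_tee]
  intro m hm
  exact hM.comm hm hx

theorem Sq.cen_le_tee (hM : Sq p M) : cen p R ≤ tee M := by
  intro x hx
  rw [mem_tee]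
  intro m hm
  exact mem_cen.mp hx m (hM.le hm)

theorem Sq.tee_normal (hM : Sq p M) : (tee M).Normal := by
  haveI := hM.nM
  unfold tee; infer_instance

theorem Sq.pow (h : Cube p R) (hM : Sq p M) {m : R} (hm : m ∈ M) : m ^ p = 1 :=
  h.hexp m (hM.le hm)

/-- `C_{Ω₁}(M) = M` -/
theorem Sq.om_inf_tee (h : Cube p R) (hM : Sq p M) : om p R ⊓ tee M = M := by
  have hpp : p.Prime := Fact.out
  have hle : M ≤ om p R ⊓ tee M := le_inf hM.le hM.le_tee
  symm
  apply Subgroup.eq_of_le_of_card_ge hle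
  obtain ⟨k, hk⟩ := (h.hR.to_subgroup (om p R ⊓ tee M)).exists_card_eq
  have h1 : Nat.card (om p R ⊓ tee M : Subgroup R) ≤ p ^ 3 := by
    rw [← h.hcard]; exact Subgroup.card_le_of_le inf_le_left
  rw [hk] at h1 ⊢
  have hk3 : k ≤ 3 := (Nat.pow_le_pow_iff_right hpp.one_lt).mp h1
  rw [hM.card]
  apply Nat.pow_le_pow_right hpp.pos
  by_contra hcon
  have hk' : k = 3 := by omega
  have heq : om p R ⊓ tee M = om p R := by
    apply Subgroup.eq_of_le_of_card_ge inf_le_left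
    rw [hk, hk', h.hcard]
  have hMz : M ≤ zen p R := by
    intro m hm
    refine ⟨hM.le hm, ?_⟩
    show m ∈ cen p R
    rw [mem_cen]
    intro s hs
    have hs' : s ∈ tee M := by
      have : s ∈ om p R ⊓ tee M := by rw [heq]; exact hs
      exact this.2
    exact (mem_tee.mp hs' m hm).symm
  have := Subgroup.card_le_of_le hMz
  rw [hM.card, h.card_zen] at this
  have := hpp.two_le
  nlinarith

theorem Sq.zen_le (h : Cube p R) (hM : Sq p M) : zen p R ≤ M := by
  rw [← hM.om_inf_tee h]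
  exact le_inf zen_le_om (le_trans zen_le_cen hM.cen_le_tee)

theorem Sq.card_le (h : Cube p R) (hM : Sq p M) : Nat.card R ≤ p * Nat.card (tee M) := by
  haveI := hM.nM
  have h1 := Cfsg.Agent.Lib.Helper20.NR4.card_le_mul_card_inf_centralizer h.hR M
    (fun x hx => hM.pow h hx) (le_of_eq hM.card) ⊤
  rw [top_inf_eq, Subgroup.card_top] at h1
  exact h1

theorem Sq.om_sup_tee (h : Cube p R) (hM : Sq p M) : om p R ⊔ tee M = ⊤ := by
  have hpp : p.Prime := Fact.out
  haveI := hM.tee_normal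
  have h1 := Cfsg.Agent.Lib.Helper4.card_sup_mul_card_inf (om p R) (tee M)
    (by rw [Subgroup.normalizer_eq_top]; exact le_top)
  rw [hM.om_inf_tee h, hM.card, h.hcard] at h1
  have h2 := hM.card_le h
  apply Subgroup.eq_top_of_le_card
  have h3 : Nat.card (om p R ⊔ tee M : Subgroup R) = p * Nat.card (tee M) := by
    have h4 : Nat.card (om p R ⊔ tee M : Subgroup R) * p ^ 2 = (p * Nat.card (tee M)) * p ^ 2 := by
      rw [h1]; ring
    exact Nat.eq_of_mul_eq_mul_right (pow_pos hpp.pos 2) h4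
  rw [h3]
  exact h2

/-- adjoining an element outside `M` gives `Ω₁` -/
theorem Sq.sup_zpowers (h : Cube p R) (hM : Sq p M) {e : R} (he : e ∈ om p R) (heM : e ∉ M) :
    M ⊔ Subgroup.zpowers e = om p R := by
  haveI := hM.nM
  apply Subgroup.eq_of_le_of_card_ge
  · rw [sup_le_iff]
    exact ⟨hM.le, Subgroup.zpowers_le_of_mem he⟩
  · rw [Cfsg.Agent.Lib.Helper1.card_sup_zpowers_of_normal M (h.hexp e he) heM, hM.card, h.hcard]
    apply le_of_eq
    ring

/-- decomposition of the elements of `Ω₁` -/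
theorem Sq.decomp_om (h : Cube p R) (hM : Sq p M) {e : R} (he : e ∈ om p R) (heM : e ∉ M)
    {s : R} (hs : s ∈ om p R) : ∃ k : ℕ, ∃ m ∈ M, s = e ^ k * m := by
  haveI := hM.nM
  rw [← hM.sup_zpowers h he heM, sup_comm] at hs
  obtain ⟨y, hy, m, hm, rfl⟩ := Subgroup.mem_sup_of_normal_right.mp hs
  obtain ⟨k, rfl⟩ := mem_powers_iff_mem_zpowers.mpr hy
  exact ⟨k, m, hm, rfl⟩

/-- adjoining a noncentral element of `M` to the centre gives `M` -/
theorem Sq.zen_sup_zpowers (h : Cube p R) (hM : Sq p M) {e : R} (he : e ∈ M) (hez : e ∉ zen p R) :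
    zen p R ⊔ Subgroup.zpowers e = M := by
  apply Subgroup.eq_of_le_of_card_ge
  · rw [sup_le_iff]
    exact ⟨hM.zen_le h, Subgroup.zpowers_le_of_mem he⟩
  · rw [Cfsg.Agent.Lib.Helper1.card_sup_zpowers_of_normal (zen p R) (hM.pow h he) hez, hM.card,
      h.card_zen]
    apply le_of_eq
    ring

theorem Sq.decomp_M (h : Cube p R) (hM : Sq p M) {e : R} (he : e ∈ M) (hez : e ∉ zen p R)
    {m : R} (hm : m ∈ M) : ∃ k : ℕ, ∃ z ∈ zen p R, m = e ^ k * z := by
  rw [← hM.zen_sup_zpowers h he hez, sup_comm] at hm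
  obtain ⟨y, hy, z, hz, rfl⟩ := Subgroup.mem_sup_of_normal_right.mp hm
  obtain ⟨k, rfl⟩ := mem_powers_iff_mem_zpowers.mpr hy
  exact ⟨k, z, hz, rfl⟩

/-- commutators of `Ω₁` with `C(M)` lie in `M` -/
theorem Sq.comm_mem (h : Cube p R) (hM : Sq p M) {e t : R} (he : e ∈ om p R) (ht : t ∈ tee M) :
    ⁅e, t⁆ ∈ M := by
  haveI := hM.tee_normal
  rw [← hM.om_inf_tee h]
  constructor
  · have h1 : ⁅e, t⁆ = e * (t * e⁻¹ * t⁻¹) := by rw [commutatorElement_def]; group
    rw [h1]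
    exact (om p R).mul_mem he (om_normal.conj_mem _ ((om p R).inv_mem he) t)
  · have h1 : ⁅e, t⁆ = (e * t * e⁻¹) * t⁻¹ := by rw [commutatorElement_def]
    rw [h1]
    exact (tee M).mul_mem (hM.tee_normal.conj_mem _ ht e) ((tee M).inv_mem ht)

/-- `t ↦ ⁅e, t⁆` is multiplicative on `C(M)` -/
theorem Sq.comm_mul (h : Cube p R) (hM : Sq p M) {e t u : R} (he : e ∈ om p R) (ht : t ∈ tee M)
    (hu : u ∈ tee M) : ⁅e, t * u⁆ = ⁅e, t⁆ * ⁅e, u⁆ := by
  have h1 : ⁅e, t * u⁆ = ⁅e, t⁆ * (t * ⁅e, u⁆ * t⁻¹) := by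
    simp only [commutatorElement_def]; group
  have h2 : t * ⁅e, u⁆ * t⁻¹ = ⁅e, u⁆ := by
    have := mem_tee.mp ht _ (hM.comm_mem h he hu)
    rw [← this]; group
  rw [h1, h2]

/-- the homomorphism `t ↦ ⁅e, t⁆` on `C(M)` -/
def Sq.dHom (h : Cube p R) (hM : Sq p M) {e : R} (he : e ∈ om p R) : ↥(tee M) →* R where
  toFun t := ⁅e, (t : R)⁆
  map_one' := by simp
  map_mul' t u := by
    simpa using hM.comm_mul h he t.2 u.2

theorem Sq.comm_pow (h : Cube p R) (hM : Sq p M) {e t : R} (he : e ∈ om p R) (ht : t ∈ tee M)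
    (k : ℕ) : ⁅e, t ^ k⁆ = ⁅e, t⁆ ^ k := by
  have := map_pow (hM.dHom h he) ⟨t, ht⟩ k
  simpa [Sq.dHom] using this

theorem Sq.comm_inv (h : Cube p R) (hM : Sq p M) {e t : R} (he : e ∈ om p R) (ht : t ∈ tee M) :
    ⁅e, t⁻¹⁆ = ⁅e, t⁆⁻¹ := by
  have := map_inv (hM.dHom h he) ⟨t, ht⟩
  simpa [Sq.dHom] using this

/-- the kernel of `t ↦ ⁅e, t⁆` is the centralizer of `Ω₁` -/
theorem Sq.mem_cen_of_comm (h : Cube p R) (hM : Sq p M) {e t : R} (he : e ∈ om p R) (heM : e ∉ M)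
    (ht : t ∈ tee M) (hd : ⁅e, t⁆ = 1) : t ∈ cen p R := by
  rw [mem_cen]
  intro s hs
  obtain ⟨k, m, hm, rfl⟩ := hM.decomp_om h he heM hs
  have h1 : e * t = t * e := commutatorElement_eq_one_iff_mul_comm.mp hd
  have h2 : m * t = t * m := mem_tee.mp ht m hm
  have h3 : Commute e t := h1
  rw [mul_assoc, h2, ← mul_assoc, (h3.pow_left k).eq, mul_assoc]

theorem Sq.comm_cen (hM : Sq p M) {e c : R} (he : e ∈ om p R) (hc : c ∈ cen p R) : ⁅e, c⁆ = 1 := by
  rw [commutatorElement_eq_one_iff_mul_comm]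
  exact mem_cen.mp hc e he

/-- if all commutators `⁅e, t⁆` are central in `Ω₁` then `R = Ω₁ C(Ω₁)` -/
theorem Sq.sup_of_comm_mem_zen (h : Cube p R) (hM : Sq p M) {e : R} (he : e ∈ om p R)
    (heM : e ∉ M) (hall : ∀ t ∈ tee M, ⁅e, t⁆ ∈ zen p R) : om p R ⊔ cen p R = ⊤ := by
  have hpp : p.Prime := Fact.out
  -- an element of `M` outside the centre
  obtain ⟨m₀, hm₀, hm₀z⟩ : ∃ m₀ ∈ M, m₀ ∉ zen p R := by
    by_contra hcon
    push Not at hcon
    have := Subgroup.card_le_of_le (show M ≤ zen p R from hcon)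
    rw [hM.card, h.card_zen] at this
    have := hpp.two_le
    nlinarith
  have hd₀ : ⁅e, m₀⁆ ≠ 1 := by
    intro hd
    exact hm₀z ⟨hM.le hm₀, hM.mem_cen_of_comm h he heM (hM.le_tee hm₀) hd⟩
  have hz₀ : ⁅e, m₀⁆ ∈ zen p R := hall m₀ (hM.le_tee hm₀)
  have hzp := h.zpowers_eq_zen hz₀ hd₀
  have hT : tee M ≤ om p R ⊔ cen p R := by
    intro t ht
    have h1 : ⁅e, t⁆ ∈ Subgroup.zpowers ⁅e, m₀⁆ := hzp ▸ hall t ht
    obtain ⟨k, hk⟩ := mem_powers_iff_mem_zpowers.mpr h1
    have hk' : ⁅e, m₀ ^ k⁆ = ⁅e, t⁆ := by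
      rw [hM.comm_pow h he (hM.le_tee hm₀)]; exact hk
    have hmk : m₀ ^ k ∈ tee M := (tee M).pow_mem (hM.le_tee hm₀) k
    have h2 : ⁅e, (m₀ ^ k)⁻¹ * t⁆ = 1 := by
      rw [hM.comm_mul h he ((tee M).inv_mem hmk) ht, hM.comm_inv h he hmk, hk', inv_mul_cancel]
    have h3 := hM.mem_cen_of_comm h he heM ((tee M).mul_mem ((tee M).inv_mem hmk) ht) h2
    have h4 : t = m₀ ^ k * ((m₀ ^ k)⁻¹ * t) := by group
    rw [h4]
    exact Subgroup.mul_mem_sup (hM.le ((M).pow_mem hm₀ k)) h3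
  rw [eq_top_iff, ← hM.om_sup_tee h, sup_le_iff]
  exact ⟨le_sup_left, hT⟩


/-- `|Ω₁ C(Ω₁)| = p ^ 2 |C(Ω₁)|` -/
theorem Cube.card_om_sup_cen (h : Cube p R) :
    Nat.card (om p R ⊔ cen p R : Subgroup R) = p ^ 2 * Nat.card (cen p R) := by
  have hpp : p.Prime := Fact.out
  have h1 := Cfsg.Agent.Lib.Helper4.card_sup_mul_card_inf (om p R) (cen p R)
    (by rw [Subgroup.normalizer_eq_top]; exact le_top)
  have h2 : Nat.card (om p R ⊓ cen p R : Subgroup R) = p := h.card_zen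
  rw [h2, h.hcard] at h1
  have h3 : Nat.card (om p R ⊔ cen p R : Subgroup R) * p = (p ^ 2 * Nat.card (cen p R)) * p := by
    rw [h1]; ring
  exact Nat.eq_of_mul_eq_mul_right hpp.pos h3

/-- if `R ≠ Ω₁ C(Ω₁)` then `Ω₁` has a unique subgroup of order `p ^ 2` normal in `R` -/
theorem Sq.unique (h : Cube p R) {M M' : Subgroup R} (hM : Sq p M) (hM' : Sq p M')
    (hne : om p R ⊔ cen p R ≠ ⊤) : M = M' := by
  have hpp : p.Prime := Fact.out
  by_contra hMM
  apply hne
  have hsup : M ⊔ M' = om p R := by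
    have hle : M ⊔ M' ≤ om p R := sup_le hM.le hM'.le
    apply Subgroup.eq_of_le_of_card_ge hle
    obtain ⟨k, hk⟩ := (h.hR.to_subgroup (M ⊔ M')).exists_card_eq
    rw [hk, h.hcard]
    apply Nat.pow_le_pow_right hpp.pos
    by_contra hcon
    have hk2 : k ≤ 2 := by omega
    have h1 : M = M ⊔ M' := by
      apply Subgroup.eq_of_le_of_card_ge le_sup_left
      rw [hk, hM.card]
      exact Nat.pow_le_pow_right hpp.pos hk2
    have h2 : M' ≤ M := by rw [h1]; exact le_sup_right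
    apply hMM
    symm
    apply Subgroup.eq_of_le_of_card_ge h2
    rw [hM.card, hM'.card]
  have hinf : tee M ⊓ tee M' ≤ cen p R := by
    rintro x ⟨hx1, hx2⟩
    rw [mem_cen]
    intro s hs
    have h1 : M ⊔ M' ≤ Subgroup.centralizer ({x} : Set R) := by
      rw [sup_le_iff]
      constructor
      · intro m hm
        rw [Subgroup.mem_centralizer_iff]
        intro y hy
        rw [Set.mem_singleton_iff] at hy
        subst hy
        exact (mem_tee.mp hx1 m hm).symm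
      · intro m hm
        rw [Subgroup.mem_centralizer_iff]
        intro y hy
        rw [Set.mem_singleton_iff] at hy
        subst hy
        exact (mem_tee.mp hx2 m hm).symm
    rw [hsup] at h1
    exact (Subgroup.mem_centralizer_iff.mp (h1 hs) x rfl).symm
  have h1 := hM.card_le h
  haveI := hM'.nM
  have h2 : Nat.card (tee M) ≤ p * Nat.card (tee M ⊓ tee M' : Subgroup R) :=
    Cfsg.Agent.Lib.Helper20.NR4.card_le_mul_card_inf_centralizer h.hR M'
      (fun x hx => hM'.pow h hx) (le_of_eq hM'.card) (tee M)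
  have h3 := Subgroup.card_le_of_le hinf
  apply Subgroup.eq_top_of_le_card
  rw [h.card_om_sup_cen]
  calc Nat.card R ≤ p * Nat.card (tee M) := h1
    _ ≤ p * (p * Nat.card (tee M ⊓ tee M' : Subgroup R)) := Nat.mul_le_mul_left _ h2
    _ ≤ p * (p * Nat.card (cen p R)) := Nat.mul_le_mul_left _ (Nat.mul_le_mul_left _ h3)
    _ = p ^ 2 * Nat.card (cen p R) := by ring

/-- existence of a normal subgroup of order `p ^ 2` inside `Ω₁` -/
theorem Cube.exists_sq (h : Cube p R) : ∃ M : Subgroup R, Sq p M := by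
  have hp2 : p ≠ 2 := by have := h.hp3; omega
  have hnc : ¬ IsCyclic R := by
    intro hc
    apply h.hna
    intro a _ b _
    letI := hc.commGroup
    exact mul_comm a b
  obtain ⟨M, hMn, hMc, hMe, hMcard⟩ :=
    Cfsg.Agent.Lib.Helper20.exists_normal_elemAb_of_not_isCyclic hp2 h.hR hnc
  exact ⟨M, hMn, fun x hx => mem_om (hMe x hx), hMcard⟩

end Cfsg.Agent.Lib.Helper24.RkTwo
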