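/- helper24: rank-two p-groups, part 4: the weight computation showing R = Omega_1(R) * C_R(Omega_1(R)) when R = [R, B] for a group B of automorphisms of odd order (B&G 4.18(e)). -/
import Mathlib
import Cfsg.Agent.Lib.Helper24.RkTwo3
import Cfsg.Agent.Lib.Helper1.NarrowOmegaZ2

set_option autoImplicit false
set_option linter.unusedSectionVars false
set_option linter.unusedVariables false
set_option linter.style.haveILetI false

open scoped commutatorElement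

namespace Cfsg.Agent.Lib.Helper24.RkTwo

universe u

variable {R : Type u} [Group R] [Finite R] {p : ℕ} [Fact p.Prime]

omit [Finite R] [Fact p.Prime] in
theorem comm_mul_left_of_commute {x m t : R} (hmt : m * t = t * m) : ⁅x * m, t⁆ = ⁅x, t⁆ := by
  have h1 : ⁅x * m, t⁆ = x * (m * t) * m⁻¹ * x⁻¹ * t⁻¹ := by
    simp only [commutatorElement_def]; group
  rw [h1, hmt, commutatorElement_def]; group

omit [Finite R] [Fact p.Prime] in
theorem comm_mul_right_of_central {x y w : R} (hw : ∀ g : R, Commute w g) :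
    ⁅x, y * w⁆ = ⁅x, y⁆ := by
  have h1 : ⁅x, y * w⁆ = x * y * (w * x⁻¹) * w⁻¹ * y⁻¹ := by
    simp only [commutatorElement_def]; group
  rw [h1, (hw x⁻¹).eq, commutatorElement_def]; group

omit [Finite R] [Fact p.Prime] in
theorem exists_pow_mul (M : Subgroup R) [hMn : M.Normal] (x : R) {m : R} (hm : m ∈ M) (k : ℕ) :
    ∃ m' ∈ M, (x * m) ^ k = x ^ k * m' := by
  induction k with
  | zero => exact ⟨1, M.one_mem, by simp⟩
  | succ k ih =>
    obtain ⟨m', hm', hk⟩ := ih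
    refine ⟨x⁻¹ * m' * x * m, M.mul_mem (hMn.conj_mem' m' hm' x) hm, ?_⟩
    rw [pow_succ, hk, pow_succ]; group

omit [Finite R] in
/-- comparing exponents modulo a subgroup not containing `x` -/
theorem modEq_of_pow_mul_eq {Z : Subgroup R} {x : R} (hxp : x ^ p = 1) (hxZ : x ∉ Z) {a b : ℕ}
    {z z' : R} (hz : z ∈ Z) (hz' : z' ∈ Z) (hab : x ^ a * z = x ^ b * z') : a ≡ b [MOD p] := by
  have hpp : p.Prime := Fact.out
  have hx1 : x ≠ 1 := fun h => hxZ (h ▸ Z.one_mem)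
  have hord : orderOf x = p := orderOf_eq_prime hxp hx1
  -- `zpowers x ⊓ Z = ⊥`
  have hinf : Subgroup.zpowers x ⊓ Z = ⊥ := by
    have hcard : Nat.card (Subgroup.zpowers x) = p := by rw [Nat.card_zpowers, hord]
    have hdvd : Nat.card (Subgroup.zpowers x ⊓ Z : Subgroup R) ∣ p := by
      rw [← hcard]; exact Subgroup.card_dvd_of_le inf_le_left
    rcases (Nat.dvd_prime hpp).mp hdvd with h | h
    · exact Subgroup.card_eq_one.mp h
    · exfalso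
      apply hxZ
      haveI : Finite (Subgroup.zpowers x) := Nat.finite_of_card_ne_zero (by rw [hcard]; exact hpp.pos.ne')
      have : Subgroup.zpowers x ⊓ Z = Subgroup.zpowers x :=
        Subgroup.eq_of_le_of_card_ge inf_le_left (by rw [h, hcard])
      have hle : Subgroup.zpowers x ≤ Z := by rw [← this]; exact inf_le_right
      exact hle (Subgroup.mem_zpowers x)
  have h1 : (x ^ b)⁻¹ * x ^ a = z' * z⁻¹ := by
    have : x ^ a = x ^ b * z' * z⁻¹ := by rw [← hab]; group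
    rw [this]; group
  have h2 : (x ^ b)⁻¹ * x ^ a ∈ Subgroup.zpowers x ⊓ Z := by
    refine ⟨?_, ?_⟩
    · exact (Subgroup.zpowers x).mul_mem ((Subgroup.zpowers x).inv_mem
        ((Subgroup.zpowers x).pow_mem (Subgroup.mem_zpowers x) b))
        ((Subgroup.zpowers x).pow_mem (Subgroup.mem_zpowers x) a)
    · rw [h1]; exact Z.mul_mem hz' (Z.inv_mem hz)
  rw [hinf, Subgroup.mem_bot] at h2
  have h3 : x ^ a = x ^ b := by
    have : x ^ a = x ^ b * ((x ^ b)⁻¹ * x ^ a) := by group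
    rw [this, h2, mul_one]
  rw [← hord]
  exact pow_eq_pow_iff_modEq.mp h3

variable {M : Subgroup R}

/-- `⁅e ^ k, t⁆ ≡ ⁅e, t⁆ ^ k` modulo the centre of `Ω₁` -/
theorem Sq.comm_pow_left (h : Cube p R) (hCc : cen p R ≤ Subgroup.center R) (hM : Sq p M)
    {e : R} (he : e ∈ om p R) (k : ℕ) {t : R} (ht : t ∈ tee M) :
    ∃ z ∈ zen p R, ⁅e ^ k, t⁆ = ⁅e, t⁆ ^ k * z := by
  have hzc : ∀ z ∈ zen p R, ∀ g : R, Commute z g := fun z hz g =>
    (Subgroup.mem_center_iff.mp (hCc (zen_le_cen hz)) g).symm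
  induction k with
  | zero => exact ⟨1, Subgroup.one_mem _, by simp⟩
  | succ k ih =>
    obtain ⟨z, hz, hk⟩ := ih
    have hDM : ⁅e, t⁆ ∈ M := hM.comm_mem h he ht
    have hw : ⁅e, ⁅e, t⁆⁆ ∈ zen p R := h.comm_mem_zen he (hM.le hDM)
    refine ⟨⁅e, ⁅e, t⁆⁆ ^ k * z, Subgroup.mul_mem _ (Subgroup.pow_mem _ hw k) hz, ?_⟩
    have h1 : ⁅e ^ (k + 1), t⁆ = e * ⁅e ^ k, t⁆ * e⁻¹ * ⁅e, t⁆ := by
      simp only [commutatorElement_def, pow_succ']; group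
    have h2 : e * ⁅e, t⁆ * e⁻¹ = ⁅e, ⁅e, t⁆⁆ * ⁅e, t⁆ := by
      simp only [commutatorElement_def]; group
    have h3 : e * (⁅e, t⁆ ^ k * z) * e⁻¹ = (e * ⁅e, t⁆ * e⁻¹) ^ k * z := by
      rw [conj_pow]
      have := (hzc z hz e⁻¹).eq
      calc e * (⁅e, t⁆ ^ k * z) * e⁻¹ = e * ⁅e, t⁆ ^ k * (z * e⁻¹) := by group
        _ = e * ⁅e, t⁆ ^ k * (e⁻¹ * z) := by rw [this]
        _ = e * ⁅e, t⁆ ^ k * e⁻¹ * z := by group
    rw [h1, hk, h3, h2, (hzc _ hw ⁅e, t⁆).mul_pow, pow_succ]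
    have c1 := (hzc z hz ⁅e, t⁆).eq
    have c2 := ((hzc _ hw ⁅e, t⁆).pow_left k).eq
    have c3 := (hzc z hz (⁅e, t⁆ ^ k)).eq
    calc ⁅e, ⁅e, t⁆⁆ ^ k * ⁅e, t⁆ ^ k * z * ⁅e, t⁆
        = ⁅e, ⁅e, t⁆⁆ ^ k * ⁅e, t⁆ ^ k * (z * ⁅e, t⁆) := by group
      _ = ⁅e, ⁅e, t⁆⁆ ^ k * ⁅e, t⁆ ^ k * (⁅e, t⁆ * z) := by rw [c1]
      _ = (⁅e, ⁅e, t⁆⁆ ^ k * ⁅e, t⁆ ^ k) * ⁅e, t⁆ * z := by group
      _ = (⁅e, t⁆ ^ k * ⁅e, ⁅e, t⁆⁆ ^ k) * ⁅e, t⁆ * z := by
          rw [((hzc _ (Subgroup.pow_mem _ hw k) (⁅e, t⁆ ^ k))).eq]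
      _ = ⁅e, t⁆ ^ k * (⁅e, ⁅e, t⁆⁆ ^ k * ⁅e, t⁆) * z := by group
      _ = ⁅e, t⁆ ^ k * (⁅e, t⁆ * ⁅e, ⁅e, t⁆⁆ ^ k) * z := by rw [c2]
      _ = ⁅e, t⁆ ^ k * ⁅e, t⁆ * (⁅e, ⁅e, t⁆⁆ ^ k * z) := by group


/-- decomposition of `C(M)` when the commutator map is onto `M` -/
theorem Sq.decomp_tee (h : Cube p R) (hM : Sq p M) {e r : R} (he : e ∈ om p R) (heM : e ∉ M)
    (hr : r ∈ tee M) (hre : ⁅e, r⁆ ∉ zen p R) {t : R} (ht : t ∈ tee M) :
    ∃ a : ℕ, ∃ m ∈ M, ∃ c ∈ cen p R, t = r ^ a * m * c := by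
  have he1M : ⁅e, r⁆ ∈ M := hM.comm_mem h he hr
  have he1T : ⁅e, r⁆ ∈ tee M := hM.le_tee he1M
  have hz0Z : ⁅e, ⁅e, r⁆⁆ ∈ zen p R := h.comm_mem_zen he (hM.le he1M)
  have hz01 : ⁅e, ⁅e, r⁆⁆ ≠ 1 := by
    intro hd
    exact hre ⟨hM.le he1M, hM.mem_cen_of_comm h he heM he1T hd⟩
  obtain ⟨a, z, hz, hDt⟩ := hM.decomp_M h he1M hre (hM.comm_mem h he ht)
  have hz' : z ∈ Subgroup.zpowers ⁅e, ⁅e, r⁆⁆ := by
    rw [h.zpowers_eq_zen hz0Z hz01]; exact hz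
  obtain ⟨b, hb⟩ := mem_powers_iff_mem_zpowers.mpr hz'
  have hb' : ⁅e, ⁅e, r⁆⁆ ^ b = z := hb
  have hu1 : r ^ a ∈ tee M := (tee M).pow_mem hr a
  have hu2 : ⁅e, r⁆ ^ b ∈ tee M := (tee M).pow_mem he1T b
  have hu : r ^ a * ⁅e, r⁆ ^ b ∈ tee M := (tee M).mul_mem hu1 hu2
  have hDu : ⁅e, r ^ a * ⁅e, r⁆ ^ b⁆ = ⁅e, t⁆ := by
    rw [hM.comm_mul h he hu1 hu2, hM.comm_pow h he hr, hM.comm_pow h he he1T, hDt, hb']
  have hc : (r ^ a * ⁅e, r⁆ ^ b)⁻¹ * t ∈ cen p R := by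
    apply hM.mem_cen_of_comm h he heM ((tee M).mul_mem ((tee M).inv_mem hu) ht)
    rw [hM.comm_mul h he ((tee M).inv_mem hu) ht, hM.comm_inv h he hu, hDu, inv_mul_cancel]
  exact ⟨a, ⁅e, r⁆ ^ b, M.pow_mem he1M b, _, hc, by group⟩

/-- `C(M)` is abelian when the commutator map is onto `M` -/
theorem Sq.tee_comm (h : Cube p R) (hCc : cen p R ≤ Subgroup.center R) (hM : Sq p M) {e r : R}
    (he : e ∈ om p R) (heM : e ∉ M) (hr : r ∈ tee M) (hre : ⁅e, r⁆ ∉ zen p R) {t u : R}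
    (ht : t ∈ tee M) (hu : u ∈ tee M) : Commute t u := by
  have hcc : ∀ c ∈ cen p R, ∀ g : R, Commute g c := fun c hc g =>
    (Subgroup.mem_center_iff.mp (hCc hc) g)
  have hr' : ∀ t ∈ tee M, Commute r t := by
    intro t ht
    obtain ⟨a, m, hm, c, hc, rfl⟩ := hM.decomp_tee h he heM hr hre ht
    have h1 : Commute r (r ^ a) := (Commute.refl r).pow_right a
    have h2 : Commute r m := (mem_tee.mp hr m hm).symm
    exact (h1.mul_right h2).mul_right (hcc c hc r)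
  obtain ⟨a, m, hm, c, hc, rfl⟩ := hM.decomp_tee h he heM hr hre hu
  have h1 : Commute t (r ^ a) := ((hr' t ht).symm).pow_right a
  have h2 : Commute t m := (mem_tee.mp ht m hm).symm
  exact (h1.mul_right h2).mul_right (hcc c hc t)


/-- the weight relation: the exponent `μ` of `β` on `Ω₁ / M` squares to one modulo `p` -/
theorem Sq.weight_sq (h : Cube p R) (hCc : cen p R ≤ Subgroup.center R) (hM : Sq p M)
    (β : MulAut R) (hβM : ∀ x, x ∈ M ↔ β x ∈ M)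
    {e r : R} (he : e ∈ om p R) (heM : e ∉ M) (hr : r ∈ tee M) (hre : ⁅e, r⁆ ∉ zen p R)
    {μ : ℕ} {m₁ : R} (hm₁ : m₁ ∈ M) (hβe : β e = e ^ μ * m₁) :
    (μ : ZMod p) * μ = 1 := by
  have hpp : p.Prime := Fact.out
  haveI := hM.nM
  have hzc : ∀ z ∈ zen p R, ∀ g : R, Commute z g := fun z hz g =>
    (Subgroup.mem_center_iff.mp (hCc (zen_le_cen hz)) g).symm
  have hcc : ∀ c ∈ cen p R, ∀ g : R, Commute c g := fun c hc g =>
    (Subgroup.mem_center_iff.mp (hCc hc) g).symm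
  have he1M : ⁅e, r⁆ ∈ M := hM.comm_mem h he hr
  have he1T : ⁅e, r⁆ ∈ tee M := hM.le_tee he1M
  have hz0Z : ⁅e, ⁅e, r⁆⁆ ∈ zen p R := h.comm_mem_zen he (hM.le he1M)
  have hz01 : ⁅e, ⁅e, r⁆⁆ ≠ 1 := by
    intro hd
    exact hre ⟨hM.le he1M, hM.mem_cen_of_comm h he heM he1T hd⟩
  have hβT : ∀ x, x ∈ tee M ↔ β x ∈ tee M := centralizer_inv M β hβM
  have hβrT : β r ∈ tee M := (hβT r).mp hr
  -- a generator of the centralizer
  obtain ⟨⟨g, hgC⟩, hg⟩ := h.cen_cyclic.exists_generator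
  have hgen' : ∀ c ∈ cen p R, ∃ k : ℕ, g ^ k = c := by
    intro c hc
    have := hg ⟨c, hc⟩
    obtain ⟨k, hk⟩ := mem_powers_iff_mem_zpowers.mpr this
    refine ⟨k, ?_⟩
    have := congrArg Subtype.val hk
    simpa using this
  obtain ⟨ν, hν⟩ := hgen' (β g) ((cen_inv β g).mp hgC)
  obtain ⟨ρ, m₂, hm₂, c₂, hc₂, hβr⟩ := hM.decomp_tee h he heM hr hre hβrT
  -- the image of `e1`
  have hz₂ : ⁅e, m₂⁆ ∈ zen p R := h.comm_mem_zen he (hM.le hm₂)
  have hDβr : ⁅e, β r⁆ = ⁅e, r⁆ ^ ρ * ⁅e, m₂⁆ := by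
    rw [hβr, hM.comm_mul h he ((tee M).mul_mem ((tee M).pow_mem hr ρ) (hM.le_tee hm₂))
      (hM.cen_le_tee hc₂), hM.comm_mul h he ((tee M).pow_mem hr ρ) (hM.le_tee hm₂),
      hM.comm_pow h he hr, hM.comm_cen he hc₂, mul_one]
  obtain ⟨z₁, hz₁, hpow⟩ := hM.comm_pow_left h hCc he μ hβrT
  have hβe1 : β ⁅e, r⁆ = ⁅e, r⁆ ^ (ρ * μ) * (⁅e, m₂⁆ ^ μ * z₁) := by
    rw [map_commutatorElement, hβe, comm_mul_left_of_commute (mem_tee.mp hβrT m₁ hm₁), hpow, hDβr,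
      ((hzc _ hz₂ (⁅e, r⁆ ^ ρ)).symm).mul_pow, ← pow_mul, mul_assoc]
  have hwZ : ⁅e, m₂⁆ ^ μ * z₁ ∈ zen p R := (zen p R).mul_mem ((zen p R).pow_mem hz₂ μ) hz₁
  have hβz0 : β ⁅e, ⁅e, r⁆⁆ = ⁅e, ⁅e, r⁆⁆ ^ (ρ * μ * μ) := by
    rw [map_commutatorElement, hβe1, hβe, comm_mul_right_of_central (hzc _ hwZ),
      comm_mul_left_of_commute (hM.comm hm₁ (M.pow_mem he1M _)),
      Cfsg.Agent.Lib.Helper1.commutatorElement_pow_left_of_central e (⁅e, r⁆ ^ (ρ * μ))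
        (hzc _ (h.comm_mem_zen he (hM.le (M.pow_mem he1M _)))) μ,
      hM.comm_pow h he he1T, ← pow_mul]
  obtain ⟨l, hl⟩ := hgen' _ (zen_le_cen hz0Z)
  have hβz0' : β ⁅e, ⁅e, r⁆⁆ = ⁅e, ⁅e, r⁆⁆ ^ ν := by
    rw [← hl, map_pow, ← hν, ← pow_mul, ← pow_mul, mul_comm]
  have hord0 : orderOf ⁅e, ⁅e, r⁆⁆ = p := orderOf_eq_prime (h.zen_pow hz0Z) hz01
  have hrel1 : ν ≡ ρ * μ * μ [MOD p] := by
    rw [← hord0]; exact pow_eq_pow_iff_modEq.mp (hβz0'.symm.trans hβz0)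
  -- the `p`-th power of `r`
  have hrpC : r ^ p ∈ cen p R := by
    apply hM.mem_cen_of_comm h he heM ((tee M).pow_mem hr p)
    rw [hM.comm_pow h he hr, hM.pow h he1M]
  obtain ⟨j, hj⟩ := hgen' _ hrpC
  have hpj : ¬ p ∣ j := by
    rintro ⟨j', rfl⟩
    have hcC : g ^ j' ∈ cen p R := (cen p R).pow_mem hgC j'
    have hcC' : (g ^ j')⁻¹ ∈ cen p R := (cen p R).inv_mem hcC
    have h1 : (r * (g ^ j')⁻¹) ^ p = 1 := by
      rw [((hcc _ hcC' r).symm).mul_pow, ← hj, inv_pow, ← pow_mul, mul_comm j' p,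
        mul_inv_cancel]
    have h2 : r * (g ^ j')⁻¹ ∈ M := by
      rw [← hM.om_inf_tee h]
      exact ⟨mem_om h1, (tee M).mul_mem hr (hM.cen_le_tee hcC')⟩
    apply hre
    have h3 : ⁅e, r * (g ^ j')⁻¹⁆ = ⁅e, r⁆ := by
      rw [hM.comm_mul h he hr (hM.cen_le_tee hcC'), hM.comm_cen he hcC', mul_one]
    rw [← h3]
    exact h.comm_mem_zen he (hM.le h2)
  obtain ⟨i, hi⟩ := hgen' c₂ hc₂
  have hβrp : β (r ^ p) = g ^ (j * ρ + i * p) := by
    rw [map_pow, hβr, ((hcc c₂ hc₂ _).symm).mul_pow,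
      (hM.tee_comm h hCc he heM hr hre ((tee M).pow_mem hr ρ) (hM.le_tee hm₂)).mul_pow,
      hM.pow h hm₂, mul_one, ← pow_mul, mul_comm ρ p, pow_mul, ← hj, ← hi, ← pow_mul, ← pow_mul,
      ← pow_add]
  have hβrp' : β (r ^ p) = g ^ (ν * j) := by
    rw [← hj, map_pow, ← hν, ← pow_mul]
  have hpg : p ∣ orderOf g := by
    rw [← hord0, ← hl]; exact orderOf_pow_dvd l
  have hrel2 : ν * j ≡ j * ρ + i * p [MOD p] :=
    (pow_eq_pow_iff_modEq.mp (hβrp'.symm.trans hβrp)).of_dvd hpg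
  -- conclusion in `ZMod p`
  have e1 : (ν : ZMod p) = ρ * μ * μ := by
    have := (ZMod.natCast_eq_natCast_iff _ _ _).mpr hrel1
    push_cast at this; exact this
  have e2 : (ν : ZMod p) * j = j * ρ := by
    have := (ZMod.natCast_eq_natCast_iff _ _ _).mpr hrel2
    push_cast at this
    simpa using this
  have hj0 : (j : ZMod p) ≠ 0 := by
    rw [Ne, ZMod.natCast_eq_zero_iff]; exact hpj
  have hνρ : (ν : ZMod p) = ρ := by
    have : (j : ZMod p) * ν = j * ρ := by rw [mul_comm]; exact e2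
    exact mul_left_cancel₀ hj0 this
  have hν0 : (ν : ZMod p) ≠ 0 := by
    rw [Ne, ZMod.natCast_eq_zero_iff]
    rintro ⟨ν', rfl⟩
    have : β ⁅e, ⁅e, r⁆⁆ = 1 := by rw [hβz0', pow_mul, h.zen_pow hz0Z, one_pow]
    exact hz01 ((map_eq_one_iff β β.injective).mp this)
  have hfin : (ν : ZMod p) * ((μ : ZMod p) * μ) = ν * 1 := by
    calc (ν : ZMod p) * ((μ : ZMod p) * μ) = ρ * μ * μ := by rw [hνρ]; ring
      _ = ν := e1.symm
      _ = ν * 1 := (mul_one _).symm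
  exact mul_left_cancel₀ hν0 hfin

omit [Finite R] [Fact p.Prime] in
/-- iterating `β` on `e` modulo `M` -/
theorem Sq.iter (hM : Sq p M) (β : MulAut R) (hβM : ∀ x, x ∈ M ↔ β x ∈ M) {e : R} {μ : ℕ}
    {m₁ : R} (hm₁ : m₁ ∈ M) (hβe : β e = e ^ μ * m₁) (n : ℕ) :
    ∃ m ∈ M, (β ^ n) e = e ^ (μ ^ n) * m := by
  haveI := hM.nM
  induction n with
  | zero => exact ⟨1, M.one_mem, by simp⟩
  | succ n ih =>
    obtain ⟨m, hm, hn⟩ := ih
    obtain ⟨m', hm', hk⟩ := exists_pow_mul M (e ^ μ) hm₁ (μ ^ n)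
    refine ⟨m' * β m, M.mul_mem hm' ((hβM m).mp hm), ?_⟩
    rw [pow_succ', MulAut.mul_apply, hn, map_mul, map_pow, hβe, hk, ← pow_mul, ← pow_succ',
      mul_assoc]

/-- the contradiction: an automorphism of odd order cannot act nontrivially on `R / C(M)` when
the commutator map is onto `M` -/
theorem Sq.contra (h : Cube p R) (hCc : cen p R ≤ Subgroup.center R) (hM : Sq p M)
    (β : MulAut R) (hβM : ∀ x, x ∈ M ↔ β x ∈ M) (N : ℕ) (hN : Odd N) (hβN : β ^ N = 1)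
    {e r : R} (he : e ∈ om p R) (hβe : β e * e⁻¹ ∉ tee M) (hr : r ∈ tee M)
    (hre : ⁅e, r⁆ ∉ zen p R) : False := by
  have heM : e ∉ M := by
    intro heM
    apply hβe
    exact hM.le_tee (M.mul_mem ((hβM e).mp heM) (M.inv_mem heM))
  obtain ⟨μ, m₁, hm₁, hβe'⟩ := hM.decomp_om h he heM ((om_inv β e).mp he)
  have hsq := hM.weight_sq h hCc β hβM he heM hr hre hm₁ hβe'
  obtain ⟨m, hm, hN'⟩ := hM.iter β hβM hm₁ hβe' N
  rw [hβN, MulAut.one_apply] at hN'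
  have h1 : 1 ≡ μ ^ N [MOD p] :=
    modEq_of_pow_mul_eq (Z := M) (h.hexp e he) heM M.one_mem hm (by
      rw [pow_one, mul_one]; exact hN')
  have h2 : ((μ : ZMod p)) ^ N = 1 := by
    have := (ZMod.natCast_eq_natCast_iff _ _ _).mpr h1
    push_cast at this; exact this.symm
  have h3 : (μ : ZMod p) = 1 := by
    obtain ⟨k, rfl⟩ := hN
    rw [pow_succ, pow_mul, sq, hsq, one_pow, one_mul] at h2
    exact h2
  have h4 : μ ≡ 1 [MOD p] := by
    have : ((μ : ℕ) : ZMod p) = ((1 : ℕ) : ZMod p) := by rw [h3]; simp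
    exact (ZMod.natCast_eq_natCast_iff _ _ _).mp this
  have h5 : e ^ μ = e := by
    have hord : orderOf e = p :=
      orderOf_eq_prime (h.hexp e he) (fun h1 => heM (h1 ▸ M.one_mem))
    have := pow_eq_pow_iff_modEq.mpr (hord.symm ▸ h4)
    rwa [pow_one] at this
  apply hβe
  rw [hβe', h5]
  exact hM.le_tee (hM.nM.conj_mem m₁ hm₁ e)


open Cfsg.Agent.Lib.Helper1.MetaCoprime in
/-- **`R = Ω₁(R) C_R(Ω₁(R))`** for a group `B` of automorphisms of odd order with `R = [R, B]`. -/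
theorem Cube.om_sup_cen (h : Cube p R) (B : Subgroup (MulAut R)) (hodd : Odd (Nat.card B))
    (hgen : Subgroup.closure (genSet B) = ⊤) : om p R ⊔ cen p R = ⊤ := by
  by_contra hne
  have hCc := h.cen_le_center B hgen
  obtain ⟨M, hM⟩ := h.exists_sq
  have hinv : ∀ β : MulAut R, ∀ x, x ∈ M ↔ β x ∈ M := by
    intro β
    have key : ∀ γ : MulAut R, ∀ x ∈ M, γ x ∈ M := by
      intro γ x hx
      have hM' : Sq p (M.map ((γ : R ≃* R) : R →* R)) := by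
        refine ⟨Subgroup.Normal.map hM.nM _ γ.surjective, ?_, ?_⟩
        · rintro _ ⟨y, hy, rfl⟩
          exact (om_inv γ y).mp (hM.le hy)
        · rw [Subgroup.card_map_of_injective γ.injective]; exact hM.card
      have := hM.unique h hM' hne
      rw [this]
      exact ⟨x, hx, rfl⟩
    intro x
    constructor
    · exact key β x
    · intro hx
      have := key β⁻¹ _ hx
      rwa [MulAut.inv_apply_self] at this
  haveI := hM.tee_normal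
  have hβT : ∀ β : MulAut R, ∀ x, x ∈ tee M ↔ β x ∈ tee M := fun β =>
    centralizer_inv M β (hinv β)
  have hT : tee M ≠ ⊤ := by
    intro hT
    have h1 := hM.om_inf_tee h
    rw [hT, inf_top_eq] at h1
    have h2 := hM.card
    rw [← h1, h.hcard] at h2
    have hpp : p.Prime := Fact.out
    have := Nat.pow_right_injective hpp.two_le h2
    omega
  obtain ⟨β, hβ, x, hx⟩ : ∃ β ∈ B, ∃ x, β x * x⁻¹ ∉ tee M := by
    by_contra hcon
    push Not at hcon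
    apply hT
    rw [eq_top_iff, ← hgen, Subgroup.closure_le]
    rintro _ ⟨β, hβ, x, rfl⟩
    exact hcon β hβ x
  have hx' : x ∈ om p R ⊔ tee M := by rw [hM.om_sup_tee h]; exact Subgroup.mem_top x
  obtain ⟨s, hs, t, ht, rfl⟩ := Subgroup.mem_sup_of_normal_right.mp hx'
  have hβs : β s * s⁻¹ ∉ tee M := by
    intro hcon
    apply hx
    have h1 : β (s * t) * (s * t)⁻¹ = (β s * s⁻¹) * (s * (β t * t⁻¹) * s⁻¹) := by
      rw [map_mul]; group
    rw [h1]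
    exact (tee M).mul_mem hcon (hM.tee_normal.conj_mem _
      ((tee M).mul_mem ((hβT β t).mp ht) ((tee M).inv_mem ht)) s)
  have heM : s ∉ M := by
    intro heM
    apply hβs
    exact hM.le_tee (M.mul_mem ((hinv β s).mp heM) (M.inv_mem heM))
  by_cases hall : ∀ t ∈ tee M, ⁅s, t⁆ ∈ zen p R
  · exact hne (hM.sup_of_comm_mem_zen h hs heM hall)
  · push Not at hall
    obtain ⟨r, hr, hre⟩ := hall
    have hβN : β ^ (Nat.card B) = 1 := by
      have := pow_card_eq_one' (G := B) (x := ⟨β, hβ⟩)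
      exact congrArg Subtype.val this
    exact hM.contra h hCc β (hinv β) (Nat.card B) hodd hβN hs hβs hr hre

end Cfsg.Agent.Lib.Helper24.RkTwo
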