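/- helper24: rank-two p-groups, part 5: abstract form of B&G 4.18(e). -/
import Mathlib
import Cfsg.Agent.Lib.Helper24.RkTwo4

set_option autoImplicit false
set_option linter.unusedSectionVars false
set_option linter.unusedVariables false
set_option linter.style.haveILetI false

open scoped commutatorElement

namespace Cfsg.Agent.Lib.Helper24.RkTwo

universe u

variable {R : Type u} [Group R] [Finite R] {p : ℕ} [Fact p.Prime]

open Cfsg.Agent.Lib.Helper1.MetaCoprime in
/-- **B&G 4.18(e), abstract form**: a `p`-group `R` of rank at most two (`p > 3`) with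
`R = [R, B]` for a `p'`-group `B` of automorphisms of odd order is abelian or the central product
of a nonabelian group of order `p ^ 3` and exponent `p` with a cyclic group. -/
theorem abstract_main (hp3 : 3 < p) (hR : IsPGroup p R) (hrk : Cfsg.PRankLE p 2 R)
    (B : Subgroup (MulAut R)) (hcop : (Nat.card B).Coprime p) (hodd : Odd (Nat.card B))
    (hgen : Subgroup.closure (genSet B) = ⊤) :
    (∀ a b : R, a * b = b * a) ∨ ∃ S C : Subgroup R, S ⊔ C = ⊤ ∧
      (∀ a ∈ S, ∀ b ∈ C, a * b = b * a) ∧ (¬ ∀ a ∈ S, ∀ b ∈ S, a * b = b * a) ∧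
      Nat.card S = p ^ 3 ∧ (∀ g ∈ S, g ^ p = 1) ∧ IsCyclic C ∧
      Subgroup.closure {x : R | x ∈ C ∧ x ^ p = 1} = ⁅S, S⁆ := by
  by_cases hab : ∀ a b : R, a * b = b * a
  · exact Or.inl hab
  · right
    obtain ⟨hcard, hna⟩ := om_cube hp3 hR hrk B hcop hgen hab
    have h : Cube p R := ⟨hp3, hR, om_exp hp3 hR hrk, hcard, hna⟩
    refine ⟨om p R, cen p R, h.om_sup_cen B hodd hgen, ?_, hna, hcard, h.hexp, h.cen_cyclic, ?_⟩
    · intro a ha b hb
      exact mem_cen.mp hb a ha
    · rw [h.closure_cen, h.commutator_om]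

end Cfsg.Agent.Lib.Helper24.RkTwo
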