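/- helper24: B&G Corollary 10.7 from p-length one of all proper subgroups, part 4: (b) structure of a Sylow p-subgroup of rank at most two (via S1448), Schur-Zassenhaus complement of P in N_G(P). -/
import Mathlib
import Cfsg.Agent.Lib.Helper24.BGTen3
import Cfsg.Agent.Lib.Helper26.OrderPCubeA
import Cfsg.Agent.S1448

set_option autoImplicit false
set_option linter.unusedSectionVars false
set_option linter.unusedVariables false
set_option linter.style.haveILetI false

open scoped commutatorElement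

namespace Cfsg.Agent.Lib.Helper24.BGTen

variable {G : Type*} [Group G] [Finite G] {p : ℕ} [Fact p.Prime]

/-- the derived subgroup of a nonabelian subgroup of order `p ^ 3` is its centre -/
theorem commutator_eq_center_of_cube (R : Subgroup G) (hcard : Nat.card R = p ^ 3)
    (hna : ¬ IsMulCommutative R) : ⁅R, R⁆ = R ⊓ Subgroup.centralizer (R : Set G) := by
  have hpp : p.Prime := Fact.out
  have hna' : ¬ ∀ a b : ↥R, a * b = b * a := fun hab => hna ⟨⟨hab⟩⟩
  have hZ := Cfsg.Agent.Lib.Helper26.card_center_of_cube (H := ↥R) (p := p) hcard hna'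
  have hcs := (Cfsg.Agent.Lib.Helper26.cube_structure (H := ↥R) (p := p) hcard hna').1
  have hmap : (Subgroup.center ↥R).map R.subtype = R ⊓ Subgroup.centralizer (R : Set G) := by
    ext x
    constructor
    · rintro ⟨y, hy, rfl⟩
      refine ⟨y.2, ?_⟩
      show _ ∈ Subgroup.centralizer _
      rw [Subgroup.mem_centralizer_iff]
      intro s hs
      have := Subgroup.mem_center_iff.mp hy ⟨s, hs⟩
      exact congrArg Subtype.val this
    · rintro ⟨hx1, hx2⟩
      refine ⟨⟨x, hx1⟩, ?_, rfl⟩
      show _ ∈ Subgroup.center _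
      rw [Subgroup.mem_center_iff]
      intro s
      apply Subtype.ext
      exact Subgroup.mem_centralizer_iff.mp hx2 s s.2
  have hcardZ : Nat.card (R ⊓ Subgroup.centralizer (R : Set G) : Subgroup G) = p := by
    rw [← hmap, Subgroup.card_map_of_injective (Subgroup.subtype_injective _)]; exact hZ
  have hle : ⁅R, R⁆ ≤ R ⊓ Subgroup.centralizer (R : Set G) := by
    rw [Subgroup.commutator_le]
    intro a ha b hb
    have := hcs ⟨a, ha⟩ ⟨b, hb⟩
    rw [← hmap]
    exact ⟨⁅(⟨a, ha⟩ : ↥R), (⟨b, hb⟩ : ↥R)⁆, this, rfl⟩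
  have hd : Nat.card (⁅R, R⁆ : Subgroup G) ∣ p := by
    rw [← hcardZ]; exact Subgroup.card_dvd_of_le hle
  rcases (Nat.dvd_prime hpp).mp hd with h1 | h1
  · exfalso
    apply hna'
    intro a b
    have h2 : (⁅R, R⁆ : Subgroup G) = ⊥ := Subgroup.card_eq_one.mp h1
    have : ⁅(a : G), (b : G)⁆ ∈ (⁅R, R⁆ : Subgroup G) := Subgroup.commutator_mem_commutator a.2 b.2
    rw [h2, Subgroup.mem_bot, commutatorElement_eq_one_iff_mul_comm] at this
    exact Subtype.ext this
  · exact Subgroup.eq_of_le_of_card_ge hle (by rw [h1, hcardZ])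

/-- existence of a complement of `P` in `N_G(P)` (Schur–Zassenhaus) -/
theorem exists_compl_normalizer (P : Sylow p G) :
    ∃ V : Subgroup G, Cfsg.IsComplIn (P : Subgroup G) V (Subgroup.normalizer ((P : Subgroup G) : Set G)) ∧
      (Nat.card V).Coprime p := by
  have hpp : p.Prime := Fact.out
  set N := Subgroup.normalizer ((P : Subgroup G) : Set G) with hN
  haveI hPn : ((P : Subgroup G).subgroupOf N).Normal := Subgroup.normal_in_normalizer
  have hcardP' : Nat.card ((P : Subgroup G).subgroupOf N) = Nat.card (P : Subgroup G) :=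
    Nat.card_congr (Subgroup.subgroupOfEquivOfLe Subgroup.le_normalizer).toEquiv
  have hidx : ¬ p ∣ ((P : Subgroup G).subgroupOf N).index := by
    show ¬ p ∣ (P : Subgroup G).relIndex N
    intro hdvd
    have h1 : (P : Subgroup G).relIndex N ∣ (P : Subgroup G).index :=
      Subgroup.relIndex_dvd_index_of_le Subgroup.le_normalizer
    exact P.not_dvd_index (dvd_trans hdvd h1)
  have hcop : Nat.Coprime (Nat.card ((P : Subgroup G).subgroupOf N))
      ((P : Subgroup G).subgroupOf N).index := by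
    rw [hcardP']
    obtain ⟨n, hn⟩ := IsPGroup.iff_card.mp P.2
    rw [hn]
    exact Nat.Coprime.pow_left n ((Nat.Prime.coprime_iff_not_dvd hpp).mpr hidx)
  obtain ⟨H, hH⟩ := Subgroup.exists_right_complement'_of_coprime hcop
  refine ⟨H.map N.subtype, ⟨Subgroup.le_normalizer, Subgroup.map_subtype_le _, ?_, ?_⟩, ?_⟩
  · rw [eq_bot_iff]
    rintro x ⟨hxP, ⟨y, hy, rfl⟩⟩
    have hyP : y ∈ (P : Subgroup G).subgroupOf N := by
      rw [Subgroup.mem_subgroupOf]; exact hxP
    have : y ∈ (P : Subgroup G).subgroupOf N ⊓ H := ⟨hyP, hy⟩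
    rw [hH.disjoint.eq_bot, Subgroup.mem_bot] at this
    rw [Subgroup.mem_bot, this]; rfl
  · intro m hm
    obtain ⟨⟨a, b⟩, hab, _⟩ := (Subgroup.isComplement'_def.mp hH).existsUnique ⟨m, hm⟩
    refine ⟨(a : ↥N), ?_, (b : ↥N), ⟨b, b.2, rfl⟩, ?_⟩
    · have := a.2
      exact Subgroup.mem_subgroupOf.mp this
    · have := congrArg Subtype.val hab
      simpa using this.symm
  · rw [Subgroup.card_map_of_injective N.subtype_injective]
    have h1 := hH.card_mul_card
    have h2 := ((P : Subgroup G).subgroupOf N).card_mul_index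
    have h3 : Nat.card H = ((P : Subgroup G).subgroupOf N).index := by
      have hpos : 0 < Nat.card ((P : Subgroup G).subgroupOf N) := Nat.card_pos
      have : Nat.card ((P : Subgroup G).subgroupOf N) * Nat.card H =
          Nat.card ((P : Subgroup G).subgroupOf N) * ((P : Subgroup G).subgroupOf N).index := by
        rw [h1, h2]
      exact Nat.eq_of_mul_eq_mul_left hpos this
    rw [h3]
    exact (Nat.Prime.coprime_iff_not_dvd hpp).mpr hidx |>.symm

/-- B&G 10.7(b): the structure of a Sylow `p`-subgroup of rank at most two -/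
theorem sylow_rank_two (h : Hyp p G) (hodd : Odd (Nat.card G)) (P : Sylow p G)
    (hr : Cfsg.PRankLE p 2 (P : Subgroup G)) :
    IsMulCommutative (P : Subgroup G) ∨ ∃ P₁ P₂ : Subgroup G, P₁ ⊔ P₂ = (P : Subgroup G) ∧
      (∀ a ∈ P₁, ∀ b ∈ P₂, a * b = b * a) ∧
        ¬ IsMulCommutative P₁ ∧ Nat.card P₁ = p ^ 3 ∧ Monoid.exponent P₁ = p ∧ IsCyclic P₂ ∧
        Subgroup.closure {x : G | x ∈ P₂ ∧ x ^ p = 1} = P₁ ⊓ Subgroup.centralizer (P₁ : Set G) := by
  have hpp : p.Prime := Fact.out
  by_cases hP1 : (P : Subgroup G) = ⊥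
  · left
    refine ⟨⟨fun a b => ?_⟩⟩
    have hall : ∀ c : ↥(P : Subgroup G), (c : G) = 1 := by
      intro c
      have h1 : (c : G) ∈ (P : Subgroup G) := c.2
      have h2 : (c : G) ∈ (⊥ : Subgroup G) := hP1 ▸ h1
      exact Subgroup.mem_bot.mp h2
    have ha := hall a
    have hb := hall b
    apply Subtype.ext
    simp [ha, hb]
  · have hp2 : p ≠ 2 := by
      rintro rfl
      have h1 : 2 ∣ Nat.card (P : Subgroup G) := by
        obtain ⟨n, hn⟩ := IsPGroup.iff_card.mp P.2
        rw [hn]
        apply dvd_pow_self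
        rintro rfl
        rw [pow_zero] at hn
        exact hP1 (Subgroup.card_eq_one.mp hn)
      have h2 : 2 ∣ Nat.card G := dvd_trans h1 (Subgroup.card_subgroup_dvd_card _)
      exact (Nat.not_even_iff_odd.mpr hodd) (even_iff_two_dvd.mpr h2)
    obtain ⟨V, hV, hVcop⟩ := exists_compl_normalizer P
    have hVodd : Odd (Nat.card V) := hodd.of_dvd_nat (Subgroup.card_subgroup_dvd_card V)
    have hPV := sylow_eq_commutator_compl h P V hV
    obtain ⟨_, hres⟩ := Cfsg.Agent.S1448.result p hp2 (P : Subgroup G) V P.2 hP1 hr hV.2.1 hVcop hVodd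
      hPV.symm
    rcases hres with hab | ⟨P₁, P₂, h1, h2, h3, h4, h5, h6, h7⟩
    · exact Or.inl hab
    · right
      refine ⟨P₁, P₂, h1, h2, h3, h4, h5, h6, ?_⟩
      rw [h7]
      exact commutator_eq_center_of_cube P₁ h4 h3

end Cfsg.Agent.Lib.Helper24.BGTen
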