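/- helper24: BG 11.5 (Block B), part 2: S1412 case (rank <= 2 Sylow): C_P(A) abelian for maximal elementary abelian A. -/
import Mathlib
import Cfsg.Prelude.Def_OddOrderLocal
import Cfsg.Agent.S1412
import Cfsg.Agent.Lib.Helper8.SupNormalizer
import Cfsg.Agent.Lib.Helper24.BGBeta1
import Cfsg.Agent.Lib.Helper24.BGExB1

set_option autoImplicit false

namespace Cfsg.Agent.Lib.Helper24.BGExB

open Subgroup Cfsg.Agent.Lib.Helper24.BGBeta

/-- An element of order dividing `p` commuting with a maximal elementary abelian `p`-subgroup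
lies in it. -/
theorem mem_of_maximal_elemAb {G : Type*} [Group G] {p : ℕ} {A : Subgroup G}
    (hA : Cfsg.IsElementaryAbelian p A)
    (hmax : ∀ B : Subgroup G, Cfsg.IsElementaryAbelian p B → A ≤ B → B = A)
    {a : G} (hap : a ^ p = 1) (haC : a ∈ centralizer (A : Set G)) : a ∈ A := by
  have hAc := comm_of_elemAb hA
  have hB : Cfsg.IsElementaryAbelian p (closure ((A : Set G) ∪ {a})) := by
    apply elemAb_closure
    · rintro x (hx | hx) y (hy | hy)
      · exact hAc x hx y hy
      · rw [Set.mem_singleton_iff] at hy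
        rw [hy]
        exact (mem_centralizer_iff.mp haC x hx)
      · rw [Set.mem_singleton_iff] at hx
        rw [hx]
        exact (mem_centralizer_iff.mp haC y hy).symm
      · rw [Set.mem_singleton_iff] at hx hy
        rw [hx, hy]
    · rintro x (hx | hx)
      · exact hA.2 x hx
      · rw [Set.mem_singleton_iff] at hx
        rw [hx]
        exact hap
  have hle : A ≤ closure ((A : Set G) ∪ {a}) := fun y hy => subset_closure (Or.inl hy)
  have := hmax _ hB hle
  rw [← this]
  exact subset_closure (Or.inr rfl)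

/-- **S1412 case**: if a Sylow `p`-subgroup `P` of the minimal simple group has rank at most `2`
then `C_P(A)` is abelian for every maximal elementary abelian `A ≤ P`. -/
theorem comm_centralizer_of_rank_two {G : Type*} [Group G] [Finite G]
    (hG : Cfsg.IsMinSimpleOddOrder G) (p : ℕ) [Fact p.Prime] (P : Sylow p G)
    (hr : Cfsg.PRankLE p 2 (P : Subgroup G)) (A : Subgroup G) (hAP : A ≤ P)
    (hA : Cfsg.IsElementaryAbelian p A)
    (hmax : ∀ B : Subgroup G, Cfsg.IsElementaryAbelian p B → A ≤ B → B = A) :
    ∀ c ∈ (P : Subgroup G) ⊓ centralizer (A : Set G),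
      ∀ d ∈ (P : Subgroup G) ⊓ centralizer (A : Set G), c * d = d * c := by
  have hAc := comm_of_elemAb hA
  rcases Cfsg.Agent.S1412.result hG p P hr with hab | ⟨P₁, P₂, hsup, hcomm, -, -, hexp, hcyc, hcl⟩
  · intro c hc d hd
    have := hab.is_comm.comm ⟨c, hc.1⟩ ⟨d, hd.1⟩
    exact congrArg Subtype.val this
  · have hn : P₂ ≤ normalizer (P₁ : Set G) := by
      intro b hb
      rw [mem_normalizer_iff]
      intro a
      constructor
      · intro ha
        have : b * a * b⁻¹ = a := by
          rw [← hcomm a ha b hb]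
          group
        rw [this]
        exact ha
      · intro ha
        have h1 := hcomm _ ha b hb
        -- (b a b⁻¹) b = b (b a b⁻¹)  ⇒ a = b a b⁻¹
        have : a = b * a * b⁻¹ := by
          have h2 : b * a * b⁻¹ * b = b * a := by group
          rw [h2] at h1
          have h3 : a = b * a * b⁻¹ := mul_left_cancel h1
          exact h3
        rw [this]
        exact ha
    have hmem : ∀ y ∈ (P : Subgroup G), ∃ a ∈ P₁, ∃ b ∈ P₂, y = a * b := by
      intro y hy
      rw [← hsup] at hy
      exact Cfsg.Agent.Lib.Helper8.mem_sup_of_le_normalizer hn hy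
    have hP₁exp : ∀ a ∈ P₁, a ^ p = 1 := by
      intro a ha
      have := Monoid.pow_exponent_eq_one (⟨a, ha⟩ : P₁)
      rw [hexp] at this
      have := congrArg (fun w : P₁ => (w : G)) this
      simpa using this
    have hΩ : ∀ b ∈ P₂, b ^ p = 1 → b ∈ P₁ := by
      intro b hb hbp
      have : b ∈ closure {x : G | x ∈ P₂ ∧ x ^ p = 1} := subset_closure ⟨hb, hbp⟩
      rw [hcl] at this
      exact this.1
    have hAP₁ : A ≤ P₁ := by
      intro y hy
      obtain ⟨a, ha, b, hb, rfl⟩ := hmem y (hAP hy)
      have hc : Commute a b := hcomm a ha b hb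
      have h1 := hA.2 _ hy
      rw [hc.mul_pow, hP₁exp a ha, one_mul] at h1
      exact P₁.mul_mem ha (hΩ b hb h1)
    have hP₂C : ∀ b ∈ P₂, b ∈ centralizer (A : Set G) := by
      intro b hb
      rw [mem_centralizer_iff]
      intro a ha
      exact hcomm a (hAP₁ ha) b hb
    have hdec : ∀ c ∈ (P : Subgroup G) ⊓ centralizer (A : Set G),
        ∃ a ∈ A, ∃ b ∈ P₂, c = a * b := by
      intro c hc
      obtain ⟨a, ha, b, hb, rfl⟩ := hmem c hc.1
      refine ⟨a, ?_, b, hb, rfl⟩
      apply mem_of_maximal_elemAb hA hmax (hP₁exp a ha)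
      have : a = (a * b) * b⁻¹ := by group
      rw [this]
      exact (centralizer (A : Set G)).mul_mem hc.2 ((centralizer (A : Set G)).inv_mem (hP₂C b hb))
    have hP₂comm : ∀ b ∈ P₂, ∀ b' ∈ P₂, b * b' = b' * b := by
      intro b hb b' hb'
      have := comm_of_isCyclic (⟨b, hb⟩ : P₂) ⟨b', hb'⟩
      exact congrArg Subtype.val this
    intro c hc d hd
    obtain ⟨a, ha, b, hb, rfl⟩ := hdec c hc
    obtain ⟨a', ha', b', hb', rfl⟩ := hdec d hd
    have h1 : b * a' = a' * b := (hcomm a' (hAP₁ ha') b hb).symm
    have h2 : b' * a = a * b' := (hcomm a (hAP₁ ha) b' hb').symm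
    have h3 := hAc a ha a' ha'
    have h4 := hP₂comm b hb b' hb'
    calc a * b * (a' * b') = a * (b * a') * b' := by group
      _ = a * (a' * b) * b' := by rw [h1]
      _ = (a * a') * (b * b') := by group
      _ = (a' * a) * (b' * b) := by rw [h3, h4]
      _ = a' * (a * b') * b := by group
      _ = a' * (b' * a) * b := by rw [h2]
      _ = a' * b' * (a * b) := by group

end Cfsg.Agent.Lib.Helper24.BGExB
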