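/- helper24: BG 3.6 abelian-K branch, part B (conjugates of subgroups / averaging endomorphisms / general lemmas). -/
import Mathlib

set_option autoImplicit false
open scoped commutatorElement

namespace Cfsg.Agent.Lib.Helper24.BG36Ab

open Subgroup

section Avg
open scoped IsMulCommutative

variable {G : Type*} [Group G] [Finite G] (V : Subgroup G) [IsMulCommutative V]

/-- conjugation by an element of `N(V)` as an endomorphism of `V` -/
noncomputable def conjHom (g : normalizer (V : Set G)) : ↥V →* ↥V :=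
  MulDistribMulAction.toMonoidHom V g

theorem conjHom_coe (g : normalizer (V : Set G)) (v : V) :
    ((conjHom V g v : V) : G) = g * v * (g : G)⁻¹ := rfl

/-- the product of the conjugates of `v` under a subgroup `B` of `N(V)`, as an endomorphism -/
noncomputable def avg (B : Subgroup G) (hB : B ≤ normalizer (V : Set G)) : ↥V →* ↥V :=
  letI : Fintype B := Fintype.ofFinite B
  ∏ b : B, conjHom V ⟨b, hB b.2⟩

theorem avg_apply (B : Subgroup G) (hB : B ≤ normalizer (V : Set G)) (v : V) :
    avg V B hB v =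
      letI : Fintype B := Fintype.ofFinite B
      ∏ b : B, conjHom V ⟨b, hB b.2⟩ v := by
  unfold avg
  exact MonoidHom.finsetProd_apply _ _ _

theorem conjHom_avg (B : Subgroup G) (hB : B ≤ normalizer (V : Set G)) (c : B) (v : V) :
    conjHom V ⟨c, hB c.2⟩ (avg V B hB v) = avg V B hB v := by
  rw [avg_apply]
  letI : Fintype B := Fintype.ofFinite B
  show conjHom V ⟨c, hB c.2⟩ (∏ b : B, conjHom V ⟨b, hB b.2⟩ v) = ∏ b : B, conjHom V ⟨b, hB b.2⟩ v
  rw [map_prod]
  apply Fintype.prod_equiv (Equiv.mulLeft c)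
  intro b
  apply Subtype.ext
  rw [conjHom_coe, conjHom_coe, conjHom_coe]
  simp [mul_assoc]

theorem avg_of_fixed (B : Subgroup G) (hB : B ≤ normalizer (V : Set G)) (v : V)
    (hv : ∀ b ∈ B, b * (v : G) * b⁻¹ = v) : avg V B hB v = v ^ Nat.card B := by
  rw [avg_apply]
  letI : Fintype B := Fintype.ofFinite B
  show (∏ b : B, conjHom V ⟨b, hB b.2⟩ v) = v ^ Nat.card B
  have : ∀ b : B, conjHom V ⟨b, hB b.2⟩ v = v := by
    intro b
    apply Subtype.ext
    rw [conjHom_coe]
    exact hv b b.2
  rw [Finset.prod_congr rfl (fun b _ => this b), Finset.prod_const, Finset.card_univ,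
    Nat.card_eq_fintype_card]

theorem conjHom_avg_of_commute (B : Subgroup G) (hB : B ≤ normalizer (V : Set G))
    (g : normalizer (V : Set G)) (hg : ∀ b ∈ B, (g : G) * b = b * g) (v : V)
    (hv : conjHom V g v = v) : conjHom V g (avg V B hB v) = avg V B hB v := by
  rw [avg_apply]
  letI : Fintype B := Fintype.ofFinite B
  show conjHom V g (∏ b : B, conjHom V ⟨b, hB b.2⟩ v) = ∏ b : B, conjHom V ⟨b, hB b.2⟩ v
  rw [map_prod]
  apply Finset.prod_congr rfl
  intro b _
  have h1 : conjHom V g (conjHom V ⟨b, hB b.2⟩ v) = conjHom V ⟨b, hB b.2⟩ (conjHom V g v) := by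
    apply Subtype.ext
    rw [conjHom_coe, conjHom_coe, conjHom_coe, conjHom_coe]
    have := hg b b.2
    show (g : G) * ((b : G) * v * (b : G)⁻¹) * (g : G)⁻¹ = (b : G) * ((g : G) * v * (g : G)⁻¹) * (b : G)⁻¹
    have h2 : (g : G)⁻¹ * (b : G)⁻¹ = (b : G)⁻¹ * (g : G)⁻¹ := by
      rw [← mul_inv_rev, ← mul_inv_rev, this]
    calc (g : G) * ((b : G) * v * (b : G)⁻¹) * (g : G)⁻¹
        = ((g : G) * b) * v * ((b : G)⁻¹ * (g : G)⁻¹) := by group
      _ = ((b : G) * g) * v * ((g : G)⁻¹ * (b : G)⁻¹) := by rw [this, h2]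
      _ = _ := by group
  rw [h1, hv]

/-- `G`-level: the average is centralized by `B`. -/
theorem avg_mem_centralizer (B : Subgroup G) (hB : B ≤ normalizer (V : Set G)) (v : V) :
    ((avg V B hB v : V) : G) ∈ centralizer (B : Set G) := by
  rw [mem_centralizer_iff]
  intro b hb
  have := congrArg (fun w : V => (w : G)) (conjHom_avg V B hB ⟨b, hb⟩ v)
  simp only [conjHom_coe] at this
  -- b * w * b⁻¹ = w
  calc b * ((avg V B hB v : V) : G) = (b * ((avg V B hB v : V) : G) * b⁻¹) * b := by group
    _ = _ := by rw [this]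

/-- `G`-level: if `g ∈ N(V)` commutes with `B` elementwise and centralizes `v`, then it
centralizes the average. -/
theorem avg_commute (B : Subgroup G) (hB : B ≤ normalizer (V : Set G))
    (g : G) (hgV : g ∈ normalizer (V : Set G)) (hg : ∀ b ∈ B, g * b = b * g) (v : V)
    (hv : g * (v : G) = v * g) :
    g * ((avg V B hB v : V) : G) = ((avg V B hB v : V) : G) * g := by
  have h1 : conjHom V ⟨g, hgV⟩ v = v := by
    apply Subtype.ext
    rw [conjHom_coe]
    show g * (v : G) * g⁻¹ = v
    rw [hv]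
    group
  have := congrArg (fun w : V => (w : G)) (conjHom_avg_of_commute V B hB ⟨g, hgV⟩ hg v h1)
  simp only [conjHom_coe] at this
  calc g * ((avg V B hB v : V) : G) = (g * ((avg V B hB v : V) : G) * g⁻¹) * g := by group
    _ = _ := by rw [this]

/-- The "kill" lemma: if `Y0 ⊔ Y = K`, `K` abelian normalizing `V`, `C_V(K) = 1`, and `Y`
centralizes `v`, then the `Y0`-average of `v` is trivial. -/
theorem avg_eq_one (K Y0 Y : Subgroup G) (hKab : ∀ x ∈ K, ∀ y ∈ K, x * y = y * x)
    (hKV : K ≤ normalizer (V : Set G)) (hY0 : Y0 ≤ K) (hY : Y ≤ K) (hsup : K ≤ Y0 ⊔ Y)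
    (hVK : V ⊓ centralizer (K : Set G) = ⊥) (v : V)
    (hv : (v : G) ∈ centralizer (Y : Set G)) :
    avg V Y0 (hY0.trans hKV) v = 1 := by
  set w := avg V Y0 (hY0.trans hKV) v with hw
  have h1 : (w : G) ∈ centralizer (Y0 : Set G) := avg_mem_centralizer V Y0 _ v
  have h2 : (w : G) ∈ centralizer (Y : Set G) := by
    rw [mem_centralizer_iff]
    intro y hy
    apply avg_commute V Y0 _ y (hKV (hY hy))
    · intro b hb
      exact hKab y (hY hy) b (hY0 hb)
    · exact mem_centralizer_iff.mp hv y hy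
  have h3 : (w : G) ∈ centralizer (K : Set G) := by
    have hle : Y0 ⊔ Y ≤ centralizer ({(w : G)} : Set G) := by
      apply sup_le
      · intro y hy
        rw [mem_centralizer_iff]
        intro z hz
        rw [Set.mem_singleton_iff] at hz
        rw [hz]
        exact (mem_centralizer_iff.mp h1 y hy).symm
      · intro y hy
        rw [mem_centralizer_iff]
        intro z hz
        rw [Set.mem_singleton_iff] at hz
        rw [hz]
        exact (mem_centralizer_iff.mp h2 y hy).symm
    rw [mem_centralizer_iff]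
    intro k hk
    have := mem_centralizer_iff.mp (hle (hsup hk)) (w : G) rfl
    exact this.symm
  have h4 : (w : G) ∈ V ⊓ centralizer (K : Set G) := ⟨w.2, h3⟩
  rw [hVK, mem_bot] at h4
  exact Subtype.ext h4

end Avg

end Cfsg.Agent.Lib.Helper24.BG36Ab
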