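/- helper24: BG 11.5 (Block B), part 3: the transvection lemma. -/
import Mathlib
import Cfsg.Prelude.Def_OddOrderLocal
import Cfsg.Agent.Lib.Helper8.SupNormalizer
import Cfsg.Agent.Lib.Helper24.BGBeta1
import Cfsg.Agent.Lib.Helper24.BG36AbA
import Cfsg.Agent.Lib.Helper24.BG36AbB
import Cfsg.Agent.Lib.Helper24.BG36AbC
import Cfsg.Agent.Lib.Helper24.BGExB1

set_option autoImplicit false

namespace Cfsg.Agent.Lib.Helper24.BGExB

open Subgroup Cfsg.Agent.Lib.Helper24.BGBeta Cfsg.Agent.Lib.Helper24.BG36Ab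

open scoped IsMulCommutative in
/-- **Transvection lemma.**  `A` elementary abelian of order `p ^ 2`, `u` a `p`-element normalizing
but not centralizing `A` and centralizing the subgroup `Z0 ≤ A` of order `p`.  Then the conjugates
of a subgroup `A₀ ≠ Z0` of order `p` of `A` under powers of `u` cover `A ∖ Z0`. -/
theorem exists_conj_of_transvection {G : Type*} [Group G] [Finite G] (p : ℕ) [Fact p.Prime]
    (A Z0 A₀ : Subgroup G) (hA : Cfsg.IsElementaryAbelian p A) (hA2 : Nat.card A = p ^ 2)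
    (hZA : Z0 ≤ A) (hZ : Nat.card Z0 = p) (hA₀A : A₀ ≤ A) (hA₀ : Nat.card A₀ = p)
    (hne : Z0 ≠ A₀) (u : G) (huA : u ∈ normalizer (A : Set G))
    (huC : u ∉ centralizer (A : Set G)) (huZ : u ∈ centralizer (Z0 : Set G))
    (hup : ∃ k : ℕ, u ^ p ^ k = 1) :
    ∀ b ∈ A, b ∉ Z0 → ∃ i : ℕ, ∃ a' ∈ A₀, a' ≠ 1 ∧ b = u ^ i * a' * (u ^ i)⁻¹ := by
  classical
  have hpp : p.Prime := Fact.out
  haveI : IsMulCommutative ↥A := hA.1
  have hAc := comm_of_elemAb hA
  have hZprime : (Nat.card Z0).Prime := hZ ▸ hpp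
  have hA₀prime : (Nat.card A₀).Prime := hA₀ ▸ hpp
  -- the commutator homomorphism
  let τ : ↥A →* ↥A := conjHom A ⟨u, huA⟩ / MonoidHom.id ↥A
  have hτ : ∀ b : A, ((τ b : A) : G) = u * b * u⁻¹ * (b : G)⁻¹ := by
    intro b
    show (((conjHom A ⟨u, huA⟩ b) / b : A) : G) = _
    rw [Subgroup.coe_div, conjHom_coe, div_eq_mul_inv]
  have hker : ∀ b : A, b ∈ τ.ker ↔ u * (b : G) = b * u := by
    intro b
    rw [MonoidHom.mem_ker]
    constructor
    · intro h
      have := congrArg (fun w : A => (w : G)) h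
      simp only [hτ] at this
      have h2 : u * (b : G) * u⁻¹ = b := by
        have := mul_inv_eq_one.mp this
        exact this
      calc u * (b : G) = (u * b * u⁻¹) * u := by group
        _ = b * u := by rw [h2]
    · intro h
      apply Subtype.ext
      rw [hτ, h]
      simp
  -- the kernel is `Z0`
  have hZker : Z0.subgroupOf A ≤ τ.ker := by
    intro b hb
    rw [mem_subgroupOf] at hb
    rw [hker]
    exact (mem_centralizer_iff.mp huZ b hb).symm
  have hkerne : τ.ker ≠ ⊤ := by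
    intro h
    apply huC
    rw [mem_centralizer_iff]
    intro b hb
    have : (⟨b, hb⟩ : A) ∈ τ.ker := by rw [h]; trivial
    exact ((hker _).mp this).symm
  have hcardZ' : Nat.card (Z0.subgroupOf A) = p := by
    rw [Cfsg.Agent.Lib.Helper1.card_subgroupOf_of_le hZA, hZ]
  have hcardtop : Nat.card (⊤ : Subgroup ↥A) = p ^ 2 := by
    rw [Subgroup.card_top, hA2]
  have hkercard : Nat.card τ.ker = p := by
    have h1 : Nat.card τ.ker ≤ p :=
      card_le_of_lt_of_card_sq hpp hcardtop le_top hkerne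
    have h2 : p ≤ Nat.card τ.ker := by
      rw [← hcardZ']
      exact Nat.le_of_dvd Nat.card_pos (Subgroup.card_dvd_of_le hZker)
    omega
  have hkerZ : τ.ker = Z0.subgroupOf A :=
    (Subgroup.eq_of_le_of_card_ge hZker (by rw [hkercard, hcardZ'])).symm
  have hrangecard : Nat.card τ.range = p := by
    have h1 := Subgroup.card_mul_index τ.ker
    rw [Subgroup.index_ker, hkercard, hA2, pow_two] at h1
    exact Nat.eq_of_mul_eq_mul_left hpp.pos h1
  -- the image is normalized, hence centralized, by `u`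
  set I' : Subgroup G := τ.range.map A.subtype with hI'
  have hI'card : Nat.card I' = p := by
    rw [hI', Subgroup.card_map_of_injective A.subtype_injective, hrangecard]
  have hI'mem : ∀ w, w ∈ I' ↔ ∃ b : A, u * (b : G) * u⁻¹ * (b : G)⁻¹ = w := by
    intro w
    constructor
    · rintro ⟨y, ⟨b, rfl⟩, rfl⟩
      exact ⟨b, (hτ b).symm⟩
    · rintro ⟨b, rfl⟩
      exact ⟨τ b, ⟨b, rfl⟩, hτ b⟩
  have hconjA : ∀ (n : G), n ∈ zpowers u → ∀ b ∈ A, n * b * n⁻¹ ∈ A := by
    intro n hn b hb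
    have hnA : n ∈ normalizer (A : Set G) := (zpowers_le (H := normalizer (A : Set G))).mpr huA hn
    exact ((mem_normalizer_iff.mp hnA) b).mp hb
  have hUI' : zpowers u ≤ normalizer (I' : Set G) := by
    apply le_normalizer_of_conj_mem
    intro n hn w hw
    obtain ⟨b, rfl⟩ := (hI'mem w).mp hw
    rw [hI'mem]
    refine ⟨⟨n * b * n⁻¹, hconjA n hn b b.2⟩, ?_⟩
    have hcomm : n * u = u * n := by
      obtain ⟨k, rfl⟩ := mem_zpowers_iff.mp hn
      exact ((Commute.refl u).zpow_left k).eq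
    show u * (n * (b : G) * n⁻¹) * u⁻¹ * (n * (b : G) * n⁻¹)⁻¹ = n * (u * (b : G) * u⁻¹ * (b : G)⁻¹) * n⁻¹
    have hcomm' : u⁻¹ * n = n * u⁻¹ := by
      calc u⁻¹ * n = u⁻¹ * (n * u) * u⁻¹ := by group
        _ = u⁻¹ * (u * n) * u⁻¹ := by rw [hcomm]
        _ = n * u⁻¹ := by group
    calc u * (n * (b : G) * n⁻¹) * u⁻¹ * (n * (b : G) * n⁻¹)⁻¹
        = (u * n) * (b : G) * n⁻¹ * (u⁻¹ * n) * (b : G)⁻¹ * n⁻¹ := by group
      _ = (n * u) * (b : G) * n⁻¹ * (n * u⁻¹) * (b : G)⁻¹ * n⁻¹ := by rw [hcomm, hcomm']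
      _ = n * (u * (b : G) * u⁻¹ * (b : G)⁻¹) * n⁻¹ := by group
  have hUp : IsPGroup p ↥(zpowers u) := by
    obtain ⟨k, hk⟩ := hup
    obtain ⟨j, -, hj⟩ := (Nat.dvd_prime_pow hpp).mp (orderOf_dvd_of_pow_eq_one hk)
    exact IsPGroup.of_card (n := j) (by rw [Nat.card_zpowers, hj])
  have hUcent := le_centralizer_of_card_eq_prime hUp hI'card hUI'
  have hτZ : ∀ b : A, u * (b : G) * u⁻¹ * (b : G)⁻¹ ∈ Z0 := by
    intro b
    have hw : u * (b : G) * u⁻¹ * (b : G)⁻¹ ∈ I' := (hI'mem _).mpr ⟨b, rfl⟩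
    have hcu := mem_centralizer_iff.mp (hUcent (mem_zpowers u)) _ hw
    -- so `τ b ∈ ker τ = Z0`
    have hmemA : u * (b : G) * u⁻¹ * (b : G)⁻¹ ∈ A := by
      rw [← hτ b]
      exact (τ b).2
    have : (⟨_, hmemA⟩ : A) ∈ τ.ker := by
      rw [hker]
      exact hcu.symm
    rw [hkerZ, mem_subgroupOf] at this
    exact this
  -- `A = Z0 A₀`
  have hinf : Z0 ⊓ A₀ = ⊥ := by
    rcases eq_bot_or_eq_of_prime_card hZprime (inf_le_left : Z0 ⊓ A₀ ≤ Z0) with h | h
    · exact h
    · exfalso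
      apply hne
      have hle : Z0 ≤ A₀ := by rw [← h]; exact inf_le_right
      exact Subgroup.eq_of_le_of_card_ge hle (by rw [hZ, hA₀])
  have hsup : Z0 ⊔ A₀ = A := by
    by_contra hcon
    have h1 : Nat.card ↥(Z0 ⊔ A₀) ≤ p :=
      card_le_of_lt_of_card_sq hpp hA2 (sup_le hZA hA₀A) hcon
    have h2 : Z0 = Z0 ⊔ A₀ := Subgroup.eq_of_le_of_card_ge le_sup_left (by rw [hZ]; exact h1)
    have hle : A₀ ≤ Z0 := by rw [h2]; exact le_sup_right
    apply hne
    exact (Subgroup.eq_of_le_of_card_ge hle (by rw [hZ, hA₀])).symm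
  intro b hb hbZ
  have hn : A₀ ≤ normalizer (Z0 : Set G) := by
    apply le_normalizer_of_conj_mem
    intro a ha w hw
    have : a * w * a⁻¹ = w := by
      rw [hAc a (hA₀A ha) w (hZA hw)]
      group
    rw [this]
    exact hw
  obtain ⟨w, hw, a', ha', rfl⟩ :=
    Cfsg.Agent.Lib.Helper8.mem_sup_of_le_normalizer hn (hsup ▸ hb : b ∈ Z0 ⊔ A₀)
  have ha'1 : a' ≠ 1 := by
    intro h
    apply hbZ
    rw [h, mul_one]
    exact hw
  have ha'Z : a' ∉ Z0 := by
    intro h
    have : a' ∈ Z0 ⊓ A₀ := ⟨h, ha'⟩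
    rw [hinf, mem_bot] at this
    exact ha'1 this
  set z' : G := u * a' * u⁻¹ * a'⁻¹ with hz'
  have hz'Z : z' ∈ Z0 := hτZ ⟨a', hA₀A ha'⟩
  have hz'1 : z' ≠ 1 := by
    intro h
    apply ha'Z
    have : (⟨a', hA₀A ha'⟩ : A) ∈ τ.ker := by
      rw [hker]
      show u * a' = a' * u
      have h2 : u * a' * u⁻¹ = a' := mul_inv_eq_one.mp h
      calc u * a' = (u * a' * u⁻¹) * u := by group
        _ = a' * u := by rw [h2]
    rw [hkerZ, mem_subgroupOf] at this
    exact this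
  have hzp : zpowers z' = Z0 := by
    rcases eq_bot_or_eq_of_prime_card hZprime ((zpowers_le (H := Z0)).mpr hz'Z) with h | h
    · exfalso
      apply hz'1
      have : z' ∈ zpowers z' := mem_zpowers z'
      rw [h, mem_bot] at this
      exact this
    · exact h
  have hwpow : ∃ i : ℕ, z' ^ i = w := by
    have : w ∈ zpowers z' := by rw [hzp]; exact hw
    rw [← mem_powers_iff_mem_zpowers] at this
    exact (Submonoid.mem_powers_iff _ _).mp this
  obtain ⟨i, rfl⟩ := hwpow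
  have huz : u * z' = z' * u := (mem_centralizer_iff.mp huZ z' hz'Z).symm
  have hconj : ∀ j : ℕ, u ^ j * a' * (u ^ j)⁻¹ = z' ^ j * a' := by
    intro j
    induction j with
    | zero => simp
    | succ j ih =>
      have hc : Commute u (z' ^ j) := (show Commute u z' from huz).pow_right j
      have hua : u * a' * u⁻¹ = z' * a' := by
        rw [hz']
        group
      calc u ^ (j + 1) * a' * (u ^ (j + 1))⁻¹
          = u * (u ^ j * a' * (u ^ j)⁻¹) * u⁻¹ := by
            rw [pow_succ']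
            group
        _ = u * (z' ^ j * a') * u⁻¹ := by rw [ih]
        _ = (u * z' ^ j) * a' * u⁻¹ := by group
        _ = (z' ^ j * u) * a' * u⁻¹ := by rw [hc.eq]
        _ = z' ^ j * (u * a' * u⁻¹) := by group
        _ = z' ^ j * (z' * a') := by rw [hua]
        _ = z' ^ (j + 1) * a' := by rw [pow_succ]; group
  exact ⟨i, a', ha', ha'1, (hconj i).symm⟩

end Cfsg.Agent.Lib.Helper24.BGExB
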