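/- helper24: BG Lemma 11.5 (Block B of notes/bg11/PLAN.md): sylow_comm, Sylow p-subgroups of an exceptional maximal subgroup are abelian. -/
import Mathlib
import Cfsg.Prelude.Def_OddOrderLocal
import Cfsg.Agent.S0058
import Cfsg.Agent.Lib.Helper8.BGEx0
import Cfsg.Agent.Lib.Helper8.Factorization
import Cfsg.Agent.Lib.Helper12.Cores
import Cfsg.Agent.Lib.Helper1.Coprime
import Cfsg.Agent.Lib.Helper24.BGBeta1
import Cfsg.Agent.Lib.Helper24.BG36AbA
import Cfsg.Agent.Lib.Helper24.BG36AbC
import Cfsg.Agent.Lib.Helper24.BGExB1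
import Cfsg.Agent.Lib.Helper24.BGExB2
import Cfsg.Agent.Lib.Helper24.BGExB3

set_option autoImplicit false

namespace Cfsg.Agent.Lib.Helper24.BGExB

open Subgroup Cfsg.Agent.Lib.Helper24.BGBeta Cfsg.Agent.Lib.Helper24.BG36Ab
open Cfsg.Agent.Lib.Helper8.BGEx (Exc)

/-- In a subgroup of prime order, the centralizer of a nonidentity element is the centralizer
of the subgroup. -/
theorem centralizer_singleton_eq_centralizer_of_prime {G : Type*} [Group G] [Finite G]
    {A : Subgroup G} (hA : (Nat.card A).Prime) {a : G} (ha : a ∈ A) (ha1 : a ≠ 1) :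
    centralizer ({a} : Set G) = centralizer (A : Set G) := by
  have hz : zpowers a = A := by
    rcases eq_bot_or_eq_of_prime_card hA ((zpowers_le (H := A)).mpr ha) with h | h
    · exfalso
      apply ha1
      have : a ∈ zpowers a := mem_zpowers a
      rw [h, mem_bot] at this
      exact this
    · exact h
  apply le_antisymm
  · intro x hx
    rw [mem_centralizer_iff] at hx ⊢
    intro b hb
    rw [SetLike.mem_coe, ← hz] at hb
    obtain ⟨k, rfl⟩ := mem_zpowers_iff.mp hb
    have hc : Commute a x := hx a rfl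
    exact (hc.zpow_left k).eq
  · apply centralizer_le
    intro b hb
    rw [Set.mem_singleton_iff] at hb
    rw [hb]
    exact ha

theorem sigmaCore_le_normalizer {G : Type*} [Group G] (M : Subgroup G) :
    M ≤ normalizer (Cfsg.sigmaCore M : Set G) := by
  apply le_normalizer_of_conj_mem
  intro m hm y hy
  obtain ⟨y', hy', rfl⟩ := hy
  exact ⟨⟨m, hm⟩ * y' * ⟨m, hm⟩⁻¹,
    (Cfsg.piCore_normal (Cfsg.sigma M) ↥M).conj_mem y' hy' ⟨m, hm⟩, rfl⟩

theorem not_dvd_card_sigmaCore {G : Type*} [Group G] [Finite G] (M : Subgroup G) {p : ℕ}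
    (hp : p.Prime) (hps : p ∉ Cfsg.sigma M) : ¬ p ∣ Nat.card (Cfsg.sigmaCore M) := by
  intro h
  have hc : Nat.card (Cfsg.sigmaCore M) = Nat.card (Cfsg.piCore (Cfsg.sigma M) ↥M) :=
    Subgroup.card_map_of_injective M.subtype_injective
  rw [hc] at h
  exact hps (Cfsg.Agent.Lib.Helper12.piCore_mem _ p hp h)

set_option maxHeartbeats 1600000 in
/-- **B&G Lemma 11.5**: the Sylow `p`-subgroups of an exceptional maximal subgroup are abelian.
(`hmax`, `hcent`, `hne`, `h112`, `hfix` are the earlier facts of section 11, as hypotheses.) -/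
theorem sylow_comm {G : Type*} [Group G] [Finite G] (hG : Cfsg.IsMinSimpleOddOrder G)
    {M : Subgroup G} {p : ℕ} [Fact p.Prime] {A A₀ : Subgroup G}
    (h : Exc M p A A₀)
    (hmax : ∀ B : Subgroup G, Cfsg.IsElementaryAbelian p B → A ≤ B → B = A)
    (hcent : centralizer (A : Set G) ≤ M)
    (hne : Cfsg.sigmaCore M ≠ ⊥)
    (h112 : ∀ x : G, x ∉ M → A ≤ M.map (MulAut.conj x).toMonoidHom →
      Cfsg.sigmaCore M ⊓ centralizer ((A₀.map (MulAut.conj x).toMonoidHom : Subgroup G) : Set G) = ⊥)
    (hfix : ∀ x : G, x ∉ M → A ≤ M.map (MulAut.conj x).toMonoidHom → ∀ B : Subgroup G, B ≤ A →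
      B ≠ ⊥ → B.map (MulAut.conj x).toMonoidHom = B →
      Cfsg.sigmaCore M ⊓ centralizer (B : Set G) = ⊥)
    (P : Sylow p M) : IsMulCommutative (P : Subgroup M) := by
  classical
  have hpp : p.Prime := Fact.out
  have hodd : Odd (Nat.card G) := hG.1
  have hAc := comm_of_elemAb h.elem
  have hpG : p ∣ Nat.card G :=
    (dvd_pow_self p two_ne_zero).trans (h.card ▸ Subgroup.card_subgroup_dvd_card A)
  have hpM : p ∣ Nat.card M :=
    (dvd_pow_self p two_ne_zero).trans (h.card ▸ Subgroup.card_dvd_of_le h.le)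
  have hp2 : p ≠ 2 := by
    intro h2
    rw [h2] at hpG
    exact (Nat.not_even_iff_odd.mpr hodd) (even_iff_two_dvd.mpr hpG)
  -- a Sylow `p`-subgroup of `M` containing `A`
  have hApg : IsPGroup p ↥(A.subgroupOf M) :=
    IsPGroup.of_card (n := 2) (by rw [Cfsg.Agent.Lib.Helper1.card_subgroupOf_of_le h.le, h.card])
  obtain ⟨P₀, hAP₀⟩ := hApg.exists_le_sylow
  suffices hP₀ : ∀ x ∈ (P₀ : Subgroup M).map M.subtype, ∀ y ∈ (P₀ : Subgroup M).map M.subtype,
      x * y = y * x by
    have hc0 : ∀ x y : (P₀ : Subgroup M), x * y = y * x := by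
      intro x y
      apply Subtype.ext
      apply Subtype.ext
      exact hP₀ _ ⟨x.1, x.2, rfl⟩ _ ⟨y.1, y.2, rfl⟩
    let e : ↥(P : Subgroup M) ≃* ↥(P₀ : Subgroup M) := Sylow.equiv P P₀
    exact ⟨⟨fun x y => e.injective (by rw [map_mul, map_mul]; exact hc0 _ _)⟩⟩
  set P' : Subgroup G := (P₀ : Subgroup M).map M.subtype with hP'
  have hAP' : A ≤ P' := by
    intro a ha
    exact ⟨⟨a, h.le ha⟩, hAP₀ (mem_subgroupOf.mpr ha), rfl⟩
  have hP'M : P' ≤ M := Subgroup.map_subtype_le _
  have hP'pg : IsPGroup p P' := P₀.2.map _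
  by_cases hcen : A ≤ centralizer (P' : Set G)
  · -- Case (i): `A` central in `P'`
    obtain ⟨Pst, hPst⟩ := hP'pg.exists_le_sylow
    have hP'Q : P' ≤ (Pst : Subgroup G) ⊓ centralizer (A : Set G) :=
      le_inf hPst (le_centralizer_iff.mp hcen)
    suffices hQ : ∀ c ∈ (Pst : Subgroup G) ⊓ centralizer (A : Set G),
        ∀ d ∈ (Pst : Subgroup G) ⊓ centralizer (A : Set G), c * d = d * c from
      fun x hx y hy => hQ x (hP'Q hx) y (hP'Q hy)
    have hAPst : A ≤ (Pst : Subgroup G) := hAP'.trans hPst
    by_cases hr : Cfsg.PRankLE p 2 ↥(Pst : Subgroup G)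
    · exact comm_centralizer_of_rank_two hG p Pst hr A hAPst h.elem hmax
    · have hE : Cfsg.IsElementaryAbelian p (A.subgroupOf (Pst : Subgroup G)) := by
        refine ⟨⟨⟨fun a b => ?_⟩⟩, ?_⟩
        · apply Subtype.ext
          apply Subtype.ext
          exact hAc _ (mem_subgroupOf.mp a.2) _ (mem_subgroupOf.mp b.2)
        · intro a ha
          apply Subtype.ext
          have := h.elem.2 _ (mem_subgroupOf.mp ha)
          simpa using this
      have hE2 : Nat.card ↥(A.subgroupOf (Pst : Subgroup G)) = p ^ 2 := by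
        rw [Cfsg.Agent.Lib.Helper1.card_subgroupOf_of_le hAPst, h.card]
      have hEmax : ∀ B : Subgroup ↥(Pst : Subgroup G), Cfsg.IsElementaryAbelian p B →
          A.subgroupOf (Pst : Subgroup G) ≤ B → B = A.subgroupOf (Pst : Subgroup G) := by
        intro B hB hAB
        have hB' : Cfsg.IsElementaryAbelian p (B.map (Pst : Subgroup G).subtype) := by
          have hBc := comm_of_elemAb hB
          refine ⟨⟨⟨fun a b => ?_⟩⟩, ?_⟩
          · obtain ⟨a', ha', haa⟩ := a.2
            obtain ⟨b', hb', hbb⟩ := b.2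
            apply Subtype.ext
            show (a : G) * (b : G) = (b : G) * (a : G)
            rw [← haa, ← hbb]
            have := hBc a' ha' b' hb'
            exact congrArg Subtype.val this
          · rintro a ⟨a', ha', rfl⟩
            have := hB.2 a' ha'
            have := congrArg Subtype.val this
            simpa using this
        have hle : A ≤ B.map (Pst : Subgroup G).subtype := by
          intro a ha
          exact ⟨⟨a, hAPst ha⟩, hAB (mem_subgroupOf.mpr ha), rfl⟩
        have heq := hmax _ hB' hle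
        ext b
        rw [mem_subgroupOf, ← heq]
        constructor
        · intro hb
          exact ⟨b, hb, rfl⟩
        · rintro ⟨b', hb', hbb⟩
          have : b' = b := Subtype.ext hbb
          rw [← this]
          exact hb'
      have key := comm_centralizer_of_not_rank_two p hp2 Pst.2 hr _ hE hE2 hEmax
      intro c hc d hd
      have hmemC : ∀ x (hx : x ∈ (Pst : Subgroup G) ⊓ centralizer (A : Set G)),
          (⟨x, hx.1⟩ : ↥(Pst : Subgroup G)) ∈
            centralizer ((A.subgroupOf (Pst : Subgroup G) : Subgroup ↥(Pst : Subgroup G)) :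
              Set ↥(Pst : Subgroup G)) := by
        intro x hx
        rw [mem_centralizer_iff]
        intro e he
        apply Subtype.ext
        exact mem_centralizer_iff.mp hx.2 _ (mem_subgroupOf.mp he)
      have := key _ (hmemC c hc) _ (hmemC d hd)
      exact congrArg Subtype.val this
  · -- Case (ii): `Ω₁ Z(P')` has order `p`; contradiction
    exfalso
    -- `Z0 = Ω₁ Z(P')`
    let Z0 : Subgroup G :=
      { carrier := {x | x ∈ P' ∧ x ∈ centralizer (P' : Set G) ∧ x ^ p = 1}
        mul_mem' := by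
          rintro x y ⟨hx, hxC, hxp⟩ ⟨hy, hyC, hyp⟩
          refine ⟨P'.mul_mem hx hy, (centralizer _).mul_mem hxC hyC, ?_⟩
          have hc : Commute x y := (mem_centralizer_iff.mp hyC x hx)
          rw [hc.mul_pow, hxp, hyp, one_mul]
        one_mem' := ⟨P'.one_mem, (centralizer _).one_mem, one_pow _⟩
        inv_mem' := by
          rintro x ⟨hx, hxC, hxp⟩
          exact ⟨P'.inv_mem hx, (centralizer _).inv_mem hxC, by rw [inv_pow, hxp, inv_one]⟩ }
    have hZ0mem : ∀ x, x ∈ Z0 ↔ x ∈ P' ∧ x ∈ centralizer (P' : Set G) ∧ x ^ p = 1 :=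
      fun x => Iff.rfl
    have hZ0A : Z0 ≤ A := by
      intro x hx
      rw [hZ0mem] at hx
      apply mem_of_maximal_elemAb h.elem hmax hx.2.2
      rw [mem_centralizer_iff]
      intro a ha
      exact mem_centralizer_iff.mp hx.2.1 a (hAP' ha)
    have hZ0cent : Z0 ≤ centralizer (P' : Set G) := fun x hx => ((hZ0mem x).mp hx).2.1
    have hP'nt : Nontrivial ↥P' := by
      have hA1 : A ≠ ⊥ := by
        intro hA
        have := h.card
        rw [hA, Subgroup.card_bot] at this
        have h1 : 1 < p ^ 2 := Nat.one_lt_pow two_ne_zero hpp.one_lt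
        omega
      obtain ⟨⟨a, ha⟩, ha1⟩ := (Subgroup.ne_bot_iff_exists_ne_one).mp hA1
      refine ⟨⟨⟨a, hAP' ha⟩, 1, ?_⟩⟩
      intro hh
      apply ha1
      apply Subtype.ext
      have h3 := congrArg (fun w : ↥P' => (w : G)) hh
      exact h3
    have hZ0ne : Z0 ≠ ⊥ := by
      have hP'pg' : IsPGroup p ↥P' := hP'pg
      haveI := hP'pg'.center_nontrivial
      have hcpg : IsPGroup p ↥(center ↥P') := hP'pg'.to_subgroup _
      obtain ⟨k, hk⟩ := IsPGroup.iff_card.mp hcpg
      have hk0 : k ≠ 0 := by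
        intro h0
        rw [h0, pow_zero] at hk
        have := (Subgroup.card_eq_one (H := center ↥P')).mp hk
        exact (Subgroup.nontrivial_iff_ne_bot _).mp inferInstance this
      have hpd : p ∣ Nat.card ↥(center ↥P') := by
        rw [hk]
        exact dvd_pow_self p hk0
      obtain ⟨z, hz⟩ := exists_prime_orderOf_dvd_card' (G := ↥(center ↥P')) p hpd
      have hz1 : z ≠ 1 := by
        intro hh
        rw [hh, orderOf_one] at hz
        exact hpp.one_lt.ne hz
      have hzp : z ^ p = 1 := by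
        rw [← hz]
        exact pow_orderOf_eq_one z
      have hzmem : (((z : ↥(center ↥P')) : ↥P') : G) ∈ Z0 := by
        rw [hZ0mem]
        refine ⟨(z : ↥P').2, ?_, ?_⟩
        · rw [mem_centralizer_iff]
          intro y hy
          have := (Subgroup.mem_center_iff.mp z.2) ⟨y, hy⟩
          exact congrArg Subtype.val this
        · have := congrArg (fun w : ↥(center ↥P') => ((w : ↥P') : G)) hzp
          simpa using this
      intro hbot
      rw [hbot, mem_bot] at hzmem
      apply hz1
      apply Subtype.ext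
      apply Subtype.ext
      exact hzmem
    have hZ0neA : Z0 ≠ A := by
      intro hh
      apply hcen
      rw [← hh]
      exact hZ0cent
    have hZ0card : Nat.card Z0 = p := by
      have h1 : Nat.card Z0 ≤ p := card_le_of_lt_of_card_sq hpp h.card hZ0A hZ0neA
      have hd : Nat.card Z0 ∣ p ^ 2 := h.card ▸ Subgroup.card_dvd_of_le hZ0A
      obtain ⟨j, hj, hjc⟩ := (Nat.dvd_prime_pow hpp).mp hd
      interval_cases j
      · exfalso
        rw [pow_zero] at hjc
        exact hZ0ne (Subgroup.card_eq_one.mp hjc)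
      · rw [hjc, pow_one]
      · exfalso
        rw [hjc] at h1
        have : p < p ^ 2 := by
          rw [pow_two]
          nlinarith [hpp.two_le]
        omega
    have hNZ0 : normalizer (P' : Set G) ≤ normalizer (Z0 : Set G) := by
      apply le_normalizer_of_conj_mem
      intro g hg x hx
      rw [hZ0mem] at hx ⊢
      refine ⟨((mem_normalizer_iff.mp hg) x).mp hx.1, ?_, ?_⟩
      · rw [mem_centralizer_iff]
        intro y hy
        have hy' : g⁻¹ * y * g⁻¹⁻¹ ∈ P' :=
          ((mem_normalizer_iff.mp ((normalizer (P' : Set G)).inv_mem hg)) y).mp hy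
        have hc := mem_centralizer_iff.mp hx.2.1 _ hy'
        calc y * (g * x * g⁻¹) = g * ((g⁻¹ * y * g⁻¹⁻¹) * x) * g⁻¹ := by group
          _ = g * (x * (g⁻¹ * y * g⁻¹⁻¹)) * g⁻¹ := by rw [hc]
          _ = g * x * g⁻¹ * y := by group
      · rw [conj_pow, hx.2.2]
        group
    -- an element of `N(P')` outside `M`
    have hgex : ∃ g ∈ normalizer (P' : Set G), g ∉ M := by
      have hns := h.not_sigma
      have : ¬ normalizer (P' : Set G) ≤ M := by
        intro hle
        exact hns ⟨hpp, hpM, P₀, hle⟩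
      exact SetLike.not_le_iff_exists.mp this
    obtain ⟨g, hgN, hgM⟩ := hgex
    have hZ0A₀ : Z0 ≠ A₀ := by
      intro hh
      apply hgM
      apply h.norm₀
      rw [← hh]
      exact hNZ0 hgN
    -- the transvection `u`
    have hu : ∃ u ∈ P', u ∈ normalizer (A : Set G) ∧ u ∉ centralizer (A : Set G) := by
      let C : Subgroup ↥P' := (centralizer (A : Set G)).subgroupOf P'
      have hCtop : C ≠ ⊤ := by
        intro htop
        apply hcen
        rw [le_centralizer_iff]
        intro x hx
        have : (⟨x, hx⟩ : ↥P') ∈ C := by rw [htop]; trivial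
        exact mem_subgroupOf.mp this
      have hP'pg' : IsPGroup p ↥P' := hP'pg
      haveI : Group.IsNilpotent ↥P' := hP'pg'.isNilpotent
      have hnc := Group.normalizerCondition_of_isNilpotent (G := ↥P') C (lt_top_iff_ne_top.mpr hCtop)
      obtain ⟨u, huN, huC⟩ := SetLike.exists_of_lt hnc
      refine ⟨(u : G), u.2, ?_, fun hh => huC (mem_subgroupOf.mpr hh)⟩
      have hle : (normalizer (C : Set ↥P')).map P'.subtype ≤ normalizer (A : Set G) := by
        apply le_normalizer_of_conj_mem
        rintro n ⟨n', hn', rfl⟩ a ha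
        have haC : (⟨a, hAP' ha⟩ : ↥P') ∈ C := by
          rw [mem_subgroupOf, mem_centralizer_iff]
          intro b hb
          exact hAc b hb a ha
        have h1 := ((mem_normalizer_iff.mp hn') ⟨a, hAP' ha⟩).mp haC
        have h2 : (n' : G) * a * (n' : G)⁻¹ ∈ centralizer (A : Set G) := mem_subgroupOf.mp h1
        apply mem_of_maximal_elemAb h.elem hmax _ h2
        rw [conj_pow, h.elem.2 a ha]
        group
      exact hle ⟨u, huN, rfl⟩
    obtain ⟨u, huP', huA, huC⟩ := hu
    have huZ : u ∈ centralizer (Z0 : Set G) := by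
      rw [mem_centralizer_iff]
      intro w hw
      exact (mem_centralizer_iff.mp (hZ0cent hw) u huP').symm
    have hup : ∃ k : ℕ, u ^ p ^ k = 1 := by
      obtain ⟨k, hk⟩ := hP'pg ⟨u, huP'⟩
      refine ⟨k, ?_⟩
      have := congrArg (fun w : ↥P' => (w : G)) hk
      simpa using this
    have htrans := exists_conj_of_transvection p A Z0 A₀ h.elem h.card hZ0A hZ0card h.le₀ h.card₀
      hZ0A₀ u huA huC huZ hup
    -- the conjugate `A' = g A g⁻¹`
    have hconjP' : ∀ n ∈ normalizer (P' : Set G), ∀ y ∈ P', n⁻¹ * y * n ∈ P' := by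
      intro n hn y hy
      have := ((mem_normalizer_iff.mp ((normalizer (P' : Set G)).inv_mem hn)) y).mp hy
      simpa using this
    have hupowP' : ∀ i : ℕ, u ^ i ∈ P' := fun i => P'.pow_mem huP' i
    have hA_le : ∀ i : ℕ, A ≤ M.map (MulAut.conj (g * u ^ i)).toMonoidHom := by
      intro i a ha
      show a ∈ cj (g * u ^ i) M
      rw [mem_cj]
      apply hP'M
      have h1 : g⁻¹ * a * g ∈ P' := hconjP' g hgN a (hAP' ha)
      have : (g * u ^ i)⁻¹ * a * (g * u ^ i) = (u ^ i)⁻¹ * (g⁻¹ * a * g) * u ^ i := by group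
      rw [this]
      exact P'.mul_mem (P'.mul_mem (P'.inv_mem (hupowP' i)) h1) (hupowP' i)
    have hxM : ∀ i : ℕ, g * u ^ i ∉ M := by
      intro i hh
      apply hgM
      have : g = (g * u ^ i) * (u ^ i)⁻¹ := by group
      rw [this]
      exact M.mul_mem hh (M.inv_mem (hP'M (hupowP' i)))
    have hZ0fix : Z0.map (MulAut.conj g).toMonoidHom = Z0 :=
      cj_eq_self_of_mem (hNZ0 hgN)
    have hfixZ0 : Cfsg.sigmaCore M ⊓ centralizer (Z0 : Set G) = ⊥ := by
      have := hA_le 0
      rw [pow_zero, mul_one] at this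
      exact hfix g hgM this Z0 hZ0A hZ0ne hZ0fix
    set A' : Subgroup G := cj g A with hA'
    have hA'P' : A' ≤ P' := by
      intro a ha
      rw [hA', mem_cj] at ha
      have h1 : g * (g⁻¹ * a * g) * g⁻¹ ∈ P' :=
        ((mem_normalizer_iff.mp hgN) _).mp (hAP' ha)
      have : g * (g⁻¹ * a * g) * g⁻¹ = a := by group
      rw [this] at h1
      exact h1
    have hA'elem : Cfsg.IsElementaryAbelian p A' := by
      refine ⟨⟨⟨fun a b => ?_⟩⟩, ?_⟩
      · apply Subtype.ext
        have ha := mem_cj.mp a.2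
        have hb := mem_cj.mp b.2
        have hc := hAc _ ha _ hb
        show (a : G) * (b : G) = (b : G) * (a : G)
        calc (a : G) * (b : G) = g * ((g⁻¹ * a * g) * (g⁻¹ * b * g)) * g⁻¹ := by group
          _ = g * ((g⁻¹ * b * g) * (g⁻¹ * a * g)) * g⁻¹ := by rw [hc]
          _ = (b : G) * (a : G) := by group
      · intro a ha
        have ha' := mem_cj.mp ha
        have := h.elem.2 _ ha'
        have h2 : a ^ p = g * (g⁻¹ * a * g) ^ p * g⁻¹ := by
          rw [← conj_pow]
          group
        rw [h2, this]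
        group
    haveI : IsMulCommutative ↥A' := hA'elem.1
    have hA'card : Nat.card A' = p ^ 2 := by rw [hA', card_cj, h.card]
    have hA'nc : ¬ IsCyclic ↥A' :=
      Cfsg.Agent.Lib.Helper8.not_isCyclic_of_elemAb hpp hA'elem (le_of_eq hA'card.symm)
    have hA'norm : A' ≤ normalizer (Cfsg.sigmaCore M : Set G) :=
      (hA'P'.trans hP'M).trans (sigmaCore_le_normalizer M)
    have hcop : (Nat.card A').Coprime (Nat.card (Cfsg.sigmaCore M)) := by
      rw [hA'card]
      apply Nat.Coprime.pow_left
      exact (Nat.Prime.coprime_iff_not_dvd hpp).mpr (not_dvd_card_sigmaCore M hpp h.not_sigma)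
    have hgen := Cfsg.Agent.S0058.result A' (Cfsg.sigmaCore M) hA'nc hA'norm hcop
    apply hne
    rw [← hgen, eq_bot_iff]
    apply iSup₂_le
    rintro a ⟨haA', ha1⟩
    have hb := mem_cj.mp haA'
    set b : G := g⁻¹ * a * g with hbdef
    have hab : a = g * b * g⁻¹ := by rw [hbdef]; group
    have hb1 : b ≠ 1 := by
      intro hh
      apply ha1
      rw [hab, hh]
      group
    by_cases hbZ : b ∈ Z0
    · have haZ : a ∈ Z0 := by
        rw [← hZ0fix]
        show a ∈ cj g Z0
        rw [mem_cj]
        exact hbZ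
      have hZprime : (Nat.card Z0).Prime := hZ0card ▸ hpp
      rw [centralizer_singleton_eq_centralizer_of_prime hZprime haZ ha1, hfixZ0]
    · obtain ⟨i, a', ha', ha'1, hba'⟩ := htrans b hb hbZ
      have hax : a = (g * u ^ i) * a' * (g * u ^ i)⁻¹ := by
        rw [hab, hba']
        group
      have hmem : a ∈ cj (g * u ^ i) A₀ := by
        rw [hax]
        exact conj_mem_cj ha'
      have hprime : (Nat.card ↥(cj (g * u ^ i) A₀)).Prime := by
        rw [card_cj, h.card₀]
        exact hpp
      rw [centralizer_singleton_eq_centralizer_of_prime hprime hmem ha1]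
      exact le_of_eq (h112 (g * u ^ i) (hxM i) (hA_le i))

end Cfsg.Agent.Lib.Helper24.BGExB
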