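/- helper24: BG 11.6 (Block D pieces, hypothesis form): omega_of_comm, normalizer_sylow_le_of_comm, normalizer_not_le_of_comm, two_fpf_of. -/
import Mathlib
import Cfsg.Prelude.Def_OddOrderLocal
import Cfsg.Agent.Lib.Helper8.BGEx0
import Cfsg.Agent.Lib.Helper24.BGBeta1
import Cfsg.Agent.Lib.Helper24.BG36AbA
import Cfsg.Agent.Lib.Helper24.BGExB2

set_option autoImplicit false

namespace Cfsg.Agent.Lib.Helper24.BGExD

open Subgroup Cfsg.Agent.Lib.Helper24.BGBeta Cfsg.Agent.Lib.Helper24.BG36Ab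
open Cfsg.Agent.Lib.Helper24.BGExB
open Cfsg.Agent.Lib.Helper8.BGEx (Exc)

variable {G : Type*} [Group G] [Finite G]

/-- 11.6(a) from 11.5: in an abelian Sylow `p`-subgroup `P ≥ A` of `M`, the elements of order
dividing `p` are exactly those of `A`. -/
theorem omega_of_comm {M : Subgroup G} {p : ℕ} {A A₀ : Subgroup G} (h : Exc M p A A₀)
    (hmax : ∀ B : Subgroup G, Cfsg.IsElementaryAbelian p B → A ≤ B → B = A)
    [Fact p.Prime] (P : Sylow p M) (hc : IsMulCommutative (P : Subgroup M))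
    (hAP : A ≤ (P : Subgroup M).map M.subtype) :
    ∀ x ∈ (P : Subgroup M).map M.subtype, x ^ p = 1 ↔ x ∈ A := by
  intro x hx
  constructor
  · intro hxp
    apply mem_of_maximal_elemAb h.elem hmax hxp
    rw [mem_centralizer_iff]
    intro a ha
    obtain ⟨x', hx', rfl⟩ := hx
    obtain ⟨a', ha', haa⟩ := hAP ha
    rw [← haa]
    have := hc.is_comm.comm ⟨a', ha'⟩ ⟨x', hx'⟩
    have := congrArg (fun w : (P : Subgroup M) => ((w : M) : G)) this
    simpa using this
  · exact h.elem.2 x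

/-- 11.6(a), second part: `N(P) ≤ N(A)`. -/
theorem normalizer_sylow_le_of_comm {M : Subgroup G} {p : ℕ} {A A₀ : Subgroup G}
    (h : Exc M p A A₀)
    (hmax : ∀ B : Subgroup G, Cfsg.IsElementaryAbelian p B → A ≤ B → B = A)
    [Fact p.Prime] (P : Sylow p M) (hc : IsMulCommutative (P : Subgroup M))
    (hAP : A ≤ (P : Subgroup M).map M.subtype) :
    normalizer (((P : Subgroup M).map M.subtype : Subgroup G) : Set G) ≤
      normalizer (A : Set G) := by
  have hom := omega_of_comm h hmax P hc hAP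
  apply le_normalizer_of_conj_mem
  intro g hg a ha
  have h1 : g * a * g⁻¹ ∈ (P : Subgroup M).map M.subtype :=
    ((mem_normalizer_iff.mp hg) a).mp (hAP ha)
  apply (hom _ h1).mp
  rw [conj_pow, h.elem.2 a ha]
  group

/-- 11.6(b): `N(A) ⊄ M`. -/
theorem normalizer_not_le_of_comm {M : Subgroup G} {p : ℕ} {A A₀ : Subgroup G}
    (h : Exc M p A A₀)
    (hmax : ∀ B : Subgroup G, Cfsg.IsElementaryAbelian p B → A ≤ B → B = A)
    [Fact p.Prime] (hc : ∀ P : Sylow p M, IsMulCommutative (P : Subgroup M)) :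
    ¬ normalizer (A : Set G) ≤ M := by
  have hpp : p.Prime := Fact.out
  intro hle
  have hApg : IsPGroup p ↥(A.subgroupOf M) :=
    IsPGroup.of_card (n := 2) (by rw [Cfsg.Agent.Lib.Helper1.card_subgroupOf_of_le h.le, h.card])
  obtain ⟨P₀, hAP₀⟩ := hApg.exists_le_sylow
  have hAP' : A ≤ (P₀ : Subgroup M).map M.subtype := by
    intro a ha
    exact ⟨⟨a, h.le ha⟩, hAP₀ (mem_subgroupOf.mpr ha), rfl⟩
  have hpM : p ∣ Nat.card M :=
    (dvd_pow_self p two_ne_zero).trans (h.card ▸ Subgroup.card_dvd_of_le h.le)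
  exact h.not_sigma ⟨hpp, hpM, P₀,
    (normalizer_sylow_le_of_comm h hmax P₀ (hc P₀) hAP').trans hle⟩

/-- an element of odd order lies in every subgroup containing its square -/
theorem mem_of_sq_mem (hodd : Odd (Nat.card G)) {M : Subgroup G} {n : G} (hn : n ^ 2 ∈ M) :
    n ∈ M := by
  have ho : Odd (orderOf n) := Odd.of_dvd_nat hodd (orderOf_dvd_natCard n)
  obtain ⟨k, hk⟩ := ho
  have h1 : n ^ (2 * k + 1) = 1 := by rw [← hk]; exact pow_orderOf_eq_one n
  have h2 : n = (n ^ 2) ^ (k + 1) := by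
    rw [← pow_mul]
    have : 2 * (k + 1) = (2 * k + 1) + 1 := by ring
    rw [this, pow_succ, h1, one_mul]
  rw [h2]
  exact M.pow_mem hn _

/-- 11.6(c): at least two points of `A` act fixed-point-freely on `M_σ`. -/
theorem two_fpf_of (hG : Cfsg.IsMinSimpleOddOrder G) {M : Subgroup G} {p : ℕ} {A A₀ : Subgroup G}
    (h : Exc M p A A₀)
    (h112 : ∀ x : G, x ∉ M → A ≤ M.map (MulAut.conj x).toMonoidHom →
      Cfsg.sigmaCore M ⊓ centralizer ((A₀.map (MulAut.conj x).toMonoidHom : Subgroup G) : Set G) = ⊥)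
    (hN : ¬ normalizer (A : Set G) ≤ M) :
    ∃ X₁ X₂ : Subgroup G, X₁ ≤ A ∧ X₂ ≤ A ∧ Nat.card X₁ = p ∧ Nat.card X₂ = p ∧ X₁ ≠ X₂ ∧
      Cfsg.sigmaCore M ⊓ centralizer (X₁ : Set G) = ⊥ ∧
      Cfsg.sigmaCore M ⊓ centralizer (X₂ : Set G) = ⊥ := by
  obtain ⟨n, hnN, hnM⟩ := SetLike.not_le_iff_exists.mp hN
  have hn2M : n ^ 2 ∉ M := fun hh => hnM (mem_of_sq_mem hG.1 hh)
  have hn2N : n ^ 2 ∈ normalizer (A : Set G) := (normalizer (A : Set G)).pow_mem hnN 2
  have hle : ∀ x ∈ normalizer (A : Set G), A ≤ M.map (MulAut.conj x).toMonoidHom := by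
    intro x hx a ha
    show a ∈ cj x M
    rw [mem_cj]
    apply h.le
    have := ((mem_normalizer_iff.mp ((normalizer (A : Set G)).inv_mem hx)) a).mp ha
    simpa using this
  have hsub : ∀ x ∈ normalizer (A : Set G), cj x A₀ ≤ A := by
    intro x hx
    have := cj_mono (g := x) h.le₀
    rwa [cj_eq_self_of_mem hx] at this
  refine ⟨cj n A₀, cj (n ^ 2) A₀, hsub n hnN, hsub _ hn2N, ?_, ?_, ?_,
    h112 n hnM (hle n hnN), h112 _ hn2M (hle _ hn2N)⟩
  · rw [card_cj, h.card₀]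
  · rw [card_cj, h.card₀]
  · intro heq
    apply hnM
    apply h.norm₀
    rw [← cj_eq_self_iff]
    have h1 : cj (n ^ 2) A₀ = cj n (cj n A₀) := by rw [pow_two, cj_mul]
    rw [h1] at heq
    have h2 := congrArg (cj n⁻¹) heq
    rw [cj_inv_cj, cj_inv_cj] at h2
    exact h2.symm

end Cfsg.Agent.Lib.Helper24.BGExD
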