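/- helper24: BG 3.6 nonabelian branch: Lemma E (le_of_frobenius_action) via S1446 in N(D)/D. -/
import Mathlib
import Cfsg.Agent.S1446
import Cfsg.Agent.Lib.Helper1.Coprime
import Cfsg.Agent.Lib.Helper8.SupNormalizer
import Cfsg.Agent.Lib.Helper24.BG36AbA
import Cfsg.Agent.Lib.Helper24.BG36AbC
import Cfsg.Agent.Lib.Helper24.BG36NabA

set_option autoImplicit false
open scoped commutatorElement

namespace Cfsg.Agent.Lib.Helper24.BG36Nab

open Subgroup Cfsg.Agent.Lib.Helper24.BG36Ab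

/-- In a subgroup of prime order, the centralizer of a nonidentity element is the centralizer
of the subgroup. -/
theorem centralizer_singleton_eq_of_prime_card {G : Type*} [Group G] [Finite G] {A : Subgroup G}
    (hA : (Nat.card A).Prime) {a : G} (ha : a ∈ A) (ha1 : a ≠ 1) :
    centralizer ({a} : Set G) = centralizer (A : Set G) := by
  have hz : zpowers a = A := by
    rcases eq_bot_or_eq_of_prime_card hA ((zpowers_le (H := A)).mpr ha) with h | h
    · exfalso
      apply ha1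
      have : a ∈ zpowers a := mem_zpowers a
      rw [h, mem_bot] at this
      exact this
    · exact h
  apply le_antisymm
  · intro x hx
    rw [mem_centralizer_iff] at hx ⊢
    intro b hb
    rw [SetLike.mem_coe, ← hz] at hb
    obtain ⟨k, rfl⟩ := mem_zpowers_iff.mp hb
    have hc : Commute a x := hx a rfl
    exact (hc.zpow_left k).eq
  · apply centralizer_le
    intro b hb
    rw [Set.mem_singleton_iff] at hb
    rw [hb]
    exact ha

/-- **Lemma E**: a Frobenius group `P A` acting coprimely on a nilpotent group `K`; if a normal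
invariant subgroup `D` contains `C_K(P)` and `C_K(A)` then `K = D`. -/
theorem le_of_frobenius_action {G : Type*} [Group G] [Finite G] (p : ℕ) [Fact p.Prime]
    (hp2 : p ≠ 2) (K D P A : Subgroup G) (hDK : D ≤ K) (hKD : K ≤ normalizer (D : Set G))
    (hKnil : Group.IsNilpotent K)
    (hPK : P ≤ normalizer (K : Set G)) (hAK : A ≤ normalizer (K : Set G))
    (hPD : P ≤ normalizer (D : Set G)) (hAD : A ≤ normalizer (D : Set G))
    (hAP : A ≤ normalizer (P : Set G)) (hP : IsPGroup p P) (hP1 : P ≠ ⊥)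
    (hA : (Nat.card A).Prime) (hA2 : Nat.card A ≠ 2) (hAp : Nat.card A ≠ p)
    (hKp : (Nat.card K).Coprime p) (hAKc : (Nat.card A).Coprime (Nat.card K))
    (hPA : P ⊓ centralizer (A : Set G) = ⊥)
    (hCP : K ⊓ centralizer (P : Set G) ≤ D) (hCA : K ⊓ centralizer (A : Set G) ≤ D) :
    K ≤ D := by
  classical
  by_contra hne
  have hp : p.Prime := Fact.out
  haveI : Fact (Nat.card A).Prime := ⟨hA⟩
  obtain ⟨m, hm⟩ := IsPGroup.iff_card.mp hP
  have hDcard : Nat.card D ∣ Nat.card K := Subgroup.card_dvd_of_le hDK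
  have hcopPD : (Nat.card P).Coprime (Nat.card D) := by
    rw [hm]
    exact Nat.Coprime.pow_left m (Nat.Coprime.coprime_dvd_right hDcard hKp.symm)
  have hcopAD : (Nat.card A).Coprime (Nat.card D) := Nat.Coprime.coprime_dvd_right hDcard hAKc
  have hPD0 : P ⊓ D = ⊥ := (Subgroup.disjoint_of_coprime_natCard hcopPD).eq_bot
  have hAD0 : A ⊓ D = ⊥ := (Subgroup.disjoint_of_coprime_natCard hcopAD).eq_bot
  have hPsol : Group.IsSolvable P := by
    haveI := hP.isNilpotent
    infer_instance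
  have hApg : IsPGroup (Nat.card A) A := IsPGroup.of_card (n := 1) (by rw [pow_one])
  have hAsol : Group.IsSolvable A := by
    haveI := hApg.isNilpotent
    infer_instance
  -- the images
  set Pb := im D P with hPb
  set Ab := im D A with hAb
  set Kb := im D K with hKb
  have hK1 : Pb ≠ ⊥ := by
    intro h
    rw [hPb, im_eq_bot_iff hPD] at h
    apply hP1
    rw [eq_bot_iff, ← hPD0]
    exact le_inf le_rfl h
  have hR1 : Ab ≠ ⊥ := by
    intro h
    rw [hAb, im_eq_bot_iff hAD] at h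
    have h1 : A = ⊥ := by
      rw [eq_bot_iff, ← hAD0]
      exact le_inf le_rfl h
    have h2 := hA.one_lt
    rw [h1, Subgroup.card_bot] at h2
    exact lt_irrefl _ h2
  have hPbd : Nat.card Pb ∣ p ^ m := hm ▸ card_im_dvd P hPD
  have hAbd : Nat.card Ab ∣ Nat.card A := card_im_dvd A hAD
  have hKbd : Nat.card Kb ∣ Nat.card K := card_im_dvd K hKD
  have hAbcard : Nat.card Ab = Nat.card A := by
    rcases (Nat.dvd_prime hA).mp hAbd with h | h
    · exact absurd (Subgroup.card_eq_one.mp h) hR1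
    · exact h
  have hAbprime : (Nat.card Ab).Prime := hAbcard ▸ hA
  obtain ⟨j, hj, hPbcard⟩ := (Nat.dvd_prime_pow hp).mp hPbd
  have hPbpg : IsPGroup p Pb := IsPGroup.of_card hPbcard
  have hcopPA : (Nat.card Pb).Coprime (Nat.card Ab) := by
    rw [hPbcard, hAbcard]
    apply Nat.Coprime.pow_left
    exact (Nat.coprime_primes hp hA).mpr (Ne.symm hAp)
  have hKR : Pb ⊓ Ab = ⊥ := (Subgroup.disjoint_of_coprime_natCard hcopPA).eq_bot
  have hRK : Ab ≤ normalizer (Pb : Set (Gam D)) := im_le_normalizer hAD hPD hAP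
  have hfrob : ∀ r ∈ Ab, r ≠ 1 → Pb ⊓ centralizer ({r} : Set (Gam D)) = ⊥ := by
    intro r hr hr1
    obtain ⟨a, ha, rfl⟩ := (mem_im_iff hAD).mp hr
    have ha1 : a ≠ 1 := by
      intro h
      apply hr1
      rw [proj_eq_one_iff, h]
      exact D.one_mem
    rw [eq_bot_iff]
    rintro y ⟨hyP, hyC⟩
    obtain ⟨x, hx, rfl⟩ := (mem_im_iff hPD).mp hyP
    have hyC' : proj D ⟨x, hPD hx⟩ ∈ centralizer ({proj D ⟨a, hAD ha⟩} : Set (Gam D)) := hyC
    rw [mem_centralizer_iff] at hyC'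
    have hcomm := hyC' _ rfl
    -- x a x⁻¹ a⁻¹ ∈ P ⊓ D
    have hc1 : a * x⁻¹ * a⁻¹ ∈ P := ((mem_normalizer_iff.mp (hAP ha)) x⁻¹).mp (P.inv_mem hx)
    have hcP : x * a * x⁻¹ * a⁻¹ ∈ P := by
      have : x * a * x⁻¹ * a⁻¹ = x * (a * x⁻¹ * a⁻¹) := by group
      rw [this]
      exact P.mul_mem hx hc1
    have hcN : x * a * x⁻¹ * a⁻¹ ∈ normalizer (D : Set G) := hPD hcP
    have hcD : x * a * x⁻¹ * a⁻¹ ∈ D := by
      rw [← proj_eq_one_iff hcN]
      have : proj D ⟨x * a * x⁻¹ * a⁻¹, hcN⟩ =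
          proj D ⟨x, hPD hx⟩ * proj D ⟨a, hAD ha⟩ * (proj D ⟨x, hPD hx⟩)⁻¹ *
            (proj D ⟨a, hAD ha⟩)⁻¹ := by
        rw [← map_inv, ← map_inv, ← map_mul, ← map_mul, ← map_mul]
        rfl
      rw [this, ← hcomm]
      group
    have hc0 : x * a * x⁻¹ * a⁻¹ ∈ P ⊓ D := ⟨hcP, hcD⟩
    rw [hPD0, mem_bot] at hc0
    have hxa : a * x = x * a := by
      calc a * x = (x * a * x⁻¹ * a⁻¹)⁻¹ * (x * a) := by group
        _ = x * a := by rw [hc0, inv_one, one_mul]
    have hxC : x ∈ P ⊓ centralizer (A : Set G) := by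
      refine ⟨hx, ?_⟩
      show x ∈ centralizer (A : Set G)
      rw [← centralizer_singleton_eq_of_prime_card hA ha ha1, mem_centralizer_iff]
      intro b hb
      rw [Set.mem_singleton_iff] at hb
      rw [hb]
      exact hxa
    rw [hPA, mem_bot] at hxC
    rw [mem_bot, proj_eq_one_iff, hxC]
    exact D.one_mem
  have hPbsol : Group.IsSolvable Pb := by
    haveI := hPbpg.isNilpotent
    infer_instance
  have hAbpg : IsPGroup (Nat.card A) Ab := IsPGroup.of_card (n := 1) (by rw [pow_one, hAbcard])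
  have hAbsol : Group.IsSolvable Ab := by
    haveI := hAbpg.isNilpotent
    infer_instance
  have hsolv : Group.IsSolvable ↥(Pb ⊔ Ab) :=
    Cfsg.Agent.Lib.Helper8.isSolvable_sup_of_le_normalizer hPbsol hAbsol hRK
  have hsupcard : Nat.card Pb * Nat.card Ab = Nat.card ↥(Pb ⊔ Ab) :=
    (Cfsg.Agent.Lib.Helper1.isComplIn_sup hRK (disjoint_iff.mpr hKR)).card_mul_card
  have hodd : Odd (Nat.card ↥(Pb ⊔ Ab)) := by
    rw [← hsupcard, hPbcard, hAbcard]
    exact Odd.mul (Odd.pow (hp.odd_of_ne_two hp2)) (hA.odd_of_ne_two hA2)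
  have hM1 : Kb ≠ ⊥ := by
    intro h
    rw [hKb, im_eq_bot_iff hKD] at h
    exact hne h
  have hMn : Group.IsNilpotent Kb := by
    let f : ↥K →* Gam D := (proj D).comp (Subgroup.inclusion hKD)
    have hrange : f.range = Kb := by
      ext y
      rw [hKb, mem_im_iff hKD, MonoidHom.mem_range]
      constructor
      · rintro ⟨k, rfl⟩
        exact ⟨k.1, k.2, rfl⟩
      · rintro ⟨k, hk, rfl⟩
        exact ⟨⟨k, hk⟩, rfl⟩
    have h1 : Group.IsNilpotent ↥f.range :=
      Group.nilpotent_of_surjective f.rangeRestrict f.rangeRestrict_surjective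
    rw [hrange] at h1
    exact h1
  have hKM : Pb ≤ normalizer (Kb : Set (Gam D)) := im_le_normalizer hPD hKD hPK
  have hRM : Ab ≤ normalizer (Kb : Set (Gam D)) := im_le_normalizer hAD hKD hAK
  have hcop : (Nat.card ↥(Pb ⊔ Ab)).Coprime (Nat.card Kb) := by
    rw [← hsupcard, hPbcard, hAbcard]
    apply Nat.Coprime.mul_left
    · apply Nat.Coprime.pow_left
      exact Nat.Coprime.coprime_dvd_right hKbd hKp.symm
    · exact Nat.Coprime.coprime_dvd_right hKbd hAKc
  have hDD : im D D = ⊥ := (im_eq_bot_iff (le_normalizer)).mpr le_rfl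
  have hCK : Kb ⊓ centralizer (Pb : Set (Gam D)) = ⊥ := by
    rw [eq_bot_iff, ← hDD]
    exact (im_inf_centralizer_le hDK hKD hPD hcopPD (Or.inl hPsol)).trans (im_mono hCP)
  have hCA' : Kb ⊓ centralizer (Ab : Set (Gam D)) = ⊥ := by
    rw [eq_bot_iff, ← hDD]
    exact (im_inf_centralizer_le hDK hKD hAD hcopAD (Or.inl hAsol)).trans (im_mono hCA)
  have hpr : ∀ x ∈ Ab, x ≠ 1 → Kb ⊓ centralizer ({x} : Set (Gam D)) =
      Kb ⊓ centralizer (Ab : Set (Gam D)) := by
    intro x hx hx1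
    rw [centralizer_singleton_eq_of_prime_card hAbprime hx hx1]
  obtain ⟨_, hcard, _⟩ := Cfsg.Agent.S1446.result Pb Ab Kb hK1 hR1 hKR hRK hfrob hsolv hodd hM1
    hMn hKM hRM hcop hCK hpr
  rw [hCA', Subgroup.card_bot, one_pow] at hcard
  exact hM1 (Subgroup.card_eq_one.mp hcard)

end Cfsg.Agent.Lib.Helper24.BG36Nab
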