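/- helper24: B and G section 13/14 regularity (Corollary R, Corollary G1 of notes/bg14/NOTES_h20.md): general lemmas; the Lambda-argument on N_G(A)/C_G(A) for A of order r^2. -/
import Mathlib
import Cfsg.Agent.Lib.Helper17.OddAutElem
import Cfsg.Agent.Lib.Helper23.BGY4
import Cfsg.Agent.Lib.Helper16.BGPrimE

set_option autoImplicit false
open scoped commutatorElement

namespace Cfsg.Agent.Lib.Helper24.BGReg

open Cfsg

variable {G : Type*} [Group G]

/-- `r`-elements of `N_G(A)` centralize the `r`-group `A` when the Sylow `r`-subgroups of `G` are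
abelian. -/
theorem comm_of_rpow_of_sylow_comm [Finite G] {r : ℕ} [Fact r.Prime]
    (hS : ∃ S : Sylow r G, IsMulCommutative (S : Subgroup G)) {A : Subgroup G}
    (hAr : IsPGroup r A) {g : G} (hg : g ∈ Subgroup.normalizer (A : Set G))
    (hgr : ∃ n : ℕ, g ^ r ^ n = 1) : ∀ a ∈ A, g * a = a * g := by
  have hzp : IsPGroup r (Subgroup.zpowers g) := by
    obtain ⟨n, hn⟩ := hgr
    rw [IsPGroup.iff_orderOf]
    rintro ⟨y, hy⟩
    obtain ⟨i, rfl⟩ := Subgroup.mem_zpowers_iff.mp hy
    have h1 : (g ^ i) ^ r ^ n = 1 := by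
      rw [← zpow_natCast, ← zpow_mul, mul_comm, zpow_mul, zpow_natCast, hn, one_zpow]
    obtain ⟨m, -, hm⟩ := (Nat.dvd_prime_pow Fact.out).mp (orderOf_dvd_of_pow_eq_one h1)
    refine ⟨m, ?_⟩
    rw [← hm, Subgroup.orderOf_mk]
  have hle : Subgroup.zpowers g ≤ Subgroup.normalizer (A : Set G) :=
    Subgroup.zpowers_le.mpr hg
  have hQ : IsPGroup r ↥(Subgroup.zpowers g ⊔ A) := hzp.to_sup_of_normal_right' hAr hle
  intro a ha
  exact Cfsg.Agent.Lib.Helper23.BGY.comm_of_isPGroup_of_exists_sylow_comm hS hQ g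
    (le_sup_left (a := Subgroup.zpowers g) (Subgroup.mem_zpowers g)) a
    (le_sup_right (a := Subgroup.zpowers g) ha)

/-- an element whose `m`-th power and `r`-th power are trivial with `m`, `r` coprime is trivial. -/
theorem eq_one_of_pow_coprime {H : Type*} [Group H] {h : H} {m r : ℕ} (hc : m.Coprime r)
    (h1 : h ^ m = 1) (h2 : h ^ r = 1) : h = 1 := by
  have hd := Nat.dvd_gcd (orderOf_dvd_of_pow_eq_one h1) (orderOf_dvd_of_pow_eq_one h2)
  rw [Nat.Coprime.gcd_eq_one hc, Nat.dvd_one] at hd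
  exact orderOf_eq_one_iff.mp hd

/-- **the Λ-argument**: `G` of odd order with abelian Sylow `r`-subgroups, `A` elementary abelian of
order `r ^ 2`.  Then the image of `N_G(A)` in `Aut A` is abelian; hence `N_G(A)` normalizes
`C_A(k)` for every `k ∈ N_G(A)`. -/
theorem normalizer_le_normalizer_inf_centralizer [Finite G] (hodd : Odd (Nat.card G)) {r : ℕ}
    [Fact r.Prime] (hS : ∃ S : Sylow r G, IsMulCommutative (S : Subgroup G)) {A : Subgroup G}
    (hAe : Cfsg.IsElementaryAbelian r A) (hA2 : Nat.card A = r ^ 2) {k : G}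
    (hk : k ∈ Subgroup.normalizer (A : Set G)) :
    Subgroup.normalizer (A : Set G) ≤
      Subgroup.normalizer ((A ⊓ Subgroup.centralizer ({k} : Set G) : Subgroup G) : Set G) := by
  have hrp : r.Prime := Fact.out
  have hAr : IsPGroup r A := IsPGroup.of_card hA2
  have hr2 : r ≠ 2 := by
    rintro rfl
    have h2 : 2 ∣ Nat.card G :=
      (dvd_pow_self 2 (by norm_num)).trans (hA2 ▸ Subgroup.card_subgroup_dvd_card A)
    exact (Nat.not_even_iff_odd.mpr hodd) (even_iff_two_dvd.mpr h2)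
  set φ := A.normalizerMonoidHom with hφ
  have hΛodd : Odd (Nat.card φ.range) := by
    have h1 : Nat.card φ.range ∣ Nat.card (Subgroup.normalizer (A : Set G)) :=
      Subgroup.card_range_dvd φ
    have h2 : Nat.card (Subgroup.normalizer (A : Set G)) ∣ Nat.card G :=
      Subgroup.card_subgroup_dvd_card _
    exact Odd.of_dvd_nat hodd (h1.trans h2)
  have hcomm : ∀ a b : A, a * b = b * a := fun a b => hAe.1.is_comm.comm a b
  have hexp : ∀ a : A, a ^ r = 1 := fun a => Subtype.ext (by simpa using hAe.2 a a.2)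
  have key := Cfsg.Agent.Lib.Helper17.commutator_pow_of_odd_elemAb r hr2 hcomm hexp
    (by rw [hA2]) φ.range hΛodd
  -- every commutator of `N_G(A)` acts trivially
  have hcomm' : ∀ g : Subgroup.normalizer (A : Set G), φ g * φ ⟨k, hk⟩ = φ ⟨k, hk⟩ * φ g := by
    intro g
    set h : Subgroup.normalizer (A : Set G) := ⁅g, ⟨k, hk⟩⁆ with hh
    have h1 : φ h ∈ ⁅φ.range, φ.range⁆ := by
      rw [hh, map_commutatorElement]
      exact Subgroup.commutator_mem_commutator ⟨g, rfl⟩ ⟨_, rfl⟩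
    have h2 : φ h ^ r = 1 := key _ h1
    obtain ⟨a, m, hm, hom⟩ := Nat.exists_eq_pow_mul_and_not_dvd (orderOf_pos (h : G)).ne' r
      hrp.ne_one
    have hmr : m.Coprime r := ((Nat.Prime.coprime_iff_not_dvd hrp).mpr hm).symm
    have h3 : ((h : G) ^ m) ^ r ^ a = 1 := by
      rw [← pow_mul, mul_comm, ← hom, pow_orderOf_eq_one]
    have h4 : ∀ x ∈ A, (h : G) ^ m * x = x * (h : G) ^ m :=
      comm_of_rpow_of_sylow_comm hS hAr (Subgroup.pow_mem _ h.2 m) ⟨a, h3⟩
    have h5 : φ h ^ m = 1 := by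
      rw [← map_pow]
      ext x
      rw [hφ, Subgroup.normalizerMonoidHom_apply_apply_coe]
      simp only [MulAut.one_apply]
      have := h4 x x.2
      rw [Subgroup.coe_pow] 
      rw [this, mul_assoc, mul_inv_cancel, mul_one]
    have h6 : φ h = 1 := eq_one_of_pow_coprime hmr h5 h2
    rw [hh, map_commutatorElement, commutatorElement_eq_one_iff_mul_comm] at h6
    exact h6
  apply Cfsg.Agent.Lib.Helper16.BGPrim.le_normalizer_of_conj_mem
  intro g hg a ha
  have haA : a ∈ A := ha.1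
  have hak : k * a = a * k := by
    have := Subgroup.mem_centralizer_iff.mp ha.2 k rfl
    exact this
  have hgaA : g * a * g⁻¹ ∈ A := ((Subgroup.mem_normalizer_iff.mp hg) a).mp haA
  refine Subgroup.mem_inf.mpr ⟨hgaA, ?_⟩
  rw [Subgroup.mem_centralizer_iff]
  intro y hy
  rw [Set.mem_singleton_iff] at hy
  subst hy
  have e := hcomm' ⟨g, hg⟩
  have e1 := congrArg (fun f : MulAut A => ((f ⟨a, haA⟩ : A) : G)) e
  simp only [MulAut.mul_apply, hφ, Subgroup.normalizerMonoidHom_apply_apply_coe] at e1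
  -- e1 : g * (y * a * y⁻¹) * g⁻¹ = y * (g * a * g⁻¹) * y⁻¹
  have e2 : y * a * y⁻¹ = a := by rw [hak, mul_assoc, mul_inv_cancel, mul_one]
  rw [e2] at e1
  calc y * (g * a * g⁻¹) = y * (g * a * g⁻¹) * y⁻¹ * y := by group
    _ = g * a * g⁻¹ * y := by rw [← e1]

/-- a line `X` of `A` (of order `r ^ 2`) centralized by `k`, where `k` does not centralize `A`, is
all of `C_A(k)`. -/
theorem inf_centralizer_eq_of_line [Finite G] {r : ℕ} [Fact r.Prime] {A X : Subgroup G}
    (hA2 : Nat.card A = r ^ 2) (hXA : X ≤ A) (hX : Nat.card X = r) {k : G}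
    (hXk : ∀ x ∈ X, k * x = x * k) (hnot : ∃ a ∈ A, k * a ≠ a * k) :
    A ⊓ Subgroup.centralizer ({k} : Set G) = X := by
  have hrp : r.Prime := Fact.out
  set D := A ⊓ Subgroup.centralizer ({k} : Set G) with hD
  have hXD : X ≤ D := by
    intro x hx
    refine Subgroup.mem_inf.mpr ⟨hXA hx, ?_⟩
    rw [Subgroup.mem_centralizer_iff]
    intro y hy
    rw [Set.mem_singleton_iff] at hy
    subst hy
    exact hXk x hx
  have hDA : D ≤ A := inf_le_left
  have hd1 : Nat.card D ∣ r ^ 2 := hA2 ▸ Subgroup.card_dvd_of_le hDA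
  have hd2 : r ∣ Nat.card D := hX ▸ Subgroup.card_dvd_of_le hXD
  obtain ⟨m, hm, hDm⟩ := (Nat.dvd_prime_pow hrp).mp hd1
  have hm2 : m ≠ 2 := by
    rintro rfl
    obtain ⟨a, ha, hne⟩ := hnot
    have hDeq : D = A := Subgroup.eq_of_le_of_card_ge hDA (by rw [hDm, hA2])
    have haD : a ∈ D := hDeq ▸ ha
    exact hne (Subgroup.mem_centralizer_iff.mp haD.2 k rfl)
  have hm0 : m ≠ 0 := by
    rintro rfl
    rw [hDm, pow_zero, Nat.dvd_one] at hd2
    exact hrp.ne_one hd2
  have hm1 : m = 1 := by omega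
  rw [hm1, pow_one] at hDm
  exact (Subgroup.eq_of_le_of_card_ge hXD (by rw [hDm, hX])).symm

/-- the order of the cyclic group generated by a non-identity element of an elementary abelian
`r`-group. -/
theorem card_zpowers_of_mem_elemAb {r : ℕ} [Fact r.Prime] {A : Subgroup G}
    (hAe : Cfsg.IsElementaryAbelian r A) {a : G} (ha : a ∈ A) (ha1 : a ≠ 1) :
    Nat.card (Subgroup.zpowers a) = r := by
  rw [Nat.card_zpowers]
  have h1 : orderOf a ∣ r := orderOf_dvd_of_pow_eq_one (hAe.2 a ha)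
  rcases (Nat.dvd_prime Fact.out).mp h1 with h | h
  · exact absurd (orderOf_eq_one_iff.mp h) ha1
  · exact h

/-- if `M` is the only maximal subgroup containing `C_G(X)`, then `N_G(X) ≤ M`. -/
theorem normalizer_le_of_unique [Finite G] [IsSimpleGroup G] {M X : Subgroup G} (hX1 : X ≠ ⊥)
    (hXM : X ≤ M) (hM : IsCoatom M)
    (hu : ∀ L : Subgroup G, IsCoatom L → Subgroup.centralizer (X : Set G) ≤ L → L = M) :
    Subgroup.normalizer (X : Set G) ≤ M := by
  have hXtop : X ≠ ⊤ := fun h => hM.1 (top_le_iff.mp (h ▸ hXM))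
  obtain ⟨L, hL, hNL⟩ := Cfsg.Agent.Lib.Helper17.BGU.exists_coatom_ge
    (Cfsg.Agent.Lib.Helper17.BGU.normalizer_ne_top hX1 hXtop)
  have := hu L hL ((Subgroup.centralizer_le_normalizer _).trans hNL)
  exact this ▸ hNL

end Cfsg.Agent.Lib.Helper24.BGReg
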