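/- helper24: Corollary R of notes/bg14/NOTES_h20.md (sec. 7, 8), shape CorR M of Lib/Helper2/BGCorJ, from the statement of S1428 (H28G) and Theorem R2 (HR2) as hypotheses. -/
import Mathlib
import Cfsg.Agent.Lib.Helper24.BGRegA
import Cfsg.Agent.Lib.Helper2.BGCorJ
import Cfsg.Agent.S1417
import Cfsg.Agent.S1418
import Cfsg.Agent.S1419
import Cfsg.Agent.S1423
import Cfsg.Agent.S1424

set_option autoImplicit false
set_option linter.style.haveILetI false
open scoped commutatorElement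

namespace Cfsg.Agent.Lib.Helper24.BGReg

open Cfsg
open Cfsg.Agent.Lib.Helper8 (mem_map_conj conj_mem_map_conj map_conj_map_conj map_conj_one
  map_conj_le_iff map_conj_eq_iff card_map_conj mem_normalizer_iff_map_conj)
open Cfsg.Agent.Lib.Helper2.BGCor (sigmaCore_le primes_card_sigmaCore exists_compl_sigmaCore
  conj_mem_sigmaCore elemAb_map_conj exists_conj_le_compl H28 CorR CorG1 kappa_cent
  pRankLE_one_of_kappa not_pRankLE_one_of_sq)
open Cfsg.Agent.Lib.Helper16.BGPrim (H17n H18a H23 H24 thm13_1a thm13_2_zero exists_hall_ge'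
  le_normalizer_of_conj_mem)

variable {G : Type*} [Group G]

/-- the statement of S1428, for all maximal subgroups. -/
def H28G (G : Type*) [Group G] : Prop := ∀ M : Subgroup G, IsCoatom M → H28 M

/-- the statement of Theorem R2 of the notes (`Lib/Helper17/BGR2*`). -/
def HR2 (G : Type*) [Group G] : Prop :=
  ∀ M : Subgroup G, IsCoatom M → ∀ E : Subgroup G, Cfsg.IsComplIn E (Cfsg.sigmaCore M) M →
  ∀ (r : ℕ) [Fact r.Prime], r ∈ Cfsg.tau2 M →
  (∀ S : Sylow r G, ¬ IsMulCommutative (S : Subgroup G)) →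
  ∀ A : Subgroup G, A ≤ E → Cfsg.IsElementaryAbelian r A → Nat.card A = r ^ 2 →
  ∀ k ∈ E, orderOf k ∈ Cfsg.kappa M →
  (∀ u ∈ A ⊓ Subgroup.centralizer (Cfsg.sigmaCore M : Set G), k * u = u * k) →
  ∀ a ∈ A, k * a = a * k

theorem h17n [Finite G] (hG : Cfsg.IsMinSimpleOddOrder G) : H17n G :=
  fun M hM q _ hq A hA => (Cfsg.Agent.S1417.result hG M hM q hq A hA).1

theorem h18a [Finite G] (hG : Cfsg.IsMinSimpleOddOrder G) : H18a G :=
  fun M hM E hE q _ hq A hA =>
    ⟨(Cfsg.Agent.S1418.result hG M hM E hE q hq A hA).1.1,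
      (Cfsg.Agent.S1418.result hG M hM E hE q hq A hA).2.1.2.2⟩

theorem h23 [Finite G] (hG : Cfsg.IsMinSimpleOddOrder G) : H23 G :=
  fun M hM q _ hq X hXM hX P hXd =>
    (Cfsg.Agent.S1423.result hG M hM q hq X hXM hX P (Or.inr hXd)).2

theorem h24 [Finite G] (hG : Cfsg.IsMinSimpleOddOrder G) : H24 G :=
  fun M hM q _ hq X hXq hX1 hXM Mstar hMs hne hNX S hXS =>
    Cfsg.Agent.S1424.result hG M hM q hq X hXq hX1 hXM Mstar hMs hne hNX S hXS

/-- an elementary abelian subgroup of order `r ^ 2` inside a given complement, for `r ∈ τ₂(M)`. -/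
theorem exists_elemAb_le_compl [Finite G] (hG : Cfsg.IsMinSimpleOddOrder G) {M : Subgroup G}
    (hM : IsCoatom M) {E : Subgroup G} (hE : Cfsg.IsComplIn E (Cfsg.sigmaCore M) M) {r : ℕ}
    [Fact r.Prime] (hr : r ∈ Cfsg.tau2 M) :
    ∃ A : Subgroup G, A ≤ E ∧ Cfsg.IsElementaryAbelian r A ∧ Nat.card A = r ^ 2 := by
  have hrp : r.Prime := Fact.out
  obtain ⟨hHall, -, -⟩ := Cfsg.Agent.S1350.result hG M hM
  obtain ⟨A₀, hA₀M, hA₀e, hA₀c⟩ := Cfsg.Agent.Lib.Helper23.BGY.exists_elemAb_sq hr.2.2.2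
  obtain ⟨g, hg, hgE⟩ := exists_conj_le_compl hG hM hHall hE hA₀M (by
    intro p hp hd
    rw [hA₀c] at hd
    rw [(Nat.prime_dvd_prime_iff_eq hp hrp).mp (hp.dvd_of_dvd_pow hd)]
    exact hr.2.1)
  exact ⟨_, hgE, elemAb_map_conj hA₀e g, by rw [card_map_conj, hA₀c]⟩

/-- `C_{M_σ}(A) = 1` elementwise (S1417(d)). -/
theorem eq_one_of_comm_elemAb [Finite G] (hG : Cfsg.IsMinSimpleOddOrder G) {M : Subgroup G}
    (hM : IsCoatom M) {r : ℕ} [Fact r.Prime] (hr : r ∈ Cfsg.tau2 M) {A : Subgroup G}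
    (hAM : A ≤ M) (hAe : Cfsg.IsElementaryAbelian r A) (hA2 : Nat.card A = r ^ 2) {y : G}
    (hy : y ∈ Cfsg.sigmaCore M) (hyA : ∀ a ∈ A, a * y = y * a) : y = 1 := by
  have h := (Cfsg.Agent.S1417.result hG M hM r hr A ⟨hAM, hAe, hA2⟩).2.2.2.1
  have hmem : y ∈ Cfsg.sigmaCore M ⊓ Subgroup.centralizer (A : Set G) := by
    refine Subgroup.mem_inf.mpr ⟨hy, ?_⟩
    rw [Subgroup.mem_centralizer_iff]
    intro a ha
    exact hyA a ha
  rw [h, Subgroup.mem_bot] at hmem
  exact hmem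

/-- the `τ₃` case of Corollary R: an element `k ∈ E` of order in `τ₃(M)` has `C_{M_σ}(k) = 1` as
soon as `τ₂(M) ≠ ∅`. -/
theorem eq_one_of_comm_tau3 [Finite G] (hG : Cfsg.IsMinSimpleOddOrder G) {M : Subgroup G}
    (hM : IsCoatom M) {E : Subgroup G} (hE : Cfsg.IsComplIn E (Cfsg.sigmaCore M) M) {r : ℕ}
    [Fact r.Prime] (hr : r ∈ Cfsg.tau2 M) {k : G} (hkE : k ∈ E)
    (hks : orderOf k ∈ Cfsg.tau3 M) {y : G} (hy : y ∈ Cfsg.sigmaCore M) (hky : k * y = y * k) :
    y = 1 := by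
  have hrp : r.Prime := Fact.out
  haveI := hG.2.1
  obtain ⟨A, hAE, hAe, hA2⟩ := exists_elemAb_le_compl hG hM hE hr
  set s := orderOf k with hs
  have hsp : s.Prime := hks.1
  haveI : Fact s.Prime := ⟨hsp⟩
  haveI : Group.IsSolvable ↥M := hG.2.2.2 M hM.1
  haveI : Group.IsSolvable ↥E :=
    Group.isSolvable_of_isSolvable_injective (Subgroup.inclusion_injective hE.1)
  set K := Subgroup.zpowers k with hK
  have hKE : K ≤ E := Subgroup.zpowers_le.mpr hkE
  have hKc : Nat.card K = s := by rw [hK, Nat.card_zpowers]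
  obtain ⟨E3, hE3, hKE3⟩ := exists_hall_ge' (Cfsg.tau3 M) hKE (by
    intro q hq hd
    rw [hKc] at hd
    rw [(Nat.prime_dvd_prime_iff_eq hq hsp).mp hd]
    exact hks)
  obtain ⟨-, -, h15⟩ := Cfsg.Agent.S1415.result hG M hM E hE
  obtain ⟨hE3c, -, hE3n⟩ := h15 E3 hE3
  -- `E` normalizes `K`
  have hEK : E ≤ Subgroup.normalizer (K : Set G) := by
    intro e he
    rw [mem_normalizer_iff_map_conj]
    haveI := hE3c
    have h1 : K.map (MulAut.conj e).toMonoidHom ≤ E3 := by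
      calc K.map (MulAut.conj e).toMonoidHom ≤ E3.map (MulAut.conj e).toMonoidHom :=
            Subgroup.map_mono hKE3
        _ = E3 := mem_normalizer_iff_map_conj.mp (hE3n he)
    exact Cfsg.Agent.Lib.Helper9.eq_of_card_eq_of_le_isCyclic E3 _ _ h1 hKE3 (card_map_conj K e)
  have hK1 : K ≠ ⊥ := by
    intro h
    rw [h, Subgroup.card_bot] at hKc
    exact hsp.ne_one hKc.symm
  have hKtop : K ≠ ⊤ := fun h => hM.1 (top_le_iff.mp (h ▸ hKE.trans hE.1))
  obtain ⟨N, hN, hNN⟩ := Cfsg.Agent.Lib.Helper17.BGU.exists_coatom_ge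
    (Cfsg.Agent.Lib.Helper17.BGU.normalizer_ne_top hK1 hKtop)
  have hKp : IsPGroup s K := IsPGroup.of_card (n := 1) (by rw [hKc, pow_one])
  obtain ⟨hnc, -, -⟩ := thm13_2_zero hG hN hks.2.1 hks.2.2.2 hKp hK1 hNN
  have hAN : A ≤ N := (hAE.trans hEK).trans hNN
  have hAM : A ≤ M := hAE.trans hE.1
  have hrτ1 : r ∉ Cfsg.tau1 N := fun h => not_pRankLE_one_of_sq hrp hAN hAe hA2 h.2.2.2.2
  have hAr : IsPGroup r A := IsPGroup.of_card hA2
  have hyN : y ∈ N := by
    apply hNN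
    apply Subgroup.centralizer_le_normalizer
    rw [Subgroup.mem_centralizer_iff]
    intro z hz
    obtain ⟨i, rfl⟩ := Subgroup.mem_zpowers_iff.mp hz
    exact ((Commute.zpow_left (show Commute k y from hky) i)).eq
  have h13 := thm13_1a hG (h17n hG) (h18a hG) (h23 hG) (h24 hG) hM hN hnc hr.2.1 hAr hAM hAN hrτ1
    y (Subgroup.mem_inf.mpr ⟨hy, hyN⟩)
  exact eq_one_of_comm_elemAb hG hM hr hAM hAe hA2 hy h13

theorem comm_zpowers {a b : G} (h : a * b = b * a) : ∀ z ∈ Subgroup.zpowers b, a * z = z * a := by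
  intro z hz
  obtain ⟨i, rfl⟩ := Subgroup.mem_zpowers_iff.mp hz
  exact ((Commute.zpow_right (show Commute a b from h) i)).eq

/-- **Corollary R** of `notes/bg14/NOTES_h20.md` for elements of a complement `E`. -/
theorem corR_compl [Finite G] (hG : Cfsg.IsMinSimpleOddOrder G) (h28 : H28G G) (hR2 : HR2 G)
    {M : Subgroup G} (hM : IsCoatom M) {E : Subgroup G}
    (hE : Cfsg.IsComplIn E (Cfsg.sigmaCore M) M) {k x : G} (hkE : k ∈ E)
    (hks : orderOf k ∈ Cfsg.kappa M) (hxE : x ∈ E) (hxk : x * k = k * x)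
    (hxr : orderOf x ∈ Cfsg.tau2 M) : False := by
  haveI := hG.2.1
  set r := orderOf x with hr
  have hrp : r.Prime := hxr.1
  haveI : Fact r.Prime := ⟨hrp⟩
  set s := orderOf k with hs
  have hsp : s.Prime := hks.1
  obtain ⟨y, hy, hy1, hky⟩ := kappa_cent hks (hE.1 hkE) rfl
  by_cases hd : s ∣ Nat.card ↥⁅M, M⁆
  · have hs3 : s ∈ Cfsg.tau3 M := ⟨hsp, hks.2.2.1, hd, pRankLE_one_of_kappa hks⟩
    exact hy1 (eq_one_of_comm_tau3 hG hM hE hxr hkE hs3 hy hky)
  have hs1 : s ∈ Cfsg.tau1 M := ⟨hsp, hks.2.2.1, hks.2.1, hd, pRankLE_one_of_kappa hks⟩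
  obtain ⟨A, hAE, hAe, hA2⟩ := exists_elemAb_le_compl hG hM hE hxr
  obtain ⟨⟨hEA, hXA⟩, ⟨-, -, hNAM⟩, hlast⟩ :=
    Cfsg.Agent.S1418.result hG M hM E hE r hxr A ⟨hAE, hAe, hA2⟩
  set K := Subgroup.zpowers k with hK
  set X := Subgroup.zpowers x with hX
  have hKE : K ≤ E := Subgroup.zpowers_le.mpr hkE
  have hKc : Nat.card K = s := by rw [hK, Nat.card_zpowers]
  have hXE : X ≤ E := Subgroup.zpowers_le.mpr hxE
  have hXc : Nat.card X = r := by rw [hX, Nat.card_zpowers]
  have hXleA : X ≤ A := hXA X hXE hXc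
  have hyK : y ∈ Cfsg.sigmaCore M ⊓ Subgroup.centralizer (K : Set G) := by
    refine Subgroup.mem_inf.mpr ⟨hy, ?_⟩
    rw [Subgroup.mem_centralizer_iff]
    intro z hz
    exact (comm_zpowers hky.symm z hz).symm
  -- S1428: `y` commutes with every element of prime order of `C_E(k)`
  have key : ∀ a ∈ E, (orderOf a).Prime → a * k = k * a → a * y = y * a := by
    intro a haE hap hak
    have hle : Subgroup.zpowers a ≤ E ⊓ Subgroup.centralizer (K : Set G) := by
      rw [Subgroup.zpowers_le]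
      refine Subgroup.mem_inf.mpr ⟨haE, ?_⟩
      rw [Subgroup.mem_centralizer_iff]
      intro z hz
      exact (comm_zpowers hak z hz).symm
    have h1 := h28 M hM E hE s hs1 K hKE hKc (Subgroup.zpowers a) hle
      (by rw [Nat.card_zpowers]; exact hap) hyK
    exact Subgroup.mem_centralizer_iff.mp h1.2 a (Subgroup.mem_zpowers a)
  by_cases hkA : ∀ a ∈ A, k * a = a * k
  · apply hy1
    apply eq_one_of_comm_elemAb hG hM hxr (hAE.trans hE.1) hAe hA2 hy
    intro a ha
    by_cases ha1 : a = 1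
    · rw [ha1, one_mul, mul_one]
    · exact key a (hAE ha)
        (by rw [← Nat.card_zpowers, card_zpowers_of_mem_elemAb hAe ha ha1]; exact hrp)
        (hkA a ha).symm
  · push Not at hkA
    have hxy : x * y = y * x := key x hxE hrp hxk
    have hX1 : Cfsg.sigmaCore M ⊓ Subgroup.centralizer (X : Set G) ≠ ⊥ := by
      intro h
      apply hy1
      have hmem : y ∈ Cfsg.sigmaCore M ⊓ Subgroup.centralizer (X : Set G) := by
        refine Subgroup.mem_inf.mpr ⟨hy, ?_⟩
        rw [Subgroup.mem_centralizer_iff]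
        intro z hz
        exact (comm_zpowers hxy.symm z hz).symm
      rw [h, Subgroup.mem_bot] at hmem
      exact hmem
    obtain ⟨-, huniq⟩ := hlast X hXleA hXc hX1
    have hXne : X ≠ ⊥ := by
      intro h
      rw [h, Subgroup.card_bot] at hXc
      exact hrp.ne_one hXc.symm
    have hNXM : Subgroup.normalizer (X : Set G) ≤ M :=
      normalizer_le_of_unique hXne (hXE.trans hE.1) hM huniq
    have hkNA : k ∈ Subgroup.normalizer (A : Set G) := hEA hkE
    have hline := inf_centralizer_eq_of_line hA2 hXleA hXc (comm_zpowers hxk.symm) hkA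
    have hS : ∀ S : Sylow r G, ¬ IsMulCommutative (S : Subgroup G) := by
      intro S hSc
      have h1 := normalizer_le_normalizer_inf_centralizer hG.1 ⟨S, hSc⟩ hAe hA2 hkNA
      rw [hline] at h1
      exact hNAM (h1.trans hNXM)
    obtain ⟨-, -, h19⟩ := Cfsg.Agent.S1419.result hG M hM E hE r hxr hS A ⟨hAE, hAe, hA2⟩
    have hXeq : X = A ⊓ Subgroup.centralizer (Cfsg.sigmaCore M : Set G) := by
      by_contra hne
      exact hX1 (h19 X hXE hXc hne).1
    obtain ⟨a, ha, hne⟩ := hkA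
    apply hne
    apply hR2 M hM E hE r hxr hS A hAE hAe hA2 k hkE hks _ a ha
    intro u hu
    rw [← hXeq] at hu
    exact comm_zpowers hxk.symm u hu

/-- commuting elements of coprime orders both lie in the cyclic group generated by their
product. -/
theorem mem_zpowers_mul_of_coprime {a b : G} (hab : a * b = b * a)
    (hcop : (orderOf a).Coprime (orderOf b)) (ha : orderOf a ≠ 0) :
    a ∈ Subgroup.zpowers (a * b) := by
  have hc : Commute a b := hab
  have h1 : (a * b) ^ orderOf b = a ^ orderOf b := by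
    rw [hc.mul_pow, pow_orderOf_eq_one, mul_one]
  have h2 : Subgroup.zpowers (a ^ orderOf b) = Subgroup.zpowers a := by
    haveI : Finite (Subgroup.zpowers a) := by
      apply Nat.finite_of_card_ne_zero
      rw [Nat.card_zpowers]
      exact ha
    apply Subgroup.eq_of_le_of_card_ge
      (Subgroup.zpowers_le.mpr (Subgroup.pow_mem _ (Subgroup.mem_zpowers a) _))
    rw [Nat.card_zpowers, Nat.card_zpowers, hcop.orderOf_pow]
  have h3 : a ∈ Subgroup.zpowers (a ^ orderOf b) := h2 ▸ Subgroup.mem_zpowers a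
  rw [← h1] at h3
  exact (Subgroup.zpowers_le.mpr (Subgroup.pow_mem _ (Subgroup.mem_zpowers _) _)) h3

/-- **Corollary R** of `notes/bg14/NOTES_h20.md`, in the shape `CorR M` of `Lib/Helper2/BGCorJ`:
no element of `M` of prime order in `κ(M)` commutes with an element of `M` of prime order in
`τ₂(M)`.  Hypotheses: the statement of S1428 and Theorem R2. -/
theorem corR [Finite G] (hG : Cfsg.IsMinSimpleOddOrder G) (h28 : H28G G) (hR2 : HR2 G)
    {M : Subgroup G} (hM : IsCoatom M) : CorR M := by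
  intro k hkM hks x hxM hxk hxr
  obtain ⟨hHall, -, -⟩ := Cfsg.Agent.S1350.result hG M hM
  obtain ⟨E, hE⟩ := exists_compl_sigmaCore hHall
  have hsp : (orderOf k).Prime := hks.1
  have hrp : (orderOf x).Prime := hxr.1
  have hne : orderOf k ≠ orderOf x := by
    intro h
    exact hxr.2.2.2 (h ▸ pRankLE_one_of_kappa hks)
  have hcop : (orderOf k).Coprime (orderOf x) := (Nat.coprime_primes hsp hrp).mpr hne
  have hkz : k ∈ Subgroup.zpowers (k * x) :=
    mem_zpowers_mul_of_coprime hxk.symm hcop hsp.ne_zero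
  have hxz : x ∈ Subgroup.zpowers (k * x) := by
    have := mem_zpowers_mul_of_coprime hxk hcop.symm hrp.ne_zero
    rwa [hxk] at this
  have hYM : Subgroup.zpowers (k * x) ≤ M := Subgroup.zpowers_le.mpr (M.mul_mem hkM hxM)
  have hYc : Nat.card (Subgroup.zpowers (k * x)) = orderOf k * orderOf x := by
    rw [Nat.card_zpowers]
    exact (show Commute k x from hxk.symm).orderOf_mul_eq_mul_orderOf_of_coprime hcop
  obtain ⟨g, hg, hgE⟩ := exists_conj_le_compl hG hM hHall hE hYM (by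
    intro p hp hd
    rw [hYc] at hd
    rcases (Nat.Prime.dvd_mul hp).mp hd with h | h
    · rw [(Nat.prime_dvd_prime_iff_eq hp hsp).mp h]
      exact hks.2.2.1
    · rw [(Nat.prime_dvd_prime_iff_eq hp hrp).mp h]
      exact hxr.2.1)
  have hk' : g * k * g⁻¹ ∈ E := hgE (conj_mem_map_conj hkz)
  have hx' : g * x * g⁻¹ ∈ E := hgE (conj_mem_map_conj hxz)
  have ho : ∀ a : G, orderOf (g * a * g⁻¹) = orderOf a := fun a =>
    orderOf_injective (MulAut.conj g).toMonoidHom (MulAut.conj g).injective a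
  apply corR_compl hG h28 hR2 hM hE hk' (by rw [ho]; exact hks) hx' _ (by rw [ho]; exact hxr)
  calc g * x * g⁻¹ * (g * k * g⁻¹) = g * (x * k) * g⁻¹ := by group
    _ = g * (k * x) * g⁻¹ := by rw [hxk]
    _ = g * k * g⁻¹ * (g * x * g⁻¹) := by group

end Cfsg.Agent.Lib.Helper24.BGReg
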