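/- helper24: Corollary G1 of notes/bg14/NOTES_h20.md, general lemmas: normal p-complements and coprime action, an invariant complement to the fixed line of a plane (Maschke via averaging), cyclic Sylow subgroups from rank one. -/
import Mathlib
import Cfsg.Agent.Lib.Helper24.BGRegA
import Cfsg.Agent.Lib.Helper24.BGBeta2
import Cfsg.Agent.Lib.Helper24.BG36AbB
import Cfsg.Agent.Lib.Helper12.PPrimeP

set_option autoImplicit false
set_option linter.style.haveILetI false
open scoped commutatorElement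

namespace Cfsg.Agent.Lib.Helper24.BGReg

universe u

/-! ### normal `p`-complements -/

/-- in a group with a normal `p`-complement, a `q`-subgroup (`q ≠ p`) normalizing a `p`-subgroup
centralizes it. -/
theorem comm_of_hasNormalPComplement {X : Type u} [Group X] [Finite X] {p q : ℕ} [Fact p.Prime]
    (hq : q.Prime) (hpq : p ≠ q) (h : Cfsg.HasNormalPComplement p X) {A Q : Subgroup X}
    (hA : IsPGroup p A) (hQ : IsPGroup q Q) (hQA : Q ≤ Subgroup.normalizer (A : Set X)) :
    ∀ a ∈ A, ∀ s ∈ Q, s * a = a * s := by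
  have hp : p.Prime := Fact.out
  obtain ⟨k, hk⟩ := Cfsg.Agent.Lib.Helper24.BGBeta.exists_pow_index_pPrimeCore h
  haveI : (Cfsg.pPrimeCore p X).Normal := Cfsg.Agent.Lib.Helper12.pPrimeCore_normal' p
  have hQK : Q ≤ Cfsg.pPrimeCore p X :=
    Cfsg.Agent.Lib.Helper24.BGBeta.le_of_index_pow hp hq hpq _ hk Q hQ
  have hcop : (Nat.card A).Coprime (Nat.card (Cfsg.pPrimeCore p X)) := by
    obtain ⟨j, hj⟩ := IsPGroup.iff_card.mp hA
    rw [hj]
    exact Nat.Coprime.pow_left j (Cfsg.Agent.Lib.Helper12.pPrimeCore_coprime (X := X) p).symm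
  have hbot : A ⊓ Cfsg.pPrimeCore p X = ⊥ := (Subgroup.disjoint_of_coprime_natCard hcop).eq_bot
  intro a ha s hs
  have h1 : s * a * s⁻¹ * a⁻¹ ∈ A :=
    A.mul_mem (((Subgroup.mem_normalizer_iff.mp (hQA hs)) a).mp ha) (A.inv_mem ha)
  have h2 : s * a * s⁻¹ * a⁻¹ ∈ Cfsg.pPrimeCore p X := by
    have h3 : a * s⁻¹ * a⁻¹ ∈ Cfsg.pPrimeCore p X :=
      Subgroup.Normal.conj_mem inferInstance _ (Subgroup.inv_mem _ (hQK hs)) a
    have e : s * a * s⁻¹ * a⁻¹ = s * (a * s⁻¹ * a⁻¹) := by group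
    rw [e]
    exact Subgroup.mul_mem _ (hQK hs) h3
  have h4 : s * a * s⁻¹ * a⁻¹ ∈ A ⊓ Cfsg.pPrimeCore p X := Subgroup.mem_inf.mpr ⟨h1, h2⟩
  rw [hbot, Subgroup.mem_bot] at h4
  calc s * a = (s * a * s⁻¹ * a⁻¹) * a * s := by group
    _ = a * s := by rw [h4, one_mul]

/-- the same for subgroups of `G` inside a subgroup `N` having a normal `p`-complement. -/
theorem comm_of_hasNormalPComplement' {G : Type u} [Group G] [Finite G] {p q : ℕ} [Fact p.Prime]
    (hq : q.Prime) (hpq : p ≠ q) {N : Subgroup G} (h : Cfsg.HasNormalPComplement p ↥N)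
    {A Q : Subgroup G} (hAN : A ≤ N) (hQN : Q ≤ N)
    (hA : IsPGroup p A) (hQ : IsPGroup q Q) (hQA : Q ≤ Subgroup.normalizer (A : Set G)) :
    ∀ a ∈ A, ∀ s ∈ Q, s * a = a * s := by
  have hA' : IsPGroup p ↥(A.subgroupOf N) := hA.comap_subtype
  have hQ' : IsPGroup q ↥(Q.subgroupOf N) := hQ.comap_subtype
  have hQA' : Q.subgroupOf N ≤ Subgroup.normalizer ((A.subgroupOf N : Subgroup ↥N) : Set ↥N) := by
    intro s hs
    rw [Subgroup.mem_normalizer_iff]
    intro a
    rw [Subgroup.mem_subgroupOf, Subgroup.mem_subgroupOf]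
    exact (Subgroup.mem_normalizer_iff.mp (hQA (Subgroup.mem_subgroupOf.mp hs))) a
  intro a ha s hs
  have := comm_of_hasNormalPComplement hq hpq h hA' hQ' hQA' ⟨a, hAN ha⟩
    (Subgroup.mem_subgroupOf.mpr ha) ⟨s, hQN hs⟩ (Subgroup.mem_subgroupOf.mpr hs)
  exact congrArg Subtype.val this

/-! ### an invariant complement to the fixed line (Maschke) -/

section Line

open Cfsg.Agent.Lib.Helper24.BG36Ab
open scoped IsMulCommutative

variable {G : Type*} [Group G] [Finite G]

/-- the average is invariant under precomposition with a conjugation from `R`. -/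
theorem avg_conjHom (V : Subgroup G) [IsMulCommutative V] (R : Subgroup G)
    (hR : R ≤ Subgroup.normalizer (V : Set G)) (c : R) (v : V) :
    avg V R hR (BG36Ab.conjHom V ⟨c, hR c.2⟩ v) = avg V R hR v := by
  rw [avg_apply, avg_apply]
  letI : Fintype R := Fintype.ofFinite R
  show (∏ b : R, BG36Ab.conjHom V ⟨b, hR b.2⟩ (BG36Ab.conjHom V ⟨c, hR c.2⟩ v)) = ∏ b : R, BG36Ab.conjHom V ⟨b, hR b.2⟩ v
  apply Fintype.prod_equiv (Equiv.mulRight c)
  intro b
  apply Subtype.ext
  rw [conjHom_coe, conjHom_coe, conjHom_coe]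
  simp [mul_assoc]

/-- **Maschke for a plane**: `A` elementary abelian of order `p ^ 2`, `R ≤ N_G(A)` of order prime
to `p` with `|C_A(R)| = p`.  Then `A` has an `R`-invariant subgroup `B` of order `p` with
`C_B(R) = 1`. -/
theorem exists_compl_line {p : ℕ} [Fact p.Prime] {A R : Subgroup G}
    (hAe : Cfsg.IsElementaryAbelian p A) (hA2 : Nat.card A = p ^ 2)
    (hRA : R ≤ Subgroup.normalizer (A : Set G)) (hcop : (Nat.card R).Coprime p)
    (hC : Nat.card ↥(A ⊓ Subgroup.centralizer (R : Set G)) = p) :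
    ∃ B : Subgroup G, B ≤ A ∧ Nat.card B = p ∧ R ≤ Subgroup.normalizer (B : Set G) ∧
      B ⊓ Subgroup.centralizer (R : Set G) = ⊥ := by
  have hpp : p.Prime := Fact.out
  haveI := hAe.1
  set f := avg A R hRA with hf
  set B : Subgroup G := f.ker.map A.subtype with hB
  have hBA : B ≤ A := Subgroup.map_subtype_le _
  have hmemB : ∀ v : G, v ∈ B ↔ ∃ hv : v ∈ A, f ⟨v, hv⟩ = 1 := by
    intro v
    constructor
    · rintro ⟨w, hw, rfl⟩
      exact ⟨w.2, MonoidHom.mem_ker.mp hw⟩
    · rintro ⟨hv, h1⟩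
      exact ⟨⟨v, hv⟩, MonoidHom.mem_ker.mpr h1, rfl⟩
  -- `B ∩ C(R) = 1`
  have hBC : B ⊓ Subgroup.centralizer (R : Set G) = ⊥ := by
    rw [eq_bot_iff]
    intro v hv
    rw [Subgroup.mem_bot]
    obtain ⟨hvA, h1⟩ := (hmemB v).mp hv.1
    have hfix : ∀ b ∈ R, b * ((⟨v, hvA⟩ : A) : G) * b⁻¹ = ((⟨v, hvA⟩ : A) : G) := by
      intro b hb
      have := Subgroup.mem_centralizer_iff.mp hv.2 b hb
      show b * v * b⁻¹ = v
      rw [this, mul_assoc, mul_inv_cancel, mul_one]
    have h2 := avg_of_fixed A R hRA ⟨v, hvA⟩ hfix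
    rw [← hf, h1] at h2
    have h3 : v ^ Nat.card R = 1 := by
      have := congrArg (fun w : A => (w : G)) h2.symm
      simpa using this
    exact eq_one_of_pow_coprime hcop h3 (hAe.2 v hvA)
  -- `R` normalizes `B`
  have hRB : R ≤ Subgroup.normalizer (B : Set G) := by
    apply Cfsg.Agent.Lib.Helper16.BGPrim.le_normalizer_of_conj_mem
    intro c hc v hv
    obtain ⟨hvA, h1⟩ := (hmemB v).mp hv
    have hcv : c * v * c⁻¹ ∈ A := ((Subgroup.mem_normalizer_iff.mp (hRA hc)) v).mp hvA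
    refine (hmemB _).mpr ⟨hcv, ?_⟩
    have := avg_conjHom A R hRA ⟨c, hc⟩ ⟨v, hvA⟩
    rw [← hf, h1] at this
    rw [← this]
    rfl
  refine ⟨B, hBA, ?_, hRB, hBC⟩
  -- the order of `B`
  have hcardB : Nat.card B = Nat.card f.ker :=
    Subgroup.card_map_of_injective A.subtype_injective
  have hkr : Nat.card f.ker * Nat.card f.range = p ^ 2 := by
    rw [← hA2, ← Subgroup.index_ker f]
    exact Subgroup.card_mul_index f.ker
  have hrange : f.range ≤ (A ⊓ Subgroup.centralizer (R : Set G)).subgroupOf A := by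
    rintro _ ⟨v, rfl⟩
    rw [Subgroup.mem_subgroupOf]
    exact Subgroup.mem_inf.mpr ⟨(f v).2, avg_mem_centralizer A R hRA v⟩
  have hcardC : Nat.card ((A ⊓ Subgroup.centralizer (R : Set G)).subgroupOf A) = p := by
    rw [Cfsg.Agent.Lib.Helper1.card_subgroupOf_of_le inf_le_left, hC]
  have hrd : Nat.card f.range ∣ p := hcardC ▸ Subgroup.card_dvd_of_le hrange
  rcases (Nat.dvd_prime hpp).mp hrd with h | h
  · -- the range is trivial: then `A = B`, impossible
    exfalso
    rw [h, mul_one] at hkr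
    have hBeq : B = A := Subgroup.eq_of_le_of_card_ge hBA (by rw [hcardB, hkr, hA2])
    have hle : A ⊓ Subgroup.centralizer (R : Set G) ≤ B ⊓ Subgroup.centralizer (R : Set G) := by
      rw [hBeq]
    rw [hBC] at hle
    have := Subgroup.card_le_of_le hle
    rw [hC, Subgroup.card_bot] at this
    exact absurd hpp.one_lt (not_lt.mpr this)
  · rw [h, sq] at hkr
    rw [hcardB]
    exact Nat.eq_of_mul_eq_mul_right hpp.pos hkr

end Line

/-! ### cyclic Sylow subgroups -/

/-- in a group of odd order, the Sylow `q`-subgroups of a subgroup `H` of `q`-rank at most one are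
cyclic. -/
theorem isCyclic_sylow_of_pRankLE_one {G : Type*} [Group G] [Finite G] (hodd : Odd (Nat.card G))
    {H : Subgroup G} {q : ℕ} [Fact q.Prime] (hr : Cfsg.PRankLE q 1 ↥H) (P : Sylow q ↥H) :
    IsCyclic ↥(P : Subgroup ↥H) := by
  have hqp : q.Prime := Fact.out
  set P' : Subgroup G := (P : Subgroup ↥H).map H.subtype with hP'
  have hP'H : P' ≤ H := Subgroup.map_subtype_le _
  have hP'q : IsPGroup q P' := P.isPGroup'.map _
  have hcyc : IsCyclic ↥P' := by
    apply Cfsg.Agent.Lib.Helper23.BGY.isCyclic_of_rank_one_nilpotent hodd hP'H hP'q.isNilpotent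
    intro r hrp hd
    obtain ⟨k, hk⟩ := IsPGroup.iff_card.mp hP'q
    rw [hk] at hd
    rw [(Nat.prime_dvd_prime_iff_eq hrp hqp).mp (hrp.dvd_of_dvd_pow hd)]
    exact hr
  let e : ↥(P : Subgroup ↥H) ≃* ↥P' :=
    (P : Subgroup ↥H).equivMapOfInjective H.subtype H.subtype_injective
  exact isCyclic_of_surjective e.symm.toMonoidHom e.symm.surjective

end Cfsg.Agent.Lib.Helper24.BGReg
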