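/- helper24: Corollary G1 of notes/bg14/NOTES_h20.md, part 1: the setup in the tau2 case (complement of H_sigma containing T X and A) and (5.1): no subgroup of prime order of T = C_{M_sigma}(X) centralizes A. -/
import Mathlib
import Cfsg.Agent.Lib.Helper24.BGRegB
import Cfsg.Agent.Lib.Helper24.BGRegC
import Cfsg.Agent.Lib.Helper2.BGCorI
import Cfsg.Agent.S1408
import Cfsg.Agent.S1414
import Cfsg.Agent.S1416
import Cfsg.Agent.S1422

set_option autoImplicit false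
set_option linter.style.haveILetI false
open scoped commutatorElement

namespace Cfsg.Agent.Lib.Helper24.BGReg

open Cfsg.Agent.Lib.Helper8 (mem_map_conj conj_mem_map_conj map_conj_map_conj map_conj_one
  map_conj_le_iff map_conj_eq_iff card_map_conj mem_normalizer_iff_map_conj)
open Cfsg.Agent.Lib.Helper2.BGCor (sigmaCore_le primes_card_sigmaCore exists_compl_sigmaCore
  conj_mem_sigmaCore elemAb_map_conj exists_conj_le_compl H28 CorR CorG1 kappa_cent
  pRankLE_one_of_kappa not_pRankLE_one_of_sq)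
open Cfsg.Agent.Lib.Helper16.BGPrim (H17n H18a H23 H24 thm13_1a thm13_2_zero thm13_2_c
  exists_hall_ge' le_normalizer_of_conj_mem lemmaW lemmaX exists_normal_isSylIn
  le_sigmaCore_of_isPGroup)
open Cfsg.Agent.Lib.Helper23.BGY (le_normalizer_sigmaCore exists_conj_mem_compl isComplIn_conj
  mem_tau2_of_not_rank_one exists_elemAb_sq)

variable {G : Type*} [Group G]

/-- the setup of Corollary G1 in the `τ₂` case: `p ∈ κ(M)`, `X ≤ M` of order `p`, `H ⊇ N_G(X)`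
maximal with `p ∈ τ₂(H)`.  Then `H` is not conjugate to `M`, `T = C_{M_σ}(X)` has order prime to
`|H_σ|` and some complement `E` of `H_σ` in `H` contains `T X` and an elementary abelian subgroup
`A ⊇ X` of order `p ^ 2`. -/
theorem g1_setup [Finite G] (hG : Cfsg.IsMinSimpleOddOrder G) {M H : Subgroup G}
    (hM : IsCoatom M) (hH : IsCoatom H) {p : ℕ} [Fact p.Prime] (hpκ : p ∈ Cfsg.kappa M)
    {X : Subgroup G} (hXc : Nat.card X = p)
    (hNX : Subgroup.normalizer (X : Set G) ≤ H) (hτ : p ∈ Cfsg.tau2 H) :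
    (∀ g : G, H ≠ M.map (MulAut.conj g).toMonoidHom) ∧
    (Nat.card ↥(Cfsg.sigmaCore M ⊓ Subgroup.centralizer (X : Set G))).Coprime
      (Nat.card (Cfsg.sigmaCore H)) ∧
    ∃ E A : Subgroup G, Cfsg.IsComplIn E (Cfsg.sigmaCore H) H ∧
      Cfsg.sigmaCore M ⊓ Subgroup.centralizer (X : Set G) ≤ E ∧ X ≤ A ∧
      A ≤ E ∧ Cfsg.IsElementaryAbelian p A ∧ Nat.card A = p ^ 2 := by
  have hpp : p.Prime := Fact.out
  haveI := hG.2.1
  have hpM : p ∉ Cfsg.sigma M := hpκ.2.2.1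
  have hXp : IsPGroup p X := IsPGroup.of_card (n := 1) (by rw [hXc, pow_one])
  have hX1 : X ≠ ⊥ := by
    intro h
    rw [h, Subgroup.card_bot] at hXc
    exact hpp.ne_one hXc.symm
  obtain ⟨hnc, -, -⟩ := thm13_2_zero hG hH hpM (pRankLE_one_of_kappa hpκ) hXp hX1 hNX
  have hXH : X ≤ H := Subgroup.le_normalizer.trans hNX
  set T := Cfsg.sigmaCore M ⊓ Subgroup.centralizer (X : Set G) with hT
  have hTσ : T ≤ Cfsg.sigmaCore M := inf_le_left
  have hTH : T ≤ H := inf_le_right.trans ((Subgroup.centralizer_le_normalizer _).trans hNX)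
  have hXT : X ≤ Subgroup.normalizer (T : Set G) := by
    apply le_normalizer_of_conj_mem
    intro s hs t ht
    have h1 : s * t = t * s := Subgroup.mem_centralizer_iff.mp ht.2 s hs
    rw [h1, mul_assoc, mul_inv_cancel, mul_one]
    exact ht
  have hpH : p ∉ Cfsg.sigma H := hτ.2.1
  obtain ⟨A0, hA0H, hA0e, hA0c⟩ := exists_elemAb_sq (p := p) hτ.2.2.2
  have hnil : Group.IsNilpotent (Cfsg.sigmaCore H) := h17n hG H hH p hτ A0 ⟨hA0H, hA0e, hA0c⟩
  have hpHσ : ¬ p ∣ Nat.card (Cfsg.sigmaCore H) := fun hd =>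
    hpH (primes_card_sigmaCore H p hpp hd)
  have hcopT : (Nat.card T).Coprime (Nat.card (Cfsg.sigmaCore H)) := by
    apply Nat.coprime_of_dvd
    intro q hq hqT hqH
    haveI : Fact q.Prime := ⟨hq⟩
    have hqσM : q ∈ Cfsg.sigma M :=
      primes_card_sigmaCore M q hq (hqT.trans (Subgroup.card_dvd_of_le hTσ))
    have hqσH : q ∈ Cfsg.sigma H := primes_card_sigmaCore H q hq hqH
    obtain ⟨QH, hQH, hQHn⟩ := exists_normal_isSylIn hG hH hnil hqσH
    obtain ⟨y, hy⟩ := exists_prime_orderOf_dvd_card' q hqT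
    obtain ⟨Y, hYdef⟩ : ∃ Y : Subgroup G, Y = Subgroup.zpowers (y : G) := ⟨_, rfl⟩
    have hYcard : Nat.card Y = q := by
      rw [hYdef, Nat.card_zpowers, Subgroup.orderOf_coe, hy]
    have hYT : Y ≤ T := by
      rw [hYdef]; exact Subgroup.zpowers_le.mpr y.2
    have hYq : IsPGroup q Y := IsPGroup.of_card (n := 1) (by rw [hYcard, pow_one])
    have hYbot := lemmaW hG (h24 hG) hM hH hnc hqσM hqσH hQH hQHn hYq
      (hYT.trans (hTσ.trans (sigmaCore_le M))) (hYT.trans hTH)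
    rw [hYbot, Subgroup.card_bot] at hYcard
    exact (ne_of_lt hq.one_lt) hYcard
  refine ⟨hnc, hcopT, ?_⟩
  have hcopS : (Nat.card X).Coprime (Nat.card (Cfsg.sigmaCore H)) := by
    rw [hXc]
    exact (Nat.Prime.coprime_iff_not_dvd hpp).mpr hpHσ
  have hcopTS : (Nat.card T).Coprime (Nat.card X) :=
    (Cfsg.Agent.Lib.Helper16.BGPrim.coprime_of_not_mem_sigma hpM hXp hTσ).symm
  have hdisj : Disjoint T X := Subgroup.disjoint_of_coprime_natCard hcopTS
  have hcardTS : Nat.card T * Nat.card X = Nat.card ↥(T ⊔ X) :=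
    (Cfsg.Agent.Lib.Helper1.isComplIn_sup hXT hdisj).card_mul_card
  have hcopH : (Nat.card ↥(T ⊔ X)).Coprime (Nat.card (Cfsg.sigmaCore H)) := by
    rw [← hcardTS]
    exact Nat.Coprime.mul_left hcopT hcopS
  obtain ⟨hHall, -, -⟩ := Cfsg.Agent.S1350.result hG H hH
  obtain ⟨E2, hE2⟩ := exists_compl_sigmaCore hHall
  have hTSH : T ⊔ X ≤ H := sup_le hTH hXH
  have hsolvσ : Group.IsSolvable (Cfsg.sigmaCore H) := by
    haveI := hnil
    infer_instance
  obtain ⟨k, hk, hkTS⟩ := exists_conj_mem_compl (le_normalizer_sigmaCore H) hE2 hTSH hcopH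
    (Or.inr hsolvσ)
  have hkH : k ∈ H := sigmaCore_le H hk
  obtain ⟨E3, hE3def⟩ : ∃ E3 : Subgroup G, E3 = E2.map (MulAut.conj k).toMonoidHom := ⟨_, rfl⟩
  have hE3 : Cfsg.IsComplIn E3 (Cfsg.sigmaCore H) H :=
    hE3def ▸ isComplIn_conj (le_normalizer_sigmaCore H) hE2 hkH
  have hTSE : T ⊔ X ≤ E3 := fun a ha => hE3def ▸ mem_map_conj.mpr (hkTS a ha)
  obtain ⟨A, hAE3, hAe, hAc⟩ := exists_elemAb_le_compl hG hH hE3 hτ
  obtain ⟨⟨-, hXA⟩, -, -⟩ := Cfsg.Agent.S1418.result hG H hH E3 hE3 p hτ A ⟨hAE3, hAe, hAc⟩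
  exact ⟨E3, A, hE3, le_sup_left.trans hTSE, hXA X (le_sup_right.trans hTSE) hXc, hAE3, hAe, hAc⟩

theorem h16 [Finite G] (hG : Cfsg.IsMinSimpleOddOrder G) : Cfsg.Agent.Lib.Helper23.BGY.H16 G :=
  fun M hM p _ A hA => (Cfsg.Agent.S1416.result hG M hM p A hA).1

theorem h17 [Finite G] (hG : Cfsg.IsMinSimpleOddOrder G) : Cfsg.Agent.Lib.Helper23.BGY.H17 G :=
  fun M hM p _ hp A hA =>
    ⟨fun P => ((Cfsg.Agent.S1417.result hG M hM p hp A hA).2.1 P).1,
      (Cfsg.Agent.S1417.result hG M hM p hp A hA).2.2.2.2.1⟩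

theorem h18e [Finite G] (hG : Cfsg.IsMinSimpleOddOrder G) : Cfsg.Agent.Lib.Helper2.BGCor.H18e G :=
  fun M hM E hE p _ hp A hA => (Cfsg.Agent.S1418.result hG M hM E hE p hp A hA).2.1.2.1

/-- **(5.1)** of the notes, for every subgroup of prime order of `T = C_{M_σ}(X)`: it does not
centralize `A`. -/
theorem g1_not_centralize [Finite G] (hG : Cfsg.IsMinSimpleOddOrder G) {M H : Subgroup G}
    (hM : IsCoatom M) (hH : IsCoatom H) {p : ℕ} [Fact p.Prime] (hpκ : p ∈ Cfsg.kappa M)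
    {X : Subgroup G} (hXM : X ≤ M) (hXc : Nat.card X = p) (hτ : p ∈ Cfsg.tau2 H)
    {E A : Subgroup G} (hE : Cfsg.IsComplIn E (Cfsg.sigmaCore H) H)
    (hTE : Cfsg.sigmaCore M ⊓ Subgroup.centralizer (X : Set G) ≤ E) (hXA : X ≤ A) (hAE : A ≤ E)
    (hAe : Cfsg.IsElementaryAbelian p A) (hA2 : Nat.card A = p ^ 2) {Y : Subgroup G}
    (hYT : Y ≤ Cfsg.sigmaCore M ⊓ Subgroup.centralizer (X : Set G)) {q : ℕ} (hq : q.Prime)
    (hYc : Nat.card Y = q) (hYA : ∀ y ∈ Y, ∀ a ∈ A, y * a = a * y) : False := by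
  have hpp : p.Prime := Fact.out
  haveI := hG.2.1
  haveI : Fact q.Prime := ⟨hq⟩
  have hpM : p ∉ Cfsg.sigma M := hpκ.2.2.1
  have hrk : Cfsg.PRankLE p 1 ↥M := pRankLE_one_of_kappa hpκ
  have hANM : ¬ A ≤ M := fun h => not_pRankLE_one_of_sq hpp h hAe hA2 hrk
  have hXp : IsPGroup p X := IsPGroup.of_card (n := 1) (by rw [hXc, pow_one])
  have hAp : IsPGroup p A := IsPGroup.of_card hA2
  have hqM : q ∈ Cfsg.sigma M :=
    primes_card_sigmaCore M q hq (hYc ▸ Subgroup.card_dvd_of_le (hYT.trans inf_le_left))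
  have hpq : p ≠ q := fun h => hpM (h ▸ hqM)
  have hYq : IsPGroup q Y := IsPGroup.of_card (n := 1) (by rw [hYc, pow_one])
  have hY1 : Y ≠ ⊥ := by
    intro h
    rw [h, Subgroup.card_bot] at hYc
    exact hq.ne_one hYc.symm
  have hYM : Y ≤ M := hYT.trans (inf_le_left.trans (sigmaCore_le M))
  have hYtop : Y ≠ ⊤ := fun h => hM.1 (top_le_iff.mp (h ▸ hYM))
  obtain ⟨L, hL, hNY⟩ := Cfsg.Agent.Lib.Helper17.BGU.exists_coatom_ge
    (Cfsg.Agent.Lib.Helper17.BGU.normalizer_ne_top hY1 hYtop)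
  have hYL : Y ≤ L := Subgroup.le_normalizer.trans hNY
  have hAL : A ≤ L := by
    intro a ha
    apply hNY
    apply Subgroup.centralizer_le_normalizer
    rw [Subgroup.mem_centralizer_iff]
    intro y hy
    exact hYA y hy a ha
  have hLM : L ≠ M := fun h => hANM (h ▸ hAL)
  have hrL : ¬ Cfsg.PRankLE p 1 ↥L := not_pRankLE_one_of_sq hpp hAL hAe hA2
  have hXL : X ≤ L := hXA.trans hAL
  have hX1 : X ≠ ⊥ := by
    intro h
    rw [h, Subgroup.card_bot] at hXc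
    exact hpp.ne_one hXc.symm
  by_cases hqL : q ∈ Cfsg.sigma L
  · obtain ⟨S, hYS⟩ := Cfsg.Agent.Lib.Helper1.BGX.exists_sylow_in_ge
      (show Y ≤ M ⊓ L from le_inf hYM hYL) hYq
    obtain ⟨hncL, hNS, -⟩ := h24 hG M hM q hqM Y hYq hY1 hYM L hL hLM hNY S hYS
    have hτ2 : Cfsg.tau2 L = ∅ := Cfsg.Agent.Lib.Helper2.BGCor.wp_tau2_empty hG (h17n hG) (h24 hG)
      hM hL hncL hqM hqL hYq hY1 hYM hYL
    have hpL : p ∈ Cfsg.sigma L := by
      by_contra h
      have h1 := mem_tau2_of_not_rank_one hG hL hpp h hrL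
      rw [hτ2] at h1
      exact h1
    obtain ⟨S', hS'def⟩ : ∃ S' : Subgroup G,
      S' = (S : Subgroup ↥(M ⊓ L)).map (M ⊓ L).subtype := ⟨_, rfl⟩
    rw [← hS'def] at hYS hNS
    have hS'ML : S' ≤ M ⊓ L := hS'def ▸ Subgroup.map_subtype_le _
    have hS'q : IsPGroup q S' := hS'def ▸ S.isPGroup'.map _
    have hS'σ : S' ≤ Cfsg.sigmaCore M :=
      le_sigmaCore_of_isPGroup hG hM hqM hS'q (hS'ML.trans inf_le_left)
    have hX := lemmaX hG (h23 hG) hM hpM hXp (inf_le_left : Cfsg.sigmaCore M ⊓ L ≤ _)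
      (Cfsg.Agent.Lib.Helper16.BGPrim.le_normalizer_sigmaCore_inf hXM hXL) hL hXL inf_le_right hpL
    have hS'T : S' ≤ Cfsg.sigmaCore M ⊓ Subgroup.centralizer (X : Set G) := by
      intro s hs
      refine Subgroup.mem_inf.mpr ⟨hS'σ hs, ?_⟩
      rw [Subgroup.mem_centralizer_iff]
      intro x hx
      exact hX s (Subgroup.mem_inf.mpr ⟨hS'σ hs, (hS'ML hs).2⟩) x hx
    obtain ⟨⟨hEA, -⟩, -, -⟩ := Cfsg.Agent.S1418.result hG H hH E hE p hτ A ⟨hAE, hAe, hA2⟩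
    have hS'NA : S' ≤ Subgroup.normalizer (A : Set G) := (hS'T.trans hTE).trans hEA
    have hS'Lσ : S' ≤ Cfsg.sigmaCore L :=
      le_sigmaCore_of_isPGroup hG hL hqL hS'q (hS'ML.trans inf_le_right)
    have hALσ : A ≤ Cfsg.sigmaCore L := le_sigmaCore_of_isPGroup hG hL hpL hAp hAL
    have hpdL : p ∣ Nat.card L :=
      (dvd_pow_self p (by norm_num)).trans (hA2 ▸ Subgroup.card_dvd_of_le hAL)
    have hnid : ¬ Cfsg.IsIdealPrime p G :=
      (Cfsg.Agent.S1408.result hG H hH p hτ.2.1 hτ.2.2.1 hτ.2.2.2).1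
    have hnpc : Cfsg.HasNormalPComplement p ↥(Cfsg.sigmaCore L) :=
      ((Cfsg.Agent.S1414.result hG L hL).2.2.2.2 p hpp hpdL (fun h => hnid h.2)).2.1
    have hcomm := comm_of_hasNormalPComplement' hq hpq hnpc hALσ hS'Lσ hAp hS'q hS'NA
    apply hANM
    intro a ha
    apply hNS
    apply Subgroup.centralizer_le_normalizer
    rw [Subgroup.mem_centralizer_iff]
    intro s hs
    exact hcomm a ha s hs
  · obtain ⟨-, -, hbot, hcompl⟩ := Cfsg.Agent.Lib.Helper2.BGCor.thm12_14fg hG (h16 hG) (h17 hG)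
      (h17n hG) (h18e hG) (h24 hG) hM hL hLM hqM hqL hYq hY1 hYM hNY
    by_cases hpL : p ∈ Cfsg.sigma L
    · have h1 : X ≤ Cfsg.sigmaCore L ⊓ M :=
        le_inf (le_sigmaCore_of_isPGroup hG hL hpL hXp hXL) hXM
      rw [hbot] at h1
      exact hX1 (le_bot_iff.mp h1)
    · have hpτL := mem_tau2_of_not_rank_one hG hL hpp hpL hrL
      obtain ⟨A', hA'E, hA'e, hA'c⟩ := exists_elemAb_le_compl hG hL hcompl hpτL
      exact not_pRankLE_one_of_sq hpp (hA'E.trans inf_le_left) hA'e hA'c hrk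

end Cfsg.Agent.Lib.Helper24.BGReg
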