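/- helper24: Corollary G1 of notes/bg14/NOTES_h20.md (sec. 5, 7, 8), shape CorG1 M of Lib/Helper2/BGCorJ, from Theorem R2 (HR2) as hypothesis: H_sigma nontrivial, Frobenius action via S1446, membership in kappa(H), final assembly. -/
import Mathlib
import Cfsg.Agent.Lib.Helper24.BGRegD
import Cfsg.Agent.Lib.Helper24.BG36Nab
import Cfsg.Agent.S1446

set_option autoImplicit false
set_option linter.style.haveILetI false
open scoped commutatorElement

namespace Cfsg.Agent.Lib.Helper24.BGReg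

open Cfsg.Agent.Lib.Helper8 (mem_map_conj conj_mem_map_conj map_conj_map_conj map_conj_one
  map_conj_le_iff map_conj_eq_iff card_map_conj mem_normalizer_iff_map_conj)
open Cfsg.Agent.Lib.Helper2.BGCor (sigmaCore_le primes_card_sigmaCore exists_compl_sigmaCore
  conj_mem_sigmaCore elemAb_map_conj exists_conj_le_compl H28 CorR CorG1 kappa_cent
  pRankLE_one_of_kappa not_pRankLE_one_of_sq dvd_card_sigmaCore)
open Cfsg.Agent.Lib.Helper16.BGPrim (H17n H18a H23 H24 thm13_1a thm13_2_zero thm13_2_c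
  exists_hall_ge' le_normalizer_of_conj_mem lemmaW lemmaX exists_normal_isSylIn
  le_sigmaCore_of_isPGroup)
open Cfsg.Agent.Lib.Helper23.BGY (le_normalizer_sigmaCore exists_conj_mem_compl isComplIn_conj
  mem_tau2_of_not_rank_one exists_elemAb_sq)

variable {G : Type*} [Group G]

/-- `H_σ ≠ 1` as soon as `τ₂(H) ≠ ∅`. -/
theorem sigmaCore_ne_bot_of_tau2 [Finite G] (hG : Cfsg.IsMinSimpleOddOrder G) {H : Subgroup G}
    (hH : IsCoatom H) {E : Subgroup G} (hE : Cfsg.IsComplIn E (Cfsg.sigmaCore H) H) {p : ℕ}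
    [Fact p.Prime] (hτ : p ∈ Cfsg.tau2 H) {A : Subgroup G} (hAE : A ≤ E)
    (hAe : Cfsg.IsElementaryAbelian p A) (hA2 : Nat.card A = p ^ 2) :
    Cfsg.sigmaCore H ≠ ⊥ := by
  have hpp : p.Prime := Fact.out
  haveI := hG.2.1
  intro hbot
  have hAH : A ≤ H := hAE.trans hE.1
  have h1 := (Cfsg.Agent.S1417.result hG H hH p hτ A ⟨hAH, hAe, hA2⟩).2.2.1
  rw [hbot, bot_sup_eq] at h1
  have hA1 : A ≠ ⊥ := by
    intro h
    rw [h, Subgroup.card_bot] at hA2
    have : 1 < p ^ 2 := Nat.one_lt_pow (by norm_num) hpp.one_lt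
    omega
  have h2 := Cfsg.Agent.Lib.Helper17.BGU.normalizer_eq_of_coatom hH hAH hA1 h1
  exact (Cfsg.Agent.S1418.result hG H hH E hE p hτ A ⟨hAE, hAe, hA2⟩).2.1.2.2 h2.le

/-- an element `t ∈ E_H` of prime order `q ∤ |H_σ|` that centralizes the line `X` of `A` and acts
nontrivially on `A`, where `C_{H_σ}(B) = 1` for all other lines `B` of `A`, centralizes a
non-identity element of `H_σ` (Frobenius action, S1446). -/
theorem exists_fixed_of_line [Finite G] (hG : Cfsg.IsMinSimpleOddOrder G) {H : Subgroup G}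
    (hH : IsCoatom H) {E : Subgroup G} (hE : Cfsg.IsComplIn E (Cfsg.sigmaCore H) H) {p : ℕ}
    [Fact p.Prime] (hτ : p ∈ Cfsg.tau2 H) {A X : Subgroup G} (hAE : A ≤ E)
    (hAe : Cfsg.IsElementaryAbelian p A) (hA2 : Nat.card A = p ^ 2) (hXA : X ≤ A)
    (hXc : Nat.card X = p)
    (h19 : ∀ X' : Subgroup G, X' ≤ E → Nat.card X' = p → X' ≠ X →
      Cfsg.sigmaCore H ⊓ Subgroup.centralizer (X' : Set G) = ⊥)
    {t : G} (htE : t ∈ E) {q : ℕ} (hq : q.Prime) (hto : orderOf t = q) (hqp : q ≠ p)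
    (hqH : ¬ q ∣ Nat.card (Cfsg.sigmaCore H)) (htX : ∀ x ∈ X, t * x = x * t)
    (htA : ∃ a ∈ A, t * a ≠ a * t) :
    ∃ y ∈ Cfsg.sigmaCore H, y ≠ 1 ∧ t * y = y * t := by
  have hpp : p.Prime := Fact.out
  haveI := hG.2.1
  have hEH : E ≤ H := hE.1
  obtain ⟨⟨hEA, -⟩, -, -⟩ := Cfsg.Agent.S1418.result hG H hH E hE p hτ A ⟨hAE, hAe, hA2⟩
  set R := Subgroup.zpowers t with hR
  have hRc : Nat.card R = q := by rw [hR, Nat.card_zpowers, hto]
  have hRprime : (Nat.card R).Prime := hRc ▸ hq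
  have htR : t ∈ R := Subgroup.mem_zpowers t
  have ht1 : t ≠ 1 := by
    intro h
    rw [h, orderOf_one] at hto
    exact hq.ne_one hto.symm
  have hRE : R ≤ E := Subgroup.zpowers_le.mpr htE
  have hRA : R ≤ Subgroup.normalizer (A : Set G) := hRE.trans hEA
  have hcent : Subgroup.centralizer ({t} : Set G) = Subgroup.centralizer (R : Set G) :=
    Cfsg.Agent.Lib.Helper24.BG36Nab.centralizer_singleton_eq_of_prime_card hRprime htR ht1
  have hline : A ⊓ Subgroup.centralizer (R : Set G) = X := by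
    rw [← hcent]
    exact inf_centralizer_eq_of_line hA2 hXA hXc htX htA
  have hcopRp : (Nat.card R).Coprime p := by
    rw [hRc]
    exact (Nat.coprime_primes hq hpp).mpr hqp
  obtain ⟨B, hBA, hBc, hRB, hBC⟩ := exists_compl_line hAe hA2 hRA hcopRp (by rw [hline, hXc])
  have hX1 : X ≠ ⊥ := by
    intro h
    rw [h, Subgroup.card_bot] at hXc
    exact hpp.ne_one hXc.symm
  have hBX : B ≠ X := by
    intro h
    apply hX1
    have h1 : X ≤ B ⊓ Subgroup.centralizer (R : Set G) :=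
      le_inf h.ge (hline.ge.trans inf_le_right)
    rw [hBC] at h1
    exact le_bot_iff.mp h1
  have hBE : B ≤ E := hBA.trans hAE
  have hCB : Cfsg.sigmaCore H ⊓ Subgroup.centralizer (B : Set G) = ⊥ := h19 B hBE hBc hBX
  have hB1 : B ≠ ⊥ := by
    intro h
    rw [h, Subgroup.card_bot] at hBc
    exact hpp.ne_one hBc.symm
  have hR1 : R ≠ ⊥ := by
    intro h
    rw [h, Subgroup.card_bot] at hRc
    exact hq.ne_one hRc.symm
  have hcopBR : (Nat.card B).Coprime (Nat.card R) := by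
    rw [hBc]
    exact hcopRp.symm
  have hdisj : Disjoint B R := Subgroup.disjoint_of_coprime_natCard hcopBR
  have hcardBR : Nat.card B * Nat.card R = Nat.card ↥(B ⊔ R) :=
    (Cfsg.Agent.Lib.Helper1.isComplIn_sup hRB hdisj).card_mul_card
  have hBRH : B ⊔ R ≤ H := sup_le (hBE.trans hEH) (hRE.trans hEH)
  haveI : Group.IsSolvable ↥H := hG.2.2.2 H hH.1
  have hsolv : Group.IsSolvable ↥(B ⊔ R) :=
    Group.isSolvable_of_isSolvable_injective (Subgroup.inclusion_injective hBRH)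
  have hodd : Odd (Nat.card ↥(B ⊔ R)) := Odd.of_dvd_nat hG.1 (Subgroup.card_subgroup_dvd_card _)
  have hpH : ¬ p ∣ Nat.card (Cfsg.sigmaCore H) := fun hd =>
    hτ.2.1 (primes_card_sigmaCore H p hpp hd)
  have hcop : (Nat.card ↥(B ⊔ R)).Coprime (Nat.card (Cfsg.sigmaCore H)) := by
    rw [← hcardBR, hBc, hRc]
    exact Nat.Coprime.mul_left ((Nat.Prime.coprime_iff_not_dvd hpp).mpr hpH)
      ((Nat.Prime.coprime_iff_not_dvd hq).mpr hqH)
  have hnil : Group.IsNilpotent (Cfsg.sigmaCore H) :=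
    h17n hG H hH p hτ A ⟨hAE.trans hEH, hAe, hA2⟩
  have hσ1 := sigmaCore_ne_bot_of_tau2 hG hH hE hτ hAE hAe hA2
  have hfrob : ∀ r ∈ R, r ≠ 1 → B ⊓ Subgroup.centralizer ({r} : Set G) = ⊥ := by
    intro r hr hr1
    rw [Cfsg.Agent.Lib.Helper24.BG36Nab.centralizer_singleton_eq_of_prime_card hRprime hr hr1]
    exact hBC
  have hpr : ∀ x ∈ R, x ≠ 1 → Cfsg.sigmaCore H ⊓ Subgroup.centralizer ({x} : Set G) =
      Cfsg.sigmaCore H ⊓ Subgroup.centralizer (R : Set G) := by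
    intro x hx hx1
    rw [Cfsg.Agent.Lib.Helper24.BG36Nab.centralizer_singleton_eq_of_prime_card hRprime hx hx1]
  obtain ⟨-, hcard, -⟩ := Cfsg.Agent.S1446.result B R (Cfsg.sigmaCore H) hB1 hR1 hdisj.eq_bot hRB
    hfrob hsolv hodd hσ1 hnil ((hBE.trans hEH).trans (le_normalizer_sigmaCore H))
    ((hRE.trans hEH).trans (le_normalizer_sigmaCore H)) hcop hCB hpr
  have hne : Cfsg.sigmaCore H ⊓ Subgroup.centralizer (R : Set G) ≠ ⊥ := by
    intro h
    rw [h, Subgroup.card_bot, one_pow] at hcard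
    exact hσ1 (Subgroup.card_eq_one.mp hcard)
  obtain ⟨y, hy1⟩ := (Subgroup.ne_bot_iff_exists_ne_one.mp hne)
  refine ⟨y, y.2.1, ?_, ?_⟩
  · intro h
    apply hy1
    exact Subtype.ext h
  · exact Subgroup.mem_centralizer_iff.mp y.2.2 t htR

/-- a prime `q ∉ σ(H)` with `H` of `q`-rank at most one such that some element of order `q` of
`H` centralizes a non-identity element of `H_σ` belongs to `κ(H)`. -/
theorem mem_kappa_of_fixed [Finite G] (hG : Cfsg.IsMinSimpleOddOrder G) {H : Subgroup G}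
    {q : ℕ} (hq : q.Prime) (hqσ : q ∉ Cfsg.sigma H) (hrk : Cfsg.PRankLE q 1 ↥H) {t : G}
    (htH : t ∈ H) (hto : orderOf t = q) {y : G} (hy : y ∈ Cfsg.sigmaCore H) (hy1 : y ≠ 1)
    (hty : t * y = y * t) : q ∈ Cfsg.kappa H := by
  haveI : Fact q.Prime := ⟨hq⟩
  have hqH : q ∣ Nat.card H := by
    have h1 : Nat.card (Subgroup.zpowers t) = q := by rw [Nat.card_zpowers, hto]
    exact h1 ▸ Subgroup.card_dvd_of_le (Subgroup.zpowers_le.mpr htH)
  refine ⟨hq, hqH, hqσ, fun P => ⟨isCyclic_sylow_of_pRankLE_one hG.1 hrk P, ?_⟩⟩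
  have hzp : IsPGroup q ↥(Subgroup.zpowers (⟨t, htH⟩ : ↥H)) := by
    apply IsPGroup.of_card (n := 1)
    rw [Nat.card_zpowers, pow_one, Subgroup.orderOf_mk, hto]
  obtain ⟨P₀, hP₀⟩ := hzp.exists_le_sylow
  obtain ⟨h, hh⟩ := MulAction.exists_smul_eq ↥H P₀ P
  have ht1 : t ≠ 1 := by
    intro h1
    rw [h1, orderOf_one] at hto
    exact hq.ne_one hto.symm
  refine ⟨h * ⟨t, htH⟩ * h⁻¹, ?_, ?_, (h : G) * y * (h : G)⁻¹, conj_mem_sigmaCore h.2 hy, ?_, ?_⟩
  · rw [← hh, Cfsg.Agent.Lib.Helper1.mem_sylow_smul_iff]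
    have e : h⁻¹ * (h * ⟨t, htH⟩ * h⁻¹) * h = ⟨t, htH⟩ := by group
    rw [e]
    exact hP₀ (Subgroup.mem_zpowers _)
  · intro h1
    apply ht1
    have h2 : (⟨t, htH⟩ : ↥H) = 1 := by
      have := congrArg (fun z => h⁻¹ * z * h) h1
      simpa [mul_assoc] using this
    exact congrArg Subtype.val h2
  · intro h1
    apply hy1
    have := congrArg (fun z => (h : G)⁻¹ * z * (h : G)) h1
    simpa [mul_assoc] using this
  · show (h : G) * t * (h : G)⁻¹ * ((h : G) * y * (h : G)⁻¹) =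
      (h : G) * y * (h : G)⁻¹ * ((h : G) * t * (h : G)⁻¹)
    calc (h : G) * t * (h : G)⁻¹ * ((h : G) * y * (h : G)⁻¹)
        = (h : G) * (t * y) * (h : G)⁻¹ := by group
      _ = (h : G) * (y * t) * (h : G)⁻¹ := by rw [hty]
      _ = _ := by group

/-- **Corollary G1** of `notes/bg14/NOTES_h20.md`, in the shape `CorG1 M` of `Lib/Helper2/BGCorJ`:
`p ∈ κ(M)`, `X ≤ M` of order `p` and `H` maximal containing `N_G(X)`; then `X ≤ H_σ`.
Hypothesis: Theorem R2. -/
theorem corG1 [Finite G] (hG : Cfsg.IsMinSimpleOddOrder G) (hR2 : HR2 G) {M : Subgroup G}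
    (hM : IsCoatom M) : CorG1 M := by
  intro X hXM hXκ H hH hNX
  haveI := hG.2.1
  obtain ⟨p, hpdef⟩ : ∃ p : ℕ, p = Nat.card X := ⟨_, rfl⟩
  rw [← hpdef] at hXκ
  have hXc : Nat.card X = p := hpdef.symm
  have hpp : p.Prime := hXκ.1
  haveI : Fact p.Prime := ⟨hpp⟩
  have hpM : p ∉ Cfsg.sigma M := hXκ.2.2.1
  have hXp : IsPGroup p X := IsPGroup.of_card (n := 1) (by rw [hXc, pow_one])
  have hX1 : X ≠ ⊥ := by
    intro h
    rw [h, Subgroup.card_bot] at hXc
    exact hpp.ne_one hXc.symm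
  have hXH : X ≤ H := Subgroup.le_normalizer.trans hNX
  obtain ⟨-, hor, -⟩ := thm13_2_zero hG hH hpM (pRankLE_one_of_kappa hXκ) hXp hX1 hNX
  rcases hor with hσ | hτ
  · exact le_sigmaCore_of_isPGroup hG hH hσ hXp hXH
  exfalso
  obtain ⟨-, hcopT, E, A, hE, hTE, hXA, hAE, hAe, hA2⟩ := g1_setup hG hM hH hXκ hXc hNX hτ
  -- a generator of `X` and a fixed point in `M_σ`
  obtain ⟨x, hx1⟩ := (Subgroup.ne_bot_iff_exists_ne_one.mp hX1)
  have hxo : orderOf (x : G) = p := by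
    have h1 : orderOf (x : G) ∣ p := by
      have := orderOf_dvd_natCard x
      rwa [hXc, ← Subgroup.orderOf_coe] at this
    rcases (Nat.dvd_prime hpp).mp h1 with h | h
    · exact absurd (Subtype.ext (orderOf_eq_one_iff.mp h)) hx1
    · exact h
  have hXz : Subgroup.zpowers (x : G) = X :=
    Subgroup.eq_of_le_of_card_ge (Subgroup.zpowers_le.mpr x.2) (by rw [Nat.card_zpowers, hxo, hXc])
  obtain ⟨y, hy, hy1, hxy⟩ := kappa_cent hXκ (hXM x.2) hxo
  have hyT : y ∈ Cfsg.sigmaCore M ⊓ Subgroup.centralizer (X : Set G) := by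
    refine Subgroup.mem_inf.mpr ⟨hy, ?_⟩
    rw [Subgroup.mem_centralizer_iff, ← hXz]
    intro z hz
    exact (comm_zpowers hxy.symm z hz).symm
  -- an element `t` of prime order of `T`
  obtain ⟨q, j, hq, -, hto⟩ := Cfsg.Agent.Lib.Helper16.BGPrim.exists_pow_orderOf_prime hy1
  set t := y ^ j with ht
  have htT : t ∈ Cfsg.sigmaCore M ⊓ Subgroup.centralizer (X : Set G) := Subgroup.pow_mem _ hyT j
  have htE : t ∈ E := hTE htT
  have htX : ∀ z ∈ X, t * z = z * t := fun z hz =>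
    (Subgroup.mem_centralizer_iff.mp htT.2 z hz).symm
  set Y := Subgroup.zpowers t with hY
  have hYT : Y ≤ Cfsg.sigmaCore M ⊓ Subgroup.centralizer (X : Set G) :=
    Subgroup.zpowers_le.mpr htT
  have hYc : Nat.card Y = q := by rw [hY, Nat.card_zpowers, hto]
  have htA : ∃ a ∈ A, t * a ≠ a * t := by
    by_contra hcon
    push Not at hcon
    apply g1_not_centralize hG hM hH hXκ hXM hXc hτ hE hTE hXA hAE hAe hA2 hYT hq hYc
    intro z hz a ha
    exact (comm_zpowers (hcon a ha).symm z hz).symm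
  obtain ⟨⟨hEA, -⟩, ⟨-, -, hNAH⟩, -⟩ :=
    Cfsg.Agent.S1418.result hG H hH E hE p hτ A ⟨hAE, hAe, hA2⟩
  have hline := inf_centralizer_eq_of_line hA2 hXA hXc htX htA
  have hS : ∀ S : Sylow p G, ¬ IsMulCommutative (S : Subgroup G) := by
    intro S hSc
    have h1 := normalizer_le_normalizer_inf_centralizer hG.1 ⟨S, hSc⟩ hAe hA2 (hEA htE)
    rw [hline] at h1
    exact hNAH (h1.trans hNX)
  obtain ⟨hτ2, -, h19'⟩ := Cfsg.Agent.S1419.result hG H hH E hE p hτ hS A ⟨hAE, hAe, hA2⟩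
  have hXE : X ≤ E := hXA.trans hAE
  have hXeq : X = A ⊓ Subgroup.centralizer (Cfsg.sigmaCore H : Set G) := by
    by_contra hne
    exact (h19' X hXE hXc hne).2 ((Subgroup.centralizer_le_normalizer _).trans hNX)
  have h19 : ∀ X' : Subgroup G, X' ≤ E → Nat.card X' = p → X' ≠ X →
      Cfsg.sigmaCore H ⊓ Subgroup.centralizer (X' : Set G) = ⊥ :=
    fun X' h1 h2 h3 => (h19' X' h1 h2 (hXeq ▸ h3)).1
  -- the prime `q`
  have hqT : q ∣ Nat.card ↥(Cfsg.sigmaCore M ⊓ Subgroup.centralizer (X : Set G)) :=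
    hYc ▸ Subgroup.card_dvd_of_le hYT
  have hqM : q ∈ Cfsg.sigma M :=
    primes_card_sigmaCore M q hq (hqT.trans (Subgroup.card_dvd_of_le inf_le_left))
  have hqp : q ≠ p := fun h => hpM (h ▸ hqM)
  have hqH : ¬ q ∣ Nat.card (Cfsg.sigmaCore H) := by
    intro hd
    have h1 := Nat.dvd_gcd hqT hd
    rw [Nat.Coprime.gcd_eq_one hcopT, Nat.dvd_one] at h1
    exact hq.ne_one h1
  obtain ⟨y', hy', hy'1, hty'⟩ := exists_fixed_of_line hG hH hE hτ hAE hAe hA2 hXA hXc h19 htE hq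
    hto hqp hqH htX htA
  have hqσH : q ∉ Cfsg.sigma H := fun h => hqH (dvd_card_sigmaCore hG hH h)
  have hrkq : Cfsg.PRankLE q 1 ↥H := by
    by_contra h
    have h1 := mem_tau2_of_not_rank_one hG hH hq hqσH h
    rw [hτ2, Set.mem_singleton_iff] at h1
    exact hqp h1
  have hκ : q ∈ Cfsg.kappa H := mem_kappa_of_fixed hG hq hqσH hrkq (hE.1 htE) hto hy' hy'1 hty'
  obtain ⟨a, ha, hne⟩ := htA
  apply hne
  apply hR2 H hH E hE p hτ hS A hAE hAe hA2 t htE (by rw [hto]; exact hκ) _ a ha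
  intro u hu
  rw [← hXeq] at hu
  exact htX u hu

end Cfsg.Agent.Lib.Helper24.BGReg
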