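/- helper24: MAIN CLAIM (kappa cap tau3 = empty) formalization, unit [C] of notes/bg14/NOTES_h20.md sec.12-14, part A: normal p-complements (coprime version), Sylow subgroups and the derived subgroup, C1 (E3 le E-prime centralizes a Sylow q of M_sigma for q in sigma minus beta), C2 (sigma = beta when C_{M_sigma}(E3) le M_sigma-prime). -/
import Mathlib
import Cfsg.Agent.Lib.Helper24.BGRegE
import Cfsg.Agent.Lib.Helper9.CoprimeSylow
import Cfsg.Agent.S1426

set_option autoImplicit false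
set_option linter.style.haveILetI false
open scoped commutatorElement

namespace Cfsg.Agent.Lib.Helper24.BGC2C

universe u

/-! ### normal `p`-complements -/

/-- in a group with a normal `p`-complement, a subgroup of order prime to `p` normalizing a
`p`-subgroup centralizes it. -/
theorem comm_of_npc_coprime {X : Type u} [Group X] [Finite X] {p : ℕ} [Fact p.Prime]
    (h : Cfsg.HasNormalPComplement p X) {A S : Subgroup X} (hA : IsPGroup p A)
    (hS : (Nat.card S).Coprime p) (hSA : S ≤ Subgroup.normalizer (A : Set X)) :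
    ∀ a ∈ A, ∀ s ∈ S, s * a = a * s := by
  have hp : p.Prime := Fact.out
  obtain ⟨k, hk⟩ := Cfsg.Agent.Lib.Helper24.BGBeta.exists_pow_index_pPrimeCore h
  haveI : (Cfsg.pPrimeCore p X).Normal := Cfsg.Agent.Lib.Helper12.pPrimeCore_normal' p
  have hSK : S ≤ Cfsg.pPrimeCore p X := by
    rw [← Subgroup.relIndex_eq_one]
    have h1 : (Cfsg.pPrimeCore p X).relIndex S ∣ p ^ k := by
      rw [← hk]; exact Subgroup.relIndex_dvd_index_of_normal _ S
    have h2 : (Cfsg.pPrimeCore p X).relIndex S ∣ Nat.card S := Subgroup.relIndex_dvd_card _ S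
    exact Nat.eq_one_of_dvd_coprimes (Nat.Coprime.pow_left k hS.symm) h1 h2
  have hcop : (Nat.card A).Coprime (Nat.card (Cfsg.pPrimeCore p X)) := by
    obtain ⟨j, hj⟩ := IsPGroup.iff_card.mp hA
    rw [hj]
    exact Nat.Coprime.pow_left j (Cfsg.Agent.Lib.Helper12.pPrimeCore_coprime (X := X) p).symm
  have hbot : A ⊓ Cfsg.pPrimeCore p X = ⊥ := (Subgroup.disjoint_of_coprime_natCard hcop).eq_bot
  intro a ha s hs
  have h1 : s * a * s⁻¹ * a⁻¹ ∈ A :=
    A.mul_mem (((Subgroup.mem_normalizer_iff.mp (hSA hs)) a).mp ha) (A.inv_mem ha)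
  have h2 : s * a * s⁻¹ * a⁻¹ ∈ Cfsg.pPrimeCore p X := by
    have h3 : a * s⁻¹ * a⁻¹ ∈ Cfsg.pPrimeCore p X :=
      Subgroup.Normal.conj_mem inferInstance _ (Subgroup.inv_mem _ (hSK hs)) a
    have e : s * a * s⁻¹ * a⁻¹ = s * (a * s⁻¹ * a⁻¹) := by group
    rw [e]
    exact Subgroup.mul_mem _ (hSK hs) h3
  have h4 : s * a * s⁻¹ * a⁻¹ ∈ A ⊓ Cfsg.pPrimeCore p X := Subgroup.mem_inf.mpr ⟨h1, h2⟩
  rw [hbot, Subgroup.mem_bot] at h4
  calc s * a = (s * a * s⁻¹ * a⁻¹) * a * s := by group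
    _ = a * s := by rw [h4, one_mul]

/-- the same for subgroups of `G` inside a subgroup `N` having a normal `p`-complement. -/
theorem comm_of_npc_coprime' {G : Type u} [Group G] [Finite G] {p : ℕ} [Fact p.Prime]
    {N : Subgroup G} (h : Cfsg.HasNormalPComplement p ↥N) {A S : Subgroup G} (hAN : A ≤ N)
    (hSN : S ≤ N) (hA : IsPGroup p A) (hS : (Nat.card S).Coprime p)
    (hSA : S ≤ Subgroup.normalizer (A : Set G)) : ∀ a ∈ A, ∀ s ∈ S, s * a = a * s := by
  have hA' : IsPGroup p ↥(A.subgroupOf N) := hA.comap_subtype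
  have hS' : (Nat.card ↥(S.subgroupOf N)).Coprime p := by
    rw [Cfsg.Agent.Lib.Helper1.card_subgroupOf_of_le hSN]; exact hS
  have hSA' : S.subgroupOf N ≤ Subgroup.normalizer ((A.subgroupOf N : Subgroup ↥N) : Set ↥N) := by
    intro s hs
    rw [Subgroup.mem_normalizer_iff]
    intro a
    rw [Subgroup.mem_subgroupOf, Subgroup.mem_subgroupOf]
    exact (Subgroup.mem_normalizer_iff.mp (hSA (Subgroup.mem_subgroupOf.mp hs))) a
  intro a ha s hs
  have := comm_of_npc_coprime h hA' hS' hSA' ⟨a, hAN ha⟩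
    (Subgroup.mem_subgroupOf.mpr ha) ⟨s, hSN hs⟩ (Subgroup.mem_subgroupOf.mpr hs)
  exact congrArg Subtype.val this

/-- a nontrivial Sylow `p`-subgroup of a group with a normal `p`-complement is not contained in the
derived subgroup. -/
theorem sylow_not_le_commutator_of_npc {X : Type u} [Group X] [Finite X] {p : ℕ} [Fact p.Prime]
    (h : Cfsg.HasNormalPComplement p X) (P : Sylow p X) (hP1 : (P : Subgroup X) ≠ ⊥) :
    ¬ (P : Subgroup X) ≤ commutator X := by
  intro hle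
  obtain ⟨P₀, W, hWn, hW⟩ := h
  haveI := hWn
  -- `P₀` also lies in the derived subgroup
  obtain ⟨g, hg⟩ := MulAction.exists_smul_eq X P P₀
  have hP₀le : (P₀ : Subgroup X) ≤ commutator X := by
    intro x hx
    rw [← hg, Cfsg.Agent.Lib.Helper1.mem_sylow_smul_iff] at hx
    have h1 := hle hx
    have h2 : g * (g⁻¹ * x * g) * g⁻¹ ∈ commutator X :=
      Subgroup.Normal.conj_mem inferInstance _ h1 g
    have e : g * (g⁻¹ * x * g) * g⁻¹ = x := by group
    rwa [e] at h2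
  have hP₀1 : (P₀ : Subgroup X) ≠ ⊥ := by
    intro h0
    apply hP1
    have hc : Nat.card (P : Subgroup X) = Nat.card (P₀ : Subgroup X) := by
      rw [P.card_eq_multiplicity, P₀.card_eq_multiplicity]
    rw [h0, Subgroup.card_bot] at hc
    exact Subgroup.card_eq_one.mp hc
  have hsup : W ⊔ (P₀ : Subgroup X) = ⊤ := hW.sup_eq_top
  have hmapP : (P₀ : Subgroup X).map (QuotientGroup.mk' W) = ⊤ := by
    have h1 : (W ⊔ (P₀ : Subgroup X)).map (QuotientGroup.mk' W) = ⊤ := by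
      rw [hsup, ← MonoidHom.range_eq_map]
      exact MonoidHom.range_eq_top.mpr (QuotientGroup.mk'_surjective W)
    rw [Subgroup.map_sup] at h1
    have h2 : W.map (QuotientGroup.mk' W) = ⊥ := by
      rw [Subgroup.map_eq_bot_iff, QuotientGroup.ker_mk']
    rwa [h2, bot_sup_eq] at h1
  have hcomm : commutator (X ⧸ W) = ⊤ := by
    have h1 : (commutator X).map (QuotientGroup.mk' W) = commutator (X ⧸ W) := by
      rw [commutator_def, Subgroup.map_commutator, ← MonoidHom.range_eq_map,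
        MonoidHom.range_eq_top.mpr (QuotientGroup.mk'_surjective W), commutator_def]
    rw [← h1, eq_top_iff, ← hmapP]
    exact Subgroup.map_mono hP₀le
  have hcardQ : Nat.card (X ⧸ W) = Nat.card (P₀ : Subgroup X) := hW.symm.index_eq_card
  have hpg : IsPGroup p (X ⧸ W) := by
    obtain ⟨k, hk⟩ := IsPGroup.iff_card.mp P₀.isPGroup'
    exact IsPGroup.of_card (n := k) (by rw [hcardQ, hk])
  haveI : Group.IsNilpotent (X ⧸ W) := hpg.isNilpotent
  haveI : Nontrivial (X ⧸ W) := by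
    rw [← Finite.one_lt_card_iff_nontrivial, hcardQ]
    by_contra hlt
    push Not at hlt
    have : Nat.card (P₀ : Subgroup X) = 1 := le_antisymm hlt Nat.card_pos
    exact hP₀1 (Subgroup.card_eq_one.mp this)
  exact (Group.IsSolvable.commutator_lt_top_of_nontrivial (X ⧸ W)).ne hcomm

/-! ### C1, C2 -/

open Cfsg.Agent.Lib.Helper2.BGCor (sigmaCore_le primes_card_sigmaCore dvd_card_sigmaCore)
open Cfsg.Agent.Lib.Helper23.BGY (le_normalizer_sigmaCore not_mem_sigma_of_dvd_compl)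

variable {G : Type*} [Group G]

/-- the order of a subgroup of a complement `E` is prime to `|M_σ|`. -/
theorem coprime_card_of_le_compl [Finite G] (hG : Cfsg.IsMinSimpleOddOrder G) {M : Subgroup G}
    (hM : IsCoatom M) {E : Subgroup G} (hE : Cfsg.IsComplIn E (Cfsg.sigmaCore M) M)
    {S : Subgroup G} (hSE : S ≤ E) : (Nat.card S).Coprime (Nat.card (Cfsg.sigmaCore M)) := by
  apply Nat.coprime_of_dvd
  intro r hr h1 h2
  exact not_mem_sigma_of_dvd_compl hG hM hE hr (h1.trans (Subgroup.card_dvd_of_le hSE))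
    (primes_card_sigmaCore M r hr h2)

/-- the order of a subgroup of a complement `E` is prime to every `q ∈ σ(M)`. -/
theorem coprime_card_of_le_compl' [Finite G] (hG : Cfsg.IsMinSimpleOddOrder G) {M : Subgroup G}
    (hM : IsCoatom M) {E : Subgroup G} (hE : Cfsg.IsComplIn E (Cfsg.sigmaCore M) M)
    {S : Subgroup G} (hSE : S ≤ E) {q : ℕ} (hq : q ∈ Cfsg.sigma M) : (Nat.card S).Coprime q := by
  rw [Nat.coprime_comm, Nat.Prime.coprime_iff_not_dvd hq.1]
  intro hd
  exact not_mem_sigma_of_dvd_compl hG hM hE hq.1 (hd.trans (Subgroup.card_dvd_of_le hSE)) hq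

/-- **C1**: a subgroup `E₃ ≤ E'` (e.g. a Hall `τ₃(M)`-subgroup of `E`) centralizes some Sylow
`q`-subgroup of `M_σ` for every `q ∈ σ(M) \ β(M)`. -/
theorem exists_sylow_centralized [Finite G] (hG : Cfsg.IsMinSimpleOddOrder G) {M : Subgroup G}
    (hM : IsCoatom M) {E : Subgroup G} (hE : Cfsg.IsComplIn E (Cfsg.sigmaCore M) M)
    {E₃ : Subgroup G} (hE₃ : E₃ ≤ ⁅E, E⁆) {q : ℕ} [Fact q.Prime] (hq : q ∈ Cfsg.sigma M)
    (hqβ : q ∉ Cfsg.beta M) :
    ∃ Q : Sylow q ↥(Cfsg.sigmaCore M),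
      ∀ y ∈ (Q : Subgroup ↥(Cfsg.sigmaCore M)).map (Cfsg.sigmaCore M).subtype, ∀ e ∈ E₃,
        e * y = y * e := by
  have hqp : q.Prime := Fact.out
  have hE₃E : E₃ ≤ E := hE₃.trans (Cfsg.Agent.Lib.Helper16.BGPrim.commutator_self_le' E)
  have hE₃M' : E₃ ≤ ⁅M, M⁆ := hE₃.trans (Subgroup.commutator_mono hE.1 hE.1)
  have hnpc : Cfsg.HasNormalPComplement q ↥⁅M, M⁆ :=
    ((Cfsg.Agent.S1414.result hG M hM).2.2.2.2 q hqp hq.2.1 hqβ).1
  haveI : Group.IsSolvable ↥M := hG.2.2.2 M hM.1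
  have hsolv : Group.IsSolvable ↥(Cfsg.sigmaCore M) :=
    Group.isSolvable_of_isSolvable_injective (Subgroup.inclusion_injective (sigmaCore_le M))
  obtain ⟨Q, hQ⟩ := Cfsg.Agent.Lib.Helper9.exists_invariant_sylow E₃ (Cfsg.sigmaCore M)
    ((hE₃E.trans hE.1).trans (le_normalizer_sigmaCore M)) (coprime_card_of_le_compl hG hM hE hE₃E)
    (Or.inr hsolv) q
  refine ⟨Q, ?_⟩
  have hσM' : Cfsg.sigmaCore M ≤ ⁅M, M⁆ := by
    have h1 := (Cfsg.Agent.S1426.result hG M hM E hE).2.1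
    rw [← h1]
    exact Subgroup.commutator_mono (sigmaCore_le M) hE.1
  have hQ'σ : (Q : Subgroup ↥(Cfsg.sigmaCore M)).map (Cfsg.sigmaCore M).subtype ≤
      Cfsg.sigmaCore M := Subgroup.map_subtype_le _
  have hQ'p : IsPGroup q ((Q : Subgroup ↥(Cfsg.sigmaCore M)).map (Cfsg.sigmaCore M).subtype) :=
    Q.isPGroup'.map _
  have hc := comm_of_npc_coprime' hnpc (hQ'σ.trans hσM') hE₃M' hQ'p
    (coprime_card_of_le_compl' hG hM hE hE₃E hq) hQ
  intro y hy e he
  exact hc y hy e he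

/-- **C2**: if `C_{M_σ}(E₃) ≤ M_σ'` for some `E₃ ≤ E'` then `σ(M) = β(M)`. -/
theorem sigma_subset_beta [Finite G] (hG : Cfsg.IsMinSimpleOddOrder G) {M : Subgroup G}
    (hM : IsCoatom M) {E : Subgroup G} (hE : Cfsg.IsComplIn E (Cfsg.sigmaCore M) M)
    {E₃ : Subgroup G} (hE₃ : E₃ ≤ ⁅E, E⁆)
    (hT₃ : Cfsg.sigmaCore M ⊓ Subgroup.centralizer (E₃ : Set G) ≤
      ⁅Cfsg.sigmaCore M, Cfsg.sigmaCore M⁆) :
    ∀ q : ℕ, q ∈ Cfsg.sigma M → q ∈ Cfsg.beta M := by
  intro q hq
  by_contra hqβ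
  have hqp : q.Prime := hq.1
  haveI : Fact q.Prime := ⟨hqp⟩
  obtain ⟨Q, hQ⟩ := exists_sylow_centralized hG hM hE hE₃ hq hqβ
  have hnpc : Cfsg.HasNormalPComplement q ↥(Cfsg.sigmaCore M) :=
    ((Cfsg.Agent.S1414.result hG M hM).2.2.2.2 q hqp hq.2.1 hqβ).2.1
  have hQ1 : (Q : Subgroup ↥(Cfsg.sigmaCore M)) ≠ ⊥ := by
    intro h0
    have hd := dvd_card_sigmaCore hG hM hq
    have h1 : Nat.card (Q : Subgroup ↥(Cfsg.sigmaCore M)) = 1 := by rw [h0, Subgroup.card_bot]
    rw [Q.card_eq_multiplicity] at h1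
    have h2 : (Nat.card ↥(Cfsg.sigmaCore M)).factorization q = 0 := by
      by_contra hne
      have : 1 < q ^ (Nat.card ↥(Cfsg.sigmaCore M)).factorization q :=
        Nat.one_lt_pow hne hqp.one_lt
      omega
    rcases (Nat.factorization_eq_zero_iff _ _).mp h2 with h | h | h
    · exact h hqp
    · exact h hd
    · exact Nat.card_pos.ne' h
  apply sylow_not_le_commutator_of_npc hnpc Q hQ1
  intro y hy
  have h1 : (y : G) ∈ Cfsg.sigmaCore M ⊓ Subgroup.centralizer (E₃ : Set G) := by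
    refine Subgroup.mem_inf.mpr ⟨y.2, ?_⟩
    rw [Subgroup.mem_centralizer_iff]
    intro e he
    exact hQ (y : G) ⟨y, hy, rfl⟩ e he
  have h2 := hT₃ h1
  rw [← Subgroup.map_subtype_commutator] at h2
  obtain ⟨z, hz, hzy⟩ := h2
  have : z = y := Subtype.ext hzy
  rwa [this] at hz

end Cfsg.Agent.Lib.Helper24.BGC2C
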