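/- helper24: unit [C] of the MAIN CLAIM (kappa and tau3 disjoint), part B: C3 (primes of T3 are in kappa(H)), C4 (M_alpha nontrivial), C5 (alpha = beta), C7 (13.1a contrapositive), L2/L3 (normalizers of Sylow subgroups of T3 lie in M), C8 (prime action on H_sigma). Hypothesis-free: everything imported for real. -/
import Mathlib
import Cfsg.Agent.Lib.Helper24.BGC2CA
import Cfsg.Agent.Lib.Helper27.BG134E
import Cfsg.Agent.Lib.Helper23.BGLemT
import Cfsg.Agent.S1406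
import Cfsg.Agent.Lib.Helper9.FittingHall
import Cfsg.Agent.Lib.Helper8.BGEx1
import Cfsg.Agent.Lib.Helper16.Large

set_option autoImplicit false
set_option linter.style.haveILetI false
open scoped commutatorElement

namespace Cfsg.Agent.Lib.Helper24.BGC2C

open Cfsg.Agent.Lib.Helper8 (mem_map_conj conj_mem_map_conj map_conj_map_conj map_conj_one
  map_conj_le_iff map_conj_eq_iff card_map_conj mem_normalizer_iff_map_conj)
open Cfsg.Agent.Lib.Helper2.BGCor (sigmaCore_le primes_card_sigmaCore dvd_card_sigmaCore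
  exists_compl_sigmaCore)
open Cfsg.Agent.Lib.Helper23.BGY (le_normalizer_sigmaCore not_mem_sigma_of_dvd_compl
  mem_tau2_of_not_rank_one)
open Cfsg.Agent.Lib.Helper24.BGReg (h17n h18a h23 h24 mem_kappa_of_fixed comm_zpowers)

variable {G : Type*} [Group G]

/-- a generator of a subgroup of prime order. -/
theorem exists_generator_of_prime_card [Finite G] {Y : Subgroup G} {q : ℕ} (hq : q.Prime)
    (hYc : Nat.card Y = q) : ∃ y ∈ Y, y ≠ 1 ∧ orderOf y = q ∧ Subgroup.zpowers y = Y := by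
  have hY1 : Y ≠ ⊥ := by
    intro h
    rw [h, Subgroup.card_bot] at hYc
    exact hq.ne_one hYc.symm
  obtain ⟨y, hy1⟩ := Subgroup.ne_bot_iff_exists_ne_one.mp hY1
  have hyo : orderOf (y : G) = q := by
    have h1 : orderOf (y : G) ∣ q := by
      have := orderOf_dvd_natCard y
      rwa [hYc, ← Subgroup.orderOf_coe] at this
    rcases (Nat.dvd_prime hq).mp h1 with h | h
    · exact absurd (Subtype.ext (orderOf_eq_one_iff.mp h)) hy1
    · exact h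
  refine ⟨y, y.2, fun h => hy1 (Subtype.ext h), hyo, ?_⟩
  exact Subgroup.eq_of_le_of_card_ge (Subgroup.zpowers_le.mpr y.2)
    (by rw [Nat.card_zpowers, hyo, hYc])

/-- **C3** (part of (12.6)): `M`, `H` non-conjugate, `Y ≤ M_σ'` of prime order `q` inside `H`
centralizing a non-identity element of `H_σ`.  Then `q ∉ σ(H) ∪ τ₂(H)` and `q ∈ κ(H)`. -/
theorem mem_kappa_of_le_commutator [Finite G] (hG : Cfsg.IsMinSimpleOddOrder G)
    {M H : Subgroup G} (hM : IsCoatom M) (hH : IsCoatom H)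
    (hnc : ∀ g : G, H ≠ M.map (MulAut.conj g).toMonoidHom) {Y : Subgroup G} {q : ℕ}
    (hq : q.Prime) (hYc : Nat.card Y = q)
    (hYσ : Y ≤ ⁅Cfsg.sigmaCore M, Cfsg.sigmaCore M⁆) (hYH : Y ≤ H) {x : G}
    (hx : x ∈ Cfsg.sigmaCore H) (hx1 : x ≠ 1) (hYx : ∀ y ∈ Y, y * x = x * y) :
    q ∉ Cfsg.sigma H ∧ q ∉ Cfsg.tau2 H ∧ q ∈ Cfsg.kappa H := by
  haveI : Fact q.Prime := ⟨hq⟩
  have hYMσ : Y ≤ Cfsg.sigmaCore M :=
    hYσ.trans (Cfsg.Agent.Lib.Helper16.BGPrim.commutator_self_le' _)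
  have hYM : Y ≤ M := hYMσ.trans (sigmaCore_le M)
  have hqM : q ∈ Cfsg.sigma M :=
    primes_card_sigmaCore M q hq (hYc ▸ Subgroup.card_dvd_of_le hYMσ)
  have hqσH : q ∉ Cfsg.sigma H := by
    intro hqH
    exact Cfsg.Agent.Lib.Helper2.BGCor.wp_not_dvd_commutator hG (h23 hG) hH hM hnc hqH hqM
      (hYc ▸ Subgroup.card_dvd_of_le hYσ)
  obtain ⟨y, hyY, hy1, hyo, hyz⟩ := exists_generator_of_prime_card hq hYc
  have hqτ2 : q ∉ Cfsg.tau2 H := by
    intro hτ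
    obtain ⟨hHall, -, -⟩ := Cfsg.Agent.S1350.result hG H hH
    obtain ⟨EH, hEH⟩ := exists_compl_sigmaCore hHall
    have h20 := (Cfsg.Agent.S1420.result hG H hH EH hEH).2.2.2 y (hYH hyY) hy1 (by
      intro p hp hd
      rw [hyo] at hd
      rw [(Nat.prime_dvd_prime_iff_eq hp hq).mp hd]
      exact hτ) ⟨hYH hyY, x, hx, hx1, hYx y hyY⟩
    obtain ⟨P⟩ : Nonempty (Sylow q ↥(Cfsg.sigmaCore M)) := inferInstance
    have h23' := (Cfsg.Agent.S1423.result hG M hM q hqM Y hYM hYc P (Or.inr hYσ)).1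
    have hcent : Subgroup.centralizer ({y} : Set G) = Subgroup.centralizer (Y : Set G) :=
      Cfsg.Agent.Lib.Helper24.BG36Nab.centralizer_singleton_eq_of_prime_card (hYc ▸ hq) hyY hy1
    have hMH : M = H := h20.2 M hM (hcent ▸ h23'.1)
    apply hnc 1
    rw [map_conj_one, hMH]
  have hrk : Cfsg.PRankLE q 1 ↥H := by
    by_contra h
    exact hqτ2 (mem_tau2_of_not_rank_one hG hH hq hqσH h)
  exact ⟨hqσH, hqτ2, mem_kappa_of_fixed hG hq hqσH hrk (hYH hyY) hyo hx hx1 (hYx y hyY)⟩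

/-! ### C4, C5: `M_α ≠ 1` and `α(M) = β(M)` -/

/-- **C4**: if `E₃ ≤ E'` does not centralize `M_σ` then `M_α ≠ 1`
(else `M'` is nilpotent and the `σ(M)'`-group `E₃ ≤ M'` centralizes `M_σ ≤ M'`). -/
theorem alphaCore_ne_bot [Finite G] (hG : Cfsg.IsMinSimpleOddOrder G) {M : Subgroup G}
    (hM : IsCoatom M) {E : Subgroup G} (hE : Cfsg.IsComplIn E (Cfsg.sigmaCore M) M)
    {E₃ : Subgroup G} (hE₃ : E₃ ≤ ⁅E, E⁆)
    (hnc : ¬ Cfsg.sigmaCore M ≤ Subgroup.centralizer (E₃ : Set G)) :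
    Cfsg.alphaCore M ≠ ⊥ := by
  intro hα
  obtain ⟨hnil, -⟩ := Cfsg.Agent.Lib.Helper23.BGLemT.exists_normal_sylow_of_alphaCore_eq_bot hG hM hα
  have hE₃E : E₃ ≤ E := hE₃.trans (Cfsg.Agent.Lib.Helper16.BGPrim.commutator_self_le' E)
  have hE₃M' : E₃ ≤ ⁅M, M⁆ := hE₃.trans (Subgroup.commutator_mono hE.1 hE.1)
  have hσM' : Cfsg.sigmaCore M ≤ ⁅M, M⁆ := by
    have h1 := (Cfsg.Agent.S1426.result hG M hM E hE).2.1
    rw [← h1]
    exact Subgroup.commutator_mono (sigmaCore_le M) hE.1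
  apply hnc
  intro t ht
  rw [Subgroup.mem_centralizer_iff]
  intro u hu
  have hcop : (orderOf u).Coprime (Nat.card ↥(Cfsg.sigmaCore M)) := by
    have h1 : orderOf u ∣ Nat.card E₃ := by
      have := orderOf_dvd_natCard (⟨u, hu⟩ : E₃)
      rwa [← Subgroup.orderOf_coe] at this
    exact Nat.Coprime.coprime_dvd_left h1 (coprime_card_of_le_compl hG hM hE hE₃E)
  have h2 := Cfsg.Agent.Lib.Helper9.mem_centralizer_of_nilpotent_of_coprime ⁅M, M⁆
    (Cfsg.sigmaCore M) hnil hσM' u (hE₃M' hu)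
    (le_normalizer_sigmaCore M ((hE₃E.trans hE.1) hu)) hcop
  exact (Subgroup.mem_centralizer_iff.mp h2 t ht).symm

/-- **C5**: `E₃ ≤ E'`, `X ≤ E₃` such that `C_M(X)` is not in a unique maximal subgroup
(e.g. `C_M(X) ≤ H ≠ M`).  Then `α(M) = β(M)`. -/
theorem alpha_subset_beta [Finite G] (hG : Cfsg.IsMinSimpleOddOrder G) {M : Subgroup G}
    (hM : IsCoatom M) {E : Subgroup G} (hE : Cfsg.IsComplIn E (Cfsg.sigmaCore M) M)
    {E₃ : Subgroup G} (hE₃ : E₃ ≤ ⁅E, E⁆) {X : Subgroup G} (hX : X ≤ E₃)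
    (hnu : ¬ Cfsg.InUniqueMaximal (M ⊓ Subgroup.centralizer (X : Set G))) :
    ∀ q : ℕ, q ∈ Cfsg.alpha M → q ∈ Cfsg.beta M := by
  intro q hqα
  by_contra hqβ
  have hqp : q.Prime := hqα.1
  haveI : Fact q.Prime := ⟨hqp⟩
  have hU : Cfsg.Agent.Lib.Helper1.BGX.UT G :=
    fun K hK h2 h3 => Cfsg.Agent.S1403.result hG K hK h2 h3
  have hqσ : q ∈ Cfsg.sigma M := Cfsg.Agent.Lib.Helper1.BGX.alpha_subset_sigma hG hU hM hqα
  have hE₃E : E₃ ≤ E := hE₃.trans (Cfsg.Agent.Lib.Helper16.BGPrim.commutator_self_le' E)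
  have hXM : X ≤ M := (hX.trans hE₃E).trans hE.1
  have hXα : ∀ p : ℕ, p.Prime → p ∣ Nat.card X → p ∉ Cfsg.alpha M := by
    intro p hp hd hpα
    have hpσ := Cfsg.Agent.Lib.Helper1.BGX.alpha_subset_sigma hG hU hM hpα
    have := coprime_card_of_le_compl' hG hM hE (hX.trans hE₃E) hpσ
    exact hp.ne_one (Nat.Coprime.eq_one_of_dvd this.symm hd)
  have hrk : Cfsg.RankLE 1 ↥(Cfsg.alphaCore M ⊓ Subgroup.centralizer (X : Set G)) := by
    by_contra hr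
    exact hnu (Cfsg.Agent.S1406.result hG M hM X hXM hXα hr)
  obtain ⟨Q, hQ⟩ := exists_sylow_centralized hG hM hE hE₃ hqσ hqβ
  -- an elementary abelian subgroup of order `> q ^ 2` of `M` lies in `M_σ`
  obtain ⟨A, hAM, hAc, hAe, hAcard⟩ := Cfsg.Agent.Lib.Helper17.BGU.exists_elemAb_of_not_pRankLE hqα.2
  have hAp : IsPGroup q A := by
    intro a
    refine ⟨1, ?_⟩
    rw [pow_one]
    exact Subtype.ext (by simpa using hAe a.1 a.2)
  have hAσ : A ≤ Cfsg.sigmaCore M :=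
    Cfsg.Agent.Lib.Helper16.BGPrim.le_sigmaCore_of_isPGroup hG hM hqσ hAp hAM
  have hnr : ¬ Cfsg.PRankLE q 2 ↥(Cfsg.sigmaCore M) :=
    Cfsg.Agent.Lib.Helper17.BGU.not_pRankLE_of_elemAb hAσ hAc hAe hAcard
  have hex : ∃ B : Subgroup ↥(Cfsg.sigmaCore M), B ≤ (Q : Subgroup ↥(Cfsg.sigmaCore M)) ∧
      IsMulCommutative B ∧ (∀ a ∈ B, a ^ q = 1) ∧ q ^ 2 < Nat.card B := by
    by_contra hno
    push Not at hno
    exact hnr (Cfsg.Agent.Lib.Helper17.BGU.pRankLE_of_sylow Q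
      (fun B hBQ hBc hBe => hno B hBQ hBc hBe))
  obtain ⟨B, hBQ, hBc, hBe, hBcard⟩ := hex
  set B' : Subgroup G := B.map (Cfsg.sigmaCore M).subtype with hB'
  have hB'σ : B' ≤ Cfsg.sigmaCore M := Subgroup.map_subtype_le _
  have hB'p : IsPGroup q B' := (Q.isPGroup'.to_le hBQ).map _
  have hB'α : B' ≤ Cfsg.alphaCore M :=
    Cfsg.Agent.Lib.Helper27.BG134.le_alphaCore_of_isPGroup hG hM hqα (hB'σ.trans (sigmaCore_le M))
      hB'p
  have hB'X : B' ≤ Subgroup.centralizer (X : Set G) := by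
    rintro _ ⟨b, hb, rfl⟩
    rw [Subgroup.mem_centralizer_iff]
    intro x hx
    exact hQ _ ⟨b, hBQ hb, rfl⟩ x (hX hx)
  have hB'c : ∀ a ∈ B', ∀ b ∈ B', a * b = b * a := by
    rintro _ ⟨a, ha, rfl⟩ _ ⟨b, hb, rfl⟩
    have := hBc.is_comm.comm (⟨a, ha⟩ : B) ⟨b, hb⟩
    have h2 := congrArg (fun z : B => ((z : ↥(Cfsg.sigmaCore M)) : G)) this
    simpa using h2
  have hB'e : ∀ a ∈ B', a ^ q = 1 := by
    rintro _ ⟨a, ha, rfl⟩
    have := hBe a ha
    have h2 := congrArg (fun z : ↥(Cfsg.sigmaCore M) => (z : G)) this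
    simpa using h2
  have hB'card : q < Nat.card B' := by
    rw [hB', Subgroup.card_subtype]
    calc q = q ^ 1 := (pow_one q).symm
      _ < q ^ 2 := Nat.pow_lt_pow_right hqp.one_lt (by norm_num)
      _ < Nat.card B := hBcard
  exact Cfsg.Agent.Lib.Helper17.BGU.not_rankLE_one_of_elemAb hqp (le_inf hB'α hB'X) hB'c hB'e
    hB'card hrk

/-! ### C7 -/

/-- **C7** (13.1(a), contrapositive): `M`, `H` non-conjugate, `p ∉ σ(M)`, `R ≤ M ∩ H` a `p`-group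
not centralizing `M_σ ∩ H`.  Then `p ∈ τ₁(H)`. -/
theorem mem_tau1_of_not_comm [Finite G] (hG : Cfsg.IsMinSimpleOddOrder G)
    {M H : Subgroup G} (hM : IsCoatom M) (hH : IsCoatom H)
    (hnc : ∀ g : G, H ≠ M.map (MulAut.conj g).toMonoidHom) {p : ℕ} [Fact p.Prime]
    (hp : p ∉ Cfsg.sigma M) {R : Subgroup G} (hRp : IsPGroup p R) (hRM : R ≤ M) (hRH : R ≤ H)
    {s t : G} (hs : s ∈ R) (ht : t ∈ Cfsg.sigmaCore M ⊓ H) (hst : s * t ≠ t * s) :
    p ∈ Cfsg.tau1 H := by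
  by_contra hτ
  exact hst (Cfsg.Agent.Lib.Helper16.BGPrim.thm13_1a hG (h17n hG) (h18a hG) (h23 hG) (h24 hG) hM hH
    hnc hp hRp hRM hRH hτ t ht s hs)

/-! ### L2, L3: normalizers of Sylow subgroups of `T₃` -/

/-- **L3a**: `M` controls fusion of subgroups of order `q ∈ β(M)`. -/
theorem mem_of_map_conj_le_of_beta [Finite G] (hG : Cfsg.IsMinSimpleOddOrder G) {M : Subgroup G}
    (hM : IsCoatom M) {q : ℕ} (hq : q ∈ Cfsg.beta M) {X : Subgroup G} (hXM : X ≤ M)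
    (hXc : Nat.card X = q) {g : G} (hXg : X.map (MulAut.conj g).toMonoidHom ≤ M) : g ∈ M := by
  have hqp : q.Prime := hq.1.1
  haveI : Fact q.Prime := ⟨hqp⟩
  haveI : IsSimpleGroup G := hG.2.1
  have hU : Cfsg.Agent.Lib.Helper1.BGX.UT G :=
    fun K hK h2 h3 => Cfsg.Agent.S1403.result hG K hK h2 h3
  have hqσ : q ∈ Cfsg.sigma M := Cfsg.Agent.Lib.Helper1.BGX.alpha_subset_sigma hG hU hM hq.1
  obtain ⟨P⟩ : Nonempty (Sylow q ↥(Cfsg.sigmaCore M)) := inferInstance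
  have h1 := (Cfsg.Agent.S1423.result hG M hM q hqσ X hXM hXc P (Or.inl hq)).1.1
  have h2 := (Cfsg.Agent.S1423.result hG M hM q hqσ _ hXg (by rw [card_map_conj]; exact hXc) P
    (Or.inl hq)).1.2
  have h3 : Subgroup.centralizer ((X.map (MulAut.conj g).toMonoidHom : Subgroup G) : Set G) ≤
      M.map (MulAut.conj g).toMonoidHom := by
    rw [Cfsg.Agent.Lib.Helper16.centralizer_map_conj]
    exact Subgroup.map_mono h1
  have h4 := h2 _ (Cfsg.Agent.Lib.Helper17.BGU.isCoatom_map_conj g hM) h3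
  have hM1 : M ≠ ⊥ := by
    intro h0
    rw [h0, le_bot_iff] at hXM
    rw [hXM, Subgroup.card_bot] at hXc
    exact hqp.ne_one hXc.symm
  have h5 : g ∈ Subgroup.normalizer (M : Set G) := mem_normalizer_iff_map_conj.mpr h4
  rwa [Cfsg.Agent.Lib.Helper17.BGU.normalizer_eq_of_coatom hM le_rfl hM1 Subgroup.le_normalizer]
    at h5

/-- **L3**: for `q ∈ β(M)` every non-identity `q`-subgroup of `M` has its normalizer in `M`. -/
theorem normalizer_le_of_beta [Finite G] (hG : Cfsg.IsMinSimpleOddOrder G) {M : Subgroup G}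
    (hM : IsCoatom M) {q : ℕ} (hq : q ∈ Cfsg.beta M) {Q : Subgroup G} (hQ : IsPGroup q Q)
    (hQ1 : Q ≠ ⊥) (hQM : Q ≤ M) : Subgroup.normalizer (Q : Set G) ≤ M := by
  have hqp : q.Prime := hq.1.1
  haveI : Fact q.Prime := ⟨hqp⟩
  obtain ⟨k, hk⟩ := IsPGroup.iff_card.mp hQ
  have hk0 : k ≠ 0 := by
    rintro rfl
    rw [pow_zero] at hk
    exact hQ1 (Subgroup.card_eq_one.mp hk)
  have hqd : q ∣ Nat.card Q := by rw [hk]; exact dvd_pow_self q hk0
  obtain ⟨x, hxo⟩ := exists_prime_orderOf_dvd_card' q hqd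
  set X : Subgroup G := Subgroup.zpowers (x : G) with hXdef
  have hXQ : X ≤ Q := Subgroup.zpowers_le.mpr x.2
  have hXc : Nat.card X = q := by rw [hXdef, Nat.card_zpowers, Subgroup.orderOf_coe, hxo]
  intro g hg
  apply mem_of_map_conj_le_of_beta hG hM hq (hXQ.trans hQM) hXc
  have h1 : Q.map (MulAut.conj g).toMonoidHom = Q := mem_normalizer_iff_map_conj.mp hg
  calc X.map (MulAut.conj g).toMonoidHom ≤ Q.map (MulAut.conj g).toMonoidHom :=
        Subgroup.map_mono hXQ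
    _ = Q := h1
    _ ≤ M := hQM

open Cfsg.Agent.Lib.Helper8 (IsSylIn)

/-- **L2**: for `q ∈ σ(M) \ β(M)` a Sylow `q`-subgroup of `T₃ = C_{M_σ}(E₃)` (`E₃ ≤ E'`) is a Sylow
`q`-subgroup of `M_σ`. -/
theorem isSylIn_sigmaCore_of_isSylIn_cent [Finite G] (hG : Cfsg.IsMinSimpleOddOrder G)
    {M : Subgroup G} (hM : IsCoatom M) {E : Subgroup G}
    (hE : Cfsg.IsComplIn E (Cfsg.sigmaCore M) M) {E₃ : Subgroup G} (hE₃ : E₃ ≤ ⁅E, E⁆) {q : ℕ}
    [Fact q.Prime] (hq : q ∈ Cfsg.sigma M) (hqβ : q ∉ Cfsg.beta M) {S : Subgroup G}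
    (hS : IsSylIn q S (Cfsg.sigmaCore M ⊓ Subgroup.centralizer (E₃ : Set G))) :
    IsSylIn q S (Cfsg.sigmaCore M) := by
  obtain ⟨Q, hQ⟩ := exists_sylow_centralized hG hM hE hE₃ hq hqβ
  set Q' : Subgroup G := (Q : Subgroup ↥(Cfsg.sigmaCore M)).map (Cfsg.sigmaCore M).subtype with hQ'
  have hQ'T : Q' ≤ Cfsg.sigmaCore M ⊓ Subgroup.centralizer (E₃ : Set G) := by
    refine le_inf (Subgroup.map_subtype_le _) ?_
    intro y hy
    rw [Subgroup.mem_centralizer_iff]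
    intro e he
    exact hQ y hy e he
  have hQ'p : IsPGroup q Q' := Q.isPGroup'.map _
  have hQ'c : Nat.card Q' = q ^ (Nat.card ↥(Cfsg.sigmaCore M)).factorization q := by
    rw [hQ', Subgroup.card_subtype]
    exact Q.card_eq_multiplicity
  have h1 := Cfsg.Agent.Lib.Helper8.card_dvd_of_isPGroup_le hQ'p hQ'T
  rw [← hS.2, hQ'c] at h1
  exact Cfsg.Agent.Lib.Helper8.isSylIn_of_card_le hS.isPGroup (hS.1.trans inf_le_left)
    (Nat.le_of_dvd Nat.card_pos h1)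

/-- **L2 + L3**: every non-identity Sylow subgroup `S` of `T₃ = C_{M_σ}(E₃)` has `N_G(S) ≤ M`. -/
theorem normalizer_le_of_isSylIn_cent [Finite G] (hG : Cfsg.IsMinSimpleOddOrder G)
    {M : Subgroup G} (hM : IsCoatom M) {E : Subgroup G}
    (hE : Cfsg.IsComplIn E (Cfsg.sigmaCore M) M) {E₃ : Subgroup G} (hE₃ : E₃ ≤ ⁅E, E⁆) {q : ℕ}
    [Fact q.Prime] {S : Subgroup G}
    (hS : IsSylIn q S (Cfsg.sigmaCore M ⊓ Subgroup.centralizer (E₃ : Set G))) (hS1 : S ≠ ⊥) :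
    Subgroup.normalizer (S : Set G) ≤ M := by
  have hqp : q.Prime := Fact.out
  have hSσ : S ≤ Cfsg.sigmaCore M := hS.1.trans inf_le_left
  have hq : q ∈ Cfsg.sigma M := by
    apply primes_card_sigmaCore M q hqp
    obtain ⟨k, hk⟩ := IsPGroup.iff_card.mp hS.isPGroup
    have hk0 : k ≠ 0 := by
      rintro rfl
      rw [pow_zero] at hk
      exact hS1 (Subgroup.card_eq_one.mp hk)
    exact (dvd_pow_self q hk0).trans (hk ▸ Subgroup.card_dvd_of_le hSσ)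
  by_cases hqβ : q ∈ Cfsg.beta M
  · exact normalizer_le_of_beta hG hM hqβ hS.isPGroup hS1 (hSσ.trans (sigmaCore_le M))
  · exact Cfsg.Agent.Lib.Helper8.BGEx.normalizer_le_of_isSylIn_sigmaCore hG hM hq
      (isSylIn_sigmaCore_of_isSylIn_cent hG hM hE hE₃ hq hqβ hS)

/-! ### C8: prime action of `M_σ'` on `H_σ` -/

/-- `N_G(Y) ≤ M` for `Y ≤ M_σ'` of prime order. -/
theorem normalizer_le_of_le_commutator [Finite G] (hG : Cfsg.IsMinSimpleOddOrder G)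
    {M : Subgroup G} (hM : IsCoatom M) {Y : Subgroup G} {q : ℕ} (hq : q.Prime)
    (hYc : Nat.card Y = q) (hYσ : Y ≤ ⁅Cfsg.sigmaCore M, Cfsg.sigmaCore M⁆) :
    Subgroup.normalizer (Y : Set G) ≤ M := by
  haveI : Fact q.Prime := ⟨hq⟩
  haveI : IsSimpleGroup G := hG.2.1
  have hYMσ : Y ≤ Cfsg.sigmaCore M :=
    hYσ.trans (Cfsg.Agent.Lib.Helper16.BGPrim.commutator_self_le' _)
  have hYM : Y ≤ M := hYMσ.trans (sigmaCore_le M)
  have hqM : q ∈ Cfsg.sigma M :=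
    primes_card_sigmaCore M q hq (hYc ▸ Subgroup.card_dvd_of_le hYMσ)
  obtain ⟨P⟩ : Nonempty (Sylow q ↥(Cfsg.sigmaCore M)) := inferInstance
  have h23' := (Cfsg.Agent.S1423.result hG M hM q hqM Y hYM hYc P (Or.inr hYσ)).1
  have hY1 : Y ≠ ⊥ := by
    intro h
    rw [h, Subgroup.card_bot] at hYc
    exact hq.ne_one hYc.symm
  exact Cfsg.Agent.Lib.Helper24.BGReg.normalizer_le_of_unique hY1 hYM hM h23'.2

/-- **C8** ((12.6)(d)): in the situation of C3, `H_σ ∩ M = C_{H_σ}(Y)`. -/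
theorem sigmaCore_inf_eq_centralizer [Finite G] (hG : Cfsg.IsMinSimpleOddOrder G)
    {M H : Subgroup G} (hM : IsCoatom M) (hH : IsCoatom H)
    (hnc : ∀ g : G, H ≠ M.map (MulAut.conj g).toMonoidHom) {Y : Subgroup G} {q : ℕ}
    (hq : q.Prime) (hYc : Nat.card Y = q)
    (hYσ : Y ≤ ⁅Cfsg.sigmaCore M, Cfsg.sigmaCore M⁆) (hYH : Y ≤ H) {x : G}
    (hx : x ∈ Cfsg.sigmaCore H) (hx1 : x ≠ 1) (hYx : ∀ y ∈ Y, y * x = x * y) :
    Cfsg.sigmaCore H ⊓ M = Cfsg.sigmaCore H ⊓ Subgroup.centralizer (Y : Set G) := by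
  haveI : Fact q.Prime := ⟨hq⟩
  obtain ⟨hqσ, hqτ2, -⟩ := mem_kappa_of_le_commutator hG hM hH hnc hq hYc hYσ hYH hx hx1 hYx
  have hrk : Cfsg.PRankLE q 1 ↥H := by
    by_contra h
    exact hqτ2 (mem_tau2_of_not_rank_one hG hH hq hqσ h)
  have hY1 : Y ≠ ⊥ := by
    intro h
    rw [h, Subgroup.card_bot] at hYc
    exact hq.ne_one hYc.symm
  exact Cfsg.Agent.Lib.Helper16.BGPrim.thm13_2_c hG (h17n hG) (h18a hG) (h23 hG) (h24 hG) hH hM hqσ
    hrk (IsPGroup.of_card (n := 1) (by rw [pow_one]; exact hYc)) hY1 hYH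
    (normalizer_le_of_le_commutator hG hM hq hYc hYσ)

end Cfsg.Agent.Lib.Helper24.BGC2C
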