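/- helper24: Corollary R and Corollary G1 from the statement of S1428 alone (glue: BGRegA-E + helper17 Theorem R2). -/
import Mathlib
import Cfsg.Agent.Lib.Helper24.BGRegE
import Cfsg.Agent.Lib.Helper17.BGR2F

set_option autoImplicit false
set_option linter.unusedVariables false

namespace Cfsg.Agent.Lib.Helper24.BGReg

open Cfsg.Agent.Lib.Helper2.BGCor (H28 CorR CorG1)

universe u

variable {G : Type u} [Group G]

theorem h28G_of_h1428 (h28 : Cfsg.Agent.Lib.Helper17.BGR2.H1428 G) : H28G G :=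
  fun M hM E hE p hp P hPE hP R hRE hR => h28 M hM E hE p hp P hPE hP R hRE hR

theorem hR2_of_h1428 [Finite G] (hG : Cfsg.IsMinSimpleOddOrder G)
    (h28 : Cfsg.Agent.Lib.Helper17.BGR2.H1428 G) : HR2 G :=
  fun M hM E hE r _ hr hS A hAE hAe hA2 k hkE hks hku _ _ =>
    (Cfsg.Agent.Lib.Helper17.BGR2.thmR2' hG h28 hM hE hr hS hAE hAe hA2 hkE hks hku).elim

/-- **Corollary R** from the statement of S1428 alone. -/
theorem corR_of_h1428 [Finite G] (hG : Cfsg.IsMinSimpleOddOrder G)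
    (h28 : Cfsg.Agent.Lib.Helper17.BGR2.H1428 G) {M : Subgroup G} (hM : IsCoatom M) : CorR M :=
  corR hG (h28G_of_h1428 h28) (hR2_of_h1428 hG h28) hM

/-- **Corollary G1** from the statement of S1428 alone. -/
theorem corG1_of_h1428 [Finite G] (hG : Cfsg.IsMinSimpleOddOrder G)
    (h28 : Cfsg.Agent.Lib.Helper17.BGR2.H1428 G) {M : Subgroup G} (hM : IsCoatom M) : CorG1 M :=
  corG1 hG (hR2_of_h1428 hG h28) hM

end Cfsg.Agent.Lib.Helper24.BGReg
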