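/-
helper24: vocabulary of the CORE of the Brauer 1943 / Brauer-Reynolds family (S0999, S4701; S0996, S4700 via helper27's
wrappers).  Mathematics: `notes/S0999_BR_math_helper24.md`; leaves: `notes/S0999_leaves.lean`.

`P ≤ G` a Sylow `p`-subgroup of order `p`, `C = Cz P`, `N = Nz P`, `f = |N : C| = (Cz P).relIndex (Nz P)`, `t = (p-1)/f`,
`|G : N| = 1 + n p`.
* `B0X p P X Y v ε`  : helper6's principal block `BRH.B0` + two more clauses of DO-FULL (`regY`, `relY`);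
* `Lin P`            : the irreducible characters of `N` that are trivial on `P` (when `C = P` these are the `f` linear
                       characters of the cyclic group `N / P`);
* `cN P χ β : ℕ`     : the multiplicity `⟨χ|_N, β⟩`;
* `aP P χ : ℕ`       : the multiplicity `⟨χ|_P, 1_P⟩`;
* `Special p P n w X Y v ε` : THE SPECIAL CASE: `C = P`, `G` perfect with `O_{p'}(G) = 1`, `2 ≤ f` (`f = p - 1` allowed), and every non-trivial
                       non-exceptional character of `B_0` has (sign `+1`, degree `1 + n p`) ["type A"] or (sign `-1`, degree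
                       `p - 1`) ["type B"]; the exceptional characters have degree `w p + ε f`;
* `LinData P`, `StepA …`, `StepC …` : the OUTPUT of the three layers of leaves (so that every leaf is independent of the others).
-/
import Mathlib
import Cfsg.Prelude.Def_BlockRank
import Cfsg.Agent.Lib.Helper6.BRHDefs

set_option autoImplicit false

namespace Cfsg.Agent.Lib.Helper24.BRC

open Cfsg Cfsg.Agent.Lib.Helper8.DOM Cfsg.Agent.Lib.Helper27.DO Cfsg.Agent.CharLib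
open Cfsg.Agent.Lib.Helper6.BRH
open scoped ComplexConjugate

universe u

variable {G : Type u} [Group G]

/-- `f = |N_G(P) : C_G(P)|` -/
noncomputable abbrev fI (P : Subgroup G) : ℕ := (Cz P).relIndex (Nz P)

/-- `t = (p - 1) / f` -/
noncomputable abbrev tI (p : ℕ) (P : Subgroup G) : ℕ := (p - 1) / fI P

/-- the principal block `B_0 = X ∪ Y`, with the clauses of `BRH.B0` and two more -/
structure B0X (p : ℕ) (P : Subgroup G) (X Y : Set (IrrCharacter G)) (v : IrrCharacter G → ℤ) (ε : ℤ) :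
    Prop where
  b0 : B0 p P X Y v ε
  regY : ∀ ψ ∈ Y, ∀ ψ' ∈ Y, ∀ g : G, ¬ p ∣ orderOf g → (ψ : G → ℂ) g = (ψ' : G → ℂ) g
  relY : ∀ ψ ∈ Y, ∀ g : G, ¬ p ∣ orderOf g →
    (ε : ℂ) * (ψ : G → ℂ) g = ∑ᶠ χ ∈ X, (v χ : ℂ) * (χ : G → ℂ) g

/-- the irreducible characters of `N_G(P)` that are trivial on `P` -/
def Lin (P : Subgroup G) : Set (IrrCharacter (Nz P)) :=
  {β | ∀ x : Nz P, (x : G) ∈ P → (β : Nz P → ℂ) x = 1}

/-- the multiplicity `⟨χ|_N, β⟩` as a natural number -/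
noncomputable def cN (P : Subgroup G) (χ : IrrCharacter G) (β : IrrCharacter (Nz P)) : ℕ :=
  ⌊(mult (Nz P) (χ : G → ℂ) (β : Nz P → ℂ)).re⌋₊

/-- the multiplicity `⟨χ|_P, 1_P⟩` as a natural number -/
noncomputable def aP (P : Subgroup G) (χ : IrrCharacter G) : ℕ :=
  ⌊((Nat.card P : ℂ)⁻¹ * ∑ᶠ x ∈ (P : Set G), (χ : G → ℂ) x).re⌋₊

/-- THE SPECIAL CASE -/
structure Special (p : ℕ) (P : Subgroup G) (n w : ℕ) (X Y : Set (IrrCharacter G))
    (v : IrrCharacter G → ℤ) (ε : ℤ) : Prop where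
  bx : B0X p P X Y v ε
  hP : Nat.card P = p
  hSyl : ¬ p ∣ P.index
  hC : Cz P = P
  hidx : (Nz P).index = 1 + n * p
  hn : 1 ≤ n
  hf2 : 2 ≤ (Cz P).relIndex (Nz P)
  perf : commutator G = ⊤
  core : ∀ K : Subgroup G, K.Normal → (Nat.card K).Coprime p → K = ⊥
  typ : ∀ η ∈ X, η ≠ trivIrr G →
    (v η = 1 ∧ charDegree (η : G → ℂ) = 1 + n * p) ∨ (v η = -1 ∧ charDegree (η : G → ℂ) = p - 1)
  hw : ∀ ψ ∈ Y, (charDegree (ψ : G → ℂ) : ℤ) = (w : ℤ) * p + ε * ((Cz P).relIndex (Nz P) : ℤ)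

/-- the non-trivial non-exceptional characters of sign `+1` ("type A") -/
def typeA (X : Set (IrrCharacter G)) (v : IrrCharacter G → ℤ) : Set (IrrCharacter G) :=
  {η | η ∈ X ∧ η ≠ trivIrr G ∧ v η = 1}

/-- the non-exceptional characters of sign `-1` ("type B") -/
def typeB (X : Set (IrrCharacter G)) (v : IrrCharacter G → ℤ) : Set (IrrCharacter G) :=
  {η | η ∈ X ∧ v η = -1}

/-- the "free" linear characters of `N / P`: non-trivial, and in no type A character -/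
def free (P : Subgroup G) (X : Set (IrrCharacter G)) (v : IrrCharacter G → ℤ) :
    Set (IrrCharacter (Nz P)) :=
  {β | β ∈ Lin P ∧ β ≠ trivIrr ↥(Nz P) ∧ ∀ η ∈ typeA X v, cN P η β = 0}

/-- LAYER 0 OUTPUT: the characters of `N = N_G(P)` when `C_G(P) = P` has prime order -/
structure LinData (P : Subgroup G) : Prop where
  card_eq : Nat.card (Lin P) = fI P
  sum_mem : ∀ y : Nz P, (y : G) ∈ P → ∑ᶠ β ∈ Lin P, (β : Nz P → ℂ) y = (fI P : ℂ)
  sum_not_mem : ∀ y : Nz P, (y : G) ∉ P → ∑ᶠ β ∈ Lin P, (β : Nz P → ℂ) y = 0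
  norm_eq : ∀ β ∈ Lin P, ∀ y : Nz P, Complex.normSq ((β : Nz P → ℂ) y) = 1
  vanish : ∀ γ : IrrCharacter (Nz P), γ ∉ Lin P → ∀ y : Nz P, (y : G) ∉ P → (γ : Nz P → ℂ) y = 0
  conj_mem : ∀ β ∈ Lin P, ∃ β' ∈ Lin P, ∀ y : Nz P, (β' : Nz P → ℂ) y = conj ((β : Nz P → ℂ) y)
  even_of_real : ∀ β ∈ Lin P, β ≠ trivIrr ↥(Nz P) → (∀ y : Nz P, conj ((β : Nz P → ℂ) y) = (β : Nz P → ℂ) y) →
    Even (fI P)

/-- LAYER 1 OUTPUT ("Step A") -/
structure StepA (p : ℕ) (P : Subgroup G) (n w : ℕ) (X Y : Set (IrrCharacter G))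
    (v : IrrCharacter G → ℤ) (ε : ℤ) : Prop where
  cN_triv : cN P (trivIrr G) (trivIrr ↥(Nz P)) = 1
  cN_conj : ∀ (χ χ' : IrrCharacter G) (β β' : IrrCharacter (Nz P)),
    (∀ g : G, (χ' : G → ℂ) g = conj ((χ : G → ℂ) g)) →
    (∀ y : Nz P, (β' : Nz P → ℂ) y = conj ((β : Nz P → ℂ) y)) → cN P χ' β' = cN P χ β
  sum_cN : ∀ χ : IrrCharacter G, ∑ᶠ β ∈ Lin P, cN P χ β = aP P χ
  deg_cN : ∀ β ∈ Lin P, ∑ᶠ χ : IrrCharacter G, cN P χ β * charDegree (χ : G → ℂ) = 1 + n * p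
  val_cN : ∀ β ∈ Lin P, ∀ x ∈ P, x ≠ 1 →
    ∑ᶠ χ : IrrCharacter G, (cN P χ β : ℂ) * (χ : G → ℂ) x = 1
  resN : ∀ χ : IrrCharacter G, ∀ y : Nz P, (y : G) ∉ P →
    (χ : G → ℂ) y = ∑ᶠ β ∈ Lin P, (cN P χ β : ℂ) * (β : Nz P → ℂ) y
  aP_triv : aP P (trivIrr G) = 1
  aP_A : ∀ η ∈ typeA X v, aP P η = n + 1
  aP_B : ∀ η ∈ typeB X v, aP P η = 0
  aP_Y : ∀ ψ ∈ Y, aP P ψ = w
  normY : ∀ ψ ∈ Y, ∑ᶠ x ∈ {x : G | x ∈ P ∧ x ≠ 1}, Complex.normSq ((ψ : G → ℂ) x) =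
    (fI P : ℝ) * ((p : ℝ) - (fI P : ℝ))
  out_zero : ∀ χ : IrrCharacter G, χ ∉ X ∪ Y → ∀ x ∈ P, x ≠ 1 → (χ : G → ℂ) x = 0
  aP_out : ∀ χ : IrrCharacter G, χ ∉ X ∪ Y → charDegree (χ : G → ℂ) = p * aP P χ
  sum_aP_sq : ∑ᶠ χ : IrrCharacter G, (aP P χ) ^ 2 = fI P * (n + 1)

/-- LAYER 2 OUTPUT (ownership and counting) -/
structure StepC (p : ℕ) (P : Subgroup G) (n w : ℕ) (X Y : Set (IrrCharacter G))
    (v : IrrCharacter G → ℤ) (ε : ℤ) : Prop where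
  own : ∀ η ∈ typeA X v, ∀ β ∈ Lin P, cN P η β ≠ 0 →
    cN P η β = 1 ∧ ∀ χ : IrrCharacter G, χ ≠ η → cN P χ β = 0
  cN_Y_triv : ∀ ψ ∈ Y, cN P ψ (trivIrr ↥(Nz P)) = 0
  free_spec : ∀ β ∈ free P X v, ε = -1 ∧ ∑ᶠ ψ ∈ Y, cN P ψ β = tI p P
  cardX : Nat.card (typeA X v) + Nat.card (typeB X v) + 1 = fI P
  cardLin : Nat.card (typeA X v) * (n + 1) + w + 1 = fI P
  cardFree : Nat.card (free P X v) = w
  sgn_w : ε = 1 → w = 0

end Cfsg.Agent.Lib.Helper24.BRC
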