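/-
helper24: basic calculus of Brauer pairs in the ordinary-character vocabulary of
`Def_BrauerPairs`: the Brauer functional `β ↦ ω_ξ(β|_{C_G(P)})` is multiplicative modulo the
local ideal, block idempotents are orthogonal idempotents summing to one, every irreducible
character of `C_G(P)` picks out exactly one block of `G`.
-/
import Mathlib
import Cfsg.Prelude.Def_BrauerPairs
import Cfsg.Agent.Lib.Helper6.BrauerMap
import Cfsg.Agent.Lib.Helper6.FirstMain
import Cfsg.Agent.Lib.Helper6.InducedDefect
import Cfsg.Agent.Lib.Helper6.ClassSumOmega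
import Cfsg.Agent.Lib.Helper24.LocalRing

set_option autoImplicit false

namespace Cfsg.Agent.Lib.Helper24

open Cfsg Cfsg.Agent.CharLib Cfsg.Agent.Lib.Helper6
open scoped ComplexConjugate

universe u

section
variable {G : Type u} [Group G] [Fintype G]

theorem brauerOmega_eq (Q : Subgroup G) (β : G → ℂ)
    [Fintype (Subgroup.centralizer (Q : Set G))]
    (ξ : Subgroup.centralizer (Q : Set G) → ℂ) :
    brauerOmega Q β ξ = omegaFun ξ (resFun (Subgroup.centralizer (Q : Set G)) β) := by
  unfold brauerOmega omegaFun
  rw [finsum_eq_sum_of_fintype, Finset.sum_div]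
  rfl

theorem conv_blockCoeff_of_disjoint (A A' : Set (IrrCharacter G)) (h : Disjoint A A') :
    conv (blockCoeff A) (blockCoeff A') = 0 := by
  classical
  have h0 : IsClassFunction G (0 : G → ℂ) := fun _ _ => rfl
  apply eq_of_omegaFun_eq (conv_isClassFunction (blockCoeff_isClassFunction A)
    (blockCoeff_isClassFunction A')) h0
  intro χ
  rw [omegaFun_conv χ (blockCoeff_isClassFunction A) (blockCoeff_isClassFunction A'),
    omegaFun_blockCoeff, omegaFun_blockCoeff]
  have hz : omegaFun (χ : G → ℂ) (0 : G → ℂ) = 0 := by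
    unfold omegaFun
    simp
  rw [hz]
  by_cases h1 : χ ∈ A
  · have h2 : χ ∉ A' := fun h2 => (Set.disjoint_left.mp h) h1 h2
    rw [if_neg h2, mul_zero]
  · rw [if_neg h1, zero_mul]

theorem blockCoeff_univ : blockCoeff (Set.univ : Set (IrrCharacter G)) = classInd 1 := by
  classical
  apply eq_of_omegaFun_eq (blockCoeff_isClassFunction _) (classInd_isClassFunction 1)
  intro χ
  rw [omegaFun_blockCoeff, if_pos (Set.mem_univ χ), omegaFun_classInd, centralChar_one]

/-- The Brauer functional is multiplicative modulo the local ideal. -/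
theorem memLocalIdeal_brauer_conv {p : ℕ} [hpp : Fact p.Prime] {M : Ideal AlgInt}
    (hM : IsPModular p M) (P : Subgroup G) (hP : IsPGroup p P)
    [Fintype (Subgroup.centralizer (P : Set G))] {a b : G → ℂ}
    (ha : IsClassFunction G a) (haR : ∀ x, MemLocalRing M (a x)) (hb : IsClassFunction G b)
    (hbR : ∀ x, MemLocalRing M (b x)) (ξ : IrrCharacter (Subgroup.centralizer (P : Set G))) :
    MemLocalIdeal M
      (omegaFun (ξ : Subgroup.centralizer (P : Set G) → ℂ)
          (resFun (Subgroup.centralizer (P : Set G)) (conv a b)) -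
        omegaFun (ξ : Subgroup.centralizer (P : Set G) → ℂ)
          (resFun (Subgroup.centralizer (P : Set G)) a) *
        omegaFun (ξ : Subgroup.centralizer (P : Set G) → ℂ)
          (resFun (Subgroup.centralizer (P : Set G)) b)) := by
  classical
  haveI hprime : M.IsPrime := isPrime_of_isPModular hM
  have hbr : ∀ c : G → ℂ, brFun P (Subgroup.centralizer (P : Set G)) c =
      resFun (Subgroup.centralizer (P : Set G)) c := by
    intro c
    funext h
    rw [brFun_of_mem P _ c h.2, resFun_apply]
  have hra := resFun_isClassFunction (Subgroup.centralizer (P : Set G)) ha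
  have hrb := resFun_isClassFunction (Subgroup.centralizer (P : Set G)) hb
  have hrab := resFun_isClassFunction (Subgroup.centralizer (P : Set G))
    (conv_isClassFunction ha hb)
  rw [← omegaFun_conv ξ hra hrb, ← omegaFun_sub]
  apply memLocalIdeal_omegaFun_of_forall ξ
    (IsClassFunction.sub hrab (conv_isClassFunction hra hrb))
  · intro x
    rw [Pi.sub_apply]
    exact memLocalRing_sub (memLocalRing_conv haR hbR _)
      (memLocalRing_conv (a := resFun (Subgroup.centralizer (P : Set G)) a)
        (b := resFun (Subgroup.centralizer (P : Set G)) b)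
        (fun y => haR (y : G)) (fun y => hbR (y : G)) x)
  · intro x
    left
    have := brFun_conv_sub P (Subgroup.centralizer (P : Set G)) hM hP le_rfl ha haR hb hbR x
    rw [hbr, hbr, hbr] at this
    exact this

theorem omegaFun_resFun_classInd_one (H : Subgroup G) [Fintype H] (ξ : IrrCharacter H) :
    omegaFun (ξ : H → ℂ) (resFun H (classInd (1 : G))) = 1 := by
  classical
  unfold omegaFun
  have h1 : (ξ : H → ℂ) 1 ≠ 0 := by
    obtain ⟨d, hdpos, hd⟩ := IsIrrCharacter.apply_one_pos ξ.2
    rw [hd]
    exact Nat.cast_ne_zero.mpr hdpos.ne'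
  rw [div_eq_one_iff_eq h1, Finset.sum_eq_single (1 : H)]
  · rw [resFun_apply]
    unfold classInd
    rw [if_pos (by exact IsConj.refl 1), one_mul]
  · intro c _ hc
    rw [resFun_apply]
    unfold classInd
    rw [if_neg, zero_mul]
    intro hcon
    apply hc
    have := isConj_one_right.mp hcon
    exact Subtype.ext this
  · intro h
    exact absurd (Finset.mem_univ _) h

end

section setoid
variable (M : Ideal AlgInt) [hprime : M.IsPrime] (G : Type u) [Group G] [Finite G]

/-- the partition of the irreducible characters into blocks -/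
def blockSetoid : Setoid (IrrCharacter G) where
  r χ ψ := SameBlock M (χ : G → ℂ) (ψ : G → ℂ)
  iseqv := ⟨fun χ => sameBlock_refl (χ : G → ℂ), fun h => sameBlock_symm h,
    fun h1 h2 => sameBlock_trans h1 h2⟩

end setoid

section sumBlocks
variable {G : Type u} [Group G] [Fintype G] {M : Ideal AlgInt} [hprime : M.IsPrime]

theorem mem_blockOf_out_iff (q : Quotient (blockSetoid M G)) (χ : IrrCharacter G) :
    χ ∈ blockOf M ((Quotient.out q : IrrCharacter G) : G → ℂ) ↔
      Quotient.mk (blockSetoid M G) χ = q := by
  constructor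
  · intro h
    have : Quotient.mk (blockSetoid M G) (Quotient.out q) = Quotient.mk (blockSetoid M G) χ :=
      Quotient.sound h
    rw [← this, Quotient.out_eq]
  · intro h
    have h2 : Quotient.mk (blockSetoid M G) (Quotient.out q) = Quotient.mk (blockSetoid M G) χ := by
      rw [Quotient.out_eq, h]
    exact Quotient.exact h2

theorem sum_blockCoeff_blocks [Fintype (Quotient (blockSetoid M G))] :
    ∑ q : Quotient (blockSetoid M G),
      blockCoeff (blockOf M ((Quotient.out q : IrrCharacter G) : G → ℂ)) = classInd 1 := by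
  classical
  let _ : Fintype (IrrCharacter G) := fintypeIrr G
  rw [← blockCoeff_univ]
  funext g
  rw [Finset.sum_apply]
  simp only [blockCoeff_eq_sum]
  rw [← Finset.mul_sum, Finset.sum_comm]
  congr 1
  apply Finset.sum_congr rfl
  intro χ _
  rw [if_pos (Set.mem_univ χ)]
  simp only [mem_blockOf_out_iff]
  rw [Finset.sum_ite_eq]
  simp

/-- **Every irreducible character of `C_G(P)` picks out a block of `G`.** -/
theorem exists_block_brauer {p : ℕ} [hpp : Fact p.Prime]
    (hM : IsPModular p M) (P : Subgroup G) (hP : IsPGroup p P)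
    [Fintype (Subgroup.centralizer (P : Set G))]
    (ξ : IrrCharacter (Subgroup.centralizer (P : Set G))) :
    ∃ χ₀ : IrrCharacter G, MemLocalIdeal M
      (omegaFun (ξ : Subgroup.centralizer (P : Set G) → ℂ)
        (resFun (Subgroup.centralizer (P : Set G)) (blockCoeff (blockOf M (χ₀ : G → ℂ)))) - 1) := by
  classical
  let _ : Fintype (Quotient (blockSetoid M G)) := Fintype.ofFinite _
  by_contra hcon
  push Not at hcon
  have hT : ∀ χ₀ : IrrCharacter G, MemLocalIdeal M
      (omegaFun (ξ : Subgroup.centralizer (P : Set G) → ℂ)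
        (resFun (Subgroup.centralizer (P : Set G)) (blockCoeff (blockOf M (χ₀ : G → ℂ))))) := by
    intro χ₀
    have hβcls : IsClassFunction G (blockCoeff (blockOf M (χ₀ : G → ℂ))) :=
      blockCoeff_isClassFunction _
    have hβR : ∀ x, MemLocalRing M (blockCoeff (blockOf M (χ₀ : G → ℂ)) x) :=
      fun x => memLocalRing_blockCoeff_blockOf χ₀ x
    have h1 := memLocalIdeal_brauer_conv hM P hP hβcls hβR hβcls hβR ξ
    rw [conv_blockCoeff_self] at h1
    have htR : MemLocalRing M (omegaFun (ξ : Subgroup.centralizer (P : Set G) → ℂ)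
        (resFun (Subgroup.centralizer (P : Set G)) (blockCoeff (blockOf M (χ₀ : G → ℂ))))) :=
      memLocalRing_omegaFun ξ (resFun_isClassFunction _ hβcls) (fun x => hβR x)
    have h0 := hcon χ₀
    revert h1 htR h0
    generalize omegaFun (ξ : Subgroup.centralizer (P : Set G) → ℂ)
        (resFun (Subgroup.centralizer (P : Set G)) (blockCoeff (blockOf M (χ₀ : G → ℂ)))) = t
    intro h1 htR h0
    have h2 : MemLocalIdeal M (t * (t - 1)) := by
      have : t * (t - 1) = -(t - t * t) := by ring
      rw [this]
      exact memLocalIdeal_neg h1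
    rcases memLocalIdeal_or_of_mul htR (memLocalRing_sub htR memLocalRing_one) h2 with h3 | h3
    · exact h3
    · exact absurd h3 h0
  have hone := omegaFun_resFun_classInd_one (Subgroup.centralizer (P : Set G)) ξ
  rw [← sum_blockCoeff_blocks (M := M), map_sum, omegaFun_sum] at hone
  have : MemLocalIdeal M (1 : ℂ) := by
    rw [← hone]
    apply sum_memLocalIdeal
    intro q _
    exact hT _
  exact not_memLocalIdeal_one this

end sumBlocks

end Cfsg.Agent.Lib.Helper24
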