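/-
helper24: transport of irreducible characters and blocks along group automorphisms, and the
conjugation action of a normalizing element on the characters / blocks of a subgroup
(vocabulary of `Def_BlockLocal`: `IsConjCharOf`, `StabilizesBlock`).
-/
import Mathlib
import Cfsg.Prelude.Def_BlockLocal
import Cfsg.Agent.Lib.Helper6.CliffordCorr
import Cfsg.Agent.Lib.Helper6.FirstMain
import Cfsg.Agent.Lib.Helper24.IrrFacts
import Cfsg.Agent.Lib.Helper24.LocalRing

set_option autoImplicit false

namespace Cfsg.Agent.Lib.Helper24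

open Cfsg Cfsg.Agent.CharLib Cfsg.Agent.Lib.Helper6

universe u

section transport

variable {A : Type u} [Group A]

/-- Transport of an irreducible character along an automorphism. -/
noncomputable def irrComp (e : A ≃* A) (χ : IrrCharacter A) : IrrCharacter A :=
  ⟨(χ : A → ℂ) ∘ e, isIrrCharacter_comp_mulEquiv' e χ.2⟩

theorem irrComp_apply (e : A ≃* A) (χ : IrrCharacter A) (a : A) :
    (irrComp e χ : A → ℂ) a = (χ : A → ℂ) (e a) := rfl

theorem irrComp_symm_irrComp (e : A ≃* A) (χ : IrrCharacter A) :
    irrComp e.symm (irrComp e χ) = χ := by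
  apply Subtype.ext
  funext a
  change (χ : A → ℂ) (e (e.symm a)) = (χ : A → ℂ) a
  rw [MulEquiv.apply_symm_apply]

theorem irrComp_irrComp_symm (e : A ≃* A) (χ : IrrCharacter A) :
    irrComp e (irrComp e.symm χ) = χ := by
  apply Subtype.ext
  funext a
  change (χ : A → ℂ) (e.symm (e a)) = (χ : A → ℂ) a
  rw [MulEquiv.symm_apply_apply]

theorem index_centralizer_map (e : A ≃* A) (a : A) :
    (Subgroup.centralizer ({e a} : Set A)).index = (Subgroup.centralizer ({a} : Set A)).index := by
  have h : Subgroup.centralizer ({e a} : Set A) =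
      (Subgroup.centralizer ({a} : Set A)).map e.toMonoidHom := by
    ext x
    rw [Subgroup.mem_map, Subgroup.mem_centralizer_singleton_iff]
    constructor
    · intro hx
      refine ⟨e.symm x, ?_, by simp⟩
      rw [Subgroup.mem_centralizer_singleton_iff]
      apply e.injective
      rw [map_mul, map_mul, MulEquiv.apply_symm_apply]
      exact hx
    · rintro ⟨y, hy, rfl⟩
      rw [Subgroup.mem_centralizer_singleton_iff] at hy
      change e y * e a = e a * e y
      rw [← map_mul, ← map_mul, hy]
  rw [h]
  exact Subgroup.index_map_equiv _ e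

theorem centralChar_comp (e : A ≃* A) (χ : A → ℂ) (a : A) :
    centralChar (χ ∘ e) a = centralChar χ (e a) := by
  unfold centralChar
  rw [index_centralizer_map e a]
  simp only [Function.comp_apply, map_one]

theorem sameBlock_comp (M : Ideal AlgInt) (e : A ≃* A) {χ ψ : A → ℂ} (h : SameBlock M χ ψ) :
    SameBlock M (χ ∘ e) (ψ ∘ e) := by
  intro a
  rw [centralChar_comp, centralChar_comp]
  exact h (e a)

theorem irrComp_mem_blockOf (M : Ideal AlgInt) (e : A ≃* A) (χ₀ χ : IrrCharacter A)
    (h : χ ∈ blockOf M (χ₀ : A → ℂ)) : irrComp e χ ∈ blockOf M (irrComp e χ₀ : A → ℂ) :=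
  sameBlock_comp M e h

theorem irrComp_mem_principalBlock (M : Ideal AlgInt) (e : A ≃* A) (χ : IrrCharacter A)
    (h : χ ∈ principalBlock M A) : irrComp e χ ∈ principalBlock M A := by
  have := sameBlock_comp M e h
  exact this

end transport

section conj

variable {G : Type u} [Group G]

/-- Conjugation by a normalizing element, as an automorphism of the subgroup. -/
def cjE (K : Subgroup G) (g : G) (hg : g ∈ Subgroup.normalizer (K : Set G)) : K ≃* K where
  toFun k := ⟨g * k * g⁻¹, (Subgroup.mem_normalizer_iff.mp hg k).mp k.2⟩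
  invFun k := ⟨g⁻¹ * k * g, by
    have := (Subgroup.mem_normalizer_iff.mp hg (g⁻¹ * k * g)).mpr (by
      have e : g * (g⁻¹ * (k : G) * g) * g⁻¹ = k := by group
      rw [e]; exact k.2)
    exact this⟩
  left_inv k := by apply Subtype.ext; simp [mul_assoc]
  right_inv k := by apply Subtype.ext; simp [mul_assoc]
  map_mul' a b := by apply Subtype.ext; simp [mul_assoc]

theorem cjE_coe (K : Subgroup G) (g : G) (hg : g ∈ Subgroup.normalizer (K : Set G)) (k : K) :
    ((cjE K g hg k : K) : G) = g * k * g⁻¹ := rfl

theorem cjE_symm_coe (K : Subgroup G) (g : G) (hg : g ∈ Subgroup.normalizer (K : Set G)) (k : K) :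
    (((cjE K g hg).symm k : K) : G) = g⁻¹ * k * g := rfl

/-- The conjugate character `χ^g`, with `χ^g (g k g⁻¹) = χ k`. -/
noncomputable def conjIrr (K : Subgroup G) (g : G) (hg : g ∈ Subgroup.normalizer (K : Set G))
    (χ : IrrCharacter K) : IrrCharacter K := irrComp (cjE K g hg).symm χ

theorem isConjCharOf_conjIrr (K : Subgroup G) (g : G) (hg : g ∈ Subgroup.normalizer (K : Set G))
    (χ : IrrCharacter K) : IsConjCharOf K g (χ : K → ℂ) (conjIrr K g hg χ : K → ℂ) := by
  intro k k' hk
  change (χ : K → ℂ) ((cjE K g hg).symm k') = (χ : K → ℂ) k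
  have : (cjE K g hg).symm k' = k := by
    apply Subtype.ext
    rw [cjE_symm_coe, hk]
    group
  rw [this]

theorem eq_conjIrr_of_isConjCharOf (K : Subgroup G) (g : G)
    (hg : g ∈ Subgroup.normalizer (K : Set G)) (χ χ' : IrrCharacter K)
    (h : IsConjCharOf K g (χ : K → ℂ) (χ' : K → ℂ)) : χ' = conjIrr K g hg χ := by
  apply Subtype.ext
  funext k'
  have := h ((cjE K g hg).symm k') k' (by rw [cjE_symm_coe]; group)
  rw [this]
  rfl

/-- The principal block of a subgroup is stabilized by every normalizing element. -/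
theorem stabilizesBlock_principalBlock (M : Ideal AlgInt) (K : Subgroup G) (g : G)
    (hg : g ∈ Subgroup.normalizer (K : Set G)) : StabilizesBlock K (principalBlock M K) g := by
  refine ⟨hg, fun χ hχ => ⟨conjIrr K g hg χ, ?_, isConjCharOf_conjIrr K g hg χ⟩⟩
  exact irrComp_mem_principalBlock M _ χ hχ

end conj

end Cfsg.Agent.Lib.Helper24
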