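/-
helper24: Brauer pairs, part 2.  Multiplicativity of the Brauer functional on functions that are
only invariant under the `p`-subgroup (and its centralizer); block idempotents of a subgroup read
on the whole group; products of an idempotent (mod the local ideal) with a block idempotent.
-/
import Mathlib
import Cfsg.Agent.Lib.Helper24.BrauerPairs
import Cfsg.Agent.Lib.Helper24.ConjBlock
import Cfsg.Agent.Lib.Helper6.NilIdem
import Cfsg.Agent.Lib.Helper6.MinMax
import Cfsg.Agent.Lib.Helper6.IndFun
import Cfsg.Agent.Lib.Lead.ConvAlg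

set_option autoImplicit false

namespace Cfsg.Agent.Lib.Helper24

open Cfsg Cfsg.Agent.CharLib Cfsg.Agent.Lib.Helper6
open scoped ComplexConjugate

universe u

section convLinear
variable {G : Type u} [Group G] [Fintype G]

theorem conv_sub_left (a b c : G → ℂ) : conv (a - b) c = conv a c - conv b c := by
  funext x
  unfold conv
  rw [Pi.sub_apply, ← Finset.sum_sub_distrib]
  apply Finset.sum_congr rfl
  intro g _
  rw [Pi.sub_apply]
  ring

theorem conv_sub_right (a b c : G → ℂ) : conv a (b - c) = conv a b - conv a c := by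
  funext x
  unfold conv
  rw [Pi.sub_apply, ← Finset.sum_sub_distrib]
  apply Finset.sum_congr rfl
  intro g _
  rw [Pi.sub_apply]
  ring

end convLinear

section invariant
variable {G : Type u} [Group G]

/-- invariance of a function under conjugation by the elements of a subgroup -/
def ConjInv (S : Subgroup G) (a : G → ℂ) : Prop := ∀ u ∈ S, ∀ x : G, a (u * x * u⁻¹) = a x

theorem ConjInv.of_isClassFunction (S : Subgroup G) {a : G → ℂ} (ha : IsClassFunction G a) :
    ConjInv S a := fun u _ x => ha x u

theorem ConjInv.conv [Fintype G] {S : Subgroup G} {a b : G → ℂ} (ha : ConjInv S a)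
    (hb : ConjInv S b) : ConjInv S (conv a b) := by
  intro u hu x
  unfold Cfsg.Agent.Lib.Helper6.conv
  rw [← Equiv.sum_comp (MulAut.conj u).toEquiv]
  apply Finset.sum_congr rfl
  intro g _
  simp only [MulEquiv.toEquiv_eq_coe, MulEquiv.coe_toEquiv, MulAut.conj_apply]
  rw [ha u hu g]
  congr 1
  have : (u * g * u⁻¹)⁻¹ * (u * x * u⁻¹) = u * (g⁻¹ * x) * u⁻¹ := by group
  rw [this, hb u hu]

theorem resFun_isClassFunction_of_conjInv (H : Subgroup G) {a : G → ℂ} (ha : ConjInv H a) :
    IsClassFunction H (resFun H a) := by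
  intro h k
  rw [resFun_apply, resFun_apply]
  have h1 : ((k * h * k⁻¹ : H) : G) = (k : G) * h * (k : G)⁻¹ := by simp
  rw [h1, ha k k.2]

end invariant

section brauerInv
variable {G : Type u} [Group G] [Fintype G] {M : Ideal AlgInt}

/-- The Brauer map is multiplicative modulo the local ideal on `P`-invariant functions. -/
theorem resFun_conv_sub_of_conjInv {p : ℕ} [hpp : Fact p.Prime] (hM : IsPModular p M)
    (P : Subgroup G) (hP : IsPGroup p P) [Fintype (Subgroup.centralizer (P : Set G))]
    {a b : G → ℂ} (ha : ConjInv P a) (haR : ∀ x, MemLocalRing M (a x)) (hb : ConjInv P b)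
    (hbR : ∀ x, MemLocalRing M (b x)) (h : Subgroup.centralizer (P : Set G)) :
    MemLocalIdeal M (conv a b (h : G) -
      conv (resFun (Subgroup.centralizer (P : Set G)) a)
        (resFun (Subgroup.centralizer (P : Set G)) b) h) := by
  classical
  have hprime : M.IsPrime := isPrime_of_isPModular hM
  have hpM : MemLocalIdeal M (p : ℂ) := by
    have := memLocalIdeal_of_mem hM.2.2 hprime.one_notMem
    simpa using this
  have hh : (h : G) ∈ Subgroup.centralizer (P : Set G) := h.2
  let f : G → ℂ := fun g =>
    if g ∈ Subgroup.centralizer (P : Set G) then a g * b (g⁻¹ * h) else 0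
  have hc1 : conv (resFun (Subgroup.centralizer (P : Set G)) a)
      (resFun (Subgroup.centralizer (P : Set G)) b) h = ∑ g : G, f g := by
    rw [sum_eq_sum_subgroup_of_support (Subgroup.centralizer (P : Set G)) f (fun g hg => by
      simp only [f]
      rw [if_neg hg])]
    unfold Cfsg.Agent.Lib.Helper6.conv
    apply Finset.sum_congr rfl
    intro k _
    simp only [f]
    rw [if_pos k.2, resFun_apply, resFun_apply]
    rfl
  rw [hc1]
  unfold Cfsg.Agent.Lib.Helper6.conv
  rw [← Finset.sum_sub_distrib]
  have hc2 : ∑ g : G, (a g * b (g⁻¹ * h) - f g) =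
      ∑ g ∈ Finset.univ.filter (fun g : G => g ∉ Subgroup.centralizer (P : Set G)),
        a g * b (g⁻¹ * h) := by
    rw [Finset.sum_filter]
    apply Finset.sum_congr rfl
    intro g _
    simp only [f]
    by_cases hg : g ∈ Subgroup.centralizer (P : Set G)
    · rw [if_pos hg, if_neg (not_not.mpr hg), sub_self]
    · rw [if_neg hg, if_pos hg, sub_zero]
  rw [hc2]
  set K : Finset G := Finset.univ.filter (fun g : G => g ∉ Subgroup.centralizer (P : Set G))
    with hK
  have hKc : ∀ x ∈ K, ∀ q ∈ P, q * x * q⁻¹ ∈ K := by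
    intro x hx q hq
    rw [hK, Finset.mem_filter] at hx ⊢
    refine ⟨Finset.mem_univ _, ?_⟩
    intro hc
    apply hx.2
    exact (conj_mem_centralizer_iff (Subgroup.le_normalizer hq) x).mp hc
  have hfix : ∀ x ∈ K, ∃ q ∈ P, q * x * q⁻¹ ≠ x := by
    intro x hx
    by_contra hcon
    push Not at hcon
    apply (Finset.mem_filter.mp hx).2
    rw [Subgroup.mem_centralizer_iff]
    intro q hq
    have := hcon q hq
    calc q * x = q * x * q⁻¹ * q := by group
      _ = x * q := by rw [this]
  have hinv : ∀ x ∈ K, ∀ q ∈ P,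
      a (q * x * q⁻¹) * b ((q * x * q⁻¹)⁻¹ * h) = a x * b (x⁻¹ * h) := by
    intro x _ q hq
    rw [ha q hq x]
    congr 1
    have hqz : q * (h : G) = h * q := ((Subgroup.mem_centralizer_iff.mp hh) q hq)
    have h1 : (q * x * q⁻¹)⁻¹ * (h : G) = q * (x⁻¹ * h) * q⁻¹ := by
      have : (h : G) = q * h * q⁻¹ := by rw [hqz]; group
      calc (q * x * q⁻¹)⁻¹ * (h : G) = q * x⁻¹ * q⁻¹ * h := by group
        _ = q * x⁻¹ * q⁻¹ * (q * h * q⁻¹) := by rw [← this]
        _ = q * (x⁻¹ * h) * q⁻¹ := by group
    rw [h1, hb q hq]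
  obtain ⟨t, ht, hsum⟩ := sum_eq_nsmul_of_pgroup_fixed_point_free p P hP K hKc hfix
    (localSubring M).toAddSubgroup (fun g => a g * b (g⁻¹ * h))
    (fun x _ => memLocalRing_mul (haR x) (hbR _)) hinv
  rw [hsum, nsmul_eq_mul]
  exact memLocalIdeal_mul_right hpM ht

/-- The Brauer functional is multiplicative modulo the local ideal on functions invariant under
`P` and `C_G(P)`. -/
theorem memLocalIdeal_brauer_conv_of_conjInv {p : ℕ} [hpp : Fact p.Prime]
    (hM : IsPModular p M) (P : Subgroup G) (hP : IsPGroup p P)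
    [Fintype (Subgroup.centralizer (P : Set G))] {a b : G → ℂ}
    (haP : ConjInv P a) (haC : ConjInv (Subgroup.centralizer (P : Set G)) a)
    (haR : ∀ x, MemLocalRing M (a x))
    (hbP : ConjInv P b) (hbC : ConjInv (Subgroup.centralizer (P : Set G)) b)
    (hbR : ∀ x, MemLocalRing M (b x)) (ξ : IrrCharacter (Subgroup.centralizer (P : Set G))) :
    MemLocalIdeal M
      (omegaFun (ξ : Subgroup.centralizer (P : Set G) → ℂ)
          (resFun (Subgroup.centralizer (P : Set G)) (conv a b)) -
        omegaFun (ξ : Subgroup.centralizer (P : Set G) → ℂ)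
          (resFun (Subgroup.centralizer (P : Set G)) a) *
        omegaFun (ξ : Subgroup.centralizer (P : Set G) → ℂ)
          (resFun (Subgroup.centralizer (P : Set G)) b)) := by
  classical
  haveI hprime : M.IsPrime := isPrime_of_isPModular hM
  have hra := resFun_isClassFunction_of_conjInv _ haC
  have hrb := resFun_isClassFunction_of_conjInv _ hbC
  have hrab := resFun_isClassFunction_of_conjInv _ (ConjInv.conv haC hbC)
  rw [← omegaFun_conv ξ hra hrb, ← omegaFun_sub]
  apply memLocalIdeal_omegaFun_of_forall ξ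
    (IsClassFunction.sub hrab (conv_isClassFunction hra hrb))
  · intro x
    rw [Pi.sub_apply]
    exact memLocalRing_sub (memLocalRing_conv haR hbR _)
      (memLocalRing_conv (a := resFun (Subgroup.centralizer (P : Set G)) a)
        (b := resFun (Subgroup.centralizer (P : Set G)) b)
        (fun y => haR (y : G)) (fun y => hbR (y : G)) x)
  · intro x
    left
    exact resFun_conv_sub_of_conjInv hM P hP haP haR hbP hbR x

end brauerInv


section subgroupCoeff
variable {G : Type u} [Group G]

theorem subgroupBlockCoeff_eq_extendByZero (H : Subgroup G) (e : Set (IrrCharacter H)) :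
    subgroupBlockCoeff H e = extendByZero H (blockCoeff e) := by
  classical
  funext g
  unfold subgroupBlockCoeff
  by_cases hg : g ∈ H
  · rw [dif_pos hg, extendByZero_mem H _ hg]
  · rw [dif_neg hg, extendByZero_not_mem H _ hg]

theorem subgroupBlockCoeff_coe (H : Subgroup G) (e : Set (IrrCharacter H)) (h : H) :
    subgroupBlockCoeff H e (h : G) = blockCoeff e h := by
  rw [subgroupBlockCoeff_eq_extendByZero, extendByZero_coe]

theorem resFun_subgroupBlockCoeff (H : Subgroup G) (e : Set (IrrCharacter H)) :
    resFun H (subgroupBlockCoeff H e) = blockCoeff e := by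
  funext h
  rw [resFun_apply, subgroupBlockCoeff_coe]

/-- A set of irreducible characters stable under an automorphism is mapped onto itself. -/
theorem bijOn_irrComp_of_mapsTo {A : Type u} [Group A] [Finite A] (e : A ≃* A)
    (f : Set (IrrCharacter A)) (h : Set.MapsTo (irrComp e) f f) : Set.BijOn (irrComp e) f f := by
  have hfin : f.Finite := Set.toFinite f
  have hinj : Set.InjOn (irrComp e) f := by
    intro a _ b _ hab
    have := congrArg (irrComp e.symm) hab
    rwa [irrComp_symm_irrComp, irrComp_symm_irrComp] at this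
  exact (Set.Finite.injOn_iff_bijOn_of_mapsTo hfin h).mp hinj

theorem blockCoeff_comp_of_mapsTo {A : Type u} [Group A] [Finite A] (e : A ≃* A)
    (f : Set (IrrCharacter A)) (h : Set.MapsTo (irrComp e) f f) (a : A) :
    blockCoeff f (e.symm a) = blockCoeff f a := by
  unfold blockCoeff
  congr 1
  have hbij := bijOn_irrComp_of_mapsTo e f h
  symm
  apply finsum_mem_eq_of_bijOn (irrComp e) hbij
  intro χ _
  rw [irrComp_apply, irrComp_apply, map_one, MulEquiv.apply_symm_apply]

/-- the idempotent of a stabilized block is invariant under conjugation -/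
theorem subgroupBlockCoeff_conj_of_stabilizes [Finite G] (K : Subgroup G)
    (f : Set (IrrCharacter K)) (x : G) (hx : StabilizesBlock K f x) (g : G) :
    subgroupBlockCoeff K f (x * g * x⁻¹) = subgroupBlockCoeff K f g := by
  classical
  have hxn := hx.1
  have hmaps : Set.MapsTo (irrComp (cjE K x hxn).symm) f f := by
    intro χ hχ
    obtain ⟨χ', hχ', hconj⟩ := hx.2 χ hχ
    have := eq_conjIrr_of_isConjCharOf K x hxn χ χ' hconj
    rw [this] at hχ'
    exact hχ'
  by_cases hg : g ∈ K
  · have hg' : x * g * x⁻¹ ∈ K := (Subgroup.mem_normalizer_iff.mp hxn g).mp hg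
    have e1 : subgroupBlockCoeff K f (x * g * x⁻¹) = blockCoeff f ⟨x * g * x⁻¹, hg'⟩ :=
      subgroupBlockCoeff_coe K f ⟨_, hg'⟩
    have e2 : subgroupBlockCoeff K f g = blockCoeff f ⟨g, hg⟩ :=
      subgroupBlockCoeff_coe K f ⟨g, hg⟩
    rw [e1, e2]
    have := blockCoeff_comp_of_mapsTo (cjE K x hxn).symm f hmaps ⟨g, hg⟩
    rw [← this]
    rfl
  · have hg' : x * g * x⁻¹ ∉ K := fun h' => hg ((Subgroup.mem_normalizer_iff.mp hxn g).mpr h')
    rw [subgroupBlockCoeff_eq_extendByZero, extendByZero_not_mem K _ hg,
      extendByZero_not_mem K _ hg']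

end subgroupCoeff

section product
variable {X : Type u} [Group X] [Fintype X] {M : Ideal AlgInt} [hprime : M.IsPrime]

/-- If `β` is idempotent modulo the local ideal and its central character values on the block `f`
are `≡ 1`, then `β * e_f ≡ e_f`. -/
theorem memLocalIdeal_blockCoeff_sub_conv {β : X → ℂ} (hβ : IsClassFunction X β)
    (hβR : ∀ x, MemLocalRing M (β x))
    (hidem : ∀ x, MemLocalIdeal M (conv β β x - β x)) (η₀ : IrrCharacter X)
    (h1 : ∀ η ∈ blockOf M (η₀ : X → ℂ), MemLocalIdeal M (omegaFun (η : X → ℂ) β - 1)) :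
    ∀ x, MemLocalIdeal M
      (blockCoeff (blockOf M (η₀ : X → ℂ)) x - conv β (blockCoeff (blockOf M (η₀ : X → ℂ))) x) := by
  classical
  set e := blockCoeff (blockOf M (η₀ : X → ℂ)) with he
  have hecls : IsClassFunction X e := blockCoeff_isClassFunction _
  have heR : ∀ x, MemLocalRing M (e x) := fun x => memLocalRing_blockCoeff_blockOf η₀ x
  have hee : conv e e = e := conv_blockCoeff_self _
  have hβe : IsClassFunction X (conv β e) := conv_isClassFunction hβ hecls
  have hβeR : ∀ x, MemLocalRing M (conv β e x) := memLocalRing_conv hβR heR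
  have hwcls : IsClassFunction X (e - conv β e) := IsClassFunction.sub hecls hβe
  have key := memLocalIdeal_of_idempotent (M := M) hwcls
    (fun x => by rw [Pi.sub_apply]; exact memLocalRing_sub (heR x) (hβeR x)) ?_ ?_
  · intro x
    have := key x
    rwa [Pi.sub_apply] at this
  · -- idempotent modulo the ideal
    intro x
    have e1 : conv e (conv β e) = conv β e := by
      rw [← Cfsg.Agent.CharLib.conv_assoc,
        Cfsg.Agent.CharLib.conv_comm_of_isClassFunction hecls β,
        Cfsg.Agent.CharLib.conv_assoc, hee]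
    have e2 : conv (conv β e) e = conv β e := by
      rw [Cfsg.Agent.CharLib.conv_assoc, hee]
    have e3 : conv (conv β e) (conv β e) = conv (conv β β) e := by
      rw [Cfsg.Agent.CharLib.conv_assoc, e1, ← Cfsg.Agent.CharLib.conv_assoc]
    have e4 : conv (e - conv β e) (e - conv β e) - (e - conv β e) =
        conv (conv β β - β) e := by
      rw [conv_sub_left, conv_sub_right, conv_sub_right, hee, e1, e2, e3, conv_sub_left]
      abel
    have := congrFun e4 x
    rw [Pi.sub_apply] at this
    rw [this]
    unfold Cfsg.Agent.Lib.Helper6.conv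
    apply sum_memLocalIdeal
    intro g _
    rw [Pi.sub_apply]
    exact memLocalIdeal_mul_right (hidem g) (heR _)
  · intro ξ
    rw [omegaFun_sub, omegaFun_conv ξ hβ hecls, omegaFun_blockCoeff]
    by_cases hξ : ξ ∈ blockOf M (η₀ : X → ℂ)
    · rw [if_pos hξ, mul_one]
      have := memLocalIdeal_neg (h1 ξ hξ)
      rwa [neg_sub] at this
    · rw [if_neg hξ, mul_zero, sub_zero]
      exact memLocalIdeal_zero hprime.one_notMem

/-- If `β` is idempotent modulo the local ideal and its central character values on the block `f`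
are `≡ 0`, then `β * e_f ≡ 0`. -/
theorem memLocalIdeal_conv_blockCoeff {β : X → ℂ} (hβ : IsClassFunction X β)
    (hβR : ∀ x, MemLocalRing M (β x))
    (hidem : ∀ x, MemLocalIdeal M (conv β β x - β x)) (η₀ : IrrCharacter X)
    (h0 : ∀ η ∈ blockOf M (η₀ : X → ℂ), MemLocalIdeal M (omegaFun (η : X → ℂ) β)) :
    ∀ x, MemLocalIdeal M (conv β (blockCoeff (blockOf M (η₀ : X → ℂ))) x) := by
  classical
  set e := blockCoeff (blockOf M (η₀ : X → ℂ)) with he
  have hecls : IsClassFunction X e := blockCoeff_isClassFunction _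
  have heR : ∀ x, MemLocalRing M (e x) := fun x => memLocalRing_blockCoeff_blockOf η₀ x
  have hee : conv e e = e := conv_blockCoeff_self _
  have hβe : IsClassFunction X (conv β e) := conv_isClassFunction hβ hecls
  have hβeR : ∀ x, MemLocalRing M (conv β e x) := memLocalRing_conv hβR heR
  apply memLocalIdeal_of_idempotent (M := M) hβe hβeR
  · intro x
    have e1 : conv e (conv β e) = conv β e := by
      rw [← Cfsg.Agent.CharLib.conv_assoc,
        Cfsg.Agent.CharLib.conv_comm_of_isClassFunction hecls β,
        Cfsg.Agent.CharLib.conv_assoc, hee]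
    have e3 : conv (conv β e) (conv β e) = conv (conv β β) e := by
      rw [Cfsg.Agent.CharLib.conv_assoc, e1, ← Cfsg.Agent.CharLib.conv_assoc]
    have e4 : conv (conv β e) (conv β e) - conv β e = conv (conv β β - β) e := by
      rw [e3, conv_sub_left]
    have := congrFun e4 x
    rw [Pi.sub_apply] at this
    rw [this]
    unfold Cfsg.Agent.Lib.Helper6.conv
    apply sum_memLocalIdeal
    intro g _
    rw [Pi.sub_apply]
    exact memLocalIdeal_mul_right (hidem g) (heR _)
  · intro ξ
    rw [omegaFun_conv ξ hβ hecls, omegaFun_blockCoeff]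
    by_cases hξ : ξ ∈ blockOf M (η₀ : X → ℂ)
    · rw [if_pos hξ, mul_one]
      exact h0 ξ hξ
    · rw [if_neg hξ, mul_zero]
      exact memLocalIdeal_zero hprime.one_notMem

end product

end Cfsg.Agent.Lib.Helper24
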