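/-
helper24: a `p`-group acting on a finite set: sums of invariant functions modulo `p`; the action
of a normalizing subgroup on the blocks of a subgroup.
-/
import Mathlib
import Cfsg.Agent.Lib.Helper24.BrauerPairs2
import Cfsg.Agent.Lib.Helper24.BrauerPairs
import Cfsg.Agent.Lib.Helper24.ConjBlock

set_option autoImplicit false

namespace Cfsg.Agent.Lib.Helper24

open Cfsg Cfsg.Agent.CharLib Cfsg.Agent.Lib.Helper6
open scoped ComplexConjugate

universe u

section orbitSum

/-- For a `p`-group acting on a finite set, the sum of an invariant function equals the sum over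
the fixed points plus `p` times an element of the subgroup containing the values. -/
theorem sum_eq_sum_fixedPoints_add_nsmul {P : Type*} [Group P] (p : ℕ) [hp : Fact p.Prime]
    (hP : IsPGroup p P) {X : Type*} [Fintype X] [DecidableEq X] [MulAction P X]
    {B : Type*} [AddCommGroup B] [DecidableEq B] (S : AddSubgroup B) (F : X → B)
    (hFS : ∀ x, F x ∈ S) (hF : ∀ (g : P) (x : X), F (g • x) = F x)
    [DecidablePred (· ∈ MulAction.fixedPoints P X)] :
    ∃ t ∈ S, ∑ x, F x =
      ∑ x ∈ Finset.univ.filter (· ∈ MulAction.fixedPoints P X), F x + p • t := by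
  classical
  rw [← Finset.sum_filter_add_sum_filter_not Finset.univ (· ∈ MulAction.fixedPoints P X) F]
  set N : Finset X := Finset.univ.filter (fun x => ¬ x ∈ MulAction.fixedPoints P X) with hN
  have hNmem : ∀ x, x ∈ N ↔ x ∉ MulAction.fixedPoints P X := by
    intro x
    rw [hN, Finset.mem_filter]
    simp
  have hNsmul : ∀ (g : P) (x : X), x ∈ N → g • x ∈ N := by
    intro g x hx
    rw [hNmem] at hx ⊢
    intro hfix
    apply hx
    intro h
    have h1 := hfix (g * h * g⁻¹)
    rw [mul_smul, mul_smul, inv_smul_smul] at h1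
    exact MulAction.injective g h1
  have h1 := Finset.sum_comp (s := N) (fun b : B => b) F
  rw [h1]
  have key : ∀ b ∈ N.image F, p ∣ (N.filter (fun x => F x = b)).card := by
    intro b _
    let Y : Finset X := N.filter (fun x => F x = b)
    have hY : ∀ x, x ∈ Y ↔ x ∈ N ∧ F x = b := fun x => Finset.mem_filter
    let act : MulAction P Y :=
      { smul := fun g x => ⟨g • (x : X), (hY _).mpr
          ⟨hNsmul g x ((hY x).mp x.2).1, by rw [hF]; exact ((hY x).mp x.2).2⟩⟩
        one_smul := by
          intro x
          apply Subtype.ext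
          change (1 : P) • (x : X) = x
          rw [one_smul]
        mul_smul := by
          intro g h x
          apply Subtype.ext
          change (g * h) • (x : X) = g • (h • (x : X))
          rw [mul_smul] }
    have hfp : MulAction.fixedPoints P Y = ∅ := by
      rw [Set.eq_empty_iff_forall_notMem]
      intro x hx
      have hxN := ((hY x).mp x.2).1
      rw [hNmem] at hxN
      apply hxN
      intro g
      have := hx g
      exact congrArg (fun y : Y => (y : X)) this
    have hcard := hP.card_modEq_card_fixedPoints Y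
    rw [hfp, Nat.card_eq_fintype_card, Fintype.card_coe] at hcard
    have : Nat.card (∅ : Set Y) = 0 := by simp
    rw [this] at hcard
    exact (Nat.modEq_zero_iff_dvd).mp hcard
  refine ⟨∑ b ∈ N.image F, ((N.filter (fun x => F x = b)).card / p) • b, ?_, ?_⟩
  · apply AddSubgroup.sum_mem
    intro b hb
    obtain ⟨x, _, rfl⟩ := Finset.mem_image.mp hb
    exact S.nsmul_mem (hFS x) _
  · congr 1
    rw [Finset.smul_sum]
    apply Finset.sum_congr rfl
    intro b hb
    rw [← mul_smul, Nat.mul_div_cancel' (key b hb)]

end orbitSum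

section preimageCoeff
variable {A : Type u} [Group A] [Finite A]

/-- idempotent coefficients of the preimage of a set of characters under an automorphism -/
theorem blockCoeff_preimage_irrComp (e : A ≃* A) (f : Set (IrrCharacter A)) (a : A) :
    blockCoeff {ψ : IrrCharacter A | irrComp e ψ ∈ f} a = blockCoeff f (e.symm a) := by
  unfold blockCoeff
  congr 1
  apply finsum_mem_eq_of_bijOn (irrComp e)
  · refine ⟨fun ψ hψ => hψ, ?_, ?_⟩
    · intro ψ₁ _ ψ₂ _ h
      have := congrArg (irrComp e.symm) h
      rwa [irrComp_symm_irrComp, irrComp_symm_irrComp] at this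
    · intro χ hχ
      refine ⟨irrComp e.symm χ, ?_, irrComp_irrComp_symm e χ⟩
      change irrComp e (irrComp e.symm χ) ∈ f
      rw [irrComp_irrComp_symm]
      exact hχ
  · intro ψ _
    rw [irrComp_apply, irrComp_apply, map_one, MulEquiv.apply_symm_apply]

end preimageCoeff

section blockAction
variable {G : Type u} [Group G] (K P : Subgroup G) (hPK : P ≤ Subgroup.normalizer (K : Set G))

/-- the action of the normalizing subgroup `P` on the irreducible characters of `K` -/
noncomputable def irrSmul (g : P) (η : IrrCharacter K) : IrrCharacter K :=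
  conjIrr K (g : G) (hPK g.2) η

theorem irrSmul_eq (g : P) (η : IrrCharacter K) :
    irrSmul K P hPK g η = irrComp (cjE K (g : G) (hPK g.2)).symm η := rfl

theorem irrSmul_one (η : IrrCharacter K) : irrSmul K P hPK 1 η = η := by
  apply Subtype.ext
  funext k
  change (η : K → ℂ) ((cjE K ((1 : P) : G) (hPK (1 : P).2)).symm k) = (η : K → ℂ) k
  refine congrArg (η : K → ℂ) ?_
  apply Subtype.ext
  rw [cjE_symm_coe]
  simp

theorem irrSmul_mul (g h : P) (η : IrrCharacter K) :
    irrSmul K P hPK (g * h) η = irrSmul K P hPK g (irrSmul K P hPK h η) := by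
  apply Subtype.ext
  funext k
  change (η : K → ℂ) ((cjE K ((g * h : P) : G) (hPK (g * h).2)).symm k) =
    (η : K → ℂ) ((cjE K (h : G) (hPK h.2)).symm ((cjE K (g : G) (hPK g.2)).symm k))
  refine congrArg (η : K → ℂ) ?_
  apply Subtype.ext
  rw [cjE_symm_coe, cjE_symm_coe, cjE_symm_coe, Subgroup.coe_mul]
  group

variable (M : Ideal AlgInt) [hprime : M.IsPrime] [Fintype K]

/-- the induced action on blocks -/
noncomputable def blockSmul (g : P) :
    Quotient (blockSetoid M K) → Quotient (blockSetoid M K) :=
  Quotient.map (irrSmul K P hPK g)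
    (fun _ _ h => sameBlock_comp M (cjE K (g : G) (hPK g.2)).symm h)

theorem blockSmul_mk (g : P) (η : IrrCharacter K) :
    blockSmul K P hPK M g (Quotient.mk (blockSetoid M K) η) =
      Quotient.mk (blockSetoid M K) (irrSmul K P hPK g η) := rfl

/-- the action of `P` on the blocks of `K` -/
noncomputable def blockMulAction : MulAction P (Quotient (blockSetoid M K)) where
  smul := blockSmul K P hPK M
  one_smul q := by
    induction q using Quotient.inductionOn with
    | h η =>
      change blockSmul K P hPK M 1 (Quotient.mk (blockSetoid M K) η) = _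
      rw [blockSmul_mk, irrSmul_one]
  mul_smul g h q := by
    induction q using Quotient.inductionOn with
    | h η =>
      change blockSmul K P hPK M (g * h) (Quotient.mk (blockSetoid M K) η) =
        blockSmul K P hPK M g (blockSmul K P hPK M h (Quotient.mk (blockSetoid M K) η))
      rw [blockSmul_mk, blockSmul_mk, blockSmul_mk, irrSmul_mul]

/-- the block of the image of `q` under `g` is the preimage of the block of `q` -/
theorem blockOf_out_blockSmul (g : P) (q : Quotient (blockSetoid M K)) :
    blockOf M ((Quotient.out (blockSmul K P hPK M g q) : IrrCharacter K) : K → ℂ) =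
      {ψ : IrrCharacter K | irrComp (cjE K (g : G) (hPK g.2)) ψ ∈
        blockOf M ((Quotient.out q : IrrCharacter K) : K → ℂ)} := by
  ext ψ
  rw [mem_blockOf_out_iff, Set.mem_ofPred_eq, mem_blockOf_out_iff]
  have e0 : blockSmul K P hPK M g q =
      blockSmul K P hPK M g (Quotient.mk (blockSetoid M K) (Quotient.out q)) := by
    rw [Quotient.out_eq]
  rw [e0, blockSmul_mk]
  constructor
  · intro h
    have h1 : SameBlock M ((ψ : K → ℂ))
        ((irrSmul K P hPK g (Quotient.out q) : IrrCharacter K) : K → ℂ) := Quotient.exact h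
    have h2 := sameBlock_comp M (cjE K (g : G) (hPK g.2)) h1
    have e1 : ((irrSmul K P hPK g (Quotient.out q) : IrrCharacter K) : K → ℂ) ∘
        (cjE K (g : G) (hPK g.2)) = ((Quotient.out q : IrrCharacter K) : K → ℂ) := by
      funext k
      change ((Quotient.out q : IrrCharacter K) : K → ℂ)
        ((cjE K (g : G) (hPK g.2)).symm ((cjE K (g : G) (hPK g.2)) k)) = _
      rw [MulEquiv.symm_apply_apply]
    rw [e1] at h2
    rw [← Quotient.out_eq q]
    exact Quotient.sound h2
  · intro h
    rw [← Quotient.out_eq q] at h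
    have h1 : SameBlock M (((ψ : K → ℂ)) ∘ (cjE K (g : G) (hPK g.2)))
        ((Quotient.out q : IrrCharacter K) : K → ℂ) := Quotient.exact h
    have h2 := sameBlock_comp M (cjE K (g : G) (hPK g.2)).symm h1
    have e1 : (((ψ : K → ℂ)) ∘ (cjE K (g : G) (hPK g.2))) ∘ (cjE K (g : G) (hPK g.2)).symm =
        (ψ : K → ℂ) := by
      funext k
      simp only [Function.comp_apply, MulEquiv.apply_symm_apply]
    rw [e1] at h2
    exact Quotient.sound h2

/-- the idempotent of the image block -/
theorem subgroupBlockCoeff_blockSmul (g : P) (q : Quotient (blockSetoid M K)) (x : G) :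
    subgroupBlockCoeff K
        (blockOf M ((Quotient.out (blockSmul K P hPK M g q) : IrrCharacter K) : K → ℂ)) x =
      subgroupBlockCoeff K (blockOf M ((Quotient.out q : IrrCharacter K) : K → ℂ))
        ((g : G)⁻¹ * x * (g : G)) := by
  classical
  have hgn := hPK g.2
  by_cases hx : x ∈ K
  · have hx' : (g : G)⁻¹ * x * (g : G) ∈ K := by
      have := (Subgroup.mem_normalizer_iff.mp hgn ((g : G)⁻¹ * x * (g : G))).mpr (by
        have e : (g : G) * ((g : G)⁻¹ * x * (g : G)) * (g : G)⁻¹ = x := by group
        rw [e]; exact hx)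
      exact this
    have e1 := subgroupBlockCoeff_coe K
      (blockOf M ((Quotient.out (blockSmul K P hPK M g q) : IrrCharacter K) : K → ℂ)) ⟨x, hx⟩
    have e2 := subgroupBlockCoeff_coe K
      (blockOf M ((Quotient.out q : IrrCharacter K) : K → ℂ)) ⟨_, hx'⟩
    change subgroupBlockCoeff K _ x = _ at e1
    change subgroupBlockCoeff K _ ((g : G)⁻¹ * x * (g : G)) = _ at e2
    rw [e1, e2, blockOf_out_blockSmul, blockCoeff_preimage_irrComp]
    rfl
  · have hx' : (g : G)⁻¹ * x * (g : G) ∉ K := by
      intro h'
      apply hx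
      have := (Subgroup.mem_normalizer_iff.mp hgn ((g : G)⁻¹ * x * (g : G))).mp h'
      have e : (g : G) * ((g : G)⁻¹ * x * (g : G)) * (g : G)⁻¹ = x := by group
      rwa [e] at this
    rw [subgroupBlockCoeff_eq_extendByZero, subgroupBlockCoeff_eq_extendByZero,
      extendByZero_not_mem K _ hx, extendByZero_not_mem K _ hx']

/-- fixed blocks are the stabilized ones -/
theorem blockSmul_eq_iff (g : P) (q : Quotient (blockSetoid M K)) :
    blockSmul K P hPK M g q = q ↔
      StabilizesBlock K (blockOf M ((Quotient.out q : IrrCharacter K) : K → ℂ)) (g : G) := by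
  constructor
  · intro h
    refine ⟨hPK g.2, fun χ hχ => ⟨irrSmul K P hPK g χ, ?_, isConjCharOf_conjIrr K _ _ χ⟩⟩
    rw [mem_blockOf_out_iff] at hχ ⊢
    rw [← blockSmul_mk, hχ, h]
  · intro h
    have hout : (Quotient.out q : IrrCharacter K) ∈
        blockOf M ((Quotient.out q : IrrCharacter K) : K → ℂ) := mem_blockOf_self _
    obtain ⟨χ', hχ', hconj⟩ := h.2 _ hout
    have := eq_conjIrr_of_isConjCharOf K (g : G) (hPK g.2) _ χ' hconj
    rw [mem_blockOf_out_iff] at hχ'
    have e1 : blockSmul K P hPK M g q =
        blockSmul K P hPK M g (Quotient.mk (blockSetoid M K) (Quotient.out q)) := by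
      rw [Quotient.out_eq]
    rw [e1, blockSmul_mk]
    have e2 : irrSmul K P hPK g (Quotient.out q) = χ' := this.symm
    rw [e2]
    exact hχ'

end blockAction

end Cfsg.Agent.Lib.Helper24
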