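/-
helper24: the Brauer functional `a ↦ ω_ξ(a|_{C_G(P)})` of a Brauer pair `(P, e)` of the block `B`
agrees modulo the local ideal with the central characters of `B`; hence `e` induces `B`.
-/
import Mathlib
import Cfsg.Agent.Lib.Helper24.BrauerPairs
import Cfsg.Agent.Lib.Helper6.NilIdem

set_option autoImplicit false

namespace Cfsg.Agent.Lib.Helper24

open Cfsg Cfsg.Agent.CharLib Cfsg.Agent.Lib.Helper6
open scoped ComplexConjugate

universe u

section powLemma
variable {M : Ideal AlgInt}

theorem memLocalIdeal_of_pow [hp : M.IsPrime] {z : ℂ} (hz : MemLocalRing M z) (n : ℕ)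
    (h : MemLocalIdeal M (z ^ n)) : MemLocalIdeal M z := by
  induction n with
  | zero =>
    rw [pow_zero] at h
    exact absurd h not_memLocalIdeal_one
  | succ n ih =>
    rw [pow_succ] at h
    have hzn : MemLocalRing M (z ^ n) := by
      clear ih h
      induction n with
      | zero => rw [pow_zero]; exact memLocalRing_one
      | succ m ihm => rw [pow_succ]; exact memLocalRing_mul ihm hz
    rcases memLocalIdeal_or_of_mul hzn hz h with h1 | h1
    · exact ih h1
    · exact h1

end powLemma

section brauerHom
variable {G : Type u} [Group G] [Fintype G] {M : Ideal AlgInt}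

/-- the Brauer functional of a convolution power -/
theorem memLocalIdeal_brauer_convPow {p : ℕ} [hpp : Fact p.Prime]
    (hM : IsPModular p M) (P : Subgroup G) (hP : IsPGroup p P)
    [Fintype (Subgroup.centralizer (P : Set G))] {w : G → ℂ}
    (hw : IsClassFunction G w) (hwR : ∀ x, MemLocalRing M (w x))
    (ξ : IrrCharacter (Subgroup.centralizer (P : Set G))) (n : ℕ) :
    MemLocalIdeal M
      (omegaFun (ξ : Subgroup.centralizer (P : Set G) → ℂ)
          (resFun (Subgroup.centralizer (P : Set G)) (convPow w n)) -
        (omegaFun (ξ : Subgroup.centralizer (P : Set G) → ℂ)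
          (resFun (Subgroup.centralizer (P : Set G)) w)) ^ n) := by
  classical
  haveI hprime : M.IsPrime := isPrime_of_isPModular hM
  induction n with
  | zero =>
    rw [pow_zero]
    change MemLocalIdeal M (omegaFun (ξ : Subgroup.centralizer (P : Set G) → ℂ)
      (resFun (Subgroup.centralizer (P : Set G)) (classInd 1)) - 1)
    rw [omegaFun_resFun_classInd_one, sub_self]
    exact memLocalIdeal_zero hprime.one_notMem
  | succ n ih =>
    change MemLocalIdeal M (omegaFun (ξ : Subgroup.centralizer (P : Set G) → ℂ)
      (resFun (Subgroup.centralizer (P : Set G)) (conv (convPow w n) w)) - _)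
    have h1 := memLocalIdeal_brauer_conv hM P hP (convPow_isClassFunction hw n)
      (convPow_memLocalRing hwR n) hw hwR ξ
    have hwω : MemLocalRing M (omegaFun (ξ : Subgroup.centralizer (P : Set G) → ℂ)
        (resFun (Subgroup.centralizer (P : Set G)) w)) :=
      memLocalRing_omegaFun ξ (resFun_isClassFunction _ hw) (fun x => hwR x)
    have h2 := memLocalIdeal_mul_right ih hwω
    have h3 := memLocalIdeal_add h1 h2
    rw [pow_succ]
    have e1 : ∀ a b c d : ℂ, a - b * c + (b - d) * c = a - d * c := fun a b c d => by ring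
    rw [e1] at h3
    exact h3

/-- The Brauer functional of a Brauer pair of `B` agrees with the central characters of `B`. -/
theorem memLocalIdeal_brauer_sub_omegaFun {p : ℕ} [hpp : Fact p.Prime]
    (hM : IsPModular p M) (P : Subgroup G) (hP : IsPGroup p P)
    [Fintype (Subgroup.centralizer (P : Set G))]
    (ξ : IrrCharacter (Subgroup.centralizer (P : Set G))) (χ : IrrCharacter G)
    (h1 : MemLocalIdeal M
      (omegaFun (ξ : Subgroup.centralizer (P : Set G) → ℂ)
        (resFun (Subgroup.centralizer (P : Set G)) (blockCoeff (blockOf M (χ : G → ℂ)))) - 1))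
    {a : G → ℂ} (ha : IsClassFunction G a) (haR : ∀ x, MemLocalRing M (a x)) :
    MemLocalIdeal M
      (omegaFun (ξ : Subgroup.centralizer (P : Set G) → ℂ)
          (resFun (Subgroup.centralizer (P : Set G)) a) - omegaFun (χ : G → ℂ) a) := by
  classical
  haveI hprime : M.IsPrime := isPrime_of_isPModular hM
  set β := blockCoeff (blockOf M (χ : G → ℂ)) with hβ
  have hβcls : IsClassFunction G β := blockCoeff_isClassFunction _
  have hβR : ∀ x, MemLocalRing M (β x) := fun x => memLocalRing_blockCoeff_blockOf χ x
  set c := omegaFun (χ : G → ℂ) a with hc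
  have hcR : MemLocalRing M c := memLocalRing_omegaFun χ ha haR
  set w : G → ℂ := conv a β - c • β with hw
  have hwcls : IsClassFunction G w := by
    apply IsClassFunction.sub (conv_isClassFunction ha hβcls)
    intro x g
    rw [Pi.smul_apply, Pi.smul_apply, hβcls x g]
  have hwR : ∀ x, MemLocalRing M (w x) := by
    intro x
    rw [hw, Pi.sub_apply, Pi.smul_apply, smul_eq_mul]
    exact memLocalRing_sub (memLocalRing_conv haR hβR x) (memLocalRing_mul hcR (hβR x))
  have hwω : ∀ ψ : IrrCharacter G, MemLocalIdeal M (omegaFun (ψ : G → ℂ) w) := by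
    intro ψ
    rw [hw, omegaFun_sub, omegaFun_smul, omegaFun_conv ψ ha hβcls, omegaFun_blockCoeff]
    by_cases hψ : ψ ∈ blockOf M (χ : G → ℂ)
    · rw [if_pos hψ, mul_one, mul_one]
      have := memLocalIdeal_omegaFun_sub χ ψ hψ ha haR
      have h := memLocalIdeal_neg this
      rwa [neg_sub] at h
    · rw [if_neg hψ, mul_zero, mul_zero, sub_zero]
      exact memLocalIdeal_zero hprime.one_notMem
  obtain ⟨n, hn⟩ := exists_convPow_memLocalIdeal hwcls hwR hwω
  have hpow := memLocalIdeal_brauer_convPow hM P hP hwcls hwR ξ n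
  have hzero : MemLocalIdeal M (omegaFun (ξ : Subgroup.centralizer (P : Set G) → ℂ) (resFun (Subgroup.centralizer (P : Set G)) (convPow w n))) := by
    apply memLocalIdeal_omegaFun_of_forall ξ
      (resFun_isClassFunction (Subgroup.centralizer (P : Set G)) (convPow_isClassFunction hwcls n))
      (fun x => convPow_memLocalRing hwR n (x : G))
    intro x
    left
    exact hn (x : G)
  have hpw : MemLocalIdeal M ((omegaFun (ξ : Subgroup.centralizer (P : Set G) → ℂ) (resFun (Subgroup.centralizer (P : Set G)) w)) ^ n) := by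
    have := memLocalIdeal_sub hzero hpow
    rwa [sub_sub_cancel] at this
  have hlw : MemLocalIdeal M (omegaFun (ξ : Subgroup.centralizer (P : Set G) → ℂ) (resFun (Subgroup.centralizer (P : Set G)) w)) :=
    memLocalIdeal_of_pow (memLocalRing_omegaFun ξ (resFun_isClassFunction (Subgroup.centralizer (P : Set G)) hwcls)
      (fun x => hwR (x : G))) n hpw
  have hres : resFun (Subgroup.centralizer (P : Set G)) w = resFun (Subgroup.centralizer (P : Set G)) (conv a β) - c • resFun (Subgroup.centralizer (P : Set G)) β := by
    funext x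
    rw [Pi.sub_apply, Pi.smul_apply, resFun_apply, resFun_apply, resFun_apply, hw, Pi.sub_apply,
      Pi.smul_apply]
  rw [hres, omegaFun_sub, omegaFun_smul] at hlw
  have hmul := memLocalIdeal_brauer_conv hM P hP ha haR hβcls hβR ξ
  have haω : MemLocalRing M (omegaFun (ξ : Subgroup.centralizer (P : Set G) → ℂ) (resFun (Subgroup.centralizer (P : Set G)) a)) :=
    memLocalRing_omegaFun ξ (resFun_isClassFunction (Subgroup.centralizer (P : Set G)) ha) (fun x => haR (x : G))
  -- rearrange
  have h2 : MemLocalIdeal M ((omegaFun (ξ : Subgroup.centralizer (P : Set G) → ℂ) (resFun (Subgroup.centralizer (P : Set G)) a) - c) *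
      (omegaFun (ξ : Subgroup.centralizer (P : Set G) → ℂ) (resFun (Subgroup.centralizer (P : Set G)) β) - 1)) :=
    memLocalIdeal_mul_left (memLocalRing_sub haω hcR) h1
  have h3 := memLocalIdeal_sub (memLocalIdeal_sub hlw hmul) h2
  have e1 : ∀ ab la lb : ℂ, ab - c * lb - (ab - la * lb) - (la - c) * (lb - 1) = la - c :=
    fun ab la lb => by ring
  rw [e1] at h3
  exact h3

/-- A Brauer pair `(P, e)` of `B`: the block `e` of `C_G(P)` induces `B`. -/
theorem isInducedBlock_of_isBrauerPairOf {p : ℕ} [hpp : Fact p.Prime]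
    (hM : IsPModular p M) (B : Set (IrrCharacter G)) (P : Subgroup G)
    (e : Set (IrrCharacter (Subgroup.centralizer (P : Set G))))
    (h : IsBrauerPairOf p M B P e) :
    IsInducedBlock M (Subgroup.centralizer (P : Set G)) e B := by
  classical
  haveI hprime : M.IsPrime := isPrime_of_isPModular hM
  let _ : Fintype (Subgroup.centralizer (P : Set G)) := Fintype.ofFinite _
  obtain ⟨⟨hP, he⟩, hB, hω⟩ := h
  refine ⟨he, hB, ?_⟩
  intro ξ hξ χ hχ g
  have hBχ : B = blockOf M (χ : G → ℂ) := isPBlock_eq_of_mem hB ⟨χ, rfl⟩ hχ (mem_blockOf_self χ)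
  have h1 := hω ξ hξ
  rw [brauerOmega_eq, hBχ] at h1
  have := memLocalIdeal_brauer_sub_omegaFun hM P hP ξ χ h1 (classInd_isClassFunction g)
    (fun x => memLocalRing_classInd g x)
  rw [omegaFun_classInd] at this
  rw [inducedCentralChar_eq_omegaFun]
  exact this

end brauerHom

end Cfsg.Agent.Lib.Helper24
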