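/-
helper24: Brauer pairs of the principal block: `(Q, b₀(C_G(Q))) ≤ (S, b₀(C_G(S)))` for `Q ≤ S`
a `p`-subgroup, and conjugates of principal blocks are principal.
-/
import Mathlib
import Cfsg.Agent.Lib.Helper24.BrauerPairs2
import Cfsg.Agent.Lib.Helper6.CharExtra2
import Cfsg.Agent.Lib.Lead.BlockBasic
import Cfsg.Agent.Lib.Helper6.CliffordCorr

set_option autoImplicit false

namespace Cfsg.Agent.Lib.Helper24

open Cfsg Cfsg.Agent.CharLib Cfsg.Agent.Lib.Helper6
open scoped ComplexConjugate

universe u

section principalFunctional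
variable {G : Type u} [Group G] [Fintype G] {M : Ideal AlgInt}

/-- A function invariant under the `p`-group `R` and its centralizer, with local integer values
summing to `1`: its Brauer functional at `R` is `≡ 1` on the principal block of `C_G(R)`. -/
theorem memLocalIdeal_brauer_principal {p : ℕ} [hpp : Fact p.Prime] (hM : IsPModular p M)
    (R : Subgroup G) (hR : IsPGroup p R) [Fintype (Subgroup.centralizer (R : Set G))]
    {β : G → ℂ} (hβR : ConjInv R β) (hβC : ConjInv (Subgroup.centralizer (R : Set G)) β)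
    (hβL : ∀ x, MemLocalRing M (β x)) (hsum : ∑ x : G, β x = 1)
    (ξ : IrrCharacter (Subgroup.centralizer (R : Set G)))
    (hξ : ξ ∈ principalBlock M (Subgroup.centralizer (R : Set G))) :
    MemLocalIdeal M (omegaFun (ξ : Subgroup.centralizer (R : Set G) → ℂ)
      (resFun (Subgroup.centralizer (R : Set G)) β) - 1) := by
  classical
  haveI hprime : M.IsPrime := isPrime_of_isPModular hM
  have hrescls : IsClassFunction (Subgroup.centralizer (R : Set G))
      (resFun (Subgroup.centralizer (R : Set G)) β) := resFun_isClassFunction_of_conjInv _ hβC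
  have h1 := memLocalIdeal_omegaFun_sub (M := M) (trivIrr (Subgroup.centralizer (R : Set G))) ξ hξ
    hrescls (fun x => hβL x)
  have h2 : omegaFun ((trivIrr (Subgroup.centralizer (R : Set G)) :
      IrrCharacter (Subgroup.centralizer (R : Set G))) : Subgroup.centralizer (R : Set G) → ℂ)
      (resFun (Subgroup.centralizer (R : Set G)) β) =
      ∑ x : Subgroup.centralizer (R : Set G), β x := by
    unfold omegaFun
    change (∑ g : Subgroup.centralizer (R : Set G),
      resFun (Subgroup.centralizer (R : Set G)) β g * (1 : ℂ)) / (1 : ℂ) = _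
    rw [div_one]
    apply Finset.sum_congr rfl
    intro x _
    rw [mul_one, resFun_apply]
  have h4 : ∑ x : G, β x = ∑ x : Subgroup.centralizer (R : Set G), β x +
      ∑ x ∈ Finset.univ.filter (fun x : G => x ∉ Subgroup.centralizer (R : Set G)), β x :=
    sum_eq_sum_subgroup_add (Subgroup.centralizer (R : Set G)) β
  set K : Finset G :=
    Finset.univ.filter (fun x : G => x ∉ Subgroup.centralizer (R : Set G)) with hK
  have hKc : ∀ x ∈ K, ∀ q ∈ R, q * x * q⁻¹ ∈ K := by
    intro x hx q hq
    rw [hK, Finset.mem_filter] at hx ⊢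
    refine ⟨Finset.mem_univ _, ?_⟩
    intro hc
    apply hx.2
    exact (conj_mem_centralizer_iff (Subgroup.le_normalizer hq) x).mp hc
  have hfix : ∀ x ∈ K, ∃ q ∈ R, q * x * q⁻¹ ≠ x := by
    intro x hx
    by_contra hcon
    push Not at hcon
    apply (Finset.mem_filter.mp hx).2
    rw [Subgroup.mem_centralizer_iff]
    intro q hq
    have := hcon q hq
    calc q * x = q * x * q⁻¹ * q := by group
      _ = x * q := by rw [this]
  obtain ⟨t, ht, hsumK⟩ := sum_eq_nsmul_of_pgroup_fixed_point_free p R hR K hKc hfix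
    (localSubring M).toAddSubgroup β (fun x _ => hβL x) (fun x _ q hq => hβR q hq x)
  have hpM : MemLocalIdeal M (p : ℂ) := by
    have := memLocalIdeal_of_mem hM.2.2 hprime.one_notMem
    simpa using this
  have h5 : MemLocalIdeal M ((p : ℂ) * t) := memLocalIdeal_mul_right hpM ht
  have h6 : omegaFun (ξ : Subgroup.centralizer (R : Set G) → ℂ)
      (resFun (Subgroup.centralizer (R : Set G)) β) - 1 =
      -(omegaFun ((trivIrr (Subgroup.centralizer (R : Set G)) :
          IrrCharacter (Subgroup.centralizer (R : Set G))) : Subgroup.centralizer (R : Set G) → ℂ)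
          (resFun (Subgroup.centralizer (R : Set G)) β) -
        omegaFun (ξ : Subgroup.centralizer (R : Set G) → ℂ)
          (resFun (Subgroup.centralizer (R : Set G)) β)) - (p : ℂ) * t := by
    rw [h2]
    have : ∑ x : Subgroup.centralizer (R : Set G), β x = 1 - (p : ℂ) * t := by
      rw [← hsum, h4, hsumK, nsmul_eq_mul]
      ring
    rw [this]
    ring
  rw [h6]
  exact memLocalIdeal_sub (memLocalIdeal_neg h1) h5

end principalFunctional

section principalCoeff
variable {G : Type u} [Group G]

theorem subgroupBlockCoeff_conj_of_mem [Finite G] (K : Subgroup G) (f : Set (IrrCharacter K))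
    (u : G) (hu : u ∈ K) (g : G) :
    subgroupBlockCoeff K f (u * g * u⁻¹) = subgroupBlockCoeff K f g := by
  classical
  by_cases hg : g ∈ K
  · have hg' : u * g * u⁻¹ ∈ K := K.mul_mem (K.mul_mem hu hg) (K.inv_mem hu)
    have e1 : subgroupBlockCoeff K f (u * g * u⁻¹) = blockCoeff f ⟨u * g * u⁻¹, hg'⟩ :=
      subgroupBlockCoeff_coe K f ⟨_, hg'⟩
    have e2 : subgroupBlockCoeff K f g = blockCoeff f ⟨g, hg⟩ :=
      subgroupBlockCoeff_coe K f ⟨g, hg⟩
    rw [e1, e2]
    have := blockCoeff_isClassFunction f ⟨g, hg⟩ ⟨u, hu⟩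
    rw [← this]
    rfl
  · have hg' : u * g * u⁻¹ ∉ K := by
      intro h'
      apply hg
      have : g = u⁻¹ * (u * g * u⁻¹) * u := by group
      rw [this]
      exact K.mul_mem (K.mul_mem (K.inv_mem hu) h') hu
    rw [subgroupBlockCoeff_eq_extendByZero, extendByZero_not_mem K _ hg,
      extendByZero_not_mem K _ hg']

theorem sum_subgroupBlockCoeff_principal [Fintype G] (M : Ideal AlgInt) [hprime : M.IsPrime]
    (K : Subgroup G) : ∑ x : G, subgroupBlockCoeff K (principalBlock M K) x = 1 := by
  classical
  let _ : Fintype K := Fintype.ofFinite K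
  rw [sum_eq_sum_subgroup_of_support K (subgroupBlockCoeff K (principalBlock M K)) (fun g hg => by
    rw [subgroupBlockCoeff_eq_extendByZero, extendByZero_not_mem K _ hg])]
  have := omegaFun_blockCoeff (principalBlock M K) (trivIrr K)
  rw [if_pos (show trivIrr K ∈ principalBlock M K from mem_blockOf_self (trivIrr K))] at this
  rw [← this]
  unfold omegaFun
  change _ = (∑ g : K, blockCoeff (principalBlock M K) g * (1 : ℂ)) / (1 : ℂ)
  rw [div_one]
  apply Finset.sum_congr rfl
  intro x _
  rw [mul_one, subgroupBlockCoeff_coe]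

theorem memLocalRing_subgroupBlockCoeff [Finite G] (M : Ideal AlgInt) [hprime : M.IsPrime]
    (K : Subgroup G) (η : IrrCharacter K) (g : G) :
    MemLocalRing M (subgroupBlockCoeff K (blockOf M (η : K → ℂ)) g) := by
  classical
  let _ : Fintype K := Fintype.ofFinite K
  by_cases hg : g ∈ K
  · have : subgroupBlockCoeff K (blockOf M (η : K → ℂ)) g =
        blockCoeff (blockOf M (η : K → ℂ)) ⟨g, hg⟩ := subgroupBlockCoeff_coe K _ ⟨g, hg⟩
    rw [this]
    exact memLocalRing_blockCoeff_blockOf η _
  · rw [subgroupBlockCoeff_eq_extendByZero, extendByZero_not_mem K _ hg]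
    exact memLocalRing_zero

end principalCoeff

section principalPairs
variable {G : Type u} [Group G] [Fintype G] {M : Ideal AlgInt}

theorem centralizer_le_centralizer_of_le {Q R : Subgroup G} (h : Q ≤ R) :
    Subgroup.centralizer (R : Set G) ≤ Subgroup.centralizer (Q : Set G) :=
  Subgroup.centralizer_le h

theorem mem_normalizer_centralizer_of_mem_normalizer {Q : Subgroup G} {x : G}
    (hx : x ∈ Subgroup.normalizer (Q : Set G)) :
    x ∈ Subgroup.normalizer ((Subgroup.centralizer (Q : Set G) : Subgroup G) : Set G) := by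
  rw [Subgroup.mem_normalizer_iff]
  intro h
  exact (conj_mem_centralizer_iff hx h).symm

/-- The normal step for principal blocks. -/
theorem isNormalSubpair_principal {p : ℕ} [hpp : Fact p.Prime] (hM : IsPModular p M)
    (Q R : Subgroup G) (hR : IsPGroup p R) (hQR : Q ≤ R)
    (hRN : R ≤ Subgroup.normalizer (Q : Set G)) :
    IsNormalSubpair p M Q (principalBlock M (Subgroup.centralizer (Q : Set G))) R
      (principalBlock M (Subgroup.centralizer (R : Set G))) := by
  classical
  haveI hprime : M.IsPrime := isPrime_of_isPModular hM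
  let _ : Fintype (Subgroup.centralizer (R : Set G)) := Fintype.ofFinite _
  have hQ : IsPGroup p Q := hR.to_le hQR
  refine ⟨⟨hQ, trivIrr _, rfl⟩, ⟨hR, trivIrr _, rfl⟩, hQR, hRN, ?_, ?_⟩
  · intro x hx
    exact stabilizesBlock_principalBlock M _ x
      (mem_normalizer_centralizer_of_mem_normalizer (hRN hx))
  · intro ξ hξ
    rw [brauerOmega_eq]
    apply memLocalIdeal_brauer_principal hM R hR ?_ ?_ ?_ ?_ ξ hξ
    · intro u hu x
      exact subgroupBlockCoeff_conj_of_stabilizes _ _ u
        (stabilizesBlock_principalBlock M _ u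
          (mem_normalizer_centralizer_of_mem_normalizer (hRN hu))) x
    · intro u hu x
      exact subgroupBlockCoeff_conj_of_mem _ _ u (Subgroup.centralizer_le hQR hu) x
    · intro x
      exact memLocalRing_subgroupBlockCoeff M _ (trivIrr _) x
    · exact sum_subgroupBlockCoeff_principal M _

/-- In a finite `p`-group, a proper subgroup is properly contained in its normalizer. -/
theorem exists_normalizer_inf_gt {p : ℕ} [hpp : Fact p.Prime] (Q S : Subgroup G)
    (hS : IsPGroup p S) (hQS : Q ≤ S) (hne : Q ≠ S) :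
    Q < Subgroup.normalizer (Q : Set G) ⊓ S := by
  have hle : Q ≤ Subgroup.normalizer (Q : Set G) ⊓ S := le_inf Subgroup.le_normalizer hQS
  refine lt_of_le_of_ne hle ?_
  intro heq
  haveI : Group.IsNilpotent S := hS.isNilpotent
  have hnc := normalizerCondition_of_isNilpotent (G := S)
  have hlt : Q.subgroupOf S < ⊤ := by
    refine lt_of_le_of_ne le_top ?_
    intro h
    apply hne
    apply le_antisymm hQS
    rw [Subgroup.subgroupOf_eq_top] at h
    exact h
  have h2 := hnc (Q.subgroupOf S) hlt
  obtain ⟨s, hsN, hsQ⟩ := SetLike.exists_of_lt h2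
  apply hsQ
  rw [Subgroup.mem_subgroupOf]
  have : (s : G) ∈ Subgroup.normalizer (Q : Set G) ⊓ S := by
    refine ⟨?_, s.2⟩
    change (s : G) ∈ Subgroup.normalizer (Q : Set G)
    rw [Subgroup.mem_normalizer_iff]
    intro q
    rw [Subgroup.mem_normalizer_iff] at hsN
    constructor
    · intro hq
      have := (hsN ⟨q, hQS hq⟩).mp (by rw [Subgroup.mem_subgroupOf]; exact hq)
      rw [Subgroup.mem_subgroupOf] at this
      exact this
    · intro hq
      -- q = s⁻¹ (s q s⁻¹) s
      have hqS : q ∈ S := by
        have h1 : (s : G) * q * (s : G)⁻¹ ∈ S := hQS hq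
        have : q = (s : G)⁻¹ * ((s : G) * q * (s : G)⁻¹) * (s : G) := by group
        rw [this]
        exact S.mul_mem (S.mul_mem (S.inv_mem s.2) h1) s.2
      have := (hsN ⟨q, hqS⟩).mpr (by rw [Subgroup.mem_subgroupOf]; exact hq)
      rw [Subgroup.mem_subgroupOf] at this
      exact this
  rw [← heq] at this
  exact this

/-- `(Q, b₀(C_G(Q))) ≤ (S, b₀(C_G(S)))` for `Q ≤ S` a `p`-subgroup. -/
theorem subpairLE_principal {p : ℕ} [hpp : Fact p.Prime] (hM : IsPModular p M)
    (S : Subgroup G) (hS : IsPGroup p S) (Q : Subgroup G) (hQS : Q ≤ S) :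
    SubpairLE p M Q (principalBlock M (Subgroup.centralizer (Q : Set G))) S
      (principalBlock M (Subgroup.centralizer (S : Set G))) := by
  classical
  induction Q using WellFoundedGT.induction with
  | ind Q ih =>
    by_cases hne : Q = S
    · subst hne
      exact Relation.ReflTransGen.refl
    · have hlt := exists_normalizer_inf_gt Q S hS hQS hne
      have hstep : IsNormalSubpair p M Q (principalBlock M (Subgroup.centralizer (Q : Set G)))
          (Subgroup.normalizer (Q : Set G) ⊓ S)
          (principalBlock M (Subgroup.centralizer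
            ((Subgroup.normalizer (Q : Set G) ⊓ S : Subgroup G) : Set G))) :=
        isNormalSubpair_principal hM Q _ (hS.to_le inf_le_right) hlt.le inf_le_left
      have hstep' : NormalSubpairRel p M
          ⟨Q, principalBlock M (Subgroup.centralizer (Q : Set G))⟩
          ⟨Subgroup.normalizer (Q : Set G) ⊓ S, principalBlock M (Subgroup.centralizer
            ((Subgroup.normalizer (Q : Set G) ⊓ S : Subgroup G) : Set G))⟩ := hstep
      exact Relation.ReflTransGen.head hstep' (ih _ hlt inf_le_right)

end principalPairs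

section transport2
variable {A B : Type u} [Group A] [Group B]

/-- Transport of an irreducible character along an isomorphism. -/
noncomputable def irrCompIso (e : A ≃* B) (χ : IrrCharacter B) : IrrCharacter A :=
  ⟨(χ : B → ℂ) ∘ e, isIrrCharacter_comp_mulEquiv' e χ.2⟩

theorem irrCompIso_apply (e : A ≃* B) (χ : IrrCharacter B) (a : A) :
    (irrCompIso e χ : A → ℂ) a = (χ : B → ℂ) (e a) := rfl

theorem index_centralizer_mapIso (e : A ≃* B) (a : A) :
    (Subgroup.centralizer ({e a} : Set B)).index = (Subgroup.centralizer ({a} : Set A)).index := by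
  have h : Subgroup.centralizer ({e a} : Set B) =
      (Subgroup.centralizer ({a} : Set A)).map e.toMonoidHom := by
    ext x
    rw [Subgroup.mem_map, Subgroup.mem_centralizer_singleton_iff]
    constructor
    · intro hx
      refine ⟨e.symm x, ?_, by simp⟩
      rw [Subgroup.mem_centralizer_singleton_iff]
      apply e.injective
      rw [map_mul, map_mul, MulEquiv.apply_symm_apply]
      exact hx
    · rintro ⟨y, hy, rfl⟩
      rw [Subgroup.mem_centralizer_singleton_iff] at hy
      change e y * e a = e a * e y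
      rw [← map_mul, ← map_mul, hy]
  rw [h]
  exact Subgroup.index_map_equiv _ e

theorem centralChar_compIso (e : A ≃* B) (χ : B → ℂ) (a : A) :
    centralChar (χ ∘ e) a = centralChar χ (e a) := by
  unfold centralChar
  rw [index_centralizer_mapIso e a]
  simp only [Function.comp_apply, map_one]

theorem sameBlock_compIso (M : Ideal AlgInt) (e : A ≃* B) {χ ψ : B → ℂ} (h : SameBlock M χ ψ) :
    SameBlock M (χ ∘ e) (ψ ∘ e) := by
  intro a
  rw [centralChar_compIso, centralChar_compIso]
  exact h (e a)

end transport2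

section conjBlockSec
variable {G : Type u} [Group G]

/-- conjugation by `x` as an isomorphism `C_G(Q) ≃ C_G(x Q x⁻¹)` -/
def cjC (Q : Subgroup G) (x : G) : Subgroup.centralizer (Q : Set G) ≃*
    Subgroup.centralizer ((Q.map (MulAut.conj x).toMonoidHom : Subgroup G) : Set G) where
  toFun c := ⟨x * c * x⁻¹, by
    rw [Subgroup.mem_centralizer_iff]
    rintro _ ⟨q, hq, rfl⟩
    have hc : q * (c : G) = (c : G) * q := Subgroup.mem_centralizer_iff.mp c.2 q hq
    change x * q * x⁻¹ * (x * (c : G) * x⁻¹) = x * (c : G) * x⁻¹ * (x * q * x⁻¹)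
    calc x * q * x⁻¹ * (x * (c : G) * x⁻¹) = x * (q * (c : G)) * x⁻¹ := by group
      _ = x * ((c : G) * q) * x⁻¹ := by rw [hc]
      _ = x * (c : G) * x⁻¹ * (x * q * x⁻¹) := by group⟩
  invFun c' := ⟨x⁻¹ * c' * x, by
    rw [Subgroup.mem_centralizer_iff]
    intro q hq
    have hq' : x * q * x⁻¹ ∈ (Q.map (MulAut.conj x).toMonoidHom : Subgroup G) := ⟨q, hq, rfl⟩
    have hc : x * q * x⁻¹ * (c' : G) = (c' : G) * (x * q * x⁻¹) :=
      Subgroup.mem_centralizer_iff.mp c'.2 _ hq'
    calc q * (x⁻¹ * (c' : G) * x) = x⁻¹ * (x * q * x⁻¹ * (c' : G)) * x := by group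
      _ = x⁻¹ * ((c' : G) * (x * q * x⁻¹)) * x := by rw [hc]
      _ = x⁻¹ * (c' : G) * x * q := by group⟩
  left_inv c := by
    apply Subtype.ext
    change x⁻¹ * (x * (c : G) * x⁻¹) * x = c
    group
  right_inv c' := by
    apply Subtype.ext
    change x * (x⁻¹ * (c' : G) * x) * x⁻¹ = c'
    group
  map_mul' a b := by
    apply Subtype.ext
    change x * ((a : G) * (b : G)) * x⁻¹ = x * (a : G) * x⁻¹ * (x * (b : G) * x⁻¹)
    group

theorem cjC_coe (Q : Subgroup G) (x : G) (c : Subgroup.centralizer (Q : Set G)) :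
    ((cjC Q x c : _) : G) = x * c * x⁻¹ := rfl

theorem cjC_symm_coe (Q : Subgroup G) (x : G)
    (c' : Subgroup.centralizer ((Q.map (MulAut.conj x).toMonoidHom : Subgroup G) : Set G)) :
    (((cjC Q x).symm c' : _) : G) = x⁻¹ * c' * x := rfl

theorem mem_conjBlock_iff (Q : Subgroup G) (x : G)
    (f : Set (IrrCharacter (Subgroup.centralizer (Q : Set G))))
    (ξ' : IrrCharacter (Subgroup.centralizer
      ((Q.map (MulAut.conj x).toMonoidHom : Subgroup G) : Set G))) :
    ξ' ∈ conjBlock Q x f ↔ irrCompIso (cjC Q x) ξ' ∈ f := by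
  constructor
  · rintro ⟨ξ, hξ, h⟩
    have : irrCompIso (cjC Q x) ξ' = ξ := by
      apply Subtype.ext
      funext c
      rw [irrCompIso_apply]
      exact h c (cjC Q x c) (cjC_coe Q x c)
    rw [this]
    exact hξ
  · intro h
    refine ⟨irrCompIso (cjC Q x) ξ', h, ?_⟩
    intro c c' hcc'
    rw [irrCompIso_apply]
    have : cjC Q x c = c' := by
      apply Subtype.ext
      rw [cjC_coe, hcc']
    rw [this]

theorem conjBlock_principalBlock (M : Ideal AlgInt) (Q : Subgroup G) (x : G) :
    conjBlock Q x (principalBlock M (Subgroup.centralizer (Q : Set G))) =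
      principalBlock M (Subgroup.centralizer
        ((Q.map (MulAut.conj x).toMonoidHom : Subgroup G) : Set G)) := by
  ext ξ'
  rw [mem_conjBlock_iff]
  constructor
  · intro h
    have h1 : SameBlock M (fun _ : Subgroup.centralizer (Q : Set G) => (1 : ℂ))
        ((ξ' : _ → ℂ) ∘ (cjC Q x)) := h
    have h2 := sameBlock_compIso M (cjC Q x).symm h1
    have e1 : ((ξ' : _ → ℂ) ∘ (cjC Q x)) ∘ (cjC Q x).symm = (ξ' : _ → ℂ) := by
      funext c
      simp only [Function.comp_apply, MulEquiv.apply_symm_apply]
    rw [e1] at h2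
    exact h2
  · intro h
    have h1 : SameBlock M (fun _ : Subgroup.centralizer
        ((Q.map (MulAut.conj x).toMonoidHom : Subgroup G) : Set G) => (1 : ℂ)) (ξ' : _ → ℂ) := h
    exact sameBlock_compIso M (cjC Q x) h1

end conjBlockSec

end Cfsg.Agent.Lib.Helper24
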