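/-
helper24: tools for maximal Brauer pairs: existence of a normal superpair from a unit coefficient of
the block idempotent (`exists_isNormalSubpair_of_unit`), stabilizers of blocks are subgroups
(`exists_stabilizer_subgroup`), orbit counting for traces (`exists_fixed_coset_of_trace`), and
transport between `C_G(P)` and the centralizer of `P` computed inside `N_G(P)` (`centEquiv`).
-/
import Mathlib
import Cfsg.Agent.Lib.Helper24.BlockAction
import Cfsg.Agent.Lib.Helper24.BrauerHom
import Cfsg.Agent.Lib.Helper24.BrauerPairs3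
import Cfsg.Agent.Lib.Helper24.PrincipalPairs
import Cfsg.Agent.Lib.Helper6.BlockIso
import Cfsg.Agent.Lib.Helper6.FongReynolds
import Cfsg.Agent.Lib.Helper6.NilIdem
import Cfsg.Agent.Lib.Helper6.OneBlock

set_option autoImplicit false
open Cfsg Cfsg.Agent.CharLib Cfsg.Agent.Lib.Helper6
open scoped ComplexConjugate

namespace Cfsg.Agent.Lib.Helper24
universe u

section upward
variable {G : Type u} [Group G] [Fintype G] {M : Ideal AlgInt}

/-- An `R`-invariant idempotent with a unit coefficient on `C_G(R)` has a block of `C_G(R)` in its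
Brauer image. -/
theorem exists_block_brauer_of_unit {p : ℕ} [hpp : Fact p.Prime] (hM : IsPModular p M)
    (R : Subgroup G) (hR : IsPGroup p R) (β : G → ℂ) (hβR : ConjInv R β)
    (hβC : ConjInv (Subgroup.centralizer (R : Set G)) β) (hβL : ∀ x, MemLocalRing M (β x))
    (hidem : conv β β = β) (y : G) (hy : y ∈ Subgroup.centralizer (R : Set G))
    (hunit : ¬ MemLocalIdeal M (β y)) :
    ∃ g : Set (IrrCharacter (Subgroup.centralizer (R : Set G))), IsPBlock M g ∧
      ∀ ξ ∈ g, MemLocalIdeal M (brauerOmega R β (ξ : Subgroup.centralizer (R : Set G) → ℂ) - 1) := by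
  classical
  haveI hprime : M.IsPrime := isPrime_of_isPModular hM
  let _ : Fintype (Subgroup.centralizer (R : Set G)) := Fintype.ofFinite _
  set u : Subgroup.centralizer (R : Set G) → ℂ := resFun (Subgroup.centralizer (R : Set G)) β
    with hu
  have hucls : IsClassFunction (Subgroup.centralizer (R : Set G)) u :=
    resFun_isClassFunction_of_conjInv _ hβC
  have huR : ∀ x, MemLocalRing M (u x) := fun x => hβL _
  have huidem : ∀ x, MemLocalIdeal M (conv u u x - u x) := by
    intro x
    have h1 := resFun_conv_sub_of_conjInv hM R hR hβR hβL hβR hβL x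
    rw [hidem] at h1
    have h2 := memLocalIdeal_neg h1
    rw [neg_sub] at h2
    exact h2
  -- some central character value is a unit
  have hex : ∃ ξ₀ : IrrCharacter (Subgroup.centralizer (R : Set G)),
      ¬ MemLocalIdeal M (omegaFun (ξ₀ : Subgroup.centralizer (R : Set G) → ℂ) u) := by
    by_contra hcon
    push Not at hcon
    have h0 := memLocalIdeal_of_idempotent hucls huR huidem hcon ⟨y, hy⟩
    exact hunit h0
  obtain ⟨ξ₀, hξ₀⟩ := hex
  have hωR : ∀ ξ : IrrCharacter (Subgroup.centralizer (R : Set G)),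
      MemLocalRing M (omegaFun (ξ : Subgroup.centralizer (R : Set G) → ℂ) u) :=
    fun ξ => memLocalRing_omegaFun ξ hucls huR
  have hω1 : MemLocalIdeal M (omegaFun (ξ₀ : Subgroup.centralizer (R : Set G) → ℂ) u - 1) := by
    have h1 := memLocalIdeal_brauer_conv_of_conjInv hM R hR hβR hβC hβL hβR hβC hβL ξ₀
    rw [hidem, ← hu] at h1
    -- ω - ω*ω ∈ ideal
    have h2 : omegaFun (ξ₀ : Subgroup.centralizer (R : Set G) → ℂ) u -
        omegaFun (ξ₀ : Subgroup.centralizer (R : Set G) → ℂ) u *
        omegaFun (ξ₀ : Subgroup.centralizer (R : Set G) → ℂ) u =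
        omegaFun (ξ₀ : Subgroup.centralizer (R : Set G) → ℂ) u *
        (1 - omegaFun (ξ₀ : Subgroup.centralizer (R : Set G) → ℂ) u) := by ring
    rw [h2] at h1
    rcases memLocalIdeal_or_of_mul (hωR ξ₀) (memLocalRing_sub memLocalRing_one (hωR ξ₀)) h1
      with h3 | h3
    · exact absurd h3 hξ₀
    · have h4 := memLocalIdeal_neg h3
      rwa [neg_sub] at h4
  refine ⟨blockOf M (ξ₀ : Subgroup.centralizer (R : Set G) → ℂ), ⟨ξ₀, rfl⟩, ?_⟩
  intro ξ hξ
  rw [brauerOmega_eq, ← hu]
  have h1 := memLocalIdeal_omegaFun_sub (M := M) ξ₀ ξ hξ hucls huR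
  have h2 := memLocalIdeal_sub hω1 h1
  have e : omegaFun (ξ₀ : Subgroup.centralizer (R : Set G) → ℂ) u - 1 -
      (omegaFun (ξ₀ : Subgroup.centralizer (R : Set G) → ℂ) u -
        omegaFun (ξ : Subgroup.centralizer (R : Set G) → ℂ) u) =
      omegaFun (ξ : Subgroup.centralizer (R : Set G) → ℂ) u - 1 := by ring
  rwa [e] at h2


/-- existence of a normal superpair over a stabilizing `p`-subgroup with nonzero Brauer image. -/
theorem exists_isNormalSubpair_of_unit {p : ℕ} [hpp : Fact p.Prime] (hM : IsPModular p M)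
    (P R : Subgroup G) (e : Set (IrrCharacter (Subgroup.centralizer (P : Set G))))
    (hPe : IsBrauerPair p M P e) (hR : IsPGroup p R) (hPR : P ≤ R)
    (hRN : R ≤ Subgroup.normalizer (P : Set G))
    (hst : ∀ x ∈ R, StabilizesBlock (Subgroup.centralizer (P : Set G)) e x) (y : G)
    (hy : y ∈ Subgroup.centralizer (R : Set G))
    (hunit : ¬ MemLocalIdeal M (subgroupBlockCoeff (Subgroup.centralizer (P : Set G)) e y)) :
    ∃ g : Set (IrrCharacter (Subgroup.centralizer (R : Set G))),
      IsNormalSubpair p M P e R g := by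
  classical
  haveI hprime : M.IsPrime := isPrime_of_isPModular hM
  have hβR : ConjInv R (subgroupBlockCoeff (Subgroup.centralizer (P : Set G)) e) :=
    fun u hu x => subgroupBlockCoeff_conj_of_stabilizes _ e u (hst u hu) x
  have hβC : ConjInv (Subgroup.centralizer (R : Set G))
      (subgroupBlockCoeff (Subgroup.centralizer (P : Set G)) e) :=
    fun u hu x => subgroupBlockCoeff_conj_of_mem _ e u (Subgroup.centralizer_le hPR hu) x
  have hβL : ∀ x, MemLocalRing M (subgroupBlockCoeff (Subgroup.centralizer (P : Set G)) e x) := by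
    obtain ⟨η, rfl⟩ := hPe.2
    exact fun x => memLocalRing_subgroupBlockCoeff M _ η x
  have hidem : conv (subgroupBlockCoeff (Subgroup.centralizer (P : Set G)) e)
      (subgroupBlockCoeff (Subgroup.centralizer (P : Set G)) e) =
      subgroupBlockCoeff (Subgroup.centralizer (P : Set G)) e := by
    rw [subgroupBlockCoeff_eq_extendByZero, conv_extendByZero, conv_blockCoeff_self]
  obtain ⟨g, hg, hω⟩ := exists_block_brauer_of_unit hM R hR _ hβR hβC hβL hidem y hy hunit
  exact ⟨g, hPe, ⟨hR, hg⟩, hPR, hRN, hst, hω⟩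

end upward

section stab
variable {G : Type u} [Group G] [Finite G] {M : Ideal AlgInt}

/-- the stabilizer of a block of a subgroup is a subgroup. -/
theorem exists_stabilizer_subgroup [hprime : M.IsPrime] (K : Subgroup G)
    (e : Set (IrrCharacter K)) (he : IsPBlock M e) :
    ∃ T : Subgroup G, ∀ x : G, x ∈ T ↔ StabilizesBlock K e x := by
  classical
  let _ : Fintype K := Fintype.ofFinite K
  obtain ⟨η, rfl⟩ := he
  letI act := blockMulAction K (Subgroup.normalizer (K : Set G)) le_rfl M
  set q₀ : Quotient (blockSetoid M K) := Quotient.mk _ η with hq₀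
  have hq : blockOf M ((Quotient.out q₀ : IrrCharacter K) : K → ℂ) = blockOf M (η : K → ℂ) := by
    ext ψ
    rw [mem_blockOf_out_iff, hq₀]
    constructor
    · intro h
      exact sameBlock_symm (Quotient.exact h)
    · intro h
      exact Quotient.sound (sameBlock_symm h)
  refine ⟨(MulAction.stabilizer (Subgroup.normalizer (K : Set G)) q₀).map
    (Subgroup.normalizer (K : Set G)).subtype, ?_⟩
  intro x
  constructor
  · rintro ⟨g, hg, rfl⟩
    have h1 : blockSmul K (Subgroup.normalizer (K : Set G)) le_rfl M g q₀ = q₀ := hg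
    have h2 := (blockSmul_eq_iff K (Subgroup.normalizer (K : Set G)) le_rfl M g q₀).mp h1
    rw [hq] at h2
    exact h2
  · intro h
    refine ⟨⟨x, h.1⟩, ?_, rfl⟩
    change blockSmul K (Subgroup.normalizer (K : Set G)) le_rfl M ⟨x, h.1⟩ q₀ = q₀
    apply (blockSmul_eq_iff K (Subgroup.normalizer (K : Set G)) le_rfl M ⟨x, h.1⟩ q₀).mpr
    rw [hq]
    exact h

end stab



section orbit
variable {H : Type u} [Group H] [Fintype H] {M : Ideal AlgInt}

/-- If the trace from `T` of a `T`-invariant function `ε` has a unit coefficient at an element `c`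
centralized by the `p`-group `D`, then some conjugate of `D` lies in `T` with `ε` a unit at the
corresponding conjugate of `c`. -/
theorem exists_fixed_coset_of_trace {p : ℕ} [hpp : Fact p.Prime] (hM : IsPModular p M)
    (T D : Subgroup H) (hD : IsPGroup p D) (ε : H → ℂ) (hεR : ∀ x, MemLocalRing M (ε x))
    (hεT : ∀ t ∈ T, ∀ x, ε (t * x * t⁻¹) = ε x) (c : H)
    (hc : c ∈ Subgroup.centralizer (D : Set H))
    (hunit : ¬ MemLocalIdeal M ((Nat.card T : ℂ)⁻¹ * ∑ x : H, ε (x⁻¹ * c * x))) :
    ∃ x : H, (∀ d ∈ D, x⁻¹ * d * x ∈ T) ∧ ¬ MemLocalIdeal M (ε (x⁻¹ * c * x)) := by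
  classical
  haveI hprime : M.IsPrime := isPrime_of_isPModular hM
  let _ : Fintype T := Fintype.ofFinite T
  let _ : Fintype (H ⧸ T) := Fintype.ofFinite _
  by_contra hcon
  push Not at hcon
  apply hunit
  set F : H → ℂ := fun x => ε (x⁻¹ * c * x) with hF
  have hFT : ∀ x : H, ∀ t ∈ T, F (x * t) = F x := by
    intro x t ht
    simp only [hF]
    have := hεT t⁻¹ (T.inv_mem ht) (x⁻¹ * c * x)
    rw [← this]
    congr 1
    group
  have hFD : ∀ x : H, ∀ d ∈ D, F (d * x) = F x := by
    intro x d hd
    simp only [hF]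
    congr 1
    have hcd : d * c = c * d := Subgroup.mem_centralizer_iff.mp hc d hd
    calc (d * x)⁻¹ * c * (d * x) = x⁻¹ * (d⁻¹ * (c * d)) * x := by group
      _ = x⁻¹ * (d⁻¹ * (d * c)) * x := by rw [hcd]
      _ = x⁻¹ * c * x := by group
  rw [FongReynolds.sum_eq_card_mul_sum_out T F hFT]
  have hT0 : (Nat.card T : ℂ) ≠ 0 := Nat.cast_ne_zero.mpr Nat.card_pos.ne'
  rw [← mul_assoc, inv_mul_cancel₀ hT0, one_mul]
  -- the action of `D` on the cosets
  letI act : MulAction D (H ⧸ T) := MulAction.compHom (H ⧸ T) D.subtype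
  have hsmul : ∀ (d : D) (q : H ⧸ T), d • q = (((d : H) * q.out : H) : H ⧸ T) := by
    intro d q
    conv_lhs => rw [← QuotientGroup.out_eq' q]
    rfl
  set Fq : H ⧸ T → ℂ := fun q => F q.out with hFq
  have hFqinv : ∀ (d : D) (q : H ⧸ T), Fq (d • q) = Fq q := by
    intro d q
    simp only [hFq]
    have h1 : (((d • q).out : H) : H ⧸ T) = (((d : H) * q.out : H) : H ⧸ T) := by
      rw [QuotientGroup.out_eq', hsmul]
    have h2 : ((d : H) * q.out)⁻¹ * (d • q).out ∈ T := QuotientGroup.eq.mp h1.symm
    have h3 : (d • q).out = ((d : H) * q.out) * (((d : H) * q.out)⁻¹ * (d • q).out) := by group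
    rw [h3, hFT _ _ h2, hFD _ _ d.2]
  have hFqR : ∀ q, Fq q ∈ (localSubring M).toAddSubgroup := fun q => hεR _
  obtain ⟨t, ht, hsum⟩ := sum_eq_sum_fixedPoints_add_nsmul p hD
    (localSubring M).toAddSubgroup Fq hFqR hFqinv
  rw [hsum]
  have hpM : MemLocalIdeal M (p : ℂ) := by
    have := memLocalIdeal_of_mem hM.2.2 hprime.one_notMem
    simpa using this
  apply memLocalIdeal_add
  · apply sum_memLocalIdeal
    intro q hq
    have hqfix : q ∈ MulAction.fixedPoints D (H ⧸ T) := (Finset.mem_filter.mp hq).2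
    apply hcon q.out
    intro d hd
    have h1 := hqfix ⟨d⁻¹, D.inv_mem hd⟩
    rw [hsmul] at h1
    have h2 : (((⟨d⁻¹, D.inv_mem hd⟩ : D) : H) * q.out : H ⧸ T) = ((q.out : H) : H ⧸ T) := by
      rw [h1, QuotientGroup.out_eq']
    have h3 := QuotientGroup.eq.mp h2
    have h4 : (((⟨d⁻¹, D.inv_mem hd⟩ : D) : H) * q.out)⁻¹ * q.out = q.out⁻¹ * d * q.out := by
      change (d⁻¹ * q.out)⁻¹ * q.out = _
      group
    rwa [h4] at h3
  · rw [nsmul_eq_mul]
    exact memLocalIdeal_mul_right hpM ht

end orbit



section transportN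
variable {G : Type u} [Group G] [Fintype G] (P : Subgroup G)

theorem mem_centralizer_subgroupOf_iff (h : Subgroup.normalizer (P : Set G)) :
    h ∈ Subgroup.centralizer
      (((P.subgroupOf (Subgroup.normalizer (P : Set G))) :
        Subgroup (Subgroup.normalizer (P : Set G))) : Set (Subgroup.normalizer (P : Set G))) ↔
      (h : G) ∈ Subgroup.centralizer (P : Set G) := by
  rw [Subgroup.mem_centralizer_iff, Subgroup.mem_centralizer_iff]
  constructor
  · intro hh q hq
    have := hh ⟨q, Subgroup.le_normalizer hq⟩ (Subgroup.mem_subgroupOf.mpr hq)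
    exact congrArg Subtype.val this
  · intro hh q' hq'
    apply Subtype.ext
    exact hh q' (Subgroup.mem_subgroupOf.mp hq')

/-- the centralizer of `P` computed inside `N_G(P)` is `C_G(P)`. -/
noncomputable def centEquiv :
    Subgroup.centralizer
      (((P.subgroupOf (Subgroup.normalizer (P : Set G))) :
        Subgroup (Subgroup.normalizer (P : Set G))) : Set (Subgroup.normalizer (P : Set G))) ≃*
      Subgroup.centralizer (P : Set G) where
  toFun c' := ⟨((c' : Subgroup.normalizer (P : Set G)) : G),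
    (mem_centralizer_subgroupOf_iff P _).mp c'.2⟩
  invFun c := ⟨⟨(c : G), Subgroup.centralizer_le_normalizer _ c.2⟩,
    (mem_centralizer_subgroupOf_iff P _).mpr c.2⟩
  left_inv _ := rfl
  right_inv _ := rfl
  map_mul' _ _ := rfl

theorem centEquiv_coe (c' : Subgroup.centralizer
      (((P.subgroupOf (Subgroup.normalizer (P : Set G))) :
        Subgroup (Subgroup.normalizer (P : Set G))) : Set (Subgroup.normalizer (P : Set G)))) :
    ((centEquiv P c' : Subgroup.centralizer (P : Set G)) : G) =
      ((c' : Subgroup.normalizer (P : Set G)) : G) := rfl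

theorem centEquiv_symm_coe (c : Subgroup.centralizer (P : Set G)) :
    ((((centEquiv P).symm c : _) : Subgroup.normalizer (P : Set G)) : G) = (c : G) := rfl

/-- coefficient transport -/
theorem subgroupBlockCoeff_pullBlock_centEquiv
    (e : Set (IrrCharacter (Subgroup.centralizer (P : Set G))))
    (h : Subgroup.normalizer (P : Set G)) :
    subgroupBlockCoeff (Subgroup.centralizer
      (((P.subgroupOf (Subgroup.normalizer (P : Set G))) :
        Subgroup (Subgroup.normalizer (P : Set G))) : Set (Subgroup.normalizer (P : Set G))))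
      (BlockIso.pullBlock (centEquiv P) e) h =
    subgroupBlockCoeff (Subgroup.centralizer (P : Set G)) e (h : G) := by
  classical
  by_cases hh : (h : G) ∈ Subgroup.centralizer (P : Set G)
  · have hh' := (mem_centralizer_subgroupOf_iff P h).mpr hh
    have e1 := subgroupBlockCoeff_coe _ (BlockIso.pullBlock (centEquiv P) e) ⟨h, hh'⟩
    have e2 := subgroupBlockCoeff_coe (Subgroup.centralizer (P : Set G)) e ⟨(h : G), hh⟩
    rw [BlockIso.blockCoeff_pullBlock] at e1
    exact e1.trans e2.symm
  · have hh' : h ∉ Subgroup.centralizer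
      (((P.subgroupOf (Subgroup.normalizer (P : Set G))) :
        Subgroup (Subgroup.normalizer (P : Set G))) : Set (Subgroup.normalizer (P : Set G))) :=
      fun hc => hh ((mem_centralizer_subgroupOf_iff P h).mp hc)
    rw [subgroupBlockCoeff_eq_extendByZero, subgroupBlockCoeff_eq_extendByZero,
      extendByZero_not_mem _ _ hh, extendByZero_not_mem _ _ hh']

/-- stabilizer transport -/
theorem stabilizesBlock_of_pullBlock
    (e : Set (IrrCharacter (Subgroup.centralizer (P : Set G))))
    (r : Subgroup.normalizer (P : Set G))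
    (hr : StabilizesBlock (Subgroup.centralizer
      (((P.subgroupOf (Subgroup.normalizer (P : Set G))) :
        Subgroup (Subgroup.normalizer (P : Set G))) : Set (Subgroup.normalizer (P : Set G))))
      (BlockIso.pullBlock (centEquiv P) e) r) :
    StabilizesBlock (Subgroup.centralizer (P : Set G)) e (r : G) := by
  refine ⟨mem_normalizer_centralizer_of_mem_normalizer r.2, ?_⟩
  intro χ hχ
  obtain ⟨ψ', hψ', hconj⟩ := hr.2 (irrCompIso (centEquiv P) χ)
    (BlockIso.irrCompIso_mem_pullBlock (centEquiv P) hχ)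
  refine ⟨irrCompIso (centEquiv P).symm ψ', hψ', ?_⟩
  intro k k' hk
  have h1 := hconj ((centEquiv P).symm k) ((centEquiv P).symm k') (by
    apply Subtype.ext
    change (k' : G) = (r : G) * (k : G) * ((r : G))⁻¹
    exact hk)
  rw [irrCompIso_apply] at h1 ⊢
  rw [MulEquiv.apply_symm_apply] at h1
  exact h1

/-- Brauer functional transport -/
theorem brauerOmega_centEquiv (β : G → ℂ) (β' : Subgroup.normalizer (P : Set G) → ℂ)
    (hβ : ∀ h : Subgroup.normalizer (P : Set G), β' h = β (h : G))
    (ξ : IrrCharacter (Subgroup.centralizer (P : Set G))) :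
    brauerOmega (P.subgroupOf (Subgroup.normalizer (P : Set G))) β'
      ((irrCompIso (centEquiv P) ξ : IrrCharacter _) : _ → ℂ) =
    brauerOmega P β (ξ : Subgroup.centralizer (P : Set G) → ℂ) := by
  unfold brauerOmega
  rw [← finsum_comp_equiv (centEquiv P).toEquiv]
  apply finsum_congr
  intro x
  rw [irrCompIso_apply, irrCompIso_apply, map_one, hβ]
  rfl

end transportN


end Cfsg.Agent.Lib.Helper24
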