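/-
helper24: Brauer pairs, part 3.  The normal step: for `(Q, f) ⊴ (P, e)` and a block `B` of `G`,
`(P, e)` is a `B`-pair iff `(Q, f)` is.
-/
import Mathlib
import Cfsg.Agent.Lib.Helper24.BrauerPairs2
import Cfsg.Agent.Lib.Helper24.PrincipalPairs

set_option autoImplicit false

namespace Cfsg.Agent.Lib.Helper24

open Cfsg Cfsg.Agent.CharLib Cfsg.Agent.Lib.Helper6
open scoped ComplexConjugate

universe u

section restrictProduct
variable {G : Type u} [Group G] [Fintype G]

/-- product with a function supported on a subgroup, read on that subgroup -/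
theorem conv_extendByZero_coe (K : Subgroup G) [Fintype K] (a : G → ℂ) (b : K → ℂ) (k : K) :
    conv a (extendByZero K b) (k : G) = conv (resFun K a) b k := by
  classical
  unfold Cfsg.Agent.Lib.Helper6.conv
  rw [sum_eq_sum_subgroup_of_support K (fun g => a g * extendByZero K b (g⁻¹ * (k : G)))]
  · apply Finset.sum_congr rfl
    intro h _
    rw [resFun_apply]
    congr 1
    exact extendByZero_coe K b (h⁻¹ * k)
  · intro g hg
    rw [extendByZero_not_mem K b, mul_zero]
    intro h'
    apply hg
    have : g = (k : G) * (g⁻¹ * (k : G))⁻¹ := by group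
    rw [this]
    exact K.mul_mem k.2 (K.inv_mem h')

theorem conjInv_extendByZero_of_le (K S : Subgroup G) (hSK : S ≤ K) {b : K → ℂ}
    (hb : IsClassFunction K b) : ConjInv S (extendByZero K b) := by
  intro u hu x
  have huK : u ∈ K := hSK hu
  by_cases hx : x ∈ K
  · have hx' : u * x * u⁻¹ ∈ K := K.mul_mem (K.mul_mem huK hx) (K.inv_mem huK)
    rw [extendByZero_mem K b hx, extendByZero_mem K b hx']
    have := hb ⟨x, hx⟩ ⟨u, huK⟩
    rw [← this]
    rfl
  · have hx' : u * x * u⁻¹ ∉ K := by
      intro h'
      apply hx
      have : x = u⁻¹ * (u * x * u⁻¹) * u := by group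
      rw [this]
      exact K.mul_mem (K.mul_mem (K.inv_mem huK) h') huK
    rw [extendByZero_not_mem K b hx, extendByZero_not_mem K b hx']

theorem memLocalRing_extendByZero {M : Ideal AlgInt} [hprime : M.IsPrime] (K : Subgroup G)
    {b : K → ℂ} (hb : ∀ k, MemLocalRing M (b k)) (x : G) :
    MemLocalRing M (extendByZero K b x) := by
  by_cases hx : x ∈ K
  · rw [extendByZero_mem K b hx]
    exact hb _
  · rw [extendByZero_not_mem K b hx]
    exact memLocalRing_zero

end restrictProduct

section functional
variable {G : Type u} [Group G] [Fintype G] {M : Ideal AlgInt}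

/-- The Brauer functional respects pointwise congruence on the centralizer. -/
theorem memLocalIdeal_brauer_sub_of_forall [hprime : M.IsPrime] (P : Subgroup G)
    [Fintype (Subgroup.centralizer (P : Set G))] {u u' : G → ℂ}
    (hu : ConjInv (Subgroup.centralizer (P : Set G)) u) (huR : ∀ x, MemLocalRing M (u x))
    (hu' : ConjInv (Subgroup.centralizer (P : Set G)) u') (huR' : ∀ x, MemLocalRing M (u' x))
    (h : ∀ x ∈ Subgroup.centralizer (P : Set G), MemLocalIdeal M (u x - u' x))
    (ξ : IrrCharacter (Subgroup.centralizer (P : Set G))) :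
    MemLocalIdeal M
      (omegaFun (ξ : Subgroup.centralizer (P : Set G) → ℂ)
          (resFun (Subgroup.centralizer (P : Set G)) u) -
        omegaFun (ξ : Subgroup.centralizer (P : Set G) → ℂ)
          (resFun (Subgroup.centralizer (P : Set G)) u')) := by
  rw [← omegaFun_sub]
  apply memLocalIdeal_omegaFun_of_forall ξ
    (IsClassFunction.sub (resFun_isClassFunction_of_conjInv _ hu)
      (resFun_isClassFunction_of_conjInv _ hu'))
  · intro x
    rw [Pi.sub_apply, resFun_apply, resFun_apply]
    exact memLocalRing_sub (huR _) (huR' _)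
  · intro x
    left
    rw [Pi.sub_apply, resFun_apply, resFun_apply]
    exact h _ x.2

/-- The Brauer functional at `P` of a product `a * ε`, where `ε` is supported on a subgroup `K`
containing `C_G(P)`. -/
theorem memLocalIdeal_brauer_conv_extendByZero {p : ℕ} [hpp : Fact p.Prime]
    (hM : IsPModular p M) (P : Subgroup G) (hP : IsPGroup p P)
    [Fintype (Subgroup.centralizer (P : Set G))] (K : Subgroup G) [Fintype K]
    (hCK : Subgroup.centralizer (P : Set G) ≤ K)
    {a : G → ℂ} (ha : IsClassFunction G a) (haR : ∀ x, MemLocalRing M (a x))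
    {b : K → ℂ} (hb : IsClassFunction K b) (hbR : ∀ k, MemLocalRing M (b k))
    (hbP : ConjInv P (extendByZero K b))
    (ξ : IrrCharacter (Subgroup.centralizer (P : Set G))) :
    MemLocalIdeal M
      (omegaFun (ξ : Subgroup.centralizer (P : Set G) → ℂ)
          (resFun (Subgroup.centralizer (P : Set G)) (extendByZero K (conv (resFun K a) b))) -
        omegaFun (ξ : Subgroup.centralizer (P : Set G) → ℂ)
          (resFun (Subgroup.centralizer (P : Set G)) a) *
        omegaFun (ξ : Subgroup.centralizer (P : Set G) → ℂ)
          (resFun (Subgroup.centralizer (P : Set G)) (extendByZero K b))) := by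
  classical
  haveI hprime : M.IsPrime := isPrime_of_isPModular hM
  have h1 := memLocalIdeal_brauer_conv_of_conjInv hM P hP
    (ConjInv.of_isClassFunction P ha)
    (ConjInv.of_isClassFunction (Subgroup.centralizer (P : Set G)) ha) haR hbP
    (conjInv_extendByZero_of_le K _ hCK hb) (memLocalRing_extendByZero K hbR) ξ
  have e1 : resFun (Subgroup.centralizer (P : Set G)) (conv a (extendByZero K b)) =
      resFun (Subgroup.centralizer (P : Set G)) (extendByZero K (conv (resFun K a) b)) := by
    funext x
    rw [resFun_apply, resFun_apply]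
    have hx : (x : G) ∈ K := hCK x.2
    have := conv_extendByZero_coe K a b ⟨(x : G), hx⟩
    rw [extendByZero_mem K _ hx]
    exact this
  rw [e1] at h1
  exact h1

end functional

section normalStep
variable {G : Type u} [Group G] [Fintype G] {M : Ideal AlgInt}

/-- Core of the normal step.  `K` is a subgroup containing `C_G(P)` (in the application
`K = C_G(Q)`), `β` a class function of `G` with local integer values whose restriction `β'` to `K`
is idempotent modulo the local ideal, `f = blockOf η₀` a block of `K` whose idempotent, read on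
`G`, is `P`-invariant and has Brauer functional `≡ 1` at `ξ`.  If the central characters of `f`
are `≡ 1` at `β'` then the Brauer functional of `β` at `ξ` is `≡ 1`; if they are `≡ 0`, it
is `≡ 0`. -/
theorem memLocalIdeal_brauer_of_block {p : ℕ} [hpp : Fact p.Prime]
    (hM : IsPModular p M) (P : Subgroup G) (hP : IsPGroup p P)
    [Fintype (Subgroup.centralizer (P : Set G))] (K : Subgroup G) [Fintype K]
    (hCK : Subgroup.centralizer (P : Set G) ≤ K)
    {β : G → ℂ} (hβ : IsClassFunction G β) (hβR : ∀ x, MemLocalRing M (β x))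
    (hidem : ∀ k : K, MemLocalIdeal M (conv (resFun K β) (resFun K β) k - resFun K β k))
    (η₀ : IrrCharacter K)
    (hfP : ConjInv P (extendByZero K (blockCoeff (blockOf M (η₀ : K → ℂ)))))
    (ξ : IrrCharacter (Subgroup.centralizer (P : Set G)))
    (hξ : MemLocalIdeal M (omegaFun (ξ : Subgroup.centralizer (P : Set G) → ℂ)
      (resFun (Subgroup.centralizer (P : Set G))
        (extendByZero K (blockCoeff (blockOf M (η₀ : K → ℂ))))) - 1)) :
    ((∀ η ∈ blockOf M (η₀ : K → ℂ), MemLocalIdeal M (omegaFun (η : K → ℂ) (resFun K β) - 1)) →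
      MemLocalIdeal M (omegaFun (ξ : Subgroup.centralizer (P : Set G) → ℂ)
        (resFun (Subgroup.centralizer (P : Set G)) β) - 1)) ∧
    ((∀ η ∈ blockOf M (η₀ : K → ℂ), MemLocalIdeal M (omegaFun (η : K → ℂ) (resFun K β))) →
      MemLocalIdeal M (omegaFun (ξ : Subgroup.centralizer (P : Set G) → ℂ)
        (resFun (Subgroup.centralizer (P : Set G)) β))) := by
  classical
  haveI hprime : M.IsPrime := isPrime_of_isPModular hM
  have hβ'cls : IsClassFunction K (resFun K β) := resFun_isClassFunction K hβ
  have hβ'R : ∀ k : K, MemLocalRing M (resFun K β k) := fun k => hβR (k : G)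
  have hecls : IsClassFunction K (blockCoeff (blockOf M (η₀ : K → ℂ))) :=
    blockCoeff_isClassFunction _
  have heR : ∀ k : K, MemLocalRing M (blockCoeff (blockOf M (η₀ : K → ℂ)) k) :=
    fun k => memLocalRing_blockCoeff_blockOf η₀ k
  have hprod := memLocalIdeal_brauer_conv_extendByZero hM P hP K hCK hβ hβR hecls heR hfP ξ
  have hcecls : IsClassFunction K (conv (resFun K β) (blockCoeff (blockOf M (η₀ : K → ℂ)))) :=
    conv_isClassFunction hβ'cls hecls
  have hceR : ∀ k : K, MemLocalRing M
      (conv (resFun K β) (blockCoeff (blockOf M (η₀ : K → ℂ))) k) :=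
    memLocalRing_conv hβ'R heR
  have hlβ : MemLocalRing M (omegaFun (ξ : Subgroup.centralizer (P : Set G) → ℂ)
      (resFun (Subgroup.centralizer (P : Set G)) β)) :=
    memLocalRing_omegaFun ξ (resFun_isClassFunction _ hβ) (fun x => hβR (x : G))
  constructor
  · intro h1
    have hpt := memLocalIdeal_blockCoeff_sub_conv hβ'cls hβ'R hidem η₀ h1
    have hcong := memLocalIdeal_brauer_sub_of_forall P
      (conjInv_extendByZero_of_le K _ hCK hecls) (memLocalRing_extendByZero K heR)
      (conjInv_extendByZero_of_le K _ hCK hcecls) (memLocalRing_extendByZero K hceR)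
      (fun x hx => by
        have hxK : x ∈ K := hCK hx
        rw [extendByZero_mem K _ hxK, extendByZero_mem K _ hxK]
        exact hpt ⟨x, hxK⟩) ξ
    -- λε - λ(ext conv) ∈ M, λ(ext conv) - λβ λε ∈ M, λε - 1 ∈ M
    have h3 := memLocalIdeal_add hcong hprod
    have h4 := memLocalIdeal_mul_left hlβ hξ
    have h5 := memLocalIdeal_sub hξ (memLocalIdeal_add h3 h4)
    have e1 : ∀ le lc lb : ℂ, le - 1 - (le - lc + (lc - lb * le) + lb * (le - 1)) = lb - 1 :=
      fun le lc lb => by ring
    rw [e1] at h5
    exact h5
  · intro h0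
    have hpt := memLocalIdeal_conv_blockCoeff hβ'cls hβ'R hidem η₀ h0
    have hz : IsClassFunction K (0 : K → ℂ) := fun _ _ => rfl
    have hcong := memLocalIdeal_brauer_sub_of_forall P
      (conjInv_extendByZero_of_le K _ hCK hcecls) (memLocalRing_extendByZero K hceR)
      (conjInv_extendByZero_of_le K _ hCK hz)
      (memLocalRing_extendByZero K (fun _ => memLocalRing_zero))
      (fun x hx => by
        have hxK : x ∈ K := hCK hx
        rw [extendByZero_mem K _ hxK, extendByZero_mem K _ hxK, Pi.zero_apply, sub_zero]
        exact hpt ⟨x, hxK⟩) ξ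
    have hzero : omegaFun (ξ : Subgroup.centralizer (P : Set G) → ℂ)
        (resFun (Subgroup.centralizer (P : Set G)) (extendByZero K (0 : K → ℂ))) = 0 := by
      unfold omegaFun
      have : ∀ g : Subgroup.centralizer (P : Set G),
          resFun (Subgroup.centralizer (P : Set G)) (extendByZero K (0 : K → ℂ)) g *
            (ξ : Subgroup.centralizer (P : Set G) → ℂ) g = 0 := by
        intro g
        rw [resFun_apply]
        by_cases hg : (g : G) ∈ K
        · rw [extendByZero_mem K _ hg, Pi.zero_apply, zero_mul]
        · rw [extendByZero_not_mem K _ hg, zero_mul]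
      rw [Finset.sum_congr rfl (fun g _ => this g), Finset.sum_const_zero, zero_div]
    rw [hzero, sub_zero] at hcong
    -- λ(ext conv) ∈ M, λ(ext conv) - λβ λε ∈ M, λε - 1 ∈ M
    have h3 := memLocalIdeal_sub hcong hprod
    have h4 := memLocalIdeal_mul_left hlβ hξ
    have h5 := memLocalIdeal_sub h3 h4
    have e1 : ∀ le lc lb : ℂ, lc - (lc - lb * le) - lb * (le - 1) = lb :=
      fun le lc lb => by ring
    rw [e1] at h5
    exact h5

end normalStep

section normalStepInv
variable {G : Type u} [Group G] [Fintype G] {M : Ideal AlgInt}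

/-- Version of `memLocalIdeal_brauer_conv_extendByZero` for functions that are only invariant
under `P` and `C_G(P)`. -/
theorem memLocalIdeal_brauer_conv_extendByZero' {p : ℕ} [hpp : Fact p.Prime]
    (hM : IsPModular p M) (P : Subgroup G) (hP : IsPGroup p P)
    [Fintype (Subgroup.centralizer (P : Set G))] (K : Subgroup G) [Fintype K]
    (hCK : Subgroup.centralizer (P : Set G) ≤ K)
    {a : G → ℂ} (haP : ConjInv P a) (haC : ConjInv (Subgroup.centralizer (P : Set G)) a)
    (haR : ∀ x, MemLocalRing M (a x))
    {b : K → ℂ} (hb : IsClassFunction K b) (hbR : ∀ k, MemLocalRing M (b k))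
    (hbP : ConjInv P (extendByZero K b))
    (ξ : IrrCharacter (Subgroup.centralizer (P : Set G))) :
    MemLocalIdeal M
      (omegaFun (ξ : Subgroup.centralizer (P : Set G) → ℂ)
          (resFun (Subgroup.centralizer (P : Set G)) (extendByZero K (conv (resFun K a) b))) -
        omegaFun (ξ : Subgroup.centralizer (P : Set G) → ℂ)
          (resFun (Subgroup.centralizer (P : Set G)) a) *
        omegaFun (ξ : Subgroup.centralizer (P : Set G) → ℂ)
          (resFun (Subgroup.centralizer (P : Set G)) (extendByZero K b))) := by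
  classical
  haveI hprime : M.IsPrime := isPrime_of_isPModular hM
  have h1 := memLocalIdeal_brauer_conv_of_conjInv hM P hP haP haC haR hbP
    (conjInv_extendByZero_of_le K _ hCK hb) (memLocalRing_extendByZero K hbR) ξ
  have e1 : resFun (Subgroup.centralizer (P : Set G)) (conv a (extendByZero K b)) =
      resFun (Subgroup.centralizer (P : Set G)) (extendByZero K (conv (resFun K a) b)) := by
    funext x
    rw [resFun_apply, resFun_apply]
    have hx : (x : G) ∈ K := hCK x.2
    have := conv_extendByZero_coe K a b ⟨(x : G), hx⟩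
    rw [extendByZero_mem K _ hx]
    exact this
  rw [e1] at h1
  exact h1

/-- Version of `memLocalIdeal_brauer_of_block` for functions `β` that are only invariant under
`P` and `K`. -/
theorem memLocalIdeal_brauer_of_block' {p : ℕ} [hpp : Fact p.Prime]
    (hM : IsPModular p M) (P : Subgroup G) (hP : IsPGroup p P)
    [Fintype (Subgroup.centralizer (P : Set G))] (K : Subgroup G) [Fintype K]
    (hCK : Subgroup.centralizer (P : Set G) ≤ K)
    {β : G → ℂ} (hβP : ConjInv P β) (hβK : ConjInv K β) (hβR : ∀ x, MemLocalRing M (β x))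
    (hidem : ∀ k : K, MemLocalIdeal M (conv (resFun K β) (resFun K β) k - resFun K β k))
    (η₀ : IrrCharacter K)
    (hfP : ConjInv P (extendByZero K (blockCoeff (blockOf M (η₀ : K → ℂ)))))
    (ξ : IrrCharacter (Subgroup.centralizer (P : Set G)))
    (hξ : MemLocalIdeal M (omegaFun (ξ : Subgroup.centralizer (P : Set G) → ℂ)
      (resFun (Subgroup.centralizer (P : Set G))
        (extendByZero K (blockCoeff (blockOf M (η₀ : K → ℂ))))) - 1)) :
    ((∀ η ∈ blockOf M (η₀ : K → ℂ), MemLocalIdeal M (omegaFun (η : K → ℂ) (resFun K β) - 1)) →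
      MemLocalIdeal M (omegaFun (ξ : Subgroup.centralizer (P : Set G) → ℂ)
        (resFun (Subgroup.centralizer (P : Set G)) β) - 1)) ∧
    ((∀ η ∈ blockOf M (η₀ : K → ℂ), MemLocalIdeal M (omegaFun (η : K → ℂ) (resFun K β))) →
      MemLocalIdeal M (omegaFun (ξ : Subgroup.centralizer (P : Set G) → ℂ)
        (resFun (Subgroup.centralizer (P : Set G)) β))) := by
  classical
  haveI hprime : M.IsPrime := isPrime_of_isPModular hM
  have hβC : ConjInv (Subgroup.centralizer (P : Set G)) β := fun u hu x => hβK u (hCK hu) x
  have hβ'cls : IsClassFunction K (resFun K β) := resFun_isClassFunction_of_conjInv K hβK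
  have hβ'R : ∀ k : K, MemLocalRing M (resFun K β k) := fun k => hβR (k : G)
  have hecls : IsClassFunction K (blockCoeff (blockOf M (η₀ : K → ℂ))) :=
    blockCoeff_isClassFunction _
  have heR : ∀ k : K, MemLocalRing M (blockCoeff (blockOf M (η₀ : K → ℂ)) k) :=
    fun k => memLocalRing_blockCoeff_blockOf η₀ k
  have hprod := memLocalIdeal_brauer_conv_extendByZero' hM P hP K hCK hβP hβC hβR hecls heR hfP ξ
  have hcecls : IsClassFunction K (conv (resFun K β) (blockCoeff (blockOf M (η₀ : K → ℂ)))) :=
    conv_isClassFunction hβ'cls hecls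
  have hceR : ∀ k : K, MemLocalRing M
      (conv (resFun K β) (blockCoeff (blockOf M (η₀ : K → ℂ))) k) :=
    memLocalRing_conv hβ'R heR
  have hlβ : MemLocalRing M (omegaFun (ξ : Subgroup.centralizer (P : Set G) → ℂ)
      (resFun (Subgroup.centralizer (P : Set G)) β)) :=
    memLocalRing_omegaFun ξ (resFun_isClassFunction_of_conjInv _ hβC) (fun x => hβR (x : G))
  constructor
  · intro h1
    have hpt := memLocalIdeal_blockCoeff_sub_conv hβ'cls hβ'R hidem η₀ h1
    have hcong := memLocalIdeal_brauer_sub_of_forall P
      (conjInv_extendByZero_of_le K _ hCK hecls) (memLocalRing_extendByZero K heR)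
      (conjInv_extendByZero_of_le K _ hCK hcecls) (memLocalRing_extendByZero K hceR)
      (fun x hx => by
        have hxK : x ∈ K := hCK hx
        rw [extendByZero_mem K _ hxK, extendByZero_mem K _ hxK]
        exact hpt ⟨x, hxK⟩) ξ
    have h3 := memLocalIdeal_add hcong hprod
    have h4 := memLocalIdeal_mul_left hlβ hξ
    have h5 := memLocalIdeal_sub hξ (memLocalIdeal_add h3 h4)
    have e1 : ∀ le lc lb : ℂ, le - 1 - (le - lc + (lc - lb * le) + lb * (le - 1)) = lb - 1 :=
      fun le lc lb => by ring
    rw [e1] at h5
    exact h5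
  · intro h0
    have hpt := memLocalIdeal_conv_blockCoeff hβ'cls hβ'R hidem η₀ h0
    have hz : IsClassFunction K (0 : K → ℂ) := fun _ _ => rfl
    have hcong := memLocalIdeal_brauer_sub_of_forall P
      (conjInv_extendByZero_of_le K _ hCK hcecls) (memLocalRing_extendByZero K hceR)
      (conjInv_extendByZero_of_le K _ hCK hz)
      (memLocalRing_extendByZero K (fun _ => memLocalRing_zero))
      (fun x hx => by
        have hxK : x ∈ K := hCK hx
        rw [extendByZero_mem K _ hxK, extendByZero_mem K _ hxK, Pi.zero_apply, sub_zero]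
        exact hpt ⟨x, hxK⟩) ξ
    have hzero : omegaFun (ξ : Subgroup.centralizer (P : Set G) → ℂ)
        (resFun (Subgroup.centralizer (P : Set G)) (extendByZero K (0 : K → ℂ))) = 0 := by
      unfold omegaFun
      have : ∀ g : Subgroup.centralizer (P : Set G),
          resFun (Subgroup.centralizer (P : Set G)) (extendByZero K (0 : K → ℂ)) g *
            (ξ : Subgroup.centralizer (P : Set G) → ℂ) g = 0 := by
        intro g
        rw [resFun_apply]
        by_cases hg : (g : G) ∈ K
        · rw [extendByZero_mem K _ hg, Pi.zero_apply, zero_mul]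
        · rw [extendByZero_not_mem K _ hg, zero_mul]
      rw [Finset.sum_congr rfl (fun g _ => this g), Finset.sum_const_zero, zero_div]
    rw [hzero, sub_zero] at hcong
    have h3 := memLocalIdeal_sub hcong hprod
    have h4 := memLocalIdeal_mul_left hlβ hξ
    have h5 := memLocalIdeal_sub h3 h4
    have e1 : ∀ le lc lb : ℂ, lc - (lc - lb * le) - lb * (le - 1) = lb :=
      fun le lc lb => by ring
    rw [e1] at h5
    exact h5

end normalStepInv

end Cfsg.Agent.Lib.Helper24
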