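/-
helper24: primitivity of block idempotents, and: a stable block of a subgroup `C` of `T`, such that
all block idempotents of `T` vanish off `C`, gives a block idempotent of `T`.
-/
import Mathlib
import Cfsg.Agent.Lib.Helper24.BrauerPairs3
import Cfsg.Agent.S0909

set_option autoImplicit false

namespace Cfsg.Agent.Lib.Helper24

open Cfsg Cfsg.Agent.CharLib Cfsg.Agent.Lib.Helper6
open scoped ComplexConjugate

universe u

section idem
variable {X : Type u} [Group X] [Fintype X]

/-- the central character values of an idempotent class function are `0` or `1` -/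
theorem omegaFun_eq_zero_or_one_of_idem {a : X → ℂ} (ha : IsClassFunction X a)
    (hidem : conv a a = a) (ψ : IrrCharacter X) :
    omegaFun (ψ : X → ℂ) a = 0 ∨ omegaFun (ψ : X → ℂ) a = 1 := by
  have h1 := omegaFun_conv ψ ha ha
  rw [hidem] at h1
  have h2 : omegaFun (ψ : X → ℂ) a * (omegaFun (ψ : X → ℂ) a - 1) = 0 := by
    rw [mul_sub, mul_one, ← h1, sub_self]
  rcases mul_eq_zero.mp h2 with h | h
  · exact Or.inl h
  · exact Or.inr (sub_eq_zero.mp h)

/-- an idempotent class function is the idempotent of the set of characters not killing it -/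
theorem eq_blockCoeff_of_idem {a : X → ℂ} (ha : IsClassFunction X a) (hidem : conv a a = a) :
    a = blockCoeff {ψ : IrrCharacter X | omegaFun (ψ : X → ℂ) a = 1} := by
  classical
  apply eq_of_omegaFun_eq ha (blockCoeff_isClassFunction _)
  intro ψ
  rw [omegaFun_blockCoeff]
  by_cases h : ψ ∈ {ψ : IrrCharacter X | omegaFun (ψ : X → ℂ) a = 1}
  · rw [if_pos h]
    exact h
  · rw [if_neg h]
    rcases omegaFun_eq_zero_or_one_of_idem ha hidem ψ with h0 | h1
    · exact h0
    · exact absurd h1 h

theorem blockCoeff_empty : blockCoeff (∅ : Set (IrrCharacter X)) = 0 := by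
  funext g
  unfold blockCoeff
  simp

/-- **Primitivity of block idempotents**: a nonzero idempotent class function with local integer
values lying under a block idempotent is that block idempotent. -/
theorem eq_blockCoeff_of_idem_of_conv {p : ℕ} [hpp : Fact p.Prime] {M : Ideal AlgInt}
    (hM : IsPModular p M) {a : X → ℂ} (ha : IsClassFunction X a) (hidem : conv a a = a)
    (haR : ∀ x, MemLocalRing M (a x)) (hne : a ≠ 0) (E : Set (IrrCharacter X))
    (hE : IsPBlock M E) (hconv : conv a (blockCoeff E) = a) : a = blockCoeff E := by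
  classical
  haveI hprime : M.IsPrime := isPrime_of_isPModular hM
  have h1 := eq_blockCoeff_of_idem ha hidem
  set A : Set (IrrCharacter X) := {ψ : IrrCharacter X | omegaFun (ψ : X → ℂ) a = 1} with hA
  have hAE : A ⊆ E := by
    intro ψ hψ
    have h2 := omegaFun_conv ψ ha (blockCoeff_isClassFunction E)
    rw [hconv, omegaFun_blockCoeff] at h2
    have hψ1 : omegaFun (ψ : X → ℂ) a = 1 := hψ
    by_contra hn
    rw [if_neg hn, mul_zero, hψ1] at h2
    exact one_ne_zero h2
  have hAne : A.Nonempty := by
    rw [Set.nonempty_iff_ne_empty]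
    intro hemp
    rw [hemp, blockCoeff_empty] at h1
    exact hne h1
  obtain ⟨ψ₁, hψ₁⟩ := hAne
  have hsub := Cfsg.Agent.S0909.result p M hM A (fun g => by rw [← h1]; exact haR g) ψ₁ hψ₁
  have hEeq : blockOf M (ψ₁ : X → ℂ) = E :=
    isPBlock_eq_of_mem ⟨ψ₁, rfl⟩ hE (mem_blockOf_self ψ₁) (hAE hψ₁)
  rw [hEeq] at hsub
  have : A = E := Set.Subset.antisymm hAE hsub
  rw [h1, this]

end idem

section stable
variable {G : Type u} [Group G] [Fintype G]

theorem extendByZero_injective (H : Subgroup G) {a b : H → ℂ}
    (h : extendByZero H a = extendByZero H b) : a = b := by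
  funext x
  have := congrFun h (x : G)
  rwa [extendByZero_coe, extendByZero_coe] at this

/-- a function on `T` vanishing off `C ≤ T`, read on `G`, is the extension of its restriction
to `C` -/
theorem extendByZero_eq_of_vanish (T C : Subgroup G) (hCT : C ≤ T) (v : T → ℂ)
    (hv : ∀ t : T, (t : G) ∉ C → v t = 0) :
    extendByZero T v = extendByZero C (fun c : C => v ⟨(c : G), hCT c.2⟩) := by
  funext g
  by_cases hgC : g ∈ C
  · rw [extendByZero_mem C _ hgC, extendByZero_mem T _ (hCT hgC)]
  · rw [extendByZero_not_mem C _ hgC]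
    by_cases hgT : g ∈ T
    · rw [extendByZero_mem T _ hgT]
      exact hv ⟨g, hgT⟩ hgC
    · exact extendByZero_not_mem T _ hgT

/-- Let `C ≤ T` be subgroups of `G`, `e` a block of `C` stable under `T`, and suppose that every
block idempotent of `T` vanishes off `C`.  Then the idempotent of `e` is a block idempotent of
`T`. -/
theorem exists_block_of_stable {p : ℕ} [hpp : Fact p.Prime] {M : Ideal AlgInt}
    (hM : IsPModular p M) (T C : Subgroup G) (hCT : C ≤ T)
    (e : Set (IrrCharacter C)) (he : IsPBlock M e)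
    (hst : ∀ t ∈ T, StabilizesBlock C e t)
    (hvan : ∀ E : Set (IrrCharacter T), IsPBlock M E → ∀ t : T, (t : G) ∉ C →
      blockCoeff E t = 0) :
    ∃ E : Set (IrrCharacter T), IsPBlock M E ∧
      ∀ t : T, blockCoeff E t = subgroupBlockCoeff C e (t : G) := by
  classical
  haveI hprime : M.IsPrime := isPrime_of_isPModular hM
  let _ : Fintype T := Fintype.ofFinite T
  let _ : Fintype C := Fintype.ofFinite C
  obtain ⟨ξ₀, rfl⟩ := he
  -- the function `u` on `T`
  set u : T → ℂ := fun t => subgroupBlockCoeff C (blockOf M (ξ₀ : C → ℂ)) (t : G) with hu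
  have hextu : extendByZero T u = extendByZero C (blockCoeff (blockOf M (ξ₀ : C → ℂ))) := by
    funext g
    by_cases hgT : g ∈ T
    · rw [extendByZero_mem T _ hgT, ← subgroupBlockCoeff_eq_extendByZero]
    · rw [extendByZero_not_mem T _ hgT, extendByZero_not_mem C _ (fun h => hgT (hCT h))]
  have hucls : IsClassFunction T u := by
    intro t s
    have := subgroupBlockCoeff_conj_of_stabilizes C (blockOf M (ξ₀ : C → ℂ)) (s : G)
      (hst s s.2) (t : G)
    simp only [hu]
    rw [← this]
    rfl
  have huR : ∀ t, MemLocalRing M (u t) := fun t =>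
    memLocalRing_subgroupBlockCoeff M C ξ₀ (t : G)
  have huidem : conv u u = u := by
    apply extendByZero_injective T
    rw [← conv_extendByZero, hextu, conv_extendByZero, conv_blockCoeff_self]
  have hune : u ≠ 0 := by
    intro h0
    have h1 : blockCoeff (blockOf M (ξ₀ : C → ℂ)) = 0 := by
      apply extendByZero_injective C
      rw [← hextu, h0]
      funext g
      by_cases hgT : g ∈ T
      · rw [extendByZero_mem T _ hgT]
        by_cases hgC : g ∈ C
        · rw [extendByZero_mem C _ hgC]; rfl
        · rw [extendByZero_not_mem C _ hgC]; rfl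
      · rw [extendByZero_not_mem T _ hgT]
        by_cases hgC : g ∈ C
        · rw [extendByZero_mem C _ hgC]; rfl
        · rw [extendByZero_not_mem C _ hgC]
    have h2 := omegaFun_blockCoeff (blockOf M (ξ₀ : C → ℂ)) ξ₀
    rw [if_pos (mem_blockOf_self ξ₀), h1] at h2
    unfold omegaFun at h2
    simp at h2
  -- a block of `T` under `u`
  have huA := eq_blockCoeff_of_idem hucls huidem
  have hAne : ({ψ : IrrCharacter T | omegaFun (ψ : T → ℂ) u = 1}).Nonempty := by
    rw [Set.nonempty_iff_ne_empty]
    intro hemp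
    rw [hemp, blockCoeff_empty] at huA
    exact hune huA
  obtain ⟨ψ₀, hψ₀⟩ := hAne
  have hψ₀1 : omegaFun (ψ₀ : T → ℂ) u = 1 := hψ₀
  refine ⟨blockOf M (ψ₀ : T → ℂ), ⟨ψ₀, rfl⟩, ?_⟩
  set v : T → ℂ := blockCoeff (blockOf M (ψ₀ : T → ℂ)) with hv
  have hvcls : IsClassFunction T v := blockCoeff_isClassFunction _
  have hvR : ∀ t, MemLocalRing M (v t) := fun t => memLocalRing_blockCoeff_blockOf ψ₀ t
  have hvidem : conv v v = v := conv_blockCoeff_self _
  have hvan' : ∀ t : T, (t : G) ∉ C → v t = 0 := hvan _ ⟨ψ₀, rfl⟩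
  -- `v * u = v`
  have hAsub : blockOf M (ψ₀ : T → ℂ) ⊆ {ψ : IrrCharacter T | omegaFun (ψ : T → ℂ) u = 1} :=
    Cfsg.Agent.S0909.result p M hM _ (fun g => by rw [← huA]; exact huR g) ψ₀ hψ₀
  have hvu : conv v u = v := by
    apply eq_of_omegaFun_eq (conv_isClassFunction hvcls hucls) hvcls
    intro ψ
    rw [omegaFun_conv ψ hvcls hucls, hv, omegaFun_blockCoeff]
    by_cases hψ : ψ ∈ blockOf M (ψ₀ : T → ℂ)
    · rw [if_pos hψ, one_mul]
      exact hAsub hψ
    · rw [if_neg hψ, zero_mul]
  -- restriction of `v` to `C`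
  set vt : C → ℂ := fun c => v ⟨(c : G), hCT c.2⟩ with hvt
  have hextv : extendByZero T v = extendByZero C vt := extendByZero_eq_of_vanish T C hCT v hvan'
  have hvtcls : IsClassFunction C vt := by
    intro c d
    simp only [hvt]
    have := hvcls ⟨(c : G), hCT c.2⟩ ⟨(d : G), hCT d.2⟩
    rw [← this]
    rfl
  have hvtR : ∀ c, MemLocalRing M (vt c) := fun c => hvR _
  have hvtidem : conv vt vt = vt := by
    apply extendByZero_injective C
    rw [← conv_extendByZero, ← hextv, conv_extendByZero, hvidem]
  have hvtconv : conv vt (blockCoeff (blockOf M (ξ₀ : C → ℂ))) = vt := by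
    apply extendByZero_injective C
    rw [← conv_extendByZero, ← hextv, ← hextu, conv_extendByZero, hvu]
  have hvtne : vt ≠ 0 := by
    intro h0
    have h1 : extendByZero T v = extendByZero T (0 : T → ℂ) := by
      rw [hextv, h0]
      funext g
      by_cases hgT : g ∈ T
      · rw [extendByZero_mem T _ hgT]
        by_cases hgC : g ∈ C
        · rw [extendByZero_mem C _ hgC]; rfl
        · rw [extendByZero_not_mem C _ hgC]; rfl
      · rw [extendByZero_not_mem T _ hgT]
        by_cases hgC : g ∈ C
        · rw [extendByZero_mem C _ hgC]; rfl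
        · rw [extendByZero_not_mem C _ hgC]
    have h2 : v = 0 := extendByZero_injective T h1
    have h3 := omegaFun_blockCoeff (blockOf M (ψ₀ : T → ℂ)) ψ₀
    rw [if_pos (mem_blockOf_self ψ₀), ← hv, h2] at h3
    unfold omegaFun at h3
    simp at h3
  have hvteq := eq_blockCoeff_of_idem_of_conv hM hvtcls hvtidem hvtR hvtne
    (blockOf M (ξ₀ : C → ℂ)) ⟨ξ₀, rfl⟩ hvtconv
  -- conclude
  have hfinal : extendByZero T v = extendByZero T u := by
    rw [hextv, hvteq, hextu]
  have := extendByZero_injective T hfinal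
  intro t
  exact congrFun this t

end stable

end Cfsg.Agent.Lib.Helper24
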