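/-
helper24: the stabilizer `T = N_G(Q, f)` of a Brauer pair: `C_T(R') ≃ C_G(R)` for `Q ≤ R ≤ T`
(`centEquivT`), normal steps `(Q, f) ⊴ (R, g)` as Brauer pairs of the block of `T` with the
idempotent of `f` (`isNormalSubpair_iff_isBrauerPairOf_T`), existence of that block
(`exists_block_stab`), blocks determined by idempotents, and the conjugation isomorphism
between the stabilizers of conjugate pairs (`mem_stab_conj_iff`, `stabEquiv`).
-/
import Mathlib
import Cfsg.Agent.Lib.Helper24.PairConj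
import Cfsg.Agent.Lib.Helper24.MaxPair
import Cfsg.Agent.Lib.Helper24.StableIdem
import Cfsg.Agent.S4653

set_option autoImplicit false
open Cfsg Cfsg.Agent.CharLib Cfsg.Agent.Lib.Helper6
open scoped ComplexConjugate

namespace Cfsg.Agent.Lib.Helper24
universe u

section centT
variable {G : Type u} [Group G] (T R : Subgroup G) (R' : Subgroup T)

theorem mem_centralizer_of_eq_map (hR : R = R'.map T.subtype)
    (hC : Subgroup.centralizer (R : Set G) ≤ T) (x : G) :
    x ∈ Subgroup.centralizer (R : Set G) ↔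
      ∃ hx : x ∈ T, (⟨x, hx⟩ : T) ∈ Subgroup.centralizer (R' : Set T) := by
  constructor
  · intro hx
    refine ⟨hC hx, ?_⟩
    rw [Subgroup.mem_centralizer_iff]
    intro d hd
    apply Subtype.ext
    have hdR : ((d : T) : G) ∈ R := by
      rw [hR]; exact ⟨d, hd, rfl⟩
    exact Subgroup.mem_centralizer_iff.mp hx _ hdR
  · rintro ⟨hxT, hxD⟩
    rw [Subgroup.mem_centralizer_iff]
    intro r hr
    rw [hR] at hr
    obtain ⟨d, hd, rfl⟩ := hr
    have := Subgroup.mem_centralizer_iff.mp hxD d hd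
    exact congrArg Subtype.val this

/-- The centralizer of `R'` computed inside `T` is `C_G(R)` when `C_G(R) ≤ T`. -/
noncomputable def centEquivT (hR : R = R'.map T.subtype)
    (hC : Subgroup.centralizer (R : Set G) ≤ T) :
    Subgroup.centralizer (R' : Set T) ≃* Subgroup.centralizer (R : Set G) where
  toFun c := ⟨((c : T) : G),
    (mem_centralizer_of_eq_map T R R' hR hC _).mpr ⟨(c : T).2, c.2⟩⟩
  invFun c := ⟨⟨(c : G), ((mem_centralizer_of_eq_map T R R' hR hC _).mp c.2).fst⟩,
    ((mem_centralizer_of_eq_map T R R' hR hC _).mp c.2).snd⟩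
  left_inv _ := rfl
  right_inv _ := rfl
  map_mul' _ _ := rfl

theorem centEquivT_coe (hR : R = R'.map T.subtype)
    (hC : Subgroup.centralizer (R : Set G) ≤ T) (c : Subgroup.centralizer (R' : Set T)) :
    ((centEquivT T R R' hR hC c : Subgroup.centralizer (R : Set G)) : G) = ((c : T) : G) := rfl

/-- Brauer functional transport -/
theorem brauerOmega_centEquivT (hR : R = R'.map T.subtype)
    (hC : Subgroup.centralizer (R : Set G) ≤ T) (β : G → ℂ) (β' : T → ℂ)
    (hβ : ∀ h : T, β' h = β (h : G))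
    (ξ : IrrCharacter (Subgroup.centralizer (R : Set G))) :
    brauerOmega R' β' ((irrCompIso (centEquivT T R R' hR hC) ξ : IrrCharacter _) : _ → ℂ) =
    brauerOmega R β (ξ : Subgroup.centralizer (R : Set G) → ℂ) := by
  unfold brauerOmega
  rw [← finsum_comp_equiv (centEquivT T R R' hR hC).toEquiv]
  apply finsum_congr
  intro x
  rw [irrCompIso_apply, irrCompIso_apply, map_one, hβ]
  rfl

end centT

section iffT
variable {G : Type u} [Group G] [Finite G] {M : Ideal AlgInt} (Q T R : Subgroup G) (R' : Subgroup T)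

/-- For the stabilizer `T` of `(Q, f)` and the block `F` of `T` with the idempotent of `f`: a
normal step `(Q, f) ⊴ (R, g)` in `G` with `R ≤ T` is the same as `(R, g)` being an `F`-Brauer pair
of the group `T`. -/
theorem isNormalSubpair_iff_isBrauerPairOf_T {p : ℕ} [hpp : Fact p.Prime] (hQ : IsPGroup p Q)
    (f : Set (IrrCharacter (Subgroup.centralizer (Q : Set G)))) (hf : IsPBlock M f)
    (hT : ∀ y : G, y ∈ T ↔ y ∈ Subgroup.normalizer (Q : Set G) ∧
      StabilizesBlock (Subgroup.centralizer (Q : Set G)) f y)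
    (F : Set (IrrCharacter T)) (hF : IsPBlock M F)
    (hFf : ∀ t : T, blockCoeff F t = subgroupBlockCoeff (Subgroup.centralizer (Q : Set G)) f (t : G))
    (hR : R = R'.map T.subtype) (hQR : Q ≤ R)
    (hC : Subgroup.centralizer (R : Set G) ≤ T)
    (g : Set (IrrCharacter (Subgroup.centralizer (R : Set G)))) :
    IsNormalSubpair p M Q f R g ↔
      IsBrauerPairOf p M F R' (BlockIso.pullBlock (centEquivT T R R' hR hC) g) := by
  have hRT : R ≤ T := by
    rw [hR]
    rintro _ ⟨r, _, rfl⟩
    exact r.2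
  constructor
  · rintro ⟨_, ⟨hRp, hg⟩, _, _, _, hω⟩
    have hR'p : IsPGroup p R' := by
      have h1 : IsPGroup p (R'.map T.subtype) := hR ▸ hRp
      have h2 := h1.comap_of_injective T.subtype (Subgroup.subtype_injective _)
      rwa [Subgroup.comap_map_eq_self_of_injective (Subgroup.subtype_injective _)] at h2
    refine ⟨⟨hR'p, BlockIso.isPBlock_pullBlock _ hg⟩, hF, ?_⟩
    intro ξ' hξ'
    have hmem : irrCompIso (centEquivT T R R' hR hC).symm ξ' ∈ g :=
      (BlockIso.mem_pullBlock_iff _ g ξ').mp hξ'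
    have e1 : ξ' = irrCompIso (centEquivT T R R' hR hC)
        (irrCompIso (centEquivT T R R' hR hC).symm ξ') :=
      (BlockIso.irrCompIso_irrCompIso_symm _ ξ').symm
    rw [e1, brauerOmega_centEquivT T R R' hR hC
      (subgroupBlockCoeff (Subgroup.centralizer (Q : Set G)) f) (blockCoeff F) hFf]
    exact hω _ hmem
  · rintro ⟨⟨hR'p, hg'⟩, _, hω'⟩
    have hRp : IsPGroup p R := by
      rw [hR]
      exact hR'p.map _
    have hg : IsPBlock M g := by
      have := BlockIso.isPBlock_pullBlock (centEquivT T R R' hR hC).symm hg'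
      rwa [BlockIso.pullBlock_symm_pullBlock] at this
    refine ⟨⟨hQ, hf⟩, ⟨hRp, hg⟩, hQR, ?_, ?_, ?_⟩
    · intro x hx
      exact ((hT x).mp (hRT hx)).1
    · intro x hx
      exact ((hT x).mp (hRT hx)).2
    · intro ξ hξ
      have h1 := hω' (irrCompIso (centEquivT T R R' hR hC) ξ)
        (BlockIso.irrCompIso_mem_pullBlock _ hξ)
      rwa [brauerOmega_centEquivT T R R' hR hC
        (subgroupBlockCoeff (Subgroup.centralizer (Q : Set G)) f) (blockCoeff F) hFf] at h1

end iffT

section existsF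
variable {G : Type u} [Group G] [Fintype G] {M : Ideal AlgInt}

/-- `C_G(Q) ≤ N_G(Q, f)`. -/
theorem centralizer_le_stab (Q T : Subgroup G)
    (f : Set (IrrCharacter (Subgroup.centralizer (Q : Set G))))
    (hT : ∀ y : G, y ∈ T ↔ y ∈ Subgroup.normalizer (Q : Set G) ∧
      StabilizesBlock (Subgroup.centralizer (Q : Set G)) f y) :
    Subgroup.centralizer (Q : Set G) ≤ T := by
  intro c hc
  rw [hT]
  refine ⟨Subgroup.centralizer_le_normalizer _ hc,
    Subgroup.le_normalizer hc, fun χ hχ => ⟨χ, hχ, ?_⟩⟩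
  intro k k' hk
  have hcls := IsCharacter.isClassFunction (IsIrrCharacter.isCharacter χ.2)
  have : k' = ⟨c, hc⟩ * k * ⟨c, hc⟩⁻¹ := Subtype.ext hk
  rw [this]
  exact hcls k ⟨c, hc⟩

/-- `Q ≤ N_G(Q, f)`. -/
theorem le_stab (Q T : Subgroup G)
    (f : Set (IrrCharacter (Subgroup.centralizer (Q : Set G))))
    (hT : ∀ y : G, y ∈ T ↔ y ∈ Subgroup.normalizer (Q : Set G) ∧
      StabilizesBlock (Subgroup.centralizer (Q : Set G)) f y) :
    Q ≤ T := by
  intro y hy
  rw [hT]
  refine ⟨Subgroup.le_normalizer hy,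
    mem_normalizer_centralizer_of_mem_normalizer (Subgroup.le_normalizer hy),
    fun χ hχ => ⟨χ, hχ, ?_⟩⟩
  intro k k' hk
  have hyk : y * (k : G) = (k : G) * y := Subgroup.mem_centralizer_iff.mp k.2 y hy
  have : k' = k := by
    apply Subtype.ext
    rw [hk, hyk, mul_inv_cancel_right]
  rw [this]

/-- The idempotent of `f` is a block idempotent of the stabilizer `T = N_G(Q, f)`. -/
theorem exists_block_stab {p : ℕ} [hpp : Fact p.Prime] (hM : IsPModular p M) (Q T : Subgroup G)
    (hQ : IsPGroup p Q)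
    (f : Set (IrrCharacter (Subgroup.centralizer (Q : Set G)))) (hf : IsPBlock M f)
    (hT : ∀ y : G, y ∈ T ↔ y ∈ Subgroup.normalizer (Q : Set G) ∧
      StabilizesBlock (Subgroup.centralizer (Q : Set G)) f y) :
    ∃ F : Set (IrrCharacter T), IsPBlock M F ∧
      ∀ t : T, blockCoeff F t = subgroupBlockCoeff (Subgroup.centralizer (Q : Set G)) f (t : G) := by
  classical
  let _ : Fintype T := Fintype.ofFinite T
  have hCT := centralizer_le_stab Q T f hT
  have hQT := le_stab Q T f hT
  apply exists_block_of_stable hM T (Subgroup.centralizer (Q : Set G)) hCT f hf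
    (fun t ht => ((hT t).mp ht).2)
  intro E hE t ht
  haveI : (Q.subgroupOf T).Normal := by
    constructor
    intro n hn g
    rw [Subgroup.mem_subgroupOf] at hn ⊢
    have hgN := ((hT (g : G)).mp g.2).1
    exact (Subgroup.mem_normalizer_iff.mp hgN _).mp hn
  apply Cfsg.Agent.S4653.result' p M hM (Q.subgroupOf T) hQ.comap_subtype E hE t
  intro hcent
  apply ht
  rw [Subgroup.mem_centralizer_iff]
  intro y hy
  have := Subgroup.mem_centralizer_iff.mp hcent ⟨y, hQT hy⟩ (Subgroup.mem_subgroupOf.mpr hy)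
  exact congrArg Subtype.val this

/-- A block is determined by its idempotent. -/
theorem block_eq_of_blockCoeff_eq {X : Type u} [Group X] [Fintype X] [hprime : M.IsPrime]
    {F₁ F₂ : Set (IrrCharacter X)}
    (h₁ : IsPBlock M F₁) (h₂ : IsPBlock M F₂) (h : blockCoeff F₁ = blockCoeff F₂) : F₁ = F₂ := by
  classical
  obtain ⟨χ, hχ⟩ : ∃ χ, χ ∈ F₁ := by
    obtain ⟨ξ, h⟩ := h₁
    exact ⟨ξ, by rw [h]; exact mem_blockOf_self ξ⟩
  have e1 := omegaFun_blockCoeff F₁ χ
  have e2 := omegaFun_blockCoeff F₂ χ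
  rw [h, e2, if_pos hχ] at e1
  have hχ2 : χ ∈ F₂ := by
    by_contra hne
    rw [if_neg hne] at e1
    exact zero_ne_one e1
  exact isPBlock_eq_of_mem h₁ h₂ hχ hχ2

end existsF

section conjT
variable {G : Type u} [Group G]

theorem mem_normalizer_map_conj_iff (Q : Subgroup G) (z t' : G) :
    t' ∈ Subgroup.normalizer ((Q.map (MulAut.conj z).toMonoidHom : Subgroup G) : Set G) ↔
      z⁻¹ * t' * z ∈ Subgroup.normalizer (Q : Set G) := by
  constructor
  · intro h
    rw [Subgroup.mem_normalizer_iff] at h ⊢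
    intro k
    have h1 := h (z * k * z⁻¹)
    rw [mem_map_conj_iff, mem_map_conj_iff] at h1
    have e1 : z⁻¹ * (z * k * z⁻¹) * z = k := by group
    have e2 : z⁻¹ * (t' * (z * k * z⁻¹) * t'⁻¹) * z = z⁻¹ * t' * z * k * (z⁻¹ * t' * z)⁻¹ := by
      group
    rw [e1, e2] at h1
    exact h1
  · intro h
    have := conj_mem_normalizer_map_conj Q z _ h
    have e : z * (z⁻¹ * t' * z) * z⁻¹ = t' := by group
    rwa [e] at this

theorem mem_normalizer_centralizer_map_conj_iff (Q : Subgroup G) (z t' : G) :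
    t' ∈ Subgroup.normalizer ((Subgroup.centralizer
      ((Q.map (MulAut.conj z).toMonoidHom : Subgroup G) : Set G) : Subgroup G) : Set G) ↔
      z⁻¹ * t' * z ∈ Subgroup.normalizer
        ((Subgroup.centralizer (Q : Set G) : Subgroup G) : Set G) := by
  constructor
  · intro h
    rw [Subgroup.mem_normalizer_iff] at h ⊢
    intro k
    have h1 := h (z * k * z⁻¹)
    rw [mem_centralizer_map_conj_iff, mem_centralizer_map_conj_iff] at h1
    have e1 : z⁻¹ * (z * k * z⁻¹) * z = k := by group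
    have e2 : z⁻¹ * (t' * (z * k * z⁻¹) * t'⁻¹) * z = z⁻¹ * t' * z * k * (z⁻¹ * t' * z)⁻¹ := by
      group
    rw [e1, e2] at h1
    exact h1
  · intro h
    have := conj_mem_normalizer_centralizer_map_conj Q z _ h
    have e : z * (z⁻¹ * t' * z) * z⁻¹ = t' := by group
    rwa [e] at this

theorem stabilizesBlock_of_conjBlock (Q : Subgroup G) (z t' : G)
    (f : Set (IrrCharacter (Subgroup.centralizer (Q : Set G))))
    (h : StabilizesBlock
      (Subgroup.centralizer ((Q.map (MulAut.conj z).toMonoidHom : Subgroup G) : Set G))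
      (conjBlock Q z f) t') :
    StabilizesBlock (Subgroup.centralizer (Q : Set G)) f (z⁻¹ * t' * z) := by
  refine ⟨(mem_normalizer_centralizer_map_conj_iff Q z t').mp h.1, ?_⟩
  intro χ hχ
  have hχ' : irrCompIso (cjC Q z).symm χ ∈ conjBlock Q z f := by
    rw [mem_conjBlock_iff, BlockIso.irrCompIso_irrCompIso_symm]
    exact hχ
  obtain ⟨ψ', hψ', hconj⟩ := h.2 _ hχ'
  refine ⟨irrCompIso (cjC Q z) ψ', (mem_conjBlock_iff Q z f ψ').mp hψ', ?_⟩
  intro k k' hk
  have h1 := hconj (cjC Q z k) (cjC Q z k') (by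
    rw [cjC_coe, cjC_coe, hk]
    group)
  rw [irrCompIso_apply] at h1 ⊢
  rw [h1, MulEquiv.symm_apply_apply]

theorem stabilizesBlock_conjBlock_iff (Q : Subgroup G) (z t' : G)
    (f : Set (IrrCharacter (Subgroup.centralizer (Q : Set G)))) :
    StabilizesBlock
      (Subgroup.centralizer ((Q.map (MulAut.conj z).toMonoidHom : Subgroup G) : Set G))
      (conjBlock Q z f) t' ↔
    StabilizesBlock (Subgroup.centralizer (Q : Set G)) f (z⁻¹ * t' * z) := by
  constructor
  · exact stabilizesBlock_of_conjBlock Q z t' f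
  · intro h
    have := stabilizesBlock_conjBlock Q z _ f h
    have e : z * (z⁻¹ * t' * z) * z⁻¹ = t' := by group
    rwa [e] at this

/-- The stabilizer of the conjugate pair is the conjugate of the stabilizer. -/
theorem mem_stab_conj_iff (Q T T' : Subgroup G) (z : G)
    (f : Set (IrrCharacter (Subgroup.centralizer (Q : Set G))))
    (hT : ∀ y : G, y ∈ T ↔ y ∈ Subgroup.normalizer (Q : Set G) ∧
      StabilizesBlock (Subgroup.centralizer (Q : Set G)) f y)
    (hT' : ∀ y : G, y ∈ T' ↔
      y ∈ Subgroup.normalizer ((Q.map (MulAut.conj z).toMonoidHom : Subgroup G) : Set G) ∧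
      StabilizesBlock
        (Subgroup.centralizer ((Q.map (MulAut.conj z).toMonoidHom : Subgroup G) : Set G))
        (conjBlock Q z f) y) (t' : G) :
    t' ∈ T' ↔ z⁻¹ * t' * z ∈ T := by
  rw [hT, hT', mem_normalizer_map_conj_iff, stabilizesBlock_conjBlock_iff]

/-- Conjugation by `z⁻¹` as an isomorphism `T' ≃* T` when `T' = z T z⁻¹`. -/
def stabEquiv (z : G) (T T' : Subgroup G) (h : ∀ t' : G, t' ∈ T' ↔ z⁻¹ * t' * z ∈ T) :
    T' ≃* T where
  toFun t' := ⟨z⁻¹ * t' * z, (h _).mp t'.2⟩
  invFun t := ⟨z * t * z⁻¹, (h _).mpr (by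
    have e : z⁻¹ * (z * (t : G) * z⁻¹) * z = t := by group
    rw [e]; exact t.2)⟩
  left_inv t' := by apply Subtype.ext; simp [mul_assoc]
  right_inv t := by apply Subtype.ext; simp [mul_assoc]
  map_mul' a b := by apply Subtype.ext; simp [mul_assoc]

theorem stabEquiv_coe (z : G) (T T' : Subgroup G) (h : ∀ t' : G, t' ∈ T' ↔ z⁻¹ * t' * z ∈ T)
    (t' : T') : ((stabEquiv z T T' h t' : T) : G) = z⁻¹ * t' * z := rfl

end conjT

end Cfsg.Agent.Lib.Helper24
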