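/-
helper24: conjugation of Brauer pairs (`cjPair`), compatibility of normal inclusion / inclusion /
`IsBrauerPairOf` with conjugation, and existence of a maximal Brauer pair above a given one.
-/
import Mathlib
import Cfsg.Agent.Lib.Helper24.BrauerPairs3
import Cfsg.Agent.Lib.Helper24.PrincipalPairs
import Cfsg.Agent.Lib.Helper6.BlockIso
import Cfsg.Agent.S4681

set_option autoImplicit false
open Cfsg Cfsg.Agent.CharLib Cfsg.Agent.Lib.Helper6
open scoped ComplexConjugate

namespace Cfsg.Agent.Lib.Helper24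
universe u

section pairConj
variable {G : Type u} [Group G]

theorem mem_map_conj_iff (Q : Subgroup G) (z h : G) :
    h ∈ Q.map (MulAut.conj z).toMonoidHom ↔ z⁻¹ * h * z ∈ Q := by
  constructor
  · rintro ⟨q, hq, rfl⟩
    have : z⁻¹ * ((MulAut.conj z).toMonoidHom q) * z = q := by
      change z⁻¹ * (z * q * z⁻¹) * z = q
      group
    rw [this]; exact hq
  · intro hq
    refine ⟨z⁻¹ * h * z, hq, ?_⟩
    change z * (z⁻¹ * h * z) * z⁻¹ = h
    group

theorem mem_centralizer_map_conj_iff (Q : Subgroup G) (z h : G) :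
    h ∈ Subgroup.centralizer ((Q.map (MulAut.conj z).toMonoidHom : Subgroup G) : Set G) ↔
      z⁻¹ * h * z ∈ Subgroup.centralizer (Q : Set G) := by
  constructor
  · intro hh
    exact ((cjC Q z).symm ⟨h, hh⟩).2
  · intro hh
    have := (cjC Q z ⟨z⁻¹ * h * z, hh⟩).2
    have e : ((cjC Q z ⟨z⁻¹ * h * z, hh⟩ : _) : G) = h := by
      rw [cjC_coe]
      group
    rwa [e] at this

theorem conjBlock_eq_pullBlock (Q : Subgroup G) (z : G)
    (f : Set (IrrCharacter (Subgroup.centralizer (Q : Set G)))) :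
    conjBlock Q z f = BlockIso.pullBlock (cjC Q z).symm f := by
  ext ξ'
  rw [mem_conjBlock_iff, BlockIso.mem_pullBlock_iff, MulEquiv.symm_symm]

theorem isPBlock_conjBlock {M : Ideal AlgInt} (Q : Subgroup G) (z : G)
    {f : Set (IrrCharacter (Subgroup.centralizer (Q : Set G)))} (hf : IsPBlock M f) :
    IsPBlock M (conjBlock Q z f) := by
  rw [conjBlock_eq_pullBlock]
  exact BlockIso.isPBlock_pullBlock _ hf

theorem subgroupBlockCoeff_conjBlock (Q : Subgroup G) (z : G)
    (f : Set (IrrCharacter (Subgroup.centralizer (Q : Set G)))) (x : G) :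
    subgroupBlockCoeff
      (Subgroup.centralizer ((Q.map (MulAut.conj z).toMonoidHom : Subgroup G) : Set G))
      (conjBlock Q z f) x =
    subgroupBlockCoeff (Subgroup.centralizer (Q : Set G)) f (z⁻¹ * x * z) := by
  classical
  by_cases hx : x ∈ Subgroup.centralizer
      ((Q.map (MulAut.conj z).toMonoidHom : Subgroup G) : Set G)
  · have hx' := (mem_centralizer_map_conj_iff Q z x).mp hx
    have e1 := subgroupBlockCoeff_coe _ (conjBlock Q z f) ⟨x, hx⟩
    have e2 := subgroupBlockCoeff_coe (Subgroup.centralizer (Q : Set G)) f ⟨z⁻¹ * x * z, hx'⟩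
    rw [conjBlock_eq_pullBlock, BlockIso.blockCoeff_pullBlock] at e1
    rw [conjBlock_eq_pullBlock]
    exact e1.trans e2.symm
  · have hx' : z⁻¹ * x * z ∉ Subgroup.centralizer (Q : Set G) :=
      fun hc => hx ((mem_centralizer_map_conj_iff Q z x).mpr hc)
    rw [subgroupBlockCoeff_eq_extendByZero, subgroupBlockCoeff_eq_extendByZero,
      extendByZero_not_mem _ _ hx, extendByZero_not_mem _ _ hx']

theorem conj_mem_normalizer_map_conj (Q : Subgroup G) (z x : G)
    (hx : x ∈ Subgroup.normalizer (Q : Set G)) :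
    z * x * z⁻¹ ∈ Subgroup.normalizer
      ((Q.map (MulAut.conj z).toMonoidHom : Subgroup G) : Set G) := by
  rw [Subgroup.mem_normalizer_iff]
  intro h
  rw [mem_map_conj_iff, mem_map_conj_iff]
  have e : z⁻¹ * (z * x * z⁻¹ * h * (z * x * z⁻¹)⁻¹) * z = x * (z⁻¹ * h * z) * x⁻¹ := by group
  rw [e]
  exact Subgroup.mem_normalizer_iff.mp hx _

theorem conj_mem_normalizer_centralizer_map_conj (Q : Subgroup G) (z x : G)
    (hx : x ∈ Subgroup.normalizer
      ((Subgroup.centralizer (Q : Set G) : Subgroup G) : Set G)) :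
    z * x * z⁻¹ ∈ Subgroup.normalizer ((Subgroup.centralizer
      ((Q.map (MulAut.conj z).toMonoidHom : Subgroup G) : Set G) : Subgroup G) : Set G) := by
  rw [Subgroup.mem_normalizer_iff]
  intro h
  rw [mem_centralizer_map_conj_iff, mem_centralizer_map_conj_iff]
  have e : z⁻¹ * (z * x * z⁻¹ * h * (z * x * z⁻¹)⁻¹) * z = x * (z⁻¹ * h * z) * x⁻¹ := by group
  rw [e]
  exact Subgroup.mem_normalizer_iff.mp hx _

theorem stabilizesBlock_conjBlock (Q : Subgroup G) (z x : G)
    (f : Set (IrrCharacter (Subgroup.centralizer (Q : Set G))))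
    (hx : StabilizesBlock (Subgroup.centralizer (Q : Set G)) f x) :
    StabilizesBlock
      (Subgroup.centralizer ((Q.map (MulAut.conj z).toMonoidHom : Subgroup G) : Set G))
      (conjBlock Q z f) (z * x * z⁻¹) := by
  refine ⟨conj_mem_normalizer_centralizer_map_conj Q z x hx.1, ?_⟩
  intro χ' hχ'
  have hχ : irrCompIso (cjC Q z) χ' ∈ f := (mem_conjBlock_iff Q z f χ').mp hχ'
  obtain ⟨ψ, hψ, hconj⟩ := hx.2 _ hχ
  refine ⟨irrCompIso (cjC Q z).symm ψ, ?_, ?_⟩
  · rw [mem_conjBlock_iff]
    have : irrCompIso (cjC Q z) (irrCompIso (cjC Q z).symm ψ) = ψ :=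
      BlockIso.irrCompIso_irrCompIso_symm (cjC Q z) ψ
    rw [this]
    exact hψ
  · intro k k' hk
    have h1 := hconj ((cjC Q z).symm k) ((cjC Q z).symm k') (by
      rw [cjC_symm_coe, cjC_symm_coe, hk]
      group)
    rw [irrCompIso_apply] at h1 ⊢
    rw [MulEquiv.apply_symm_apply] at h1
    exact h1

theorem brauerOmega_conj (P : Subgroup G) (z : G) (β β' : G → ℂ)
    (hβ : ∀ x, β' x = β (z⁻¹ * x * z))
    (ξ' : IrrCharacter (Subgroup.centralizer
      ((P.map (MulAut.conj z).toMonoidHom : Subgroup G) : Set G))) :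
    brauerOmega (P.map (MulAut.conj z).toMonoidHom) β' (ξ' : _ → ℂ) =
      brauerOmega P β ((irrCompIso (cjC P z) ξ' : IrrCharacter _) : _ → ℂ) := by
  unfold brauerOmega
  rw [← finsum_comp_equiv (cjC P z).toEquiv]
  apply finsum_congr
  intro c
  rw [irrCompIso_apply, irrCompIso_apply, map_one]
  have e : β' (((cjC P z).toEquiv c : _) : G) = β (c : G) := by
    rw [hβ]
    change β (z⁻¹ * (z * (c : G) * z⁻¹) * z) = β (c : G)
    congr 1
    group
  rw [e]
  rfl

variable {M : Ideal AlgInt}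

theorem isNormalSubpair_conj (p : ℕ) (z : G) (Q P : Subgroup G)
    (f : Set (IrrCharacter (Subgroup.centralizer (Q : Set G))))
    (e : Set (IrrCharacter (Subgroup.centralizer (P : Set G))))
    (h : IsNormalSubpair p M Q f P e) :
    IsNormalSubpair p M (Q.map (MulAut.conj z).toMonoidHom) (conjBlock Q z f)
      (P.map (MulAut.conj z).toMonoidHom) (conjBlock P z e) := by
  obtain ⟨⟨hQ, hf⟩, ⟨hP, he⟩, hQP, hPN, hst, hω⟩ := h
  refine ⟨⟨hQ.map _, isPBlock_conjBlock Q z hf⟩, ⟨hP.map _, isPBlock_conjBlock P z he⟩,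
    Subgroup.map_mono hQP, ?_, ?_, ?_⟩
  · rintro _ ⟨x, hx, rfl⟩
    exact conj_mem_normalizer_map_conj Q z x (hPN hx)
  · rintro _ ⟨x, hx, rfl⟩
    exact stabilizesBlock_conjBlock Q z x f (hst x hx)
  · intro ξ' hξ'
    rw [brauerOmega_conj P z (subgroupBlockCoeff (Subgroup.centralizer (Q : Set G)) f) _
      (subgroupBlockCoeff_conjBlock Q z f) ξ']
    exact hω _ ((mem_conjBlock_iff P z e ξ').mp hξ')

/-- conjugation of Brauer pairs -/
def cjPair (z : G) (a : BrauerPairIdx G) : BrauerPairIdx G :=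
  ⟨a.1.map (MulAut.conj z).toMonoidHom, conjBlock a.1 z a.2⟩

theorem reflTransGen_cjPair (p : ℕ) (z : G) (a b : BrauerPairIdx G)
    (h : Relation.ReflTransGen (NormalSubpairRel p M) a b) :
    Relation.ReflTransGen (NormalSubpairRel p M) (cjPair z a) (cjPair z b) := by
  induction h with
  | refl => exact Relation.ReflTransGen.refl
  | tail _ hstep ih =>
    exact Relation.ReflTransGen.tail ih (isNormalSubpair_conj p z _ _ _ _ hstep)

theorem subpairLE_conj (p : ℕ) (z : G) (Q P : Subgroup G)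
    (f : Set (IrrCharacter (Subgroup.centralizer (Q : Set G))))
    (e : Set (IrrCharacter (Subgroup.centralizer (P : Set G))))
    (h : SubpairLE p M Q f P e) :
    SubpairLE p M (Q.map (MulAut.conj z).toMonoidHom) (conjBlock Q z f)
      (P.map (MulAut.conj z).toMonoidHom) (conjBlock P z e) :=
  reflTransGen_cjPair p z ⟨Q, f⟩ ⟨P, e⟩ h

theorem isBrauerPairOf_conj [Finite G] (p : ℕ) (z : G) (B : Set (IrrCharacter G)) (Q : Subgroup G)
    (f : Set (IrrCharacter (Subgroup.centralizer (Q : Set G))))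
    (h : IsBrauerPairOf p M B Q f) :
    IsBrauerPairOf p M B (Q.map (MulAut.conj z).toMonoidHom) (conjBlock Q z f) := by
  obtain ⟨⟨hQ, hf⟩, hB, hω⟩ := h
  refine ⟨⟨hQ.map _, isPBlock_conjBlock Q z hf⟩, hB, ?_⟩
  intro ξ' hξ'
  have hcls : ∀ x, blockCoeff B x = blockCoeff B (z⁻¹ * x * z) := by
    intro x
    have := blockCoeff_isClassFunction B x z⁻¹
    rw [inv_inv] at this
    exact this.symm
  rw [brauerOmega_conj Q z (blockCoeff B) (blockCoeff B) hcls ξ']
  exact hω _ ((mem_conjBlock_iff Q z f ξ').mp hξ')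

end pairConj

section maximal
variable {G : Type u} [Group G] [Finite G] {M : Ideal AlgInt}

/-- Every Brauer pair of `B` lies below a maximal Brauer pair of `B`. -/
theorem exists_maximal_ge (p : ℕ) (B : Set (IrrCharacter G)) :
    ∀ (n : ℕ) (Q : Subgroup G) (f : Set (IrrCharacter (Subgroup.centralizer (Q : Set G)))),
      IsBrauerPairOf p M B Q f → Nat.card G - Nat.card Q = n →
      ∃ (R : Subgroup G) (g : Set (IrrCharacter (Subgroup.centralizer (R : Set G)))),
        IsMaximalBrauerPair p M B R g ∧ SubpairLE p M Q f R g := by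
  intro n
  induction n using Nat.strong_induction_on with
  | _ n ih =>
    intro Q f hQf hn
    by_cases hmax : ∀ (R : Subgroup G) (g : Set (IrrCharacter (Subgroup.centralizer (R : Set G)))),
        IsBrauerPairOf p M B R g → SubpairLE p M Q f R g → R = Q
    · exact ⟨Q, f, ⟨hQf, hmax⟩, Relation.ReflTransGen.refl⟩
    · push Not at hmax
      obtain ⟨R, g, hRg, hle, hne⟩ := hmax
      have hQR : Q ≤ R := Cfsg.Agent.S4681.le_of_subpairLE p M Q f R g hle
      have hlt : Q < R := lt_of_le_of_ne hQR (Ne.symm hne)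
      have hcard : Nat.card Q < Nat.card R := by
        have := Set.ncard_lt_ncard (s := (Q : Set G)) (t := (R : Set G)) hlt (Set.toFinite _)
        rwa [← Nat.card_coe_set_eq, ← Nat.card_coe_set_eq] at this
      have hRG : Nat.card R ≤ Nat.card G := Subgroup.card_le_card_group R
      obtain ⟨R', g', hmax', hle'⟩ := ih (Nat.card G - Nat.card R) (by omega) R g hRg rfl
      exact ⟨R', g', hmax', Relation.ReflTransGen.trans hle hle'⟩

end maximal

end Cfsg.Agent.Lib.Helper24
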