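/-
helper24: inclusion of Brauer pairs: normal transitivity, existence and uniqueness of the subpair
on each subgroup.
-/
import Mathlib
import Cfsg.Agent.Lib.Helper24.BrauerPairs3
import Cfsg.Agent.Lib.Helper24.BlockAction
import Cfsg.Agent.S4656
import Cfsg.Agent.S4681

set_option autoImplicit false

namespace Cfsg.Agent.Lib.Helper24

open Cfsg Cfsg.Agent.CharLib Cfsg.Agent.Lib.Helper6
open scoped ComplexConjugate

universe u

section chain
variable {G : Type u} [Group G] [Fintype G] {M : Ideal AlgInt}

/-- a normal step between pairs on the same subgroup is trivial -/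
theorem eq_of_isNormalSubpair_self {p : ℕ} [hpp : Fact p.Prime] (hM : IsPModular p M)
    (P : Subgroup G) (f e : Set (IrrCharacter (Subgroup.centralizer (P : Set G))))
    (h : IsNormalSubpair p M P f P e) : f = e := by
  classical
  haveI hprime : M.IsPrime := isPrime_of_isPModular hM
  let _ : Fintype (Subgroup.centralizer (P : Set G)) := Fintype.ofFinite _
  obtain ⟨⟨_, η₀, rfl⟩, ⟨hP, ξ₀, rfl⟩, _, _, _, hN⟩ := h
  have h1 := hN ξ₀ (mem_blockOf_self ξ₀)
  rw [brauerOmega_eq, resFun_subgroupBlockCoeff, omegaFun_blockCoeff] at h1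
  by_cases hmem : ξ₀ ∈ blockOf M (η₀ : Subgroup.centralizer (P : Set G) → ℂ)
  · exact isPBlock_eq_of_mem ⟨η₀, rfl⟩ ⟨ξ₀, rfl⟩ hmem (mem_blockOf_self ξ₀)
  · exfalso
    rw [if_neg hmem, zero_sub] at h1
    have := memLocalIdeal_neg h1
    rw [neg_neg] at this
    exact not_memLocalIdeal_one this

/-- a chain between pairs on the same subgroup is trivial -/
theorem eq_of_reflTransGen_of_fst_eq {p : ℕ} [hpp : Fact p.Prime] (hM : IsPModular p M)
    (a b : BrauerPairIdx G) (h : Relation.ReflTransGen (NormalSubpairRel p M) a b)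
    (hab : a.1 = b.1) : a = b := by
  induction h with
  | refl => rfl
  | tail hab' hstep ih =>
    rename_i b' c
    have h1 : a.1 ≤ b'.1 := Cfsg.Agent.S4681.le_of_reflTransGen p M a b' hab'
    have h2 : b'.1 ≤ c.1 := hstep.2.2.1
    have h3 : b'.1 = c.1 := le_antisymm h2 (hab ▸ h1)
    have h4 : a = b' := ih (hab.trans h3.symm)
    rw [h4]
    obtain ⟨R, g⟩ := b'
    obtain ⟨P, e⟩ := c
    simp only at h3
    subst h3
    have := eq_of_isNormalSubpair_self hM R g e hstep
    rw [this]

/-- a chain between pairs on different subgroups ends with a proper normal step -/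
theorem exists_proper_last_step {p : ℕ} [hpp : Fact p.Prime] (hM : IsPModular p M)
    (a b : BrauerPairIdx G) (h : Relation.ReflTransGen (NormalSubpairRel p M) a b)
    (hab : a.1 ≠ b.1) :
    ∃ c : BrauerPairIdx G, Relation.ReflTransGen (NormalSubpairRel p M) a c ∧
      NormalSubpairRel p M c b ∧ c.1 ≠ b.1 := by
  induction h with
  | refl => exact absurd rfl hab
  | tail hab' hstep ih =>
    rename_i b' c
    by_cases h3 : b'.1 = c.1
    · -- the last step is trivial
      have h4 : b' = c := by
        obtain ⟨R, g⟩ := b'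
        obtain ⟨P, e⟩ := c
        simp only at h3
        subst h3
        have := eq_of_isNormalSubpair_self hM R g e hstep
        rw [this]
      rw [← h4]
      apply ih
      rw [h3]
      exact hab
    · exact ⟨b', hab', hstep, h3⟩

/-- Normal transitivity: two pairs normal in `(P, e)`, on comparable subgroups. -/
theorem isNormalSubpair_of_le {p : ℕ} [hpp : Fact p.Prime] (hM : IsPModular p M)
    (P R T : Subgroup G) (e : Set (IrrCharacter (Subgroup.centralizer (P : Set G))))
    (g : Set (IrrCharacter (Subgroup.centralizer (R : Set G))))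
    (h : Set (IrrCharacter (Subgroup.centralizer (T : Set G))))
    (hTP : IsNormalSubpair p M T h P e) (hRP : IsNormalSubpair p M R g P e) (hTR : T ≤ R) :
    IsNormalSubpair p M T h R g := by
  classical
  haveI hprime : M.IsPrime := isPrime_of_isPModular hM
  let _ : Fintype (Subgroup.centralizer (P : Set G)) := Fintype.ofFinite _
  let _ : Fintype (Subgroup.centralizer (R : Set G)) := Fintype.ofFinite _
  let _ : Fintype (Subgroup.centralizer (T : Set G)) := Fintype.ofFinite _
  obtain ⟨⟨hT, θ₀, rfl⟩, ⟨hP, ξ₀, rfl⟩, hTleP, hPNT, hstabT, hNT⟩ := hTP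
  obtain ⟨⟨hR, η₀, rfl⟩, _, hRleP, hPNR, hstabR, hNR⟩ := hRP
  refine ⟨⟨hT, θ₀, rfl⟩, ⟨hR, η₀, rfl⟩, hTR, hRleP.trans hPNT,
    fun x hx => hstabT x (hRleP hx), ?_⟩
  have hCPR : Subgroup.centralizer (P : Set G) ≤ Subgroup.centralizer (R : Set G) :=
    Subgroup.centralizer_le hRleP
  have hCRT : Subgroup.centralizer (R : Set G) ≤ Subgroup.centralizer (T : Set G) :=
    Subgroup.centralizer_le hTR
  -- the test function
  have hβP : ConjInv P (subgroupBlockCoeff (Subgroup.centralizer (T : Set G))
      (blockOf M (θ₀ : Subgroup.centralizer (T : Set G) → ℂ))) := fun u hu x =>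
    subgroupBlockCoeff_conj_of_stabilizes _ _ u (hstabT u hu) x
  have hβK : ConjInv (Subgroup.centralizer (R : Set G))
      (subgroupBlockCoeff (Subgroup.centralizer (T : Set G))
      (blockOf M (θ₀ : Subgroup.centralizer (T : Set G) → ℂ))) := fun u hu x =>
    subgroupBlockCoeff_conj_of_mem _ _ u (hCRT hu) x
  have hβR : ∀ x, MemLocalRing M (subgroupBlockCoeff (Subgroup.centralizer (T : Set G))
      (blockOf M (θ₀ : Subgroup.centralizer (T : Set G) → ℂ)) x) := fun x =>
    memLocalRing_subgroupBlockCoeff M _ θ₀ x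
  have hββ : conv (subgroupBlockCoeff (Subgroup.centralizer (T : Set G))
      (blockOf M (θ₀ : Subgroup.centralizer (T : Set G) → ℂ)))
      (subgroupBlockCoeff (Subgroup.centralizer (T : Set G))
      (blockOf M (θ₀ : Subgroup.centralizer (T : Set G) → ℂ))) =
      subgroupBlockCoeff (Subgroup.centralizer (T : Set G))
      (blockOf M (θ₀ : Subgroup.centralizer (T : Set G) → ℂ)) := by
    rw [subgroupBlockCoeff_eq_extendByZero, conv_extendByZero, conv_blockCoeff_self]
  have hidem : ∀ k : Subgroup.centralizer (R : Set G), MemLocalIdeal M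
      (conv (resFun (Subgroup.centralizer (R : Set G))
          (subgroupBlockCoeff (Subgroup.centralizer (T : Set G))
            (blockOf M (θ₀ : Subgroup.centralizer (T : Set G) → ℂ))))
        (resFun (Subgroup.centralizer (R : Set G))
          (subgroupBlockCoeff (Subgroup.centralizer (T : Set G))
            (blockOf M (θ₀ : Subgroup.centralizer (T : Set G) → ℂ)))) k -
        resFun (Subgroup.centralizer (R : Set G))
          (subgroupBlockCoeff (Subgroup.centralizer (T : Set G))
            (blockOf M (θ₀ : Subgroup.centralizer (T : Set G) → ℂ))) k) := by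
    intro k
    have hβRinv : ConjInv R (subgroupBlockCoeff (Subgroup.centralizer (T : Set G))
        (blockOf M (θ₀ : Subgroup.centralizer (T : Set G) → ℂ))) := fun u hu x =>
      hβP u (hRleP hu) x
    have := resFun_conv_sub_of_conjInv hM R hR hβRinv hβR hβRinv hβR k
    rw [hββ] at this
    have h2 := memLocalIdeal_neg this
    rw [neg_sub] at h2
    rw [resFun_apply]
    exact h2
  have hfP : ConjInv P (extendByZero (Subgroup.centralizer (R : Set G))
      (blockCoeff (blockOf M (η₀ : Subgroup.centralizer (R : Set G) → ℂ)))) := by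
    intro u hu x
    have := subgroupBlockCoeff_conj_of_stabilizes (Subgroup.centralizer (R : Set G))
      (blockOf M (η₀ : Subgroup.centralizer (R : Set G) → ℂ)) u (hstabR u hu) x
    rw [subgroupBlockCoeff_eq_extendByZero] at this
    exact this
  have hξ₀ : ξ₀ ∈ blockOf M (ξ₀ : Subgroup.centralizer (P : Set G) → ℂ) := mem_blockOf_self ξ₀
  have key := memLocalIdeal_brauer_of_block' hM P hP (Subgroup.centralizer (R : Set G)) hCPR
    hβP hβK hβR hidem η₀ hfP ξ₀ (by
      have := hNR ξ₀ hξ₀
      rw [brauerOmega_eq, subgroupBlockCoeff_eq_extendByZero] at this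
      exact this)
  have hone : MemLocalIdeal M (omegaFun (ξ₀ : Subgroup.centralizer (P : Set G) → ℂ)
      (resFun (Subgroup.centralizer (P : Set G))
        (subgroupBlockCoeff (Subgroup.centralizer (T : Set G))
          (blockOf M (θ₀ : Subgroup.centralizer (T : Set G) → ℂ)))) - 1) := by
    have := hNT ξ₀ hξ₀
    rw [brauerOmega_eq] at this
    exact this
  -- dichotomy
  have hβ'cls : IsClassFunction (Subgroup.centralizer (R : Set G))
      (resFun (Subgroup.centralizer (R : Set G))
        (subgroupBlockCoeff (Subgroup.centralizer (T : Set G))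
          (blockOf M (θ₀ : Subgroup.centralizer (T : Set G) → ℂ)))) :=
    resFun_isClassFunction_of_conjInv _ hβK
  have htR : MemLocalRing M (omegaFun (η₀ : Subgroup.centralizer (R : Set G) → ℂ)
      (resFun (Subgroup.centralizer (R : Set G))
        (subgroupBlockCoeff (Subgroup.centralizer (T : Set G))
          (blockOf M (θ₀ : Subgroup.centralizer (T : Set G) → ℂ))))) :=
    memLocalRing_omegaFun η₀ hβ'cls (fun x => hβR (x : G))
  have hsq : MemLocalIdeal M (omegaFun (η₀ : Subgroup.centralizer (R : Set G) → ℂ)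
      (resFun (Subgroup.centralizer (R : Set G))
        (subgroupBlockCoeff (Subgroup.centralizer (T : Set G))
          (blockOf M (θ₀ : Subgroup.centralizer (T : Set G) → ℂ)))) *
      omegaFun (η₀ : Subgroup.centralizer (R : Set G) → ℂ)
      (resFun (Subgroup.centralizer (R : Set G))
        (subgroupBlockCoeff (Subgroup.centralizer (T : Set G))
          (blockOf M (θ₀ : Subgroup.centralizer (T : Set G) → ℂ)))) -
      omegaFun (η₀ : Subgroup.centralizer (R : Set G) → ℂ)
      (resFun (Subgroup.centralizer (R : Set G))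
        (subgroupBlockCoeff (Subgroup.centralizer (T : Set G))
          (blockOf M (θ₀ : Subgroup.centralizer (T : Set G) → ℂ))))) := by
    rw [← omegaFun_conv η₀ hβ'cls hβ'cls, ← omegaFun_sub]
    apply memLocalIdeal_omegaFun_of_forall η₀
      (IsClassFunction.sub (conv_isClassFunction hβ'cls hβ'cls) hβ'cls)
    · intro x
      rw [Pi.sub_apply]
      exact memLocalRing_sub
        (memLocalRing_conv
          (a := resFun (Subgroup.centralizer (R : Set G))
            (subgroupBlockCoeff (Subgroup.centralizer (T : Set G))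
              (blockOf M (θ₀ : Subgroup.centralizer (T : Set G) → ℂ))))
          (b := resFun (Subgroup.centralizer (R : Set G))
            (subgroupBlockCoeff (Subgroup.centralizer (T : Set G))
              (blockOf M (θ₀ : Subgroup.centralizer (T : Set G) → ℂ))))
          (fun y => hβR (y : G)) (fun y => hβR (y : G)) x)
        (hβR (x : G))
    · intro x
      left
      rw [Pi.sub_apply]
      exact hidem x
  have hdich : MemLocalIdeal M (omegaFun (η₀ : Subgroup.centralizer (R : Set G) → ℂ)
      (resFun (Subgroup.centralizer (R : Set G))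
        (subgroupBlockCoeff (Subgroup.centralizer (T : Set G))
          (blockOf M (θ₀ : Subgroup.centralizer (T : Set G) → ℂ))))) ∨
      MemLocalIdeal M (omegaFun (η₀ : Subgroup.centralizer (R : Set G) → ℂ)
      (resFun (Subgroup.centralizer (R : Set G))
        (subgroupBlockCoeff (Subgroup.centralizer (T : Set G))
          (blockOf M (θ₀ : Subgroup.centralizer (T : Set G) → ℂ)))) - 1) := by
    have e1 : ∀ t : ℂ, t * t - t = t * (t - 1) := fun t => by ring
    rw [e1] at hsq
    exact memLocalIdeal_or_of_mul htR (memLocalRing_sub htR memLocalRing_one) hsq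
  have hall : ∀ η ∈ blockOf M (η₀ : Subgroup.centralizer (R : Set G) → ℂ),
      MemLocalIdeal M (omegaFun (η₀ : Subgroup.centralizer (R : Set G) → ℂ)
        (resFun (Subgroup.centralizer (R : Set G))
          (subgroupBlockCoeff (Subgroup.centralizer (T : Set G))
            (blockOf M (θ₀ : Subgroup.centralizer (T : Set G) → ℂ)))) -
      omegaFun (η : Subgroup.centralizer (R : Set G) → ℂ)
        (resFun (Subgroup.centralizer (R : Set G))
          (subgroupBlockCoeff (Subgroup.centralizer (T : Set G))
            (blockOf M (θ₀ : Subgroup.centralizer (T : Set G) → ℂ))))) :=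
    fun η hη => memLocalIdeal_omegaFun_sub η₀ η hη hβ'cls (fun x => hβR (x : G))
  rcases hdich with h0 | h1
  · exfalso
    have hzero := key.2 (fun η hη => by
      have := memLocalIdeal_sub h0 (hall η hη)
      rwa [sub_sub_cancel] at this)
    have := memLocalIdeal_sub hzero hone
    rw [sub_sub_cancel] at this
    exact not_memLocalIdeal_one this
  · intro η hη
    rw [brauerOmega_eq]
    have := memLocalIdeal_sub h1 (hall η hη)
    have e1 : ∀ a b : ℂ, a - 1 - (a - b) = b - 1 := fun a b => by ring
    rwa [e1] at this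

/-- Existence of a subpair on each subgroup. -/
theorem exists_subpairLE {p : ℕ} [hpp : Fact p.Prime] (hM : IsPModular p M)
    (P : Subgroup G) (e : Set (IrrCharacter (Subgroup.centralizer (P : Set G))))
    (hPe : IsBrauerPair p M P e) (Q : Subgroup G) (hQP : Q ≤ P) :
    ∃ f : Set (IrrCharacter (Subgroup.centralizer (Q : Set G))),
      IsPBlock M f ∧ SubpairLE p M Q f P e := by
  classical
  induction Q using WellFoundedGT.induction with
  | ind Q ih =>
    by_cases hne : Q = P
    · subst hne
      exact ⟨e, hPe.2, Relation.ReflTransGen.refl⟩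
    · have hlt := exists_normalizer_inf_gt Q P hPe.1 hQP hne
      obtain ⟨g, hg, hchain⟩ := ih _ hlt inf_le_right
      obtain ⟨f, hf, _⟩ := Cfsg.Agent.S4656.result' p M hM
        (Subgroup.normalizer (Q : Set G) ⊓ P) Q g ⟨hPe.1.to_le inf_le_right, hg⟩ hlt.le inf_le_left
      refine ⟨f, hf.1.2, ?_⟩
      have hstep' : NormalSubpairRel p M ⟨Q, f⟩ ⟨Subgroup.normalizer (Q : Set G) ⊓ P, g⟩ := hf
      exact Relation.ReflTransGen.head hstep' hchain

/-- Uniqueness of the subpair on each subgroup. -/
theorem subpairLE_unique {p : ℕ} [hpp : Fact p.Prime] (hM : IsPModular p M) :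
    ∀ (n : ℕ) (P : Subgroup G) (e : Set (IrrCharacter (Subgroup.centralizer (P : Set G))))
      (Q : Subgroup G) (f f' : Set (IrrCharacter (Subgroup.centralizer (Q : Set G)))),
      Nat.card P - Nat.card Q = n → SubpairLE p M Q f P e → SubpairLE p M Q f' P e →
      f = f' := by
  classical
  intro n
  induction n using Nat.strong_induction_on with
  | _ n ih =>
    intro P e Q f f' hn hf hf'
    by_cases hQP : Q = P
    · subst hQP
      have h1 := eq_of_reflTransGen_of_fst_eq hM ⟨Q, f⟩ ⟨Q, e⟩ hf rfl
      have h2 := eq_of_reflTransGen_of_fst_eq hM ⟨Q, f'⟩ ⟨Q, e⟩ hf' rfl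
      have h3 : f = e := eq_of_heq (Sigma.mk.inj h1).2
      have h4 : f' = e := eq_of_heq (Sigma.mk.inj h2).2
      rw [h3, h4]
    · obtain ⟨⟨R, g⟩, hQR, hRP, hRne⟩ := exists_proper_last_step hM ⟨Q, f⟩ ⟨P, e⟩ hf hQP
      obtain ⟨⟨R', g'⟩, hQR', hRP', hRne'⟩ := exists_proper_last_step hM ⟨Q, f'⟩ ⟨P, e⟩ hf' hQP
      have hRP1 : IsNormalSubpair p M R g P e := hRP
      have hRP1' : IsNormalSubpair p M R' g' P e := hRP'
      have hQleR : Q ≤ R := Cfsg.Agent.S4681.le_of_reflTransGen p M _ _ hQR
      have hQleR' : Q ≤ R' := Cfsg.Agent.S4681.le_of_reflTransGen p M _ _ hQR'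
      have hPe : IsBrauerPair p M P e := hRP1.2.1
      have hRleP : R ≤ P := hRP1.2.2.1
      have hRleP' : R' ≤ P := hRP1'.2.2.1
      have hPNR : P ≤ Subgroup.normalizer (R : Set G) := hRP1.2.2.2.1
      have hPNR' : P ≤ Subgroup.normalizer (R' : Set G) := hRP1'.2.2.2.1
      -- the intersection
      have hTP : R ⊓ R' ≤ P := inf_le_left.trans hRleP
      have hPNT : P ≤ Subgroup.normalizer ((R ⊓ R' : Subgroup G) : Set G) := by
        intro x hx
        rw [Subgroup.mem_normalizer_iff]
        intro y
        have h1 := Subgroup.mem_normalizer_iff.mp (hPNR hx) y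
        have h2 := Subgroup.mem_normalizer_iff.mp (hPNR' hx) y
        rw [Subgroup.mem_inf, Subgroup.mem_inf, h1, h2]
      obtain ⟨h, hh, _⟩ := Cfsg.Agent.S4656.result' p M hM P (R ⊓ R') e hPe hTP hPNT
      have hTR := isNormalSubpair_of_le hM P R (R ⊓ R') e g h hh hRP1 inf_le_left
      have hTR' := isNormalSubpair_of_le hM P R' (R ⊓ R') e g' h hh hRP1' inf_le_right
      obtain ⟨f'', _, hf''⟩ := exists_subpairLE hM (R ⊓ R') h hh.1 Q (le_inf hQleR hQleR')
      have hcR : SubpairLE p M Q f'' R g := by
        have hstep' : NormalSubpairRel p M ⟨R ⊓ R', h⟩ ⟨R, g⟩ := hTR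
        exact Relation.ReflTransGen.tail hf'' hstep'
      have hcR' : SubpairLE p M Q f'' R' g' := by
        have hstep' : NormalSubpairRel p M ⟨R ⊓ R', h⟩ ⟨R', g'⟩ := hTR'
        exact Relation.ReflTransGen.tail hf'' hstep'
      have hcardlt : ∀ S : Subgroup G, S ≤ P → S ≠ P → Q ≤ S →
          Nat.card S - Nat.card Q < n := by
        intro S hSP hSne hQS
        have h1 : Nat.card S < Nat.card P := by
          have hlt : S < P := lt_of_le_of_ne hSP hSne
          exact Set.ncard_lt_ncard (by exact_mod_cast hlt) (Set.toFinite _)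
        have h2 : Nat.card Q ≤ Nat.card S := Subgroup.card_le_of_le hQS
        omega
      have e1 : f'' = f := ih _ (hcardlt R hRleP hRne hQleR) R g Q f'' f rfl hcR hQR
      have e2 : f'' = f' := ih _ (hcardlt R' hRleP' hRne' hQleR') R' g' Q f'' f' rfl hcR' hQR'
      rw [← e1, e2]

end chain

end Cfsg.Agent.Lib.Helper24
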