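/-
helper24: block fusion systems: conjugacy of subgroups in the fusion system of a block in terms of
conjugation of Brauer pairs (`blockFusion_isConj_iff`); transport of defect groups of blocks of
`C_G(Q)` under conjugation (`isDefectGroup_conjBlock`, `comap_cjC_symm_inf`).
-/
import Mathlib
import Cfsg.Prelude.Def_BlockFusion
import Cfsg.Agent.Lib.Helper24.PairConj
import Cfsg.Agent.Lib.Helper24.SubpairChain

set_option autoImplicit false
open Cfsg Cfsg.Agent.CharLib Cfsg.Agent.Lib.Helper6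
open scoped ComplexConjugate

namespace Cfsg.Agent.Lib.Helper24
universe u

section fusion
variable {G : Type u} [Group G] [Fintype G] {M : Ideal AlgInt}

/-- Conjugacy in the block fusion system, for a subpair `(Q, f) ≤ (P, e)`. -/
theorem blockFusion_isConj_iff {p : ℕ} [hpp : Fact p.Prime] (hM : IsPModular p M)
    (B : Set (IrrCharacter G)) (P : Subgroup G)
    (e : Set (IrrCharacter (Subgroup.centralizer (P : Set G))))
    (F : FusionSystem P) (hF : IsBlockFusionSystemOn p M B P e F) (Q : Subgroup G)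
    (f : Set (IrrCharacter (Subgroup.centralizer (Q : Set G))))
    (hle : SubpairLE p M Q f P e) (Q' : Subgroup G) :
    F.IsConj Q Q' ↔ ∃ g : G, Q' = Q.map (MulAut.conj g).toMonoidHom ∧
      SubpairLE p M (Q.map (MulAut.conj g).toMonoidHom) (conjBlock Q g f) P e := by
  have hQP : Q ≤ P := Cfsg.Agent.S4681.le_of_subpairLE p M Q f P e hle
  constructor
  · rintro ⟨φ, hφ, hrange⟩
    obtain ⟨-, g, hg, -, f', hf', hfg'⟩ := (hF.2 Q φ).mp hφ
    have e1 : f' = f := subpairLE_unique hM _ P e Q f' f rfl hf' hle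
    rw [e1] at hfg'
    refine ⟨g, ?_, hfg'⟩
    rw [← hrange]
    ext y
    constructor
    · rintro ⟨u, rfl⟩
      exact ⟨(u : G), u.2, (hg u).symm⟩
    · rintro ⟨u, hu, rfl⟩
      exact ⟨⟨u, hu⟩, hg ⟨u, hu⟩⟩
  · rintro ⟨g, rfl, hfg⟩
    refine ⟨(MulAut.conj g).toMonoidHom.comp Q.subtype, ?_, ?_⟩
    · rw [hF.2]
      exact ⟨hQP, g, fun u => rfl, Cfsg.Agent.S4681.le_of_subpairLE p M _ _ P e hfg, f, hle, hfg⟩
    · ext y
      constructor
      · rintro ⟨u, rfl⟩
        exact ⟨(u : G), u.2, rfl⟩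
      · rintro ⟨u, hu, rfl⟩
        exact ⟨⟨u, hu⟩, rfl⟩

end fusion

section transport
variable {G : Type u} [Group G]

theorem card_comap_mulEquiv {A A' : Type*} [Group A] [Group A'] (φ : A ≃* A') (D : Subgroup A') :
    Nat.card (D.comap φ.toMonoidHom) = Nat.card D := by
  rw [Subgroup.comap_equiv_eq_map_symm']
  exact Subgroup.card_map_of_injective φ.symm.injective

theorem isDefectGroup_conjBlock [Finite G] {M : Ideal AlgInt} {p : ℕ} [hpp : Fact p.Prime]
    (Q : Subgroup G) (x : G)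
    {f : Set (IrrCharacter (Subgroup.centralizer (Q : Set G)))}
    {D : Subgroup (Subgroup.centralizer (Q : Set G))} (hD : IsDefectGroup p M f D) :
    IsDefectGroup p M (conjBlock Q x f) (D.comap (cjC Q x).symm.toMonoidHom) := by
  rw [conjBlock_eq_pullBlock]
  exact BlockIso.isDefectGroup_pullBlock (cjC Q x).symm hD

theorem isDefectGroup_of_conjBlock [Finite G] {M : Ideal AlgInt} {p : ℕ} [hpp : Fact p.Prime]
    (Q : Subgroup G) (x : G)
    {f : Set (IrrCharacter (Subgroup.centralizer (Q : Set G)))}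
    {D : Subgroup (Subgroup.centralizer
      ((Q.map (MulAut.conj x).toMonoidHom : Subgroup G) : Set G))}
    (hD : IsDefectGroup p M (conjBlock Q x f) D) :
    IsDefectGroup p M f (D.comap (cjC Q x).toMonoidHom) := by
  rw [conjBlock_eq_pullBlock] at hD
  have := BlockIso.isDefectGroup_pullBlock (cjC Q x).symm.symm hD
  rwa [BlockIso.pullBlock_symm_pullBlock] at this

theorem comap_cjC_symm_inf (Q S : Subgroup G) (x : G) :
    ((S ⊓ Subgroup.centralizer (Q : Set G)).subgroupOf
      (Subgroup.centralizer (Q : Set G))).comap (cjC Q x).symm.toMonoidHom =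
    ((S.map (MulAut.conj x).toMonoidHom) ⊓ Subgroup.centralizer
      ((Q.map (MulAut.conj x).toMonoidHom : Subgroup G) : Set G)).subgroupOf
      (Subgroup.centralizer ((Q.map (MulAut.conj x).toMonoidHom : Subgroup G) : Set G)) := by
  ext c'
  rw [Subgroup.mem_comap, Subgroup.mem_subgroupOf, Subgroup.mem_subgroupOf, Subgroup.mem_inf,
    Subgroup.mem_inf, mem_map_conj_iff]
  change ((((cjC Q x).symm c' : _) : G) ∈ S ∧ (((cjC Q x).symm c' : _) : G) ∈ _) ↔ _
  rw [cjC_symm_coe]
  constructor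
  · rintro ⟨h1, -⟩
    exact ⟨h1, c'.2⟩
  · rintro ⟨h1, -⟩
    exact ⟨h1, ((cjC Q x).symm c').2⟩

theorem comap_cjC_inf (Q S : Subgroup G) (x : G) :
    (((S.map (MulAut.conj x).toMonoidHom) ⊓ Subgroup.centralizer
      ((Q.map (MulAut.conj x).toMonoidHom : Subgroup G) : Set G)).subgroupOf
      (Subgroup.centralizer ((Q.map (MulAut.conj x).toMonoidHom : Subgroup G) : Set G))).comap
        (cjC Q x).toMonoidHom =
    (S ⊓ Subgroup.centralizer (Q : Set G)).subgroupOf (Subgroup.centralizer (Q : Set G)) := by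
  ext c
  rw [Subgroup.mem_comap, Subgroup.mem_subgroupOf, Subgroup.mem_subgroupOf, Subgroup.mem_inf,
    Subgroup.mem_inf, mem_map_conj_iff]
  change (x⁻¹ * ((cjC Q x c : _) : G) * x ∈ S ∧ ((cjC Q x c : _) : G) ∈ _) ↔ _
  rw [cjC_coe]
  have e1 : x⁻¹ * (x * (c : G) * x⁻¹) * x = (c : G) := by group
  rw [e1]
  constructor
  · rintro ⟨h1, -⟩
    exact ⟨h1, c.2⟩
  · rintro ⟨h1, -⟩
    exact ⟨h1, (cjC Q x c).2⟩

end transport

end Cfsg.Agent.Lib.Helper24
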