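/-
helper24: two Brauer pairs of a block `B` at a defect group `P` are `N_G(P)`-conjugate
(`exists_conj_of_defect`, via the Brauer correspondent in `N_G(P)` and the covering lemma),
and the resulting equality of conjugated pairs (`exists_cjPair_eq`).
-/
import Mathlib
import Cfsg.Agent.Lib.Helper24.PairConj
import Cfsg.Agent.Lib.Helper24.MaxPair
import Cfsg.Agent.Lib.Helper6.BrauerCorrH
import Cfsg.Agent.Lib.Helper23.Covering
import Cfsg.Agent.Lib.Helper23.QuotDefectAux

set_option autoImplicit false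
open Cfsg Cfsg.Agent.CharLib Cfsg.Agent.Lib.Helper6
open scoped ComplexConjugate

namespace Cfsg.Agent.Lib.Helper24
universe u

section lemmaX
variable {G : Type u} [Group G] [Fintype G]

/-- If the central character of `ξ ∈ Irr(H)` does not vanish on the restriction of the idempotent
of `b ⊆ Irr(G)`, then `ξ` lies under a member of `b`. -/
theorem exists_constituent_of_omegaFun_ne_zero (H : Subgroup G) [Fintype H]
    (b : Set (IrrCharacter G)) (ξ : IrrCharacter H)
    (h : omegaFun (ξ : H → ℂ) (resFun H (blockCoeff b)) ≠ 0) :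
    ∃ χ ∈ b, classInner (fun n : H => (χ : G → ℂ) n) (ξ : H → ℂ) ≠ 0 := by
  classical
  by_contra hcon
  push Not at hcon
  apply h
  let _ := fintypeIrr G
  have key : ∀ χ ∈ b, ∑ k : H, conj ((χ : G → ℂ) k) * (ξ : H → ℂ) k = 0 := by
    intro χ hχ
    have h0 := hcon χ hχ
    unfold classInner at h0
    have hne : (Nat.card H : ℂ)⁻¹ ≠ 0 := by
      apply inv_ne_zero
      exact_mod_cast Nat.card_pos.ne'
    have h1 : ∑ g : H, (χ : G → ℂ) g * conj ((ξ : H → ℂ) g) = 0 :=
      (mul_eq_zero.mp h0).resolve_left hne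
    have h2 := congrArg conj h1
    rw [map_sum, map_zero] at h2
    rw [← h2]
    apply Finset.sum_congr rfl
    intro k _
    rw [map_mul, Complex.conj_conj]
  have hterm : ∀ k : H, resFun H (blockCoeff b) k * (ξ : H → ℂ) k =
      (Nat.card G : ℂ)⁻¹ * ∑ χ : IrrCharacter G,
        if χ ∈ b then (χ : G → ℂ) 1 * (conj ((χ : G → ℂ) k) * (ξ : H → ℂ) k) else 0 := by
    intro k
    rw [resFun_apply, blockCoeff_eq_sum b, mul_assoc, Finset.sum_mul]
    congr 1
    apply Finset.sum_congr rfl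
    intro χ _
    split_ifs
    · ring
    · ring
  unfold omegaFun
  have hsum : ∑ k : H, resFun H (blockCoeff b) k * (ξ : H → ℂ) k = 0 := by
    simp_rw [hterm]
    rw [← Finset.mul_sum, Finset.sum_comm]
    have : ∀ χ : IrrCharacter G, ∑ k : H,
        (if χ ∈ b then (χ : G → ℂ) 1 * (conj ((χ : G → ℂ) k) * (ξ : H → ℂ) k) else 0) = 0 := by
      intro χ
      split_ifs with hχ
      · rw [← Finset.mul_sum, key χ hχ, mul_zero]
      · simp
    simp_rw [this]
    simp
  rw [hsum, zero_div]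

end lemmaX

section partD
variable {G : Type u} [Group G] [Fintype G] {M : Ideal AlgInt}

/-- Two Brauer pairs of `B` at a defect group `P` are conjugate under `N_G(P)`. -/
theorem exists_conj_of_defect {p : ℕ} [hpp : Fact p.Prime] (hM : IsPModular p M)
    (B : Set (IrrCharacter G)) (P : Subgroup G) (hD : IsDefectGroup p M B P)
    (e₁ e₂ : Set (IrrCharacter (Subgroup.centralizer (P : Set G))))
    (h₁ : IsBrauerPairOf p M B P e₁) (h₂ : IsBrauerPairOf p M B P e₂) :
    ∃ n ∈ Subgroup.normalizer (P : Set G), ∀ ψ ∈ e₁,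
      ∀ ψ' : IrrCharacter (Subgroup.centralizer (P : Set G)),
        IsConjCharOf (Subgroup.centralizer (P : Set G)) n
          (ψ : Subgroup.centralizer (P : Set G) → ℂ)
          (ψ' : Subgroup.centralizer (P : Set G) → ℂ) → ψ' ∈ e₂ := by
  classical
  haveI hprime : M.IsPrime := isPrime_of_isPModular hM
  have hP : IsPGroup p P := h₁.1.1
  have hB : IsPBlock M B := h₁.2.1
  let _ : Fintype (Subgroup.normalizer (P : Set G)) := Fintype.ofFinite _
  let _ : Fintype (Subgroup.centralizer (P : Set G)) := Fintype.ofFinite _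
  obtain ⟨c, hc, hcD, hcong⟩ := BrauerCorrH.exists_block_H hM P
    (Subgroup.normalizer (P : Set G)) hP le_rfl B hB hD
  haveI hnormal : (P.subgroupOf (Subgroup.normalizer (P : Set G))).Normal :=
    Subgroup.normal_in_normalizer
  let _ : Fintype (Subgroup.centralizer
      (((P.subgroupOf (Subgroup.normalizer (P : Set G))) :
        Subgroup (Subgroup.normalizer (P : Set G))) : Set (Subgroup.normalizer (P : Set G)))) :=
    Fintype.ofFinite _
  -- both pairs are pairs of `c`
  have hpair : ∀ e : Set (IrrCharacter (Subgroup.centralizer (P : Set G))),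
      IsBrauerPairOf p M B P e → ∀ ξ ∈ e,
        omegaFun ((irrCompIso (centEquiv P) ξ : IrrCharacter _) : _ → ℂ)
          (resFun (Subgroup.centralizer
            (((P.subgroupOf (Subgroup.normalizer (P : Set G))) :
              Subgroup (Subgroup.normalizer (P : Set G))) :
                Set (Subgroup.normalizer (P : Set G)))) (blockCoeff c)) ≠ 0 := by
    intro e he ξ hξ
    rw [← brauerOmega_eq, brauerOmega_centEquiv P
      (subgroupBlockCoeff (Subgroup.normalizer (P : Set G)) c)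
      (blockCoeff c) (fun h => (subgroupBlockCoeff_coe _ c h).symm) ξ]
    have h1 := he.2.2 ξ hξ
    obtain ⟨χ', rfl⟩ := hB
    obtain ⟨η, rfl⟩ := hc
    have hu1 : ConjInv (Subgroup.centralizer (P : Set G))
        (blockCoeff (blockOf M (χ' : G → ℂ))) :=
      ConjInv.of_isClassFunction _ (blockCoeff_isClassFunction _)
    have hu2 : ConjInv (Subgroup.centralizer (P : Set G))
        (subgroupBlockCoeff (Subgroup.normalizer (P : Set G))
          (blockOf M (η : Subgroup.normalizer (P : Set G) → ℂ))) := by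
      intro u hu x
      have huN : u ∈ Subgroup.normalizer (P : Set G) :=
        Subgroup.centralizer_le_normalizer (P : Set G) hu
      exact subgroupBlockCoeff_conj_of_mem (Subgroup.normalizer (P : Set G)) _ u huN x
    have hR2 : ∀ x, MemLocalRing M (subgroupBlockCoeff (Subgroup.normalizer (P : Set G))
          (blockOf M (η : Subgroup.normalizer (P : Set G) → ℂ)) x) :=
      fun x => memLocalRing_subgroupBlockCoeff M _ η x
    have h2 := memLocalIdeal_brauer_sub_of_forall (M := M) P hu1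
      (memLocalRing_blockCoeff_blockOf χ') hu2 hR2 hcong ξ
    rw [← brauerOmega_eq, ← brauerOmega_eq] at h2
    intro h0
    rw [h0, sub_zero] at h2
    have h3 := memLocalIdeal_sub h2 h1
    rw [sub_sub_cancel] at h3
    exact not_memLocalIdeal_one h3
  obtain ⟨ξ₁, hξ₁⟩ : ∃ ξ₁, ξ₁ ∈ e₁ := by
    obtain ⟨ξ, h⟩ := h₁.1.2
    exact ⟨ξ, by rw [h]; exact mem_blockOf_self ξ⟩
  obtain ⟨ξ₂, hξ₂⟩ : ∃ ξ₂, ξ₂ ∈ e₂ := by
    obtain ⟨ξ, h⟩ := h₂.1.2
    exact ⟨ξ, by rw [h]; exact mem_blockOf_self ξ⟩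
  obtain ⟨χ₁, hχ₁, hcon₁⟩ := exists_constituent_of_omegaFun_ne_zero _ c _ (hpair e₁ h₁ ξ₁ hξ₁)
  obtain ⟨χ₂, hχ₂, hcon₂⟩ := exists_constituent_of_omegaFun_ne_zero _ c _ (hpair e₂ h₂ ξ₂ hξ₂)
  have hsame : SameBlock M (χ₁ : Subgroup.normalizer (P : Set G) → ℂ)
      (χ₂ : Subgroup.normalizer (P : Set G) → ℂ) := by
    obtain ⟨η, rfl⟩ := hc
    exact sameBlock_trans (sameBlock_symm hχ₁) hχ₂
  have he₁' : IsPBlock M (BlockIso.pullBlock (centEquiv P) e₁) :=
    BlockIso.isPBlock_pullBlock (centEquiv P) h₁.1.2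
  have hmem := Cfsg.Agent.Lib.Helper23.mem_conjUnion_of_sameBlock (Subgroup.centralizer
      (((P.subgroupOf (Subgroup.normalizer (P : Set G))) :
        Subgroup (Subgroup.normalizer (P : Set G))) : Set (Subgroup.normalizer (P : Set G))))
    hM he₁' χ₁ χ₂ hsame (irrCompIso (centEquiv P) ξ₁)
    (BlockIso.irrCompIso_mem_pullBlock (centEquiv P) hξ₁) hcon₁
    (irrCompIso (centEquiv P) ξ₂) hcon₂
  obtain ⟨g, θ, hθ, hg⟩ := hmem
  have hnN : ((g⁻¹ : Subgroup.normalizer (P : Set G)) : G) ∈ Subgroup.normalizer (P : Set G) :=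
    (g⁻¹).2
  refine ⟨((g⁻¹ : Subgroup.normalizer (P : Set G)) : G), hnN, ?_⟩
  have hnC := mem_normalizer_centralizer_of_mem_normalizer hnN
  intro ψ hψ ψ' hconj
  have e1 : ψ' = conjIrr _ _ hnC ψ := eq_conjIrr_of_isConjCharOf _ _ hnC ψ ψ' hconj
  set θ₀ := irrCompIso (centEquiv P).symm θ with hθ₀
  have hθ₀mem : θ₀ ∈ e₁ := (BlockIso.mem_pullBlock_iff (centEquiv P) e₁ θ).mp hθ
  have e2 : ξ₂ = conjIrr _ _ hnC θ₀ := by
    apply eq_conjIrr_of_isConjCharOf
    intro k k' hk
    have h3 := congrFun hg ((centEquiv P).symm k')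
    rw [irrCompIso_apply, MulEquiv.apply_symm_apply, conjFun_apply] at h3
    rw [h3, hθ₀, irrCompIso_apply]
    apply congrArg
    apply Subtype.ext
    apply Subtype.ext
    change (g : G) * (k' : G) * ((g⁻¹ : Subgroup.normalizer (P : Set G)) : G) = (k : G)
    rw [hk]
    simp [mul_assoc]
  have hblock : blockOf M (θ₀ : Subgroup.centralizer (P : Set G) → ℂ) = e₁ :=
    Cfsg.Agent.Lib.Helper23.blockOf_eq_of_mem h₁.1.2 hθ₀mem
  have hblock₂ : blockOf M (ξ₂ : Subgroup.centralizer (P : Set G) → ℂ) = e₂ :=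
    Cfsg.Agent.Lib.Helper23.blockOf_eq_of_mem h₂.1.2 hξ₂
  rw [← hblock₂, e1, e2]
  apply irrComp_mem_blockOf
  rw [hblock]
  exact hψ

end partD

section heq
variable {G : Type u} [Group G] [Finite G] {M : Ideal AlgInt}

/-- Blocks of propositionally equal subgroups are heterogeneously equal once one is contained
in the other elementwise. -/
theorem heq_of_block_subset [hprime : M.IsPrime] {H₁ H₂ : Subgroup G} (h : H₁ = H₂)
    (S₁ : Set (IrrCharacter H₁)) (S₂ : Set (IrrCharacter H₂))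
    (hS₁ : IsPBlock M S₁) (hS₂ : IsPBlock M S₂)
    (hsub : ∀ ψ₁ ∈ S₁, ∀ ψ₂ : IrrCharacter H₂,
      (∀ (x : G) (hx₁ : x ∈ H₁) (hx₂ : x ∈ H₂),
        (ψ₁ : H₁ → ℂ) ⟨x, hx₁⟩ = (ψ₂ : H₂ → ℂ) ⟨x, hx₂⟩) → ψ₂ ∈ S₂) :
    HEq S₁ S₂ := by
  subst h
  apply heq_of_eq
  obtain ⟨ψ, hψ⟩ : ∃ ψ, ψ ∈ S₁ := by
    obtain ⟨ξ, h⟩ := hS₁
    exact ⟨ξ, by rw [h]; exact mem_blockOf_self ξ⟩
  exact isPBlock_eq_of_mem hS₁ hS₂ hψ (hsub ψ hψ ψ (fun _ _ _ => rfl))

end heq

section assemble
variable {G : Type u} [Group G] [Fintype G] {M : Ideal AlgInt}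

theorem exists_cjPair_eq {p : ℕ} [hpp : Fact p.Prime] (hM : IsPModular p M)
    (B : Set (IrrCharacter G)) (P : Subgroup G) (hD : IsDefectGroup p M B P)
    (e : Set (IrrCharacter (Subgroup.centralizer (P : Set G))))
    (he : IsBrauerPairOf p M B P e) (R : Subgroup G)
    (g : Set (IrrCharacter (Subgroup.centralizer (R : Set G))))
    (hRg : IsBrauerPairOf p M B R g) (x : G)
    (hx : R.map (MulAut.conj x).toMonoidHom = P) :
    ∃ z : G, cjPair z (⟨R, g⟩ : BrauerPairIdx G) = (⟨P, e⟩ : BrauerPairIdx G) := by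
  classical
  haveI hprime : M.IsPrime := isPrime_of_isPModular hM
  subst hx
  have h₁ : IsBrauerPairOf p M B (R.map (MulAut.conj x).toMonoidHom) (conjBlock R x g) :=
    isBrauerPairOf_conj p x B R g hRg
  obtain ⟨n, hn, hconj⟩ := exists_conj_of_defect hM B _ hD (conjBlock R x g) e h₁ he
  have hfst : R.map (MulAut.conj (n * x)).toMonoidHom = R.map (MulAut.conj x).toMonoidHom := by
    ext k
    rw [mem_map_conj_iff, mem_map_conj_iff]
    have h1 := Subgroup.mem_normalizer_iff.mp (Subgroup.inv_mem _ hn) k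
    rw [mem_map_conj_iff, mem_map_conj_iff, inv_inv] at h1
    rw [h1]
    have e1 : (n * x)⁻¹ * k * (n * x) = x⁻¹ * (n⁻¹ * k * n) * x := by group
    rw [e1]
  refine ⟨n * x, ?_⟩
  unfold cjPair
  apply Sigma.ext hfst
  have hcent : Subgroup.centralizer
      ((R.map (MulAut.conj (n * x)).toMonoidHom : Subgroup G) : Set G) =
      Subgroup.centralizer ((R.map (MulAut.conj x).toMonoidHom : Subgroup G) : Set G) := by
    rw [hfst]
  apply heq_of_block_subset (M := M) hcent
  · exact isPBlock_conjBlock R (n * x) hRg.1.2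
  · exact he.1.2
  · intro ψ₁ hψ₁ ψ₂ hagree
    have h2 := (mem_conjBlock_iff R (n * x) g ψ₁).mp hψ₁
    set ψ₀ := irrCompIso (cjC R x).symm (irrCompIso (cjC R (n * x)) ψ₁) with hψ₀
    have hψ₀mem : ψ₀ ∈ conjBlock R x g := by
      rw [mem_conjBlock_iff, hψ₀, BlockIso.irrCompIso_irrCompIso_symm]
      exact h2
    apply hconj ψ₀ hψ₀mem ψ₂
    intro k k' hk
    rw [hψ₀, irrCompIso_apply, irrCompIso_apply]
    have e2 : ((cjC R (n * x) ((cjC R x).symm k) : _) : G) = (k' : G) := by
      rw [cjC_coe, cjC_symm_coe, hk]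
      group
    have hmem : (k' : G) ∈ Subgroup.centralizer
        ((R.map (MulAut.conj (n * x)).toMonoidHom : Subgroup G) : Set G) := by
      have := (cjC R (n * x) ((cjC R x).symm k)).2
      rwa [e2] at this
    have h3 := hagree (k' : G) hmem k'.2
    change (ψ₂ : Subgroup.centralizer
        ((R.map (MulAut.conj x).toMonoidHom : Subgroup G) : Set G) → ℂ) ⟨(k' : G), k'.2⟩ = _
    rw [← h3]
    apply congrArg
    apply Subtype.ext
    exact e2.symm

end assemble

end Cfsg.Agent.Lib.Helper24
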