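/-
helper24: the inertial index is prime to `p` (via helper6's Fong theorem): for `T = N_G(Q, f)`,
the block `F` of `T` with the idempotent of `f` and a defect group `D` of `F`,
`p ∤ |T : D·C_G(Q)|`.
-/
import Mathlib
import Cfsg.Agent.Lib.Helper24.StabTransport
import Cfsg.Agent.Lib.Helper24.PairConj2
import Cfsg.Agent.Lib.Helper6.Fong

set_option autoImplicit false
open Cfsg Cfsg.Agent.CharLib Cfsg.Agent.Lib.Helper6
open scoped ComplexConjugate

namespace Cfsg.Agent.Lib.Helper24
universe u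

section inertial
variable {G : Type u} [Group G] [Fintype G] {M : Ideal AlgInt}

/-- For `T = N_G(Q, f)` and the block `F` of `T` with the idempotent of `f`: a defect group `D` of
`F` satisfies `p ∤ |T : D·C_G(Q)|` (Fong). -/
theorem not_dvd_index_sup_centralizer {p : ℕ} [hpp : Fact p.Prime] (hM : IsPModular p M)
    (Q T : Subgroup G)
    (f : Set (IrrCharacter (Subgroup.centralizer (Q : Set G)))) (hf : IsPBlock M f)
    (hT : ∀ y : G, y ∈ T ↔ y ∈ Subgroup.normalizer (Q : Set G) ∧
      StabilizesBlock (Subgroup.centralizer (Q : Set G)) f y)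
    (F : Set (IrrCharacter T)) (hF : IsPBlock M F)
    (hFf : ∀ t : T, blockCoeff F t =
      subgroupBlockCoeff (Subgroup.centralizer (Q : Set G)) f (t : G))
    (D : Subgroup T) (hD : IsDefectGroup p M F D) :
    ¬ p ∣ (D ⊔ (Subgroup.centralizer (Q : Set G)).subgroupOf T).index := by
  classical
  haveI hprime : M.IsPrime := isPrime_of_isPModular hM
  let _ : Fintype T := Fintype.ofFinite T
  have hCT := centralizer_le_stab Q T f hT
  haveI hnormal : ((Subgroup.centralizer (Q : Set G)).subgroupOf T).Normal := by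
    constructor
    intro n hn g
    rw [Subgroup.mem_subgroupOf] at hn ⊢
    have hgN := ((hT (g : G)).mp g.2).2.1
    exact (Subgroup.mem_normalizer_iff.mp hgN _).mp hn
  let _ : Fintype ((Subgroup.centralizer (Q : Set G)).subgroupOf T) := Fintype.ofFinite _
  let _ : Fintype (Subgroup.centralizer (Q : Set G)) := Fintype.ofFinite _
  set ι : ((Subgroup.centralizer (Q : Set G)).subgroupOf T) ≃* Subgroup.centralizer (Q : Set G) :=
    Subgroup.subgroupOfEquivOfLe hCT with hι
  have hιcoe : ∀ n : ((Subgroup.centralizer (Q : Set G)).subgroupOf T),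
      ((ι n : Subgroup.centralizer (Q : Set G)) : G) = ((n : T) : G) := fun n => rfl
  set b := BlockIso.pullBlock ι f with hbdef
  have hb : IsPBlock M b := BlockIso.isPBlock_pullBlock ι hf
  have hbcoeff : ∀ n : ((Subgroup.centralizer (Q : Set G)).subgroupOf T),
      blockCoeff b n = blockCoeff F (n : T) := by
    intro n
    rw [hbdef, BlockIso.blockCoeff_pullBlock, hFf, ← subgroupBlockCoeff_coe]
    rfl
  -- invariance
  have hinv : ∀ g : T, ∀ θ ∈ b, ∀ θ' : IrrCharacter ((Subgroup.centralizer (Q : Set G)).subgroupOf T),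
      (∀ n : ((Subgroup.centralizer (Q : Set G)).subgroupOf T),
        (θ' : ((Subgroup.centralizer (Q : Set G)).subgroupOf T) → ℂ) n =
        (θ : ((Subgroup.centralizer (Q : Set G)).subgroupOf T) → ℂ)
          ⟨g * n * g⁻¹, hnormal.conj_mem n n.2 g⟩) → θ' ∈ b := by
    intro g θ hθ θ' hθ'
    have hχ : irrCompIso ι.symm θ ∈ f := (BlockIso.mem_pullBlock_iff ι f θ).mp hθ
    have hginv : ((g⁻¹ : T) : G) ∈ T := (g⁻¹).2
    obtain ⟨ψ, hψ, hconj⟩ := ((hT _).mp hginv).2.2 _ hχ
    have e1 : θ' = irrCompIso ι ψ := by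
      apply Subtype.ext
      funext n
      rw [hθ' n, irrCompIso_apply]
      have h1 := hconj (ι ⟨g * n * g⁻¹, hnormal.conj_mem n n.2 g⟩) (ι n) (by
        rw [hιcoe, hιcoe]
        change ((n : T) : G) = ((g⁻¹ : T) : G) * ((g : G) * ((n : T) : G) * ((g⁻¹ : T) : G)) *
          (((g⁻¹ : T) : G))⁻¹
        simp [mul_assoc])
      rw [h1, irrCompIso_apply, MulEquiv.symm_apply_apply]
    rw [e1]
    exact BlockIso.irrCompIso_mem_pullBlock ι hψ
  have hcu := Fong.conjUnion_eq_of_inv ((Subgroup.centralizer (Q : Set G)).subgroupOf T) b hinv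
  -- the idempotent of `F` is that of the cover set
  have hFext : blockCoeff F = extN ((Subgroup.centralizer (Q : Set G)).subgroupOf T)
      (blockCoeff b) := by
    funext t
    by_cases ht : t ∈ (Subgroup.centralizer (Q : Set G)).subgroupOf T
    · have := extN_apply_mem ((Subgroup.centralizer (Q : Set G)).subgroupOf T) (blockCoeff b)
        ⟨t, ht⟩
      rw [show ((⟨t, ht⟩ : ((Subgroup.centralizer (Q : Set G)).subgroupOf T)) : T) = t from rfl]
        at this
      rw [this, hbcoeff]
    · rw [extN_apply_not_mem _ _ ht, hFf, subgroupBlockCoeff_eq_extendByZero,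
        extendByZero_not_mem _ _ (fun h => ht (Subgroup.mem_subgroupOf.mpr h))]
  have hFcover : blockCoeff F =
      blockCoeff (Fong.coverSet ((Subgroup.centralizer (Q : Set G)).subgroupOf T) b) := by
    rw [hFext]
    exact Fong.extN_blockCoeff_eq _ hM hb hcu
  have hmemF : ∀ χ : IrrCharacter T,
      χ ∈ Fong.coverSet ((Subgroup.centralizer (Q : Set G)).subgroupOf T) b → χ ∈ F := by
    intro χ hχ
    have e1 := omegaFun_blockCoeff F χ
    have e2 := omegaFun_blockCoeff
      (Fong.coverSet ((Subgroup.centralizer (Q : Set G)).subgroupOf T) b) χ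
    rw [hFcover, e2, if_pos hχ] at e1
    by_contra hne
    rw [if_neg hne] at e1
    exact one_ne_zero e1
  -- covering
  obtain ⟨θ₀, hθ₀⟩ : ∃ θ₀, θ₀ ∈ b := by
    obtain ⟨ξ, h⟩ := hb
    exact ⟨ξ, by rw [h]; exact mem_blockOf_self ξ⟩
  have hcov : ∃ χ ∈ F, ∃ θ ∈ b, classInner
      (fun n : ((Subgroup.centralizer (Q : Set G)).subgroupOf T) => (χ : T → ℂ) n)
      (θ : _ → ℂ) ≠ 0 := by
    have h1 : resFun ((Subgroup.centralizer (Q : Set G)).subgroupOf T) (blockCoeff F) =
        blockCoeff b := by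
      funext n
      rw [resFun_apply, hbcoeff]
    have h2 : omegaFun (θ₀ : _ → ℂ)
        (resFun ((Subgroup.centralizer (Q : Set G)).subgroupOf T) (blockCoeff F)) ≠ 0 := by
      rw [h1, omegaFun_blockCoeff, if_pos hθ₀]
      exact one_ne_zero
    obtain ⟨χ, hχ, hne⟩ := exists_constituent_of_omegaFun_ne_zero _ F θ₀ h2
    exact ⟨χ, hχ, θ₀, hθ₀, hne⟩
  have hmax : ∀ B' : Set (IrrCharacter T), IsPBlock M B' →
      (∃ χ ∈ B', ∃ θ ∈ b, classInner
        (fun n : ((Subgroup.centralizer (Q : Set G)).subgroupOf T) => (χ : T → ℂ) n)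
        (θ : _ → ℂ) ≠ 0) → blockDefect p B' ≤ blockDefect p F := by
    rintro B' hB' ⟨χ, hχ, θ, hθ, hne⟩
    have hχF : χ ∈ F := hmemF χ ⟨θ, hθ, hne⟩
    rw [isPBlock_eq_of_mem hB' hF hχ hχF]
  exact (Fong.fong _ hM b hb hinv F hF hcov hmax D hD).1

end inertial

end Cfsg.Agent.Lib.Helper24
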