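/-
helper24: Brauer pairs of the group `C_G(Q)` versus normal steps `(Q, f) ⊴ (Q·D, g)` in `G`:
the isomorphism `C_{C_G(Q)}(D') ≃ C_G(Q·D)` (`centEquivQ`), transport of the Brauer functional,
and `isNormalSubpair_iff_isBrauerPairOf`.
-/
import Mathlib
import Cfsg.Agent.Lib.Helper24.PairConj
import Cfsg.Agent.Lib.Helper24.MaxPair

set_option autoImplicit false
open Cfsg Cfsg.Agent.CharLib Cfsg.Agent.Lib.Helper6
open scoped ComplexConjugate Pointwise

namespace Cfsg.Agent.Lib.Helper24
universe u

section centQ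
variable {G : Type u} [Group G] (Q R : Subgroup G)
  (D' : Subgroup (Subgroup.centralizer (Q : Set G)))

theorem mem_centralizer_of_eq_sup
    (hR : R = Q ⊔ D'.map (Subgroup.centralizer (Q : Set G)).subtype) (x : G) :
    x ∈ Subgroup.centralizer (R : Set G) ↔
      ∃ hx : x ∈ Subgroup.centralizer (Q : Set G),
        (⟨x, hx⟩ : Subgroup.centralizer (Q : Set G)) ∈
          Subgroup.centralizer (D' : Set (Subgroup.centralizer (Q : Set G))) := by
  subst hR
  constructor
  · intro hx
    have hxQ : x ∈ Subgroup.centralizer (Q : Set G) :=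
      Subgroup.centralizer_le (by exact_mod_cast (le_sup_left : Q ≤ _)) hx
    refine ⟨hxQ, ?_⟩
    rw [Subgroup.mem_centralizer_iff]
    intro d hd
    apply Subtype.ext
    have hdR : ((d : Subgroup.centralizer (Q : Set G)) : G) ∈
        Q ⊔ D'.map (Subgroup.centralizer (Q : Set G)).subtype :=
      (le_sup_right : D'.map (Subgroup.centralizer (Q : Set G)).subtype ≤ _) ⟨d, hd, rfl⟩
    exact Subgroup.mem_centralizer_iff.mp hx _ hdR
  · rintro ⟨hxQ, hxD⟩
    have hle : Q ⊔ D'.map (Subgroup.centralizer (Q : Set G)).subtype ≤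
        Subgroup.centralizer ({x} : Set G) := by
      apply sup_le
      · intro q hq
        rw [Subgroup.mem_centralizer_singleton_iff]
        exact (Subgroup.mem_centralizer_iff.mp hxQ q hq)
      · rintro _ ⟨d, hd, rfl⟩
        rw [Subgroup.mem_centralizer_singleton_iff]
        have := Subgroup.mem_centralizer_iff.mp hxD d hd
        exact (congrArg Subtype.val this)
    rw [Subgroup.mem_centralizer_iff]
    intro r hr
    exact Subgroup.mem_centralizer_singleton_iff.mp (hle hr)

/-- The centralizer of `D'` computed inside `C_G(Q)` is `C_G(Q·D')`. -/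
noncomputable def centEquivQ (hR : R = Q ⊔ D'.map (Subgroup.centralizer (Q : Set G)).subtype) :
    Subgroup.centralizer (D' : Set (Subgroup.centralizer (Q : Set G))) ≃*
      Subgroup.centralizer (R : Set G) where
  toFun c := ⟨((c : Subgroup.centralizer (Q : Set G)) : G),
    (mem_centralizer_of_eq_sup Q R D' hR _).mpr ⟨(c : Subgroup.centralizer (Q : Set G)).2, c.2⟩⟩
  invFun c := ⟨⟨(c : G), ((mem_centralizer_of_eq_sup Q R D' hR _).mp c.2).fst⟩,
    ((mem_centralizer_of_eq_sup Q R D' hR _).mp c.2).snd⟩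
  left_inv _ := rfl
  right_inv _ := rfl
  map_mul' _ _ := rfl

theorem centEquivQ_coe (hR : R = Q ⊔ D'.map (Subgroup.centralizer (Q : Set G)).subtype)
    (c : Subgroup.centralizer (D' : Set (Subgroup.centralizer (Q : Set G)))) :
    ((centEquivQ Q R D' hR c : Subgroup.centralizer (R : Set G)) : G) =
      ((c : Subgroup.centralizer (Q : Set G)) : G) := rfl

theorem centEquivQ_symm_coe (hR : R = Q ⊔ D'.map (Subgroup.centralizer (Q : Set G)).subtype)
    (c : Subgroup.centralizer (R : Set G)) :
    ((((centEquivQ Q R D' hR).symm c : _) : Subgroup.centralizer (Q : Set G)) : G) = (c : G) := rfl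

/-- Brauer functional transport -/
theorem brauerOmega_centEquivQ
    (hR : R = Q ⊔ D'.map (Subgroup.centralizer (Q : Set G)).subtype) (β : G → ℂ)
    (β' : Subgroup.centralizer (Q : Set G) → ℂ)
    (hβ : ∀ h : Subgroup.centralizer (Q : Set G), β' h = β (h : G))
    (ξ : IrrCharacter (Subgroup.centralizer (R : Set G))) :
    brauerOmega D' β' ((irrCompIso (centEquivQ Q R D' hR) ξ : IrrCharacter _) : _ → ℂ) =
    brauerOmega R β (ξ : Subgroup.centralizer (R : Set G) → ℂ) := by
  unfold brauerOmega
  rw [← finsum_comp_equiv (centEquivQ Q R D' hR).toEquiv]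
  apply finsum_congr
  intro x
  rw [irrCompIso_apply, irrCompIso_apply, map_one, hβ]
  rfl

/-- elements of `Q·D` act on `C_G(Q)` as inner automorphisms, hence stabilize every block -/
theorem stabilizesBlock_of_mem_sup [Finite G] (f : Set (IrrCharacter (Subgroup.centralizer (Q : Set G))))
    (x : G) (hx : x ∈ Q ⊔ D'.map (Subgroup.centralizer (Q : Set G)).subtype) :
    StabilizesBlock (Subgroup.centralizer (Q : Set G)) f x := by
  let _ : Fintype G := Fintype.ofFinite G
  have hDN : D'.map (Subgroup.centralizer (Q : Set G)).subtype ≤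
      Subgroup.normalizer (Q : Set G) := by
    rintro _ ⟨d, _, rfl⟩
    exact Subgroup.centralizer_le_normalizer (Q : Set G) (d : Subgroup.centralizer (Q : Set G)).2
  have hcoe := Subgroup.coe_mul_of_right_le_normalizer_left Q
    (D'.map (Subgroup.centralizer (Q : Set G)).subtype) hDN
  have hx' : x ∈ ((Q ⊔ D'.map (Subgroup.centralizer (Q : Set G)).subtype : Subgroup G) : Set G) :=
    hx
  rw [hcoe] at hx'
  obtain ⟨q, hq, _, ⟨d, hd, rfl⟩, rfl⟩ := Set.mem_mul.mp hx'
  have hqN : q ∈ Subgroup.normalizer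
      ((Subgroup.centralizer (Q : Set G) : Subgroup G) : Set G) :=
    mem_normalizer_centralizer_of_mem_normalizer (Subgroup.le_normalizer hq)
  have hdN : ((d : Subgroup.centralizer (Q : Set G)) : G) ∈ Subgroup.normalizer
      ((Subgroup.centralizer (Q : Set G) : Subgroup G) : Set G) :=
    Subgroup.le_normalizer d.2
  refine ⟨Subgroup.mul_mem _ hqN hdN, ?_⟩
  intro χ hχ
  refine ⟨χ, hχ, ?_⟩
  intro k k' hk
  have hcls : IsClassFunction (Subgroup.centralizer (Q : Set G))
      (χ : Subgroup.centralizer (Q : Set G) → ℂ) := by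
    let _ : Fintype (Subgroup.centralizer (Q : Set G)) := Fintype.ofFinite _
    exact IsCharacter.isClassFunction (IsIrrCharacter.isCharacter χ.2)
  have e1 : k' = d * k * d⁻¹ := by
    apply Subtype.ext
    rw [hk]
    have hcomm : q * ((d * k * d⁻¹ : Subgroup.centralizer (Q : Set G)) : G) =
        ((d * k * d⁻¹ : Subgroup.centralizer (Q : Set G)) : G) * q :=
      (Subgroup.mem_centralizer_iff.mp (d * k * d⁻¹).2 q hq)
    calc q * (d : G) * (k : G) * (q * (d : G))⁻¹
        = q * ((d * k * d⁻¹ : Subgroup.centralizer (Q : Set G)) : G) * q⁻¹ := by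
          simp [mul_assoc]
      _ = ((d * k * d⁻¹ : Subgroup.centralizer (Q : Set G)) : G) := by
          rw [hcomm]; group
  rw [e1]
  exact hcls k d

end centQ

section iff
variable {G : Type u} [Group G] [Finite G] {M : Ideal AlgInt} (Q R : Subgroup G)
  (D' : Subgroup (Subgroup.centralizer (Q : Set G)))

/-- A normal step `(Q, f) ⊴ (Q·D, g)` in `G` with `D ≤ C_G(Q)` is the same as `(D, g)` being an
`f`-Brauer pair of the group `C_G(Q)`. -/
theorem isNormalSubpair_iff_isBrauerPairOf {p : ℕ} [hpp : Fact p.Prime] (hQ : IsPGroup p Q)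
    (hR : R = Q ⊔ D'.map (Subgroup.centralizer (Q : Set G)).subtype)
    (f : Set (IrrCharacter (Subgroup.centralizer (Q : Set G))))
    (g : Set (IrrCharacter (Subgroup.centralizer (R : Set G)))) :
    IsNormalSubpair p M Q f R g ↔
      IsBrauerPairOf p M f D' (BlockIso.pullBlock (centEquivQ Q R D' hR) g) := by
  have hDle : D'.map (Subgroup.centralizer (Q : Set G)).subtype ≤ R := by
    rw [hR]; exact le_sup_right
  have hQle : Q ≤ R := by
    rw [hR]; exact le_sup_left
  have hDN : D'.map (Subgroup.centralizer (Q : Set G)).subtype ≤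
      Subgroup.normalizer (Q : Set G) := by
    rintro _ ⟨d, _, rfl⟩
    exact Subgroup.centralizer_le_normalizer (Q : Set G) (d : Subgroup.centralizer (Q : Set G)).2
  have hβ : ∀ h : Subgroup.centralizer (Q : Set G), blockCoeff f h =
      subgroupBlockCoeff (Subgroup.centralizer (Q : Set G)) f (h : G) :=
    fun h => (subgroupBlockCoeff_coe _ f h).symm
  constructor
  · rintro ⟨⟨_, hf⟩, ⟨hRp, hg⟩, _, _, _, hω⟩
    have hD'p : IsPGroup p D' := by
      have h1 : IsPGroup p (D'.map (Subgroup.centralizer (Q : Set G)).subtype) := hRp.to_le hDle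
      have h2 := h1.comap_of_injective (Subgroup.centralizer (Q : Set G)).subtype
        (Subgroup.subtype_injective _)
      rwa [Subgroup.comap_map_eq_self_of_injective (Subgroup.subtype_injective _)] at h2
    refine ⟨⟨hD'p, BlockIso.isPBlock_pullBlock _ hg⟩, hf, ?_⟩
    intro ξ' hξ'
    have hmem : irrCompIso (centEquivQ Q R D' hR).symm ξ' ∈ g :=
      (BlockIso.mem_pullBlock_iff _ g ξ').mp hξ'
    have e1 : ξ' = irrCompIso (centEquivQ Q R D' hR)
        (irrCompIso (centEquivQ Q R D' hR).symm ξ') :=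
      (BlockIso.irrCompIso_irrCompIso_symm _ ξ').symm
    rw [e1, brauerOmega_centEquivQ Q R D' hR
      (subgroupBlockCoeff (Subgroup.centralizer (Q : Set G)) f) (blockCoeff f) hβ]
    exact hω _ hmem
  · rintro ⟨⟨hD'p, hg'⟩, hf, hω'⟩
    have hRp : IsPGroup p R := by
      rw [hR]
      exact IsPGroup.to_sup_of_normal_left' hQ (hD'p.map _) hDN
    have hg : IsPBlock M g := by
      have := BlockIso.isPBlock_pullBlock (centEquivQ Q R D' hR).symm hg'
      rwa [BlockIso.pullBlock_symm_pullBlock] at this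
    refine ⟨⟨hQ, hf⟩, ⟨hRp, hg⟩, hQle, ?_, ?_, ?_⟩
    · rw [hR]
      exact sup_le Subgroup.le_normalizer hDN
    · intro x hx
      rw [hR] at hx
      exact stabilizesBlock_of_mem_sup Q D' f x hx
    · intro ξ hξ
      have h1 := hω' (irrCompIso (centEquivQ Q R D' hR) ξ)
        (BlockIso.irrCompIso_mem_pullBlock _ hξ)
      rwa [brauerOmega_centEquivQ Q R D' hR
        (subgroupBlockCoeff (Subgroup.centralizer (Q : Set G)) f) (blockCoeff f) hβ] at h1

end iff

end Cfsg.Agent.Lib.Helper24
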