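/-
helper24: extensional handling of equalities `(Q, f)^z = (Q₂, f₂)` between (conjugated) Brauer
pairs in the sigma type `BrauerPairIdx G` (`cjPair_eq_of`, `of_cjPair_eq`, `cjPair_mul`,
`cjPair_eq_self_of_stab`, `mem_stab_of_cjPair_eq`), and transfer of conjugation equalities from
the group `C_G(Q)` to `G` (`conj_transfer`).
-/
import Mathlib
import Cfsg.Agent.Lib.Helper24.PairConj
import Cfsg.Agent.Lib.Helper24.CentTransport
import Cfsg.Agent.Lib.Helper24.StabTransport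

set_option autoImplicit false
open Cfsg Cfsg.Agent.CharLib Cfsg.Agent.Lib.Helper6
open scoped ComplexConjugate

namespace Cfsg.Agent.Lib.Helper24
universe u

section pairEq
variable {G : Type u} [Group G] [Finite G] {M : Ideal AlgInt}

/-- Extensional criterion for `(Q, f)^z = (Q₂, f₂)`. -/
theorem cjPair_eq_of [hprime : M.IsPrime] (z : G) (Q Q₂ : Subgroup G)
    (f : Set (IrrCharacter (Subgroup.centralizer (Q : Set G))))
    (f₂ : Set (IrrCharacter (Subgroup.centralizer (Q₂ : Set G))))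
    (hQ : Q.map (MulAut.conj z).toMonoidHom = Q₂) (hf : IsPBlock M f) (hf₂ : IsPBlock M f₂)
    (h : ∀ χ ∈ f, ∀ ψ : IrrCharacter (Subgroup.centralizer (Q₂ : Set G)),
      (∀ (k : Subgroup.centralizer (Q : Set G)) (k' : Subgroup.centralizer (Q₂ : Set G)),
        (k' : G) = z * (k : G) * z⁻¹ → (ψ : _ → ℂ) k' = (χ : _ → ℂ) k) → ψ ∈ f₂) :
    cjPair z (⟨Q, f⟩ : BrauerPairIdx G) = (⟨Q₂, f₂⟩ : BrauerPairIdx G) := by
  subst hQ
  change (⟨Q.map (MulAut.conj z).toMonoidHom, conjBlock Q z f⟩ : BrauerPairIdx G) = ⟨_, f₂⟩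
  congr 1
  have hcb : IsPBlock M (conjBlock Q z f) := isPBlock_conjBlock Q z hf
  obtain ⟨ψ₁, hψ₁⟩ : ∃ ψ₁, ψ₁ ∈ conjBlock Q z f := by
    obtain ⟨ξ, h⟩ := hcb
    exact ⟨ξ, by rw [h]; exact mem_blockOf_self ξ⟩
  obtain ⟨ξ, hξ, hagree⟩ := hψ₁
  exact isPBlock_eq_of_mem hcb hf₂ ⟨ξ, hξ, hagree⟩ (h ξ hξ ψ₁ (fun k k' hk => hagree k k' hk))

/-- Consequences of `(Q, f)^z = (Q₂, f₂)`. -/
theorem of_cjPair_eq (z : G) (Q Q₂ : Subgroup G)
    (f : Set (IrrCharacter (Subgroup.centralizer (Q : Set G))))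
    (f₂ : Set (IrrCharacter (Subgroup.centralizer (Q₂ : Set G))))
    (h : cjPair z (⟨Q, f⟩ : BrauerPairIdx G) = (⟨Q₂, f₂⟩ : BrauerPairIdx G)) :
    Q.map (MulAut.conj z).toMonoidHom = Q₂ ∧
      ∀ χ ∈ f, ∀ ψ : IrrCharacter (Subgroup.centralizer (Q₂ : Set G)),
        (∀ (k : Subgroup.centralizer (Q : Set G)) (k' : Subgroup.centralizer (Q₂ : Set G)),
          (k' : G) = z * (k : G) * z⁻¹ → (ψ : _ → ℂ) k' = (χ : _ → ℂ) k) → ψ ∈ f₂ := by
  unfold cjPair at h
  have h1 : Q.map (MulAut.conj z).toMonoidHom = Q₂ := congrArg Sigma.fst h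
  subst h1
  have h2 : conjBlock Q z f = f₂ := eq_of_heq (Sigma.mk.inj h).2
  refine ⟨rfl, ?_⟩
  intro χ hχ ψ hagree
  rw [← h2]
  exact ⟨χ, hχ, hagree⟩

theorem exists_snd_of_fst_eq (a : BrauerPairIdx G) (Q : Subgroup G) (h : a.1 = Q) :
    ∃ f : Set (IrrCharacter (Subgroup.centralizer (Q : Set G))), a = ⟨Q, f⟩ := by
  obtain ⟨R, g⟩ := a
  simp only at h
  subst h
  exact ⟨g, rfl⟩

theorem cjPair_mul [hprime : M.IsPrime] (c x : G) (Q : Subgroup G)
    (f : Set (IrrCharacter (Subgroup.centralizer (Q : Set G)))) (hf : IsPBlock M f) :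
    cjPair c (cjPair x (⟨Q, f⟩ : BrauerPairIdx G)) = cjPair (c * x) (⟨Q, f⟩ : BrauerPairIdx G) := by
  have hQ : (Q.map (MulAut.conj x).toMonoidHom).map (MulAut.conj c).toMonoidHom =
      Q.map (MulAut.conj (c * x)).toMonoidHom := by
    rw [Subgroup.map_map]
    congr 1
    ext k
    simp [mul_assoc]
  change cjPair c ⟨Q.map (MulAut.conj x).toMonoidHom, conjBlock Q x f⟩ =
    ⟨Q.map (MulAut.conj (c * x)).toMonoidHom, conjBlock Q (c * x) f⟩
  apply cjPair_eq_of (M := M) c _ _ _ _ hQ (isPBlock_conjBlock Q x hf)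
    (isPBlock_conjBlock Q (c * x) hf)
  rintro χ ⟨ξ, hξ, hχ⟩ ψ hψ
  refine ⟨ξ, hξ, ?_⟩
  intro k k' hk
  have hmem : x * (k : G) * x⁻¹ ∈ Subgroup.centralizer
      ((Q.map (MulAut.conj x).toMonoidHom : Subgroup G) : Set G) := (cjC Q x k).2
  rw [hψ ⟨x * (k : G) * x⁻¹, hmem⟩ k' (by rw [hk]; simp [mul_assoc])]
  exact hχ k ⟨x * (k : G) * x⁻¹, hmem⟩ rfl

/-- An element of the stabilizer fixes the pair. -/
theorem cjPair_eq_self_of_stab [hprime : M.IsPrime] (x : G) (Q : Subgroup G)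
    (f : Set (IrrCharacter (Subgroup.centralizer (Q : Set G)))) (hf : IsPBlock M f)
    (hx : x ∈ Subgroup.normalizer (Q : Set G))
    (hst : StabilizesBlock (Subgroup.centralizer (Q : Set G)) f x) :
    cjPair x (⟨Q, f⟩ : BrauerPairIdx G) = (⟨Q, f⟩ : BrauerPairIdx G) := by
  have hQ : Q.map (MulAut.conj x).toMonoidHom = Q := by
    ext k
    rw [mem_map_conj_iff]
    have h1 := Subgroup.mem_normalizer_iff.mp (Subgroup.inv_mem _ hx) k
    rw [inv_inv] at h1
    exact h1.symm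
  apply cjPair_eq_of (M := M) x Q Q f f hQ hf hf
  intro χ hχ ψ hψ
  obtain ⟨ψ₀, hψ₀, hconj⟩ := hst.2 χ hχ
  have : ψ = ψ₀ := by
    apply Subtype.ext
    funext k'
    have hmem : x⁻¹ * (k' : G) * x ∈ Subgroup.centralizer (Q : Set G) := by
      have h1 := Subgroup.mem_normalizer_iff.mp
        (Subgroup.inv_mem _ hst.1) (k' : G)
      rw [inv_inv] at h1
      exact h1.mp k'.2
    have e : (k' : G) = x * ((⟨x⁻¹ * (k' : G) * x, hmem⟩ : Subgroup.centralizer (Q : Set G)) : G)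
        * x⁻¹ := by
      simp [mul_assoc]
    rw [hψ _ k' e, hconj _ k' e]
  rw [this]
  exact hψ₀

/-- A fixed pair gives an element of the stabilizer. -/
theorem mem_stab_of_cjPair_eq (x : G) (Q : Subgroup G)
    (f : Set (IrrCharacter (Subgroup.centralizer (Q : Set G))))
    (h : cjPair x (⟨Q, f⟩ : BrauerPairIdx G) = (⟨Q, f⟩ : BrauerPairIdx G)) :
    x ∈ Subgroup.normalizer (Q : Set G) ∧
      StabilizesBlock (Subgroup.centralizer (Q : Set G)) f x := by
  let _ : Fintype G := Fintype.ofFinite G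
  obtain ⟨hQ, hall⟩ := of_cjPair_eq x Q Q f f h
  have hxN : x ∈ Subgroup.normalizer (Q : Set G) := by
    rw [Subgroup.mem_normalizer_iff]
    intro k
    conv_rhs => rw [← hQ]
    rw [mem_map_conj_iff]
    have e : x⁻¹ * (x * k * x⁻¹) * x = k := by group
    rw [e]
  refine ⟨hxN, mem_normalizer_centralizer_of_mem_normalizer hxN, ?_⟩
  intro χ hχ
  have hxC := mem_normalizer_centralizer_of_mem_normalizer hxN
  refine ⟨conjIrr _ x hxC χ, ?_, isConjCharOf_conjIrr _ x hxC χ⟩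
  apply hall χ hχ
  intro k k' hk
  exact isConjCharOf_conjIrr _ x hxC χ k k' hk

end pairEq

section transfer
variable {G : Type u} [Group G] [Finite G] {M : Ideal AlgInt}

theorem map_conj_sup_of_mem_centralizer (Q : Subgroup G)
    (c : Subgroup.centralizer (Q : Set G)) (D' : Subgroup (Subgroup.centralizer (Q : Set G))) :
    (Q ⊔ D'.map (Subgroup.centralizer (Q : Set G)).subtype).map
        (MulAut.conj (c : G)).toMonoidHom =
      Q ⊔ (D'.map (MulAut.conj c).toMonoidHom).map (Subgroup.centralizer (Q : Set G)).subtype := by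
  rw [Subgroup.map_sup]
  congr 1
  · ext k
    rw [mem_map_conj_iff]
    constructor
    · intro hk
      have hcomm := Subgroup.mem_centralizer_iff.mp c.2 _ hk
      have e : k = (c : G) * ((c : G)⁻¹ * k * (c : G)) * (c : G)⁻¹ := by group
      rw [e, ← hcomm]
      simpa using hk
    · intro hk
      have hcomm := Subgroup.mem_centralizer_iff.mp c.2 k hk
      have e : (c : G)⁻¹ * k * (c : G) = (c : G)⁻¹ * (k * (c : G)) := by group
      rw [e, hcomm]
      simpa using hk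
  · rw [Subgroup.map_map, Subgroup.map_map]
    congr 1

/-- A conjugation equality between pairs of the group `C_G(Q)` gives the corresponding
conjugation equality between the pairs `(Q·D, g)` of `G`. -/
theorem conj_transfer [hprime : M.IsPrime] (Q : Subgroup G)
    (c : Subgroup.centralizer (Q : Set G))
    (D₁' D₂' : Subgroup (Subgroup.centralizer (Q : Set G))) (R₁ R₂ : Subgroup G)
    (hR₁ : R₁ = Q ⊔ D₁'.map (Subgroup.centralizer (Q : Set G)).subtype)
    (hR₂ : R₂ = Q ⊔ D₂'.map (Subgroup.centralizer (Q : Set G)).subtype)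
    (g₁ : Set (IrrCharacter (Subgroup.centralizer (R₁ : Set G))))
    (g₂ : Set (IrrCharacter (Subgroup.centralizer (R₂ : Set G))))
    (hg₁ : IsPBlock M g₁) (hg₂ : IsPBlock M g₂)
    (heq : cjPair c (⟨D₂', BlockIso.pullBlock (centEquivQ Q R₂ D₂' hR₂) g₂⟩ :
        BrauerPairIdx (Subgroup.centralizer (Q : Set G))) =
      ⟨D₁', BlockIso.pullBlock (centEquivQ Q R₁ D₁' hR₁) g₁⟩) :
    cjPair (c : G) (⟨R₂, g₂⟩ : BrauerPairIdx G) = ⟨R₁, g₁⟩ := by
  obtain ⟨hD, hall⟩ := of_cjPair_eq c D₂' D₁' _ _ heq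
  have hQR : R₂.map (MulAut.conj (c : G)).toMonoidHom = R₁ := by
    rw [hR₂, hR₁, map_conj_sup_of_mem_centralizer, hD]
  apply cjPair_eq_of (M := M) (c : G) R₂ R₁ g₂ g₁ hQR hg₂ hg₁
  intro χ hχ ψ hψ
  have h1 : irrCompIso (centEquivQ Q R₂ D₂' hR₂) χ ∈
      BlockIso.pullBlock (centEquivQ Q R₂ D₂' hR₂) g₂ :=
    BlockIso.irrCompIso_mem_pullBlock _ hχ
  have h2 := hall _ h1 (irrCompIso (centEquivQ Q R₁ D₁' hR₁) ψ) (by
    intro k k' hk
    rw [irrCompIso_apply, irrCompIso_apply]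
    apply hψ
    rw [centEquivQ_coe, centEquivQ_coe, hk]
    rfl)
  rw [BlockIso.mem_pullBlock_iff, BlockIso.irrCompIso_symm_irrCompIso] at h2
  exact h2

end transfer

end Cfsg.Agent.Lib.Helper24
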