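/-
helper24: transport of chains of Brauer pairs from the group `T` (a subgroup of `G` containing
`C_G(Q)`) to `G`: the correspondence `Corr`, normal steps (`normalSubpairRel_of_corr`), chains
(`reflTransGen_of_corr`) and conjugation by elements of `T` (`corr_cjPair`).
-/
import Mathlib
import Cfsg.Agent.Lib.Helper24.PairEq
import Cfsg.Agent.Lib.Helper24.StabTransport

set_option autoImplicit false
open Cfsg Cfsg.Agent.CharLib Cfsg.Agent.Lib.Helper6
open scoped ComplexConjugate

namespace Cfsg.Agent.Lib.Helper24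
universe u

section corr
variable {G : Type u} [Group G] (T : Subgroup G)

/-- The pair `a'` of the group `T` corresponds to the pair `a` of `G`: same subgroup, and the
blocks correspond under `C_T(R') ≃ C_G(R)`. -/
def Corr (a' : BrauerPairIdx T) (a : BrauerPairIdx G) : Prop :=
  ∃ (hR : a.1 = a'.1.map T.subtype) (hC : Subgroup.centralizer (a.1 : Set G) ≤ T),
    a'.2 = BlockIso.pullBlock (centEquivT T a.1 a'.1 hR hC) a.2

theorem corr_lift (a' : BrauerPairIdx T)
    (hC : Subgroup.centralizer ((a'.1.map T.subtype : Subgroup G) : Set G) ≤ T) :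
    Corr T a' ⟨a'.1.map T.subtype,
      BlockIso.pullBlock (centEquivT T _ a'.1 rfl hC).symm a'.2⟩ := by
  refine ⟨rfl, hC, ?_⟩
  exact (BlockIso.pullBlock_symm_pullBlock (centEquivT T _ a'.1 rfl hC).symm a'.2).symm

theorem corr_unique (a' : BrauerPairIdx T) (a b : BrauerPairIdx G)
    (ha : Corr T a' a) (hb : Corr T a' b) : a = b := by
  obtain ⟨R, g⟩ := a
  obtain ⟨R₂, g₂⟩ := b
  obtain ⟨hR, hC, h⟩ := ha
  obtain ⟨hR₂, hC₂, h₂⟩ := hb
  simp only at hR hR₂ hC hC₂ h h₂
  have hRR : R = R₂ := hR.trans hR₂.symm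
  subst hRR
  congr 1
  have e1 := congrArg (BlockIso.pullBlock (centEquivT T R a'.1 hR hC).symm) h
  have e2 := congrArg (BlockIso.pullBlock (centEquivT T R a'.1 hR hC).symm) h₂
  rw [BlockIso.pullBlock_symm_pullBlock] at e1 e2
  rw [← e1, ← e2]

end corr

section stepT
variable {G : Type u} [Group G] [Finite G] {M : Ideal AlgInt} (T R : Subgroup G) (R' : Subgroup T)

theorem subgroupBlockCoeff_pullBlock_centEquivT (hR : R = R'.map T.subtype)
    (hC : Subgroup.centralizer (R : Set G) ≤ T)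
    (g : Set (IrrCharacter (Subgroup.centralizer (R : Set G)))) (t : T) :
    subgroupBlockCoeff (Subgroup.centralizer (R' : Set T))
      (BlockIso.pullBlock (centEquivT T R R' hR hC) g) t =
    subgroupBlockCoeff (Subgroup.centralizer (R : Set G)) g (t : G) := by
  classical
  by_cases ht : (t : G) ∈ Subgroup.centralizer (R : Set G)
  · have ht' : t ∈ Subgroup.centralizer (R' : Set T) :=
      ((mem_centralizer_of_eq_map T R R' hR hC (t : G)).mp ht).snd
    have e1 := subgroupBlockCoeff_coe _ (BlockIso.pullBlock (centEquivT T R R' hR hC) g) ⟨t, ht'⟩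
    have e2 := subgroupBlockCoeff_coe (Subgroup.centralizer (R : Set G)) g ⟨(t : G), ht⟩
    rw [BlockIso.blockCoeff_pullBlock] at e1
    exact e1.trans e2.symm
  · have ht' : t ∉ Subgroup.centralizer (R' : Set T) := fun hc =>
      ht ((mem_centralizer_of_eq_map T R R' hR hC (t : G)).mpr ⟨t.2, hc⟩)
    rw [subgroupBlockCoeff_eq_extendByZero, subgroupBlockCoeff_eq_extendByZero,
      extendByZero_not_mem _ _ ht, extendByZero_not_mem _ _ ht']

theorem stabilizesBlock_of_pullBlock_centEquivT (hR : R = R'.map T.subtype)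
    (hC : Subgroup.centralizer (R : Set G) ≤ T)
    (g : Set (IrrCharacter (Subgroup.centralizer (R : Set G)))) (x : T)
    (hx : StabilizesBlock (Subgroup.centralizer (R' : Set T))
      (BlockIso.pullBlock (centEquivT T R R' hR hC) g) x) :
    StabilizesBlock (Subgroup.centralizer (R : Set G)) g (x : G) := by
  constructor
  · rw [Subgroup.mem_normalizer_iff]
    intro k
    have key : ∀ (y : T) (k : G), y ∈ Subgroup.normalizer
        ((Subgroup.centralizer (R' : Set T) : Subgroup T) : Set T) →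
        k ∈ Subgroup.centralizer (R : Set G) →
        (y : G) * k * (y : G)⁻¹ ∈ Subgroup.centralizer (R : Set G) := by
      intro y k hy hk
      have hk' := (mem_centralizer_of_eq_map T R R' hR hC k).mp hk
      obtain ⟨hkT, hkC⟩ := hk'
      have h1 := (Subgroup.mem_normalizer_iff.mp hy ⟨k, hkT⟩).mp hkC
      exact (mem_centralizer_of_eq_map T R R' hR hC _).mpr ⟨(y * ⟨k, hkT⟩ * y⁻¹).2, h1⟩
    constructor
    · exact key x k hx.1
    · intro hk
      have := key x⁻¹ _ (Subgroup.inv_mem _ hx.1) hk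
      have e : ((x⁻¹ : T) : G) * ((x : G) * k * (x : G)⁻¹) * (((x⁻¹ : T) : G))⁻¹ = k := by
        simp [mul_assoc]
      rwa [e] at this
  · intro χ hχ
    obtain ⟨ψ', hψ', hconj⟩ := hx.2 (irrCompIso (centEquivT T R R' hR hC) χ)
      (BlockIso.irrCompIso_mem_pullBlock _ hχ)
    refine ⟨irrCompIso (centEquivT T R R' hR hC).symm ψ', hψ', ?_⟩
    intro k k' hk
    have h1 := hconj ((centEquivT T R R' hR hC).symm k) ((centEquivT T R R' hR hC).symm k') (by
      apply Subtype.ext
      change (k' : G) = (x : G) * (k : G) * ((x : G))⁻¹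
      exact hk)
    rw [irrCompIso_apply] at h1 ⊢
    rw [MulEquiv.apply_symm_apply] at h1
    exact h1

variable (p : ℕ)

/-- A normal step between pairs of `T` gives a normal step between the corresponding pairs of
`G`. -/
theorem normalSubpairRel_of_corr (a' b' : BrauerPairIdx T) (a b : BrauerPairIdx G)
    (ha : Corr T a' a) (hb : Corr T b' b) (h : NormalSubpairRel p M a' b') :
    NormalSubpairRel p M a b := by
  obtain ⟨R₁', g₁'⟩ := a'
  obtain ⟨R₂', g₂'⟩ := b'
  obtain ⟨R₁, g₁⟩ := a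
  obtain ⟨R₂, g₂⟩ := b
  obtain ⟨hR₁, hC₁, hg₁⟩ := ha
  obtain ⟨hR₂, hC₂, hg₂⟩ := hb
  simp only at hR₁ hC₁ hg₁ hR₂ hC₂ hg₂
  rw [hg₁, hg₂] at h
  change IsNormalSubpair p M R₁ g₁ R₂ g₂
  have h' : IsNormalSubpair p M R₁' (BlockIso.pullBlock (centEquivT T R₁ R₁' hR₁ hC₁) g₁) R₂'
      (BlockIso.pullBlock (centEquivT T R₂ R₂' hR₂ hC₂) g₂) := h
  obtain ⟨⟨hp₁, hb₁⟩, ⟨hp₂, hb₂⟩, hle, hN, hst, hω⟩ := h'
  have hblock : ∀ (R : Subgroup G) (R' : Subgroup T) (hR : R = R'.map T.subtype)
      (hC : Subgroup.centralizer (R : Set G) ≤ T)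
      (g : Set (IrrCharacter (Subgroup.centralizer (R : Set G)))),
      IsPBlock M (BlockIso.pullBlock (centEquivT T R R' hR hC) g) → IsPBlock M g := by
    intro R R' hR hC g hg
    have := BlockIso.isPBlock_pullBlock (centEquivT T R R' hR hC).symm hg
    rwa [BlockIso.pullBlock_symm_pullBlock] at this
  refine ⟨⟨?_, hblock _ _ hR₁ hC₁ g₁ hb₁⟩, ⟨?_, hblock _ _ hR₂ hC₂ g₂ hb₂⟩, ?_, ?_, ?_, ?_⟩
  · rw [hR₁]; exact hp₁.map _
  · rw [hR₂]; exact hp₂.map _
  · rw [hR₁, hR₂]; exact Subgroup.map_mono hle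
  · rw [hR₂]
    rintro _ ⟨x, hx, rfl⟩
    have hxN := hN hx
    rw [Subgroup.mem_normalizer_iff] at hxN ⊢
    intro k
    rw [hR₁]
    constructor
    · rintro ⟨k', hk', rfl⟩
      exact ⟨x * k' * x⁻¹, (hxN k').mp hk', rfl⟩
    · rintro ⟨k', hk', hkk⟩
      have hkT : k ∈ T := by
        have e : k = (x : G)⁻¹ * ((k' : T) : G) * (x : G) := by
          rw [show ((k' : T) : G) = T.subtype k' from rfl, hkk]
          simp [mul_assoc]
        rw [e]
        exact T.mul_mem (T.mul_mem (T.inv_mem x.2) k'.2) x.2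
      refine ⟨⟨k, hkT⟩, ?_, rfl⟩
      apply (hxN ⟨k, hkT⟩).mpr
      have e : x * ⟨k, hkT⟩ * x⁻¹ = k' := Subtype.ext hkk.symm
      rw [e]
      exact hk'
  · rw [hR₂]
    rintro _ ⟨x, hx, rfl⟩
    exact stabilizesBlock_of_pullBlock_centEquivT T R₁ R₁' hR₁ hC₁ g₁ x (hst x hx)
  · intro ξ hξ
    have h1 := hω (irrCompIso (centEquivT T R₂ R₂' hR₂ hC₂) ξ)
      (BlockIso.irrCompIso_mem_pullBlock _ hξ)
    rwa [brauerOmega_centEquivT T R₂ R₂' hR₂ hC₂
      (subgroupBlockCoeff (Subgroup.centralizer (R₁ : Set G)) g₁)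
      (subgroupBlockCoeff (Subgroup.centralizer (R₁' : Set T))
        (BlockIso.pullBlock (centEquivT T R₁ R₁' hR₁ hC₁) g₁))
      (subgroupBlockCoeff_pullBlock_centEquivT T R₁ R₁' hR₁ hC₁ g₁)] at h1

end stepT

section chainT
variable {G : Type u} [Group G] [Fintype G] {M : Ideal AlgInt} (T : Subgroup G) (p : ℕ)

/-- A chain of pairs of `T` above a pair containing `Q` (with `C_G(Q) ≤ T`) gives a chain of the
corresponding pairs of `G`. -/
theorem reflTransGen_of_corr (Q : Subgroup G)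
    (hCQ : Subgroup.centralizer (Q : Set G) ≤ T) (a' b' : BrauerPairIdx T)
    (h : Relation.ReflTransGen (NormalSubpairRel p M) a' b') (a : BrauerPairIdx G)
    (ha : Corr T a' a) (hQa : Q ≤ a.1) :
    ∃ b : BrauerPairIdx G, Corr T b' b ∧ Relation.ReflTransGen (NormalSubpairRel p M) a b := by
  induction h with
  | refl => exact ⟨a, ha, Relation.ReflTransGen.refl⟩
  | tail hchain hstep ih =>
    rename_i c' b'
    obtain ⟨c, hc, hac⟩ := ih
    have hQc : Q ≤ c.1 := hQa.trans (Cfsg.Agent.S4681.le_of_reflTransGen p M a c hac)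
    have hcb' : c'.1 ≤ b'.1 := hstep.2.2.1
    have hc' := hc
    obtain ⟨hRc, -, -⟩ := hc'
    have hQb : Q ≤ b'.1.map T.subtype := by
      refine hQc.trans ?_
      rw [hRc]
      exact Subgroup.map_mono hcb'
    have hCb : Subgroup.centralizer ((b'.1.map T.subtype : Subgroup G) : Set G) ≤ T :=
      (Subgroup.centralizer_le hQb).trans hCQ
    refine ⟨_, corr_lift T b' hCb, ?_⟩
    exact Relation.ReflTransGen.tail hac
      (normalSubpairRel_of_corr (M := M) T p c' b' c _ hc
        (corr_lift T b' hCb) hstep)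

end chainT

section conjTc
variable {G : Type u} [Group G] [Finite G] {M : Ideal AlgInt} (T : Subgroup G)

/-- Conjugation by an element of `T` is compatible with the correspondence. -/
theorem corr_cjPair (t : T) (a' : BrauerPairIdx T) (a : BrauerPairIdx G) (ha : Corr T a' a) :
    Corr T (cjPair t a') (cjPair (t : G) a) := by
  obtain ⟨R', g'⟩ := a'
  obtain ⟨R, g⟩ := a
  obtain ⟨hR, hC, hg⟩ := ha
  simp only at hR hC hg
  have hR₂ : R.map (MulAut.conj (t : G)).toMonoidHom =
      (R'.map (MulAut.conj t).toMonoidHom).map T.subtype := by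
    rw [hR, Subgroup.map_map, Subgroup.map_map]
    congr 1
  have hC₂ : Subgroup.centralizer
      ((R.map (MulAut.conj (t : G)).toMonoidHom : Subgroup G) : Set G) ≤ T := by
    intro k hk
    have h1 := hC ((mem_centralizer_map_conj_iff R (t : G) k).mp hk)
    have e : k = (t : G) * ((t : G)⁻¹ * k * (t : G)) * (t : G)⁻¹ := by group
    rw [e]
    exact T.mul_mem (T.mul_mem t.2 h1) (T.inv_mem t.2)
  refine ⟨hR₂, hC₂, ?_⟩
  change conjBlock R' t g' = BlockIso.pullBlock (centEquivT T _ _ hR₂ hC₂) (conjBlock R (t : G) g)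
  ext ψ'
  rw [mem_conjBlock_iff, BlockIso.mem_pullBlock_iff, mem_conjBlock_iff, hg,
    BlockIso.mem_pullBlock_iff]
  have e : irrCompIso (centEquivT T R R' hR hC).symm (irrCompIso (cjC R' t) ψ') =
      irrCompIso (cjC R (t : G)) (irrCompIso (centEquivT T _ _ hR₂ hC₂).symm ψ') := by
    apply Subtype.ext
    funext k
    rw [irrCompIso_apply, irrCompIso_apply, irrCompIso_apply, irrCompIso_apply]
    apply congrArg
    apply Subtype.ext
    apply Subtype.ext
    rfl
  rw [e]

end conjTc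

end Cfsg.Agent.Lib.Helper24
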