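/-
helper24: bilinearity of the convolution product, conjugation of functions, and the orbit
decomposition of a sum over a finite group acting on a set.
-/
import Mathlib
import Cfsg.Agent.Lib.Helper24.BrauerPairs2

set_option autoImplicit false

namespace Cfsg.Agent.Lib.Helper24

open Cfsg Cfsg.Agent.CharLib Cfsg.Agent.Lib.Helper6
open scoped ComplexConjugate

universe u

section bilinear
variable {G : Type u} [Group G] [Fintype G]

theorem conv_zero_left (b : G → ℂ) : conv (0 : G → ℂ) b = 0 := by
  funext x
  unfold Cfsg.Agent.Lib.Helper6.conv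
  simp

theorem conv_zero_right (a : G → ℂ) : conv a (0 : G → ℂ) = 0 := by
  funext x
  unfold Cfsg.Agent.Lib.Helper6.conv
  simp

theorem conv_add_left (a b c : G → ℂ) : conv (a + b) c = conv a c + conv b c := by
  funext x
  unfold Cfsg.Agent.Lib.Helper6.conv
  rw [Pi.add_apply, ← Finset.sum_add_distrib]
  apply Finset.sum_congr rfl
  intro g _
  rw [Pi.add_apply]
  ring

theorem conv_add_right (a b c : G → ℂ) : conv a (b + c) = conv a b + conv a c := by
  funext x
  unfold Cfsg.Agent.Lib.Helper6.conv
  rw [Pi.add_apply, ← Finset.sum_add_distrib]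
  apply Finset.sum_congr rfl
  intro g _
  rw [Pi.add_apply]
  ring

theorem conv_smul_left (c : ℂ) (a b : G → ℂ) : conv (c • a) b = c • conv a b := by
  funext x
  unfold Cfsg.Agent.Lib.Helper6.conv
  rw [Pi.smul_apply, smul_eq_mul, Finset.mul_sum]
  apply Finset.sum_congr rfl
  intro g _
  rw [Pi.smul_apply, smul_eq_mul]
  ring

theorem conv_smul_right (c : ℂ) (a b : G → ℂ) : conv a (c • b) = c • conv a b := by
  funext x
  unfold Cfsg.Agent.Lib.Helper6.conv
  rw [Pi.smul_apply, smul_eq_mul, Finset.mul_sum]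
  apply Finset.sum_congr rfl
  intro g _
  rw [Pi.smul_apply, smul_eq_mul]
  ring

theorem conv_sum_left {ι : Type*} (s : Finset ι) (a : ι → G → ℂ) (b : G → ℂ) :
    conv (∑ i ∈ s, a i) b = ∑ i ∈ s, conv (a i) b := by
  classical
  induction s using Finset.induction_on with
  | empty => rw [Finset.sum_empty, Finset.sum_empty, conv_zero_left]
  | insert i s hi ih => rw [Finset.sum_insert hi, Finset.sum_insert hi, conv_add_left, ih]

theorem conv_sum_right {ι : Type*} (s : Finset ι) (a : G → ℂ) (b : ι → G → ℂ) :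
    conv a (∑ i ∈ s, b i) = ∑ i ∈ s, conv a (b i) := by
  classical
  induction s using Finset.induction_on with
  | empty => rw [Finset.sum_empty, Finset.sum_empty, conv_zero_right]
  | insert i s hi ih => rw [Finset.sum_insert hi, Finset.sum_insert hi, conv_add_right, ih]

/-- the conjugate of a function: `(conjFn x a) g = a (x⁻¹ g x)` -/
def conjFn (x : G) (a : G → ℂ) : G → ℂ := fun g => a (x⁻¹ * g * x)

omit [Fintype G] in
theorem conjFn_apply (x : G) (a : G → ℂ) (g : G) : conjFn x a g = a (x⁻¹ * g * x) := rfl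

omit [Fintype G] in
theorem conjFn_of_isClassFunction (x : G) {a : G → ℂ} (ha : IsClassFunction G a) :
    conjFn x a = a := by
  funext g
  rw [conjFn_apply]
  have := ha g x⁻¹
  rw [inv_inv] at this
  exact this

theorem conv_conjFn (x : G) (a b : G → ℂ) :
    conv (conjFn x a) (conjFn x b) = conjFn x (conv a b) := by
  funext g
  rw [conjFn_apply]
  unfold Cfsg.Agent.Lib.Helper6.conv
  rw [← Equiv.sum_comp (MulAut.conj x).toEquiv]
  apply Finset.sum_congr rfl
  intro h _
  simp only [MulEquiv.toEquiv_eq_coe, MulEquiv.coe_toEquiv, MulAut.conj_apply, conjFn_apply]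
  congr 2
  · group
  · group

end bilinear

section orbit

/-- orbit decomposition of a sum over a finite group -/
theorem sum_smul_eq_sum_image {Γ : Type*} [Group Γ] [Fintype Γ] {X : Type*} [DecidableEq X]
    [MulAction Γ X] (q : X) {V : Type*} [AddCommMonoid V] (Φ : X → V) :
    ∑ x : Γ, Φ (x • q) = ∑ q' ∈ Finset.univ.image (fun x : Γ => x • q),
      (Finset.univ.filter (fun x : Γ => x • q = q)).card • Φ q' := by
  classical
  rw [Finset.sum_comp Φ (fun x : Γ => x • q)]
  apply Finset.sum_congr rfl
  intro b hb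
  obtain ⟨x₀, _, rfl⟩ := Finset.mem_image.mp hb
  congr 1
  apply Finset.card_bij (fun x _ => x₀⁻¹ * x)
  · intro x hx
    rw [Finset.mem_filter] at hx ⊢
    refine ⟨Finset.mem_univ _, ?_⟩
    rw [mul_smul, hx.2, inv_smul_smul]
  · intro x _ y _ h
    exact mul_left_cancel h
  · intro y hy
    rw [Finset.mem_filter] at hy
    refine ⟨x₀ * y, ?_, by rw [inv_mul_cancel_left]⟩
    rw [Finset.mem_filter]
    refine ⟨Finset.mem_univ _, ?_⟩
    rw [mul_smul, hy.2]

end orbit

end Cfsg.Agent.Lib.Helper24
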