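/-
helper24: normal subgroups of `p`-power index and `G`-stable blocks: the idempotent of a stable
block of `N` is a block idempotent of `G` (`exists_block_of_stable_top`), exact decomposition of
central character values over `N`-classes (`centralChar_eq_sum_omegaSet`), and the defect groups
of the block of `G` (`part_two`).
-/
import Mathlib
import Cfsg.Agent.Lib.Helper24.StableIdem
import Cfsg.Agent.Lib.Helper24.ConjBlock
import Cfsg.Agent.Lib.Helper24.BrauerPairs2
import Cfsg.Agent.Lib.Helper6.Osima2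
import Cfsg.Agent.Lib.Lead.OddIndexBlock
import Cfsg.Agent.Lib.Helper16.Minimal
import Cfsg.Agent.Lib.Helper23.Covering
import Cfsg.Agent.S4646

set_option autoImplicit false
open Cfsg Cfsg.Agent.CharLib Cfsg.Agent.Lib.Helper6
open scoped ComplexConjugate

namespace Cfsg.Agent.Lib.Helper24
universe u
variable {G : Type u} [Group G] [Fintype G]

/-- Let `C ≤ G`, `e` a block of `C` stable under `G`, and suppose that every block idempotent of
`G` vanishes off `C`.  Then the idempotent of `e` is a block idempotent of `G`. -/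
theorem exists_block_of_stable_top {p : ℕ} [hpp : Fact p.Prime] {M : Ideal AlgInt}
    (hM : IsPModular p M) (C : Subgroup G)
    (e : Set (IrrCharacter C)) (he : IsPBlock M e)
    (hst : ∀ t : G, StabilizesBlock C e t)
    (hvan : ∀ E : Set (IrrCharacter G), IsPBlock M E → ∀ t : G, t ∉ C → blockCoeff E t = 0) :
    ∃ E : Set (IrrCharacter G), IsPBlock M E ∧
      ∀ t : G, blockCoeff E t = subgroupBlockCoeff C e t := by
  classical
  haveI hprime : M.IsPrime := isPrime_of_isPModular hM
  let _ : Fintype C := Fintype.ofFinite C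
  obtain ⟨ξ₀, rfl⟩ := he
  set u : G → ℂ := subgroupBlockCoeff C (blockOf M (ξ₀ : C → ℂ)) with hu
  have hextu : u = extendByZero C (blockCoeff (blockOf M (ξ₀ : C → ℂ))) :=
    subgroupBlockCoeff_eq_extendByZero C _
  have hucls : IsClassFunction G u := by
    intro t s
    exact subgroupBlockCoeff_conj_of_stabilizes C (blockOf M (ξ₀ : C → ℂ)) s (hst s) t
  have huR : ∀ t, MemLocalRing M (u t) := fun t =>
    memLocalRing_subgroupBlockCoeff M C ξ₀ t
  have huidem : conv u u = u := by
    rw [hextu, conv_extendByZero, conv_blockCoeff_self]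
  have hune : u ≠ 0 := by
    intro h0
    have h1 : blockCoeff (blockOf M (ξ₀ : C → ℂ)) = 0 := by
      apply extendByZero_injective C
      rw [← hextu, h0]
      funext g
      by_cases hgC : g ∈ C
      · rw [extendByZero_mem C _ hgC]; rfl
      · rw [extendByZero_not_mem C _ hgC]; rfl
    have h2 := omegaFun_blockCoeff (blockOf M (ξ₀ : C → ℂ)) ξ₀
    rw [if_pos (mem_blockOf_self ξ₀), h1] at h2
    unfold omegaFun at h2
    simp at h2
  have huA := eq_blockCoeff_of_idem hucls huidem
  have hAne : ({ψ : IrrCharacter G | omegaFun (ψ : G → ℂ) u = 1}).Nonempty := by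
    rw [Set.nonempty_iff_ne_empty]
    intro hemp
    rw [hemp, blockCoeff_empty] at huA
    exact hune huA
  obtain ⟨ψ₀, hψ₀⟩ := hAne
  have hψ₀1 : omegaFun (ψ₀ : G → ℂ) u = 1 := hψ₀
  refine ⟨blockOf M (ψ₀ : G → ℂ), ⟨ψ₀, rfl⟩, ?_⟩
  set v : G → ℂ := blockCoeff (blockOf M (ψ₀ : G → ℂ)) with hv
  have hvcls : IsClassFunction G v := blockCoeff_isClassFunction _
  have hvR : ∀ t, MemLocalRing M (v t) := fun t => memLocalRing_blockCoeff_blockOf ψ₀ t
  have hvidem : conv v v = v := conv_blockCoeff_self _
  have hvan' : ∀ t : G, t ∉ C → v t = 0 := hvan _ ⟨ψ₀, rfl⟩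
  have hAsub : blockOf M (ψ₀ : G → ℂ) ⊆ {ψ : IrrCharacter G | omegaFun (ψ : G → ℂ) u = 1} :=
    Cfsg.Agent.S0909.result p M hM _ (fun g => by rw [← huA]; exact huR g) ψ₀ hψ₀
  have hvu : conv v u = v := by
    apply eq_of_omegaFun_eq (conv_isClassFunction hvcls hucls) hvcls
    intro ψ
    rw [omegaFun_conv ψ hvcls hucls, hv, omegaFun_blockCoeff]
    by_cases hψ : ψ ∈ blockOf M (ψ₀ : G → ℂ)
    · rw [if_pos hψ, one_mul]
      exact hAsub hψ
    · rw [if_neg hψ, zero_mul]
  set vt : C → ℂ := fun c => v (c : G) with hvt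
  have hextv : v = extendByZero C vt := by
    funext g
    by_cases hgC : g ∈ C
    · rw [extendByZero_mem C _ hgC]
    · rw [extendByZero_not_mem C _ hgC]
      exact hvan' g hgC
  have hvtcls : IsClassFunction C vt := by
    intro c d
    simp only [hvt]
    have := hvcls (c : G) (d : G)
    rw [← this]
    rfl
  have hvtR : ∀ c, MemLocalRing M (vt c) := fun c => hvR _
  have hvtidem : conv vt vt = vt := by
    apply extendByZero_injective C
    rw [← conv_extendByZero, ← hextv, hvidem]
  have hvtconv : conv vt (blockCoeff (blockOf M (ξ₀ : C → ℂ))) = vt := by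
    apply extendByZero_injective C
    rw [← conv_extendByZero, ← hextv, ← hextu, hvu]
  have hvtne : vt ≠ 0 := by
    intro h0
    have h2 : v = 0 := by
      rw [hextv, h0]
      funext g
      by_cases hgC : g ∈ C
      · rw [extendByZero_mem C _ hgC]; rfl
      · rw [extendByZero_not_mem C _ hgC]; rfl
    have h3 := omegaFun_blockCoeff (blockOf M (ψ₀ : G → ℂ)) ψ₀
    rw [if_pos (mem_blockOf_self ψ₀), ← hv, h2] at h3
    unfold omegaFun at h3
    simp at h3
  have hvteq := eq_blockCoeff_of_idem_of_conv hM hvtcls hvtidem hvtR hvtne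
    (blockOf M (ξ₀ : C → ℂ)) ⟨ξ₀, rfl⟩ hvtconv
  have hfinal : v = u := by
    rw [hextv, hvteq, hextu]
  intro t
  exact congrFun hfinal t


section sylowAux
variable {X : Type u} [Group X]

theorem card_subgroupOf_eq_card_inf (H K : Subgroup X) :
    Nat.card (H.subgroupOf K) = Nat.card ↥(H ⊓ K) := by
  rw [← Subgroup.inf_subgroupOf_right H K]
  exact Nat.card_congr (Subgroup.subgroupOfEquivOfLe (inf_le_right : H ⊓ K ≤ K)).toEquiv

theorem card_subgroupOf_comm (H K : Subgroup X) :
    Nat.card (H.subgroupOf K) = Nat.card (K.subgroupOf H) := by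
  rw [card_subgroupOf_eq_card_inf, card_subgroupOf_eq_card_inf, inf_comm]

/-- the intersection of a Sylow subgroup with a normal subgroup has Sylow order. -/
theorem card_sylow_inf_normal [Finite X] {p : ℕ} [Fact p.Prime] (S : Sylow p X) (K : Subgroup X)
    [K.Normal] : Nat.card ↥((S : Subgroup X) ⊓ K) = p ^ (Nat.card K).factorization p := by
  obtain ⟨PK, hPK⟩ := Cfsg.Agent.Lib.Helper16.exists_sylow_of_normal_inf S K
  rw [← hPK, Subgroup.card_map_of_injective K.subtype_injective]
  exact PK.card_eq_multiplicity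

end sylowAux

section sylowMain
variable {G : Type u} [Group G] [Finite G]

/-- If `S` is a Sylow `p`-subgroup of `C ≤ G` and `N ⊴ G`, then `(S ∩ N)` (read in `N`) is a Sylow
`p`-subgroup of `C ∩ N` (read as `C.subgroupOf N`). -/
theorem exists_sylow_subgroupOf {p : ℕ} [Fact p.Prime] (N C : Subgroup G) [hN : N.Normal]
    (S : Sylow p C) (CN : Subgroup N) (hCN : CN = C.subgroupOf N) :
    ∃ S' : Sylow p CN, (((S : Subgroup C).map C.subtype) ⊓ N).subgroupOf N =
      (S' : Subgroup CN).map CN.subtype := by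
  subst hCN
  set P : Subgroup G := (S : Subgroup C).map C.subtype with hP
  have hPC : P ≤ C := Subgroup.map_subtype_le _
  set Q : Subgroup N := (P ⊓ N).subgroupOf N with hQ
  have hQCN : Q ≤ C.subgroupOf N := by
    intro n hn
    rw [Subgroup.mem_subgroupOf] at hn ⊢
    exact hPC hn.1
  -- cardinalities
  have hK : (N.subgroupOf C).Normal := hN.subgroupOf C
  have h1 := card_sylow_inf_normal S (N.subgroupOf C)
  have h2 : Nat.card (N.subgroupOf C) = Nat.card (C.subgroupOf N) := card_subgroupOf_comm N C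
  have h3 : ((S : Subgroup C) ⊓ N.subgroupOf C).map C.subtype = P ⊓ N := by
    rw [Subgroup.map_inf _ _ _ C.subtype_injective]
    ext x
    simp only [Subgroup.mem_inf, hP]
    constructor
    · rintro ⟨hx1, y, hy, rfl⟩
      exact ⟨hx1, Subgroup.mem_subgroupOf.mp hy⟩
    · rintro ⟨hx1, hx2⟩
      have hxC : x ∈ C := hPC hx1
      exact ⟨hx1, ⟨x, hxC⟩, Subgroup.mem_subgroupOf.mpr hx2, rfl⟩
  have h4 : Nat.card ↥((S : Subgroup C) ⊓ N.subgroupOf C) = Nat.card ↥(P ⊓ N) := by
    rw [← h3, Subgroup.card_map_of_injective C.subtype_injective]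
  have h5 : Nat.card Q = Nat.card ↥(P ⊓ N) :=
    Nat.card_congr (Subgroup.subgroupOfEquivOfLe (inf_le_right : P ⊓ N ≤ N)).toEquiv
  have h6 : Nat.card (Q.subgroupOf (C.subgroupOf N)) = Nat.card Q :=
    Nat.card_congr (Subgroup.subgroupOfEquivOfLe hQCN).toEquiv
  have hcard : Nat.card (Q.subgroupOf (C.subgroupOf N)) =
      p ^ (Nat.card (C.subgroupOf N)).factorization p := by
    rw [h6, h5, ← h4, h1, h2]
  refine ⟨Sylow.ofCard _ hcard, ?_⟩
  rw [Sylow.coe_ofCard, Subgroup.map_subgroupOf_eq_of_le hQCN]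

end sylowMain


section partTwo

variable (N : Subgroup G) [hN : N.Normal]

/-- the set of `N`-classes contained in the `G`-class of `g` -/
noncomputable def omegaSet [Fintype (ConjClasses N)] (g : G) : Finset (ConjClasses N) := by
  classical
  exact Finset.univ.filter (fun K : ConjClasses N => IsConj g ((Quotient.out K : N) : G))

/-- exact decomposition of a central character value on `N` into central character values of a
constituent of the restriction. -/
theorem centralChar_eq_sum_omegaSet [Fintype N] [Fintype (ConjClasses N)]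
    (χ : IrrCharacter G) (θ : IrrCharacter N)
    (hover : classInner (fun n : N => (χ : G → ℂ) n) (θ : N → ℂ) ≠ 0) (g : G) (hg : g ∈ N) :
    centralChar (χ : G → ℂ) g =
      ∑ K ∈ omegaSet N g, centralChar (θ : N → ℂ) (Quotient.out K) := by
  classical
  have h1 := (Cfsg.Agent.Lib.Helper2.constituent_iff_centralChar N χ θ).mp hover ⟨g, hg⟩
  change centralChar (χ : G → ℂ) g = _ at h1
  rw [h1, inducedCentralChar_eq_omegaFun,
    omegaFun_eq_sum_conjClasses θ (resFun_isClassFunction N (classInd_isClassFunction g))]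
  unfold omegaSet
  rw [Finset.sum_filter]
  apply Finset.sum_congr rfl
  intro K _
  rw [resFun_apply]
  unfold classInd
  split_ifs with h
  · rw [one_mul]
  · rw [zero_mul]


/-- conjugate elements of `N` have congruent central character values on a `G`-stable block. -/
theorem memLocalIdeal_centralChar_sub_of_isConj {M : Ideal AlgInt} [hprime : M.IsPrime]
    (c : Set (IrrCharacter N)) (hc : IsPBlock M c)
    (hst : ∀ x : G, StabilizesBlock N c x) (θ : IrrCharacter N) (hθ : θ ∈ c) (g : G) (hg : g ∈ N)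
    (n : N) (hn : IsConj g (n : G)) :
    MemLocalIdeal M (centralChar (θ : N → ℂ) n - centralChar (θ : N → ℂ) ⟨g, hg⟩) := by
  obtain ⟨y, hy⟩ := isConj_iff.mp hn
  have hx := hst y⁻¹
  obtain ⟨θ', hθ', hconj⟩ := hx.2 θ hθ
  have e1 := eq_conjIrr_of_isConjCharOf N y⁻¹ hx.1 θ θ' hconj
  obtain ⟨θ₁, rfl⟩ := hc
  have hs : SameBlock M (θ' : N → ℂ) (θ : N → ℂ) := sameBlock_trans (sameBlock_symm hθ') hθ
  have h2 := hs ⟨g, hg⟩
  have h3 : centralChar (θ' : N → ℂ) ⟨g, hg⟩ = centralChar (θ : N → ℂ) n := by
    rw [e1]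
    change centralChar ((θ : N → ℂ) ∘ (cjE N y⁻¹ hx.1).symm) ⟨g, hg⟩ = _
    rw [centralChar_comp]
    congr 1
    apply Subtype.ext
    rw [cjE_symm_coe, inv_inv]
    exact hy
  rwa [h3] at h2

/-- conjugate elements of `N` have centralizers (in `N`) of the same index. -/
theorem index_centralizer_eq_of_isConj (g : G) (hg : g ∈ N) (n : N) (hn : IsConj g (n : G)) :
    (Subgroup.centralizer ({n} : Set N)).index =
      (Subgroup.centralizer ({(⟨g, hg⟩ : N)} : Set N)).index := by
  obtain ⟨y, hy⟩ := isConj_iff.mp hn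
  have hyN : y ∈ Subgroup.normalizer (N : Set G) := by
    rw [Subgroup.normalizer_eq_top]; exact Subgroup.mem_top y
  have h1 := index_centralizer_map (cjE N y hyN) ⟨g, hg⟩
  have h2 : cjE N y hyN ⟨g, hg⟩ = n := by
    apply Subtype.ext
    rw [cjE_coe]
    exact hy
  rw [h2] at h1
  exact h1

/-- the class of `g ∈ N` splits into `|Ω|` classes of `N` of equal size. -/
theorem index_centralizer_eq_card_mul [Fintype N] [Fintype (ConjClasses N)] (g : G) (hg : g ∈ N) :
    (Subgroup.centralizer ({g} : Set G)).index =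
      (omegaSet N g).card * (Subgroup.centralizer ({(⟨g, hg⟩ : N)} : Set N)).index := by
  classical
  have hover : classInner (fun n : N => ((trivIrr G : IrrCharacter G) : G → ℂ) n)
      ((trivIrr N : IrrCharacter N) : N → ℂ) ≠ 0 := by
    have : (fun n : N => ((trivIrr G : IrrCharacter G) : G → ℂ) n) =
        ((trivIrr N : IrrCharacter N) : N → ℂ) := rfl
    rw [this, classInner_irr' (trivIrr N) (trivIrr N), if_pos rfl]
    exact one_ne_zero
  have h1 := centralChar_eq_sum_omegaSet N (trivIrr G) (trivIrr N) hover g hg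
  have h2 : centralChar ((trivIrr G : IrrCharacter G) : G → ℂ) g =
      ((Subgroup.centralizer ({g} : Set G)).index : ℂ) := by
    unfold centralChar
    change ((Subgroup.centralizer ({g} : Set G)).index : ℂ) * 1 / 1 = _
    rw [mul_one, div_one]
  have h3 : ∀ K ∈ omegaSet N g, centralChar ((trivIrr N : IrrCharacter N) : N → ℂ)
      (Quotient.out K) = ((Subgroup.centralizer ({(⟨g, hg⟩ : N)} : Set N)).index : ℂ) := by
    intro K hK
    have hK' : IsConj g ((Quotient.out K : N) : G) := by
      unfold omegaSet at hK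
      exact (Finset.mem_filter.mp hK).2
    unfold centralChar
    change ((Subgroup.centralizer ({Quotient.out K} : Set N)).index : ℂ) * 1 / 1 = _
    rw [mul_one, div_one, index_centralizer_eq_of_isConj N g hg _ hK']
  rw [h2, Finset.sum_congr rfl h3, Finset.sum_const, nsmul_eq_mul] at h1
  exact_mod_cast h1


theorem centralizer_subtype_eq_subgroupOf (g : G) (hg : g ∈ N) :
    Subgroup.centralizer ({(⟨g, hg⟩ : N)} : Set N) =
      (Subgroup.centralizer ({g} : Set G)).subgroupOf N := by
  ext n
  rw [Subgroup.mem_centralizer_singleton_iff, Subgroup.mem_subgroupOf,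
    Subgroup.mem_centralizer_singleton_iff, Subtype.ext_iff]
  rfl

theorem relIndex_mul_card_eq_index [Fintype N] [Fintype (ConjClasses N)] (g : G) (hg : g ∈ N) :
    N.relIndex (Subgroup.centralizer ({g} : Set G)) * (omegaSet N g).card = N.index := by
  have h1 : (Subgroup.centralizer ({(⟨g, hg⟩ : N)} : Set N)).index =
      (Subgroup.centralizer ({g} : Set G)).relIndex N := by
    rw [centralizer_subtype_eq_subgroupOf N g hg]; rfl
  have hD1 := Subgroup.inf_relIndex_right (Subgroup.centralizer ({g} : Set G)) N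
  have hD2 := Subgroup.inf_relIndex_left (Subgroup.centralizer ({g} : Set G)) N
  have e1 := Subgroup.relIndex_mul_index
    (inf_le_right : Subgroup.centralizer ({g} : Set G) ⊓ N ≤ N)
  have e2 := Subgroup.relIndex_mul_index
    (inf_le_left : Subgroup.centralizer ({g} : Set G) ⊓ N ≤ Subgroup.centralizer ({g} : Set G))
  have e3 := index_centralizer_eq_card_mul N g hg
  rw [hD1, ← h1] at e1
  rw [hD2, e3, ← e1] at e2
  have hne : (Subgroup.centralizer ({(⟨g, hg⟩ : N)} : Set N)).index ≠ 0 :=
    Subgroup.index_ne_zero_of_finite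
  apply Nat.eq_of_mul_eq_mul_right (Nat.pos_of_ne_zero hne)
  rw [mul_assoc, e2, mul_comm]


theorem defectGroup_of_stable_ppower {p : ℕ} [hpp : Fact p.Prime] {M : Ideal AlgInt} (hM : IsPModular p M)
    (hidx : ∃ k : ℕ, N.index = p ^ k) (c : Set (IrrCharacter N)) (hc : IsPBlock M c)
    (hst : ∀ x : G, StabilizesBlock N c x) (B : Set (IrrCharacter G)) (hB : IsPBlock M B)
    (hBc : ∀ g : G, blockCoeff B g = subgroupBlockCoeff N c g) (P : Subgroup G)
    (hP : IsDefectGroup p M B P) :
    N ⊔ P = ⊤ ∧ IsDefectGroup p M c ((P ⊓ N).subgroupOf N) := by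
  classical
  haveI hprime : M.IsPrime := isPrime_of_isPModular hM
  let _ : Fintype N := Fintype.ofFinite N
  let _ : Fintype (ConjClasses N) := Fintype.ofFinite _
  obtain ⟨g, ⟨hgR, hgI, hgχ⟩, S, rfl⟩ := hP
  -- (a) `g ∈ N`
  have hg : g ∈ N := by
    by_contra hgN
    apply hgI
    rw [hBc g, subgroupBlockCoeff_eq_extendByZero, extendByZero_not_mem N _ hgN]
    exact memLocalIdeal_zero hprime.one_notMem
  -- (b) a member of `B` and a constituent in `c`
  obtain ⟨χ₀, rfl⟩ := hB
  have hχ₀ : χ₀ ∈ blockOf M (χ₀ : G → ℂ) := mem_blockOf_self χ₀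
  obtain ⟨θ, hover⟩ := Cfsg.Agent.Lib.Helper23.exists_constituent_res N χ₀
  have hinv : ∀ (x : G) (n : N), blockCoeff c (conjN N x n) = blockCoeff c n := by
    intro x n
    have := subgroupBlockCoeff_conj_of_stabilizes N c x (hst x) (n : G)
    rw [subgroupBlockCoeff_coe] at this
    rw [← this]
    exact (subgroupBlockCoeff_coe N c (conjN N x n)).symm
  have hθc : θ ∈ c := by
    have h1 := omegaFun_blockCoeff (blockOf M (χ₀ : G → ℂ)) χ₀
    rw [if_pos hχ₀] at h1
    have h2 : blockCoeff (blockOf M (χ₀ : G → ℂ)) = extN N (blockCoeff c) := by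
      funext x
      rw [hBc x]
      by_cases hx : x ∈ N
      · have e1 := subgroupBlockCoeff_coe N c ⟨x, hx⟩
        have e2 := extN_apply_mem N (blockCoeff c) ⟨x, hx⟩
        exact e1.trans e2.symm
      · rw [extN_apply_not_mem N _ hx, subgroupBlockCoeff_eq_extendByZero,
          extendByZero_not_mem N _ hx]
    rw [h2, omegaFun_extN, omega_restrict_eq N χ₀.2 θ.2 hover _ hinv] at h1
    have h3 := omegaFun_blockCoeff c θ
    unfold omegaFun at h3
    rw [h3] at h1
    by_contra hne
    rw [if_neg hne] at h1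
    exact zero_ne_one h1
  -- (c) the congruence
  have hsum := centralChar_eq_sum_omegaSet N χ₀ θ hover g hg
  set w : ℂ := centralChar (θ : N → ℂ) ⟨g, hg⟩ with hw
  have hcong : MemLocalIdeal M (centralChar (χ₀ : G → ℂ) g - ((omegaSet N g).card : ℂ) * w) := by
    rw [hsum]
    have e : ((omegaSet N g).card : ℂ) * w = ∑ _K ∈ omegaSet N g, w := by
      rw [Finset.sum_const, nsmul_eq_mul]
    rw [e, ← Finset.sum_sub_distrib]
    apply sum_memLocalIdeal
    intro K hK
    have hK' : IsConj g ((Quotient.out K : N) : G) := by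
      unfold omegaSet at hK
      exact (Finset.mem_filter.mp hK).2
    exact memLocalIdeal_centralChar_sub_of_isConj N c hc hst θ hθc g hg _ hK'
  -- (d) `|Ω| = 1`
  obtain ⟨k, hk⟩ := hidx
  have hrel := relIndex_mul_card_eq_index N g hg
  have hΩdvd : (omegaSet N g).card ∣ p ^ k := by
    rw [← hk, ← hrel]; exact dvd_mul_left _ _
  obtain ⟨j, _, hj⟩ := (Nat.dvd_prime_pow hpp.out).mp hΩdvd
  have hwR : MemLocalRing M w := memLocalRing_centralChar θ _
  have hχunit : ¬ MemLocalIdeal M (centralChar (χ₀ : G → ℂ) g) := hgχ χ₀ hχ₀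
  have hj0 : j = 0 := by
    by_contra hne
    apply hχunit
    have hpdvd : p ∣ (omegaSet N g).card := by rw [hj]; exact dvd_pow_self p hne
    have h1 : MemLocalIdeal M (((omegaSet N g).card : ℂ) * w) :=
      memLocalIdeal_mul_right (memLocalIdeal_natCast_of_dvd hM hpdvd) hwR
    have := memLocalIdeal_add hcong h1
    rwa [sub_add_cancel] at this
  have hΩ1 : (omegaSet N g).card = 1 := by rw [hj, hj0, pow_zero]
  have hwunit : ¬ MemLocalIdeal M w := by
    intro hwI
    apply hχunit
    have h1 : MemLocalIdeal M (((omegaSet N g).card : ℂ) * w) :=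
      memLocalIdeal_mul_left (memLocalRing_natCast _) hwI
    have := memLocalIdeal_add hcong h1
    rwa [sub_add_cancel] at this
  -- (e) `N ⊔ C = ⊤`
  have hrelC : N.relIndex (Subgroup.centralizer ({g} : Set G)) = N.index := by
    rw [← hrel, hΩ1, mul_one]
  have hNC : N ⊔ Subgroup.centralizer ({g} : Set G) = ⊤ := by
    have h1 : N.relIndex (N ⊔ Subgroup.centralizer ({g} : Set G)) =
        N.relIndex (Subgroup.centralizer ({g} : Set G)) := Subgroup.relIndex_sup_left _ _
    have h2 := Subgroup.relIndex_mul_index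
      (le_sup_left : N ≤ N ⊔ Subgroup.centralizer ({g} : Set G))
    rw [h1, hrelC] at h2
    have h3 : (N ⊔ Subgroup.centralizer ({g} : Set G)).index = 1 := by
      have hne : N.index ≠ 0 := Subgroup.index_ne_zero_of_finite
      exact Nat.eq_of_mul_eq_mul_left (Nat.pos_of_ne_zero hne) (by rw [h2, mul_one])
    exact Subgroup.index_eq_one.mp h3
  -- (f) `C = (N ⊓ C) P`
  have hKS : (N.subgroupOf (Subgroup.centralizer ({g} : Set G))) ⊔
      (S : Subgroup (Subgroup.centralizer ({g} : Set G))) = ⊤ := by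
    have hK : (N.subgroupOf (Subgroup.centralizer ({g} : Set G))).index = p ^ k := by
      change N.relIndex (Subgroup.centralizer ({g} : Set G)) = _
      rw [hrelC, hk]
    have h1 : ((N.subgroupOf (Subgroup.centralizer ({g} : Set G))) ⊔
        (S : Subgroup (Subgroup.centralizer ({g} : Set G)))).index ∣ p ^ k := by
      rw [← hK]; exact Subgroup.index_dvd_of_le le_sup_left
    have h2 : ((N.subgroupOf (Subgroup.centralizer ({g} : Set G))) ⊔
        (S : Subgroup (Subgroup.centralizer ({g} : Set G)))).index ∣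
        (S : Subgroup (Subgroup.centralizer ({g} : Set G))).index :=
      Subgroup.index_dvd_of_le le_sup_right
    obtain ⟨i, _, hi⟩ := (Nat.dvd_prime_pow hpp.out).mp h1
    have hi0 : i = 0 := by
      by_contra hne
      apply S.not_dvd_index
      exact dvd_trans (by rw [hi]; exact dvd_pow_self p hne) h2
    rw [hi0, pow_zero] at hi
    exact Subgroup.index_eq_one.mp hi
  have hCle : Subgroup.centralizer ({g} : Set G) ≤
      N ⊔ (S : Subgroup (Subgroup.centralizer ({g} : Set G))).map
        (Subgroup.centralizer ({g} : Set G)).subtype := by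
    intro x hx
    have hmem : (⟨x, hx⟩ : Subgroup.centralizer ({g} : Set G)) ∈
        (N.subgroupOf (Subgroup.centralizer ({g} : Set G))) ⊔
        (S : Subgroup (Subgroup.centralizer ({g} : Set G))) := by
      rw [hKS]; exact Subgroup.mem_top _
    have h3 : ((N.subgroupOf (Subgroup.centralizer ({g} : Set G))) ⊔
        (S : Subgroup (Subgroup.centralizer ({g} : Set G)))).map
        (Subgroup.centralizer ({g} : Set G)).subtype ≤
        N ⊔ (S : Subgroup (Subgroup.centralizer ({g} : Set G))).map
          (Subgroup.centralizer ({g} : Set G)).subtype := by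
      rw [Subgroup.map_sup]
      apply sup_le_sup_right
      rintro _ ⟨y, hy, rfl⟩
      exact Subgroup.mem_subgroupOf.mp hy
    exact h3 ⟨⟨x, hx⟩, hmem, rfl⟩
  have htop : N ⊔ (S : Subgroup (Subgroup.centralizer ({g} : Set G))).map
      (Subgroup.centralizer ({g} : Set G)).subtype = ⊤ := by
    apply top_le_iff.mp
    rw [← hNC]
    exact sup_le le_sup_left hCle
  -- (g) the defect group of `c`
  refine ⟨htop, ⟨g, hg⟩, ⟨?_, ?_, ?_⟩, ?_⟩
  · rw [← subgroupBlockCoeff_coe N c ⟨g, hg⟩, ← hBc]; exact hgR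
  · rw [← subgroupBlockCoeff_coe N c ⟨g, hg⟩, ← hBc]; exact hgI
  · intro θ' hθ' hI
    apply hwunit
    obtain ⟨θ₁, rfl⟩ := hc
    have hs : SameBlock M (θ' : N → ℂ) (θ : N → ℂ) :=
      sameBlock_trans (sameBlock_symm hθ') hθc
    have h1 := hs ⟨g, hg⟩
    have h2 := memLocalIdeal_sub hI h1
    rwa [sub_sub_cancel] at h2
  · exact exists_sylow_subgroupOf N (Subgroup.centralizer ({g} : Set G)) S _
      (centralizer_subtype_eq_subgroupOf N g hg)

end partTwo

end Cfsg.Agent.Lib.Helper24
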