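/-
helper24: Frobenius-type theorem for nilpotent blocks (`nil_frobenius`): if `(Q, f)` and its
conjugate by `g` both lie below the maximal pair `(P, e)` of a nilpotent block, then
`g ∈ P · C_G(Q)`.  Ingredients: `nilpotent_stab_factor` (`N_G(Q, f) = D · C_G(Q)` for a defect
group `D` of the block of the stabilizer), `exists_maximal_pair_T_of_defect`, `nil_stepC`.
-/
import Mathlib
import Cfsg.Agent.S4660
import Cfsg.Agent.S4662
import Cfsg.Agent.S4679
import Cfsg.Agent.S4682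
import Cfsg.Agent.S4687
import Cfsg.Agent.Lib.Helper24.TChain
import Cfsg.Agent.Lib.Helper24.InertialIndex

set_option autoImplicit false
open Cfsg Cfsg.Agent.CharLib Cfsg.Agent.Lib.Helper6
open scoped ComplexConjugate

namespace Cfsg.Agent.Lib.Helper24
universe u

section nilfrob
variable {G : Type u} [Group G] [Fintype G] {M : Ideal AlgInt} {p : ℕ} [hpp : Fact p.Prime]

/-- For a nilpotent block `B`, a `B`-pair `(Q, f)`, `T = N_G(Q, f)`, the block `F` of `T` with the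
idempotent of `f` and a defect group `D` of `F`: `T = D · C_G(Q)`. -/
theorem nilpotent_stab_factor (hM : IsPModular p M) (B : Set (IrrCharacter G))
    (hnil : IsNilpotentBlock p M B) (Q T : Subgroup G)
    (f : Set (IrrCharacter (Subgroup.centralizer (Q : Set G))))
    (hQf : IsBrauerPairOf p M B Q f)
    (hT : ∀ y : G, y ∈ T ↔ y ∈ Subgroup.normalizer (Q : Set G) ∧
      StabilizesBlock (Subgroup.centralizer (Q : Set G)) f y)
    (F : Set (IrrCharacter T)) (hF : IsPBlock M F)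
    (hFf : ∀ t : T, blockCoeff F t =
      subgroupBlockCoeff (Subgroup.centralizer (Q : Set G)) f (t : G))
    (D : Subgroup T) (hD : IsDefectGroup p M F D) (t : T) :
    ∃ d ∈ D, ∃ c ∈ Subgroup.centralizer (Q : Set G), (t : G) = (d : G) * c := by
  classical
  have hf : IsPBlock M f := hQf.1.2
  have hidx := not_dvd_index_sup_centralizer hM Q T f hf hT F hF hFf D hD
  have hnormal : ((Subgroup.centralizer (Q : Set G)).subgroupOf T).Normal := by
    constructor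
    intro n hn g
    rw [Subgroup.mem_subgroupOf] at hn ⊢
    have hgN := ((hT (g : G)).mp g.2).2.1
    exact (Subgroup.mem_normalizer_iff.mp hgN _).mp hn
  -- the quotient is a p-group
  have hpq : IsPGroup p (T ⧸ (Subgroup.centralizer (Q : Set G)).subgroupOf T) := by
    intro x
    induction x using QuotientGroup.induction_on with
    | H t =>
      have hpos : orderOf t ≠ 0 := (orderOf_pos t).ne'
      obtain ⟨k, m, hm, hkm⟩ := Nat.exists_eq_pow_mul_and_not_dvd hpos p hpp.out.ne_one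
      refine ⟨k, ?_⟩
      rw [← QuotientGroup.mk_pow, QuotientGroup.eq_one_iff, Subgroup.mem_subgroupOf]
      have hy : (t ^ p ^ k) ^ m = 1 := by
        rw [← pow_mul, ← hkm]
        exact pow_orderOf_eq_one t
      have hreg : ¬ p ∣ orderOf (t ^ p ^ k) := fun hdvd =>
        hm (hdvd.trans (orderOf_dvd_of_pow_eq_one hy))
      have hreg' : IsPRegular p (((t ^ p ^ k : T)) : G) := by
        unfold IsPRegular
        rwa [Subgroup.orderOf_coe]
      have hmem := (hT ((t ^ p ^ k : T) : G)).mp (t ^ p ^ k).2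
      exact hnil.2 Q f hQf _ hmem.1 hmem.2 hreg'
  have hle : (Subgroup.centralizer (Q : Set G)).subgroupOf T ≤
      D ⊔ (Subgroup.centralizer (Q : Set G)).subgroupOf T := le_sup_right
  have hidx2 := Subgroup.index_map_eq (f := QuotientGroup.mk'
      ((Subgroup.centralizer (Q : Set G)).subgroupOf T))
    (H := D ⊔ (Subgroup.centralizer (Q : Set G)).subgroupOf T)
    (QuotientGroup.mk'_surjective _) (by rw [QuotientGroup.ker_mk']; exact hle)
  obtain ⟨n, hn⟩ := hpq.index ((D ⊔ (Subgroup.centralizer (Q : Set G)).subgroupOf T).map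
    (QuotientGroup.mk' ((Subgroup.centralizer (Q : Set G)).subgroupOf T)))
  rw [hidx2] at hn
  have hn0 : n = 0 := by
    by_contra hne
    apply hidx
    rw [hn]
    exact dvd_pow_self p hne
  rw [hn0, pow_zero, Subgroup.index_eq_one] at hn
  have ht : t ∈ D ⊔ (Subgroup.centralizer (Q : Set G)).subgroupOf T := by
    rw [hn]; trivial
  rw [Subgroup.mem_sup_of_normal_right] at ht
  obtain ⟨d, hd, c, hc, hdc⟩ := ht
  refine ⟨d, hd, (c : G), Subgroup.mem_subgroupOf.mp hc, ?_⟩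
  rw [← hdc]
  rfl

/-- If `N_P(Q)` is a defect group of the block `F` of `T = N_G(Q, f)`, then the pair of `T`
corresponding to the pair `(N_P(Q), g₀) ≤ (P, e)` is a maximal `F`-pair. -/
theorem exists_maximal_pair_T_of_defect (hM : IsPModular p M) (P Q : Subgroup G)
    (e : Set (IrrCharacter (Subgroup.centralizer (P : Set G))))
    (f : Set (IrrCharacter (Subgroup.centralizer (Q : Set G))))
    (hPe : IsBrauerPair p M P e) (hQP : Q ≤ P) (hf : IsPBlock M f)
    (hle : SubpairLE p M Q f P e) (T : Subgroup G)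
    (hT : ∀ y : G, y ∈ T ↔ y ∈ Subgroup.normalizer (Q : Set G) ∧
      StabilizesBlock (Subgroup.centralizer (Q : Set G)) f y)
    (F : Set (IrrCharacter T)) (hF : IsPBlock M F)
    (hFf : ∀ t : T, blockCoeff F t =
      subgroupBlockCoeff (Subgroup.centralizer (Q : Set G)) f (t : G))
    (hdef : IsDefectGroup p M F ((P ⊓ Subgroup.normalizer (Q : Set G)).subgroupOf T)) :
    ∃ (g₀ : Set (IrrCharacter (Subgroup.centralizer
        ((P ⊓ Subgroup.normalizer (Q : Set G) : Subgroup G) : Set G))))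
      (hR : P ⊓ Subgroup.normalizer (Q : Set G) =
        ((P ⊓ Subgroup.normalizer (Q : Set G)).subgroupOf T).map T.subtype)
      (hC : Subgroup.centralizer ((P ⊓ Subgroup.normalizer (Q : Set G) : Subgroup G) : Set G) ≤ T),
      SubpairLE p M (P ⊓ Subgroup.normalizer (Q : Set G)) g₀ P e ∧
      IsMaximalBrauerPair p M F ((P ⊓ Subgroup.normalizer (Q : Set G)).subgroupOf T)
        (BlockIso.pullBlock (centEquivT T _ _ hR hC) g₀) := by
  classical
  have hQ : IsPGroup p Q := hPe.1.to_le hQP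
  have hQR : Q ≤ P ⊓ Subgroup.normalizer (Q : Set G) := le_inf hQP Subgroup.le_normalizer
  have hRP : P ⊓ Subgroup.normalizer (Q : Set G) ≤ P := inf_le_left
  have hRp : IsPGroup p (P ⊓ Subgroup.normalizer (Q : Set G) : Subgroup G) := hPe.1.to_le hRP
  obtain ⟨g, hg, hRPle⟩ := exists_subpairLE hM P e hPe _ hRP
  obtain ⟨f', hf', hQRle⟩ := exists_subpairLE hM _ g ⟨hRp, hg⟩ Q hQR
  have e1 : f' = f := subpairLE_unique hM _ P e Q f' f rfl
    (Relation.ReflTransGen.trans hQRle hRPle) hle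
  rw [e1] at hQRle
  obtain ⟨f'', hf'', -⟩ := Cfsg.Agent.S4656.result' p M hM _ Q g ⟨hRp, hg⟩ hQR inf_le_right
  have e2 : f'' = f := subpairLE_unique hM _ _ g Q f'' f rfl
    (Relation.ReflTransGen.single hf'') hQRle
  rw [e2] at hf''
  have hRT : P ⊓ Subgroup.normalizer (Q : Set G) ≤ T := fun x hx =>
    (hT x).mpr ⟨hx.2, hf''.2.2.2.2.1 x hx⟩
  have hR : P ⊓ Subgroup.normalizer (Q : Set G) =
      ((P ⊓ Subgroup.normalizer (Q : Set G)).subgroupOf T).map T.subtype :=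
    (Subgroup.map_subgroupOf_eq_of_le hRT).symm
  have hC : Subgroup.centralizer ((P ⊓ Subgroup.normalizer (Q : Set G) : Subgroup G) : Set G) ≤ T :=
    (Subgroup.centralizer_le hQR).trans (centralizer_le_stab Q T f hT)
  have hpair := (isNormalSubpair_iff_isBrauerPairOf_T (M := M) Q T _ _ hQ f hf hT F hF hFf hR hQR hC
    g).mp hf''
  let _ : Fintype T := Fintype.ofFinite _
  refine ⟨g, hR, hC, hRPle, hpair, ?_⟩
  intro R' g' hR'g' hle'
  have hNR : (P ⊓ Subgroup.normalizer (Q : Set G)).subgroupOf T ≤ R' :=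
    Cfsg.Agent.S4681.le_of_subpairLE p M _ _ R' g' hle'
  obtain ⟨D, gD, hmaxD, hleD⟩ := exists_maximal_ge (M := M) p F _ R' g' hR'g' rfl
  have hRD : R' ≤ D := Cfsg.Agent.S4681.le_of_subpairLE p M _ _ D gD hleD
  have hDdef : IsDefectGroup p M F D := Cfsg.Agent.S4659.result p M hM F D gD hmaxD
  have hcard : Nat.card D ≤ Nat.card ((P ⊓ Subgroup.normalizer (Q : Set G)).subgroupOf T) :=
    card_le_of_isDefectGroup hM hF hDdef hdef
  have h1 : Nat.card R' ≤ Nat.card ((P ⊓ Subgroup.normalizer (Q : Set G)).subgroupOf T) :=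
    (Subgroup.card_le_of_le hRD).trans hcard
  exact (Subgroup.eq_of_le_of_card_ge hNR h1).symm

/-- The key step of the Frobenius-type theorem for nilpotent blocks. -/
theorem nil_stepC (hM : IsPModular p M) (B : Set (IrrCharacter G))
    (hnil : IsNilpotentBlock p M B) (P : Subgroup G)
    (e : Set (IrrCharacter (Subgroup.centralizer (P : Set G))))
    (hmax : IsMaximalBrauerPair p M B P e)
    (Qa : Subgroup G) (fa : Set (IrrCharacter (Subgroup.centralizer (Qa : Set G))))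
    (hlea : SubpairLE p M Qa fa P e) (hne : Qa ≠ P)
    (IH : ∀ (R : Subgroup G) (h : Set (IrrCharacter (Subgroup.centralizer (R : Set G)))),
      Nat.card Qa < Nat.card R → SubpairLE p M R h P e → ∀ g : G,
      Relation.ReflTransGen (NormalSubpairRel p M) (cjPair g (⟨R, h⟩ : BrauerPairIdx G)) ⟨P, e⟩ →
      ∃ u ∈ P, ∃ c ∈ Subgroup.centralizer (R : Set G), g = u * c)
    (Q₂ : Subgroup G) (f₂ : Set (IrrCharacter (Subgroup.centralizer (Q₂ : Set G))))
    (hle₂ : SubpairLE p M Q₂ f₂ P e) (T₂ : Subgroup G)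
    (hT₂ : ∀ y : G, y ∈ T₂ ↔ y ∈ Subgroup.normalizer (Q₂ : Set G) ∧
      StabilizesBlock (Subgroup.centralizer (Q₂ : Set G)) f₂ y)
    (F₂ : Set (IrrCharacter T₂)) (hF₂ : IsPBlock M F₂)
    (hF₂f : ∀ t : T₂, blockCoeff F₂ t =
      subgroupBlockCoeff (Subgroup.centralizer (Q₂ : Set G)) f₂ (t : G))
    (hdef₂ : IsDefectGroup p M F₂ ((P ⊓ Subgroup.normalizer (Q₂ : Set G)).subgroupOf T₂))
    (y : G) (hy : cjPair y (⟨Qa, fa⟩ : BrauerPairIdx G) = ⟨Q₂, f₂⟩) :
    ∃ u ∈ P, ∃ c ∈ Subgroup.centralizer (Qa : Set G), y = u * c := by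
  classical
  haveI hprime : M.IsPrime := isPrime_of_isPModular hM
  have hPe : IsBrauerPair p M P e := hmax.1.1
  have hB : IsPBlock M B := hmax.1.2.1
  have hP : IsPGroup p P := hPe.1
  have hQaP : Qa ≤ P := Cfsg.Agent.S4681.le_of_subpairLE p M _ _ P e hlea
  have hQ₂P : Q₂ ≤ P := Cfsg.Agent.S4681.le_of_subpairLE p M _ _ P e hle₂
  have hQ₂p : IsPGroup p Q₂ := hP.to_le hQ₂P
  -- blocks
  have hfa : IsPBlock M fa := by
    obtain ⟨f', hf', hle'⟩ := exists_subpairLE hM P e hPe Qa hQaP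
    have : f' = fa := subpairLE_unique hM _ P e Qa f' fa rfl hle' hlea
    rwa [this] at hf'
  have hf₂ : IsPBlock M f₂ := by
    obtain ⟨f', hf', hle'⟩ := exists_subpairLE hM P e hPe Q₂ hQ₂P
    have : f' = f₂ := subpairLE_unique hM _ P e Q₂ f' f₂ rfl hle' hle₂
    rwa [this] at hf'
  -- the pair (Ra, ha)
  have hlt : Qa < P ⊓ Subgroup.normalizer (Qa : Set G) := by
    have := exists_normalizer_inf_gt Qa P hP hQaP hne
    rwa [inf_comm] at this
  have hRaP : P ⊓ Subgroup.normalizer (Qa : Set G) ≤ P := inf_le_left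
  have hRap : IsPGroup p (P ⊓ Subgroup.normalizer (Qa : Set G) : Subgroup G) := hP.to_le hRaP
  obtain ⟨ha, hha, hRale⟩ := exists_subpairLE hM P e hPe _ hRaP
  obtain ⟨f', hf', hQaRale⟩ := exists_subpairLE hM _ ha ⟨hRap, hha⟩ Qa hlt.le
  have e1 : f' = fa := subpairLE_unique hM _ P e Qa f' fa rfl
    (Relation.ReflTransGen.trans hQaRale hRale) hlea
  rw [e1] at hQaRale
  have hnorm : IsNormalSubpair p M Qa fa (P ⊓ Subgroup.normalizer (Qa : Set G)) ha :=
    Cfsg.Agent.S4682.isNormalSubpair_of_le_normal p M hM _ Qa ha fa ⟨hRap, hha⟩ hlt.le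
      inf_le_right hQaRale
  -- conjugate by y
  have hn3' : NormalSubpairRel p M (cjPair y (⟨Qa, fa⟩ : BrauerPairIdx G))
      (cjPair y ⟨P ⊓ Subgroup.normalizer (Qa : Set G), ha⟩) :=
    isNormalSubpair_conj (M := M) p y Qa _ fa ha hnorm
  rw [hy] at hn3'
  set R₃ : Subgroup G := (P ⊓ Subgroup.normalizer (Qa : Set G)).map (MulAut.conj y).toMonoidHom
    with hR₃def
  set h₃ := conjBlock (P ⊓ Subgroup.normalizer (Qa : Set G)) y ha with hh₃def
  have hn3 : IsNormalSubpair p M Q₂ f₂ R₃ h₃ := hn3'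
  have hQ₂R₃ : Q₂ ≤ R₃ := hn3.2.2.1
  have hR₃T : R₃ ≤ T₂ := fun x hx => (hT₂ x).mpr ⟨hn3.2.2.2.1 hx, hn3.2.2.2.2.1 x hx⟩
  have hR : R₃ = (R₃.subgroupOf T₂).map T₂.subtype :=
    (Subgroup.map_subgroupOf_eq_of_le hR₃T).symm
  have hCQ₂ : Subgroup.centralizer (Q₂ : Set G) ≤ T₂ := centralizer_le_stab Q₂ T₂ f₂ hT₂
  have hC : Subgroup.centralizer (R₃ : Set G) ≤ T₂ := (Subgroup.centralizer_le hQ₂R₃).trans hCQ₂
  have hpair₃ := (isNormalSubpair_iff_isBrauerPairOf_T (M := M) Q₂ T₂ R₃ (R₃.subgroupOf T₂) hQ₂p f₂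
    hf₂ hT₂ F₂ hF₂ hF₂f hR hQ₂R₃ hC h₃).mp hn3
  -- the maximal pair of F₂
  obtain ⟨g₀, hR₀, hC₀, hle₀, hmax₀⟩ := exists_maximal_pair_T_of_defect hM P Q₂ e f₂ hPe hQ₂P hf₂
    hle₂ T₂ hT₂ F₂ hF₂ hF₂f hdef₂
  let _ : Fintype T₂ := Fintype.ofFinite _
  obtain ⟨t, ht⟩ := Cfsg.Agent.S4660.result p M hM F₂ _ (R₃.subgroupOf T₂) _ _ hmax₀ hpair₃
  -- transport to G
  have hcorr₃ : Corr T₂ (⟨R₃.subgroupOf T₂, BlockIso.pullBlock (centEquivT T₂ R₃ _ hR hC) h₃⟩ :
      BrauerPairIdx T₂) (⟨R₃, h₃⟩ : BrauerPairIdx G) := ⟨hR, hC, rfl⟩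
  have hcorr_t := corr_cjPair T₂ t _ _ hcorr₃
  have htN : (t : G) ∈ Subgroup.normalizer (Q₂ : Set G) := ((hT₂ (t : G)).mp t.2).1
  have hQ₂le : Q₂ ≤ (cjPair (t : G) (⟨R₃, h₃⟩ : BrauerPairIdx G)).1 := by
    intro q hq
    change q ∈ R₃.map (MulAut.conj (t : G)).toMonoidHom
    rw [mem_map_conj_iff]
    apply hQ₂R₃
    have h1 := Subgroup.mem_normalizer_iff.mp (Subgroup.inv_mem _ htN) q
    rw [inv_inv] at h1
    exact h1.mp hq
  obtain ⟨b, hb, hchain⟩ := reflTransGen_of_corr (M := M) T₂ p Q₂ hCQ₂ _ _ ht _ hcorr_t hQ₂le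
  have hcorr₀ : Corr T₂ (⟨(P ⊓ Subgroup.normalizer (Q₂ : Set G)).subgroupOf T₂,
      BlockIso.pullBlock (centEquivT T₂ _ _ hR₀ hC₀) g₀⟩ : BrauerPairIdx T₂)
      (⟨P ⊓ Subgroup.normalizer (Q₂ : Set G), g₀⟩ : BrauerPairIdx G) := ⟨hR₀, hC₀, rfl⟩
  have hbeq := corr_unique T₂ _ b _ hb hcorr₀
  rw [hbeq] at hchain
  have hchain2 : Relation.ReflTransGen (NormalSubpairRel p M)
      (cjPair ((t : G) * y) (⟨P ⊓ Subgroup.normalizer (Qa : Set G), ha⟩ : BrauerPairIdx G))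
      ⟨P, e⟩ := by
    rw [← cjPair_mul (M := M) (t : G) y _ ha hha]
    exact Relation.ReflTransGen.trans hchain hle₀
  -- induction hypothesis
  have hcard : Nat.card Qa < Nat.card (P ⊓ Subgroup.normalizer (Qa : Set G) : Subgroup G) := by
    have := Set.ncard_lt_ncard (s := (Qa : Set G))
      (t := ((P ⊓ Subgroup.normalizer (Qa : Set G) : Subgroup G) : Set G)) hlt (Set.toFinite _)
    rwa [← Nat.card_coe_set_eq, ← Nat.card_coe_set_eq] at this
  obtain ⟨u₁, hu₁, c₁, hc₁, hty⟩ := IH _ ha hcard hRale ((t : G) * y) hchain2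
  -- the factorisation of t
  have hQ₂fB : IsBrauerPairOf p M B Q₂ f₂ :=
    (Cfsg.Agent.S4658.result p M hM P Q₂ e f₂ hPe ⟨hQ₂p, hf₂⟩ hle₂ B hB).mp hmax.1
  obtain ⟨d, hd, c₂, hc₂, htd⟩ := nilpotent_stab_factor hM B hnil Q₂ T₂ f₂ hQ₂fB hT₂ F₂ hF₂ hF₂f
    _ hdef₂ t
  have hdP : (d : G) ∈ P := (Subgroup.mem_subgroupOf.mp hd).1
  obtain ⟨hQ₂eq, -⟩ := of_cjPair_eq y Qa Q₂ fa f₂ hy
  have hc₃ : y⁻¹ * c₂ * y ∈ Subgroup.centralizer (Qa : Set G) := by
    rw [← hQ₂eq] at hc₂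
    exact (mem_centralizer_map_conj_iff Qa y c₂).mp hc₂
  have hc₁' : c₁ ∈ Subgroup.centralizer (Qa : Set G) := Subgroup.centralizer_le hlt.le hc₁
  refine ⟨(d : G)⁻¹ * u₁, P.mul_mem (P.inv_mem hdP) hu₁, c₁ * (y⁻¹ * c₂ * y)⁻¹,
    Subgroup.mul_mem _ hc₁' (Subgroup.inv_mem _ hc₃), ?_⟩
  have e2 : (d : G) * c₂ * y = u₁ * c₁ := by rw [← htd]; exact hty
  calc y = (d : G)⁻¹ * (d * c₂ * y) * (y⁻¹ * c₂ * y)⁻¹ := by group
    _ = (d : G)⁻¹ * (u₁ * c₁) * (y⁻¹ * c₂ * y)⁻¹ := by rw [e2]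
    _ = (d : G)⁻¹ * u₁ * (c₁ * (y⁻¹ * c₂ * y)⁻¹) := by group

/-- Frobenius-type theorem for nilpotent blocks: if `(Q, f) ≤ (P, e)` and `(Q, f)^g ≤ (P, e)` then
`g ∈ P · C_G(Q)`. -/
theorem nil_frobenius (hM : IsPModular p M) (B : Set (IrrCharacter G))
    (hnil : IsNilpotentBlock p M B) (P : Subgroup G)
    (e : Set (IrrCharacter (Subgroup.centralizer (P : Set G))))
    (hmax : IsMaximalBrauerPair p M B P e) :
    ∀ (n : ℕ) (Q : Subgroup G) (f : Set (IrrCharacter (Subgroup.centralizer (Q : Set G)))),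
      Nat.card P - Nat.card Q = n → SubpairLE p M Q f P e → ∀ g : G,
      Relation.ReflTransGen (NormalSubpairRel p M) (cjPair g (⟨Q, f⟩ : BrauerPairIdx G)) ⟨P, e⟩ →
      ∃ u ∈ P, ∃ c ∈ Subgroup.centralizer (Q : Set G), g = u * c := by
  classical
  haveI hprime : M.IsPrime := isPrime_of_isPModular hM
  have hPe : IsBrauerPair p M P e := hmax.1.1
  have hB : IsPBlock M B := hmax.1.2.1
  have hP : IsPGroup p P := hPe.1
  intro n
  induction n using Nat.strong_induction_on with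
  | _ n ih =>
    intro Q f hn hle g hg
    have hQP : Q ≤ P := Cfsg.Agent.S4681.le_of_subpairLE p M _ _ P e hle
    have hf : IsPBlock M f := by
      obtain ⟨f', hf', hle'⟩ := exists_subpairLE hM P e hPe Q hQP
      have : f' = f := subpairLE_unique hM _ P e Q f' f rfl hle' hle
      rwa [this] at hf'
    have hcardg : Nat.card (Q.map (MulAut.conj g).toMonoidHom : Subgroup G) = Nat.card Q := by
      have hinj : Function.Injective (MulAut.conj g).toMonoidHom := (MulAut.conj g).injective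
      exact Subgroup.card_map_of_injective hinj
    have hQgP : Q.map (MulAut.conj g).toMonoidHom ≤ P :=
      Cfsg.Agent.S4681.le_of_reflTransGen p M _ _ hg
    by_cases hQeq : Q = P
    · subst hQeq
      have h1 : (⟨Q, f⟩ : BrauerPairIdx G) = ⟨Q, e⟩ :=
        eq_of_reflTransGen_of_fst_eq hM _ _ hle rfl
      have hfe : f = e := eq_of_heq (Sigma.mk.inj h1).2
      subst hfe
      have hfst : (cjPair g (⟨Q, f⟩ : BrauerPairIdx G)).1 = Q :=
        Subgroup.eq_of_le_of_card_ge hQgP (le_of_eq hcardg.symm)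
      have h2 : cjPair g (⟨Q, f⟩ : BrauerPairIdx G) = ⟨Q, f⟩ :=
        eq_of_reflTransGen_of_fst_eq hM _ _ hg hfst
      obtain ⟨hgN, hgst⟩ := mem_stab_of_cjPair_eq g Q f h2
      obtain ⟨T, hT⟩ := Cfsg.Agent.S4679.exists_stab M Q f hf
      obtain ⟨F, hF, hFf, hdef⟩ := Cfsg.Agent.S4687.isDefectGroup_stab p M hM B Q f hmax T hT
      have hgT : g ∈ T := (hT g).mpr ⟨hgN, hgst⟩
      obtain ⟨d, hd, c, hc, hdc⟩ := nilpotent_stab_factor hM B hnil Q T f hmax.1 hT F hF hFf _ hdef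
        ⟨g, hgT⟩
      exact ⟨(d : G), Subgroup.mem_subgroupOf.mp hd, c, hc, hdc⟩
    · obtain ⟨T, hT⟩ := Cfsg.Agent.S4679.exists_stab M Q f hf
      obtain ⟨-, x, hlex, hx⟩ := Cfsg.Agent.S4662.result p M hM B P Q e f hmax hQP hf hle T hT
      have hf₂ : IsPBlock M (conjBlock Q x f) := isPBlock_conjBlock Q x hf
      obtain ⟨T₂, hT₂⟩ := Cfsg.Agent.S4679.exists_stab M _ _ hf₂
      obtain ⟨F₂, hF₂, hF₂f, hdef₂⟩ := hx T₂ hT₂
      have IH' : ∀ (Q' : Subgroup G), Nat.card Q' = Nat.card Q →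
          ∀ (R : Subgroup G) (h : Set (IrrCharacter (Subgroup.centralizer (R : Set G)))),
          Nat.card Q' < Nat.card R → SubpairLE p M R h P e → ∀ g : G,
          Relation.ReflTransGen (NormalSubpairRel p M) (cjPair g (⟨R, h⟩ : BrauerPairIdx G))
            ⟨P, e⟩ →
          ∃ u ∈ P, ∃ c ∈ Subgroup.centralizer (R : Set G), g = u * c := by
        intro Q' hQ' R h hlt hRle g' hg'
        have hRP : R ≤ P := Cfsg.Agent.S4681.le_of_subpairLE p M _ _ P e hRle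
        have h1 := Subgroup.card_le_of_le hRP
        exact ih (Nat.card P - Nat.card R) (by omega) R h rfl hRle g' hg'
      obtain ⟨u₁, hu₁, c₁, hc₁, hx1⟩ := nil_stepC hM B hnil P e hmax Q f hle hQeq (IH' Q rfl)
        _ _ hlex T₂ hT₂ F₂ hF₂ hF₂f hdef₂ x rfl
      have hneg : (Q.map (MulAut.conj g).toMonoidHom : Subgroup G) ≠ P := by
        intro hc
        apply hQeq
        apply Subgroup.eq_of_le_of_card_ge hQP
        rw [← hcardg, hc]
      have hy : cjPair (x * g⁻¹) (⟨Q.map (MulAut.conj g).toMonoidHom, conjBlock Q g f⟩ :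
          BrauerPairIdx G) = ⟨Q.map (MulAut.conj x).toMonoidHom, conjBlock Q x f⟩ := by
        have h1 := cjPair_mul (M := M) (x * g⁻¹) g Q f hf
        have h2 : x * g⁻¹ * g = x := by group
        rw [h2] at h1
        exact h1
      obtain ⟨u₂, hu₂, c₂, hc₂, hx2⟩ := nil_stepC hM B hnil P e hmax _ (conjBlock Q g f) hg hneg
        (IH' _ hcardg) _ _ hlex T₂ hT₂ F₂ hF₂ hF₂f hdef₂ (x * g⁻¹) hy
      have hc₃ : g⁻¹ * c₂ * g ∈ Subgroup.centralizer (Q : Set G) :=
        (mem_centralizer_map_conj_iff Q g c₂).mp hc₂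
      refine ⟨u₂⁻¹ * u₁, P.mul_mem (P.inv_mem hu₂) hu₁, c₁ * (g⁻¹ * c₂ * g)⁻¹,
        Subgroup.mul_mem _ hc₁ (Subgroup.inv_mem _ hc₃), ?_⟩
      have e2 : u₂ * c₂ * g = u₁ * c₁ := by
        rw [← hx2, ← hx1]; group
      calc g = u₂⁻¹ * (u₂ * c₂ * g) * (g⁻¹ * c₂ * g)⁻¹ := by group
        _ = u₂⁻¹ * (u₁ * c₁) * (g⁻¹ * c₂ * g)⁻¹ := by rw [e2]
        _ = u₂⁻¹ * u₁ * (c₁ * (g⁻¹ * c₂ * g)⁻¹) := by group

/-- Frobenius-type theorem for nilpotent blocks, in terms of `SubpairLE`. -/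
theorem nil_frobenius' (hM : IsPModular p M) (B : Set (IrrCharacter G))
    (hnil : IsNilpotentBlock p M B) (P : Subgroup G)
    (e : Set (IrrCharacter (Subgroup.centralizer (P : Set G))))
    (hmax : IsMaximalBrauerPair p M B P e) (Q : Subgroup G)
    (f : Set (IrrCharacter (Subgroup.centralizer (Q : Set G))))
    (hle : SubpairLE p M Q f P e) (g : G)
    (hg : SubpairLE p M (Q.map (MulAut.conj g).toMonoidHom) (conjBlock Q g f) P e) :
    ∃ u ∈ P, ∃ c ∈ Subgroup.centralizer (Q : Set G), g = u * c :=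
  nil_frobenius hM B hnil P e hmax _ Q f rfl hle g hg

end nilfrob

end Cfsg.Agent.Lib.Helper24
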