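/-
helper24: subgroups `H` with `Q·C_G(Q) ≤ H ≤ N_G(Q, f)`: the idempotent of `f` is a block
idempotent of `H` (`exists_block_H`), normal steps `(Q, f) ⊴ (R, g)` with `R ≤ H` are the Brauer
pairs of that block (`isNormalSubpair_iff_isBrauerPairOf_H`), and the pair at `N_P(Q)` is maximal
when `N_P(Q)` is a defect group for the full stabilizer (`exists_maximal_pair_H`).
-/
import Mathlib
import Cfsg.Agent.Lib.Helper24.NilFrobenius

set_option autoImplicit false
open Cfsg Cfsg.Agent.CharLib Cfsg.Agent.Lib.Helper6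
open scoped ComplexConjugate

namespace Cfsg.Agent.Lib.Helper24
universe u

section iffH
variable {G : Type u} [Group G] [Finite G] {M : Ideal AlgInt} (Q H R : Subgroup G) (R' : Subgroup H)

/-- For a subgroup `H` of the stabilizer of `(Q, f)` and the block `F` of `H` with the idempotent
of `f`: a normal step `(Q, f) ⊴ (R, g)` in `G` with `R ≤ H` is the same as `(R, g)` being an
`F`-Brauer pair of the group `H`. -/
theorem isNormalSubpair_iff_isBrauerPairOf_H {p : ℕ} [hpp : Fact p.Prime] (hQ : IsPGroup p Q)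
    (f : Set (IrrCharacter (Subgroup.centralizer (Q : Set G)))) (hf : IsPBlock M f)
    (hH : ∀ y : G, y ∈ H → y ∈ Subgroup.normalizer (Q : Set G) ∧
      StabilizesBlock (Subgroup.centralizer (Q : Set G)) f y)
    (F : Set (IrrCharacter H)) (hF : IsPBlock M F)
    (hFf : ∀ t : H, blockCoeff F t = subgroupBlockCoeff (Subgroup.centralizer (Q : Set G)) f (t : G))
    (hR : R = R'.map H.subtype) (hQR : Q ≤ R)
    (hC : Subgroup.centralizer (R : Set G) ≤ H)
    (g : Set (IrrCharacter (Subgroup.centralizer (R : Set G)))) :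
    IsNormalSubpair p M Q f R g ↔
      IsBrauerPairOf p M F R' (BlockIso.pullBlock (centEquivT H R R' hR hC) g) := by
  have hRH : R ≤ H := by
    rw [hR]
    rintro _ ⟨r, _, rfl⟩
    exact r.2
  constructor
  · rintro ⟨_, ⟨hRp, hg⟩, _, _, _, hω⟩
    have hR'p : IsPGroup p R' := by
      have h1 : IsPGroup p (R'.map H.subtype) := hR ▸ hRp
      have h2 := h1.comap_of_injective H.subtype (Subgroup.subtype_injective _)
      rwa [Subgroup.comap_map_eq_self_of_injective (Subgroup.subtype_injective _)] at h2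
    refine ⟨⟨hR'p, BlockIso.isPBlock_pullBlock _ hg⟩, hF, ?_⟩
    intro ξ' hξ'
    have hmem : irrCompIso (centEquivT H R R' hR hC).symm ξ' ∈ g :=
      (BlockIso.mem_pullBlock_iff _ g ξ').mp hξ'
    have e1 : ξ' = irrCompIso (centEquivT H R R' hR hC)
        (irrCompIso (centEquivT H R R' hR hC).symm ξ') :=
      (BlockIso.irrCompIso_irrCompIso_symm _ ξ').symm
    rw [e1, brauerOmega_centEquivT H R R' hR hC
      (subgroupBlockCoeff (Subgroup.centralizer (Q : Set G)) f) (blockCoeff F) hFf]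
    exact hω _ hmem
  · rintro ⟨⟨hR'p, hg'⟩, _, hω'⟩
    have hRp : IsPGroup p R := by
      rw [hR]
      exact hR'p.map _
    have hg : IsPBlock M g := by
      have := BlockIso.isPBlock_pullBlock (centEquivT H R R' hR hC).symm hg'
      rwa [BlockIso.pullBlock_symm_pullBlock] at this
    refine ⟨⟨hQ, hf⟩, ⟨hRp, hg⟩, hQR, ?_, ?_, ?_⟩
    · intro x hx
      exact (hH x (hRH hx)).1
    · intro x hx
      exact (hH x (hRH hx)).2
    · intro ξ hξ
      have h1 := hω' (irrCompIso (centEquivT H R R' hR hC) ξ)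
        (BlockIso.irrCompIso_mem_pullBlock _ hξ)
      rwa [brauerOmega_centEquivT H R R' hR hC
        (subgroupBlockCoeff (Subgroup.centralizer (Q : Set G)) f) (blockCoeff F) hFf] at h1

end iffH

section existsH
variable {G : Type u} [Group G] [Fintype G] {M : Ideal AlgInt}

/-- The idempotent of `f` is a block idempotent of every subgroup `H` with
`Q·C_G(Q) ≤ H ≤ N_G(Q, f)`. -/
theorem exists_block_H {p : ℕ} [hpp : Fact p.Prime] (hM : IsPModular p M) (Q H : Subgroup G)
    (hQ : IsPGroup p Q)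
    (f : Set (IrrCharacter (Subgroup.centralizer (Q : Set G)))) (hf : IsPBlock M f)
    (hCH : Subgroup.centralizer (Q : Set G) ≤ H) (hQH : Q ≤ H)
    (hH : ∀ y : G, y ∈ H → y ∈ Subgroup.normalizer (Q : Set G) ∧
      StabilizesBlock (Subgroup.centralizer (Q : Set G)) f y) :
    ∃ F : Set (IrrCharacter H), IsPBlock M F ∧
      ∀ t : H, blockCoeff F t = subgroupBlockCoeff (Subgroup.centralizer (Q : Set G)) f (t : G) := by
  classical
  let _ : Fintype H := Fintype.ofFinite H
  apply exists_block_of_stable hM H (Subgroup.centralizer (Q : Set G)) hCH f hf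
    (fun t ht => (hH t ht).2)
  intro E hE t ht
  haveI : (Q.subgroupOf H).Normal := by
    constructor
    intro n hn g
    rw [Subgroup.mem_subgroupOf] at hn ⊢
    have hgN := (hH (g : G) g.2).1
    exact (Subgroup.mem_normalizer_iff.mp hgN _).mp hn
  apply Cfsg.Agent.S4653.result' p M hM (Q.subgroupOf H) hQ.comap_subtype E hE t
  intro hcent
  apply ht
  rw [Subgroup.mem_centralizer_iff]
  intro y hy
  have := Subgroup.mem_centralizer_iff.mp hcent ⟨y, hQH hy⟩ (Subgroup.mem_subgroupOf.mpr hy)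
  exact congrArg Subtype.val this

variable {p : ℕ} [hpp : Fact p.Prime]

/-- If `N_P(Q)` is a defect group of the block of the stabilizer `T = N_G(Q, f)`, then for every
`H` with `N_P(Q)·C_G(Q) ≤ H ≤ T` the pair of `H` corresponding to `(N_P(Q), g₀) ≤ (P, e)` is a
maximal pair of the block of `H` with the idempotent of `f`. -/
theorem exists_maximal_pair_H (hM : IsPModular p M) (P Q : Subgroup G)
    (e : Set (IrrCharacter (Subgroup.centralizer (P : Set G))))
    (f : Set (IrrCharacter (Subgroup.centralizer (Q : Set G))))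
    (hPe : IsBrauerPair p M P e) (hQP : Q ≤ P) (hf : IsPBlock M f)
    (hle : SubpairLE p M Q f P e) (T : Subgroup G)
    (hT : ∀ y : G, y ∈ T ↔ y ∈ Subgroup.normalizer (Q : Set G) ∧
      StabilizesBlock (Subgroup.centralizer (Q : Set G)) f y)
    (FT : Set (IrrCharacter T)) (hFT : IsPBlock M FT)
    (hFTf : ∀ t : T, blockCoeff FT t =
      subgroupBlockCoeff (Subgroup.centralizer (Q : Set G)) f (t : G))
    (hdef : IsDefectGroup p M FT ((P ⊓ Subgroup.normalizer (Q : Set G)).subgroupOf T))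
    (H : Subgroup G) (hCH : Subgroup.centralizer (Q : Set G) ≤ H) (hHT : H ≤ T)
    (hNH : P ⊓ Subgroup.normalizer (Q : Set G) ≤ H)
    (FH : Set (IrrCharacter H)) (hFH : IsPBlock M FH)
    (hFHf : ∀ t : H, blockCoeff FH t =
      subgroupBlockCoeff (Subgroup.centralizer (Q : Set G)) f (t : G)) :
    ∃ (g₀ : Set (IrrCharacter (Subgroup.centralizer
        ((P ⊓ Subgroup.normalizer (Q : Set G) : Subgroup G) : Set G))))
      (hR : P ⊓ Subgroup.normalizer (Q : Set G) =
        ((P ⊓ Subgroup.normalizer (Q : Set G)).subgroupOf H).map H.subtype)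
      (hC : Subgroup.centralizer ((P ⊓ Subgroup.normalizer (Q : Set G) : Subgroup G) : Set G) ≤ H),
      SubpairLE p M (P ⊓ Subgroup.normalizer (Q : Set G)) g₀ P e ∧
      IsMaximalBrauerPair p M FH ((P ⊓ Subgroup.normalizer (Q : Set G)).subgroupOf H)
        (BlockIso.pullBlock (centEquivT H _ _ hR hC) g₀) := by
  classical
  have hQ : IsPGroup p Q := hPe.1.to_le hQP
  have hHst : ∀ y : G, y ∈ H → y ∈ Subgroup.normalizer (Q : Set G) ∧
      StabilizesBlock (Subgroup.centralizer (Q : Set G)) f y := fun y hy => (hT y).mp (hHT hy)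
  have hQR : Q ≤ P ⊓ Subgroup.normalizer (Q : Set G) := le_inf hQP Subgroup.le_normalizer
  have hRP : P ⊓ Subgroup.normalizer (Q : Set G) ≤ P := inf_le_left
  have hRp : IsPGroup p (P ⊓ Subgroup.normalizer (Q : Set G) : Subgroup G) := hPe.1.to_le hRP
  obtain ⟨g, hg, hRPle⟩ := exists_subpairLE hM P e hPe _ hRP
  obtain ⟨f', hf', hQRle⟩ := exists_subpairLE hM _ g ⟨hRp, hg⟩ Q hQR
  have e1 : f' = f := subpairLE_unique hM _ P e Q f' f rfl
    (Relation.ReflTransGen.trans hQRle hRPle) hle
  rw [e1] at hQRle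
  obtain ⟨f'', hf'', -⟩ := Cfsg.Agent.S4656.result' p M hM _ Q g ⟨hRp, hg⟩ hQR inf_le_right
  have e2 : f'' = f := subpairLE_unique hM _ _ g Q f'' f rfl
    (Relation.ReflTransGen.single hf'') hQRle
  rw [e2] at hf''
  have hR : P ⊓ Subgroup.normalizer (Q : Set G) =
      ((P ⊓ Subgroup.normalizer (Q : Set G)).subgroupOf H).map H.subtype :=
    (Subgroup.map_subgroupOf_eq_of_le hNH).symm
  have hC : Subgroup.centralizer ((P ⊓ Subgroup.normalizer (Q : Set G) : Subgroup G) : Set G) ≤ H :=
    (Subgroup.centralizer_le hQR).trans hCH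
  have hpair := (isNormalSubpair_iff_isBrauerPairOf_H (M := M) Q H _ _ hQ f hf hHst FH hFH hFHf hR
    hQR hC g).mp hf''
  let _ : Fintype T := Fintype.ofFinite _
  let _ : Fintype H := Fintype.ofFinite _
  refine ⟨g, hR, hC, hRPle, hpair, ?_⟩
  intro R' g' hR'g' hle'
  have hNR : (P ⊓ Subgroup.normalizer (Q : Set G)).subgroupOf H ≤ R' :=
    Cfsg.Agent.S4681.le_of_subpairLE p M _ _ R' g' hle'
  -- the pair of `G` corresponding to `(R', g')`
  have hNR2 : P ⊓ Subgroup.normalizer (Q : Set G) ≤ R'.map H.subtype := by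
    intro x hx
    exact ⟨⟨x, hNH hx⟩, hNR (Subgroup.mem_subgroupOf.mpr hx), rfl⟩
  have hQR2 : Q ≤ R'.map H.subtype := hQR.trans hNR2
  have hC2 : Subgroup.centralizer ((R'.map H.subtype : Subgroup G) : Set G) ≤ H :=
    (Subgroup.centralizer_le hQR2).trans hCH
  set g'' := BlockIso.pullBlock (centEquivT H _ R' rfl hC2).symm g' with hg''def
  have hg'' : BlockIso.pullBlock (centEquivT H _ R' rfl hC2) g'' = g' := by
    rw [hg''def]
    exact BlockIso.pullBlock_symm_pullBlock (centEquivT H _ R' rfl hC2).symm g'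
  have hnorm2 : IsNormalSubpair p M Q f (R'.map H.subtype) g'' := by
    rw [isNormalSubpair_iff_isBrauerPairOf_H (M := M) Q H _ R' hQ f hf hHst FH hFH hFHf rfl hQR2 hC2
      g'', hg'']
    exact hR'g'
  -- transport to `T`
  have hRT : R'.map H.subtype ≤ T := by
    rintro _ ⟨r, _, rfl⟩
    exact hHT r.2
  have hR3 : R'.map H.subtype = ((R'.map H.subtype).subgroupOf T).map T.subtype :=
    (Subgroup.map_subgroupOf_eq_of_le hRT).symm
  have hC3 : Subgroup.centralizer ((R'.map H.subtype : Subgroup G) : Set G) ≤ T := hC2.trans hHT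
  have hpairT := (isNormalSubpair_iff_isBrauerPairOf_T (M := M) Q T _ _ hQ f hf hT FT hFT hFTf hR3
    hQR2 hC3 g'').mp hnorm2
  obtain ⟨D, gD, hmaxD, hleD⟩ := exists_maximal_ge (M := M) p FT _ _ _ hpairT rfl
  have hRD : (R'.map H.subtype).subgroupOf T ≤ D :=
    Cfsg.Agent.S4681.le_of_subpairLE p M _ _ D gD hleD
  have hDdef : IsDefectGroup p M FT D := Cfsg.Agent.S4659.result p M hM FT D gD hmaxD
  have hcard : Nat.card D ≤ Nat.card ((P ⊓ Subgroup.normalizer (Q : Set G)).subgroupOf T) :=
    card_le_of_isDefectGroup hM hFT hDdef hdef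
  have hNT : P ⊓ Subgroup.normalizer (Q : Set G) ≤ T := hNH.trans hHT
  have c1 : Nat.card ((P ⊓ Subgroup.normalizer (Q : Set G)).subgroupOf T) =
      Nat.card (P ⊓ Subgroup.normalizer (Q : Set G) : Subgroup G) :=
    Nat.card_congr (Subgroup.subgroupOfEquivOfLe hNT).toEquiv
  have c2 : Nat.card ((P ⊓ Subgroup.normalizer (Q : Set G)).subgroupOf H) =
      Nat.card (P ⊓ Subgroup.normalizer (Q : Set G) : Subgroup G) :=
    Nat.card_congr (Subgroup.subgroupOfEquivOfLe hNH).toEquiv
  have c3 : Nat.card ((R'.map H.subtype).subgroupOf T) = Nat.card (R'.map H.subtype : Subgroup G) :=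
    Nat.card_congr (Subgroup.subgroupOfEquivOfLe hRT).toEquiv
  have c4 : Nat.card (R'.map H.subtype : Subgroup G) = Nat.card R' :=
    Subgroup.card_map_of_injective (Subgroup.subtype_injective H)
  have h1 : Nat.card R' ≤ Nat.card ((P ⊓ Subgroup.normalizer (Q : Set G)).subgroupOf H) := by
    rw [c2, ← c1, ← c4, ← c3]
    exact (Subgroup.card_le_of_le hRD).trans hcard
  exact (Subgroup.eq_of_le_of_card_ge hNR h1).symm

end existsH

end Cfsg.Agent.Lib.Helper24
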