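import Mathlib
import Cfsg.Agent.Lib.Helper27.BlkAlgDefs2
import Cfsg.Agent.Lib.Helper6.FirstMain
import Cfsg.Agent.Lib.Helper6.BrauerIdem
import Cfsg.Agent.Lib.Helper24.BrauerPairs
import Cfsg.Agent.Lib.Helper24.IrrFacts
import Cfsg.Agent.Lib.Helper14.BlkAlgB4c

/-!
# S4607 leaf B5a: the dimension of the block algebra `ebar_B * F[G]` over the residue field

`finrank_block_of`: against the statement of leaf B4c (`rank_map_eq_of_complete`) as a hypothesis.
The generic part (`gmat`, the group matrix `(k, g) ↦ a (k g⁻¹)` of a coefficient function) is shared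
with the centre version B5b.
-/

set_option autoImplicit false
set_option linter.unusedSectionVars false

namespace Cfsg.Agent.Lib.Helper24.BlkAlgB5a

open Cfsg Cfsg.Agent.Lib.Helper6 Cfsg.Agent.Lib.Helper24
open Cfsg.Agent.Lib.Helper27.BlkAlg

universe u

section gmat

variable {G : Type*} [Group G] [Fintype G] {R : Type*} [CommRing R]

/-- the group matrix of a coefficient function: the matrix of left multiplication by `∑ a(g) g`
in the basis `G`. -/
def gmat (a : G → R) : Matrix G G R := Matrix.of fun k g => a (k * g⁻¹)

@[simp] theorem gmat_apply (a : G → R) (k g : G) : gmat a k g = a (k * g⁻¹) := rfl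

/-- convolution over any commutative ring -/
def gconv (a b : G → R) : G → R := fun x => ∑ g : G, a g * b (g⁻¹ * x)

theorem gmat_mul (a b : G → R) : gmat a * gmat b = gmat (gconv a b) := by
  ext k g
  rw [Matrix.mul_apply, gmat_apply, gconv]
  refine Fintype.sum_equiv ((Equiv.inv G).trans (Equiv.mulLeft k)) _ _ ?_
  intro h
  simp only [gmat_apply, Equiv.trans_apply, Equiv.inv_apply, Equiv.coe_mulLeft]
  congr 2
  group

theorem gmat_delta [DecidableEq G] : gmat (fun g : G => if g = 1 then (1 : R) else 0) = 1 := by
  ext k g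
  rw [gmat_apply, Matrix.one_apply]
  by_cases h : k = g
  · subst h; simp
  · rw [if_neg h, if_neg]
    intro h'
    exact h (by rwa [mul_inv_eq_one] at h')

theorem gmat_zero : gmat (0 : G → R) = 0 := by
  ext k g; simp

theorem gmat_sum {ι : Type*} (s : Finset ι) (a : ι → G → R) :
    gmat (∑ i ∈ s, a i) = ∑ i ∈ s, gmat (a i) := by
  ext k g
  rw [gmat_apply, Finset.sum_apply, Matrix.sum_apply]
  rfl

theorem gmat_map {S : Type*} [CommRing S] (f : R →+* S) (a : G → R) :
    (gmat a).map f = gmat (fun g => f (a g)) := by
  ext k g; rfl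

theorem trace_gmat (a : G → R) : (gmat a).trace = (Fintype.card G : R) * a 1 := by
  simp [Matrix.trace, Finset.sum_const, nsmul_eq_mul]

end gmat

section linalg

/-- rank = trace for an idempotent complex matrix -/
theorem rank_eq_trace_of_idem {n : Type*} [Fintype n] [DecidableEq n] (P : Matrix n n ℂ)
    (hP : P * P = P) : (P.rank : ℂ) = P.trace := by
  have hidem : IsIdempotentElem (Matrix.toLin' P) := by
    show Matrix.toLin' P * Matrix.toLin' P = Matrix.toLin' P
    rw [Module.End.mul_eq_comp, ← Matrix.toLin'_mul, hP]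
  have h := (LinearMap.IsIdempotentElem.isProj_range _ hidem).trace
  rw [Matrix.trace_toLin'_eq] at h
  rw [h]
  rfl

variable {k : Type*} [Field k] {G : Type*} [Group G] [Fintype G]

theorem toMatrix_mulLeft [DecidableEq G] (E : MonoidAlgebra k G) :
    LinearMap.toMatrix (MonoidAlgebra.basis G k) (MonoidAlgebra.basis G k)
      (LinearMap.mulLeft k E) = gmat (fun g => E.coeff g) := by
  ext i j
  rw [LinearMap.toMatrix_apply, MonoidAlgebra.basis_apply, LinearMap.mulLeft_apply, gmat_apply]
  show (E * MonoidAlgebra.single j 1).coeff i = _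
  rw [MonoidAlgebra.coeff_mul_single_apply, mul_one]

theorem finrank_range_mulLeft [DecidableEq G] (E : MonoidAlgebra k G) :
    Module.finrank k (LinearMap.range (LinearMap.mulLeft k E)) =
      (gmat (fun g => E.coeff g)).rank := by
  rw [← toMatrix_mulLeft,
    Matrix.rank_eq_finrank_range_toLin _ (MonoidAlgebra.basis G k) (MonoidAlgebra.basis G k),
    Matrix.toLin_toMatrix]

end linalg

section blk

variable (M : Ideal AlgInt) [M.IsMaximal] {G : Type u} [Group G] [Fintype G]

/-- the block idempotent coefficient function with values in the local subring (junk `0`) -/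
noncomputable def eO (B : Set (IrrCharacter G)) : G → localSubring M := fun g =>
  open Classical in
  if h : MemLocalRing M (blockCoeff B g) then ⟨blockCoeff B g, h⟩ else 0

theorem coe_eO {B : Set (IrrCharacter G)} (hB : IsPBlock M B) (g : G) :
    ((eO M B g : localSubring M) : ℂ) = blockCoeff B g := by
  obtain ⟨χ₀, rfl⟩ := hB
  have h := memLocalRing_blockCoeff_blockOf (M := M) χ₀ g
  simp [eO, h]

theorem red_eO (B : Set (IrrCharacter G)) (g : G) :
    red M (eO M B g) = redC M (blockCoeff B g) := by
  by_cases h : MemLocalRing M (blockCoeff B g)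
  · simp [eO, redC, h]
  · simp [eO, redC, h]

theorem coeff_redFun' (a : G → ℂ) (g : G) : (redFun M a).coeff g = redC M (a g) := by
  classical
  unfold redFun
  rw [MonoidAlgebra.coeff_sum, Finsupp.finsetSum_apply]
  simp only [MonoidAlgebra.coeff_single, Finsupp.single_apply]
  rw [Finset.sum_ite_eq']
  simp

theorem classInd_one_eq [DecidableEq G] :
    (classInd (1 : G)) = fun g : G => if g = 1 then (1 : ℂ) else 0 := by
  funext g
  unfold classInd
  by_cases h : g = 1
  · subst h; simp
  · rw [if_neg h, if_neg]
    intro hc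
    exact h (isConj_one_right.mp hc)

theorem sum_blockCoeff_blocks_eq [Fintype (IrrCharacter G)] :
    ∑ B ∈ blocks M G, blockCoeff B = classInd (1 : G) := by
  classical
  rw [← blockCoeff_univ]
  funext x
  rw [Finset.sum_apply]
  have h := BrauerIdem.blockCoeff_univ_eq_sum_blocks (M := M) x
  rw [h]
  unfold blocks
  rfl

theorem card_mul_blockCoeff_one [Fintype (IrrCharacter G)] (B : Set (IrrCharacter G)) :
    (Fintype.card G : ℂ) * blockCoeff B 1 = (blockDegSq B : ℂ) := by
  classical
  rw [blockCoeff_eq_sum, Nat.card_eq_fintype_card, ← mul_assoc,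
    mul_inv_cancel₀ (Nat.cast_ne_zero.mpr Fintype.card_ne_zero), one_mul]
  unfold blockDegSq
  rw [Nat.cast_sum]
  apply Finset.sum_congr rfl
  intro χ _
  by_cases h : χ ∈ B
  · rw [if_pos h, if_pos h, irr_apply_one χ]
    simp [pow_two]
  · rw [if_neg h, if_neg h]
    simp

/-- LEAF B5a against the statement of B4c. -/
theorem finrank_block_of [DecidableEq G] [Fintype (IrrCharacter G)]
    (hB4c : ∀ (s : Finset (Set (IrrCharacter G)))
      (A : Set (IrrCharacter G) → Matrix G G (localSubring M)),
      (∀ i ∈ s, A i * A i = A i) → (∀ i ∈ s, ∀ j ∈ s, i ≠ j → A i * A j = 0) →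
      ∑ i ∈ s, A i = 1 →
      ∀ i ∈ s, ((A i).map (red M)).rank = ((A i).map (localSubring M).subtype).rank)
    {B : Set (IrrCharacter G)} (hB : IsPBlock M B) :
    Module.finrank (ResField M)
        ↥(LinearMap.range (LinearMap.mulLeft (ResField M) (ebar M B))) = blockDegSq B := by
  have hprime : M.IsPrime := inferInstance
  set ι : localSubring M →+* ℂ := (localSubring M).subtype with hιdef
  have hι : Function.Injective ι := Subtype.val_injective
  set A : Set (IrrCharacter G) → Matrix G G (localSubring M) := fun B' => gmat (eO M B') with hA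
  have hmapι : ∀ B' ∈ blocks M G, ι.mapMatrix (A B') = gmat (blockCoeff B') := by
    intro B' hB'
    ext k g
    simp only [hA, RingHom.mapMatrix_apply, Matrix.map_apply, gmat_apply]
    exact coe_eO M ((mem_blocks M B').mp hB') _
  have hinj : Function.Injective (ι.mapMatrix : Matrix G G (localSubring M) →+* Matrix G G ℂ) := by
    intro X Y hXY
    rw [RingHom.mapMatrix_apply, RingHom.mapMatrix_apply] at hXY
    exact Matrix.map_injective hι hXY
  have hidem : ∀ i ∈ blocks M G, A i * A i = A i := by
    intro i hi
    apply hinj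
    rw [map_mul, hmapι i hi, gmat_mul]
    congr 1
    exact conv_blockCoeff_self i
  have horth : ∀ i ∈ blocks M G, ∀ j ∈ blocks M G, i ≠ j → A i * A j = 0 := by
    intro i hi j hj hij
    apply hinj
    rw [map_mul, hmapι i hi, hmapι j hj, gmat_mul, map_zero]
    have hdisj : Disjoint i j := by
      rw [Set.disjoint_left]
      intro χ h1 h2
      exact hij (isPBlock_eq_of_mem ((mem_blocks M i).mp hi) ((mem_blocks M j).mp hj) h1 h2)
    have : gconv (blockCoeff i) (blockCoeff j) = 0 := conv_blockCoeff_of_disjoint i j hdisj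
    rw [this, gmat_zero]
  have hsum : ∑ i ∈ blocks M G, A i = 1 := by
    apply hinj
    rw [map_sum, map_one, Finset.sum_congr rfl hmapι, ← gmat_sum, sum_blockCoeff_blocks_eq,
      classInd_one_eq, gmat_delta]
  have hBmem : B ∈ blocks M G := (mem_blocks M B).mpr hB
  have hrank := hB4c (blocks M G) A hidem horth hsum B hBmem
  -- the `F`-side
  have hF : (A B).map (red M) = gmat (fun g => (ebar M B).coeff g) := by
    ext k g
    simp only [hA, Matrix.map_apply, gmat_apply]
    rw [red_eO]
    unfold ebar
    rw [coeff_redFun']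
  -- the complex side
  have hC : (A B).map (localSubring M).subtype = gmat (blockCoeff B) := by
    have := hmapι B hBmem
    rwa [RingHom.mapMatrix_apply] at this
  rw [finrank_range_mulLeft, ← hF, hrank, hC]
  have hP : gmat (blockCoeff B) * gmat (blockCoeff B) = gmat (blockCoeff B) := by
    rw [gmat_mul]
    congr 1
    exact conv_blockCoeff_self B
  have h1 := rank_eq_trace_of_idem _ hP
  rw [trace_gmat, card_mul_blockCoeff_one] at h1
  exact_mod_cast h1

variable {p : ℕ} [Fact p.Prime]

/-- LEAF B5a: dimension of the block algebra `ebar_B * F[G]`. -/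
theorem finrank_block [Fintype (IrrCharacter G)] (hM : IsPModular p M) {B : Set (IrrCharacter G)}
    (hB : IsPBlock M B) :
    Module.finrank (ResField M)
        ↥(LinearMap.range (LinearMap.mulLeft (ResField M) (ebar M B))) = blockDegSq B := by
  classical
  exact finrank_block_of M
    (fun s A h1 h2 h3 => Cfsg.Agent.Lib.Helper14.BlkAlgB4c.rank_map_eq_of_complete
      (localSubring M).subtype Subtype.val_injective (red M) s A h1 h2 h3) hB

end blk

end Cfsg.Agent.Lib.Helper24.BlkAlgB5a
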