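import Mathlib
import Cfsg.Prelude.Def_Characters

/-!
# Brauer-Suzuki-Wall, abstract form (S3282): shared vocabulary

`Hyp t s K` bundles the hypotheses of S3282 verbatim; `Concl G` is its conclusion verbatim.
`KK K` / `RR K` : the non-identity elements that are / are not conjugate into `K`.
`invCount y` : number of involutions inverting `y`; `pairCount g` : number of ordered pairs of
involutions with product `g`.  `DataP`, `DataM` : what the character theory hands to the
group-theoretic endgame (cases `q = 2k+1`, `q = 2k-1`, `k = |K|`).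
-/

set_option autoImplicit false

namespace Cfsg.Agent.Lib.Helper24.BSW

variable {G : Type*} [Group G]

/-- The hypotheses of S3282, verbatim. -/
structure Hyp (t s : G) (K : Subgroup G) : Prop where
  ht : orderOf t = 2
  hKab : IsMulCommutative ↥K
  hKH : K ≤ Subgroup.centralizer ({t} : Set G)
  htK : t ∈ K
  hs : orderOf s = 2
  hsH : s ∈ Subgroup.centralizer ({t} : Set G)
  hsK : s ∉ K
  hH : K ⊔ Subgroup.zpowers s = Subgroup.centralizer ({t} : Set G)
  hCK : K ⊓ Subgroup.centralizer ({s} : Set G) = Subgroup.zpowers t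
  hinv : ∀ x ∈ K, s * x * s⁻¹ = x⁻¹
  hTI : ∀ g : G, g ∉ Subgroup.centralizer ({t} : Set G) →
    K ⊓ K.map (MulAut.conj g).toMonoidHom = ⊥
  hconj : ∀ x y : G, orderOf x = 2 → orderOf y = 2 → IsConj x y

/-- The conclusion of S3282, verbatim. -/
def Concl (G : Type*) [Group G] : Prop :=
  ∃ Q D : Subgroup G, 2 * Nat.card G = Nat.card ↥Q * (Nat.card ↥Q + 1) * (Nat.card ↥Q - 1) ∧
      (∀ x ∈ Q, x ≠ 1 → Subgroup.centralizer ({x} : Set G) = Q) ∧
      IsMulCommutative ↥D ∧ 2 * Nat.card ↥D + 1 = Nat.card ↥Q ∧ Q ⊓ D = ⊥ ∧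
      Subgroup.normalizer (Q : Set G) = Q ⊔ D ∧
      ∀ X : Subgroup G, X ≤ D → X ≠ ⊥ →
        Subgroup.normalizer (X : Set G) = Subgroup.normalizer (D : Set G) ∧
        ∃ u : G, orderOf u = 2 ∧ u ∉ D ∧ (∀ d ∈ D, u * d * u⁻¹ = d⁻¹) ∧
          Subgroup.normalizer (D : Set G) = D ⊔ Subgroup.zpowers u

/-- non-identity elements conjugate into `K` -/
def KK (K : Subgroup G) : Set G := {g | g ≠ 1 ∧ ∃ x : G, x * g * x⁻¹ ∈ K}

/-- non-identity elements not conjugate into `K` -/
def RR (K : Subgroup G) : Set G := {g | g ≠ 1 ∧ ∀ x : G, x * g * x⁻¹ ∉ K}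

/-- the number of involutions inverting `y` -/
noncomputable def invCount (y : G) : ℕ :=
  Nat.card {u : G // orderOf u = 2 ∧ u * y * u⁻¹ = y⁻¹}

/-- the number of ordered pairs of involutions with product `g` -/
noncomputable def pairCount (g : G) : ℕ :=
  Nat.card {p : G × G // orderOf p.1 = 2 ∧ orderOf p.2 = 2 ∧ p.1 * p.2 = g}

/-- Output of the character theory in the case `q = 2k+1` (`k = |K|`):
`|G| = k q (q+1)`, every `y ∈ RR K` is inverted by exactly `q` or `k+1` involutions, some `y` by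
`q`, and at most `q^2-1` elements by `q`. -/
structure DataP (K : Subgroup G) : Prop where
  card : Nat.card G = Nat.card K * (2 * Nat.card K + 1) * (2 * Nat.card K + 2)
  cnt : ∀ y ∈ RR K, invCount y = 2 * Nat.card K + 1 ∨ invCount y = Nat.card K + 1
  ex : ∃ y ∈ RR K, invCount y = 2 * Nat.card K + 1
  le : Nat.card {y : G // y ∈ RR K ∧ invCount y = 2 * Nat.card K + 1} ≤
    (2 * Nat.card K + 1) ^ 2 - 1

/-- Output of the character theory in the case `q = 2k-1` (`k = |K|`): an irreducible character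
`X` of degree `q`, equal to `-1` on `KK K`, with `|G| = k q (q-1)`; each `y ∈ RR K` has either
`X y = 0` and is inverted by no involution, or `X y = 1` and is inverted by exactly `k-1`; there
are exactly `q^2-1 = 4k(k-1)` elements of the first kind. -/
structure DataM (K : Subgroup G) (X : G → ℂ) : Prop where
  irr : Cfsg.IsIrrCharacter G X
  deg : X 1 = 2 * (Nat.card K : ℂ) - 1
  card : Nat.card G = Nat.card K * (2 * Nat.card K - 1) * (2 * Nat.card K - 2)
  onKK : ∀ g ∈ KK K, X g = -1
  onRR : ∀ y ∈ RR K, (X y = 0 ∧ invCount y = 0) ∨ (X y = 1 ∧ invCount y = Nat.card K - 1)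
  card0 : Nat.card {y : G // y ∈ RR K ∧ X y = 0} = 4 * Nat.card K * (Nat.card K - 1)

end Cfsg.Agent.Lib.Helper24.BSW
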