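import Mathlib
import Cfsg.Prelude.Def_ClassicalGeometry
import Cfsg.Prelude.Def_GeometricClasses
import Cfsg.Agent.Lib.Helper5.SpMax

/-!
Shared definitions for S5886 (`ΓL_{n/r}(q^r)` is maximal in `GL_n(q)` / `SL_n(q)`, `r` prime): a field `E`
acting on `V = F^n` through an algebra map `ρ`; the `E`-lines; `E`-linear functionals (`IsEL`);
the `E`-transvections `tv φ v : x ↦ x + (φ x) v`; the `F`-transvections `ftv p χ : x ↦ x + χ(x) p`;
images of subspaces.  Modelled on helper22's `C3sDefs` (S5664), without any form.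
-/

set_option autoImplicit false
set_option linter.unusedSectionVars false
set_option linter.unusedVariables false
set_option linter.unusedSimpArgs false

namespace Cfsg.Agent.Lib.Helper24.C3l
open Cfsg Matrix Polynomial Cfsg.Agent.Lib.Helper5 Cfsg.Agent.Lib.Helper5.SpMax

/-- over a field, `det (1 + N) = 1` when `N * N = 0` -/
lemma det_one_add_of_sq_zero {F : Type*} [Field F] {ι : Type*} [Fintype ι] [DecidableEq ι]
    (N : Matrix ι ι F) (h : N * N = 0) : (1 + N).det = 1 := by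
  have hnil : IsNilpotent (-N) := ⟨2, by rw [pow_two, neg_mul_neg, h]⟩
  have hu := Matrix.isUnit_charpolyRev_of_isNilpotent hnil
  obtain ⟨c, hc, hcp⟩ := Polynomial.isUnit_iff.mp hu
  have h0 : eval 0 (-N).charpolyRev = 1 := Matrix.eval_charpolyRev
  rw [← hcp, eval_C] at h0
  have h1 : (-N).charpolyRev = 1 := by rw [← hcp, h0, map_one]
  have h2 : eval 1 (-N).charpolyRev = (1 + N).det := by
    rw [Matrix.charpolyRev, ← coe_evalRingHom, RingHom.map_det]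
    congr 1
    ext i j
    simp [Matrix.sub_apply, Matrix.one_apply, Matrix.add_apply]
    split_ifs <;> simp
  rw [← h2, h1, eval_one]

/-- a field `E` acting on `F^n` through an algebra map -/
structure KL (n : ℕ) (F : Type*) [Field F] (E : Type*) [Field E] [Algebra F E] where
  ρ : E →ₐ[F] Matrix (Fin n) (Fin n) F

variable {F : Type*} [Field F] {n : ℕ} {E : Type*} [Field E] [Algebra F E]

local notation "𝕍" => (Fin n → F)
local notation "𝕄" => Matrix (Fin n) (Fin n) F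

namespace KL
variable (S : KL n F E)

/-- the action of `e : E` on vectors -/
def act (e : E) (x : 𝕍) : 𝕍 := S.ρ e *ᵥ x

lemma act_def (e : E) (x : 𝕍) : S.act e x = S.ρ e *ᵥ x := rfl

@[simp] lemma act_one (x : 𝕍) : S.act 1 x = x := by
  rw [act_def, map_one, Matrix.one_mulVec]

@[simp] lemma act_zero (x : 𝕍) : S.act 0 x = 0 := by
  rw [act_def, map_zero, Matrix.zero_mulVec]

@[simp] lemma act_vzero (e : E) : S.act e (0 : 𝕍) = 0 := by
  rw [act_def, Matrix.mulVec_zero]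

lemma act_mul (e e' : E) (x : 𝕍) : S.act (e * e') x = S.act e (S.act e' x) := by
  rw [act_def, act_def, act_def, map_mul, Matrix.mulVec_mulVec]

lemma act_add (e e' : E) (x : 𝕍) : S.act (e + e') x = S.act e x + S.act e' x := by
  rw [act_def, act_def, act_def, map_add, Matrix.add_mulVec]

lemma act_sub (e e' : E) (x : 𝕍) : S.act (e - e') x = S.act e x - S.act e' x := by
  rw [act_def, act_def, act_def, map_sub, Matrix.sub_mulVec]

lemma act_neg (e : E) (x : 𝕍) : S.act (-e) x = - S.act e x := by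
  rw [act_def, act_def, map_neg, Matrix.neg_mulVec]

lemma act_vadd (e : E) (x y : 𝕍) : S.act e (x + y) = S.act e x + S.act e y := by
  rw [act_def, act_def, act_def, Matrix.mulVec_add]

lemma act_vsub (e : E) (x y : 𝕍) : S.act e (x - y) = S.act e x - S.act e y := by
  rw [act_def, act_def, act_def, Matrix.mulVec_sub]

lemma act_vneg (e : E) (x : 𝕍) : S.act e (-x) = - S.act e x := by
  rw [act_def, act_def, Matrix.mulVec_neg]

lemma act_vsmul (e : E) (c : F) (x : 𝕍) : S.act e (c • x) = c • S.act e x := by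
  rw [act_def, act_def, Matrix.mulVec_smul]

lemma act_algebraMap (c : F) (x : 𝕍) : S.act (algebraMap F E c) x = c • x := by
  rw [act_def, AlgHom.commutes, Algebra.algebraMap_eq_smul_one, Matrix.smul_mulVec,
    Matrix.one_mulVec]

lemma act_smul (c : F) (e : E) (x : 𝕍) : S.act (c • e) x = c • S.act e x := by
  rw [act_def, act_def, map_smul, Matrix.smul_mulVec]

lemma act_comm (e e' : E) (x : 𝕍) : S.act e (S.act e' x) = S.act e' (S.act e x) := by
  rw [← act_mul, ← act_mul, mul_comm]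

lemma act_inv_act {e : E} (he : e ≠ 0) (x : 𝕍) : S.act e⁻¹ (S.act e x) = x := by
  rw [← act_mul, inv_mul_cancel₀ he, act_one]

lemma act_act_inv {e : E} (he : e ≠ 0) (x : 𝕍) : S.act e (S.act e⁻¹ x) = x := by
  rw [← act_mul, mul_inv_cancel₀ he, act_one]

lemma act_eq_zero {e : E} {x : 𝕍} (h : S.act e x = 0) : e = 0 ∨ x = 0 := by
  by_cases he : e = 0
  · exact Or.inl he
  · right
    rw [← S.act_inv_act he x, h, act_vzero]

/-- the linear map `e ↦ e v` -/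
def orb (v : 𝕍) : E →ₗ[F] 𝕍 where
  toFun e := S.act e v
  map_add' e e' := S.act_add e e' v
  map_smul' c e := by
    simp only [RingHom.id_apply]
    exact S.act_smul c e v

/-- the `E`-line of `v` as an `F`-subspace -/
def line (v : 𝕍) : Submodule F 𝕍 := LinearMap.range (S.orb v)

lemma mem_line {v x : 𝕍} : x ∈ S.line v ↔ ∃ e, S.act e v = x := by
  unfold line
  rw [LinearMap.mem_range]
  rfl

lemma act_mem_line (e : E) (v : 𝕍) : S.act e v ∈ S.line v := S.mem_line.mpr ⟨e, rfl⟩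

lemma self_mem_line (v : 𝕍) : v ∈ S.line v := S.mem_line.mpr ⟨1, S.act_one v⟩

lemma act_mem_line_of_mem {v x : 𝕍} (hx : x ∈ S.line v) (e : E) : S.act e x ∈ S.line v := by
  obtain ⟨e', rfl⟩ := S.mem_line.mp hx
  rw [← act_mul]
  exact S.act_mem_line _ _

lemma line_eq_of_mem {v x : 𝕍} (hx : x ∈ S.line v) (hx0 : x ≠ 0) : S.line x = S.line v := by
  obtain ⟨e, rfl⟩ := S.mem_line.mp hx
  have he : e ≠ 0 := by
    rintro rfl
    exact hx0 (S.act_zero v)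
  apply le_antisymm
  · intro y hy
    obtain ⟨e', rfl⟩ := S.mem_line.mp hy
    rw [← act_mul]
    exact S.act_mem_line _ _
  · intro y hy
    obtain ⟨e', rfl⟩ := S.mem_line.mp hy
    apply S.mem_line.mpr
    refine ⟨e' * e⁻¹, ?_⟩
    rw [act_mul, S.act_inv_act he]

lemma orb_injective {v : 𝕍} (hv : v ≠ 0) : Function.Injective (S.orb v) := by
  rw [← LinearMap.ker_eq_bot, LinearMap.ker_eq_bot']
  intro e he
  rcases S.act_eq_zero he with h | h
  · exact h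
  · exact absurd h hv

lemma finrank_line {v : 𝕍} (hv : v ≠ 0) : Module.finrank F (S.line v) = Module.finrank F E := by
  unfold line
  exact LinearMap.finrank_range_of_inj (S.orb_injective hv)


end KL

/-! ### matrices from linear maps -/

/-- the element `1 + N` of `GL` for `N * N = 0` -/
def unipGL (N : 𝕄) (h : N * N = 0) : GL (Fin n) F :=
  ⟨1 + N, 1 - N, by rw [mul_sub, mul_one, add_mul, one_mul, h]; abel,
    by rw [sub_mul, one_mul, mul_add, mul_one, h]; abel⟩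

lemma unipGL_val (N : 𝕄) (h : N * N = 0) : ((unipGL N h : GL (Fin n) F) : 𝕄) = 1 + N := rfl

lemma unipGL_mulVec (N : 𝕄) (h : N * N = 0) (x : 𝕍) :
    ((unipGL N h : GL (Fin n) F) : 𝕄) *ᵥ x = x + N *ᵥ x := by
  change (1 + N) *ᵥ x = _
  rw [Matrix.add_mulVec, Matrix.one_mulVec]

lemma unipGL_inv_mulVec (N : 𝕄) (h : N * N = 0) (x : 𝕍) :
    (((unipGL N h)⁻¹ : GL (Fin n) F) : 𝕄) *ᵥ x = x - N *ᵥ x := by
  change (1 - N) *ᵥ x = _
  rw [Matrix.sub_mulVec, Matrix.one_mulVec]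

lemma mem_specialLinear {g : GL (Fin n) F} :
    g ∈ Cfsg.Geo.specialLinear (Fin n) F ↔ (g : 𝕄).det = 1 := by
  unfold Cfsg.Geo.specialLinear
  rw [MonoidHom.mem_ker]
  constructor
  · intro h
    have := congrArg Units.val h
    simpa using this
  · intro h
    apply Units.ext
    simpa using h

lemma unipGL_mem_specialLinear (N : 𝕄) (h : N * N = 0) :
    unipGL N h ∈ Cfsg.Geo.specialLinear (Fin n) F := by
  rw [mem_specialLinear, unipGL_val]
  exact det_one_add_of_sq_zero N h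

namespace KL
variable (S : KL n F E)

/-! ### `E`-linear functionals and `E`-transvections -/

/-- an `F`-linear map `V → E` which is `E`-linear -/
def IsEL (φ : 𝕍 →ₗ[F] E) : Prop := ∀ (e : E) (x : 𝕍), φ (S.act e x) = e * φ x

/-- the linear map `x ↦ (φ x) v` -/
def tvLin (φ : 𝕍 →ₗ[F] E) (v : 𝕍) : 𝕍 →ₗ[F] 𝕍 where
  toFun x := S.act (φ x) v
  map_add' x y := by rw [map_add, S.act_add]
  map_smul' c x := by
    simp only [RingHom.id_apply]
    rw [map_smul, S.act_smul]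

/-- the matrix of `x ↦ (φ x) v` -/
def tvMat (φ : 𝕍 →ₗ[F] E) (v : 𝕍) : 𝕄 := LinearMap.toMatrix' (S.tvLin φ v)

lemma tvMat_mulVec (φ : 𝕍 →ₗ[F] E) (v x : 𝕍) : S.tvMat φ v *ᵥ x = S.act (φ x) v := by
  unfold tvMat
  rw [← Matrix.toLin'_apply, Matrix.toLin'_toMatrix']
  rfl

lemma tvMat_sq {φ : 𝕍 →ₗ[F] E} {v : 𝕍} (hφ : S.IsEL φ) (hv : φ v = 0) :
    S.tvMat φ v * S.tvMat φ v = 0 := by
  apply mat_eq_of_mulVec
  intro x
  rw [← Matrix.mulVec_mulVec, tvMat_mulVec, tvMat_mulVec, hφ, hv, mul_zero, S.act_zero,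
    Matrix.zero_mulVec]

/-- the `E`-transvection `x ↦ x + (φ x) v`, for `φ` `E`-linear with `φ v = 0` -/
def tv (φ : 𝕍 →ₗ[F] E) (v : 𝕍) (hφ : S.IsEL φ) (hv : φ v = 0) : GL (Fin n) F :=
  unipGL (S.tvMat φ v) (S.tvMat_sq hφ hv)

lemma tv_val {φ : 𝕍 →ₗ[F] E} {v : 𝕍} (hφ : S.IsEL φ) (hv : φ v = 0) :
    ((S.tv φ v hφ hv : GL (Fin n) F) : 𝕄) = 1 + S.tvMat φ v := rfl

lemma tv_mulVec {φ : 𝕍 →ₗ[F] E} {v : 𝕍} (hφ : S.IsEL φ) (hv : φ v = 0) (x : 𝕍) :
    ((S.tv φ v hφ hv : GL (Fin n) F) : 𝕄) *ᵥ x = x + S.act (φ x) v := by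
  unfold tv
  rw [unipGL_mulVec, tvMat_mulVec]

lemma tv_inv_mulVec {φ : 𝕍 →ₗ[F] E} {v : 𝕍} (hφ : S.IsEL φ) (hv : φ v = 0) (x : 𝕍) :
    (((S.tv φ v hφ hv)⁻¹ : GL (Fin n) F) : 𝕄) *ᵥ x = x - S.act (φ x) v := by
  unfold tv
  rw [unipGL_inv_mulVec, tvMat_mulVec]

lemma tv_mem_specialLinear {φ : 𝕍 →ₗ[F] E} {v : 𝕍} (hφ : S.IsEL φ) (hv : φ v = 0) :
    S.tv φ v hφ hv ∈ Cfsg.Geo.specialLinear (Fin n) F :=
  unipGL_mem_specialLinear _ _

lemma tv_comm {φ : 𝕍 →ₗ[F] E} {v : 𝕍} (hφ : S.IsEL φ) (hv : φ v = 0) (e : E) :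
    ((S.tv φ v hφ hv : GL (Fin n) F) : 𝕄) * S.ρ e = S.ρ e * ((S.tv φ v hφ hv : GL (Fin n) F) : 𝕄) := by
  apply mat_eq_of_mulVec
  intro x
  rw [← Matrix.mulVec_mulVec, ← Matrix.mulVec_mulVec, tv_mulVec, tv_mulVec, ← S.act_def,
    ← S.act_def, hφ, S.act_vadd, ← S.act_mul]

/-- `M` contains the centraliser of `E` in `SL`: the standing hypothesis of all leaves -/
def CenLe (M : Subgroup (GL (Fin n) F)) : Prop :=
  ∀ g ∈ Cfsg.Geo.specialLinear (Fin n) F, (∀ e : E, (g : 𝕄) * S.ρ e = S.ρ e * (g : 𝕄)) → g ∈ M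

lemma tv_mem_of {M : Subgroup (GL (Fin n) F)} (hM : S.CenLe M) {φ : 𝕍 →ₗ[F] E} {v : 𝕍}
    (hφ : S.IsEL φ) (hv : φ v = 0) : S.tv φ v hφ hv ∈ M :=
  hM _ (S.tv_mem_specialLinear hφ hv) (S.tv_comm hφ hv)

end KL

/-! ### `F`-transvections -/

/-- the linear map `x ↦ χ(x) p` -/
def rkLin (p : 𝕍) (χ : 𝕍 →ₗ[F] F) : 𝕍 →ₗ[F] 𝕍 where
  toFun x := χ x • p
  map_add' x y := by rw [map_add, add_smul]
  map_smul' c x := by
    simp only [RingHom.id_apply]
    rw [map_smul, smul_eq_mul, mul_smul]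

/-- the matrix of `x ↦ χ(x) p` -/
def rkMat (p : 𝕍) (χ : 𝕍 →ₗ[F] F) : 𝕄 := LinearMap.toMatrix' (rkLin p χ)

lemma rkMat_mulVec (p : 𝕍) (χ : 𝕍 →ₗ[F] F) (x : 𝕍) : rkMat p χ *ᵥ x = χ x • p := by
  unfold rkMat
  rw [← Matrix.toLin'_apply, Matrix.toLin'_toMatrix']
  rfl

lemma rkMat_sq {p : 𝕍} {χ : 𝕍 →ₗ[F] F} (h : χ p = 0) : rkMat p χ * rkMat p χ = 0 := by
  apply mat_eq_of_mulVec
  intro x
  rw [← Matrix.mulVec_mulVec, rkMat_mulVec, rkMat_mulVec, map_smul, h, smul_zero, zero_smul,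
    Matrix.zero_mulVec]

/-- the `F`-transvection `x ↦ x + χ(x) p`, for `χ p = 0` -/
def ftv (p : 𝕍) (χ : 𝕍 →ₗ[F] F) (h : χ p = 0) : GL (Fin n) F := unipGL (rkMat p χ) (rkMat_sq h)

lemma ftv_val {p : 𝕍} {χ : 𝕍 →ₗ[F] F} (h : χ p = 0) :
    ((ftv p χ h : GL (Fin n) F) : 𝕄) = 1 + rkMat p χ := rfl

lemma ftv_mulVec {p : 𝕍} {χ : 𝕍 →ₗ[F] F} (h : χ p = 0) (x : 𝕍) :
    ((ftv p χ h : GL (Fin n) F) : 𝕄) *ᵥ x = x + χ x • p := by
  unfold ftv
  rw [unipGL_mulVec, rkMat_mulVec]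

lemma ftv_inv_mulVec {p : 𝕍} {χ : 𝕍 →ₗ[F] F} (h : χ p = 0) (x : 𝕍) :
    (((ftv p χ h)⁻¹ : GL (Fin n) F) : 𝕄) *ᵥ x = x - χ x • p := by
  unfold ftv
  rw [unipGL_inv_mulVec, rkMat_mulVec]

lemma ftv_mem_specialLinear {p : 𝕍} {χ : 𝕍 →ₗ[F] F} (h : χ p = 0) :
    ftv p χ h ∈ Cfsg.Geo.specialLinear (Fin n) F :=
  unipGL_mem_specialLinear _ _

/-- `M` contains a non-trivial `F`-transvection -/
def HasTv (M : Subgroup (GL (Fin n) F)) : Prop :=
  ∃ (p : 𝕍) (χ : 𝕍 →ₗ[F] F) (h : χ p = 0), p ≠ 0 ∧ χ ≠ 0 ∧ ftv p χ h ∈ M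

/-- a unit of `GL` whose matrix is `1 + X` -/
lemma exists_ftv_of_rank_one {M : Subgroup (GL (Fin n) F)} {y : GL (Fin n) F} (hy : y ∈ M)
    {p : 𝕍} {χ : 𝕍 →ₗ[F] F} (hp : p ≠ 0) (hχ : χ ≠ 0) (h : χ p = 0)
    (hyx : ∀ x, (y : 𝕄) *ᵥ x = x + χ x • p) : HasTv M := by
  refine ⟨p, χ, h, hp, hχ, ?_⟩
  have : ftv p χ h = y := by
    apply Units.ext
    apply mat_eq_of_mulVec
    intro x
    rw [ftv_mulVec, hyx]
  rw [this]
  exact hy

/-! ### images of subspaces -/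

/-- the image of a subspace under an element of `GL` -/
def img (g : GL (Fin n) F) (W : Submodule F 𝕍) : Submodule F 𝕍 :=
  W.map (Matrix.toLin' (g : 𝕄))

lemma mem_img {g : GL (Fin n) F} {W : Submodule F 𝕍} {x : 𝕍} :
    x ∈ img g W ↔ ∃ w ∈ W, (g : 𝕄) *ᵥ w = x := by
  unfold img
  rw [Submodule.mem_map]
  simp only [Matrix.toLin'_apply]

lemma mulVec_mem_img {g : GL (Fin n) F} {W : Submodule F 𝕍} {w : 𝕍} (hw : w ∈ W) :
    (g : 𝕄) *ᵥ w ∈ img g W := mem_img.mpr ⟨w, hw, rfl⟩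

lemma mem_img_iff {g : GL (Fin n) F} {W : Submodule F 𝕍} {x : 𝕍} :
    x ∈ img g W ↔ ((g⁻¹ : GL (Fin n) F) : 𝕄) *ᵥ x ∈ W := by
  rw [mem_img]
  constructor
  · rintro ⟨w, hw, rfl⟩
    rwa [inv_mul_mulVec]
  · intro h
    exact ⟨_, h, mul_inv_mulVec g x⟩


lemma finrank_img (g : GL (Fin n) F) (W : Submodule F 𝕍) :
    Module.finrank F ↥(img g W) = Module.finrank F W := by
  have hinj : Function.Injective (Matrix.toLin' (g : 𝕄)) := by
    intro x y hxy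
    rw [Matrix.toLin'_apply, Matrix.toLin'_apply] at hxy
    exact mulVec_inj g hxy
  exact (Submodule.equivMapOfInjective _ hinj W).finrank_eq.symm

lemma img_mul (g h : GL (Fin n) F) (W : Submodule F 𝕍) : img (g * h) W = img g (img h W) := by
  ext x
  rw [mem_img, mem_img]
  constructor
  · rintro ⟨w, hw, rfl⟩
    refine ⟨(h : 𝕄) *ᵥ w, mulVec_mem_img hw, ?_⟩
    rw [Units.val_mul, Matrix.mulVec_mulVec]
  · rintro ⟨y, hy, rfl⟩
    obtain ⟨w, hw, rfl⟩ := mem_img.mp hy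
    refine ⟨w, hw, ?_⟩
    rw [Units.val_mul, Matrix.mulVec_mulVec]

end Cfsg.Agent.Lib.Helper24.C3l
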