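import Mathlib
import Cfsg.Prelude.Def_ClassicalGeometry
import Cfsg.Prelude.Def_GeometricClasses
import Cfsg.Agent.Lib.Helper5.SpMax
import Cfsg.Agent.Lib.Helper24.C3lDefs

/-!
Toolkit for S5886 on top of `C3lDefs`: `E`-stable `F`-subspaces (`IsES`), closure properties of
`E`-linear functionals (`IsEL`), and the existence lemma `exists_isEL`: an `E`-linear functional
vanishing on an `E`-stable subspace `W` and taking the value `1` at a given vector outside `W`.
-/

set_option autoImplicit false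
set_option linter.unusedSectionVars false
set_option linter.unusedVariables false
set_option linter.unusedSimpArgs false

namespace Cfsg.Agent.Lib.Helper24.C3l
open Cfsg Matrix Module Cfsg.Agent.Lib.Helper5 Cfsg.Agent.Lib.Helper5.SpMax

variable {F : Type*} [Field F] {n : ℕ} {E : Type*} [Field E] [Algebra F E]

local notation "𝕍" => (Fin n → F)
local notation "𝕄" => Matrix (Fin n) (Fin n) F

namespace KL
variable (S : KL n F E)

/-! ### `E`-stable subspaces -/

/-- an `F`-subspace stable under the action of `E` -/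
def IsES (W : Submodule F 𝕍) : Prop := ∀ (e : E) (x : 𝕍), x ∈ W → S.act e x ∈ W

lemma isES_bot : S.IsES ⊥ := by
  intro e x hx
  rw [Submodule.mem_bot] at hx ⊢
  rw [hx, S.act_vzero]

lemma isES_top : S.IsES ⊤ := fun e x _ => Submodule.mem_top

lemma isES_line (v : 𝕍) : S.IsES (S.line v) := fun e x hx => S.act_mem_line_of_mem hx e

lemma isES_sup {W W' : Submodule F 𝕍} (h : S.IsES W) (h' : S.IsES W') : S.IsES (W ⊔ W') := by
  intro e x hx
  obtain ⟨y, hy, z, hz, rfl⟩ := Submodule.mem_sup.mp hx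
  rw [S.act_vadd]
  exact Submodule.mem_sup.mpr ⟨_, h e y hy, _, h' e z hz, rfl⟩

lemma isES_inf {W W' : Submodule F 𝕍} (h : S.IsES W) (h' : S.IsES W') : S.IsES (W ⊓ W') :=
  fun e x hx => ⟨h e x hx.1, h' e x hx.2⟩

lemma line_le_of_mem {W : Submodule F 𝕍} (h : S.IsES W) {v : 𝕍} (hv : v ∈ W) : S.line v ≤ W := by
  intro x hx
  obtain ⟨e, rfl⟩ := S.mem_line.mp hx
  exact h e v hv

/-! ### closure properties of `E`-linear functionals -/

lemma isEL_zero : S.IsEL (0 : 𝕍 →ₗ[F] E) := by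
  intro e x
  simp

lemma IsEL.add {φ ψ : 𝕍 →ₗ[F] E} (hφ : S.IsEL φ) (hψ : S.IsEL ψ) : S.IsEL (φ + ψ) := by
  intro e x
  rw [LinearMap.add_apply, LinearMap.add_apply, hφ, hψ, mul_add]

lemma IsEL.sub {φ ψ : 𝕍 →ₗ[F] E} (hφ : S.IsEL φ) (hψ : S.IsEL ψ) : S.IsEL (φ - ψ) := by
  intro e x
  rw [LinearMap.sub_apply, LinearMap.sub_apply, hφ, hψ, mul_sub]

lemma IsEL.neg {φ : 𝕍 →ₗ[F] E} (hφ : S.IsEL φ) : S.IsEL (-φ) := by
  intro e x
  rw [LinearMap.neg_apply, LinearMap.neg_apply, hφ, mul_neg]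

/-- the functional `x ↦ c * φ x` -/
def cmul (c : E) (φ : 𝕍 →ₗ[F] E) : 𝕍 →ₗ[F] E := (LinearMap.mulLeft F c).comp φ

@[simp] lemma cmul_apply (c : E) (φ : 𝕍 →ₗ[F] E) (x : 𝕍) : cmul c φ x = c * φ x := rfl

lemma IsEL.cmul {φ : 𝕍 →ₗ[F] E} (hφ : S.IsEL φ) (c : E) : S.IsEL (cmul c φ) := by
  intro e x
  rw [cmul_apply, cmul_apply, hφ]
  ring

lemma IsEL.map_line {φ : 𝕍 →ₗ[F] E} (hφ : S.IsEL φ) {v x : 𝕍} (hv : φ v = 0) (hx : x ∈ S.line v) :
    φ x = 0 := by
  obtain ⟨e, rfl⟩ := S.mem_line.mp hx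
  rw [hφ, hv, mul_zero]

lemma IsEL.isES_ker {φ : 𝕍 →ₗ[F] E} (hφ : S.IsEL φ) : S.IsES (LinearMap.ker φ) := by
  intro e x hx
  rw [LinearMap.mem_ker] at hx ⊢
  rw [hφ, hx, mul_zero]

/-! ### the `E`-module structure and the existence of functionals -/

/-- `F^n` as an `E`-module -/
def VE (S : KL n F E) : Type _ := Fin n → F

instance : AddCommGroup S.VE := inferInstanceAs (AddCommGroup (Fin n → F))

instance : Module E S.VE where
  smul e x := S.act e x
  one_smul x := S.act_one x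
  mul_smul e e' x := S.act_mul e e' x
  smul_zero e := S.act_vzero e
  smul_add e x y := S.act_vadd e x y
  add_smul e e' x := S.act_add e e' x
  zero_smul x := S.act_zero x

/-- the identity map `F^n → VE` -/
def toVE (x : 𝕍) : S.VE := x

lemma toVE_add (x y : 𝕍) : S.toVE (x + y) = S.toVE x + S.toVE y := rfl

lemma toVE_act (e : E) (x : 𝕍) : S.toVE (S.act e x) = e • S.toVE x := rfl

/-- F1: an `E`-linear functional vanishing on an `E`-stable subspace, with value `1` at a given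
vector outside it -/
theorem exists_isEL {W : Submodule F 𝕍} (hW : S.IsES W) {v : 𝕍} (hv : v ∉ W) :
    ∃ φ : 𝕍 →ₗ[F] E, S.IsEL φ ∧ (∀ x ∈ W, φ x = 0) ∧ φ v = 1 := by
  let W' : Submodule E S.VE :=
    { carrier := {x | (x : 𝕍) ∈ W}
      add_mem' := fun {a b} ha hb => W.add_mem ha hb
      zero_mem' := W.zero_mem
      smul_mem' := fun e x hx => hW e x hx }
  have hv' : S.toVE v ∉ W' := hv
  obtain ⟨f, hfv, hWf⟩ := Submodule.exists_le_ker_of_notMem hv'
  have hsm : ∀ (e : E) (x : 𝕍), f (S.toVE (S.act e x)) = e * f (S.toVE x) := by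
    intro e x
    rw [toVE_act, f.map_smul, smul_eq_mul]
  have hadd : ∀ x y : 𝕍, f (S.toVE (x + y)) = f (S.toVE x) + f (S.toVE y) := by
    intro x y
    rw [toVE_add, f.map_add]
  refine ⟨{ toFun := fun x => (f (S.toVE v))⁻¹ * f (S.toVE x)
            map_add' := ?_
            map_smul' := ?_ }, ?_, ?_, ?_⟩
  · intro x y
    rw [hadd, mul_add]
  · intro c x
    simp only [RingHom.id_apply]
    rw [← S.act_algebraMap, hsm, Algebra.smul_def]
    ring
  · intro e x
    show (f (S.toVE v))⁻¹ * f (S.toVE (S.act e x)) = e * ((f (S.toVE v))⁻¹ * f (S.toVE x))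
    rw [hsm]
    ring
  · intro x hx
    show (f (S.toVE v))⁻¹ * f (S.toVE x) = 0
    have : S.toVE x ∈ LinearMap.ker f := hWf hx
    rw [LinearMap.mem_ker] at this
    rw [this, mul_zero]
  · show (f (S.toVE v))⁻¹ * f (S.toVE v) = 1
    exact inv_mul_cancel₀ hfv

/-- an `E`-linear functional with `φ v = 1` -/
lemma exists_isEL_one {v : 𝕍} (hv : v ≠ 0) : ∃ φ : 𝕍 →ₗ[F] E, S.IsEL φ ∧ φ v = 1 := by
  have : v ∉ (⊥ : Submodule F 𝕍) := by
    rw [Submodule.mem_bot]
    exact hv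
  obtain ⟨φ, h1, _, h3⟩ := S.exists_isEL S.isES_bot this
  exact ⟨φ, h1, h3⟩

/-- an `E`-linear functional with `φ v₀ = 0` and `φ w = 1`, for `w` outside the line of `v₀` -/
lemma exists_isEL_line {v₀ w : 𝕍} (hw : w ∉ S.line v₀) :
    ∃ φ : 𝕍 →ₗ[F] E, S.IsEL φ ∧ φ v₀ = 0 ∧ (∀ x ∈ S.line v₀, φ x = 0) ∧ φ w = 1 := by
  obtain ⟨φ, h1, h2, h3⟩ := S.exists_isEL (S.isES_line v₀) hw
  exact ⟨φ, h1, h2 _ (S.self_mem_line v₀), h2, h3⟩

/-! ### vectors outside small subspaces -/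

lemma finrank_line_le [FiniteDimensional F E] (v : 𝕍) : finrank F (S.line v) ≤ finrank F E := by
  unfold line
  exact LinearMap.finrank_range_le (S.orb v)

lemma exists_not_mem_of_finrank_lt {W : Submodule F 𝕍} (h : finrank F W < n) : ∃ y : 𝕍, y ∉ W := by
  by_contra hcon
  push Not at hcon
  have : W = ⊤ := by
    rw [eq_top_iff]
    intro x _
    exact hcon x
  rw [this, finrank_top, Module.finrank_fin_fun] at h
  exact lt_irrefl _ h

lemma exists_not_mem_line [FiniteDimensional F E] (hlt : finrank F E < n) (v : 𝕍) :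
    ∃ y : 𝕍, y ∉ S.line v :=
  exists_not_mem_of_finrank_lt (lt_of_le_of_lt (S.finrank_line_le v) hlt)

lemma exists_not_mem_sup [FiniteDimensional F E] (h3 : 2 * finrank F E < n) (v w : 𝕍) :
    ∃ y : 𝕍, y ∉ S.line v ⊔ S.line w := by
  apply exists_not_mem_of_finrank_lt
  have h1 := Submodule.finrank_add_le_finrank_add_finrank (S.line v) (S.line w)
  have h2 := S.finrank_line_le v
  have h2' := S.finrank_line_le w
  omega

end KL

end Cfsg.Agent.Lib.Helper24.C3l
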