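import Mathlib
import Cfsg.Prelude.Def_ClassicalGeometry
import Cfsg.Prelude.Def_GeometricClasses
import Cfsg.Agent.Lib.Helper5.SpMax
import Cfsg.Agent.Lib.Helper24.C3lDefs
import Cfsg.Agent.Lib.Helper24.C3lEL

/-!
S5886, stage FINAL for `d = n / r ≥ 3`: from `g ∈ M` with `dim_F (L₀ ∩ g L₀) = r - 1` one commutator
`[1 + A, 1 + B'] = 1 - B' A` of two `E`-transvections (one of them conjugated by `g`) is an
`F`-transvection.
-/

set_option autoImplicit false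
set_option linter.unusedSectionVars false
set_option linter.unusedVariables false
set_option linter.unusedSimpArgs false

namespace Cfsg.Agent.Lib.Helper24.C3l
open Cfsg Matrix Module Cfsg.Agent.Lib.Helper5 Cfsg.Agent.Lib.Helper5.SpMax

universe u
variable {F : Type u} [Field F] {n : ℕ} {E : Type u} [Field E] [Algebra F E]

local notation "𝕍" => (Fin n → F)
local notation "𝕄" => Matrix (Fin n) (Fin n) F

/-- a hyperplane of `W` together with a vector of `W` outside it spans `W` -/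
lemma le_sup_span_of_finrank {U W : Submodule F 𝕍} (hUW : U ≤ W) {w : 𝕍} (hw : w ∈ W) (hwU : w ∉ U)
    (hdim : finrank F U + 1 = finrank F W) : W ≤ U ⊔ Submodule.span F {w} := by
  have hle : U ⊔ Submodule.span F {w} ≤ W := by
    apply sup_le hUW
    rw [Submodule.span_singleton_le_iff_mem]
    exact hw
  have hlt : U < U ⊔ Submodule.span F {w} := by
    apply lt_of_le_of_ne le_sup_left
    intro heq
    apply hwU
    rw [heq]
    exact Submodule.mem_sup_right (Submodule.mem_span_singleton_self w)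
  have h1 := Submodule.finrank_lt_finrank_of_lt hlt
  have h2 : U ⊔ Submodule.span F {w} = W := by
    apply Submodule.eq_of_le_of_finrank_le hle
    omega
  rw [h2]

/-- FINAL, `d ≥ 3` -/
theorem hasTv_of_adjacent_three (S : KL n F E) (hr : (finrank F E).Prime)
    (h3 : 2 * finrank F E < n) (M : Subgroup (GL (Fin n) F)) (hM : S.CenLe M)
    {v₀ : 𝕍} (hv₀ : v₀ ≠ 0) {g : GL (Fin n) F} (hg : g ∈ M)
    (hadj : finrank F ↥(S.line v₀ ⊓ img g (S.line v₀)) + 1 = finrank F E) : HasTv M := by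
  haveI : FiniteDimensional F E := Module.finite_of_finrank_pos hr.pos
  set L₀ := S.line v₀ with hL₀
  set W₂ := img g L₀ with hW₂
  have hL₀dim : finrank F L₀ = finrank F E := S.finrank_line hv₀
  have hW₂dim : finrank F W₂ = finrank F E := by rw [hW₂, finrank_img, hL₀dim]
  -- vectors outside the intersection
  have hLW : ¬ L₀ ≤ W₂ := by
    intro hle
    have : L₀ ⊓ W₂ = L₀ := inf_eq_left.mpr hle
    rw [this, hL₀dim] at hadj
    omega
  have hWL : ¬ W₂ ≤ L₀ := by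
    intro hle
    have : L₀ ⊓ W₂ = W₂ := inf_eq_right.mpr hle
    rw [this, hW₂dim] at hadj
    omega
  obtain ⟨w₁, hw₁L, hw₁W⟩ := SetLike.not_le_iff_exists.mp hLW
  obtain ⟨w₂, hw₂W, hw₂L⟩ := SetLike.not_le_iff_exists.mp hWL
  have hw₁U : w₁ ∉ L₀ ⊓ W₂ := fun h => hw₁W h.2
  have hw₂U : w₂ ∉ L₀ ⊓ W₂ := fun h => hw₂L h.1
  have hWsp : W₂ ≤ (L₀ ⊓ W₂) ⊔ Submodule.span F {w₂} :=
    le_sup_span_of_finrank inf_le_right hw₂W hw₂U (by rw [hW₂dim]; exact hadj)
  have hLsp : L₀ ≤ (L₀ ⊓ W₂) ⊔ Submodule.span F {w₁} :=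
    le_sup_span_of_finrank inf_le_left hw₁L hw₁U (by rw [hL₀dim]; exact hadj)
  -- the functional `φ`
  obtain ⟨y, hy⟩ := S.exists_not_mem_sup h3 v₀ w₂
  obtain ⟨φ, hφ, hφ0, hφy⟩ := S.exists_isEL (S.isES_sup (S.isES_line v₀) (S.isES_line w₂)) hy
  have hφv₀ : φ v₀ = 0 := hφ0 v₀ (Submodule.mem_sup_left (S.self_mem_line v₀))
  have hφL : ∀ x ∈ L₀, φ x = 0 := fun x hx => hφ0 x (Submodule.mem_sup_left hx)
  have hφW : ∀ x ∈ W₂, φ x = 0 := by
    intro x hx
    obtain ⟨a, ha, b, hb, rfl⟩ := Submodule.mem_sup.mp (hWsp hx)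
    obtain ⟨c, rfl⟩ := Submodule.mem_span_singleton.mp hb
    rw [map_add, hφL a ha.1, map_smul, hφ0 w₂ (Submodule.mem_sup_right (S.self_mem_line w₂)),
      smul_zero, add_zero]
  -- the functional `φ'`
  have hgw₁ : ((g⁻¹ : GL (Fin n) F) : 𝕄) *ᵥ w₁ ∉ L₀ := fun h => hw₁W (mem_img_iff.mpr h)
  obtain ⟨φ', hφ', hφ'v₀, hφ'L, hφ'1⟩ := S.exists_isEL_line hgw₁
  -- the functional `μ`
  obtain ⟨f, hfw, hfW⟩ := Submodule.exists_le_ker_of_notMem hw₁W
  set μ : 𝕍 →ₗ[F] F := (f w₁)⁻¹ • f with hμ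
  have hμW : ∀ x ∈ W₂, μ x = 0 := by
    intro x hx
    have : f x = 0 := LinearMap.mem_ker.mp (hfW hx)
    rw [hμ, LinearMap.smul_apply, this, smul_zero]
  have hμ1 : μ w₁ = 1 := by
    rw [hμ, LinearMap.smul_apply, smul_eq_mul, inv_mul_cancel₀ hfw]
  -- the conjugated nilpotent map
  set Bf : 𝕍 →ₗ[F] 𝕍 := (Matrix.toLin' (g : 𝕄)).comp
    ((S.tvLin φ' v₀).comp (Matrix.toLin' ((g⁻¹ : GL (Fin n) F) : 𝕄))) with hBf
  have Bf_apply : ∀ x, Bf x = (g : 𝕄) *ᵥ S.act (φ' (((g⁻¹ : GL (Fin n) F) : 𝕄) *ᵥ x)) v₀ := by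
    intro x
    rfl
  have hBfW : ∀ x, Bf x ∈ W₂ := by
    intro x
    rw [Bf_apply]
    exact mulVec_mem_img (S.act_mem_line _ _)
  have hBf0 : ∀ x ∈ W₂, Bf x = 0 := by
    intro x hx
    rw [Bf_apply, hφ'L _ (mem_img_iff.mp hx), S.act_zero, Matrix.mulVec_zero]
  set p := (g : 𝕄) *ᵥ v₀ with hp
  have hpW : p ∈ W₂ := mulVec_mem_img (S.self_mem_line v₀)
  have hp0 : p ≠ 0 := by
    intro h
    apply hv₀
    rw [← inv_mul_mulVec g v₀, ← hp, h, Matrix.mulVec_zero]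
  have hBfw₁ : Bf w₁ = p := by
    rw [Bf_apply, hφ'1, S.act_one]
  have hBfL : ∀ l ∈ L₀, Bf l = μ l • p := by
    intro l hl
    obtain ⟨a, ha, b, hb, rfl⟩ := Submodule.mem_sup.mp (hLsp hl)
    obtain ⟨c, rfl⟩ := Submodule.mem_span_singleton.mp hb
    rw [map_add, map_add, hBf0 a ha.2, hμW a ha.2, map_smul, map_smul, hBfw₁, hμ1, zero_add,
      zero_add, smul_eq_mul, mul_one]
  -- the group elements
  set tA := S.tv φ v₀ hφ hφv₀ with htA
  set tb := S.tv φ' v₀ hφ' hφ'v₀ with htb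
  have htAM : tA ∈ M := S.tv_mem_of hM hφ hφv₀
  have htbM : tb ∈ M := S.tv_mem_of hM hφ' hφ'v₀
  set tB := g * tb * g⁻¹ with htB
  set tBi := g * tb⁻¹ * g⁻¹ with htBi
  have htBM : tB ∈ M := M.mul_mem (M.mul_mem hg htbM) (M.inv_mem hg)
  have htBiM : tBi ∈ M := M.mul_mem (M.mul_mem hg (M.inv_mem htbM)) (M.inv_mem hg)
  have htB_mul : ∀ x, (tB : 𝕄) *ᵥ x = x + Bf x := by
    intro x
    rw [htB, Units.val_mul, Units.val_mul, ← Matrix.mulVec_mulVec, ← Matrix.mulVec_mulVec, htb,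
      S.tv_mulVec, Matrix.mulVec_add, mul_inv_mulVec, Bf_apply]
  have htBi_mul : ∀ x, (tBi : 𝕄) *ᵥ x = x - Bf x := by
    intro x
    rw [htBi, Units.val_mul, Units.val_mul, ← Matrix.mulVec_mulVec, ← Matrix.mulVec_mulVec, htb,
      S.tv_inv_mulVec, Matrix.mulVec_sub, mul_inv_mulVec, Bf_apply]
  -- the functional of the transvection
  set χ : 𝕍 →ₗ[F] F := -(μ.comp ((S.orb v₀).comp φ)) with hχ
  have hχ_apply : ∀ x, χ x = -μ (S.act (φ x) v₀) := by
    intro x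
    rfl
  have hc : tA * tB * tA⁻¹ * tBi ∈ M :=
    M.mul_mem (M.mul_mem (M.mul_mem htAM htBM) (M.inv_mem htAM)) htBiM
  refine exists_ftv_of_rank_one (χ := χ) hc hp0 ?_ ?_ ?_
  · -- `χ ≠ 0`
    intro h0
    obtain ⟨e₁, he₁⟩ := S.mem_line.mp hw₁L
    have := hχ_apply (S.act e₁ y)
    rw [h0, LinearMap.zero_apply, hφ, hφy, mul_one, he₁, hμ1] at this
    have h1 : (1 : F) = 0 := by
      have h2 := congrArg (fun t : F => -t) this
      simpa using h2.symm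
    exact one_ne_zero h1
  · -- `χ p = 0`
    rw [hχ_apply, hφW p hpW, S.act_zero, map_zero, neg_zero]
  · -- the commutator
    intro x
    rw [Units.val_mul, Units.val_mul, Units.val_mul, ← Matrix.mulVec_mulVec, ← Matrix.mulVec_mulVec,
      ← Matrix.mulVec_mulVec, htBi_mul, htA, S.tv_inv_mulVec, htB_mul, S.tv_mulVec]
    have e1 : φ (x - Bf x) = φ x := by
      rw [map_sub, hφW _ (hBfW x), sub_zero]
    have e2 : Bf (x - Bf x - S.act (φ x) v₀) = Bf x - μ (S.act (φ x) v₀) • p := by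
      rw [map_sub, map_sub, hBf0 _ (hBfW x), sub_zero, hBfL _ (S.act_mem_line _ _)]
    have e3 : φ (S.act (φ x) v₀) = 0 := hφL _ (S.act_mem_line _ _)
    rw [e1, e2, hχ_apply]
    have e4 : φ (x - Bf x - S.act (φ x) v₀ + (Bf x - μ (S.act (φ x) v₀) • p)) = φ x := by
      rw [map_add, map_sub, map_sub, map_sub, map_smul, hφW _ (hBfW x), e3, hφW p hpW]
      simp
    rw [e4]
    rw [neg_smul]
    abel

end Cfsg.Agent.Lib.Helper24.C3l
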