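import Mathlib
import Cfsg.Prelude.Def_ClassicalGeometry
import Cfsg.Prelude.Def_GeometricClasses
import Cfsg.Agent.Lib.Helper5.SpMax
import Cfsg.Agent.Lib.Helper24.C3lDefs

/-!
S5886, stage FINAL for `d = 2`: the predicate `NonLin S M v₀` (the group `M` contains an element
`1 + X` with `X V ≤ L ≤ ker X`, `L = E v₀`, such that `X` is not `E`-linear).
-/

set_option autoImplicit false
set_option linter.unusedSectionVars false
set_option linter.unusedVariables false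

namespace Cfsg.Agent.Lib.Helper24.C3l
open Cfsg Matrix Module Cfsg.Agent.Lib.Helper5 Cfsg.Agent.Lib.Helper5.SpMax

variable {F : Type*} [Field F] {n : ℕ} {E : Type*} [Field E] [Algebra F E]

local notation "𝕍" => (Fin n → F)
local notation "𝕄" => Matrix (Fin n) (Fin n) F

/-- `M` contains `1 + X` with `X V ≤ L ≤ ker X` (`L = E v₀`) and `X` not `E`-linear -/
def NonLin (S : KL n F E) (M : Subgroup (GL (Fin n) F)) (v₀ : 𝕍) : Prop :=
  ∃ (X : 𝕄) (hXX : X * X = 0), (∀ x, X *ᵥ x ∈ S.line v₀) ∧ (∀ x ∈ S.line v₀, X *ᵥ x = 0) ∧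
    unipGL X hXX ∈ M ∧ ∃ e : E, X * S.ρ e ≠ S.ρ e * X

/-- a matrix with `X V ≤ L ≤ ker X` squares to zero -/
lemma sq_zero_of_range_le_ker (S : KL n F E) {v₀ : 𝕍} {X : 𝕄} (h1 : ∀ x, X *ᵥ x ∈ S.line v₀)
    (h2 : ∀ x ∈ S.line v₀, X *ᵥ x = 0) : X * X = 0 := by
  apply mat_eq_of_mulVec
  intro x
  rw [← Matrix.mulVec_mulVec, h2 _ (h1 x), Matrix.zero_mulVec]

end Cfsg.Agent.Lib.Helper24.C3l
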