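import Mathlib
import Cfsg.Prelude.Def_ClassicalGeometry
import Cfsg.Prelude.Def_GeometricClasses
import Cfsg.Agent.Lib.Helper5.SpMax
import Cfsg.Agent.Lib.Helper24.C3lDefs
import Cfsg.Agent.Lib.Helper24.C3lEL
import Cfsg.Agent.Lib.Helper24.C3lC3
import Cfsg.Agent.Lib.Helper24.C3lD2Defs

/-!
S5886, stage FINAL for `d = 2`, step (beta): for `(r, q) ≠ (2, 2)` the group `M` contains an element
`1 + X`, `X V ≤ L ≤ ker X`, with `X` not `E`-linear.  (Conjugate an `E`-transvection `1 + A` of `L` by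
`τ_s = 1 + s B₁`, `B₁` a conjugate transvection matrix with `B₁ L = F u₁ ≤ L`, and evaluate the
`E`-linearity of `τ_s A τ_s⁻¹` at one vector.)
-/

set_option autoImplicit false
set_option linter.unusedSectionVars false
set_option linter.unusedVariables false
set_option linter.unusedSimpArgs false

namespace Cfsg.Agent.Lib.Helper24.C3l
open Cfsg Matrix Module Cfsg.Agent.Lib.Helper5 Cfsg.Agent.Lib.Helper5.SpMax

universe u
variable {F : Type u} [Field F] {n : ℕ} {E : Type u} [Field E] [Algebra F E]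

local notation "𝕍" => (Fin n → F)
local notation "𝕄" => Matrix (Fin n) (Fin n) F

/-- an `E`-line inside the span of two vectors has degree at most two -/
lemma finrank_le_two_of_line_le (S : KL n F E) [FiniteDimensional F E] {u a b : 𝕍} (hu : u ≠ 0)
    (h : ∀ e : E, S.act e u ∈ Submodule.span F {a, b}) : finrank F E ≤ 2 := by
  have hle : S.line u ≤ Submodule.span F {a, b} := by
    intro x hx
    obtain ⟨e, rfl⟩ := S.mem_line.mp hx
    exact h e
  have h1 := Submodule.finrank_mono hle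
  rw [S.finrank_line hu] at h1
  have h2 : finrank F (Submodule.span F ({a, b} : Set 𝕍)) ≤ 2 := by
    classical
    have hset : ({a, b} : Set 𝕍) = ((({a, b} : Finset 𝕍)) : Set 𝕍) := by simp
    rw [hset]
    exact le_trans (finrank_span_finset_le_card _) Finset.card_le_two
  omega

/-- an `E`-line inside the span of one vector has degree at most one -/
lemma finrank_le_one_of_line_le (S : KL n F E) [FiniteDimensional F E] {u a : 𝕍} (hu : u ≠ 0)
    (h : ∀ e : E, S.act e u ∈ Submodule.span F {a}) : finrank F E ≤ 1 := by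
  have hle : S.line u ≤ Submodule.span F {a} := by
    intro x hx
    obtain ⟨e, rfl⟩ := S.mem_line.mp hx
    exact h e
  have h1 := Submodule.finrank_mono hle
  rw [S.finrank_line hu] at h1
  have h2 : finrank F (Submodule.span F ({a} : Set 𝕍)) ≤ 1 := by
    have := finrank_span_le_card (R := F) ({a} : Set 𝕍)
    simpa using this
  omega

/-- (beta): for `(r, q) ≠ (2, 2)` the group `M ∩ R_L` contains a non-`E`-linear element -/
theorem nonLin_of_adjacent [Fintype F] (S : KL n F E) (hr : (finrank F E).Prime)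
    (h2 : n = 2 * finrank F E) (hq : ¬ (Fintype.card F = 2 ∧ finrank F E = 2))
    (M : Subgroup (GL (Fin n) F)) (hM : S.CenLe M)
    {v₀ : 𝕍} (hv₀ : v₀ ≠ 0) {g : GL (Fin n) F} (hg : g ∈ M)
    (hadj : finrank F ↥(S.line v₀ ⊓ img g (S.line v₀)) + 1 = finrank F E) : NonLin S M v₀ := by
  classical
  have hfd : FiniteDimensional F E := Module.finite_of_finrank_pos hr.pos
  by_contra hH
  set L := S.line v₀ with hL
  set W := img g L with hW
  have H : ∀ X : 𝕄, (∀ x, X *ᵥ x ∈ L) → (∀ x ∈ L, X *ᵥ x = 0) →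
      (∀ hXX : X * X = 0, unipGL X hXX ∈ M) → ∀ e : E, X * S.ρ e = S.ρ e * X := by
    intro X h1 h2' h3 e
    by_contra hne
    exact hH ⟨X, sq_zero_of_range_le_ker S h1 h2', h1, h2', h3 _, e, hne⟩
  have hLdim : finrank F L = finrank F E := S.finrank_line hv₀
  have hWdim : finrank F W = finrank F E := by rw [hW, finrank_img, hLdim]
  have hLW : ¬ L ≤ W := by
    intro hle
    have : L ⊓ W = L := inf_eq_left.mpr hle
    rw [this, hLdim] at hadj
    omega
  have hWL : ¬ W ≤ L := by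
    intro hle
    have : L ⊓ W = W := inf_eq_right.mpr hle
    rw [this, hWdim] at hadj
    omega
  obtain ⟨a, haL, haW⟩ := SetLike.not_le_iff_exists.mp hLW
  obtain ⟨w₂, hw₂W, hw₂L⟩ := SetLike.not_le_iff_exists.mp hWL
  have haU : a ∉ L ⊓ W := fun h => haW h.2
  have hw₂U : w₂ ∉ L ⊓ W := fun h => hw₂L h.1
  have hWsp : W ≤ (L ⊓ W) ⊔ Submodule.span F {w₂} :=
    le_sup_span_of_finrank inf_le_right hw₂W hw₂U (by rw [hWdim]; exact hadj)
  have hLsp : L ≤ (L ⊓ W) ⊔ Submodule.span F {a} :=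
    le_sup_span_of_finrank inf_le_left haL haU (by rw [hLdim]; exact hadj)
  have ha0 : a ≠ 0 := by
    rintro rfl
    exact haW W.zero_mem
  -- a non-zero vector of the intersection
  have hUpos : 0 < finrank F ↥(L ⊓ W) := by
    have := hr.two_le
    omega
  obtain ⟨⟨u₁, hu₁⟩, hu₁0⟩ := (Module.finrank_pos_iff_exists_ne_zero).mp hUpos
  have hu₁0' : u₁ ≠ 0 := fun h => hu₁0 (Subtype.ext h)
  -- the functional `φ₀` and the transvection matrix `A`
  obtain ⟨φ₀, hφ₀, hφ₀v₀, hφ₀L, hφ₀w₂⟩ := S.exists_isEL_line hw₂L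
  have hφ₀a : φ₀ a = 0 := hφ₀L a haL
  set tA := S.tv φ₀ a hφ₀ hφ₀a with htA
  have htAM : tA ∈ M := S.tv_mem_of hM hφ₀ hφ₀a
  -- the functional `φ'` and the conjugated nilpotent map
  have hga : ((g⁻¹ : GL (Fin n) F) : 𝕄) *ᵥ a ∉ L := fun h => haW (mem_img_iff.mpr h)
  obtain ⟨φ', hφ', hφ'v₀, hφ'L, hφ'1⟩ := S.exists_isEL_line hga
  set l₁ := ((g⁻¹ : GL (Fin n) F) : 𝕄) *ᵥ u₁ with hl₁
  have hl₁L : l₁ ∈ L := mem_img_iff.mp hu₁.2
  have hgl₁ : (g : 𝕄) *ᵥ l₁ = u₁ := by rw [hl₁, mul_inv_mulVec]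
  set Bf : 𝕍 →ₗ[F] 𝕍 := (Matrix.toLin' (g : 𝕄)).comp
    ((S.tvLin φ' l₁).comp (Matrix.toLin' ((g⁻¹ : GL (Fin n) F) : 𝕄))) with hBf
  have Bf_apply : ∀ x, Bf x = (g : 𝕄) *ᵥ S.act (φ' (((g⁻¹ : GL (Fin n) F) : 𝕄) *ᵥ x)) l₁ := by
    intro x
    rfl
  have hBfW : ∀ x, Bf x ∈ W := by
    intro x
    rw [Bf_apply]
    exact mulVec_mem_img (S.act_mem_line_of_mem hl₁L _)
  have hBf0 : ∀ x ∈ W, Bf x = 0 := by
    intro x hx
    rw [Bf_apply, hφ'L _ (mem_img_iff.mp hx), S.act_zero, Matrix.mulVec_zero]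
  have hBfa : Bf a = u₁ := by
    rw [Bf_apply, hφ'1, S.act_one, hgl₁]
  -- the functional `μ`
  obtain ⟨f, hfa, hfW⟩ := Submodule.exists_le_ker_of_notMem haW
  set μ : 𝕍 →ₗ[F] F := (f a)⁻¹ • f with hμ
  have hμW : ∀ x ∈ W, μ x = 0 := by
    intro x hx
    have : f x = 0 := LinearMap.mem_ker.mp (hfW hx)
    rw [hμ, LinearMap.smul_apply, this, smul_zero]
  have hμ1 : μ a = 1 := by
    rw [hμ, LinearMap.smul_apply, smul_eq_mul, inv_mul_cancel₀ hfa]
  have hBfL : ∀ l ∈ L, Bf l = μ l • u₁ := by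
    intro l hl
    obtain ⟨x, hx, b, hb, rfl⟩ := Submodule.mem_sup.mp (hLsp hl)
    obtain ⟨c, rfl⟩ := Submodule.mem_span_singleton.mp hb
    rw [map_add, map_add, hBf0 x hx.2, hμW x hx.2, map_smul, map_smul, hBfa, hμ1, zero_add,
      zero_add, smul_eq_mul, mul_one]
  -- the coefficient `t e`
  have hdec : ∀ e : E, ∃ t : F, ∃ u ∈ L ⊓ W, Bf (S.act e w₂) = u + t • w₂ := by
    intro e
    obtain ⟨x, hx, b, hb, hxb⟩ := Submodule.mem_sup.mp (hWsp (hBfW (S.act e w₂)))
    obtain ⟨c, rfl⟩ := Submodule.mem_span_singleton.mp hb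
    exact ⟨c, x, hx, hxb.symm⟩
  choose t ut hut hBft using hdec
  -- the key identity
  have key : ∀ s : F, s ≠ 0 → ∀ e : E,
      S.act e u₁ = -(t e) • a + (μ (S.act e a) - s * t e) • u₁ := by
    intro s hs e
    have hφ's : φ' (s • l₁) = 0 := hφ'L _ (L.smul_mem s hl₁L)
    set ts := S.tv φ' (s • l₁) hφ' hφ's with hts
    have htsM : ts ∈ M := S.tv_mem_of hM hφ' hφ's
    set τ := g * ts * g⁻¹ with hτ
    have hτM : τ ∈ M := M.mul_mem (M.mul_mem hg htsM) (M.inv_mem hg)
    have hτinv : τ⁻¹ = g * ts⁻¹ * g⁻¹ := by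
      rw [hτ]
      group
    have hτ_mul : ∀ x, (τ : 𝕄) *ᵥ x = x + s • Bf x := by
      intro x
      rw [hτ, Units.val_mul, Units.val_mul, ← Matrix.mulVec_mulVec, ← Matrix.mulVec_mulVec, hts,
        S.tv_mulVec, Matrix.mulVec_add, mul_inv_mulVec, Bf_apply, S.act_vsmul, Matrix.mulVec_smul]
    have hτi_mul : ∀ x, ((τ⁻¹ : GL (Fin n) F) : 𝕄) *ᵥ x = x - s • Bf x := by
      intro x
      rw [hτinv, Units.val_mul, Units.val_mul, ← Matrix.mulVec_mulVec, ← Matrix.mulVec_mulVec, hts,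
        S.tv_inv_mulVec, Matrix.mulVec_sub, mul_inv_mulVec, Bf_apply, S.act_vsmul,
        Matrix.mulVec_smul]
    set Y := τ * tA * τ⁻¹ with hY
    have hYM : Y ∈ M := M.mul_mem (M.mul_mem hτM htAM) (M.inv_mem hτM)
    set X : 𝕄 := (Y : 𝕄) - 1 with hX
    have hX_mul : ∀ x, X *ᵥ x = (τ : 𝕄) *ᵥ S.act (φ₀ (((τ⁻¹ : GL (Fin n) F) : 𝕄) *ᵥ x)) a := by
      intro x
      rw [hX, Matrix.sub_mulVec, Matrix.one_mulVec, hY, Units.val_mul, Units.val_mul,
        ← Matrix.mulVec_mulVec, ← Matrix.mulVec_mulVec, htA, S.tv_mulVec, Matrix.mulVec_add,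
        mul_inv_mulVec, add_sub_cancel_left]
    have hτL : ∀ y ∈ L, (τ : 𝕄) *ᵥ y = y + (s * μ y) • u₁ := by
      intro y hy
      rw [hτ_mul, hBfL y hy, smul_smul]
    have hX1 : ∀ x, X *ᵥ x ∈ L := by
      intro x
      rw [hX_mul]
      have h1 : S.act (φ₀ (((τ⁻¹ : GL (Fin n) F) : 𝕄) *ᵥ x)) a ∈ L := S.act_mem_line_of_mem haL _
      rw [hτL _ h1]
      exact L.add_mem h1 (L.smul_mem _ hu₁.1)
    have hX2 : ∀ x ∈ L, X *ᵥ x = 0 := by
      intro x hx
      rw [hX_mul, hτi_mul, hBfL x hx, map_sub, hφ₀L x hx, map_smul, map_smul, hφ₀L u₁ hu₁.1,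
        smul_zero, smul_zero, sub_zero, S.act_zero, Matrix.mulVec_zero]
    have hX3 : ∀ hXX : X * X = 0, unipGL X hXX ∈ M := by
      intro hXX
      have : unipGL X hXX = Y := by
        apply Units.ext
        rw [unipGL_val, hX]
        abel
      rw [this]
      exact hYM
    have hlin := H X hX1 hX2 hX3 e
    have hev := congrArg (fun Z : 𝕄 => Z *ᵥ w₂) hlin
    simp only [← Matrix.mulVec_mulVec] at hev
    rw [← S.act_def, ← S.act_def] at hev
    -- the right-hand side
    have hR : X *ᵥ w₂ = a + s • u₁ := by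
      rw [hX_mul, hτi_mul, hBf0 w₂ hw₂W, smul_zero, sub_zero, hφ₀w₂, S.act_one, hτL a haL, hμ1,
        mul_one]
    -- the left-hand side
    have hφ₀B : φ₀ (Bf (S.act e w₂)) = algebraMap F E (t e) := by
      rw [hBft e, map_add, hφ₀L _ (hut e).1, map_smul, hφ₀w₂, zero_add, Algebra.algebraMap_eq_smul_one]
    have hLft : X *ᵥ (S.act e w₂)
        = (S.act e a - (s * t e) • a) + (s * (μ (S.act e a) - s * t e)) • u₁ := by
      rw [hX_mul, hτi_mul, map_sub, hφ₀, hφ₀w₂, mul_one, map_smul, hφ₀B, S.act_sub, S.act_smul,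
        S.act_algebraMap, smul_smul]
      have hmem : S.act e a - (s * t e) • a ∈ L :=
        L.sub_mem (S.act_mem_line_of_mem haL e) (L.smul_mem _ haL)
      rw [hτL _ hmem, map_sub, map_smul, hμ1, smul_eq_mul, mul_one]
    rw [hLft, hR, S.act_vadd, S.act_vsmul] at hev
    -- solve for `act e u₁`
    have h5 : s • S.act e u₁ = s • (-(t e) • a + (μ (S.act e a) - s * t e) • u₁) := by
      have h6 : s • S.act e u₁
          = (S.act e a - (s * t e) • a + (s * (μ (S.act e a) - s * t e)) • u₁) - S.act e a := by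
        rw [hev]
        abel
      rw [h6, smul_add, smul_smul, smul_smul]
      have : s * -(t e) = -(s * t e) := by ring
      rw [this, neg_smul]
      abel
    have h7 := congrArg (fun v : 𝕍 => s⁻¹ • v) h5
    simp only [smul_smul, inv_mul_cancel₀ hs, one_smul] at h7
    exact h7
  -- conclusion
  by_cases hq2 : Fintype.card F = 2
  · -- `q = 2`, `r ≥ 3`
    have hr3 : finrank F E ≠ 2 := fun h => hq ⟨hq2, h⟩
    have hr2 := hr.two_le
    have hle : finrank F E ≤ 2 := by
      apply finrank_le_two_of_line_le S hu₁0' (a := a) (b := u₁)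
      intro e
      rw [key 1 one_ne_zero e]
      apply Submodule.add_mem
      · exact Submodule.smul_mem _ _ (Submodule.subset_span (by simp))
      · exact Submodule.smul_mem _ _ (Submodule.subset_span (by simp))
    omega
  · -- `q ≥ 3`: a scalar different from `0` and `1`
    have hcard : 2 < Fintype.card F := by
      have := Fintype.one_lt_card (α := F)
      omega
    obtain ⟨s, hs0, hs1⟩ : ∃ s : F, s ≠ 0 ∧ s ≠ 1 := by
      by_contra hcon
      push Not at hcon
      have hsub : (Finset.univ : Finset F) ⊆ {0, 1} := by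
        intro x _
        by_cases hx : x = 0
        · simp [hx]
        · simp [hcon x hx]
      have := Finset.card_le_card hsub
      rw [Finset.card_univ] at this
      have h2 : ({0, 1} : Finset F).card ≤ 2 := Finset.card_le_two
      omega
    have ht0 : ∀ e : E, t e = 0 := by
      intro e
      have k1 := key 1 one_ne_zero e
      have ks := key s hs0 e
      rw [k1] at ks
      have h8 : ((s - 1) * t e) • u₁ = 0 := by
        have h9 : (μ (S.act e a) - 1 * t e) • u₁ = (μ (S.act e a) - s * t e) • u₁ :=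
          add_left_cancel ks
        rw [← sub_eq_zero, ← sub_smul] at h9
        have : μ (S.act e a) - 1 * t e - (μ (S.act e a) - s * t e) = (s - 1) * t e := by ring
        rwa [this] at h9
      rcases smul_eq_zero.mp h8 with h | h
      · rcases mul_eq_zero.mp h with h' | h'
        · exact absurd (sub_eq_zero.mp h') hs1
        · exact h'
      · exact absurd h hu₁0'
    have hle : finrank F E ≤ 1 := by
      apply finrank_le_one_of_line_le S hu₁0' (a := u₁)
      intro e
      rw [key 1 one_ne_zero e, ht0 e, neg_zero, zero_smul, zero_add]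
      exact Submodule.smul_mem _ _ (Submodule.subset_span (by simp))
    have := hr.two_le
    omega

end Cfsg.Agent.Lib.Helper24.C3l
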