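import Mathlib
import Cfsg.Prelude.Def_ClassicalGeometry
import Cfsg.Prelude.Def_GeometricClasses
import Cfsg.Agent.Lib.Helper5.SpMax
import Cfsg.Agent.Lib.Helper22.C3sDefs

/-!
S5664 leaf PL (helper22's market): in a field extension of prime degree, the multiplicative
stabiliser of a proper non-zero `F`-subspace is `F`.
-/

set_option autoImplicit false
set_option linter.unusedSectionVars false
set_option linter.unusedVariables false

namespace Cfsg.Agent.Lib.Helper24.C3sLeaf
open Cfsg Matrix Module Cfsg.Agent.Lib.Helper5 Cfsg.Agent.Lib.Helper5.SpMax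
  Cfsg.Agent.Lib.Helper22.C3 Cfsg.Agent.Lib.Helper22.C3s

universe u
variable {F : Type u} [Field F] {m : ℕ} {E : Type u} [Field E] [Algebra F E]

local notation "𝕍" => (Fin m ⊕ Fin m → F)
local notation "𝕄" => Matrix (Fin m ⊕ Fin m) (Fin m ⊕ Fin m) F

/-- the multiplicative stabiliser of an `F`-subspace of `E`, as a subalgebra -/
def stabAlg (Y : Submodule F E) : Subalgebra F E where
  carrier := {x | ∀ y ∈ Y, x * y ∈ Y}
  mul_mem' := by
    intro a b ha hb y hy
    rw [mul_assoc]
    exact ha _ (hb _ hy)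
  one_mem' := by
    intro y hy
    rwa [one_mul]
  add_mem' := by
    intro a b ha hb y hy
    rw [add_mul]
    exact Y.add_mem (ha _ hy) (hb _ hy)
  zero_mem' := by
    intro y hy
    rw [zero_mul]
    exact Y.zero_mem
  algebraMap_mem' := by
    intro c y hy
    rw [← Algebra.smul_def]
    exact Y.smul_mem c hy

lemma mem_stabAlg {Y : Submodule F E} {x : E} : x ∈ stabAlg Y ↔ ∀ y ∈ Y, x * y ∈ Y := Iff.rfl

/-- PL: in a field extension of prime degree the multiplicative stabiliser of a proper non-zero
`F`-subspace is `F` -/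
theorem mem_bot_of_stabilizes (hr : (finrank F E).Prime) (Y : Submodule F E) (hY0 : Y ≠ ⊥)
    (hY1 : Y ≠ ⊤) (e : E) (he : ∀ y ∈ Y, e * y ∈ Y) : ∃ c : F, e = algebraMap F E c := by
  haveI : FiniteDimensional F E := Module.finite_of_finrank_pos hr.pos
  haveI : Algebra.IsAlgebraic F E := Algebra.IsAlgebraic.of_finite F E
  set A := stabAlg Y with hA
  have hfield : IsField A := Subalgebra.isField_of_algebraic A
  set IF := Subalgebra.toIntermediateField' A hfield with hIF
  haveI := IntermediateField.isSimpleOrder_of_finrank_prime F E hr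
  have heA : e ∈ IF := he
  rcases eq_bot_or_eq_top IF with h | h
  · rw [h, IntermediateField.mem_bot] at heA
    obtain ⟨c, hc⟩ := heA
    exact ⟨c, hc.symm⟩
  · exfalso
    apply hY1
    rw [eq_top_iff]
    intro z _
    obtain ⟨y0, hy0, hy0ne⟩ := Submodule.exists_mem_ne_zero_of_ne_bot hY0
    have hz : z * y0⁻¹ ∈ IF := by rw [h]; exact IntermediateField.mem_top
    have := (hz : z * y0⁻¹ ∈ A) y0 hy0
    rwa [mul_assoc, inv_mul_cancel₀ hy0ne, mul_one] at this

end Cfsg.Agent.Lib.Helper24.C3sLeaf
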