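import Mathlib
import Cfsg.Prelude.Def_ClassicalGeometry
import Cfsg.Prelude.Def_GeometricClasses
import Cfsg.Agent.Lib.Helper5.SpMax
import Cfsg.Agent.Lib.Helper22.C3sDefs
import Cfsg.Agent.Lib.Helper24.C3sPL

/-!
S5664 leaf Balg (helper22's market): the choice of the scalar in the growth step.
-/

set_option autoImplicit false
set_option linter.unusedSectionVars false
set_option linter.unusedVariables false

namespace Cfsg.Agent.Lib.Helper24.C3sLeaf
open Cfsg Matrix Module Cfsg.Agent.Lib.Helper5 Cfsg.Agent.Lib.Helper5.SpMax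
  Cfsg.Agent.Lib.Helper22.C3 Cfsg.Agent.Lib.Helper22.C3s

universe u
variable {F : Type u} [Field F] {m : ℕ} {E : Type u} [Field E] [Algebra F E]

local notation "𝕍" => (Fin m ⊕ Fin m → F)
local notation "𝕄" => Matrix (Fin m ⊕ Fin m) (Fin m ⊕ Fin m) F

/-- the bilinear form `(a, b) ↦ τ (a * b)` on `E` -/
noncomputable def tauForm (τ : E →ₗ[F] F) : LinearMap.BilinForm F E :=
  (LinearMap.mul F E).compr₂ τ

lemma tauForm_apply (τ : E →ₗ[F] F) (a b : E) : tauForm τ a b = τ (a * b) := rfl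

lemma tauForm_nondeg (τ : E →ₗ[F] F) (hτ : ∀ a : E, (∀ b, τ (a * b) = 0) → a = 0) :
    (tauForm τ).Nondegenerate := by
  constructor
  · intro a ha
    exact hτ a ha
  · intro a ha
    apply hτ a
    intro b
    have := ha b
    rwa [tauForm_apply, mul_comm] at this

/-- Balg: the choice of the scalar in the growth step -/
theorem exists_growth_scalar (hr : (finrank F E).Prime) (τ : E →ₗ[F] F)
    (hτ : ∀ a : E, (∀ b, τ (a * b) = 0) → a = 0) (B Φ : Submodule F E)
    (hBΦ : ∀ b ∈ B, ∀ φ ∈ Φ, τ (b * φ) = 0) (hΦ : Φ ≠ ⊥) (hB : B ≠ ⊥)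
    (hBdim : finrank F B + 2 ≤ finrank F E) :
    ∃ a : E, (∃ φ ∈ Φ, ∃ φ' ∈ Φ, τ (a * φ * φ') ≠ 0) ∧
      finrank F B + finrank F Φ <
        finrank F E + finrank F ↥(Φ ⊓ B.comap (LinearMap.mulLeft F a)) := by
  haveI : FiniteDimensional F E := Module.finite_of_finrank_pos hr.pos
  have hnd := tauForm_nondeg τ hτ
  have hperp := LinearMap.BilinForm.finrank_orthogonal hnd B
  have hle : Φ ≤ (tauForm τ).orthogonal B := by
    intro φ hφ
    rw [LinearMap.BilinForm.mem_orthogonal_iff]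
    intro b hb
    exact hBΦ b hb φ hφ
  have hBle : finrank F B ≤ finrank F E := Submodule.finrank_le B
  have hΦle : finrank F Φ ≤ finrank F E - finrank F B := by
    rw [← hperp]
    exact Submodule.finrank_mono hle
  obtain ⟨φ₀, hφ₀, hφ₀ne⟩ := Submodule.exists_mem_ne_zero_of_ne_bot hΦ
  by_cases hcase : finrank F Φ < finrank F E - finrank F B
  · -- any `a` with `τ (a φ₀²) ≠ 0`
    have h2 : φ₀ * φ₀ ≠ 0 := mul_ne_zero hφ₀ne hφ₀ne
    have : ∃ a, τ ((φ₀ * φ₀) * a) ≠ 0 := by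
      by_contra hcon
      push Not at hcon
      exact h2 (hτ _ hcon)
    obtain ⟨a, ha⟩ := this
    refine ⟨a, ⟨φ₀, hφ₀, φ₀, hφ₀, ?_⟩, ?_⟩
    · rwa [mul_assoc, mul_comm]
    · omega
  · -- `Φ = B^⊥`
    have hΦdim : finrank F Φ = finrank F E - finrank F B := le_antisymm hΦle (not_lt.mp hcase)
    have hΦeq : Φ = (tauForm τ).orthogonal B := by
      apply Submodule.eq_of_le_of_finrank_eq hle
      rw [hperp, hΦdim]
    have hBpos : 1 ≤ finrank F B := Submodule.one_le_finrank_iff.mpr hB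
    -- the set `φ₀⁻¹ B`
    by_contra hcon
    push Not at hcon
    -- for every `b ∈ B`, with `a = φ₀⁻¹ b`, the second condition holds if `b ≠ 0`
    have key : ∀ b ∈ B, ∀ φ ∈ Φ, ∀ φ' ∈ Φ, τ (b * (φ₀⁻¹ * φ * φ')) = 0 := by
      intro b hb φ hφ φ' hφ'
      by_cases hb0 : b = 0
      · rw [hb0, zero_mul, map_zero]
      have h1 := hcon (φ₀⁻¹ * b)
      by_contra hne
      have h2 : finrank F E + finrank F ↥(Φ ⊓ B.comap (LinearMap.mulLeft F (φ₀⁻¹ * b)))
          ≤ finrank F B + finrank F Φ := by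
        apply h1
        refine ⟨φ, hφ, φ', hφ', ?_⟩
        intro h0
        apply hne
        rw [← h0]
        congr 1
        ring
      have h3 : 1 ≤ finrank F ↥(Φ ⊓ B.comap (LinearMap.mulLeft F (φ₀⁻¹ * b))) := by
        rw [Submodule.one_le_finrank_iff]
        intro hbot
        have : φ₀ ∈ Φ ⊓ B.comap (LinearMap.mulLeft F (φ₀⁻¹ * b)) := by
          refine Submodule.mem_inf.mpr ⟨hφ₀, ?_⟩
          rw [Submodule.mem_comap, LinearMap.mulLeft_apply]
          have : φ₀⁻¹ * b * φ₀ = b := by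
            field_simp
          rw [this]
          exact hb
        rw [hbot, Submodule.mem_bot] at this
        exact hφ₀ne this
      omega
    -- so `(φ / φ₀) Φ ⊆ Φ` for all `φ ∈ Φ`
    have hstab : ∀ φ ∈ Φ, ∀ y ∈ Φ, (φ₀⁻¹ * φ) * y ∈ Φ := by
      intro φ hφ y hy
      rw [hΦeq, LinearMap.BilinForm.mem_orthogonal_iff]
      intro b hb
      exact key b hb φ hφ y hy
    have hΦtop : Φ ≠ ⊤ := by
      intro h
      rw [h, finrank_top] at hΦdim
      omega
    -- so `Φ ≤ F φ₀`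
    have hspan : Φ ≤ Submodule.span F {φ₀} := by
      intro φ hφ
      obtain ⟨c, hc⟩ := mem_bot_of_stabilizes hr Φ hΦ hΦtop (φ₀⁻¹ * φ) (hstab φ hφ)
      rw [Submodule.mem_span_singleton]
      refine ⟨c, ?_⟩
      rw [Algebra.smul_def, ← hc]
      field_simp
    have h1 : finrank F Φ ≤ 1 := by
      calc finrank F Φ ≤ finrank F (Submodule.span F {φ₀}) := Submodule.finrank_mono hspan
        _ ≤ 1 := by
          have := finrank_span_le_card (R := F) ({φ₀} : Set E)
          simpa using this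
    omega

end Cfsg.Agent.Lib.Helper24.C3sLeaf
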