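import Mathlib
import Cfsg.Prelude.Def_ClassicalGeometry
import Cfsg.Prelude.Def_GeometricClasses
import Cfsg.Agent.Lib.Helper5.SpMax
import Cfsg.Agent.Lib.Helper22.C3sDefs
import Cfsg.Agent.Lib.Helper24.C3sBalg

/-!
S5664 leaf B1 (helper22's market): one growth step for the intersection of the base `E`-line
with one of its images.
-/

set_option autoImplicit false
set_option linter.unusedSectionVars false
set_option linter.unusedVariables false

namespace Cfsg.Agent.Lib.Helper24.C3sLeaf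
open Cfsg Matrix Module Cfsg.Agent.Lib.Helper5 Cfsg.Agent.Lib.Helper5.SpMax
  Cfsg.Agent.Lib.Helper22.C3 Cfsg.Agent.Lib.Helper22.C3s

universe u
variable {F : Type u} [Field F] {m : ℕ} {E : Type u} [Field E] [Algebra F E]

local notation "𝕍" => (Fin m ⊕ Fin m → F)
local notation "𝕄" => Matrix (Fin m ⊕ Fin m) (Fin m ⊕ Fin m) F

/-- rank-nullity for the restriction of a linear map to `W ⊓ f⁻¹ Z` -/
lemma finrank_inf_comap {V E' : Type*} [AddCommGroup V] [Module F V] [FiniteDimensional F V]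
    [AddCommGroup E'] [Module F E'] (f : V →ₗ[F] E') (W : Submodule F V) (Z : Submodule F E') :
    finrank F ↥(W ⊓ Z.comap f) = finrank F ↥(W ⊓ LinearMap.ker f) + finrank F ↥(W.map f ⊓ Z) := by
  set X := W ⊓ Z.comap f with hX
  have h := LinearMap.finrank_range_add_finrank_ker (f.domRestrict X)
  have hrange : LinearMap.range (f.domRestrict X) = W.map f ⊓ Z := by
    ext y
    constructor
    · rintro ⟨⟨x, hx⟩, rfl⟩
      exact ⟨⟨x, hx.1, rfl⟩, hx.2⟩
    · rintro ⟨⟨w, hw, rfl⟩, hz⟩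
      exact ⟨⟨w, hw, hz⟩, rfl⟩
  have hker : finrank F (LinearMap.ker (f.domRestrict X)) = finrank F ↥(W ⊓ LinearMap.ker f) := by
    have hXk : X ⊓ LinearMap.ker f = W ⊓ LinearMap.ker f := by
      ext x
      constructor
      · rintro ⟨hx1, hx2⟩
        exact ⟨hx1.1, hx2⟩
      · rintro ⟨hx1, hx2⟩
        refine ⟨⟨hx1, ?_⟩, hx2⟩
        change f x ∈ Z
        rw [LinearMap.mem_ker.mp hx2]
        exact Z.zero_mem
    rw [LinearMap.ker_domRestrict, ← Submodule.finrank_map_subtype_eq X, Submodule.map_comap_subtype,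
      hXk]
  rw [hrange, hker] at h
  omega

/-- the image of a subspace under an element of `GL` has the same dimension -/
lemma finrank_img (g : GL (Fin m ⊕ Fin m) F) (W : Submodule F 𝕍) :
    finrank F ↥(img g W) = finrank F W := by
  have hinj : Function.Injective (Matrix.toLin' (g : 𝕄)) := by
    intro x y hxy
    rw [Matrix.toLin'_apply, Matrix.toLin'_apply] at hxy
    exact mulVec_inj g hxy
  exact (Submodule.equivMapOfInjective _ hinj W).finrank_eq.symm

/-- the `F`-linear map `x ↦ fE x v₀` -/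
def phiL (S : KS m F E) (v₀ : 𝕍) : 𝕍 →ₗ[F] E where
  toFun x := S.fE x v₀
  map_add' x y := S.add_left x y v₀
  map_smul' c x := by
    simp only [RingHom.id_apply]
    exact S.fE_fsmul_left' c x v₀

lemma phiL_apply (S : KS m F E) (v₀ x : 𝕍) : phiL S v₀ x = S.fE x v₀ := rfl

/-- the images of an `E`-line under symplectic matrices are totally isotropic -/
lemma img_line_isotropic (S : KS m F E) {g : GL (Fin m ⊕ Fin m) F} (hg : g ∈ spGL m F) (v₀ : 𝕍)
    {w₁ w₂ : 𝕍} (h₁ : w₁ ∈ img g (S.line v₀)) (h₂ : w₂ ∈ img g (S.line v₀)) :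
    sympForm m F w₁ w₂ = 0 := by
  obtain ⟨l₁, hl₁, rfl⟩ := mem_img.mp h₁
  obtain ⟨l₂, hl₂, rfl⟩ := mem_img.mp h₂
  rw [mem_spGL.mp hg]
  exact mem_perp.mp (S.line_le_perp_line v₀ hl₁) l₂ hl₂

/-- B1: one growth step -/
theorem exists_growth (S : KS m F E) (hr : (finrank F E).Prime)
    (M : Subgroup (GL (Fin m ⊕ Fin m) F)) (hMS : M ≤ spGL m F)
    (hM : ∀ g ∈ spGL m F, (∀ e : E, (g : 𝕄) * S.ρ e = S.ρ e * (g : 𝕄)) → g ∈ M)
    {v₀ : 𝕍} (hv₀ : v₀ ≠ 0) {g : GL (Fin m ⊕ Fin m) F} (hg : g ∈ M)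
    (h1 : S.line v₀ ⊓ img g (S.line v₀) ≠ ⊥)
    (h2 : ¬ img g (S.line v₀) ≤ perp (S.line v₀))
    (h3 : finrank F ↥(S.line v₀ ⊓ img g (S.line v₀)) + 2 ≤ finrank F E) :
    ∃ g' ∈ M, finrank F ↥(S.line v₀ ⊓ img g (S.line v₀))
        < finrank F ↥(S.line v₀ ⊓ img g' (S.line v₀)) ∧
      ¬ img g' (S.line v₀) ≤ perp (S.line v₀) := by
  haveI : FiniteDimensional F E := Module.finite_of_finrank_pos hr.pos
  have hgS : g ∈ spGL m F := hMS hg
  have hgS' : g⁻¹ ∈ spGL m F := (spGL m F).inv_mem hgS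
  set L₀ := S.line v₀ with hL₀
  set W₂ := img g L₀ with hW₂
  set φ := phiL S v₀ with hφ
  set Φ := W₂.map φ with hΦdef
  set B := W₂.comap (S.orb v₀) with hBdef
  -- the dimension of `B`
  have hBU : B.map (S.orb v₀) = L₀ ⊓ W₂ := by
    rw [hBdef, Submodule.map_comap_eq]
    rfl
  have hBdim : finrank F B = finrank F ↥(L₀ ⊓ W₂) := by
    rw [← hBU]
    exact (Submodule.equivMapOfInjective _ (S.orb_injective hv₀) B).finrank_eq
  have hW₂dim : finrank F W₂ = finrank F E := by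
    rw [hW₂, finrank_img, hL₀, S.finrank_line hv₀]
  -- hypotheses of Balg
  have hB0 : B ≠ ⊥ := by
    intro h
    apply h1
    rw [← hBU, h, Submodule.map_bot]
  have hΦ0 : Φ ≠ ⊥ := by
    intro h
    apply h2
    intro w hw
    rw [S.mem_perp_line hv₀]
    have : φ w ∈ Φ := Submodule.mem_map_of_mem hw
    rw [h, Submodule.mem_bot] at this
    exact this
  have hBΦ : ∀ b ∈ B, ∀ p ∈ Φ, S.τ (b * p) = 0 := by
    intro b hb p hp
    obtain ⟨w, hw, rfl⟩ := Submodule.mem_map.mp hp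
    have hb' : S.act b v₀ ∈ W₂ := hb
    have h0 := img_line_isotropic S hgS v₀ hb' hw
    rw [S.form_act_left, S.skew v₀ w, mul_neg, map_neg, neg_eq_zero] at h0
    exact h0
  have hBdim2 : finrank F B + 2 ≤ finrank F E := by rw [hBdim]; exact h3
  obtain ⟨a, ⟨φ₁, hφ₁, φ₂, hφ₂, hne⟩, hlt⟩ :=
    exists_growth_scalar hr S.τ (fun a h => S.tau_nondeg hv₀ h) B Φ hBΦ hΦ0 hB0 hBdim2
  -- the transvection
  set t := S.kt v₀ a with ht
  have htM : t ∈ M := hM t (S.kt_mem v₀ a) (fun e => S.kt_comm v₀ a e)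
  refine ⟨g⁻¹ * t * g, M.mul_mem (M.mul_mem (M.inv_mem hg) htM) hg, ?_, ?_⟩
  · -- the dimension grows
    set C := Φ ⊓ B.comap (LinearMap.mulLeft F a) with hC
    set X := W₂ ⊓ C.comap φ with hX
    have e1 := finrank_inf_comap φ W₂ C
    have e2 := finrank_inf_comap φ W₂ (⊤ : Submodule F E)
    have e3 : W₂.map φ ⊓ C = C := by
      rw [hC, ← inf_assoc, inf_idem]
    have e4 : W₂ ⊓ (⊤ : Submodule F E).comap φ = W₂ := by
      rw [Submodule.comap_top, inf_top_eq]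
    have e5 : W₂.map φ ⊓ (⊤ : Submodule F E) = Φ := by
      rw [inf_top_eq]
    rw [e3, ← hX] at e1
    rw [e4, e5, hW₂dim] at e2
    have hXdim : finrank F B < finrank F X := by
      omega
    -- `g⁻¹ t X` lies in the new intersection
    have hsub : img g⁻¹ (img t X) ≤ L₀ ⊓ img (g⁻¹ * t * g) L₀ := by
      intro y hy
      obtain ⟨y', hy', rfl⟩ := mem_img.mp hy
      obtain ⟨x, hx, rfl⟩ := mem_img.mp hy'
      have hxW : x ∈ W₂ := hx.1
      have hxC : φ x ∈ C := hx.2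
      have hxB : a * φ x ∈ B := hxC.2
      have htx : (t : 𝕄) *ᵥ x ∈ W₂ := by
        rw [ht, S.kt_mulVec]
        exact W₂.add_mem hxW hxB
      refine ⟨?_, ?_⟩
      · exact mem_img_iff.mp htx
      · obtain ⟨l, hl, rfl⟩ := mem_img.mp hxW
        refine mem_img.mpr ⟨l, hl, ?_⟩
        rw [Units.val_mul, Units.val_mul, ← Matrix.mulVec_mulVec, ← Matrix.mulVec_mulVec]
    have := Submodule.finrank_mono hsub
    rw [finrank_img, finrank_img] at this
    rw [← hBdim]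
    omega
  · -- not perpendicular
    intro hle
    apply hne
    obtain ⟨w₁, hw₁, rfl⟩ := Submodule.mem_map.mp hφ₁
    obtain ⟨w₂, hw₂, rfl⟩ := Submodule.mem_map.mp hφ₂
    obtain ⟨l₁, hl₁, rfl⟩ := mem_img.mp hw₁
    have hx : ((g⁻¹ * t * g : GL (Fin m ⊕ Fin m) F) : 𝕄) *ᵥ l₁ ∈ img (g⁻¹ * t * g) L₀ :=
      mulVec_mem_img hl₁
    have hy : ((g⁻¹ : GL (Fin m ⊕ Fin m) F) : 𝕄) *ᵥ w₂ ∈ L₀ := mem_img_iff.mp hw₂
    have h0 := mem_perp.mp (hle hx) _ hy
    rw [Units.val_mul, Units.val_mul, ← Matrix.mulVec_mulVec, ← Matrix.mulVec_mulVec,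
      mem_spGL.mp hgS', ht, S.kt_mulVec, sympForm_add_left, img_line_isotropic S hgS v₀ hw₁ hw₂,
      zero_add, S.form_act_left, S.skew v₀ w₂, mul_neg, map_neg, neg_eq_zero] at h0
    rw [← h0]
    rfl

end Cfsg.Agent.Lib.Helper24.C3sLeaf
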