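import Mathlib
import Cfsg.Prelude.Def_ClassicalGeometry
import Cfsg.Prelude.Def_GeometricClasses
import Cfsg.Agent.Lib.Helper5.SpMax
import Cfsg.Agent.Lib.Helper24.C3lDefs
import Cfsg.Agent.Lib.Helper24.C3lEL
import Cfsg.Agent.Lib.Helper24.C3sPL
import Cfsg.Agent.Lib.Helper24.C3sB1

/-!
S5886, stage GROWTH: from `g ∈ M` with `0 ≠ L₀ ∩ g L₀`, `g L₀ ≠ L₀` (`L₀ = E v₀`) to `g' ∈ M` with
`dim_F (L₀ ∩ g' L₀) = r - 1`.  One step conjugates an `E`-transvection `t` with centre `v₀` by `g`.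
-/

set_option autoImplicit false
set_option linter.unusedSectionVars false
set_option linter.unusedVariables false
set_option linter.unusedSimpArgs false

namespace Cfsg.Agent.Lib.Helper24.C3l
open Cfsg Matrix Module Cfsg.Agent.Lib.Helper5 Cfsg.Agent.Lib.Helper5.SpMax

universe u
variable {F : Type u} [Field F] {n : ℕ} {E : Type u} [Field E] [Algebra F E]

local notation "𝕍" => (Fin n → F)
local notation "𝕄" => Matrix (Fin n) (Fin n) F

/-- two subspaces of the same finite dimension, one not equal to the other: neither contains the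
other -/
lemma not_le_of_finrank_eq_of_ne {W W' : Submodule F 𝕍} (h : finrank F W = finrank F W')
    (hne : W' ≠ W) : ¬ W ≤ W' := by
  intro hle
  apply hne
  exact (Submodule.eq_of_le_of_finrank_eq hle h).symm

/-- the generic growth step: conjugating the transvection `tv Λ v₀` -/
lemma growth_step (S : KL n F E) (M : Subgroup (GL (Fin n) F)) (hM : S.CenLe M)
    {v₀ : 𝕍} {g : GL (Fin n) F} (hg : g ∈ M) {Λ : 𝕍 →ₗ[F] E} (hΛ : S.IsEL Λ) (hΛ0 : Λ v₀ = 0)
    (X : Submodule F 𝕍) (hXW : X ≤ img g (S.line v₀))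
    (hX : ∀ x ∈ X, S.act (Λ x) v₀ ∈ img g (S.line v₀))
    {w : 𝕍} (hw : w ∈ img g (S.line v₀)) (hwn : S.act (Λ w) v₀ ∉ img g (S.line v₀)) :
    ∃ g' ∈ M, finrank F X ≤ finrank F ↥(S.line v₀ ⊓ img g' (S.line v₀)) ∧
      img g' (S.line v₀) ≠ S.line v₀ := by
  set t := S.tv Λ v₀ hΛ hΛ0 with ht
  have htM : t ∈ M := S.tv_mem_of hM hΛ hΛ0
  refine ⟨g⁻¹ * t * g, M.mul_mem (M.mul_mem (M.inv_mem hg) htM) hg, ?_, ?_⟩
  · have hsub : img g⁻¹ (img t X) ≤ S.line v₀ ⊓ img (g⁻¹ * t * g) (S.line v₀) := by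
      intro y hy
      obtain ⟨y', hy', rfl⟩ := mem_img.mp hy
      obtain ⟨x, hx, rfl⟩ := mem_img.mp hy'
      have hxW : x ∈ img g (S.line v₀) := hXW hx
      have htx : (t : 𝕄) *ᵥ x ∈ img g (S.line v₀) := by
        rw [ht, S.tv_mulVec]
        exact Submodule.add_mem _ hxW (hX x hx)
      refine ⟨mem_img_iff.mp htx, ?_⟩
      obtain ⟨l, hl, rfl⟩ := mem_img.mp hxW
      refine mem_img.mpr ⟨l, hl, ?_⟩
      rw [Units.val_mul, Units.val_mul, ← Matrix.mulVec_mulVec, ← Matrix.mulVec_mulVec]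
    have := Submodule.finrank_mono hsub
    rwa [finrank_img, finrank_img] at this
  · intro heq
    apply hwn
    obtain ⟨l, hl, rfl⟩ := mem_img.mp hw
    have h1 : ((g⁻¹ * t * g : GL (Fin n) F) : 𝕄) *ᵥ l ∈ S.line v₀ := by
      rw [← heq]
      exact mulVec_mem_img hl
    rw [Units.val_mul, Units.val_mul, ← Matrix.mulVec_mulVec, ← Matrix.mulVec_mulVec] at h1
    have h2 : (t : 𝕄) *ᵥ ((g : 𝕄) *ᵥ l) ∈ img g (S.line v₀) := mem_img_iff.mpr h1
    rw [ht, S.tv_mulVec] at h2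
    have h3 := Submodule.sub_mem _ h2 (mulVec_mem_img (g := g) hl)
    rwa [add_sub_cancel_left] at h3

/-- B1: one growth step -/
theorem exists_growth (S : KL n F E) (hr : (finrank F E).Prime)
    (M : Subgroup (GL (Fin n) F)) (hM : S.CenLe M)
    {v₀ : 𝕍} (hv₀ : v₀ ≠ 0) {g : GL (Fin n) F} (hg : g ∈ M)
    (h1 : S.line v₀ ⊓ img g (S.line v₀) ≠ ⊥)
    (h2 : img g (S.line v₀) ≠ S.line v₀)
    (h3 : finrank F ↥(S.line v₀ ⊓ img g (S.line v₀)) + 2 ≤ finrank F E) :
    ∃ g' ∈ M, finrank F ↥(S.line v₀ ⊓ img g (S.line v₀))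
        < finrank F ↥(S.line v₀ ⊓ img g' (S.line v₀)) ∧
      img g' (S.line v₀) ≠ S.line v₀ := by
  haveI : FiniteDimensional F E := Module.finite_of_finrank_pos hr.pos
  set L₀ := S.line v₀ with hL₀
  set W₂ := img g L₀ with hW₂
  set B := W₂.comap (S.orb v₀) with hBdef
  have hL₀dim : finrank F L₀ = finrank F E := S.finrank_line hv₀
  have hW₂dim : finrank F W₂ = finrank F E := by rw [hW₂, finrank_img, hL₀dim]
  have hBU : B.map (S.orb v₀) = L₀ ⊓ W₂ := by
    rw [hBdef, Submodule.map_comap_eq]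
    rfl
  have hBdim : finrank F B = finrank F ↥(L₀ ⊓ W₂) := by
    rw [← hBU]
    exact (Submodule.equivMapOfInjective _ (S.orb_injective hv₀) B).finrank_eq
  have hBmem : ∀ b : E, b ∈ B ↔ S.act b v₀ ∈ W₂ := fun b => Iff.rfl
  -- `W₂` is not inside `L₀` and conversely
  have hWL : ¬ W₂ ≤ L₀ := not_le_of_finrank_eq_of_ne (hW₂dim.trans hL₀dim.symm) h2.symm
  have hLW : ¬ L₀ ≤ W₂ := not_le_of_finrank_eq_of_ne (hL₀dim.trans hW₂dim.symm) h2
  obtain ⟨w₁, hw₁W, hw₁L⟩ := SetLike.not_le_iff_exists.mp hWL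
  obtain ⟨l₀, hl₀L, hl₀W⟩ := SetLike.not_le_iff_exists.mp hLW
  obtain ⟨c, hc⟩ := S.mem_line.mp hl₀L
  have hcB : S.act c v₀ ∉ W₂ := by rw [hc]; exact hl₀W
  by_cases hcase : ∃ w₂ ∈ W₂, w₂ ∉ L₀ ⊔ S.line w₁
  · -- two `E`-independent directions modulo `L₀`
    obtain ⟨w₂, hw₂W, hw₂⟩ := hcase
    obtain ⟨φ, hφ, hφ0, hφ1⟩ := S.exists_isEL (S.isES_sup (S.isES_line v₀) (S.isES_line w₁)) hw₂
    have hΛ : S.IsEL (KL.cmul c φ) := hφ.cmul S c
    have hΛ0 : KL.cmul c φ v₀ = 0 := by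
      rw [KL.cmul_apply, hφ0 v₀ (Submodule.mem_sup_left (S.self_mem_line v₀)), mul_zero]
    set X := (L₀ ⊓ W₂) ⊔ Submodule.span F {w₁} with hX
    have hXW : X ≤ W₂ := by
      apply sup_le inf_le_right
      rw [Submodule.span_singleton_le_iff_mem]
      exact hw₁W
    have hXv : ∀ x ∈ X, S.act (KL.cmul c φ x) v₀ ∈ W₂ := by
      intro x hx
      have : x ∈ L₀ ⊔ S.line w₁ := by
        obtain ⟨y, hy, z, hz, rfl⟩ := Submodule.mem_sup.mp hx
        obtain ⟨a, rfl⟩ := Submodule.mem_span_singleton.mp hz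
        refine Submodule.add_mem _ (Submodule.mem_sup_left hy.1) (Submodule.mem_sup_right ?_)
        exact Submodule.smul_mem _ a (S.self_mem_line w₁)
      rw [KL.cmul_apply, hφ0 x this, mul_zero, S.act_zero]
      exact W₂.zero_mem
    have hwn : S.act (KL.cmul c φ w₂) v₀ ∉ W₂ := by
      rw [KL.cmul_apply, hφ1, mul_one]
      exact hcB
    obtain ⟨g', hg', hle, hne⟩ := growth_step S M hM hg hΛ hΛ0 X hXW hXv hw₂W hwn
    refine ⟨g', hg', lt_of_lt_of_le ?_ hle, hne⟩
    apply Submodule.finrank_lt_finrank_of_lt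
    apply lt_of_le_of_ne le_sup_left
    intro heq
    apply hw₁L
    have hwX : w₁ ∈ X := Submodule.mem_sup_right (Submodule.mem_span_singleton_self w₁)
    have hwU : w₁ ∈ L₀ ⊓ W₂ := by
      rw [heq]
      exact hwX
    exact hwU.1
  · -- `W₂ ≤ L₀ + E w₁`
    push Not at hcase
    obtain ⟨φ, hφ, hφv₀, hφ0, hφ1⟩ := S.exists_isEL_line hw₁L
    -- the kernel of `φ` on `W₂`
    have hker : W₂ ⊓ LinearMap.ker φ = L₀ ⊓ W₂ := by
      ext x
      constructor
      · rintro ⟨hxW, hxk⟩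
        refine ⟨?_, hxW⟩
        have hxk' : φ x = 0 := LinearMap.mem_ker.mp hxk
        obtain ⟨y, hy, z, hz, rfl⟩ := Submodule.mem_sup.mp (hcase x hxW)
        obtain ⟨e, rfl⟩ := S.mem_line.mp hz
        rw [map_add, hφ0 y hy, hφ, hφ1, mul_one, zero_add] at hxk'
        rw [hxk', S.act_zero, add_zero]
        exact hy
      · rintro ⟨hxL, hxW⟩
        exact ⟨hxW, LinearMap.mem_ker.mpr (hφ0 x hxL)⟩
    set Φ := W₂.map φ with hΦdef
    have hΦdim : finrank F Φ + finrank F ↥(L₀ ⊓ W₂) = finrank F E := by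
      have e2 := Cfsg.Agent.Lib.Helper24.C3sLeaf.finrank_inf_comap φ W₂ (⊤ : Submodule F E)
      rw [Submodule.comap_top, inf_top_eq, inf_top_eq, hker, hW₂dim, ← hΦdef] at e2
      omega
    have hΦ0 : Φ ≠ ⊥ := by
      intro h
      rw [h, finrank_bot] at hΦdim
      omega
    obtain ⟨φ₀, hφ₀, hφ₀ne⟩ := Submodule.exists_mem_ne_zero_of_ne_bot hΦ0
    have hB0 : B ≠ ⊥ := by
      intro h
      apply h1
      rw [← hBU, h, Submodule.map_bot]
    have hBtop : B ≠ ⊤ := by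
      intro h
      have := hBdim
      rw [h, finrank_top] at this
      omega
    -- the choice of the scalar
    have hscal : ∃ a : E, Φ ⊓ B.comap (LinearMap.mulLeft F a) ≠ ⊥ ∧ ∃ p ∈ Φ, a * p ∉ B := by
      by_contra hcon
      push Not at hcon
      have hstab : ∀ p ∈ Φ, ∀ b ∈ B, (φ₀⁻¹ * p) * b ∈ B := by
        intro p hp b hb
        by_cases hb0 : b = 0
        · rw [hb0, mul_zero]
          exact B.zero_mem
        have h4 : Φ ⊓ B.comap (LinearMap.mulLeft F (φ₀⁻¹ * b)) ≠ ⊥ := by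
          intro hbot
          have : φ₀ ∈ Φ ⊓ B.comap (LinearMap.mulLeft F (φ₀⁻¹ * b)) := by
            refine Submodule.mem_inf.mpr ⟨hφ₀, ?_⟩
            rw [Submodule.mem_comap, LinearMap.mulLeft_apply]
            have : φ₀⁻¹ * b * φ₀ = b := by
              field_simp
            rw [this]
            exact hb
          rw [hbot, Submodule.mem_bot] at this
          exact hφ₀ne this
        have h5 := hcon (φ₀⁻¹ * b) h4 p hp
        have : φ₀⁻¹ * p * b = φ₀⁻¹ * b * p := by ring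
        rw [this]
        exact h5
      have hspan : Φ ≤ Submodule.span F {φ₀} := by
        intro p hp
        obtain ⟨c', hc'⟩ := Cfsg.Agent.Lib.Helper24.C3sLeaf.mem_bot_of_stabilizes hr B hB0 hBtop
          (φ₀⁻¹ * p) (hstab p hp)
        rw [Submodule.mem_span_singleton]
        refine ⟨c', ?_⟩
        rw [Algebra.smul_def, ← hc']
        field_simp
      have h6 : finrank F Φ ≤ 1 := by
        calc finrank F Φ ≤ finrank F (Submodule.span F {φ₀}) := Submodule.finrank_mono hspan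
          _ ≤ 1 := by
            have := finrank_span_le_card (R := F) ({φ₀} : Set E)
            simpa using this
      omega
    obtain ⟨a, ha1, p, hp, hap⟩ := hscal
    have hΛ : S.IsEL (KL.cmul a φ) := hφ.cmul S a
    have hΛ0 : KL.cmul a φ v₀ = 0 := by rw [KL.cmul_apply, hφv₀, mul_zero]
    set C := Φ ⊓ B.comap (LinearMap.mulLeft F a) with hC
    set X := W₂ ⊓ C.comap φ with hX
    have hXdim : finrank F ↥(L₀ ⊓ W₂) < finrank F X := by
      have e1 := Cfsg.Agent.Lib.Helper24.C3sLeaf.finrank_inf_comap φ W₂ C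
      have e3 : W₂.map φ ⊓ C = C := by
        rw [hC, ← inf_assoc, inf_idem]
      rw [e3, ← hX, hker] at e1
      have : 1 ≤ finrank F C := Submodule.one_le_finrank_iff.mpr ha1
      omega
    have hXv : ∀ x ∈ X, S.act (KL.cmul a φ x) v₀ ∈ W₂ := by
      intro x hx
      have hxC : φ x ∈ C := hx.2
      exact hxC.2
    obtain ⟨w, hwW, rfl⟩ := Submodule.mem_map.mp hp
    have hwn : S.act (KL.cmul a φ w) v₀ ∉ W₂ := hap
    obtain ⟨g', hg', hle, hne⟩ := growth_step S M hM hg hΛ hΛ0 X inf_le_left hXv hwW hwn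
    exact ⟨g', hg', lt_of_lt_of_le hXdim hle, hne⟩

/-- B: two images of the base line meeting in a hyperplane -/
theorem exists_adjacent (S : KL n F E) (hr : (finrank F E).Prime)
    (M : Subgroup (GL (Fin n) F)) (hM : S.CenLe M)
    {v₀ : 𝕍} (hv₀ : v₀ ≠ 0) {g : GL (Fin n) F} (hg : g ∈ M)
    (h1 : S.line v₀ ⊓ img g (S.line v₀) ≠ ⊥)
    (h2 : img g (S.line v₀) ≠ S.line v₀) :
    ∃ g' ∈ M, finrank F ↥(S.line v₀ ⊓ img g' (S.line v₀)) + 1 = finrank F E := by
  have hfd : FiniteDimensional F E := Module.finite_of_finrank_pos hr.pos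
  induction' hk : finrank F E - finrank F ↥(S.line v₀ ⊓ img g (S.line v₀))
    using Nat.strong_induction_on with k ih generalizing g
  have hlt : ∀ g'' : GL (Fin n) F, img g'' (S.line v₀) ≠ S.line v₀ →
      finrank F ↥(S.line v₀ ⊓ img g'' (S.line v₀)) < finrank F E := by
    intro g'' hne
    by_contra hcon
    push Not at hcon
    apply hne
    have hL : finrank F (S.line v₀) = finrank F E := S.finrank_line hv₀
    have hW : finrank F ↥(img g'' (S.line v₀)) = finrank F E := by rw [finrank_img, hL]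
    have e1 : S.line v₀ ⊓ img g'' (S.line v₀) = img g'' (S.line v₀) := by
      apply Submodule.eq_of_le_of_finrank_le inf_le_right
      rw [hW]
      exact hcon
    have e3 : S.line v₀ ⊓ img g'' (S.line v₀) = S.line v₀ := by
      apply Submodule.eq_of_le_of_finrank_le inf_le_left
      rw [hL]
      exact hcon
    rw [← e1, e3]
  have hlt0 := hlt g h2
  by_cases hadj : finrank F ↥(S.line v₀ ⊓ img g (S.line v₀)) + 1 = finrank F E
  · exact ⟨g, hg, hadj⟩
  · have h3 : finrank F ↥(S.line v₀ ⊓ img g (S.line v₀)) + 2 ≤ finrank F E := by omega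
    obtain ⟨g', hg', hgrow, hne⟩ := exists_growth S hr M hM hv₀ hg h1 h2 h3
    have h1' : S.line v₀ ⊓ img g' (S.line v₀) ≠ ⊥ := by
      rw [← Submodule.one_le_finrank_iff]
      omega
    have hlt' := hlt g' hne
    exact ih (finrank F E - finrank F ↥(S.line v₀ ⊓ img g' (S.line v₀))) (by omega) hg' h1' hne rfl

end Cfsg.Agent.Lib.Helper24.C3l
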