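import Mathlib
import Cfsg.Prelude.Def_ClassicalGeometry
import Cfsg.Prelude.Def_GeometricClasses
import Cfsg.Agent.Lib.Helper5.SpMax
import Cfsg.Agent.Lib.Helper24.C3lDefs
import Cfsg.Agent.Lib.Helper24.C3lEL
import Cfsg.Agent.Lib.Helper24.C3lG
import Cfsg.Agent.Lib.Helper24.C3lC3
import Cfsg.Agent.Lib.Helper24.C3lD2Defs
import Cfsg.Agent.Lib.Helper24.C3lD2B
import Cfsg.Agent.Lib.Helper23.C3lTRA
import Cfsg.Agent.Lib.Helper1.C3lSK

/-!
S5886: assembly of the core statement (`S.CenLe M`, `M` not inside the normaliser `⟹ SL_n(F) ≤ M`)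
from the stages A (+SK), GROWTH, FINAL (`d ≥ 3` | `d = 2`: beta + gamma), E.  The statements of the
stages gamma and E are hypotheses here (`hγ`, `hE`).
-/

set_option autoImplicit false
set_option linter.unusedSectionVars false
set_option linter.unusedVariables false

namespace Cfsg.Agent.Lib.Helper24.C3l
open Cfsg Matrix Module Cfsg.Agent.Lib.Helper5 Cfsg.Agent.Lib.Helper5.SpMax

universe u
variable {F : Type u} [Field F] {n : ℕ} {E : Type u} [Field E] [Algebra F E]

local notation "𝕍" => (Fin n → F)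
local notation "𝕄" => Matrix (Fin n) (Fin n) F

/-- the core statement, with the stages gamma and E as hypotheses -/
theorem core_of [Fintype F] (S : KL n F E) (hr : (finrank F E).Prime)
    (hrn : finrank F E ∣ n) (hlt : finrank F E < n) (hq : ¬ (Fintype.card F = 2 ∧ n = 4))
    (M : Subgroup (GL (Fin n) F)) (hM : S.CenLe M)
    (hγ : n = 2 * finrank F E → ∀ {v₀ : 𝕍}, v₀ ≠ 0 → ∀ {g : GL (Fin n) F}, g ∈ M →
      finrank F ↥(S.line v₀ ⊓ img g (S.line v₀)) + 1 = finrank F E → NonLin S M v₀ → HasTv M)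
    (hE : HasTv M → Cfsg.Geo.specialLinear (Fin n) F ≤ M)
    (hnot : ¬ M ≤ Cfsg.Geo.subalgebraNormalizer S.ρ.range) :
    Cfsg.Geo.specialLinear (Fin n) F ≤ M := by
  have hfd : FiniteDimensional F E := Module.finite_of_finrank_pos hr.pos
  have hn : 0 < n := lt_of_le_of_lt (Nat.zero_le _) hlt
  obtain ⟨v₀, hv₀⟩ : ∃ v₀ : 𝕍, v₀ ≠ 0 := by
    refine ⟨Pi.single ⟨0, hn⟩ 1, ?_⟩
    intro h
    have := congrFun h ⟨0, hn⟩
    simp at this
  obtain ⟨g, hg, h1, h2⟩ := Cfsg.Agent.Lib.Helper23.C3lLeaf.exists_meet_core S hlt M hM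
    (fun g h => Cfsg.Agent.Lib.Helper1.C3lLeaf.mem_normalizer_of_lines S hlt g h) hnot hv₀
  obtain ⟨g', hg', hadj⟩ := exists_adjacent S hr M hM hv₀ hg h1 h2
  apply hE
  obtain ⟨d, hd⟩ := hrn
  have hd2 : 2 ≤ d := by
    by_contra hcon
    push Not at hcon
    interval_cases d
    · omega
    · omega
  rcases Nat.eq_or_lt_of_le hd2 with hd' | hd'
  · -- `d = 2`
    have h2n : n = 2 * finrank F E := by rw [hd, ← hd', mul_comm]
    have hq' : ¬ (Fintype.card F = 2 ∧ finrank F E = 2) := by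
      rintro ⟨hF, hr2⟩
      apply hq
      refine ⟨hF, ?_⟩
      rw [h2n, hr2]
    exact hγ h2n hv₀ hg' hadj (nonLin_of_adjacent S hr h2n hq' M hM hv₀ hg' hadj)
  · -- `d ≥ 3`
    have h3 : 2 * finrank F E < n := by
      rw [hd]
      have : 0 < finrank F E := hr.pos
      nlinarith
    exact hasTv_of_adjacent_three S hr h3 M hM hv₀ hg' hadj

end Cfsg.Agent.Lib.Helper24.C3l
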