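/- helper24: simple groups of order 7920: 2 Re chi(y) at elements of order 11 from the degree; values of characters at involutions (mod 4, bounds) -/
import Mathlib
import Cfsg.Agent.Lib.Helper24.M11InvA
import Cfsg.Agent.Lib.Helper5.M11E
import Cfsg.Agent.Lib.Lead.InvolSums1

set_option autoImplicit false
set_option linter.unusedSectionVars false

namespace Cfsg.Agent.Lib.Helper24.M11Inv

open Cfsg Cfsg.Agent.CharLib Cfsg.Agent.Lib.Helper24
open scoped ComplexConjugate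

universe u

variable {G : Type u} [Group G] [Finite G]

/-- the square of the absolute value of an irreducible character at `g` is at most `|C(g)|` -/
theorem normSq_le_card_centralizer [Fintype (IrrCharacter G)] (χ : IrrCharacter G) (g : G) :
    Complex.normSq ((χ : G → ℂ) g) ≤ (Nat.card ↥(Subgroup.centralizer ({g} : Set G)) : ℝ) := by
  classical
  let _ : Fintype G := Fintype.ofFinite G
  have h := sum_irr_mul_conj (G := G) g g
  rw [Cfsg.Agent.Lib.Helper19.Ord720.classInd_self, one_mul] at h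
  have h3 : ∀ ψ : IrrCharacter G, (ψ : G → ℂ) g * conj ((ψ : G → ℂ) g) =
      ((Complex.normSq ((ψ : G → ℂ) g) : ℝ) : ℂ) := fun ψ => Complex.mul_conj _
  simp only [h3] at h
  have h4 : ∑ ψ : IrrCharacter G, Complex.normSq ((ψ : G → ℂ) g) =
      (Nat.card ↥(Subgroup.centralizer ({g} : Set G)) : ℝ) := by exact_mod_cast h
  rw [← h4]
  exact Finset.single_le_sum (f := fun ψ : IrrCharacter G => Complex.normSq ((ψ : G → ℂ) g))
    (fun ψ _ => Complex.normSq_nonneg _) (Finset.mem_univ χ)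

/-- the value of an irreducible character at an element `y` of order `11` with `C(y) = ⟨y⟩`
normalized by an element of order `5`: `χ(y) + χ(y⁻¹)` is a rational integer `s` with
`5 s + χ(1) = 11 m` and `s² ≤ 44` -/
theorem eleven_value {u y : G} (hy : orderOf y = 11) (hu : u ^ 5 = 1)
    (huy : u * y * u⁻¹ ∈ Subgroup.zpowers y) (hnc : u * y * u⁻¹ ≠ y)
    (hcent : Nat.card ↥(Subgroup.centralizer ({y} : Set G)) = 11) (χ : IrrCharacter G) :
    ∃ (s : ℤ) (m : ℕ), (χ : G → ℂ) y + (χ : G → ℂ) y⁻¹ = (s : ℂ) ∧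
      5 * s + (charDegree (χ : G → ℂ) : ℤ) = 11 * (m : ℤ) ∧ s ^ 2 ≤ 44 := by
  classical
  let _ : Fintype (IrrCharacter G) := fintypeIrr G
  let _ : Fintype ↥(Subgroup.zpowers y) := Fintype.ofFinite _
  have hχ := IsIrrCharacter.isCharacter χ.2
  have hcl : IsClassFunction G (χ : G → ℂ) := IsCharacter.isClassFunction hχ
  have s1 := sum_zpowers_eq hy hu huy hnc (χ : G → ℂ) hcl
  obtain ⟨m, hm⟩ := Cfsg.Agent.Lib.Helper12.BSF.sum_subgroup_irr (Subgroup.zpowers y) χ
  have hcard : Fintype.card ↥(Subgroup.zpowers y) = 11 := by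
    rw [← Nat.card_eq_fintype_card, Nat.card_zpowers, hy]
  rw [hm, hcard, irr_apply_one] at s1
  set d := charDegree (χ : G → ℂ) with hd
  have hq : (χ : G → ℂ) y + (χ : G → ℂ) y⁻¹ = (((11 * (m : ℚ) - (d : ℚ)) / 5 : ℚ) : ℂ) := by
    push_cast
    push_cast at s1
    linear_combination (-1 / 5 : ℂ) * s1
  have hint : IsIntegral ℤ ((χ : G → ℂ) y + (χ : G → ℂ) y⁻¹) :=
    (irr_isIntegral χ y).add (irr_isIntegral χ y⁻¹)
  rw [hq] at hint
  have h2 : IsIntegral ℤ ((11 * (m : ℚ) - (d : ℚ)) / 5 : ℚ) :=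
    (isIntegral_algebraMap_iff (algebraMap ℚ ℂ).injective (R := ℤ)
      (x := ((11 * (m : ℚ) - (d : ℚ)) / 5 : ℚ))).mp hint
  obtain ⟨v, hv⟩ := IsIntegrallyClosed.isIntegral_iff.mp h2
  have hv' : ((v : ℤ) : ℚ) = (11 * (m : ℚ) - (d : ℚ)) / 5 := hv
  have hsv : (χ : G → ℂ) y + (χ : G → ℂ) y⁻¹ = (v : ℂ) := by
    rw [hq, ← hv']
    push_cast
    rfl
  have hrel : 5 * v + (d : ℤ) = 11 * (m : ℤ) := by
    have h3 : 5 * ((v : ℤ) : ℚ) + ((d : ℤ) : ℚ) = 11 * ((m : ℤ) : ℚ) := by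
      rw [hv']
      push_cast
      ring
    exact_mod_cast h3
  refine ⟨v, m, hsv, hrel, ?_⟩
  -- the bound
  have hb := normSq_le_card_centralizer χ y
  rw [hcent] at hb
  rw [IsCharacter.apply_inv hχ, Complex.add_conj] at hsv
  have hre : (2 * ((χ : G → ℂ) y).re : ℝ) = (v : ℝ) := by
    have : ((2 * ((χ : G → ℂ) y).re : ℝ) : ℂ) = ((v : ℝ) : ℂ) := by
      rw [hsv]
      push_cast
      rfl
    exact_mod_cast this
  have hns : ((χ : G → ℂ) y).re ^ 2 ≤ Complex.normSq ((χ : G → ℂ) y) := by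
    rw [Complex.normSq_apply]
    nlinarith [mul_self_nonneg ((χ : G → ℂ) y).im]
  have hreal : ((v : ℝ)) ^ 2 ≤ 44 := by
    rw [← hre]
    push_cast at hb
    nlinarith
  exact_mod_cast hreal

/-- the value `2 Re χ(y)` as a function of the degree -/
def sval (d : ℕ) : ℤ :=
  if d = 1 then 2 else if d = 10 then -2 else if d = 45 then 2 else if d = 16 then -1 else 0

theorem s_eq_sval (d : ℕ) (s : ℤ) (m : ℕ) (h : 5 * s + (d : ℤ) = 11 * (m : ℤ)) (hs : s ^ 2 ≤ 44)
    (hd : d = 1 ∨ d = 10 ∨ d = 11 ∨ d = 16 ∨ d = 44 ∨ d = 45 ∨ d = 55) : s = sval d := by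
  have h1 : -6 ≤ s := by nlinarith
  have h2 : s ≤ 6 := by nlinarith
  unfold sval
  rcases hd with rfl | rfl | rfl | rfl | rfl | rfl | rfl <;> simp <;> omega

/-- the value of an irreducible character of a perfect group at an involution -/
theorem invol_value (hperf : commutator G = ⊤) (t : G) (ht : orderOf t = 2) (χ : IrrCharacter G) :
    ∃ (c : ℤ) (j : ℕ), (χ : G → ℂ) t = (c : ℂ) ∧
      c = (charDegree (χ : G → ℂ) : ℤ) - 4 * (j : ℤ) ∧ -(charDegree (χ : G → ℂ) : ℤ) ≤ c := by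
  have hχ := IsIrrCharacter.isCharacter χ.2
  obtain ⟨c, hc⟩ := IsCharacter.apply_involution_int hχ t ht
  obtain ⟨j, hj⟩ := Cfsg.Agent.Lib.Helper12.Ord5040.char_invol_mod_four hperf hχ t ht
  rw [irr_apply_one, hc] at hj
  have hcj : c = (charDegree (χ : G → ℂ) : ℤ) - 4 * (j : ℤ) := by
    have : ((c : ℤ) : ℂ) = (((charDegree (χ : G → ℂ) : ℤ) - 4 * (j : ℤ) : ℤ) : ℂ) := by
      push_cast
      exact hj
    exact_mod_cast this
  refine ⟨c, j, hc, hcj, ?_⟩
  have hle := Cfsg.Agent.Lib.Helper10.irr_norm_le χ.2 t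
  rw [hc, irr_apply_one, Complex.norm_natCast] at hle
  have h1 : ‖((c : ℤ) : ℂ)‖ = |(c : ℝ)| := by
    rw [← Complex.ofReal_intCast, Complex.norm_real, Real.norm_eq_abs]
  rw [h1] at hle
  have h2 : -((charDegree (χ : G → ℂ) : ℕ) : ℝ) ≤ (c : ℝ) := by
    have := neg_abs_le (c : ℝ)
    linarith
  exact_mod_cast h2

end Cfsg.Agent.Lib.Helper24.M11Inv
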