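/- helper24: enumeration of a ten-element index type by a multiset of degrees; the arithmetic determining the column of an involution in the character table of a simple group of order 7920 -/
import Mathlib

set_option autoImplicit false

namespace Cfsg.Agent.Lib.Helper24.M11Inv

/-- a multiset whose image under `f` is the list `L` is itself a list mapping to `L` -/
theorem exists_list_of_map_eq {α β : Type*} [DecidableEq α] (f : α → β) (L : List β) :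
    ∀ s : Multiset α, s.map f = (↑L : Multiset β) → ∃ l : List α, s = ↑l ∧ l.map f = L := by
  induction L with
  | nil =>
    intro s h
    refine ⟨[], ?_, rfl⟩
    have : s.map f = 0 := h
    rw [Multiset.map_eq_zero] at this
    rw [this]
    rfl
  | cons b L ih =>
    intro s h
    have h' : s.map f = b ::ₘ (↑L : Multiset β) := h
    obtain ⟨a, ha, hab, hrest⟩ := (Multiset.map_eq_cons f s _ b).mpr h'
    obtain ⟨l, hl, hlm⟩ := ih (s.erase a) hrest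
    refine ⟨a :: l, ?_, ?_⟩
    · rw [← Multiset.cons_erase ha, hl]
      rfl
    · rw [List.map_cons, hab, hlm]

theorem list_ten {α : Type*} (l : List α) (h : l.length = 10) :
    ∃ x0 x1 x2 x3 x4 x5 x6 x7 x8 x9, l = [x0, x1, x2, x3, x4, x5, x6, x7, x8, x9] := by
  match l, h with
  | [x0, x1, x2, x3, x4, x5, x6, x7, x8, x9], _ => exact ⟨x0, x1, x2, x3, x4, x5, x6, x7, x8, x9, rfl⟩

/-- ten elements enumerating a finite type with prescribed values of `f` -/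
theorem exists_ten {I : Type*} [Fintype I] [DecidableEq I] (f : I → ℕ) (n0 n1 n2 n3 n4 n5 n6 n7 n8 n9 : ℕ)
    (h : (Finset.univ : Finset I).val.map f = (↑[n0, n1, n2, n3, n4, n5, n6, n7, n8, n9] : Multiset ℕ)) :
    ∃ x0 x1 x2 x3 x4 x5 x6 x7 x8 x9 : I,
      (f x0 = n0 ∧ f x1 = n1 ∧ f x2 = n2 ∧ f x3 = n3 ∧ f x4 = n4 ∧ f x5 = n5 ∧ f x6 = n6 ∧
        f x7 = n7 ∧ f x8 = n8 ∧ f x9 = n9) ∧
      (Finset.univ : Finset I).val = (↑[x0, x1, x2, x3, x4, x5, x6, x7, x8, x9] : Multiset I) := by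
  obtain ⟨l, hl, hlm⟩ := exists_list_of_map_eq f _ _ h
  have hlen : l.length = 10 := by
    have := congrArg List.length hlm
    simpa using this
  obtain ⟨x0, x1, x2, x3, x4, x5, x6, x7, x8, x9, rfl⟩ := list_ten l hlen
  refine ⟨x0, x1, x2, x3, x4, x5, x6, x7, x8, x9, ?_, hl⟩
  simp only [List.map_cons, List.map_nil, List.cons.injEq, and_true] at hlm
  exact hlm

/-- expansion of a sum over a finite type enumerated by ten elements -/
theorem sum_ten {I M : Type*} [Fintype I] [AddCommMonoid M] (x0 x1 x2 x3 x4 x5 x6 x7 x8 x9 : I)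
    (h : (Finset.univ : Finset I).val = (↑[x0, x1, x2, x3, x4, x5, x6, x7, x8, x9] : Multiset I))
    (F : I → M) :
    ∑ i : I, F i = F x0 + (F x1 + (F x2 + (F x3 + (F x4 + (F x5 + (F x6 + (F x7 + (F x8 + F x9)))))))) := by
  show ((Finset.univ : Finset I).val.map F).sum = _
  rw [h]
  simp

set_option synthInstance.maxSize 100000 in
set_option synthInstance.maxHeartbeats 2000000 in
set_option maxRecDepth 1000000 in
/-- stage one: the values on the characters of degrees `10, 10, 10, 16, 16` -/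
theorem arith_stage1 : ∀ ja : ℕ, ja < 6 → ∀ jb : ℕ, jb < 6 → ∀ jc : ℕ, jc < 6 → ∀ j1 : ℕ, j1 < 9 → ∀ j2 : ℕ, j2 < 9 →
    (-144 * ((10 - 4 * (ja : ℤ)) ^ 2 + (10 - 4 * (jb : ℤ)) ^ 2 + (10 - 4 * (jc : ℤ)) ^ 2) +
      8 * (2 * ((10 - 4 * (ja : ℤ)) + (10 - 4 * (jb : ℤ)) + (10 - 4 * (jc : ℤ))) - 2 +
        ((16 - 4 * (j1 : ℤ)) + (16 - 4 * (j2 : ℤ)))) ^ 2 + 1440 -
      45 * ((16 - 4 * (j1 : ℤ)) ^ 2 + (16 - 4 * (j2 : ℤ)) ^ 2) = 0) →
    (j1 = 4 ∧ j2 = 4 ∧ ja + jb + jc = 8 ∧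
      (10 - 4 * (ja : ℤ)) ^ 2 + (10 - 4 * (jb : ℤ)) ^ 2 + (10 - 4 * (jc : ℤ)) ^ 2 = 12) ∨
    (ja = 0 ∧ jb = 0 ∧ jc = 0 ∧ j1 = 0 ∧ j2 = 0) := by
  decide



set_option synthInstance.maxSize 100000 in
set_option synthInstance.maxHeartbeats 2000000 in
set_option maxRecDepth 1000000 in
/-- stage two: the values on the characters of degrees `11, 44, 55` -/
theorem arith_stage2 : ∀ jd : ℕ, jd < 6 → ∀ jf : ℕ, jf < 23 → ∀ jh : ℕ, jh < 28 →
    (11 - 4 * (jd : ℤ)) + 4 * (44 - 4 * (jf : ℤ)) + 5 * (55 - 4 * (jh : ℤ)) = 14 →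
    ((11 - 4 * (jd : ℤ)) ^ 2 + (44 - 4 * (jf : ℤ)) ^ 2 + (55 - 4 * (jh : ℤ)) ^ 2 + 22) ∣ 7920 →
    (11 - 4 * (jd : ℤ)) ^ 2 + (44 - 4 * (jf : ℤ)) ^ 2 + (55 - 4 * (jh : ℤ)) ^ 2 = 26 := by
  decide

set_option synthInstance.maxSize 100000 in
set_option synthInstance.maxHeartbeats 2000000 in
set_option maxRecDepth 1000000 in
/-- stage two, the spurious solution of stage one -/
theorem arith_stage2' : ∀ jd : ℕ, jd < 6 → ∀ jf : ℕ, jf < 23 → ∀ jh : ℕ, jh < 28 →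
    (11 - 4 * (jd : ℤ)) + 4 * (44 - 4 * (jf : ℤ)) + 5 * (55 - 4 * (jh : ℤ)) = -258 →
    ((11 - 4 * (jd : ℤ)) ^ 2 + (44 - 4 * (jf : ℤ)) ^ 2 + (55 - 4 * (jh : ℤ)) ^ 2 + 2838) ∣ 7920 →
    False := by
  decide



/-- the column of an involution in the character table is determined -/
theorem column_unique (d f h a b c g o e1 e2 : ℤ) (jd jf jh ja jb jc jg jo j1 j2 : ℕ)
    (hd : d = 11 - 4 * (jd : ℤ)) (hd' : -11 ≤ d) (hf : f = 44 - 4 * (jf : ℤ)) (hf' : -44 ≤ f)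
    (hh : h = 55 - 4 * (jh : ℤ)) (hh' : -55 ≤ h)
    (ha : a = 10 - 4 * (ja : ℤ)) (ha' : -10 ≤ a) (hb : b = 10 - 4 * (jb : ℤ)) (hb' : -10 ≤ b)
    (hc : c = 10 - 4 * (jc : ℤ)) (hc' : -10 ≤ c) (hg : g = 45 - 4 * (jg : ℤ)) (hg' : -45 ≤ g)
    (ho : o = 1 - 4 * (jo : ℤ)) (ho' : -1 ≤ o)
    (h1 : e1 = 16 - 4 * (j1 : ℤ)) (h1' : -16 ≤ e1) (h2 : e2 = 16 - 4 * (j2 : ℤ)) (h2' : -16 ≤ e2)
    (eb : 11 * d + 44 * f + 55 * h + 10 * a + 10 * b + 10 * c + 45 * g + o + 16 * e1 + 16 * e2 = 0)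
    (ec : -2 * a - 2 * b - 2 * c + 2 * g + 2 * o - e1 - e2 = 0)
    (ed : -144 * (a ^ 2 + b ^ 2 + c ^ 2) + 32 * g ^ 2 + 1440 * o ^ 2 - 45 * (e1 ^ 2 + e2 ^ 2) = 0)
    (N : ℕ)
    (eN : (N : ℤ) = d ^ 2 + f ^ 2 + h ^ 2 + a ^ 2 + b ^ 2 + c ^ 2 + g ^ 2 + o ^ 2 + e1 ^ 2 + e2 ^ 2)
    (hN : N ∣ 7920) : N = 48 := by
  have ho1 : o = 1 := by omega
  have hja : ja < 6 := by omega
  have hjb : jb < 6 := by omega
  have hjc : jc < 6 := by omega
  have hj1 : j1 < 9 := by omega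
  have hj2 : j2 < 9 := by omega
  have hjd : jd < 6 := by omega
  have hjf : jf < 23 := by omega
  have hjh : jh < 28 := by omega
  have h2g : 2 * g = 2 * (a + b + c) - 2 + (e1 + e2) := by rw [ho1] at ec; linarith
  have hgg : 32 * g ^ 2 = 8 * (2 * (a + b + c) - 2 + (e1 + e2)) ^ 2 := by
    rw [← h2g]; ring
  have key : -144 * (a ^ 2 + b ^ 2 + c ^ 2) + 8 * (2 * (a + b + c) - 2 + (e1 + e2)) ^ 2 + 1440 -
      45 * (e1 ^ 2 + e2 ^ 2) = 0 := by
    rw [ho1] at ed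
    linarith
  have hNZ : (N : ℤ) ∣ 7920 := by exact_mod_cast hN
  rw [ha, hb, hc, h1, h2] at key
  rcases arith_stage1 ja hja jb hjb jc hjc j1 hj1 j2 hj2 key with ⟨r1, r2, r3, r4⟩ | ⟨r1, r2, r3, r4, r5⟩
  · rw [← ha, ← hb, ← hc] at r4
    have he1 : e1 = 0 := by rw [h1, r1]; norm_num
    have he2 : e2 = 0 := by rw [h2, r2]; norm_num
    have habc : a + b + c = -2 := by
      rw [ha, hb, hc]
      have : (ja : ℤ) + jb + jc = 8 := by exact_mod_cast r3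
      linarith
    have hg3 : g = -3 := by
      rw [habc, he1, he2] at h2g
      linarith
    have e14 : d + 4 * f + 5 * h = 14 := by
      rw [hg3, ho1, he1, he2] at eb
      linarith
    have hNval : (N : ℤ) = d ^ 2 + f ^ 2 + h ^ 2 + 22 := by
      rw [eN, hg3, ho1, he1, he2]
      linarith
    rw [hNval] at hNZ
    rw [hd, hf, hh] at e14 hNZ
    have := arith_stage2 jd hjd jf hjf jh hjh e14 hNZ
    rw [← hd, ← hf, ← hh] at this
    rw [this] at hNval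
    have : (N : ℤ) = 48 := by rw [hNval]; norm_num
    exact_mod_cast this
  · exfalso
    have ea : a = 10 := by rw [ha, r1]; norm_num
    have eb' : b = 10 := by rw [hb, r2]; norm_num
    have ec' : c = 10 := by rw [hc, r3]; norm_num
    have he1 : e1 = 16 := by rw [h1, r4]; norm_num
    have he2 : e2 = 16 := by rw [h2, r5]; norm_num
    have hg45 : g = 45 := by
      rw [ea, eb', ec', he1, he2] at h2g
      linarith
    have e258 : d + 4 * f + 5 * h = -258 := by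
      rw [hg45, ho1, he1, he2, ea, eb', ec'] at eb
      linarith
    have hNval : (N : ℤ) = d ^ 2 + f ^ 2 + h ^ 2 + 2838 := by
      rw [eN, hg45, ho1, he1, he2, ea, eb', ec']
      ring
    rw [hNval] at hNZ
    rw [hd, hf, hh] at e258 hNZ
    exact arith_stage2' jd hjd jf hjf jh hjh e258 hNZ

end Cfsg.Agent.Lib.Helper24.M11Inv
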