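/- helper24: simple groups of order 7920: the column of an involution in the character table is determined; the centralizer of an involution has order 48 -/
import Mathlib
import Cfsg.Agent.Lib.Helper24.M11InvB
import Cfsg.Agent.Lib.Helper24.M11InvC

set_option autoImplicit false
set_option linter.unusedSectionVars false

namespace Cfsg.Agent.Lib.Helper24.M11Inv

open Cfsg Cfsg.Agent.CharLib Cfsg.Agent.Lib.Helper24
open scoped ComplexConjugate

universe u

variable {G : Type u} [Group G] [Finite G]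

/-- orthogonality of the column of `t ≠ 1` with the column of the identity -/
theorem eq_b [Fintype (IrrCharacter G)] (t : G) (ht1 : t ≠ 1) (c : IrrCharacter G → ℤ)
    (hc : ∀ χ : IrrCharacter G, (χ : G → ℂ) t = (c χ : ℂ)) :
    ∑ χ : IrrCharacter G, c χ * (charDegree (χ : G → ℂ) : ℤ) = 0 := by
  classical
  let _ : Fintype G := Fintype.ofFinite G
  have h := sum_irr_mul_conj (G := G) t 1
  have hn : ¬ IsConj t (1 : G) := by
    rw [isConj_one_left]; exact ht1
  rw [Cfsg.Agent.Lib.Helper19.Ord720.classInd_of_not hn, zero_mul] at h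
  have h3 : ∀ χ : IrrCharacter G, (χ : G → ℂ) t * conj ((χ : G → ℂ) 1) =
      ((c χ * (charDegree (χ : G → ℂ) : ℤ) : ℤ) : ℂ) := by
    intro χ
    rw [hc χ, irr_apply_one, map_natCast]
    push_cast
    ring
  simp only [h3] at h
  exact_mod_cast h

/-- the norm of the column of `t` -/
theorem eq_e [Fintype (IrrCharacter G)] (t : G) (c : IrrCharacter G → ℤ)
    (hc : ∀ χ : IrrCharacter G, (χ : G → ℂ) t = (c χ : ℂ)) :
    ∑ χ : IrrCharacter G, c χ ^ 2 = (Nat.card ↥(Subgroup.centralizer ({t} : Set G)) : ℤ) := by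
  classical
  let _ : Fintype G := Fintype.ofFinite G
  have h := sum_irr_mul_conj (G := G) t t
  rw [Cfsg.Agent.Lib.Helper19.Ord720.classInd_self, one_mul] at h
  have h3 : ∀ χ : IrrCharacter G, (χ : G → ℂ) t * conj ((χ : G → ℂ) t) =
      ((c χ ^ 2 : ℤ) : ℂ) := by
    intro χ
    rw [hc χ, map_intCast]
    push_cast
    ring
  simp only [h3] at h
  exact_mod_cast h

/-- orthogonality of the column of `t` with the columns of `y` and `y⁻¹` -/
theorem eq_c [Fintype (IrrCharacter G)] (t y : G) (h1 : ¬ IsConj t y) (h2 : ¬ IsConj t y⁻¹)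
    (c s : IrrCharacter G → ℤ) (hc : ∀ χ : IrrCharacter G, (χ : G → ℂ) t = (c χ : ℂ))
    (hs : ∀ χ : IrrCharacter G, (χ : G → ℂ) y + (χ : G → ℂ) y⁻¹ = (s χ : ℂ)) :
    ∑ χ : IrrCharacter G, c χ * s χ = 0 := by
  classical
  let _ : Fintype G := Fintype.ofFinite G
  have e1 := sum_irr_mul_conj (G := G) t y
  have e2 := sum_irr_mul_conj (G := G) t y⁻¹
  rw [Cfsg.Agent.Lib.Helper19.Ord720.classInd_of_not h1, zero_mul] at e1
  rw [Cfsg.Agent.Lib.Helper19.Ord720.classInd_of_not h2, zero_mul] at e2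
  have e3 : ∑ χ : IrrCharacter G, ((c χ * s χ : ℤ) : ℂ) = 0 := by
    rw [← add_zero (0 : ℂ)]
    nth_rewrite 1 [← e1]
    rw [← e2, ← Finset.sum_add_distrib]
    apply Finset.sum_congr rfl
    intro χ _
    rw [← mul_add, ← map_add, hs χ, hc χ, map_intCast]
    push_cast
    ring
  exact_mod_cast e3

/-- the vanishing of the class multiplication constants of `(t, t, y)` and `(t, t, y⁻¹)` -/
theorem eq_d [Fintype (IrrCharacter G)] (t y : G)
    (h1 : ∀ a b : G, ¬ IsConj (a * t * a⁻¹ * (b * t * b⁻¹)) y)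
    (h2 : ∀ a b : G, ¬ IsConj (a * t * a⁻¹ * (b * t * b⁻¹)) y⁻¹)
    (c s : IrrCharacter G → ℤ) (hc : ∀ χ : IrrCharacter G, (χ : G → ℂ) t = (c χ : ℂ))
    (hs : ∀ χ : IrrCharacter G, (χ : G → ℂ) y + (χ : G → ℂ) y⁻¹ = (s χ : ℂ)) :
    ∑ χ : IrrCharacter G,
      c χ ^ 2 * s χ * ((Nat.card G / charDegree (χ : G → ℂ) : ℕ) : ℤ) = 0 := by
  classical
  have e1 := sum_irr_classMul_eq_zero (G := G) t t y⁻¹ (by rw [inv_inv]; exact h1)
  have e2 := sum_irr_classMul_eq_zero (G := G) t t y h2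
  have hG0 : (Nat.card G : ℂ) ≠ 0 := Nat.cast_ne_zero.mpr Nat.card_pos.ne'
  have e3 : ∑ χ : IrrCharacter G,
      ((c χ ^ 2 * s χ * ((Nat.card G / charDegree (χ : G → ℂ) : ℕ) : ℤ) : ℤ) : ℂ) = 0 := by
    have e4 : ∑ χ : IrrCharacter G,
        ((c χ ^ 2 * s χ * ((Nat.card G / charDegree (χ : G → ℂ) : ℕ) : ℤ) : ℤ) : ℂ) =
        (Nat.card G : ℂ) * (∑ χ : IrrCharacter G,
          ((χ : G → ℂ) t * (χ : G → ℂ) t / (χ : G → ℂ) 1) * (χ : G → ℂ) y +
         ∑ χ : IrrCharacter G,
          ((χ : G → ℂ) t * (χ : G → ℂ) t / (χ : G → ℂ) 1) * (χ : G → ℂ) y⁻¹) := by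
      rw [← Finset.sum_add_distrib, Finset.mul_sum]
      apply Finset.sum_congr rfl
      intro χ _
      rw [← mul_add, hs χ, hc χ, irr_apply_one]
      obtain ⟨q, hq⟩ := irr_charDegree_dvd_card χ
      have hdpos := irr_charDegree_pos χ
      have hq' : Nat.card G / charDegree (χ : G → ℂ) = q := by
        rw [hq]
        exact Nat.mul_div_cancel_left q hdpos
      rw [hq']
      have hqc : (Nat.card G : ℂ) = (charDegree (χ : G → ℂ) : ℂ) * (q : ℂ) := by
        exact_mod_cast congrArg (Nat.cast (R := ℂ)) hq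
      have hd0 : (charDegree (χ : G → ℂ) : ℂ) ≠ 0 := by exact_mod_cast hdpos.ne'
      rw [hqc]
      push_cast
      field_simp
    rw [e4, e1, e2, add_zero, mul_zero]
  exact_mod_cast e3

theorem sval_vals : sval 11 = 0 ∧ sval 44 = 0 ∧ sval 55 = 0 ∧ sval 10 = -2 ∧ sval 45 = 2 ∧
    sval 1 = 2 ∧ sval 16 = -1 := by
  decide

set_option maxHeartbeats 1600000 in
/-- the centralizer of an involution in a simple group of order `7920` has order `48` -/
theorem card_centralizer_invol [IsSimpleGroup G] (hord : Nat.card G = 7920) (t : G)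
    (ht : orderOf t = 2) : Nat.card ↥(Subgroup.centralizer ({t} : Set G)) = 48 := by
  classical
  let _ : Fintype G := Fintype.ofFinite G
  let _ : Fintype (IrrCharacter G) := fintypeIrr G
  have hperf := Cfsg.Agent.Lib.Helper24.Ord7920.perfect_of_simple_7920 hord
  obtain ⟨y, u, hy, hu, huy, hnc, hcent⟩ := exists_eleven_data hord
  choose s m hs hsm hs44 using eleven_value hy hu huy hnc hcent
  choose c j hc hcj hcb using invol_value hperf t ht
  have hM := Cfsg.Agent.Lib.Helper5.M11.degrees_multiset hord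
  obtain ⟨x0, x1, x2, x3, x4, x5, x6, x7, x8, x9, ⟨d0, d1, d2, d3, d4, d5, d6, d7, d8, d9⟩, hval⟩ :=
    exists_ten (fun χ : IrrCharacter G => charDegree (χ : G → ℂ)) 11 44 55 10 10 10 45 1 16 16 hM
  have hsum := fun F : IrrCharacter G → ℤ => sum_ten x0 x1 x2 x3 x4 x5 x6 x7 x8 x9 hval F
  obtain ⟨v11, v44, v55, v10, v45, v1, v16⟩ := sval_vals
  -- the values at the elements of order `11`
  have s0 : s x0 = 0 := by
    rw [s_eq_sval _ _ _ (hsm x0) (hs44 x0) (by rw [d0]; norm_num), d0, v11]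
  have s1 : s x1 = 0 := by
    rw [s_eq_sval _ _ _ (hsm x1) (hs44 x1) (by rw [d1]; norm_num), d1, v44]
  have s2 : s x2 = 0 := by
    rw [s_eq_sval _ _ _ (hsm x2) (hs44 x2) (by rw [d2]; norm_num), d2, v55]
  have s3 : s x3 = -2 := by
    rw [s_eq_sval _ _ _ (hsm x3) (hs44 x3) (by rw [d3]; norm_num), d3, v10]
  have s4 : s x4 = -2 := by
    rw [s_eq_sval _ _ _ (hsm x4) (hs44 x4) (by rw [d4]; norm_num), d4, v10]
  have s5 : s x5 = -2 := by
    rw [s_eq_sval _ _ _ (hsm x5) (hs44 x5) (by rw [d5]; norm_num), d5, v10]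
  have s6 : s x6 = 2 := by
    rw [s_eq_sval _ _ _ (hsm x6) (hs44 x6) (by rw [d6]; norm_num), d6, v45]
  have s7 : s x7 = 2 := by
    rw [s_eq_sval _ _ _ (hsm x7) (hs44 x7) (by rw [d7]; norm_num), d7, v1]
  have s8 : s x8 = -1 := by
    rw [s_eq_sval _ _ _ (hsm x8) (hs44 x8) (by rw [d8]; norm_num), d8, v16]
  have s9 : s x9 = -1 := by
    rw [s_eq_sval _ _ _ (hsm x9) (hs44 x9) (by rw [d9]; norm_num), d9, v16]
  -- non-conjugacy
  have ht1 : t ≠ 1 := by
    intro h
    rw [h, orderOf_one] at ht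
    omega
  have hyi : orderOf y⁻¹ = 11 := by rw [orderOf_inv, hy]
  have hty : ¬ IsConj t y := by
    intro h
    have := orderOf_eq_of_isConj h
    rw [ht, hy] at this
    omega
  have hty' : ¬ IsConj t y⁻¹ := by
    intro h
    have := orderOf_eq_of_isConj h
    rw [ht, hyi] at this
    omega
  have hp1 : ∀ a b : G, ¬ IsConj (a * t * a⁻¹ * (b * t * b⁻¹)) y :=
    fun a b => not_isConj_mul_invol hord t y ht hy a b
  have hp2 : ∀ a b : G, ¬ IsConj (a * t * a⁻¹ * (b * t * b⁻¹)) y⁻¹ :=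
    fun a b => not_isConj_mul_invol hord t y⁻¹ ht hyi a b
  -- the equations
  have Eb := eq_b t ht1 c hc
  have Ee := eq_e t c hc
  have Ec := eq_c t y hty hty' c s hc hs
  have Ed := eq_d t y hp1 hp2 c s hc hs
  rw [hsum] at Eb Ee Ec Ed
  rw [hord] at Ed
  rw [d0, d1, d2, d3, d4, d5, d6, d7, d8, d9] at Eb Ed
  rw [s0, s1, s2, s3, s4, s5, s6, s7, s8, s9] at Ec Ed
  norm_num at Ed
  have k0 := hcj x0
  have k1 := hcj x1
  have k2 := hcj x2
  have k3 := hcj x3
  have k4 := hcj x4
  have k5 := hcj x5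
  have k6 := hcj x6
  have k7 := hcj x7
  have k8 := hcj x8
  have k9 := hcj x9
  have b0 := hcb x0
  have b1 := hcb x1
  have b2 := hcb x2
  have b3 := hcb x3
  have b4 := hcb x4
  have b5 := hcb x5
  have b6 := hcb x6
  have b7 := hcb x7
  have b8 := hcb x8
  have b9 := hcb x9
  rw [d0] at k0 b0
  rw [d1] at k1 b1
  rw [d2] at k2 b2
  rw [d3] at k3 b3
  rw [d4] at k4 b4
  rw [d5] at k5 b5
  rw [d6] at k6 b6
  rw [d7] at k7 b7
  rw [d8] at k8 b8
  rw [d9] at k9 b9
  have hdvd : Nat.card ↥(Subgroup.centralizer ({t} : Set G)) ∣ 7920 := by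
    rw [← hord]; exact Subgroup.card_subgroup_dvd_card _
  exact column_unique (c x0) (c x1) (c x2) (c x3) (c x4) (c x5) (c x6) (c x7) (c x8) (c x9)
    (j x0) (j x1) (j x2) (j x3) (j x4) (j x5) (j x6) (j x7) (j x8) (j x9)
    (by push_cast at k0; linarith) (by push_cast at b0; linarith)
    (by push_cast at k1; linarith) (by push_cast at b1; linarith)
    (by push_cast at k2; linarith) (by push_cast at b2; linarith)
    (by push_cast at k3; linarith) (by push_cast at b3; linarith)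
    (by push_cast at k4; linarith) (by push_cast at b4; linarith)
    (by push_cast at k5; linarith) (by push_cast at b5; linarith)
    (by push_cast at k6; linarith) (by push_cast at b6; linarith)
    (by push_cast at k7; linarith) (by push_cast at b7; linarith)
    (by push_cast at k8; linarith) (by push_cast at b8; linarith)
    (by push_cast at k9; linarith) (by push_cast at b9; linarith)
    (by push_cast at Eb; linarith) (by linarith) (by linarith)
    (Nat.card ↥(Subgroup.centralizer ({t} : Set G))) (by rw [← Ee]; ring) hdvd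

end Cfsg.Agent.Lib.Helper24.M11Inv
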