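/- helper24: arithmetic for the character column of a real element of order 3 and the full column of an involution in a simple group of order 7920 -/
import Mathlib
import Cfsg.Agent.Lib.Helper24.M11InvC

set_option autoImplicit false

namespace Cfsg.Agent.Lib.Helper24.M11Three

/-- the value on the character of degree `45` forced by the orthogonality with the `11`-elements -/
def gOf (a b c e1 e2 : ℤ) : ℤ := a + b + c + (e1 + e2) / 2 - 1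

/-- `264` times the value on the character of degree `44` -/
def fNum (a b c d e1 e2 : ℤ) : ℤ :=
  -(176 * d + 110 * (a - b - c) - 120 * gOf a b c e1 e2 + 56 + 10 * (a + b + c) + 16 * (e1 + e2))

def fOf (a b c d e1 e2 : ℤ) : ℤ := fNum a b c d e1 e2 / 264

def hOf (a b c d e1 e2 : ℤ) : ℤ :=
  3 * d + 4 * fOf a b c d e1 e2 + 2 * (a - b - c) - 3 * gOf a b c e1 e2 + 1

def nOf (a b c d e1 e2 : ℤ) : ℤ :=
  1 + a * a + b * b + c * c + d * d + e1 * e1 + e2 * e2 + fOf a b c d e1 e2 * fOf a b c d e1 e2 +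
    gOf a b c e1 e2 * gOf a b c e1 e2 + hOf a b c d e1 e2 * hOf a b c d e1 e2

def ztOf (a b c d e1 e2 : ℤ) : ℤ :=
  2160 * (d * d) + 720 * (fOf a b c d e1 e2 * fOf a b c d e1 e2) -
    144 * (hOf a b c d e1 e2 * hOf a b c d e1 e2) + 1584 * (a * a - b * b - c * c) -
    528 * (gOf a b c e1 e2 * gOf a b c e1 e2) + 7920

def zzOf (a b c d e1 e2 : ℤ) : ℤ :=
  720 * (d * d * d) + 180 * (fOf a b c d e1 e2 * fOf a b c d e1 e2 * fOf a b c d e1 e2) +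
    144 * (hOf a b c d e1 e2 * hOf a b c d e1 e2 * hOf a b c d e1 e2) +
    792 * (a * a * a + b * b * b + c * c * c) +
    176 * (gOf a b c e1 e2 * gOf a b c e1 e2 * gOf a b c e1 e2) + 7920 +
    495 * (e1 * e1 * e1 + e2 * e2 * e2)

/-- the combined check -/
def chk (a b c d e1 e2 : ℤ) : Bool :=
  decide ((e1 + e2) % 2 = 0) && (decide (fNum a b c d e1 e2 % 264 = 0) &&
    (decide (7920 % nOf a b c d e1 e2 = 0) &&
      (decide (0 ≤ ztOf a b c d e1 e2) &&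
        (decide (ztOf a b c d e1 e2 % (nOf a b c d e1 e2 * nOf a b c d e1 e2) = 0) &&
          (decide (0 ≤ zzOf a b c d e1 e2) &&
            decide (zzOf a b c d e1 e2 % (nOf a b c d e1 e2 * nOf a b c d e1 e2) = 0))))))

set_option synthInstance.maxSize 100000 in
set_option synthInstance.maxHeartbeats 2000000 in
set_option maxRecDepth 1000000 in
theorem arith_three : ∀ ma : ℕ, ma < 6 → ∀ mb : ℕ, mb < 6 → ∀ mc : ℕ, mc < 6 →
    ∀ m1 : ℕ, m1 < 9 → ∀ m2 : ℕ, m2 < 9 → ∀ md : ℕ, md < 6 →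
    chk (3 * (ma : ℤ) - 5) (3 * (mb : ℤ) - 5) (3 * (mc : ℤ) - 5) (3 * (md : ℤ) - 4)
      (3 * (m1 : ℤ) - 8) (3 * (m2 : ℤ) - 8) = true →
    ma = 2 ∧ mb = 2 ∧ mc = 2 ∧ m1 = 2 ∧ m2 = 2 ∧ md = 2 := by
  decide +kernel

set_option maxHeartbeats 2000000 in
/-- the column of a real element of order `3` in the character table is determined -/
theorem three_column_unique (d f h a b c g o e1 e2 : ℤ) (md ma mb mc m1 m2 mo : ℕ)
    (hd : 2 * d + 11 = 3 * (md : ℤ)) (ha : 2 * a + 10 = 3 * (ma : ℤ))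
    (hb : 2 * b + 10 = 3 * (mb : ℤ)) (hc : 2 * c + 10 = 3 * (mc : ℤ))
    (h1 : 2 * e1 + 16 = 3 * (m1 : ℤ)) (h2 : 2 * e2 + 16 = 3 * (m2 : ℤ))
    (ho : 2 * o + 1 = 3 * (mo : ℤ)) (ho' : o ≤ 1)
    (hd' : d ≤ 11) (ha' : a ≤ 10) (hb' : b ≤ 10) (hc' : c ≤ 10) (h1' : e1 ≤ 16) (h2' : e2 ≤ 16)
    (eY : 2 * o - 2 * (a + b + c) + 2 * g - (e1 + e2) = 0)
    (eT : 3 * d + 4 * f - h + 2 * a - 2 * b - 2 * c - 3 * g + o = 0)
    (eL : 11 * d + 44 * f + 55 * h + 10 * (a + b + c) + 45 * g + o + 16 * (e1 + e2) = 0)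
    (N : ℕ)
    (eN : (N : ℤ) = d ^ 2 + f ^ 2 + h ^ 2 + a ^ 2 + b ^ 2 + c ^ 2 + g ^ 2 + o ^ 2 + e1 ^ 2 + e2 ^ 2)
    (hN : N ∣ 7920) (K K' : ℕ)
    (eZT : 720 * (d ^ 2 * 3) + 180 * (f ^ 2 * 4) + 144 * (h ^ 2 * (-1)) + 792 * (a ^ 2 * 2) +
      792 * (b ^ 2 * (-2)) + 792 * (c ^ 2 * (-2)) + 176 * (g ^ 2 * (-3)) + 7920 * (o ^ 2 * 1) =
      (N : ℤ) ^ 2 * K)
    (eZZ : 720 * d ^ 3 + 180 * f ^ 3 + 144 * h ^ 3 + 792 * a ^ 3 + 792 * b ^ 3 + 792 * c ^ 3 +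
      176 * g ^ 3 + 7920 * o ^ 3 + 495 * e1 ^ 3 + 495 * e2 ^ 3 = (N : ℤ) ^ 2 * K') :
    d = 2 ∧ f = -1 ∧ h = 1 ∧ a = 1 ∧ b = 1 ∧ c = 1 ∧ g = 0 ∧ o = 1 ∧ e1 = -2 ∧ e2 = -2 ∧
      N = 18 := by
  have ho1 : o = 1 := by omega
  subst ho1
  have hNpos : 0 < N := Nat.pos_of_dvd_of_pos hN (by norm_num)
  -- the parameters
  obtain ⟨ka, hka, hka'⟩ : ∃ k : ℕ, k < 6 ∧ a = 3 * (k : ℤ) - 5 := ⟨ma / 2, by omega, by omega⟩
  obtain ⟨kb, hkb, hkb'⟩ : ∃ k : ℕ, k < 6 ∧ b = 3 * (k : ℤ) - 5 := ⟨mb / 2, by omega, by omega⟩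
  obtain ⟨kc, hkc, hkc'⟩ : ∃ k : ℕ, k < 6 ∧ c = 3 * (k : ℤ) - 5 := ⟨mc / 2, by omega, by omega⟩
  obtain ⟨k1, hk1, hk1'⟩ : ∃ k : ℕ, k < 9 ∧ e1 = 3 * (k : ℤ) - 8 := ⟨m1 / 2, by omega, by omega⟩
  obtain ⟨k2, hk2, hk2'⟩ : ∃ k : ℕ, k < 9 ∧ e2 = 3 * (k : ℤ) - 8 := ⟨m2 / 2, by omega, by omega⟩
  obtain ⟨kd, hkd, hkd'⟩ : ∃ k : ℕ, k < 6 ∧ d = 3 * (k : ℤ) - 4 := ⟨(md - 1) / 2, by omega, by omega⟩
  -- the derived values
  have hg : gOf a b c e1 e2 = g := by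
    unfold gOf
    omega
  have hfn : fNum a b c d e1 e2 = 264 * f := by
    unfold fNum
    rw [hg]
    linarith
  have hf : fOf a b c d e1 e2 = f := by
    unfold fOf
    rw [hfn]
    exact Int.mul_ediv_cancel_left f (by norm_num)
  have hh : hOf a b c d e1 e2 = h := by
    unfold hOf
    rw [hf, hg]
    linarith
  have hn : nOf a b c d e1 e2 = (N : ℤ) := by
    unfold nOf
    rw [hf, hg, hh, eN]
    ring
  have hzt : ztOf a b c d e1 e2 = (N : ℤ) ^ 2 * K := by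
    unfold ztOf
    rw [hf, hg, hh, ← eZT]
    ring
  have hzz : zzOf a b c d e1 e2 = (N : ℤ) ^ 2 * K' := by
    unfold zzOf
    rw [hf, hg, hh, ← eZZ]
    ring
  have hK : (0 : ℤ) ≤ K := Int.natCast_nonneg K
  have hK' : (0 : ℤ) ≤ K' := Int.natCast_nonneg K'
  have hchk : chk a b c d e1 e2 = true := by
    unfold chk
    simp only [Bool.and_eq_true, decide_eq_true_eq]
    refine ⟨by omega, by rw [hfn]; exact Int.mul_emod_right 264 f, ?_, ?_, ?_, ?_, ?_⟩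
    · rw [hn]
      exact Int.emod_eq_zero_of_dvd (by exact_mod_cast hN)
    · rw [hzt]; positivity
    · rw [hzt, hn, ← pow_two]
      exact Int.mul_emod_right _ _
    · rw [hzz]; positivity
    · rw [hzz, hn, ← pow_two]
      exact Int.mul_emod_right _ _
  rw [hka', hkb', hkc', hkd', hk1', hk2'] at hchk
  obtain ⟨r1, r2, r3, r4, r5, r6⟩ := arith_three ka hka kb hkb kc hkc k1 hk1 k2 hk2 kd hkd hchk
  subst r1 r2 r3 r4 r5 r6
  have ea : a = 1 := by rw [hka']; norm_num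
  have eb : b = 1 := by rw [hkb']; norm_num
  have ec : c = 1 := by rw [hkc']; norm_num
  have ed : d = 2 := by rw [hkd']; norm_num
  have ee1 : e1 = -2 := by rw [hk1']; norm_num
  have ee2 : e2 = -2 := by rw [hk2']; norm_num
  subst ea eb ec ed ee1 ee2
  have eg : g = 0 := by linarith
  subst eg
  have ef : f = -1 := by linarith
  subst ef
  have eh : h = 1 := by linarith
  subst eh
  refine ⟨rfl, rfl, rfl, rfl, rfl, rfl, rfl, rfl, rfl, rfl, ?_⟩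
  have : (N : ℤ) = 18 := by rw [eN]; norm_num
  exact_mod_cast this

set_option synthInstance.maxSize 100000 in
set_option synthInstance.maxHeartbeats 2000000 in
set_option maxRecDepth 1000000 in
/-- the values of an involution on the characters of degrees `11, 44, 55` -/
theorem arith_stage2v : ∀ jd : ℕ, jd < 6 → ∀ jf : ℕ, jf < 23 → ∀ jh : ℕ, jh < 28 →
    (11 - 4 * (jd : ℤ)) + 4 * (44 - 4 * (jf : ℤ)) + 5 * (55 - 4 * (jh : ℤ)) = 14 →
    (11 - 4 * (jd : ℤ)) ^ 2 + (44 - 4 * (jf : ℤ)) ^ 2 + (55 - 4 * (jh : ℤ)) ^ 2 = 26 →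
    jd = 2 ∧ jf = 10 ∧ jh = 14 := by
  decide +kernel

set_option synthInstance.maxSize 100000 in
set_option synthInstance.maxHeartbeats 2000000 in
set_option maxRecDepth 1000000 in
theorem arith_abc : ∀ ja : ℕ, ja < 6 → ∀ jb : ℕ, jb < 6 → ∀ jc : ℕ, jc < 6 → ja + jb + jc = 8 →
    (10 - 4 * (ja : ℤ)) ^ 2 + (10 - 4 * (jb : ℤ)) ^ 2 + (10 - 4 * (jc : ℤ)) ^ 2 = 12 →
    (ja = 2 ∧ jb = 3 ∧ jc = 3) ∨ (ja = 3 ∧ jb = 2 ∧ jc = 3) ∨ (ja = 3 ∧ jb = 3 ∧ jc = 2) := by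
  decide +kernel

/-- the column of an involution in the character table -/
theorem column_values (d f h a b c g o e1 e2 : ℤ) (jd jf jh ja jb jc jg jo j1 j2 : ℕ)
    (hd : d = 11 - 4 * (jd : ℤ)) (hd' : -11 ≤ d) (hf : f = 44 - 4 * (jf : ℤ)) (hf' : -44 ≤ f)
    (hh : h = 55 - 4 * (jh : ℤ)) (hh' : -55 ≤ h)
    (ha : a = 10 - 4 * (ja : ℤ)) (ha' : -10 ≤ a) (hb : b = 10 - 4 * (jb : ℤ)) (hb' : -10 ≤ b)
    (hc : c = 10 - 4 * (jc : ℤ)) (hc' : -10 ≤ c) (hg : g = 45 - 4 * (jg : ℤ))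
    (ho : o = 1 - 4 * (jo : ℤ)) (ho' : -1 ≤ o)
    (h1 : e1 = 16 - 4 * (j1 : ℤ)) (h1' : -16 ≤ e1) (h2 : e2 = 16 - 4 * (j2 : ℤ)) (h2' : -16 ≤ e2)
    (eb : 11 * d + 44 * f + 55 * h + 10 * a + 10 * b + 10 * c + 45 * g + o + 16 * e1 + 16 * e2 = 0)
    (ec : -2 * a - 2 * b - 2 * c + 2 * g + 2 * o - e1 - e2 = 0)
    (ed : -144 * (a ^ 2 + b ^ 2 + c ^ 2) + 32 * g ^ 2 + 1440 * o ^ 2 - 45 * (e1 ^ 2 + e2 ^ 2) = 0)
    (N : ℕ)
    (eN : (N : ℤ) = d ^ 2 + f ^ 2 + h ^ 2 + a ^ 2 + b ^ 2 + c ^ 2 + g ^ 2 + o ^ 2 + e1 ^ 2 + e2 ^ 2)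
    (hN : N ∣ 7920) :
    d = 3 ∧ f = 4 ∧ h = -1 ∧ g = -3 ∧ o = 1 ∧ e1 = 0 ∧ e2 = 0 ∧
      ((a = 2 ∧ b = -2 ∧ c = -2) ∨ (a = -2 ∧ b = 2 ∧ c = -2) ∨ (a = -2 ∧ b = -2 ∧ c = 2)) := by
  have ho1 : o = 1 := by omega
  have hja : ja < 6 := by omega
  have hjb : jb < 6 := by omega
  have hjc : jc < 6 := by omega
  have hj1 : j1 < 9 := by omega
  have hj2 : j2 < 9 := by omega
  have hjd : jd < 6 := by omega
  have hjf : jf < 23 := by omega
  have hjh : jh < 28 := by omega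
  have h2g : 2 * g = 2 * (a + b + c) - 2 + (e1 + e2) := by rw [ho1] at ec; linarith
  have hgg : 32 * g ^ 2 = 8 * (2 * (a + b + c) - 2 + (e1 + e2)) ^ 2 := by
    rw [← h2g]; ring
  have key : -144 * (a ^ 2 + b ^ 2 + c ^ 2) + 8 * (2 * (a + b + c) - 2 + (e1 + e2)) ^ 2 + 1440 -
      45 * (e1 ^ 2 + e2 ^ 2) = 0 := by
    rw [ho1] at ed
    linarith
  have hNZ : (N : ℤ) ∣ 7920 := by exact_mod_cast hN
  rw [ha, hb, hc, h1, h2] at key
  rcases Cfsg.Agent.Lib.Helper24.M11Inv.arith_stage1 ja hja jb hjb jc hjc j1 hj1 j2 hj2 key with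
    ⟨r1, r2, r3, r4⟩ | ⟨r1, r2, r3, r4, r5⟩
  · have habcj := arith_abc ja hja jb hjb jc hjc r3 r4
    rw [← ha, ← hb, ← hc] at r4
    have he1 : e1 = 0 := by rw [h1, r1]; norm_num
    have he2 : e2 = 0 := by rw [h2, r2]; norm_num
    have habc : a + b + c = -2 := by
      rw [ha, hb, hc]
      have : (ja : ℤ) + jb + jc = 8 := by exact_mod_cast r3
      linarith
    have hg3 : g = -3 := by
      rw [habc, he1, he2] at h2g
      linarith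
    have e14 : d + 4 * f + 5 * h = 14 := by
      rw [hg3, ho1, he1, he2] at eb
      linarith
    have hNval : (N : ℤ) = d ^ 2 + f ^ 2 + h ^ 2 + 22 := by
      rw [eN, hg3, ho1, he1, he2]
      linarith
    rw [hNval] at hNZ
    rw [hd, hf, hh] at e14 hNZ
    have h26 := Cfsg.Agent.Lib.Helper24.M11Inv.arith_stage2 jd hjd jf hjf jh hjh e14 hNZ
    obtain ⟨q1, q2, q3⟩ := arith_stage2v jd hjd jf hjf jh hjh e14 h26
    refine ⟨by rw [hd, q1]; norm_num, by rw [hf, q2]; norm_num, by rw [hh, q3]; norm_num, hg3, ho1,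
      he1, he2, ?_⟩
    rcases habcj with ⟨p1, p2, p3⟩ | ⟨p1, p2, p3⟩ | ⟨p1, p2, p3⟩
    · left
      exact ⟨by rw [ha, p1]; norm_num, by rw [hb, p2]; norm_num, by rw [hc, p3]; norm_num⟩
    · right; left
      exact ⟨by rw [ha, p1]; norm_num, by rw [hb, p2]; norm_num, by rw [hc, p3]; norm_num⟩
    · right; right
      exact ⟨by rw [ha, p1]; norm_num, by rw [hb, p2]; norm_num, by rw [hc, p3]; norm_num⟩
  · exfalso
    have ea : a = 10 := by rw [ha, r1]; norm_num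
    have eb' : b = 10 := by rw [hb, r2]; norm_num
    have ec' : c = 10 := by rw [hc, r3]; norm_num
    have he1 : e1 = 16 := by rw [h1, r4]; norm_num
    have he2 : e2 = 16 := by rw [h2, r5]; norm_num
    have hg45 : g = 45 := by
      rw [ea, eb', ec', he1, he2] at h2g
      linarith
    have e258 : d + 4 * f + 5 * h = -258 := by
      rw [hg45, ho1, he1, he2, ea, eb', ec'] at eb
      linarith
    have hNval : (N : ℤ) = d ^ 2 + f ^ 2 + h ^ 2 + 2838 := by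
      rw [eN, hg45, ho1, he1, he2, ea, eb', ec']
      ring
    rw [hNval] at hNZ
    rw [hd, hf, hh] at e258 hNZ
    exact Cfsg.Agent.Lib.Helper24.M11Inv.arith_stage2' jd hjd jf hjf jh hjh e258 hNZ

end Cfsg.Agent.Lib.Helper24.M11Three
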