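/- helper24: simple groups of order 7920: integer column of a real element of order 3 is determined (pair counts via class multiplication); any two real elements of order 3 are conjugate -/
import Mathlib
import Cfsg.Agent.Lib.Helper24.M11InvD
import Cfsg.Agent.Lib.Helper24.M11ThreeA
import Cfsg.Agent.Lib.Helper19.Ord4032C

set_option autoImplicit false
set_option linter.unusedSectionVars false

namespace Cfsg.Agent.Lib.Helper24.M11Three

open Cfsg Cfsg.Agent.CharLib Cfsg.Agent.Lib.Helper24 Cfsg.Agent.Lib.Helper24.M11Inv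
open scoped ComplexConjugate

universe u

variable {G : Type u} [Group G] [Finite G]

/-- orthogonality of the integer columns of two non-conjugate elements -/
theorem eq_orth [Fintype (IrrCharacter G)] (g h : G) (hn : ¬ IsConj g h)
    (v w : IrrCharacter G → ℤ) (hv : ∀ χ : IrrCharacter G, (χ : G → ℂ) g = (v χ : ℂ))
    (hw : ∀ χ : IrrCharacter G, (χ : G → ℂ) h = (w χ : ℂ)) :
    ∑ χ : IrrCharacter G, v χ * w χ = 0 := by
  classical
  let _ : Fintype G := Fintype.ofFinite G
  have e := sum_irr_mul_conj (G := G) g h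
  rw [Cfsg.Agent.Lib.Helper19.Ord720.classInd_of_not hn, zero_mul] at e
  have h3 : ∀ χ : IrrCharacter G, (χ : G → ℂ) g * conj ((χ : G → ℂ) h) =
      ((v χ * w χ : ℤ) : ℂ) := by
    intro χ
    rw [hv χ, hw χ, map_intCast]
    push_cast
    ring
  simp only [h3] at e
  exact_mod_cast e

/-- the number of pairs of conjugates of `J` with product `g`, in terms of integer columns -/
theorem pair_count [Fintype (IrrCharacter G)] (J g : G) (w v : IrrCharacter G → ℤ)
    (hw : ∀ χ : IrrCharacter G, (χ : G → ℂ) J = (w χ : ℂ))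
    (hv : ∀ χ : IrrCharacter G, (χ : G → ℂ) g = (v χ : ℂ)) :
    ∃ K : ℕ, ∑ χ : IrrCharacter G,
        w χ ^ 2 * v χ * ((Nat.card G / charDegree (χ : G → ℂ) : ℕ) : ℤ) =
      (Nat.card ↥(Subgroup.centralizer ({J} : Set G)) : ℤ) ^ 2 * (K : ℤ) := by
  classical
  let _ : Fintype G := Fintype.ofFinite G
  have hexp := congrFun (classFunction_eq_sum (pairFun_isClassFunction J)) g
  simp only [Finset.sum_apply, Pi.smul_apply, smul_eq_mul] at hexp
  rw [Cfsg.Agent.Lib.Helper19.Ord4032.pairFun_eq_card] at hexp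
  refine ⟨(Finset.univ.filter (fun u : G => IsConj J u ∧ IsConj J (u⁻¹ * g))).card, ?_⟩
  have key : ∀ χ : IrrCharacter G, classInner (pairFun J) (χ : G → ℂ) * (χ : G → ℂ) g =
      ((w χ ^ 2 * v χ * ((Nat.card G / charDegree (χ : G → ℂ) : ℕ) : ℤ) : ℤ) : ℂ) := by
    intro χ
    rw [classInner_pairFun, hw χ, hv χ, irr_apply_one, map_intCast]
    obtain ⟨q, hq⟩ := irr_charDegree_dvd_card χ
    have hdpos := irr_charDegree_pos χ
    have hq' : Nat.card G / charDegree (χ : G → ℂ) = q := by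
      rw [hq]
      exact Nat.mul_div_cancel_left q hdpos
    rw [hq']
    have hqc : (Nat.card G : ℂ) = (charDegree (χ : G → ℂ) : ℂ) * (q : ℂ) := by
      exact_mod_cast congrArg (Nat.cast (R := ℂ)) hq
    have hd0 : (charDegree (χ : G → ℂ) : ℂ) ≠ 0 := by exact_mod_cast hdpos.ne'
    rw [hqc]
    push_cast
    field_simp
  simp only [key] at hexp
  have : ((∑ χ : IrrCharacter G,
        w χ ^ 2 * v χ * ((Nat.card G / charDegree (χ : G → ℂ) : ℕ) : ℤ) : ℤ) : ℂ) =
      (((Nat.card ↥(Subgroup.centralizer ({J} : Set G)) : ℤ) ^ 2 *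
        ((Finset.univ.filter (fun u : G => IsConj J u ∧ IsConj J (u⁻¹ * g))).card : ℤ) : ℤ) : ℂ) := by
    rw [Int.cast_sum, ← hexp]
    push_cast
    rfl
  exact_mod_cast this

/-- the value of an irreducible character at a real element of order `3` -/
theorem real_three_value (z : G) (hz : orderOf z = 3) (hr : IsConj z z⁻¹) (χ : IrrCharacter G) :
    ∃ (w : ℤ) (m : ℕ), (χ : G → ℂ) z = (w : ℂ) ∧
      2 * w + (charDegree (χ : G → ℂ) : ℤ) = 3 * (m : ℤ) ∧ w ≤ (charDegree (χ : G → ℂ) : ℤ) := by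
  classical
  let _ : Fintype ↥(Subgroup.zpowers z) := Fintype.ofFinite _
  have hχ := IsIrrCharacter.isCharacter χ.2
  have hcl : IsClassFunction G (χ : G → ℂ) := IsCharacter.isClassFunction hχ
  have hz3 : z ^ 3 = 1 := by rw [← hz]; exact pow_orderOf_eq_one z
  have hz2 : z ^ 2 = z⁻¹ := by
    rw [eq_inv_iff_mul_eq_one, ← pow_succ]
    exact hz3
  have hall : ∀ x ∈ Subgroup.zpowers z, x ≠ 1 → IsConj x z := by
    intro x hx hx1
    rw [mem_zpowers_iff_mem_range_orderOf, hz] at hx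
    obtain ⟨k, hk, rfl⟩ := Finset.mem_image.mp hx
    rw [Finset.mem_range] at hk
    interval_cases k
    · exact absurd (pow_zero z) hx1
    · rw [pow_one]
    · show IsConj (z ^ 2) z
      rw [hz2]
      exact hr.symm
  have s1 := sum_subgroup_of_conj (Subgroup.zpowers z) (χ : G → ℂ) hcl z hall
  obtain ⟨m, hm⟩ := Cfsg.Agent.Lib.Helper12.BSF.sum_subgroup_irr (Subgroup.zpowers z) χ
  have hcard : Fintype.card ↥(Subgroup.zpowers z) = 3 := by
    rw [← Nat.card_eq_fintype_card, Nat.card_zpowers, hz]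
  have hcard' : Nat.card ↥(Subgroup.zpowers z) = 3 := by rw [Nat.card_zpowers, hz]
  rw [hm, hcard, hcard', irr_apply_one] at s1
  set d := charDegree (χ : G → ℂ) with hd
  have hq : (χ : G → ℂ) z = (((3 * (m : ℚ) - (d : ℚ)) / 2 : ℚ) : ℂ) := by
    push_cast
    push_cast at s1
    linear_combination (-1 / 2 : ℂ) * s1
  have hint : IsIntegral ℤ ((χ : G → ℂ) z) := irr_isIntegral χ z
  rw [hq] at hint
  have h2 : IsIntegral ℤ ((3 * (m : ℚ) - (d : ℚ)) / 2 : ℚ) :=
    (isIntegral_algebraMap_iff (algebraMap ℚ ℂ).injective (R := ℤ)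
      (x := ((3 * (m : ℚ) - (d : ℚ)) / 2 : ℚ))).mp hint
  obtain ⟨v, hv⟩ := IsIntegrallyClosed.isIntegral_iff.mp h2
  have hv' : ((v : ℤ) : ℚ) = (3 * (m : ℚ) - (d : ℚ)) / 2 := hv
  have hsv : (χ : G → ℂ) z = (v : ℂ) := by
    rw [hq, ← hv']
    push_cast
    rfl
  have hrel : 2 * v + (d : ℤ) = 3 * (m : ℤ) := by
    have h3 : 2 * ((v : ℤ) : ℚ) + ((d : ℤ) : ℚ) = 3 * ((m : ℤ) : ℚ) := by
      rw [hv']
      push_cast
      ring
    exact_mod_cast h3
  refine ⟨v, m, hsv, hrel, ?_⟩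
  have hle := Cfsg.Agent.Lib.Helper10.irr_norm_le χ.2 z
  rw [hsv, irr_apply_one, Complex.norm_natCast] at hle
  have h1 : ‖((v : ℤ) : ℂ)‖ = |(v : ℝ)| := by
    rw [← Complex.ofReal_intCast, Complex.norm_real, Real.norm_eq_abs]
  rw [h1] at hle
  have h2 : (v : ℝ) ≤ ((d : ℕ) : ℝ) := le_trans (le_abs_self _) hle
  exact_mod_cast h2

set_option maxHeartbeats 6400000 in
/-- in a simple group of order `7920` any two real elements of order `3` are conjugate -/
theorem isConj_of_real_order_three [IsSimpleGroup G] (hord : Nat.card G = 7920) (z1 z2 : G)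
    (h1 : orderOf z1 = 3) (h2 : orderOf z2 = 3) (r1 : IsConj z1 z1⁻¹) (r2 : IsConj z2 z2⁻¹) :
    IsConj z1 z2 := by
  classical
  let _ : Fintype G := Fintype.ofFinite G
  let _ : Fintype (IrrCharacter G) := fintypeIrr G
  have hperf := Cfsg.Agent.Lib.Helper24.Ord7920.perfect_of_simple_7920 hord
  have : Fact (Nat.Prime 2) := ⟨Nat.prime_two⟩
  obtain ⟨t, ht⟩ := exists_prime_orderOf_dvd_card' (G := G) 2 (by rw [hord]; norm_num)
  obtain ⟨y, u, hy, hu, huy, hnc, hcent⟩ := exists_eleven_data hord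
  choose s m hs hsm hs44 using eleven_value hy hu huy hnc hcent
  choose c j hc hcj hcb using invol_value hperf t ht
  have hM := Cfsg.Agent.Lib.Helper5.M11.degrees_multiset hord
  obtain ⟨x0, x1, x2, x3, x4, x5, x6, x7, x8, x9, ⟨d0, d1, d2, d3, d4, d5, d6, d7, d8, d9⟩, hval⟩ :=
    exists_ten (fun χ : IrrCharacter G => charDegree (χ : G → ℂ)) 11 44 55 10 10 10 45 1 16 16 hM
  have hsum := fun F : IrrCharacter G → ℤ => sum_ten x0 x1 x2 x3 x4 x5 x6 x7 x8 x9 hval F
  obtain ⟨v11, v44, v55, v10, v45, v1, v16⟩ := sval_vals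
  -- the values at the elements of order `11`
  have s0 : s x0 = 0 := by
    rw [s_eq_sval _ _ _ (hsm x0) (hs44 x0) (by rw [d0]; norm_num), d0, v11]
  have s1 : s x1 = 0 := by
    rw [s_eq_sval _ _ _ (hsm x1) (hs44 x1) (by rw [d1]; norm_num), d1, v44]
  have s2 : s x2 = 0 := by
    rw [s_eq_sval _ _ _ (hsm x2) (hs44 x2) (by rw [d2]; norm_num), d2, v55]
  have s3 : s x3 = -2 := by
    rw [s_eq_sval _ _ _ (hsm x3) (hs44 x3) (by rw [d3]; norm_num), d3, v10]
  have s4 : s x4 = -2 := by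
    rw [s_eq_sval _ _ _ (hsm x4) (hs44 x4) (by rw [d4]; norm_num), d4, v10]
  have s5 : s x5 = -2 := by
    rw [s_eq_sval _ _ _ (hsm x5) (hs44 x5) (by rw [d5]; norm_num), d5, v10]
  have s6 : s x6 = 2 := by
    rw [s_eq_sval _ _ _ (hsm x6) (hs44 x6) (by rw [d6]; norm_num), d6, v45]
  have s7 : s x7 = 2 := by
    rw [s_eq_sval _ _ _ (hsm x7) (hs44 x7) (by rw [d7]; norm_num), d7, v1]
  have s8 : s x8 = -1 := by
    rw [s_eq_sval _ _ _ (hsm x8) (hs44 x8) (by rw [d8]; norm_num), d8, v16]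
  have s9 : s x9 = -1 := by
    rw [s_eq_sval _ _ _ (hsm x9) (hs44 x9) (by rw [d9]; norm_num), d9, v16]
  -- non-conjugacy
  have ht1 : t ≠ 1 := by
    intro h
    rw [h, orderOf_one] at ht
    omega
  have hyi : orderOf y⁻¹ = 11 := by rw [orderOf_inv, hy]
  have hty : ¬ IsConj t y := by
    intro h
    have := orderOf_eq_of_isConj h
    rw [ht, hy] at this
    omega
  have hty' : ¬ IsConj t y⁻¹ := by
    intro h
    have := orderOf_eq_of_isConj h
    rw [ht, hyi] at this
    omega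
  have hp1 : ∀ a b : G, ¬ IsConj (a * t * a⁻¹ * (b * t * b⁻¹)) y :=
    fun a b => not_isConj_mul_invol hord t y ht hy a b
  have hp2 : ∀ a b : G, ¬ IsConj (a * t * a⁻¹ * (b * t * b⁻¹)) y⁻¹ :=
    fun a b => not_isConj_mul_invol hord t y⁻¹ ht hyi a b
  -- the column of the involution
  have Eb := eq_b t ht1 c hc
  have Ee := eq_e t c hc
  have Ec := eq_c t y hty hty' c s hc hs
  have Ed := eq_d t y hp1 hp2 c s hc hs
  rw [hsum] at Eb Ee Ec Ed
  rw [hord] at Ed
  rw [d0, d1, d2, d3, d4, d5, d6, d7, d8, d9] at Eb Ed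
  rw [s0, s1, s2, s3, s4, s5, s6, s7, s8, s9] at Ec Ed
  norm_num at Ed
  have k0 := hcj x0
  have k1 := hcj x1
  have k2 := hcj x2
  have k3 := hcj x3
  have k4 := hcj x4
  have k5 := hcj x5
  have k6 := hcj x6
  have k7 := hcj x7
  have k8 := hcj x8
  have k9 := hcj x9
  have b0 := hcb x0
  have b1 := hcb x1
  have b2 := hcb x2
  have b3 := hcb x3
  have b4 := hcb x4
  have b5 := hcb x5
  have b6 := hcb x6
  have b7 := hcb x7
  have b8 := hcb x8
  have b9 := hcb x9
  rw [d0] at k0 b0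
  rw [d1] at k1 b1
  rw [d2] at k2 b2
  rw [d3] at k3 b3
  rw [d4] at k4 b4
  rw [d5] at k5 b5
  rw [d6] at k6 b6
  rw [d7] at k7 b7
  rw [d8] at k8 b8
  rw [d9] at k9 b9
  have hdvd : Nat.card ↥(Subgroup.centralizer ({t} : Set G)) ∣ 7920 := by
    rw [← hord]; exact Subgroup.card_subgroup_dvd_card _
  obtain ⟨c0, c1, c2, c6, c7, c8, c9, cabc⟩ :=
    column_values (c x0) (c x1) (c x2) (c x3) (c x4) (c x5) (c x6) (c x7) (c x8) (c x9)
    (j x0) (j x1) (j x2) (j x3) (j x4) (j x5) (j x6) (j x7) (j x8) (j x9)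
    (by push_cast at k0; linarith) (by push_cast at b0; linarith)
    (by push_cast at k1; linarith) (by push_cast at b1; linarith)
    (by push_cast at k2; linarith) (by push_cast at b2; linarith)
    (by push_cast at k3; linarith) (by push_cast at b3; linarith)
    (by push_cast at k4; linarith) (by push_cast at b4; linarith)
    (by push_cast at k5; linarith) (by push_cast at b5; linarith)
    (by push_cast at k6; linarith)
    (by push_cast at k7; linarith) (by push_cast at b7; linarith)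
    (by push_cast at k8; linarith) (by push_cast at b8; linarith)
    (by push_cast at k9; linarith) (by push_cast at b9; linarith)
    (by push_cast at Eb; linarith) (by linarith) (by linarith)
    (Nat.card ↥(Subgroup.centralizer ({t} : Set G))) (by rw [← Ee]; ring) hdvd
  -- the column of a real element of order `3`
  have key : ∀ z : G, orderOf z = 3 → IsConj z z⁻¹ → ∃ w : IrrCharacter G → ℤ,
      (∀ χ : IrrCharacter G, (χ : G → ℂ) z = (w χ : ℂ)) ∧ w x0 = 2 ∧ w x1 = -1 ∧ w x2 = 1 ∧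
      w x3 = 1 ∧ w x4 = 1 ∧ w x5 = 1 ∧ w x6 = 0 ∧ w x7 = 1 ∧ w x8 = -2 ∧ w x9 = -2 := by
    intro z hz hr
    choose w mm hw hwm hwle using real_three_value z hz hr
    refine ⟨w, hw, ?_⟩
    have hz1 : z ≠ 1 := by
      intro h
      rw [h, orderOf_one] at hz
      omega
    have hzt : ¬ IsConj z t := by
      intro h
      have := orderOf_eq_of_isConj h
      rw [hz, ht] at this
      omega
    have hzy : ¬ IsConj z y := by
      intro h
      have := orderOf_eq_of_isConj h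
      rw [hz, hy] at this
      omega
    have hzy' : ¬ IsConj z y⁻¹ := by
      intro h
      have := orderOf_eq_of_isConj h
      rw [hz, hyi] at this
      omega
    have EL := eq_b z hz1 w hw
    have EN := eq_e z w hw
    have EY := eq_c z y hzy hzy' w s hw hs
    have ET := eq_orth z t hzt w c hw hc
    obtain ⟨K, EZT⟩ := pair_count z t w c hw hc
    obtain ⟨K', EZZ⟩ := pair_count z z w w hw hw
    have hdvdz : Nat.card ↥(Subgroup.centralizer ({z} : Set G)) ∣ 7920 := by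
      rw [← hord]; exact Subgroup.card_subgroup_dvd_card _
    generalize Nat.card ↥(Subgroup.centralizer ({z} : Set G)) = N at EN EZT EZZ hdvdz
    rw [hsum] at EL EN EY ET EZT EZZ
    rw [hord] at EZT EZZ
    rw [d0, d1, d2, d3, d4, d5, d6, d7, d8, d9] at EL EZT EZZ
    rw [s0, s1, s2, s3, s4, s5, s6, s7, s8, s9] at EY
    rw [c0, c1, c2, c6, c7, c8, c9] at ET EZT
    norm_num at EZT EZZ
    have m0 := hwm x0
    have m1 := hwm x1
    have m2 := hwm x2
    have m3 := hwm x3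
    have m4 := hwm x4
    have m5 := hwm x5
    have m6 := hwm x6
    have m7 := hwm x7
    have m8 := hwm x8
    have m9 := hwm x9
    have l0 := hwle x0
    have l3 := hwle x3
    have l4 := hwle x4
    have l5 := hwle x5
    have l7 := hwle x7
    have l8 := hwle x8
    have l9 := hwle x9
    rw [d0] at m0 l0
    rw [d1] at m1
    rw [d2] at m2
    rw [d3] at m3 l3
    rw [d4] at m4 l4
    rw [d5] at m5 l5
    rw [d6] at m6
    rw [d7] at m7 l7
    rw [d8] at m8 l8
    rw [d9] at m9 l9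
    push_cast at m0 m3 m4 m5 m7 m8 m9 l0 l3 l4 l5 l7 l8 l9 EL
    rcases cabc with ⟨p3, p4, p5⟩ | ⟨p3, p4, p5⟩ | ⟨p3, p4, p5⟩
    · rw [p3, p4, p5] at ET EZT
      obtain ⟨q0, q1, q2, q3, q4, q5, q6, q7, q8, q9, -⟩ :=
        three_column_unique (w x0) (w x1) (w x2) (w x3) (w x4) (w x5) (w x6) (w x7) (w x8) (w x9)
          (mm x0) (mm x3) (mm x4) (mm x5) (mm x8) (mm x9) (mm x7)
          m0 m3 m4 m5 m8 m9 m7 l7 l0 l3 l4 l5 l8 l9
          (by linarith) (by linarith) (by linarith)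
          N (by rw [← EN]; ring) hdvdz K K'
          (by rw [← EZT]; ring) (by rw [← EZZ]; ring)
      exact ⟨q0, q1, q2, q3, q4, q5, q6, q7, q8, q9⟩
    · rw [p3, p4, p5] at ET EZT
      obtain ⟨q0, q1, q2, q3, q4, q5, q6, q7, q8, q9, -⟩ :=
        three_column_unique (w x0) (w x1) (w x2) (w x4) (w x3) (w x5) (w x6) (w x7) (w x8) (w x9)
          (mm x0) (mm x4) (mm x3) (mm x5) (mm x8) (mm x9) (mm x7)
          m0 m4 m3 m5 m8 m9 m7 l7 l0 l4 l3 l5 l8 l9
          (by linarith) (by linarith) (by linarith)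
          N (by rw [← EN]; ring) hdvdz K K'
          (by rw [← EZT]; ring) (by rw [← EZZ]; ring)
      exact ⟨q0, q1, q2, q4, q3, q5, q6, q7, q8, q9⟩
    · rw [p3, p4, p5] at ET EZT
      obtain ⟨q0, q1, q2, q3, q4, q5, q6, q7, q8, q9, -⟩ :=
        three_column_unique (w x0) (w x1) (w x2) (w x5) (w x3) (w x4) (w x6) (w x7) (w x8) (w x9)
          (mm x0) (mm x5) (mm x3) (mm x4) (mm x8) (mm x9) (mm x7)
          m0 m5 m3 m4 m8 m9 m7 l7 l0 l5 l3 l4 l8 l9
          (by linarith) (by linarith) (by linarith)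
          N (by rw [← EN]; ring) hdvdz K K'
          (by rw [← EZT]; ring) (by rw [← EZZ]; ring)
      exact ⟨q0, q1, q2, q4, q5, q3, q6, q7, q8, q9⟩
  obtain ⟨w1, hw1, a0, a1, a2, a3, a4, a5, a6, a7, a8, a9⟩ := key z1 h1 r1
  obtain ⟨w2, hw2, e0, e1, e2, e3, e4, e5, e6, e7, e8, e9⟩ := key z2 h2 r2
  by_contra hncj
  have E := eq_orth z1 z2 hncj w1 w2 hw1 hw2
  rw [hsum, a0, a1, a2, a3, a4, a5, a6, a7, a8, a9, e0, e1, e2, e3, e4, e5, e6, e7, e8, e9] at E
  norm_num at E

end Cfsg.Agent.Lib.Helper24.M11Three
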