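/- helper24: simple groups of order 7920: final fusion count for the normalizer of a Sylow 3-subgroup (all elements of order 3 real and conjugate => order 144) -/
import Mathlib
import Cfsg.Agent.Lib.Helper24.M11ThreeB

set_option autoImplicit false
set_option linter.unusedSectionVars false

namespace Cfsg.Agent.Lib.Helper24.M11Three

open Cfsg Cfsg.Agent.CharLib

universe u

variable {G : Type u} [Group G] [Finite G]

/-- the final fusion count: if all elements of order `3` are real, the normalizer of a Sylow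
`3`-subgroup of exponent `3` has order `144` -/
theorem card_normalizer_eq [IsSimpleGroup G] (hord : Nat.card G = 7920) [Fact (Nat.Prime 3)]
    (P : Sylow 3 G) (hP : Nat.card ↥(P : Subgroup G) = 9)
    (hexp : ∀ x ∈ (P : Subgroup G), x ^ 3 = 1)
    (hN : Nat.card ↥(Subgroup.normalizer ((P : Subgroup G) : Set G)) = 36 ∨
      Nat.card ↥(Subgroup.normalizer ((P : Subgroup G) : Set G)) = 144)
    (hreal : ∀ z : G, orderOf z = 3 → IsConj z z⁻¹) :
    Nat.card ↥(Subgroup.normalizer ((P : Subgroup G) : Set G)) = 144 := by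
  classical
  have hcomm : IsMulCommutative ↥(P : Subgroup G) :=
    IsPGroup.isMulCommutative_of_card_eq_prime_sq (p := 3) (by rw [hP]; norm_num)
  have hord3 : ∀ x ∈ (P : Subgroup G), x ≠ 1 → orderOf x = 3 := by
    intro x hx hx1
    exact orderOf_eq_prime (hexp x hx) hx1
  -- a non-identity element
  have hnt : Nontrivial ↥(P : Subgroup G) := by
    rw [← Finite.one_lt_card_iff_nontrivial, hP]; norm_num
  obtain ⟨z0, hz0⟩ := exists_ne (1 : ↥(P : Subgroup G))
  set z : G := (z0 : G) with hzdef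
  have hzP : z ∈ (P : Subgroup G) := z0.2
  have hz1 : z ≠ 1 := fun h => hz0 (Subtype.ext h)
  have hz3 : orderOf z = 3 := hord3 z hzP hz1
  set N := Subgroup.normalizer ((P : Subgroup G) : Set G) with hNdef
  have hPN : (P : Subgroup G) ≤ N := Subgroup.le_normalizer
  let z' : ↥N := ⟨z, hPN hzP⟩
  have hcount := card_conj_mul_card_centralizer z'
  -- the conjugates of `z` in `N` are the non-identity elements of `P`
  have hmemP : ∀ x : ↥N, IsConj x z' → (x : G) ∈ (P : Subgroup G) ∧ (x : G) ≠ 1 := by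
    intro x hx
    obtain ⟨n, hn⟩ := isConj_iff.mp hx.symm
    have hx' : (x : G) = (n : G) * z * (n : G)⁻¹ := by
      rw [← hn]
      rfl
    constructor
    · rw [hx']
      exact (Subgroup.mem_normalizer_iff.mp n.2 z).mp hzP
    · rw [hx']
      intro h
      apply hz1
      calc z = (n : G)⁻¹ * ((n : G) * z * (n : G)⁻¹) * (n : G) := by group
        _ = 1 := by rw [h]; group
  let f : {x : ↥N // IsConj x z'} → {p : ↥(P : Subgroup G) // p ≠ 1} := fun x =>
    ⟨⟨(x.1 : G), (hmemP x.1 x.2).1⟩, fun h => (hmemP x.1 x.2).2 (congrArg Subtype.val h)⟩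
  have hfinj : Function.Injective f := by
    intro a b hab
    have h1 : ((f a).1 : G) = ((f b).1 : G) := by rw [hab]
    apply Subtype.ext
    apply Subtype.ext
    exact h1
  have hfsurj : Function.Surjective f := by
    intro p
    have hpP : (p.1 : G) ∈ (P : Subgroup G) := p.1.2
    have hp1 : (p.1 : G) ≠ 1 := fun h => p.2 (Subtype.ext h)
    have hp3 : orderOf (p.1 : G) = 3 := hord3 _ hpP hp1
    have hc : IsConj z (p.1 : G) :=
      isConj_of_real_order_three hord z (p.1 : G) hz3 hp3 (hreal z hz3) (hreal _ hp3)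
    obtain ⟨g, hg⟩ := isConj_iff.mp hc
    have hy : (g⁻¹)⁻¹ * z * g⁻¹ ∈ (P : Subgroup G) := by
      rw [inv_inv, hg]; exact hpP
    obtain ⟨n, hnN, hn⟩ := Sylow.conj_eq_normalizer_conj_of_mem P z g⁻¹ hzP hy
    rw [inv_inv, hg] at hn
    have hnN' : n⁻¹ ∈ N := N.inv_mem hnN
    have hconj : IsConj (⟨(p.1 : G), hPN hpP⟩ : ↥N) z' := by
      apply IsConj.symm
      refine isConj_iff.mpr ⟨⟨n⁻¹, hnN'⟩, ?_⟩
      apply Subtype.ext
      show n⁻¹ * z * (n⁻¹)⁻¹ = (p.1 : G)
      rw [hn, inv_inv]
    refine ⟨⟨⟨(p.1 : G), hPN hpP⟩, hconj⟩, ?_⟩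
    apply Subtype.ext
    apply Subtype.ext
    rfl
  have hcard8 : Nat.card {x : ↥N // IsConj x z'} = 8 := by
    let _ : Fintype ↥(P : Subgroup G) := Fintype.ofFinite _
    rw [Nat.card_eq_of_bijective f ⟨hfinj, hfsurj⟩]
    have h1 : Nat.card {p : ↥(P : Subgroup G) // p ≠ 1} + 1 = Nat.card ↥(P : Subgroup G) := by
      have := Nat.card_eq_fintype_card (α := ↥(P : Subgroup G))
      have h2 : Nat.card {p : ↥(P : Subgroup G) // p ≠ 1} =
          Fintype.card {p : ↥(P : Subgroup G) // p ≠ 1} := Nat.card_eq_fintype_card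
      rw [h2, this, Fintype.card_subtype_compl, Fintype.card_subtype_eq]
      have hpos : 0 < Fintype.card ↥(P : Subgroup G) := Fintype.card_pos
      omega
    rw [hP] at h1
    omega
  rw [hcard8] at hcount
  rcases hN with h | h
  · rw [h] at hcount
    omega
  · exact h

end Cfsg.Agent.Lib.Helper24.M11Three
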