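/- helper24: simple group of order 7920: a proper subgroup containing a subgroup of order 72 inside N(T) and a second Sylow 3-subgroup has order 720 -/
import Mathlib

set_option autoImplicit false

namespace Cfsg.Agent.Lib.Helper24.M11Vec

section order

variable {G : Type*} [Group G] [Finite G]

/-- a simple group embeds in the symmetric group on the cosets of a proper subgroup -/
theorem card_dvd_factorial_index [IsSimpleGroup G] (H : Subgroup G) (hH : H ≠ ⊤) :
    Nat.card G ∣ (H.index).factorial := by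
  classical
  let _ : Fintype (G ⧸ H) := Fintype.ofFinite _
  let φ := MulAction.toPermHom G (G ⧸ H)
  have hker : φ.ker = ⊥ := by
    rcases (φ.normal_ker).eq_bot_or_eq_top with h | h
    · exact h
    · exfalso
      apply hH
      rw [eq_top_iff]
      have : φ.ker ≤ H := by
        rw [← Subgroup.normalCore_eq_ker]
        exact Subgroup.normalCore_le H
      rwa [h] at this
  have hinj : Function.Injective φ := (MonoidHom.ker_eq_bot_iff φ).mp hker
  have h1 := Subgroup.card_dvd_of_injective φ hinj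
  rwa [Nat.card_perm, ← Subgroup.index_eq_card] at h1

/-- a subgroup of order `9` of a subgroup `H` of a group of order `7920` is a Sylow subgroup of
`H` -/
theorem exists_sylow_eq (hord : Nat.card G = 7920) [Fact (Nat.Prime 3)] (T H : Subgroup G)
    (hT : Nat.card ↥T = 9) (hTH : T ≤ H) :
    ∃ P : Sylow 3 ↥H, (P : Subgroup ↥H) = T.subgroupOf H := by
  have hcard : Nat.card ↥(T.subgroupOf H) = 9 := by
    rw [Nat.card_congr (Subgroup.subgroupOfEquivOfLe hTH).toEquiv, hT]
  have hp : IsPGroup 3 ↥(T.subgroupOf H) := IsPGroup.of_card (n := 2) (by rw [hcard]; norm_num)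
  obtain ⟨P, hP⟩ := hp.exists_le_sylow
  refine ⟨P, ?_⟩
  symm
  apply Subgroup.eq_of_le_of_card_ge hP
  rw [hcard]
  obtain ⟨k, hk⟩ := IsPGroup.iff_card.mp P.2
  have h1 : Nat.card ↥(P : Subgroup ↥H) ∣ 7920 := by
    rw [← hord]
    exact (Subgroup.card_subgroup_dvd_card _).trans (Subgroup.card_subgroup_dvd_card H)
  rw [hk] at h1 ⊢
  have hk2 : k ≤ 2 := by
    by_contra hk3
    have h27 : 3 ^ 3 ∣ 3 ^ k := pow_dvd_pow 3 (by omega)
    have := h27.trans h1
    norm_num at this
  calc 3 ^ k ≤ 3 ^ 2 := Nat.pow_le_pow_right (by norm_num) hk2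
    _ = 9 := by norm_num

theorem arith_720 (h n cM m : ℕ) (h1 : h = 72 * m) (hm : m ∣ 110) (h2 : h = n * cM)
    (hcM : cM = 72 ∨ cM = 144) (hn3 : n % 3 = 1) (hn1 : n ≠ 1) (hm110 : m ≠ 110) (hm22 : m ≠ 22)
    (hm55 : m ≠ 55) : h = 720 := by
  have hmle : m ≤ 110 := Nat.le_of_dvd (by norm_num) hm
  have hmpos : 0 < m := Nat.pos_of_dvd_of_pos hm (by norm_num)
  rcases hcM with rfl | rfl
  · have : n = m := by omega
    subst this
    interval_cases n <;> omega
  · have : m = 2 * n := by omega
    subst this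
    have hn : n ≤ 55 := by omega
    interval_cases n <;> omega

/-- **the order of the stabilizer** -/
theorem card_eq_720 [IsSimpleGroup G] (hord : Nat.card G = 7920) (T K H : Subgroup G)
    (hT : Nat.card ↥T = 9) (hK : Nat.card ↥K = 72) (hTK : T ≤ K)
    (hKN : K ≤ Subgroup.normalizer (T : Set G)) (hKH : K ≤ H)
    (hN : Nat.card ↥(Subgroup.normalizer (T : Set G)) = 144)
    (c : G) (hcH : ∀ x ∈ T, c * x * c⁻¹ ∈ H) (hcT : c ∉ Subgroup.normalizer (T : Set G))
    (hH : H ≠ ⊤) : Nat.card ↥H = 720 := by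
  classical
  have : Fact (Nat.Prime 3) := ⟨by norm_num⟩
  have hTH : T ≤ H := hTK.trans hKH
  set N := Subgroup.normalizer (T : Set G) with hNdef
  -- the order of `N ⊓ H`
  have hKM : K ≤ N ⊓ H := le_inf hKN hKH
  have hM1 : 72 ∣ Nat.card ↥(N ⊓ H) := hK ▸ Subgroup.card_dvd_of_le hKM
  have hM2 : Nat.card ↥(N ⊓ H) ∣ 144 := hN ▸ Subgroup.card_dvd_of_le inf_le_left
  have hM : Nat.card ↥(N ⊓ H) = 72 ∨ Nat.card ↥(N ⊓ H) = 144 := by
    obtain ⟨a, ha⟩ := hM1
    rw [ha] at hM2 ⊢
    have : a ∣ 2 := by
      have : 72 * a ∣ 72 * 2 := by simpa using hM2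
      exact Nat.dvd_of_mul_dvd_mul_left (by norm_num) this
    have hale : a ≤ 2 := Nat.le_of_dvd (by norm_num) this
    have hapos : 0 < a := Nat.pos_of_dvd_of_pos this (by norm_num)
    interval_cases a <;> simp
  -- the Sylow subgroups of `H`
  obtain ⟨P, hP⟩ := exists_sylow_eq hord T H hT hTH
  have hcount := Sylow.card_eq_index_normalizer P
  have hmod := card_sylow_modEq_one 3 ↥H
  have hnorm : Subgroup.normalizer (P : Set ↥H) = N.subgroupOf H := by
    change Subgroup.normalizer ((P : Subgroup ↥H) : Set ↥H) = N.subgroupOf H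
    rw [hP, hNdef]
    exact (Subgroup.subgroupOf_normalizer_eq hTH).symm
  have hcardN : Nat.card ↥(N.subgroupOf H) = Nat.card ↥(N ⊓ H) := by
    rw [← Subgroup.inf_subgroupOf_right]
    exact Nat.card_congr (Subgroup.subgroupOfEquivOfLe inf_le_right).toEquiv
  have hmul := Subgroup.card_mul_index (N.subgroupOf H)
  rw [hnorm] at hcount
  rw [← hcount, hcardN] at hmul
  -- the number of Sylow subgroups is not `1`
  have hne1 : Nat.card (Sylow 3 ↥H) ≠ 1 := by
    intro h1
    apply hcT
    set T' : Subgroup G := T.map (MulAut.conj c).toMonoidHom with hT'def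
    have hT'H : T' ≤ H := by
      rintro _ ⟨x, hx, rfl⟩
      exact hcH x hx
    have hT'card : Nat.card ↥T' = 9 := by
      rw [hT'def, Subgroup.card_map_of_injective (MulAut.conj c).injective, hT]
    obtain ⟨P', hP'⟩ := exists_sylow_eq hord T' H hT'card hT'H
    have hsub : Subsingleton (Sylow 3 ↥H) := (Nat.card_eq_one_iff_unique.mp h1).1
    have hPP : P = P' := Subsingleton.elim _ _
    have heq : T.subgroupOf H = T'.subgroupOf H := by rw [← hP, ← hP', hPP]
    have heq2 : T = T' := by
      have := Subgroup.subgroupOf_inj.mp heq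
      rwa [inf_eq_left.mpr hTH, inf_eq_left.mpr hT'H] at this
    rw [hNdef, Subgroup.mem_normalizer_iff]
    intro x
    constructor
    · intro hx
      have : c * x * c⁻¹ ∈ T' := ⟨x, hx, rfl⟩
      rwa [← heq2] at this
    · intro hx
      have hx' : c * x * c⁻¹ ∈ T' := by
        rw [← heq2]
        exact hx
      obtain ⟨y, hy, hyx⟩ := hx'
      have : y = x := by
        have h3 : c * y * c⁻¹ = c * x * c⁻¹ := hyx
        calc y = c⁻¹ * (c * y * c⁻¹) * c := by group
          _ = c⁻¹ * (c * x * c⁻¹) * c := by rw [h3]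
          _ = x := by group
      rw [← this]
      exact hy
  -- arithmetic
  have hd1 : 72 ∣ Nat.card ↥H := hK ▸ Subgroup.card_dvd_of_le hKH
  have hd2 : Nat.card ↥H ∣ 7920 := hord ▸ Subgroup.card_subgroup_dvd_card H
  obtain ⟨m, hm⟩ := hd1
  have hm110 : m ∣ 110 := by
    rw [hm] at hd2
    have : 72 * m ∣ 72 * 110 := by simpa using hd2
    exact Nat.dvd_of_mul_dvd_mul_left (by norm_num) this
  have hidx := Subgroup.card_mul_index H
  rw [hord] at hidx
  have hfac := card_dvd_factorial_index H hH
  rw [hord] at hfac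
  have hne110 : m ≠ 110 := by
    intro h
    apply hH
    apply Subgroup.eq_top_of_card_eq
    rw [hm, h, hord]
  have hne22 : m ≠ 22 := by
    intro h
    rw [hm, h] at hidx
    have : H.index = 5 := by omega
    rw [this] at hfac
    revert hfac
    decide
  have hne55 : m ≠ 55 := by
    intro h
    rw [hm, h] at hidx
    have : H.index = 2 := by omega
    rw [this] at hfac
    revert hfac
    decide
  exact arith_720 _ (Nat.card (Sylow 3 ↥H)) _ m hm hm110 (by rw [← hmul]; ring) hM
    (by have := hmod; unfold Nat.ModEq at this; omega) hne1 hne110 hne22 hne55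

end order

end Cfsg.Agent.Lib.Helper24.M11Vec
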