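/- helper24: simple groups of order 7920: the fixed vector argument - from the local data (T, Q, t, c) and the degree 10 character with value 2 at involutions, a proper subgroup containing T Q and the conjugate of T under c which fixes a non-zero vector -/
import Mathlib
import Cfsg.Agent.Lib.Helper24.M11VecA
import Cfsg.Agent.Lib.Helper24.M11VecB
import Cfsg.Agent.Lib.Helper24.M11VecC
import Cfsg.Agent.Lib.Helper24.M11VecE

set_option autoImplicit false
set_option linter.unusedSectionVars false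

namespace Cfsg.Agent.Lib.Helper24.M11Vec

open Cfsg Cfsg.Agent.CharLib

universe u

variable {G : Type u} [Group G] [Finite G]

/-- the local data of a simple group of order `7920` used in the fixed vector argument -/
structure LocalData (T Q : Subgroup G) (t c : G) : Prop where
  hT : Nat.card ↥T = 9
  hQ : Nat.card ↥Q = 8
  ht : orderOf t = 2
  hc : orderOf c = 3
  hinv : ∀ x ∈ T, t * x * t⁻¹ = x⁻¹
  htQ : t ∈ Q
  hQN : Q ≤ Subgroup.normalizer (T : Set G)
  hsq : ∀ q ∈ Q, q ≠ 1 → q ≠ t → q ^ 2 = t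
  hcQ : ∀ q ∈ Q, c * q * c⁻¹ ∈ Q
  hcT : c ∉ Subgroup.normalizer (T : Set G)
  hconj : ∀ q ∈ Q, ∀ q' ∈ Q, q ≠ 1 → q ≠ t → q' ≠ 1 → q' ≠ t → IsConj q q' ∨ IsConj q⁻¹ q'

namespace LocalData

variable {T Q : Subgroup G} {t c : G} (D : LocalData T Q t c)

include D

theorem t_sq : t * t = 1 := by
  have := pow_orderOf_eq_one t
  rwa [D.ht, pow_two] at this

theorem t_inv : t⁻¹ = t := inv_eq_of_mul_eq_one_left D.t_sq

theorem t_ne_one : t ≠ 1 := by
  intro h
  have := D.ht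
  rw [h, orderOf_one] at this
  omega

theorem inf_trivial (g : G) (h1 : g ∈ T) (h2 : g ∈ Q) : g = 1 := by
  have d1 : orderOf g ∣ 9 := by
    rw [← D.hT]
    exact (Subgroup.orderOf_mk g h1).symm ▸ orderOf_dvd_natCard (⟨g, h1⟩ : ↥T)
  have d2 : orderOf g ∣ 8 := by
    rw [← D.hQ]
    exact (Subgroup.orderOf_mk g h2).symm ▸ orderOf_dvd_natCard (⟨g, h2⟩ : ↥Q)
  have : orderOf g ∣ Nat.gcd 9 8 := Nat.dvd_gcd d1 d2
  have h1 : orderOf g = 1 := by
    have : orderOf g ∣ 1 := by simpa using this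
    exact Nat.dvd_one.mp this
  exact orderOf_eq_one_iff.mp h1

theorem eq_one_of_sq_T (x : G) (hx : x ∈ T) (h : x * x = 1) : x = 1 := by
  have d1 : orderOf x ∣ 9 := by
    rw [← D.hT]
    exact (Subgroup.orderOf_mk x hx).symm ▸ orderOf_dvd_natCard (⟨x, hx⟩ : ↥T)
  have d2 : orderOf x ∣ 2 := orderOf_dvd_of_pow_eq_one (by rw [pow_two, h])
  have : orderOf x ∣ Nat.gcd 9 2 := Nat.dvd_gcd d1 d2
  have h1 : orderOf x = 1 := by
    have : orderOf x ∣ 1 := by simpa using this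
    exact Nat.dvd_one.mp this
  exact orderOf_eq_one_iff.mp h1

/-- the elements of the coset `T t` are involutions -/
theorem orderOf_mul_t (x : G) (hx : x ∈ T) : orderOf (x * t) = 2 := by
  apply orderOf_eq_prime
  · rw [pow_two]
    calc x * t * (x * t) = x * (t * x * t⁻¹) * (t * t) := by group
      _ = 1 := by rw [D.hinv x hx, D.t_sq]; group
  · intro h
    have : t = x⁻¹ := by
      calc t = x⁻¹ * (x * t) := by group
        _ = x⁻¹ := by rw [h, mul_one]
    exact D.t_ne_one (D.inf_trivial t (this ▸ T.inv_mem hx) D.htQ)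

/-- the elements of `Q` outside `⟨t⟩` act fixed-point-freely on `T` -/
theorem free_of_mem (q : G) (hq : q ∈ Q) (hq1 : q ≠ 1) (hqt : q ≠ t) (x : G) (hx : x ∈ T)
    (h : q * x * q⁻¹ = x) : x = 1 := by
  have hsq := D.hsq q hq hq1 hqt
  have h2 : t * x * t⁻¹ = x := by
    rw [← hsq, pow_two]
    calc q * q * x * (q * q)⁻¹ = q * (q * x * q⁻¹) * q⁻¹ := by group
      _ = x := by rw [h, h]
  rw [D.hinv x hx] at h2
  apply D.eq_one_of_sq_T x hx
  calc x * x = x * x⁻¹ := by rw [h2]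
    _ = 1 := mul_inv_cancel x

theorem isConj_coset (q : G) (hq : q ∈ Q) (hq1 : q ≠ 1) (hqt : q ≠ t) (x : G) (hx : x ∈ T) :
    IsConj q (x * q) := by
  have : Finite ↥T := Nat.finite_of_card_ne_zero (by rw [D.hT]; norm_num)
  obtain ⟨y, -, hy⟩ := exists_conj_coset T q (D.hQN hq) (D.free_of_mem q hq hq1 hqt) x hx
  exact isConj_iff.mpr ⟨y, hy⟩

section sums

variable (f : G → ℂ) (hf : IsClassFunction G f) (f1 : f 1 = 10)
  (f2 : ∀ s : G, orderOf s = 2 → f s = 2) (f3 : ∀ z : G, orderOf z = 3 → f z = 1)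
  (he3 : ∀ x ∈ T, x ≠ 1 → orderOf x = 3)

include hf f1 f2 f3 he3

theorem sum_T [Fintype ↥T] : ∑ x : ↥T, f (x : G) = 18 := by
  classical
  have h1 : ∀ x : ↥T, f (x : G) = 1 + (if x = 1 then 9 else 0) := by
    intro x
    by_cases hx : x = 1
    · rw [if_pos hx, hx, Subgroup.coe_one, f1]
      norm_num
    · rw [if_neg hx, f3 _ (he3 x x.2 (fun h => hx (Subtype.ext h)))]
      norm_num
  rw [Finset.sum_congr rfl (fun x _ => h1 x), Finset.sum_add_distrib, Finset.sum_const,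
    Finset.sum_ite_eq' Finset.univ (1 : ↥T) (fun _ => (9 : ℂ)), if_pos (Finset.mem_univ _),
    Finset.card_univ, ← Nat.card_eq_fintype_card, D.hT]
  norm_num

theorem sum_coset [Fintype ↥T] (q : G) (hq : q ∈ Q) (hq1 : q ≠ 1) :
    ∑ x : ↥T, f ((x : G) * q) = 9 * f q := by
  have h1 : ∀ x : ↥T, f ((x : G) * q) = f q := by
    intro x
    by_cases hqt : q = t
    · rw [hqt, f2 _ (D.orderOf_mul_t x x.2), f2 _ D.ht]
    · exact (apply_eq_of_isConj hf (D.isConj_coset q hq hq1 hqt x x.2)).symm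
  rw [Finset.sum_congr rfl (fun x _ => h1 x), Finset.sum_const, Finset.card_univ,
    ← Nat.card_eq_fintype_card, D.hT]
  norm_num

theorem sum_K [Fintype ↥T] [Fintype ↥Q] [Fintype ↥(prodSub T Q D.hQN)] :
    ∑ k : ↥(prodSub T Q D.hQN), f (k : G) = 9 * ∑ q : ↥Q, f (q : G) - 72 := by
  classical
  rw [sum_prodSub T Q D.hQN D.inf_trivial f]
  have h1 : ∀ q : ↥Q, ∑ x : ↥T, f ((x : G) * (q : G)) =
      9 * f (q : G) - (if q = 1 then 72 else 0) := by
    intro q
    by_cases hq : q = 1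
    · rw [if_pos hq, hq, Subgroup.coe_one]
      simp only [mul_one]
      rw [D.sum_T f hf f1 f2 f3 he3, f1]
      norm_num
    · rw [if_neg hq, D.sum_coset f hf f1 f2 f3 he3 q q.2 (fun h => hq (Subtype.ext h))]
      norm_num
  rw [Finset.sum_congr rfl (fun q _ => h1 q), Finset.sum_sub_distrib, ← Finset.mul_sum,
    Finset.sum_ite_eq' Finset.univ (1 : ↥Q) (fun _ => (72 : ℂ)), if_pos (Finset.mem_univ _)]

omit f1 f3 he3 in
theorem pair_value (q0 q : G) (h0 : q0 ∈ Q) (h01 : q0 ≠ 1) (h0t : q0 ≠ t) (hq : q ∈ Q)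
    (hq1 : q ≠ 1) (hqt : q ≠ t) : f q + f q⁻¹ = f q0 + f q0⁻¹ := by
  rcases D.hconj q0 h0 q hq h01 h0t hq1 hqt with h | h
  · rw [apply_eq_of_isConj hf h, apply_eq_of_isConj hf (M11Inv.isConj_inv h)]
  · have h' := M11Inv.isConj_inv h
    rw [inv_inv] at h'
    rw [← apply_eq_of_isConj hf h, ← apply_eq_of_isConj hf h', add_comm]

omit f3 he3 in
theorem sum_Q [Fintype ↥Q] (q0 : G) (h0 : q0 ∈ Q) (h01 : q0 ≠ 1) (h0t : q0 ≠ t) :
    ∑ q : ↥Q, f (q : G) = 12 + 3 * (f q0 + f q0⁻¹) := by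
  classical
  set s := f q0 + f q0⁻¹ with hs
  have hinvsum : ∑ q : ↥Q, f ((q : G)⁻¹) = ∑ q : ↥Q, f (q : G) := by
    rw [← Equiv.sum_comp (Equiv.inv ↥Q) (fun q => f (q : G))]
    rfl
  let t' : ↥Q := ⟨t, D.htQ⟩
  have ht'1 : (1 : ↥Q) ≠ t' := by
    intro h
    exact D.t_ne_one (congrArg Subtype.val h).symm
  have h1 : ∀ q : ↥Q, f (q : G) + f ((q : G)⁻¹) =
      s + (if q = 1 then 20 - s else 0) + (if q = t' then 4 - s else 0) := by
    intro q
    by_cases hq1 : q = 1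
    · rw [if_pos hq1, if_neg (by rw [hq1]; exact ht'1), hq1, Subgroup.coe_one, inv_one, f1]
      ring
    · by_cases hqt : q = t'
      · rw [if_neg hq1, if_pos hqt, hqt]
        change f t + f t⁻¹ = _
        rw [D.t_inv, f2 t D.ht]
        ring
      · rw [if_neg hq1, if_neg hqt,
          D.pair_value f hf f2 q0 q h0 h01 h0t q.2 (fun h => hq1 (Subtype.ext h))
            (fun h => hqt (Subtype.ext h))]
        ring
  have h2 : ∑ q : ↥Q, (f (q : G) + f ((q : G)⁻¹)) = 6 * s + 24 := by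
    rw [Finset.sum_congr rfl (fun q _ => h1 q), Finset.sum_add_distrib, Finset.sum_add_distrib,
      Finset.sum_const, Finset.sum_ite_eq' Finset.univ (1 : ↥Q) (fun _ => 20 - s),
      Finset.sum_ite_eq' Finset.univ t' (fun _ => 4 - s), if_pos (Finset.mem_univ _),
      if_pos (Finset.mem_univ _), Finset.card_univ, ← Nat.card_eq_fintype_card, D.hQ]
    simp only [nsmul_eq_mul]
    push_cast
    ring
  rw [Finset.sum_add_distrib, hinvsum] at h2
  linear_combination (1 / 2 : ℂ) * h2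

omit hf f3 he3 in
theorem sum_zpowers (q0 : G) (h0 : q0 ∈ Q) (h01 : q0 ≠ 1)
    (h0t : q0 ≠ t) [Fintype ↥(Subgroup.zpowers q0)] :
    ∑ x : ↥(Subgroup.zpowers q0), f (x : G) = 12 + (f q0 + f q0⁻¹) := by
  have hsq := D.hsq q0 h0 h01 h0t
  have h4 : q0 ^ 4 = 1 := by
    calc q0 ^ 4 = (q0 ^ 2) * (q0 ^ 2) := by group
      _ = 1 := by rw [hsq, D.t_sq]
  have ho : orderOf q0 = 4 := by
    have := orderOf_eq_prime_pow (x := q0) (p := 2) (n := 1)
      (by rw [pow_one, hsq]; exact D.t_ne_one) (by simpa using h4)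
    simpa using this
  have hfin : IsOfFinOrder q0 := by
    rw [← orderOf_pos_iff, ho]; norm_num
  have e1 : ∑ x : ↥(Subgroup.zpowers q0), f (x : G) =
      ∑ n : Fin (orderOf q0), f (q0 ^ (n : ℕ)) := by
    symm
    apply Fintype.sum_equiv (finEquivZPowers hfin)
    intro n
    rw [finEquivZPowers_apply]
  rw [e1, Fin.sum_univ_eq_sum_range (fun n => f (q0 ^ n)) (orderOf q0), ho]
  have h3 : q0 ^ 3 = q0⁻¹ := by
    rw [eq_inv_iff_mul_eq_one, ← pow_succ]
    exact h4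
  simp only [Finset.sum_range_succ, Finset.sum_range_zero, pow_zero, pow_one, zero_add]
  rw [hsq, h3, f1, f2 t D.ht]
  ring

end sums

omit D in
/-- the sum of a non-trivial irreducible character over the group vanishes -/
theorem sum_irr_eq_zero [Fintype G] (χ : IrrCharacter G) (h : (χ : G → ℂ) 1 ≠ 1) :
    ∑ g : G, (χ : G → ℂ) g = 0 := by
  have hne : (χ : G → ℂ) ≠ (1 : G → ℂ) := by
    intro h'
    apply h
    rw [h']
    rfl
  have h1 := classInner_irr χ.2 (isIrrCharacter_one (G := G))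
  rw [if_neg hne] at h1
  unfold classInner at h1
  have h0 : (Nat.card G : ℂ) ≠ 0 := Nat.cast_ne_zero.mpr Nat.card_pos.ne'
  rcases mul_eq_zero.mp h1 with h2 | h2
  · exact absurd (inv_eq_zero.mp h2) h0
  · simpa using h2

set_option maxHeartbeats 1600000 in
/-- **the fixed vector**: a proper subgroup containing `T Q` and the conjugate of `T` under `c`
which fixes a non-zero vector of the module affording `χ` -/
theorem exists_stab (χ : IrrCharacter G) (hd : charDegree (χ : G → ℂ) = 10)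
    (h2 : ∀ s : G, orderOf s = 2 → (χ : G → ℂ) s = 2)
    (h3 : ∀ z : G, orderOf z = 3 → (χ : G → ℂ) z = 1)
    (he3 : ∀ x ∈ T, x ≠ 1 → orderOf x = 3) :
    ∃ H : Subgroup G, prodSub T Q D.hQN ≤ H ∧ (∀ x ∈ T, c * x * c⁻¹ ∈ H) ∧ H ≠ ⊤ ∧
      ∀ [Fintype ↥H], ∃ m : ℕ, 0 < m ∧ ∑ h : ↥H, (χ : G → ℂ) h = (Nat.card ↥H : ℂ) * m := by
  classical
  let _ : Fintype G := Fintype.ofFinite G
  let _ : Fintype ↥T := Fintype.ofFinite _
  let _ : Fintype ↥Q := Fintype.ofFinite _
  let _ : Fintype ↥(prodSub T Q D.hQN) := Fintype.ofFinite _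
  have hχ := IsIrrCharacter.isCharacter χ.2
  have hcl : IsClassFunction G (χ : G → ℂ) := IsCharacter.isClassFunction hχ
  have f1 : (χ : G → ℂ) 1 = 10 := by
    rw [irr_apply_one, hd]
    norm_num
  obtain ⟨n, ρ, hirr, hρ⟩ := χ.2
  -- an element of `Q` outside `⟨t⟩`
  obtain ⟨q0, h0, h01, h0t⟩ : ∃ q0 ∈ Q, q0 ≠ 1 ∧ q0 ≠ t := by
    by_contra hcon
    push Not at hcon
    have hsub : (Q : Set G) ⊆ {1, t} := by
      intro q hq
      by_cases h : q = 1
      · left; exact h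
      · right; exact hcon q hq h
    have h1 := Set.ncard_le_ncard hsub (Set.toFinite _)
    have h2 : ({1, t} : Set G).ncard ≤ 2 := by
      have := Set.ncard_insert_le (1 : G) ({t} : Set G)
      rw [Set.ncard_singleton] at this
      exact this
    have hq8 : (Q : Set G).ncard = 8 := by
      rw [← Nat.card_coe_set_eq]
      exact D.hQ
    omega
  let _ : Fintype ↥(Subgroup.zpowers q0) := Fintype.ofFinite _
  set K := prodSub T Q D.hQN with hKdef
  -- the character sums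
  have sT := D.sum_T (χ : G → ℂ) hcl f1 h2 h3 he3
  have sK := D.sum_K (χ : G → ℂ) hcl f1 h2 h3 he3
  have sQ := D.sum_Q (χ : G → ℂ) hcl f1 h2 q0 h0 h01 h0t
  have sZ := D.sum_zpowers (χ : G → ℂ) f1 h2 q0 h0 h01 h0t
  -- the dimensions
  have eT := card_mul_finrank_fixSpace ρ T
  have eK := card_mul_finrank_fixSpace ρ K
  have eQ := card_mul_finrank_fixSpace ρ Q
  have eZ := card_mul_finrank_fixSpace ρ (Subgroup.zpowers q0)
  rw [hρ] at eT eK eQ eZ
  have hKcard : Nat.card ↥K = 72 := by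
    rw [hKdef, card_prodSub T Q D.hQN D.inf_trivial, D.hT, D.hQ]
  have hZcard : Nat.card ↥(Subgroup.zpowers q0) = 4 := by
    rw [Nat.card_zpowers]
    have hsq := D.hsq q0 h0 h01 h0t
    have h4 : q0 ^ 4 = 1 := by
      calc q0 ^ 4 = (q0 ^ 2) * (q0 ^ 2) := by group
        _ = 1 := by rw [hsq, D.t_sq]
    have := orderOf_eq_prime_pow (x := q0) (p := 2) (n := 1)
      (by rw [pow_one, hsq]; exact D.t_ne_one) (by simpa using h4)
    simpa using this
  rw [sT, D.hT] at eT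
  rw [sK, hKcard] at eK
  rw [D.hQ] at eQ
  rw [sZ, hZcard] at eZ
  set dT := Module.finrank ℂ ↥(fixSpace ρ T) with hdT
  set dK := Module.finrank ℂ ↥(fixSpace ρ K) with hdK
  set dQ := Module.finrank ℂ ↥(fixSpace ρ Q) with hdQ
  set dZ := Module.finrank ℂ ↥(fixSpace ρ (Subgroup.zpowers q0)) with hdZ
  have hdT2 : dT = 2 := by
    have : ((9 * dT : ℕ) : ℂ) = ((18 : ℕ) : ℂ) := by
      push_cast
      exact eT
    have := Nat.cast_injective this
    omega
  have hKQ : dK + 1 = dQ := by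
    have : ((72 * (dK + 1) : ℕ) : ℂ) = ((72 * dQ : ℕ) : ℂ) := by
      push_cast
      push_cast at eK eQ
      linear_combination eK - 9 * eQ
    have := Nat.cast_injective this
    omega
  have hQZ : 2 * dQ + 6 = 3 * dZ := by
    have : ((2 * dQ + 6 : ℕ) : ℂ) = ((3 * dZ : ℕ) : ℂ) := by
      push_cast
      push_cast at eQ eZ
      rw [sQ] at eQ
      linear_combination (1 / 4 : ℂ) * eQ - (3 / 4 : ℂ) * eZ
    exact Nat.cast_injective this
  have hKT : fixSpace ρ K ≤ fixSpace ρ T := fixSpace_anti ρ (left_le_prodSub T Q D.hQN)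
  have hKQle : fixSpace ρ K ≤ fixSpace ρ Q := fixSpace_anti ρ (right_le_prodSub T Q D.hQN)
  have hdKT : dK ≤ dT := Submodule.finrank_mono hKT
  have hdK2 : dK = 2 := by omega
  have hdQ3 : dQ = 3 := by omega
  have hWeq : fixSpace ρ K = fixSpace ρ T :=
    Submodule.eq_of_le_of_finrank_eq hKT (by rw [← hdK, ← hdT, hdK2, hdT2])
  -- the conjugate plane
  have hc3 : c * c * c = 1 := by
    have := pow_orderOf_eq_one c
    rw [D.hc] at this
    rw [← this, pow_succ, pow_two]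
  have e1 : c * c = c⁻¹ := eq_inv_of_mul_eq_one_left hc3
  have e2 : c⁻¹ * c⁻¹ = c := by
    rw [← mul_inv_rev, e1, inv_inv]
  have hcQ' : ∀ b ∈ Q, c⁻¹ * b * c ∈ K := by
    intro b hb
    apply right_le_prodSub T Q D.hQN
    have h1 := D.hcQ _ (D.hcQ b hb)
    have h2 : c * (c * b * c⁻¹) * c⁻¹ = c⁻¹ * b * c := by
      calc c * (c * b * c⁻¹) * c⁻¹ = (c * c) * b * (c⁻¹ * c⁻¹) := by group
        _ = c⁻¹ * b * c := by rw [e1, e2]
    rwa [h2] at h1
  have hW2 : (fixSpace ρ T).map (ρ c) ≤ fixSpace ρ Q := by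
    rw [← hWeq]
    exact map_fixSpace ρ K Q c hcQ'
  have hW1 : fixSpace ρ T ≤ fixSpace ρ Q := by
    rw [← hWeq]
    exact hKQle
  obtain ⟨v, hv0, hv1, hv2⟩ := exists_common_vector (fixSpace ρ T) ((fixSpace ρ T).map (ρ c))
    (fixSpace ρ Q) hW1 hW2 (by rw [← hdT, hdT2])
    (by rw [finrank_map_rho, ← hdT, hdT2]) (by rw [← hdQ, hdQ3])
  refine ⟨vecStab ρ v, ?_, ?_, ?_, ?_⟩
  · rw [le_vecStab_iff, hWeq]
    exact hv1
  · intro x hx
    obtain ⟨w, hw, rfl⟩ := hv2
    rw [mem_vecStab]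
    have hw' := (mem_fixSpace ρ T w).mp hw x hx
    calc ρ (c * x * c⁻¹) (ρ c w) = (ρ (c * x * c⁻¹) * ρ c) w := rfl
      _ = ρ (c * x) w := by rw [← map_mul]; congr 2; group
      _ = ρ c (ρ x w) := by rw [map_mul]; rfl
      _ = ρ c w := by rw [hw']
  · intro htop
    have hv : v ∈ fixSpace ρ (⊤ : Subgroup G) := by
      rw [← le_vecStab_iff, htop]
    let _ : Fintype ↥(⊤ : Subgroup G) := Fintype.ofFinite _
    have e := card_mul_finrank_fixSpace ρ (⊤ : Subgroup G)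
    rw [hρ] at e
    have hsum : ∑ a : ↥(⊤ : Subgroup G), (χ : G → ℂ) a = ∑ g : G, (χ : G → ℂ) g :=
      Fintype.sum_equiv Subgroup.topEquiv.toEquiv _ _ (fun _ => rfl)
    rw [hsum, sum_irr_eq_zero χ (by rw [f1]; norm_num)] at e
    have hpos : 0 < Module.finrank ℂ ↥(fixSpace ρ (⊤ : Subgroup G)) := by
      rw [Module.finrank_pos_iff]
      exact ⟨⟨⟨v, hv⟩, 0, fun h => hv0 (congrArg Subtype.val h)⟩⟩
    rcases mul_eq_zero.mp e with h | h
    · have : Nat.card ↥(⊤ : Subgroup G) = 0 := by exact_mod_cast h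
      exact Nat.card_pos.ne' this
    · have : Module.finrank ℂ ↥(fixSpace ρ (⊤ : Subgroup G)) = 0 := by exact_mod_cast h
      omega
  · intro inst
    have e := card_mul_finrank_fixSpace ρ (vecStab ρ v)
    rw [hρ] at e
    refine ⟨Module.finrank ℂ ↥(fixSpace ρ (vecStab ρ v)), ?_, e.symm⟩
    rw [Module.finrank_pos_iff]
    have hv : v ∈ fixSpace ρ (vecStab ρ v) := by
      rw [← le_vecStab_iff]
    exact ⟨⟨⟨v, hv⟩, 0, fun h => hv0 (congrArg Subtype.val h)⟩⟩

end LocalData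

end Cfsg.Agent.Lib.Helper24.M11Vec
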