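/- helper24: simple groups of order 7920: from the local data, a subgroup H of order 720 (index 11) on which the degree 10 character with value 2 at involutions has a positive multiple of |H| as sum -/
import Mathlib
import Cfsg.Agent.Lib.Helper24.M11VecD
import Cfsg.Agent.Lib.Helper24.M11ThreeC

set_option autoImplicit false
set_option linter.unusedSectionVars false

namespace Cfsg.Agent.Lib.Helper24.M11Vec

open Cfsg Cfsg.Agent.CharLib

universe u

variable {G : Type u} [Group G] [Finite G]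

/-- a subgroup of order `9` is a Sylow `3`-subgroup -/
theorem exists_sylow3_eq (hord : Nat.card G = 7920) [Fact (Nat.Prime 3)] (T : Subgroup G)
    (hT : Nat.card ↥T = 9) : ∃ P : Sylow 3 G, (P : Subgroup G) = T := by
  have hp : IsPGroup 3 ↥T := IsPGroup.of_card (n := 2) (by rw [hT]; norm_num)
  obtain ⟨P, hP⟩ := hp.exists_le_sylow
  refine ⟨P, ?_⟩
  symm
  apply Subgroup.eq_of_le_of_card_ge hP
  rw [hT, Cfsg.Agent.Lib.Helper5.M11.card_sylow3 hord P]

/-- **a subgroup of index `11`** in a simple group of order `7920`, fixing a non-zero vector of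
the module affording the degree `10` character `χ` with value `2` at the involutions -/
theorem exists_index_eleven [IsSimpleGroup G] (hord : Nat.card G = 7920) {T Q : Subgroup G}
    {t c : G} (D : LocalData T Q t c) :
    ∃ (χ : IrrCharacter G) (H : Subgroup G), charDegree (χ : G → ℂ) = 10 ∧
      (∀ s : G, orderOf s = 2 → (χ : G → ℂ) s = 2) ∧
      (∀ z : G, orderOf z = 3 → (χ : G → ℂ) z = 1) ∧ Nat.card ↥H = 720 ∧ T ≤ H ∧
      ∀ [Fintype ↥H], ∃ m : ℕ, 0 < m ∧ ∑ h : ↥H, (χ : G → ℂ) h = (720 : ℂ) * m := by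
  have : Fact (Nat.Prime 3) := ⟨by norm_num⟩
  obtain ⟨χ, χ', hd, -, h2, h3, -⟩ := table_data hord
  obtain ⟨P, hP⟩ := exists_sylow3_eq hord T D.hT
  have he3 : ∀ x ∈ T, x ≠ 1 → orderOf x = 3 := by
    intro x hx hx1
    exact Cfsg.Agent.Lib.Helper5.M11.orderOf_eq_three_of_mem_sylow3 hord P x (hP ▸ hx) hx1
  have hN : Nat.card ↥(Subgroup.normalizer (T : Set G)) = 144 := by
    rw [← hP]
    apply Cfsg.Agent.Lib.Helper24.M11Three.card_normalizer_eq hord P
      (Cfsg.Agent.Lib.Helper5.M11.card_sylow3 hord P)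
      (Cfsg.Agent.Lib.Helper5.M11.sylow3_pow_three hord P)
      (Cfsg.Agent.Lib.Helper5.M11.card_normalizer_sylow3 hord P)
    intro z hz
    obtain ⟨s, -, hs⟩ := Cfsg.Agent.Lib.Helper5.M11.exists_invol_inverting_order_three hord z hz
    exact isConj_iff.mpr ⟨s, hs⟩
  obtain ⟨H, hKH, hcH, hHtop, hsum⟩ := D.exists_stab χ hd (fun s hs => (h2 s hs).1)
    (fun z hz => (h3 z hz).1) he3
  have hKN : prodSub T Q D.hQN ≤ Subgroup.normalizer (T : Set G) := by
    rintro _ ⟨x, hx, q, hq, rfl⟩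
    exact Subgroup.mul_mem _ (Subgroup.le_normalizer hx) (D.hQN hq)
  have hH720 : Nat.card ↥H = 720 :=
    card_eq_720 hord T (prodSub T Q D.hQN) H D.hT
      (by rw [card_prodSub T Q D.hQN D.inf_trivial, D.hT, D.hQ])
      (left_le_prodSub T Q D.hQN) hKN hKH hN c hcH D.hcT hHtop
  refine ⟨χ, H, hd, fun s hs => (h2 s hs).1, fun z hz => (h3 z hz).1, hH720,
    (left_le_prodSub T Q D.hQN).trans hKH, ?_⟩
  intro inst
  obtain ⟨m, hm, hs⟩ := hsum
  refine ⟨m, hm, ?_⟩
  rw [hs, hH720]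
  norm_num

end Cfsg.Agent.Lib.Helper24.M11Vec
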