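import Mathlib
import Cfsg.Agent.Lib.Helper6.Osima2
import Cfsg.Agent.Lib.Helper6.LinChar
import Cfsg.Agent.Lib.Helper6.LinExt
import Cfsg.Agent.Lib.Helper6.Clifford
import Cfsg.Agent.Lib.Helper6.IndFun
import Cfsg.Agent.Lib.Lead.CharEquiv
import Cfsg.Agent.Lib.Lead.PrincipalNorm1
import Cfsg.Agent.Lib.Lead.BlockBasic
import Cfsg.Agent.Lib.Helper24.IrrFacts
import Cfsg.Agent.Lib.Helper24.LocalRing

/-!
# Linear characters in the principal block (helper24)

* `sum_modEq_sum_fixed`: weighted orbit counting for a permutation of `p`-power order.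
* `linB0`: linear characters in the principal block as a subgroup of `Hom(G, ℂˣ)`.
* `exists_hom_extension`: if every twist-fixed character of `p'`-degree in the principal block is
  linear, every twist-invariant linear character of a Sylow `p`-subgroup extends to `G`
  (weak block orthogonality + counting modulo `p`).
-/

set_option autoImplicit false

open Cfsg Cfsg.Agent.CharLib Cfsg.Agent.Lib.Helper6
open scoped ComplexConjugate

namespace Cfsg.Agent.Lib.Helper24

universe u

/-- Counting version on a `τ`-invariant predicate. -/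
theorem card_filter_modEq_card_filter_fixed {S : Type*} [Fintype S] [DecidableEq S] {p : ℕ}
    [Fact p.Prime] (τ : Equiv.Perm S) (e : ℕ) (hτ : τ ^ (p ^ e) = 1) (q : S → Prop)
    [DecidablePred q] (hq : ∀ s, q (τ s) ↔ q s) :
    (Finset.univ.filter q).card ≡ (Finset.univ.filter (fun s => q s ∧ τ s = s)).card [MOD p] := by
  classical
  set σ : Equiv.Perm {s // q s} := τ.subtypePerm hq with hσ
  have hσp : σ ^ (p ^ e) = 1 := by
    rw [hσ, Equiv.Perm.subtypePerm_pow]
    simp only [hτ]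
    exact Equiv.Perm.subtypePerm_one _ _
  have h1 := Equiv.Perm.card_compl_support_modEq (p := p) (n := e) hσp
  have h2 : Fintype.card {s // q s} = (Finset.univ.filter q).card := Fintype.card_subtype q
  have h3 : (σ.support)ᶜ.card = (Finset.univ.filter (fun s => q s ∧ τ s = s)).card := by
    apply Finset.card_bij (fun (a : {s // q s}) _ => (a : S))
    · intro a ha
      rw [Finset.mem_compl, Equiv.Perm.mem_support, not_not] at ha
      rw [Finset.mem_filter]
      refine ⟨Finset.mem_univ _, a.2, ?_⟩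
      have := congrArg Subtype.val ha
      simpa [hσ] using this
    · intro a _ b _ hab
      exact Subtype.ext hab
    · intro b hb
      rw [Finset.mem_filter] at hb
      refine ⟨⟨b, hb.2.1⟩, ?_, rfl⟩
      rw [Finset.mem_compl, Equiv.Perm.mem_support, not_not]
      apply Subtype.ext
      simpa [hσ] using hb.2.2
  rw [← h2, ← h3]
  exact h1.symm

/-- Weighted orbit counting for a permutation of `p`-power order. -/
theorem sum_modEq_sum_fixed {S : Type*} [Fintype S] [DecidableEq S] {p : ℕ}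
    [Fact p.Prime] (τ : Equiv.Perm S) (e : ℕ) (hτ : τ ^ (p ^ e) = 1) (f : S → ℤ)
    (hf : ∀ s, f (τ s) = f s) :
    (∑ s, f s) ≡ (∑ s ∈ Finset.univ.filter (fun s => τ s = s), f s) [ZMOD p] := by
  classical
  have h1 : ∑ s, f s = ∑ v ∈ Finset.univ.image f,
      ((Finset.univ.filter (fun s => f s = v)).card : ℤ) * v := by
    rw [← Finset.sum_fiberwise_of_maps_to (g := f) (t := Finset.univ.image f)
      (fun s _ => Finset.mem_image_of_mem f (Finset.mem_univ s))]
    apply Finset.sum_congr rfl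
    intro v _
    rw [Finset.sum_congr rfl (fun s hs => (Finset.mem_filter.mp hs).2), Finset.sum_const,
      nsmul_eq_mul]
  have h2 : ∑ s ∈ Finset.univ.filter (fun s => τ s = s), f s = ∑ v ∈ Finset.univ.image f,
      ((Finset.univ.filter (fun s => f s = v ∧ τ s = s)).card : ℤ) * v := by
    rw [← Finset.sum_fiberwise_of_maps_to (g := f) (t := Finset.univ.image f)
      (fun s _ => Finset.mem_image_of_mem f (Finset.mem_univ s))]
    apply Finset.sum_congr rfl
    intro v _
    rw [Finset.sum_congr rfl (fun s hs => (Finset.mem_filter.mp hs).2), Finset.sum_const,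
      nsmul_eq_mul]
    congr 3
    ext s
    simp only [Finset.mem_filter, Finset.mem_univ, true_and]
    tauto
  rw [h1, h2]
  apply Int.ModEq.sum
  intro v _
  apply Int.ModEq.mul_right
  have := card_filter_modEq_card_filter_fixed τ e hτ (fun s => f s = v)
    (fun s => by rw [hf])
  exact (Int.natCast_modEq_iff).mpr this


section principalLinear

variable {G : Type u} [Group G] [Fintype G] {M : Ideal AlgInt}

/-- Weak block orthogonality for the principal block against the identity. -/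
theorem sum_principal_deg_mul_apply {p : ℕ} [hpp : Fact p.Prime] (hM : IsPModular p M)
    [Fintype (IrrCharacter G)] [DecidablePred (· ∈ principalBlock M G)]
    (y : G) (hy : p ∣ orderOf y) :
    ∑ χ : IrrCharacter G, (if χ ∈ principalBlock M G then
      (χ : G → ℂ) 1 * (χ : G → ℂ) y else 0) = 0 := by
  have h := weak_block_orthogonality hM (Cfsg.Agent.CharLib.trivIrr G) 1 y⁻¹
    (by rw [orderOf_one]; exact hpp.out.one_lt.ne' ∘ Nat.dvd_one.mp) (by rwa [orderOf_inv])
  have hB : blockOf M ((Cfsg.Agent.CharLib.trivIrr G : IrrCharacter G) : G → ℂ) =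
      principalBlock M G := rfl
  rw [hB, finsum_mem_eq_sum_ite] at h
  refine Eq.trans ?_ h
  apply Finset.sum_congr rfl
  intro χ _
  split_ifs
  · rw [irr_apply_inv, Complex.conj_conj]
  · rfl

/-- Multiplicity of the linear character `μ` of the subgroup `P` in the restriction of `χ`. -/
noncomputable def linMult (P : Subgroup G) [Fintype P] (χ : G → ℂ) (μ : P →* ℂˣ) : ℕ :=
  ⌊((Nat.card P : ℂ)⁻¹ * ∑ y : P, χ y * conj ((μ y : ℂˣ) : ℂ)).re⌋₊

theorem linMult_spec (P : Subgroup G) [Fintype P] {χ : G → ℂ} (hχ : IsCharacter G χ) (μ : P →* ℂˣ) :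
    ∑ y : P, χ y * conj ((μ y : ℂˣ) : ℂ) = (Nat.card P : ℂ) * (linMult P χ μ : ℂ) := by
  classical
  obtain ⟨n, hn⟩ := IsCharacter.classInner_nat (isCharacter_resFun P hχ) (isCharacter_of_hom μ)
  have h1 : (Nat.card P : ℂ)⁻¹ * ∑ y : P, χ y * conj ((μ y : ℂˣ) : ℂ) = (n : ℂ) := by
    rw [← hn]; rfl
  have h2 : linMult P χ μ = n := by
    unfold linMult
    rw [h1]
    simp
  have hne : (Nat.card P : ℂ) ≠ 0 := by exact_mod_cast (Nat.card_pos (α := P)).ne'
  rw [h2, ← h1, ← mul_assoc, mul_inv_cancel₀ hne, one_mul]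

/-- Key identity: the weighted multiplicity of a linear character of a `p`-subgroup in the
principal block does not depend on the linear character. -/
theorem sum_principal_deg_mul_linMult {p : ℕ} [hpp : Fact p.Prime] (hM : IsPModular p M)
    [Fintype (IrrCharacter G)] [DecidablePred (· ∈ principalBlock M G)]
    (P : Subgroup G) [Fintype P] (hP : IsPGroup p P) (μ : P →* ℂˣ) :
    (Nat.card P : ℂ) * ∑ χ : IrrCharacter G, (if χ ∈ principalBlock M G then
      (χ : G → ℂ) 1 * (linMult P (χ : G → ℂ) μ : ℂ) else 0) =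
    ∑ χ : IrrCharacter G, (if χ ∈ principalBlock M G then
      (χ : G → ℂ) 1 * (χ : G → ℂ) 1 else 0) := by
  classical
  have h1 : (Nat.card P : ℂ) * ∑ χ : IrrCharacter G, (if χ ∈ principalBlock M G then
      (χ : G → ℂ) 1 * (linMult P (χ : G → ℂ) μ : ℂ) else 0) =
      ∑ y : P, conj ((μ y : ℂˣ) : ℂ) * ∑ χ : IrrCharacter G, (if χ ∈ principalBlock M G then
        (χ : G → ℂ) 1 * (χ : G → ℂ) y else 0) := by
    rw [Finset.mul_sum]
    have h2 : ∀ y : P, conj ((μ y : ℂˣ) : ℂ) * ∑ χ : IrrCharacter G,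
        (if χ ∈ principalBlock M G then (χ : G → ℂ) 1 * (χ : G → ℂ) y else 0) =
        ∑ χ : IrrCharacter G, conj ((μ y : ℂˣ) : ℂ) *
        (if χ ∈ principalBlock M G then (χ : G → ℂ) 1 * (χ : G → ℂ) y else 0) :=
      fun y => Finset.mul_sum _ _ _
    rw [Finset.sum_congr rfl (fun y _ => h2 y), Finset.sum_comm]
    apply Finset.sum_congr rfl
    intro χ _
    split_ifs with h
    · have := linMult_spec P (IsIrrCharacter.isCharacter χ.2) μ
      rw [mul_left_comm, ← this, Finset.mul_sum]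
      apply Finset.sum_congr rfl
      intro y _
      ring
    · simp
  rw [h1, Finset.sum_eq_single (1 : P)]
  · simp
  · intro y _ hy
    have hyo : p ∣ orderOf (y : G) := by
      obtain ⟨j, hj⟩ := (IsPGroup.iff_orderOf.mp hP) y
      rw [Subgroup.orderOf_coe, hj]
      rcases Nat.eq_zero_or_pos j with h0 | hpos
      · exfalso
        rw [h0, pow_zero, orderOf_eq_one_iff] at hj
        exact hy hj
      · exact dvd_pow_self p hpos.ne'
    rw [sum_principal_deg_mul_apply hM (y : G) hyo, mul_zero]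
  · intro h; exact absurd (Finset.mem_univ _) h

end principalLinear


section linB0

variable {G : Type u} [Group G] [Finite G] {M : Ideal AlgInt}

/-- The irreducible character attached to a homomorphism to `ℂˣ`. -/
noncomputable def homIrr (φ : G →* ℂˣ) : IrrCharacter G :=
  ⟨fun g => ((φ g : ℂˣ) : ℂ), isIrrCharacter_of_hom φ⟩

theorem homIrr_apply (φ : G →* ℂˣ) (g : G) : ((homIrr φ : IrrCharacter G) : G → ℂ) g = ((φ g : ℂˣ) : ℂ) :=
  rfl

theorem memLocalRing_hom [hp : M.IsPrime] (φ : G →* ℂˣ) (g : G) :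
    MemLocalRing M ((φ g : ℂˣ) : ℂ) :=
  memLocalRing_of_algInt ⟨_, irr_isIntegral (homIrr φ) g⟩ hp.one_notMem

theorem homIrr_mem_principalBlock_iff (φ : G →* ℂˣ) :
    homIrr φ ∈ principalBlock M G ↔ ∀ g : G, MemLocalIdeal M
      (((Subgroup.centralizer ({g} : Set G)).index : ℂ) * (1 - ((φ g : ℂˣ) : ℂ))) := by
  have key : ∀ g : G, centralChar (fun _ : G => (1 : ℂ)) g -
      centralChar ((homIrr φ : IrrCharacter G) : G → ℂ) g =
      ((Subgroup.centralizer ({g} : Set G)).index : ℂ) * (1 - ((φ g : ℂˣ) : ℂ)) := by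
    intro g
    unfold centralChar
    rw [homIrr_apply, homIrr_apply, map_one, Units.val_one]
    ring
  constructor
  · intro h g
    have := h g
    rwa [key] at this
  · intro h g
    rw [key]; exact h g

/-- Linear characters in the principal block, as a subgroup of `Hom(G, ℂˣ)`. -/
def linB0 {p : ℕ} (hM : IsPModular p M) : Subgroup (G →* ℂˣ) where
  carrier := {φ | ∀ g : G, MemLocalIdeal M
      (((Subgroup.centralizer ({g} : Set G)).index : ℂ) * (1 - ((φ g : ℂˣ) : ℂ)))}
  one_mem' := by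
    intro g
    simp only [MonoidHom.one_apply, Units.val_one, sub_self, mul_zero]
    exact memLocalIdeal_zero (one_not_mem_of_isPModular hM)
  mul_mem' := by
    intro φ ψ hφ hψ g
    haveI := isPrime_of_isPModular hM
    have h1 : ((Subgroup.centralizer ({g} : Set G)).index : ℂ) * (1 - (((φ * ψ) g : ℂˣ) : ℂ)) =
        ((Subgroup.centralizer ({g} : Set G)).index : ℂ) * (1 - ((φ g : ℂˣ) : ℂ)) +
        ((φ g : ℂˣ) : ℂ) * (((Subgroup.centralizer ({g} : Set G)).index : ℂ) *
          (1 - ((ψ g : ℂˣ) : ℂ))) := by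
      rw [MonoidHom.mul_apply, Units.val_mul]; ring
    rw [h1]
    exact memLocalIdeal_add (hφ g) (memLocalIdeal_mul_left (memLocalRing_hom φ g) (hψ g))
  inv_mem' := by
    intro φ hφ g
    haveI := isPrime_of_isPModular hM
    have hne : ((φ g : ℂˣ) : ℂ) ≠ 0 := Units.ne_zero _
    have h1 : ((Subgroup.centralizer ({g} : Set G)).index : ℂ) * (1 - (((φ⁻¹) g : ℂˣ) : ℂ)) =
        - (((φ⁻¹ g : ℂˣ) : ℂ) * (((Subgroup.centralizer ({g} : Set G)).index : ℂ) *
          (1 - ((φ g : ℂˣ) : ℂ)))) := by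
      rw [MonoidHom.inv_apply, Units.val_inv_eq_inv_val]
      field_simp
      ring
    rw [h1]
    exact memLocalIdeal_neg (memLocalIdeal_mul_left (memLocalRing_hom φ⁻¹ g) (hφ g))

theorem mem_linB0_iff {p : ℕ} (hM : IsPModular p M) (φ : G →* ℂˣ) :
    φ ∈ linB0 hM ↔ homIrr φ ∈ principalBlock M G :=
  (homIrr_mem_principalBlock_iff φ).symm

/-- The subgroup of linear characters in the principal block, fixed by the `k`-th power twist and
trivial on `P`. -/
def linB0Fix {p : ℕ} (hM : IsPModular p M) (P : Subgroup G) (k : ℕ) : Subgroup (G →* ℂˣ) where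
  carrier := {φ | φ ∈ linB0 hM ∧ (∀ g : G, φ (g ^ k) = φ g) ∧ ∀ y ∈ P, φ y = 1}
  one_mem' := ⟨(linB0 hM).one_mem, fun g => rfl, fun y _ => rfl⟩
  mul_mem' := by
    rintro φ ψ ⟨h1, h2, h3⟩ ⟨h1', h2', h3'⟩
    refine ⟨(linB0 hM).mul_mem h1 h1', fun g => ?_, fun y hy => ?_⟩
    · rw [MonoidHom.mul_apply, MonoidHom.mul_apply, h2, h2']
    · rw [MonoidHom.mul_apply, h3 y hy, h3' y hy, one_mul]
  inv_mem' := by
    rintro φ ⟨h1, h2, h3⟩
    refine ⟨(linB0 hM).inv_mem h1, fun g => ?_, fun y hy => ?_⟩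
    · rw [MonoidHom.inv_apply, MonoidHom.inv_apply, h2]
    · rw [MonoidHom.inv_apply, h3 y hy, inv_one]

/-- The order of `linB0Fix` is prime to `p` when every `p`-element is conjugate into `P`. -/
theorem not_dvd_card_linB0Fix {p : ℕ} [hpp : Fact p.Prime] (hM : IsPModular p M) (P : Subgroup G)
    (hsyl : ∀ g : G, (∃ j : ℕ, g ^ (p ^ j) = 1) → ∃ x : G, x * g * x⁻¹ ∈ P) (k : ℕ) :
    ¬ p ∣ Nat.card (linB0Fix hM P k) := by
  intro hdvd
  haveI : Finite (G →* ℂˣ) := Nat.finite_of_card_ne_zero (by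
    rw [card_hom_units]; exact Subgroup.index_ne_zero_of_finite)
  obtain ⟨φ, hφ⟩ := exists_prime_orderOf_dvd_card' p hdvd
  set m : ℕ := ordCompl[p] (Nat.card G) with hm
  have hcard : Nat.card G = p ^ (Nat.card G).factorization p * m :=
    (Nat.ordProj_mul_ordCompl_eq_self _ _).symm
  have hpow : φ ^ m = 1 := by
    apply Subtype.ext
    apply MonoidHom.ext
    intro g
    rw [Subgroup.coe_pow, MonoidHom.pow_apply, Subgroup.coe_one, MonoidHom.one_apply, ← map_pow]
    obtain ⟨x, hx⟩ := hsyl (g ^ m) ⟨(Nat.card G).factorization p, by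
      rw [← pow_mul, mul_comm, ← hcard]; exact pow_card_eq_one'⟩
    have h3 := φ.2.2.2 _ hx
    rw [map_mul, map_mul, map_inv, mul_comm, inv_mul_cancel_left] at h3
    exact h3
  have h1 : p ∣ m := by rw [← hφ]; exact orderOf_dvd_of_pow_eq_one hpow
  have h2 : ¬ p ∣ m := Nat.not_dvd_ordCompl hpp.out Nat.card_pos.ne'
  exact h2 h1

end linB0


section main

variable {G : Type u} [Group G] [Fintype G] {M : Ideal AlgInt}

theorem homIrr_linCharUnitsHom (χ : IrrCharacter G) (h : (χ : G → ℂ) 1 = 1) :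
    homIrr (linCharUnitsHom (IsIrrCharacter.isCharacter χ.2) h) = χ := by
  apply Subtype.ext
  funext g
  rfl

theorem homIrr_injective : Function.Injective (homIrr (G := G)) := by
  intro φ ψ h
  apply MonoidHom.ext
  intro g
  apply Units.ext
  have := congrArg (fun χ : IrrCharacter G => (χ : G → ℂ) g) h
  exact this

theorem linMult_homIrr (P : Subgroup G) [Fintype P] (φ : G →* ℂˣ) (ν : P →* ℂˣ) :
    linMult P ((homIrr φ : IrrCharacter G) : G → ℂ) ν = if φ.comp P.subtype = ν then 1 else 0 := by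
  classical
  have h1 : (Nat.card P : ℂ)⁻¹ * ∑ y : P, ((homIrr φ : IrrCharacter G) : G → ℂ) y *
      conj ((ν y : ℂˣ) : ℂ) =
      classInner (fun y : P => (((φ.comp P.subtype) y : ℂˣ) : ℂ)) (fun y : P => ((ν y : ℂˣ) : ℂ)) :=
    rfl
  unfold linMult
  rw [h1, classInner_irr (isIrrCharacter_of_hom _) (isIrrCharacter_of_hom _)]
  have h2 : ((fun y : P => (((φ.comp P.subtype) y : ℂˣ) : ℂ)) = fun y : P => ((ν y : ℂˣ) : ℂ)) ↔
      φ.comp P.subtype = ν := by
    constructor
    · intro h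
      apply MonoidHom.ext
      intro y
      apply Units.ext
      exact congrFun h y
    · intro h; rw [h]
  by_cases h : φ.comp P.subtype = ν
  · rw [if_pos (h2.mpr h), if_pos h]; simp
  · rw [if_neg (fun h' => h (h2.mp h')), if_neg h]; simp

theorem linMult_twIrr (P : Subgroup G) [Fintype P] (k : ℕ) (hk : k.Coprime (Nat.card G))
    (χ : IrrCharacter G) (ν : P →* ℂˣ) (hν : ∀ y : P, ν (y ^ k) = ν y) :
    linMult P ((twIrr k hk χ : IrrCharacter G) : G → ℂ) ν = linMult P (χ : G → ℂ) ν := by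
  unfold linMult
  have hkP : (Nat.card P).Coprime k :=
    (hk.coprime_dvd_right (Subgroup.card_subgroup_dvd_card P)).symm
  have h1 : ∑ y : P, ((twIrr k hk χ : IrrCharacter G) : G → ℂ) y * conj ((ν y : ℂˣ) : ℂ) =
      ∑ y : P, (χ : G → ℂ) y * conj ((ν y : ℂˣ) : ℂ) := by
    rw [← Equiv.sum_comp (powCoprime hkP) (fun y : P => (χ : G → ℂ) y * conj ((ν y : ℂˣ) : ℂ))]
    apply Finset.sum_congr rfl
    intro y _
    rw [powCoprime_apply, hν, twIrr_apply]
    rfl
  rw [h1]

theorem charDegree_twIrr (k : ℕ) (hk : k.Coprime (Nat.card G)) (χ : IrrCharacter G) :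
    charDegree ((twIrr k hk χ : IrrCharacter G) : G → ℂ) = charDegree (χ : G → ℂ) := by
  unfold charDegree
  rw [twIrr_apply, one_pow]

end main


section main2

variable {G : Type u} [Group G] [Fintype G] {M : Ideal AlgInt}

/-- natural-number form of the key identity -/
theorem sum_principal_deg_mul_linMult_nat {p : ℕ} [hpp : Fact p.Prime] (hM : IsPModular p M)
    [Fintype (IrrCharacter G)] [DecidablePred (· ∈ principalBlock M G)]
    (P : Subgroup G) [Fintype P] (hP : IsPGroup p P) (μ ν : P →* ℂˣ) :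
    ∑ χ : IrrCharacter G, (if χ ∈ principalBlock M G then
      charDegree (χ : G → ℂ) * linMult P (χ : G → ℂ) μ else 0) =
    ∑ χ : IrrCharacter G, (if χ ∈ principalBlock M G then
      charDegree (χ : G → ℂ) * linMult P (χ : G → ℂ) ν else 0) := by
  have key : ∀ μ' : P →* ℂˣ, ((∑ χ : IrrCharacter G, (if χ ∈ principalBlock M G then
      charDegree (χ : G → ℂ) * linMult P (χ : G → ℂ) μ' else 0) : ℕ) : ℂ) =
      ∑ χ : IrrCharacter G, (if χ ∈ principalBlock M G then
      (χ : G → ℂ) 1 * (linMult P (χ : G → ℂ) μ' : ℂ) else 0) := by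
    intro μ'
    rw [Nat.cast_sum]
    apply Finset.sum_congr rfl
    intro χ _
    split_ifs
    · rw [Nat.cast_mul, irr_apply_one]
    · simp
  have hne : (Nat.card P : ℂ) ≠ 0 := by exact_mod_cast (Nat.card_pos (α := P)).ne'
  have h1 := sum_principal_deg_mul_linMult hM P hP μ
  have h2 := sum_principal_deg_mul_linMult hM P hP ν
  rw [← h2] at h1
  have h3 := mul_left_cancel₀ hne h1
  rw [← key μ, ← key ν] at h3
  exact_mod_cast h3

end main2


section main3

variable {G : Type u} [Group G] [Fintype G] {M : Ideal AlgInt}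

/-- The fixed linear characters in the principal block that are trivial on `P` are counted by
`linB0Fix`. -/
theorem card_filter_eq_card_linB0Fix {p : ℕ} (hM : IsPModular p M)
    [Fintype (IrrCharacter G)]
    (P : Subgroup G) (k : ℕ) (hk : k.Coprime (Nat.card G))
    [DecidablePred (fun χ : IrrCharacter G => twPerm k hk χ = χ ∧ χ ∈ principalBlock M G ∧
      (χ : G → ℂ) 1 = 1 ∧ ∀ y : P, (χ : G → ℂ) y = (((1 : P →* ℂˣ) y : ℂˣ) : ℂ))] :
    (Finset.univ.filter (fun χ : IrrCharacter G => twPerm k hk χ = χ ∧ χ ∈ principalBlock M G ∧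
      (χ : G → ℂ) 1 = 1 ∧ ∀ y : P, (χ : G → ℂ) y = (((1 : P →* ℂˣ) y : ℂˣ) : ℂ))).card =
    Nat.card (linB0Fix hM P k) := by
  classical
  rw [← Fintype.card_coe, ← Nat.card_eq_fintype_card]
  symm
  refine Nat.card_eq_of_bijective (fun φ => ⟨homIrr φ.1, ?_⟩) ⟨?_, ?_⟩
  · rw [Finset.mem_filter]
    refine ⟨Finset.mem_univ _, ?_, ?_, ?_, ?_⟩
    · rw [twPerm_apply, twIrr_eq_iff]
      intro g
      rw [homIrr_apply, homIrr_apply, φ.2.2.1 g]
    · exact (mem_linB0_iff hM φ.1).mp φ.2.1
    · rw [homIrr_apply, map_one, Units.val_one]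
    · intro y
      rw [homIrr_apply, φ.2.2.2 y y.2, MonoidHom.one_apply]
  · intro φ ψ h
    apply Subtype.ext
    apply homIrr_injective
    exact congrArg Subtype.val h
  · rintro ⟨χ, hχ⟩
    rw [Finset.mem_filter] at hχ
    obtain ⟨-, h1, h2, h3, h4⟩ := hχ
    have hχeq := homIrr_linCharUnitsHom χ h3
    set φ := linCharUnitsHom (IsIrrCharacter.isCharacter χ.2) h3 with hφ
    have hmem : φ ∈ linB0Fix hM P k := by
      refine ⟨?_, ?_, ?_⟩
      · rw [mem_linB0_iff, hχeq]; exact h2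
      · intro g
        apply Units.ext
        rw [twPerm_apply, twIrr_eq_iff] at h1
        exact h1 g
      · intro y hy
        apply Units.ext
        have := h4 ⟨y, hy⟩
        rw [MonoidHom.one_apply] at this
        exact this
    refine ⟨⟨φ, hmem⟩, ?_⟩
    apply Subtype.ext
    exact hχeq

/-- pointwise congruence for a fixed character -/
theorem fixed_term_modEq {p : ℕ} [hpp : Fact p.Prime]
    (P : Subgroup G) [Fintype P] (k : ℕ)
    (hlin : ∀ χ : IrrCharacter G, χ ∈ principalBlock M G → ¬ p ∣ charDegree (χ : G → ℂ) →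
      (∀ g : G, (χ : G → ℂ) (g ^ k) = (χ : G → ℂ) g) → charDegree (χ : G → ℂ) = 1)
    (μ : P →* ℂˣ) (χ : IrrCharacter G) (hfix : ∀ g : G, (χ : G → ℂ) (g ^ k) = (χ : G → ℂ) g)
    [Decidable (χ ∈ principalBlock M G)]
    [Decidable (χ ∈ principalBlock M G ∧ (χ : G → ℂ) 1 = 1 ∧
      ∀ y : P, (χ : G → ℂ) y = (((1 : P →* ℂˣ) y : ℂˣ) : ℂ))]
    [Decidable (χ ∈ principalBlock M G ∧ (χ : G → ℂ) 1 = 1 ∧
      ∀ y : P, (χ : G → ℂ) y = ((μ y : ℂˣ) : ℂ))] :
    (if χ ∈ principalBlock M G then (charDegree (χ : G → ℂ) : ℤ) *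
      ((linMult P (χ : G → ℂ) 1 : ℤ) - (linMult P (χ : G → ℂ) μ : ℤ)) else 0) ≡
    (if (χ ∈ principalBlock M G ∧ (χ : G → ℂ) 1 = 1 ∧
      ∀ y : P, (χ : G → ℂ) y = (((1 : P →* ℂˣ) y : ℂˣ) : ℂ)) then (1 : ℤ) else 0) -
    (if (χ ∈ principalBlock M G ∧ (χ : G → ℂ) 1 = 1 ∧
      ∀ y : P, (χ : G → ℂ) y = ((μ y : ℂˣ) : ℂ)) then (1 : ℤ) else 0) [ZMOD p] := by
  classical
  by_cases hB : χ ∈ principalBlock M G
  · rw [if_pos hB]
    by_cases hd : p ∣ charDegree (χ : G → ℂ)
    · have h1 : (χ : G → ℂ) 1 ≠ 1 := by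
        rw [irr_apply_one]
        intro h
        have h' : charDegree (χ : G → ℂ) = 1 := by exact_mod_cast h
        rw [h'] at hd
        exact hpp.out.one_lt.ne' (Nat.dvd_one.mp hd)
      rw [if_neg (fun h => h1 h.2.1), if_neg (fun h => h1 h.2.1), sub_zero]
      apply Int.modEq_zero_iff_dvd.mpr
      exact Dvd.dvd.mul_right (Int.natCast_dvd_natCast.mpr hd) _
    · have hd1 := hlin χ hB hd hfix
      have h1 : (χ : G → ℂ) 1 = 1 := by rw [irr_apply_one, hd1, Nat.cast_one]
      have hχeq := homIrr_linCharUnitsHom χ h1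
      set φ := linCharUnitsHom (IsIrrCharacter.isCharacter χ.2) h1 with hφ
      have hres : ∀ ν : P →* ℂˣ, (∀ y : P, (χ : G → ℂ) y = ((ν y : ℂˣ) : ℂ)) ↔
          φ.comp P.subtype = ν := by
        intro ν
        constructor
        · intro h
          apply MonoidHom.ext
          intro y
          apply Units.ext
          exact h y
        · intro h y
          rw [← h]; rfl
      have hm : ∀ ν : P →* ℂˣ, linMult P (χ : G → ℂ) ν = if φ.comp P.subtype = ν then 1 else 0 := by
        intro ν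
        rw [← linMult_homIrr, hχeq]
      rw [hd1, hm, hm]
      by_cases ha : φ.comp P.subtype = 1 <;> by_cases hb : φ.comp P.subtype = μ
      · rw [if_pos ha, if_pos hb, if_pos ⟨hB, h1, (hres 1).mpr ha⟩, if_pos ⟨hB, h1, (hres μ).mpr hb⟩]
        simp
      · rw [if_pos ha, if_neg hb, if_pos ⟨hB, h1, (hres 1).mpr ha⟩,
          if_neg (fun h => hb ((hres μ).mp h.2.2))]
        simp
      · rw [if_neg ha, if_pos hb, if_neg (fun h => ha ((hres 1).mp h.2.2)),
          if_pos ⟨hB, h1, (hres μ).mpr hb⟩]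
        simp
      · rw [if_neg ha, if_neg hb, if_neg (fun h => ha ((hres 1).mp h.2.2)),
          if_neg (fun h => hb ((hres μ).mp h.2.2))]
        simp
  · rw [if_neg hB, if_neg (fun h => hB h.1), if_neg (fun h => hB h.1)]
    simp

end main3


section main4

variable {G : Type u} [Group G] [Finite G] {M : Ideal AlgInt}

/-- **Extension of linear characters of a Sylow subgroup.**  Suppose every irreducible character
in the principal block, of degree prime to `p` and fixed by the `k`-th power twist (a twist of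
`p`-power order), is linear.  Then every `k`-invariant linear character of the Sylow
`p`-subgroup `P` extends to a linear character of `G`. -/
theorem exists_hom_extension {p : ℕ} [hpp : Fact p.Prime] (hM : IsPModular p M)
    (P : Subgroup G) (hP : IsPGroup p P)
    (hsyl : ∀ g : G, (∃ j : ℕ, g ^ (p ^ j) = 1) → ∃ x : G, x * g * x⁻¹ ∈ P)
    (k : ℕ) (hk : k.Coprime (Nat.card G)) (e : ℕ) (hτ : twPerm k hk ^ (p ^ e) = 1)
    (hlin : ∀ χ : IrrCharacter G, χ ∈ principalBlock M G → ¬ p ∣ charDegree (χ : G → ℂ) →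
      (∀ g : G, (χ : G → ℂ) (g ^ k) = (χ : G → ℂ) g) → charDegree (χ : G → ℂ) = 1)
    (μ : P →* ℂˣ) (hμ : ∀ y : P, μ (y ^ k) = μ y) :
    ∃ φ : G →* ℂˣ, ∀ y : P, φ y = μ y := by
  classical
  letI : Fintype G := Fintype.ofFinite G
  letI := fintypeIrr G
  letI : Fintype P := Fintype.ofFinite P
  -- the weights
  set F : IrrCharacter G → ℤ := fun χ => if χ ∈ principalBlock M G then
    (charDegree (χ : G → ℂ) : ℤ) *
      ((linMult P (χ : G → ℂ) 1 : ℤ) - (linMult P (χ : G → ℂ) μ : ℤ)) else 0 with hF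
  have hsum : ∑ χ, F χ = 0 := by
    have h := sum_principal_deg_mul_linMult_nat hM P hP (1 : P →* ℂˣ) μ
    have h' : ((∑ χ : IrrCharacter G, (if χ ∈ principalBlock M G then
      charDegree (χ : G → ℂ) * linMult P (χ : G → ℂ) 1 else 0) : ℕ) : ℤ) =
      ((∑ χ : IrrCharacter G, (if χ ∈ principalBlock M G then
      charDegree (χ : G → ℂ) * linMult P (χ : G → ℂ) μ else 0) : ℕ) : ℤ) := by rw [h]
    rw [Nat.cast_sum, Nat.cast_sum, ← sub_eq_zero, ← Finset.sum_sub_distrib] at h'
    rw [← h']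
    apply Finset.sum_congr rfl
    intro χ _
    simp only [hF]
    split_ifs
    · push_cast; ring
    · simp
  have hFτ : ∀ χ, F (twPerm k hk χ) = F χ := by
    intro χ
    simp only [hF]
    rw [twPerm_apply]
    have hmem : twIrr k hk χ ∈ principalBlock M G ↔ χ ∈ principalBlock M G :=
      twPerm_mem_principalBlock_iff k hk χ
    rw [charDegree_twIrr, linMult_twIrr P k hk χ 1 (fun y => rfl), linMult_twIrr P k hk χ μ hμ]
    by_cases h : χ ∈ principalBlock M G
    · rw [if_pos h, if_pos (hmem.mpr h)]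
    · rw [if_neg h, if_neg (fun h' => h (hmem.mp h'))]
  have hmod := sum_modEq_sum_fixed (twPerm k hk) e hτ F hFτ
  rw [hsum] at hmod
  -- the sets `A ν`
  set A : (P →* ℂˣ) → Finset (IrrCharacter G) := fun ν =>
    Finset.univ.filter (fun χ => twPerm k hk χ = χ ∧ χ ∈ principalBlock M G ∧
      (χ : G → ℂ) 1 = 1 ∧ ∀ y : P, (χ : G → ℂ) y = ((ν y : ℂˣ) : ℂ)) with hA
  have hAcard : ∀ ν : P →* ℂˣ, ((A ν).card : ℤ) =
      ∑ χ ∈ Finset.univ.filter (fun χ => twPerm k hk χ = χ),
        (if (χ ∈ principalBlock M G ∧ (χ : G → ℂ) 1 = 1 ∧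
          ∀ y : P, (χ : G → ℂ) y = ((ν y : ℂˣ) : ℂ)) then (1 : ℤ) else 0) := by
    intro ν
    rw [Finset.sum_boole, Finset.filter_filter]
  have hfix : ∑ χ ∈ Finset.univ.filter (fun χ => twPerm k hk χ = χ), F χ ≡
      ((A 1).card : ℤ) - ((A μ).card : ℤ) [ZMOD p] := by
    rw [hAcard 1, hAcard μ, ← Finset.sum_sub_distrib]
    apply Int.ModEq.sum
    intro χ hχ
    rw [Finset.mem_filter] at hχ
    have hfixχ : ∀ g : G, (χ : G → ℂ) (g ^ k) = (χ : G → ℂ) g := by
      have := hχ.2
      rwa [twPerm_apply, twIrr_eq_iff] at this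
    exact fixed_term_modEq P k hlin μ χ hfixχ
  have hcong : ((A 1).card : ℤ) ≡ ((A μ).card : ℤ) [ZMOD p] := by
    have := hmod.trans hfix
    have h2 := this.add_right ((A μ).card : ℤ)
    rw [zero_add, sub_add_cancel] at h2
    exact h2.symm
  have hA1 : (A 1).card = Nat.card (linB0Fix hM P k) :=
    card_filter_eq_card_linB0Fix hM P k hk
  have hnd : ¬ p ∣ (A 1).card := by
    rw [hA1]; exact not_dvd_card_linB0Fix hM P hsyl k
  have hne : (A μ).card ≠ 0 := by
    intro h0
    rw [h0, Nat.cast_zero] at hcong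
    apply hnd
    exact Int.natCast_dvd_natCast.mp (Int.modEq_zero_iff_dvd.mp hcong)
  obtain ⟨χ, hχ⟩ := Finset.card_pos.mp (Nat.pos_of_ne_zero hne)
  simp only [hA, Finset.mem_filter] at hχ
  obtain ⟨-, -, -, h1, h4⟩ := hχ
  refine ⟨linCharUnitsHom (IsIrrCharacter.isCharacter χ.2) h1, fun y => ?_⟩
  apply Units.ext
  exact h4 y

end main4

section small

theorem exists_conj_mem_sylow_of_pow {G : Type u} [Group G] [Finite G] {p : ℕ} [hpp : Fact p.Prime]
    (P : Sylow p G) (g : G) (hg : ∃ j : ℕ, g ^ (p ^ j) = 1) : ∃ x : G, x * g * x⁻¹ ∈ (P : Subgroup G) := by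
  obtain ⟨j, hj⟩ := hg
  have hxp : IsPGroup p (Subgroup.zpowers g) := by
    obtain ⟨i, -, hi⟩ := (Nat.dvd_prime_pow hpp.out).mp (orderOf_dvd_of_pow_eq_one hj)
    apply IsPGroup.of_card (n := i)
    rw [Nat.card_zpowers, hi]
  obtain ⟨Q, hQ⟩ := hxp.exists_le_sylow
  obtain ⟨c, hc⟩ := MulAction.exists_smul_eq G Q P
  have h1 : g ∈ (Q : Subgroup G) := hQ (Subgroup.mem_zpowers _)
  refine ⟨c, ?_⟩
  rw [← hc, Sylow.coe_subgroup_smul, Subgroup.mem_pointwise_smul_iff_inv_smul_mem]
  simp only [MulAut.smul_def, MulAut.inv_apply, MulAut.conj_symm_apply]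
  have e : c⁻¹ * (c * g * c⁻¹) * c = g := by group
  rw [e]; exact h1

theorem homIrr_one_mem {G : Type u} [Group G] [Finite G] {p : ℕ} {M : Ideal AlgInt}
    (hM : IsPModular p M) : homIrr (1 : G →* ℂˣ) ∈ principalBlock M G :=
  (mem_linB0_iff hM 1).mp (linB0 hM).one_mem

theorem charDegree_homIrr {G : Type u} [Group G] [Finite G] (φ : G →* ℂˣ) :
    charDegree ((homIrr φ : IrrCharacter G) : G → ℂ) = 1 := by
  unfold charDegree
  rw [homIrr_apply, map_one, Units.val_one]
  simp

theorem blockHeight_principal {G : Type u} [Group G] [Finite G] {p : ℕ} {M : Ideal AlgInt}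
    (hM : IsPModular p M) (χ : G → ℂ) :
    blockHeight p (principalBlock M G) χ = (charDegree χ).factorization p := by
  unfold blockHeight
  have h0 : sInf ((fun ψ : IrrCharacter G => (charDegree (ψ : G → ℂ)).factorization p) ''
      principalBlock M G) = 0 := by
    rw [Nat.sInf_eq_zero]
    left
    refine ⟨homIrr 1, homIrr_one_mem hM, ?_⟩
    simp only [charDegree_homIrr]
    simp
  rw [h0, Nat.sub_zero]

end small

end Cfsg.Agent.Lib.Helper24
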