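import Mathlib
import Cfsg.Agent.Lib.Helper22.Tate
import Cfsg.Agent.Lib.Helper1.PGroup
import Cfsg.Agent.Lib.Helper12.Residual
import Cfsg.Agent.Lib.Helper12.PComplement

/-!
# Tate's theorem, Frattini form (helper24)

* `tate_frattini`: `P ∩ O^p(G) ≤ Φ(P)` implies `P ∩ O^p(G) = 1` (via helper22's `tate_core`).
* `hasNormalPComplement_of_hom_extensions`: if every linear character of order dividing `p` of a
  Sylow `p`-subgroup extends to a linear character of `G`, then `G` has a normal `p`-complement.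
-/

set_option autoImplicit false

open Cfsg

namespace Cfsg.Agent.Lib.Helper24

universe u


section tate

variable {G : Type u} [Group G] [Finite G]

open Cfsg.Agent.S0081 in
/-- **Tate's theorem**, Frattini form: if `P ∩ O^p(G) ≤ Φ(P)` then `P ∩ O^p(G) = 1`. -/
theorem tate_frattini {p : ℕ} [hpp : Fact p.Prime] (P : Sylow p G)
    (h : ∀ x : (P : Subgroup G), (x : G) ∈ pResidual p G → x ∈ frattini (P : Subgroup G)) :
    (P : Subgroup G) ⊓ pResidual p G = ⊥ := by
  classical
  set V : Subgroup G := (P : Subgroup G) with hV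
  set Mr : Subgroup G := pResidual p G with hMr
  haveI hMn : Mr.Normal := Cfsg.Agent.Lib.Helper12.pResidual_normal' p G
  set R : Subgroup V := Mr.subgroupOf V with hR
  have hVp : IsPGroup p V := P.isPGroup'
  haveI : Group.IsNilpotent V := hVp.isNilpotent
  haveI hRn : R.Normal := Subgroup.Normal.subgroupOf hMn V
  by_contra hne
  have hRne : R ≠ ⊥ := by
    intro h0
    apply hne
    rw [eq_bot_iff]
    intro x hx
    have : (⟨x, hx.1⟩ : V) ∈ R := by rw [hR, Subgroup.mem_subgroupOf]; exact hx.2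
    rw [h0, Subgroup.mem_bot] at this
    rw [Subgroup.mem_bot]
    exact congrArg Subtype.val this
  set R₁ : Subgroup V := ⁅R, (⊤ : Subgroup V)⁆ with hR₁
  haveI hR₁n : R₁.Normal := Subgroup.commutator_normal R ⊤
  have hR₁lt : R₁ < R := commutator_top_lt R hRne
  have hpq : IsPGroup p (V ⧸ R₁) := hVp.to_quotient R₁
  have hcen : ⁅R, (⊤ : Subgroup V)⁆ ≤ R₁ := le_refl _
  have hfrat : R.map (QuotientGroup.mk' R₁) ≤ frattini (V ⧸ R₁) := by
    rintro _ ⟨r, hr, rfl⟩
    have hr' : r ∈ frattini V := h r (Subgroup.mem_subgroupOf.mp hr)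
    exact frattini_le_comap_frattini_of_surjective (QuotientGroup.mk'_surjective R₁) hr'
  obtain ⟨M', hM'le, hM'ne, -, n, hpow⟩ :=
    Cfsg.Agent.Lib.Helper22.tate_core P V (le_refl _) Mr R₁ hR₁lt hpq hcen hfrat
  apply hM'ne
  apply le_antisymm hM'le
  rw [hMr, Cfsg.pResidual, Subgroup.closure_le]
  intro g hg
  have hg' : (orderOf g).Coprime p := hg
  have hgM : g ∈ Mr := Subgroup.subset_closure hg
  have h1 := hpow g hgM
  obtain ⟨m, hm⟩ := exists_pow_eq_self_of_coprime (Nat.Coprime.pow_left n hg'.symm)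
  rw [SetLike.mem_coe, ← hm]; exact M'.pow_mem h1 m

/-- If `P ∩ O^p(G) = 1` for a Sylow `p`-subgroup, `G` has a normal `p`-complement. -/
theorem hasNormalPComplement_of_inf_pResidual {p : ℕ} [hpp : Fact p.Prime] (P : Sylow p G)
    (h : (P : Subgroup G) ⊓ pResidual p G = ⊥) : HasNormalPComplement p G := by
  classical
  set K : Subgroup G := pResidual p G with hK
  haveI hKn : K.Normal := Cfsg.Agent.Lib.Helper12.pResidual_normal' p G
  obtain ⟨a, ha⟩ := Cfsg.Agent.Lib.Helper12.pResidual_index_eq_pow p G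
  refine Cfsg.Agent.Lib.Helper12.hasNormalPComplement_of_normal K hKn ?_ a ha
  rw [Nat.coprime_comm, Nat.Prime.coprime_iff_not_dvd hpp.out]
  intro hdvd
  obtain ⟨x, hx⟩ := exists_prime_orderOf_dvd_card' p hdvd
  have hxp : IsPGroup p (Subgroup.zpowers (x : G)) := by
    apply IsPGroup.of_card (n := 1)
    rw [Nat.card_zpowers, Subgroup.orderOf_coe, hx, pow_one]
  obtain ⟨g, hg⟩ := hxp.exists_le_sylow
  obtain ⟨c, hc⟩ := MulAction.exists_smul_eq G g P
  have h1 : (x : G) ∈ (g : Subgroup G) := hg (Subgroup.mem_zpowers _)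
  have h2 : c * (x : G) * c⁻¹ ∈ (P : Subgroup G) := by
    rw [← hc, Sylow.coe_subgroup_smul, Subgroup.mem_pointwise_smul_iff_inv_smul_mem]
    simp only [MulAut.smul_def, MulAut.inv_apply, MulAut.conj_symm_apply]
    have e : c⁻¹ * (c * (x : G) * c⁻¹) * c = (x : G) := by group
    rw [e]; exact h1
  have h3 : c * (x : G) * c⁻¹ ∈ K := hKn.conj_mem _ x.2 c
  have h4 : c * (x : G) * c⁻¹ ∈ (P : Subgroup G) ⊓ K := ⟨h2, h3⟩
  rw [h, Subgroup.mem_bot] at h4
  have h5 : (x : G) = 1 := by
    have : (x : G) = c⁻¹ * (c * (x : G) * c⁻¹) * c := by group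
    rw [this, h4]; group
  have h6 : x = 1 := Subtype.ext h5
  rw [h6, orderOf_one] at hx
  exact hpp.out.one_lt.ne hx

end tate


section sep

/-- In a finite `p`-group, an element outside the Frattini subgroup is detected by a linear
character of order dividing `p`. -/
theorem exists_hom_ne_one_of_not_mem_frattini {Q : Type u} [Group Q] [Finite Q] {p : ℕ}
    [hpp : Fact p.Prime] (hQ : IsPGroup p Q) (x : Q) (hx : x ∉ frattini Q) :
    ∃ μ : Q →* ℂˣ, (∀ y : Q, μ y ^ p = 1) ∧ μ x ≠ 1 := by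
  classical
  set A := Abelianization Q with hA
  set Ap : Subgroup A := (powMonoidHom p : A →* A).range with hAp
  set xb : A ⧸ Ap := QuotientGroup.mk (Abelianization.of x) with hxb
  have hxb1 : xb ≠ 1 := by
    intro h1
    have h2 : Abelianization.of x ∈ Ap := (QuotientGroup.eq_one_iff _).mp h1
    obtain ⟨a, ha⟩ := h2
    obtain ⟨y, rfl⟩ := QuotientGroup.mk_surjective a
    have h3 : Abelianization.of (y ^ p) = Abelianization.of x := by
      rw [map_pow]; exact ha
    have h4 : (y ^ p)⁻¹ * x ∈ commutator Q := by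
      rw [← Abelianization.ker_of, MonoidHom.mem_ker, map_mul, map_inv, h3, inv_mul_cancel]
    apply hx
    have h5 : x = y ^ p * ((y ^ p)⁻¹ * x) := by group
    rw [h5]
    exact (frattini Q).mul_mem (Cfsg.Agent.Lib.Helper1.IsPGroup.pow_mem_frattini hQ y)
      (Cfsg.Agent.Lib.Helper1.IsPGroup.commutator_le_frattini hQ h4)
  haveI hne : NeZero ((Monoid.exponent (A ⧸ Ap) : ℕ) : ℂ) :=
    ⟨by exact_mod_cast Monoid.exponent_ne_zero_of_finite⟩
  obtain ⟨ψ, hψ⟩ := CommGroup.exists_apply_ne_one_of_hasEnoughRootsOfUnity (A ⧸ Ap) ℂ hxb1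
  refine ⟨(ψ.comp (QuotientGroup.mk' Ap)).comp Abelianization.of, ?_, hψ⟩
  intro y
  rw [← map_pow]
  simp only [MonoidHom.comp_apply]
  have h1 : (QuotientGroup.mk' Ap) (Abelianization.of (y ^ p)) = 1 := by
    rw [QuotientGroup.mk'_apply, QuotientGroup.eq_one_iff, map_pow]
    exact ⟨Abelianization.of y, rfl⟩
  rw [h1, map_one]

end sep

section final

variable {G : Type u} [Group G] [Finite G]

/-- If every linear character of order dividing `p` of a Sylow `p`-subgroup `P` extends to a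
linear character of `G`, then `G` has a normal `p`-complement. -/
theorem hasNormalPComplement_of_hom_extensions {p : ℕ} [hpp : Fact p.Prime] (P : Sylow p G)
    (hext : ∀ μ : (P : Subgroup G) →* ℂˣ, (∀ y, μ y ^ p = 1) →
      ∃ φ : G →* ℂˣ, ∀ y : (P : Subgroup G), φ y = μ y) :
    HasNormalPComplement p G := by
  classical
  apply hasNormalPComplement_of_inf_pResidual P
  apply tate_frattini P
  intro x hx
  by_contra hxΦ
  obtain ⟨μ, hμp, hμx⟩ := exists_hom_ne_one_of_not_mem_frattini P.isPGroup' x hxΦ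
  obtain ⟨φ, hφ⟩ := hext μ hμp
  set m : ℕ := ordCompl[p] (Nat.card G) with hm
  have hmcop : Nat.Coprime m p := (Nat.coprime_ordCompl hpp.out Nat.card_pos.ne').symm
  set c : ℕ := m ^ (p - 1) with hc
  have hc1 : c ≡ 1 [MOD p] := by
    have := Nat.ModEq.pow_totient hmcop
    rwa [Nat.totient_prime hpp.out] at this
  have hmc : m ∣ c := dvd_pow_self m (Nat.sub_pos_of_lt hpp.out.one_lt).ne'
  -- `φ ^ c` kills `O^p(G)`
  have hker : pResidual p G ≤ (φ ^ c).ker := by
    rw [pResidual, Subgroup.closure_le]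
    intro g hg
    have hg' : (orderOf g).Coprime p := hg
    rw [SetLike.mem_coe, MonoidHom.mem_ker, MonoidHom.pow_apply, ← map_pow]
    have h1 : orderOf g ∣ m := by
      have h2 : orderOf g ∣ ordProj[p] (Nat.card G) * m := by
        rw [hm, Nat.ordProj_mul_ordCompl_eq_self]; exact orderOf_dvd_natCard g
      exact Nat.Coprime.dvd_of_dvd_mul_left (Nat.Coprime.pow_right _ hg') h2
    rw [orderOf_dvd_iff_pow_eq_one.mp (h1.trans hmc), map_one]
  have h1 : (φ ^ c) (x : G) = 1 := MonoidHom.mem_ker.mp (hker hx)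
  rw [MonoidHom.pow_apply, hφ x] at h1
  apply hμx
  obtain ⟨t, ht⟩ : ∃ t, c = 1 + p * t := by
    have h2 : 1 ≤ c := Nat.one_le_pow _ _ (Nat.pos_of_ne_zero (by
      intro h0
      rw [h0] at hmcop
      exact hpp.out.one_lt.ne' (by simpa using hmcop)))
    have h3 := (Nat.modEq_iff_dvd' h2).mp hc1.symm
    obtain ⟨t, ht⟩ := h3
    exact ⟨t, by omega⟩
  rw [ht, pow_add, pow_one, pow_mul, hμp, one_pow, mul_one] at h1
  exact h1

end final

end Cfsg.Agent.Lib.Helper24
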