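/- helper24: TI counting (three TI-sets with given normalizers, pairwise non-conjugate) and the counting argument killing a (P)-(P) pair of maximal subgroups (helper8, notes/bg13). Pure group theory. -/
import Mathlib

set_option autoImplicit false

namespace Cfsg.Agent.Lib.Helper24.BGCount

variable {G : Type*} [Group G]

/-! ### counting conjugates of a TI-set -/

/-- conjugate of an element of `A` by the chosen representative of a coset of `N`. -/
noncomputable def cmap (N : Subgroup G) (A : Set G) : (G ⧸ N) × A → G :=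
  fun x => x.1.out * (x.2 : G) * (x.1.out)⁻¹

theorem cmap_eq_iff {N : Subgroup G} {A : Set G}
    (hTI : ∀ g : G, ∀ a ∈ A, g * a * g⁻¹ ∈ A → g ∈ N) {x y : (G ⧸ N) × A}
    (h : cmap N A x = cmap N A y) : x = y := by
  obtain ⟨c, a⟩ := x
  obtain ⟨c', a'⟩ := y
  unfold cmap at h
  simp only at h
  set g := (c'.out)⁻¹ * c.out with hg
  have h1 : g * (a : G) * g⁻¹ = (a' : G) := by
    have : g * (a : G) * g⁻¹ = (c'.out)⁻¹ * (c.out * (a : G) * (c.out)⁻¹) * c'.out := by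
      rw [hg]; group
    rw [this, h]; group
  have h2 : g ∈ N := hTI g a a.2 (h1 ▸ a'.2)
  have h3 : c' = c := by
    rw [← QuotientGroup.out_eq' c', ← QuotientGroup.out_eq' c]
    exact QuotientGroup.eq.mpr h2
  subst h3
  have h4 : (a : G) = (a' : G) := by
    have := congrArg (fun z => (c'.out)⁻¹ * z * c'.out) h
    simpa [mul_assoc] using this
  rw [Subtype.ext h4]

theorem cmap_injective {N : Subgroup G} {A : Set G}
    (hTI : ∀ g : G, ∀ a ∈ A, g * a * g⁻¹ ∈ A → g ∈ N) : Function.Injective (cmap N A) :=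
  fun _ _ h => cmap_eq_iff hTI h

theorem cmap_ne_of_disjoint {N N' : Subgroup G} {A A' : Set G}
    (hd : ∀ g : G, ∀ a ∈ A, g * a * g⁻¹ ∉ A') (x : (G ⧸ N) × A) (y : (G ⧸ N') × A') :
    cmap N A x ≠ cmap N' A' y := by
  obtain ⟨c, a⟩ := x
  obtain ⟨c', a'⟩ := y
  unfold cmap
  simp only
  intro h
  apply hd ((c'.out)⁻¹ * c.out) a a.2
  have : (c'.out)⁻¹ * c.out * (a : G) * ((c'.out)⁻¹ * c.out)⁻¹ =
      (c'.out)⁻¹ * (c.out * (a : G) * (c.out)⁻¹) * c'.out := by group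
  rw [this, h]
  have e : (c'.out)⁻¹ * (c'.out * (a' : G) * (c'.out)⁻¹) * c'.out = (a' : G) := by group
  rw [e]
  exact a'.2

theorem cmap_ne_one {N : Subgroup G} {A : Set G} (h1 : (1 : G) ∉ A) (x : (G ⧸ N) × A) :
    cmap N A x ≠ 1 := by
  obtain ⟨c, a⟩ := x
  unfold cmap
  simp only
  intro h
  apply h1
  have : (a : G) = 1 := by
    have := congrArg (fun z => (c.out)⁻¹ * z * c.out) h
    simpa [mul_assoc] using this
  rw [← this]
  exact a.2

/-- **TI counting**: three sets `A₁, A₂, A₃` of non-identity elements, `Aᵢ` a TI-set with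
"normalizer" `Nᵢ`, no element of `Aᵢ` conjugate to an element of `Aⱼ` (`i < j`).  Then
`Σ |Aᵢ| |G : Nᵢ| + 1 ≤ |G|`. -/
theorem card_add_one_le [Finite G] {A₁ A₂ A₃ : Set G} {N₁ N₂ N₃ : Subgroup G}
    (hTI₁ : ∀ g : G, ∀ a ∈ A₁, g * a * g⁻¹ ∈ A₁ → g ∈ N₁)
    (hTI₂ : ∀ g : G, ∀ a ∈ A₂, g * a * g⁻¹ ∈ A₂ → g ∈ N₂)
    (hTI₃ : ∀ g : G, ∀ a ∈ A₃, g * a * g⁻¹ ∈ A₃ → g ∈ N₃)
    (h1₁ : (1 : G) ∉ A₁) (h1₂ : (1 : G) ∉ A₂) (h1₃ : (1 : G) ∉ A₃)
    (hd₁₂ : ∀ g : G, ∀ a ∈ A₁, g * a * g⁻¹ ∉ A₂) (hd₁₃ : ∀ g : G, ∀ a ∈ A₁, g * a * g⁻¹ ∉ A₃)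
    (hd₂₃ : ∀ g : G, ∀ a ∈ A₂, g * a * g⁻¹ ∉ A₃) :
    Nat.card A₁ * N₁.index + Nat.card A₂ * N₂.index + Nat.card A₃ * N₃.index + 1 ≤
      Nat.card G := by
  let Φ : Option (((G ⧸ N₁) × A₁) ⊕ (((G ⧸ N₂) × A₂) ⊕ ((G ⧸ N₃) × A₃))) → G := fun x =>
    match x with
    | none => 1
    | some (Sum.inl x) => cmap N₁ A₁ x
    | some (Sum.inr (Sum.inl x)) => cmap N₂ A₂ x
    | some (Sum.inr (Sum.inr x)) => cmap N₃ A₃ x
  have hinj : Function.Injective Φ := by
    intro x y hxy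
    match x, y with
    | none, none => rfl
    | none, some (Sum.inl y) => exact absurd hxy.symm (cmap_ne_one h1₁ y)
    | none, some (Sum.inr (Sum.inl y)) => exact absurd hxy.symm (cmap_ne_one h1₂ y)
    | none, some (Sum.inr (Sum.inr y)) => exact absurd hxy.symm (cmap_ne_one h1₃ y)
    | some (Sum.inl x), none => exact absurd hxy (cmap_ne_one h1₁ x)
    | some (Sum.inr (Sum.inl x)), none => exact absurd hxy (cmap_ne_one h1₂ x)
    | some (Sum.inr (Sum.inr x)), none => exact absurd hxy (cmap_ne_one h1₃ x)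
    | some (Sum.inl x), some (Sum.inl y) => rw [cmap_eq_iff hTI₁ hxy]
    | some (Sum.inl x), some (Sum.inr (Sum.inl y)) => exact absurd hxy (cmap_ne_of_disjoint hd₁₂ x y)
    | some (Sum.inl x), some (Sum.inr (Sum.inr y)) => exact absurd hxy (cmap_ne_of_disjoint hd₁₃ x y)
    | some (Sum.inr (Sum.inl x)), some (Sum.inl y) =>
        exact absurd hxy.symm (cmap_ne_of_disjoint hd₁₂ y x)
    | some (Sum.inr (Sum.inl x)), some (Sum.inr (Sum.inl y)) => rw [cmap_eq_iff hTI₂ hxy]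
    | some (Sum.inr (Sum.inl x)), some (Sum.inr (Sum.inr y)) =>
        exact absurd hxy (cmap_ne_of_disjoint hd₂₃ x y)
    | some (Sum.inr (Sum.inr x)), some (Sum.inl y) =>
        exact absurd hxy.symm (cmap_ne_of_disjoint hd₁₃ y x)
    | some (Sum.inr (Sum.inr x)), some (Sum.inr (Sum.inl y)) =>
        exact absurd hxy.symm (cmap_ne_of_disjoint hd₂₃ y x)
    | some (Sum.inr (Sum.inr x)), some (Sum.inr (Sum.inr y)) => rw [cmap_eq_iff hTI₃ hxy]
  have hcard := Nat.card_le_card_of_injective Φ hinj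
  have e : Nat.card (Option (((G ⧸ N₁) × A₁) ⊕ (((G ⧸ N₂) × A₂) ⊕ ((G ⧸ N₃) × A₃)))) =
      Nat.card A₁ * N₁.index + Nat.card A₂ * N₂.index + Nat.card A₃ * N₃.index + 1 := by
    rw [Finite.card_option, Nat.card_sum, Nat.card_sum, Nat.card_prod, Nat.card_prod,
      Nat.card_prod, Subgroup.index, Subgroup.index, Subgroup.index]
    ring
  rw [e] at hcard
  exact hcard

/-! ### the arithmetic -/

theorem arith_false {g i₁ i₂ i₃ m h e f : ℤ} (hg : 0 < g) (hm : 0 < m) (hh : 0 < h) (he : 0 < e)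
    (hf : 0 < f) (H1 : i₁ * (m * e) = g) (H2 : i₂ * (h * f) = g) (H3 : i₃ * (e * f) = g)
    (H4 : (m - 1) * i₁ + (h - 1) * i₂ + (e - 1) * (f - 1) * i₃ + 1 ≤ g) (H5 : 3 * f ≤ m)
    (H6 : 3 * e ≤ h) : False := by
  have hP : 0 < m * h * e * f := by positivity
  have key := mul_le_mul_of_nonneg_right H4 hP.le
  have e1 : ((m - 1) * i₁ + (h - 1) * i₂ + (e - 1) * (f - 1) * i₃ + 1) * (m * h * e * f) =
      g * (m * h * e * f + m * h - h * f - m * e) + m * h * e * f := by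
    linear_combination ((m - 1) * h * f) * H1 + ((h - 1) * m * e) * H2 +
      ((e - 1) * (f - 1) * m * h) * H3
  rw [e1] at key
  have h7 : 3 * (h * f) ≤ h * m := by nlinarith
  have h8 : 3 * (m * e) ≤ m * h := by nlinarith
  have h9 : 0 < m * h := by positivity
  have h10 : 0 < m * h - h * f - m * e := by nlinarith
  have h11 : 0 < g * (m * h - h * f - m * e) := by positivity
  nlinarith

/-- in a group of odd order a proper subgroup has index at least `3`. -/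
theorem three_mul_card_le_of_lt [Finite G] (hodd : Odd (Nat.card G)) {F K : Subgroup G}
    (hFK : F ≤ K) (hne : F ≠ K) : 3 * Nat.card F ≤ Nat.card K := by
  have h1 : F.relIndex K * Nat.card F = Nat.card K := by
    rw [mul_comm]
    have := (F.subgroupOf K).card_mul_index
    rwa [Nat.card_congr (Subgroup.subgroupOfEquivOfLe hFK).toEquiv] at this
  have hKodd : Odd (Nat.card K) := Odd.of_dvd_nat hodd (Subgroup.card_subgroup_dvd_card K)
  have hiodd : Odd (F.relIndex K) := Odd.of_dvd_nat hKodd (Dvd.intro _ h1)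
  have hi1 : F.relIndex K ≠ 1 := by
    intro h
    apply hne
    exact le_antisymm hFK (Subgroup.relIndex_eq_one.mp h)
  have hi0 : F.relIndex K ≠ 0 := by
    intro h
    rw [h, zero_mul] at h1
    exact Nat.card_pos.ne' h1.symm
  have hi3 : 3 ≤ F.relIndex K := by
    obtain ⟨k, hk⟩ := hiodd
    omega
  calc 3 * Nat.card F ≤ F.relIndex K * Nat.card F := Nat.mul_le_mul_right _ hi3
    _ = Nat.card K := h1

/-! ### products of commuting subgroups -/

theorem eq_one_of_pow_pow_coprime {x : G} {m n : ℕ} (hc : m.Coprime n) (h1 : x ^ m = 1)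
    (h2 : x ^ n = 1) : x = 1 := by
  have hd := Nat.dvd_gcd (orderOf_dvd_of_pow_eq_one h1) (orderOf_dvd_of_pow_eq_one h2)
  rw [Nat.Coprime.gcd_eq_one hc, Nat.dvd_one] at hd
  exact orderOf_eq_one_iff.mp hd

theorem pow_card_eq_one_of_mem [Finite G] {K : Subgroup G} {x : G} (hx : x ∈ K) :
    x ^ Nat.card K = 1 := by
  have := pow_card_eq_one' (G := K) (x := ⟨x, hx⟩)
  exact congrArg Subtype.val this

/-- the order of the join of two elementwise commuting subgroups with trivial intersection. -/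
theorem card_sup_of_commute [Finite G] {E F : Subgroup G}
    (hEF : ∀ e ∈ E, ∀ f ∈ F, e * f = f * e) (hd : E ⊓ F = ⊥) :
    Nat.card ↥(E ⊔ F) = Nat.card E * Nat.card F := by
  have comm : ∀ (m : E) (n : F), Commute (E.subtype m) (F.subtype n) := fun m n =>
    hEF m m.2 n n.2
  set φ := MonoidHom.noncommCoprod E.subtype F.subtype comm with hφ
  have hinj : Function.Injective φ := by
    rw [hφ, MonoidHom.noncommCoprod_injective]
    refine ⟨E.subtype_injective, F.subtype_injective, ?_⟩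
    rw [Subgroup.range_subtype, Subgroup.range_subtype, disjoint_iff, hd]
  have hrange : φ.range = E ⊔ F := by
    rw [hφ, MonoidHom.noncommCoprod_range, Subgroup.range_subtype, Subgroup.range_subtype]
  rw [← hrange, ← Nat.card_prod]
  exact (Nat.card_congr (Equiv.ofInjective φ hinj)).symm

/-! ### the (P)-(P) configuration -/

/-- **the counting argument** killing a pair of maximal subgroups of type (P)
(`notes/bg13`, helper8): `M = M_σ E`, `H = H_σ F` with `E ≤ H_σ`, `F ≤ M_σ` commuting elementwise,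
`(|M_σ|, |H_σ|) = 1`, `M_σ` and `H_σ` TI-subgroups with normalizers `M`, `H`, and the set of products
`e f` (`e ∈ E^#`, `f ∈ F^#`) a TI-set with normalizer `E F`; if `|M_σ| ≥ 3 |F|` and
`|H_σ| ≥ 3 |E|` this is impossible. -/
theorem false_of_typeP_pair [Finite G] {M H Ms Hs E F : Subgroup G}
    (hcop : (Nat.card Ms).Coprime (Nat.card Hs)) (hEH : E ≤ Hs) (hFM : F ≤ Ms)
    (hEF : ∀ e ∈ E, ∀ f ∈ F, e * f = f * e)
    (hMc : Nat.card M = Nat.card Ms * Nat.card E) (hHc : Nat.card H = Nat.card Hs * Nat.card F)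
    (hTIM : ∀ g : G, ∀ a ∈ Ms, a ≠ 1 → g * a * g⁻¹ ∈ Ms → g ∈ M)
    (hTIH : ∀ g : G, ∀ b ∈ Hs, b ≠ 1 → g * b * g⁻¹ ∈ Hs → g ∈ H)
    (hTIZ : ∀ g : G, ∀ e ∈ E, e ≠ 1 → ∀ f ∈ F, f ≠ 1 → ∀ e' ∈ E, e' ≠ 1 → ∀ f' ∈ F, f' ≠ 1 →
      g * (e * f) * g⁻¹ = e' * f' → g ∈ E ⊔ F)
    (h3f : 3 * Nat.card F ≤ Nat.card Ms) (h3e : 3 * Nat.card E ≤ Nat.card Hs) : False := by
  -- the three sets
  set A₁ : Set G := (Ms : Set G) \ {1} with hA₁
  set A₂ : Set G := (Hs : Set G) \ {1} with hA₂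
  set A₃ : Set G := (fun x : G × G => x.1 * x.2) '' (((E : Set G) \ {1}) ×ˢ ((F : Set G) \ {1}))
    with hA₃
  have hEFbot : E ⊓ F = ⊥ := by
    have h1 : (Nat.card E).Coprime (Nat.card F) :=
      Nat.Coprime.coprime_dvd_left (Subgroup.card_dvd_of_le hEH)
        (Nat.Coprime.coprime_dvd_right (Subgroup.card_dvd_of_le hFM) hcop.symm)
    exact (Subgroup.disjoint_of_coprime_natCard h1).eq_bot
  have hconj_pow : ∀ (g a : G) (n : ℕ), (g * a * g⁻¹) ^ n = g * a ^ n * g⁻¹ := fun g a n =>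
    conj_pow
  -- cardinalities
  have hc₁ : Nat.card A₁ + 1 = Nat.card Ms := by
    rw [Nat.card_coe_set_eq, hA₁,
      Set.ncard_sdiff_singleton_add_one (Ms.one_mem) (Set.toFinite _), ← Nat.card_coe_set_eq]
    rfl
  have hc₂ : Nat.card A₂ + 1 = Nat.card Hs := by
    rw [Nat.card_coe_set_eq, hA₂,
      Set.ncard_sdiff_singleton_add_one (Hs.one_mem) (Set.toFinite _), ← Nat.card_coe_set_eq]
    rfl
  have hcE : ((E : Set G) \ {1}).ncard + 1 = Nat.card E := by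
    rw [Set.ncard_sdiff_singleton_add_one (E.one_mem) (Set.toFinite _), ← Nat.card_coe_set_eq]
    rfl
  have hcF : ((F : Set G) \ {1}).ncard + 1 = Nat.card F := by
    rw [Set.ncard_sdiff_singleton_add_one (F.one_mem) (Set.toFinite _), ← Nat.card_coe_set_eq]
    rfl
  have hinjOn : Set.InjOn (fun x : G × G => x.1 * x.2)
      (((E : Set G) \ {1}) ×ˢ ((F : Set G) \ {1})) := by
    rintro ⟨e, f⟩ ⟨he, hf⟩ ⟨e', f'⟩ ⟨he', hf'⟩ h
    simp only at h
    have heE : e ∈ E := he.1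
    have hfF : f ∈ F := hf.1
    have he'E : e' ∈ E := he'.1
    have hf'F : f' ∈ F := hf'.1
    have h1 : e'⁻¹ * e = f' * f⁻¹ := by
      have : e'⁻¹ * (e * f) * f⁻¹ = e'⁻¹ * (e' * f') * f⁻¹ := by rw [h]
      calc e'⁻¹ * e = e'⁻¹ * (e * f) * f⁻¹ := by group
        _ = e'⁻¹ * (e' * f') * f⁻¹ := this
        _ = f' * f⁻¹ := by group
    have h2 : e'⁻¹ * e ∈ E ⊓ F :=
      Subgroup.mem_inf.mpr ⟨E.mul_mem (E.inv_mem he'E) heE, h1 ▸ F.mul_mem hf'F (F.inv_mem hfF)⟩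
    rw [hEFbot, Subgroup.mem_bot] at h2
    have h3 : e = e' := by
      have := congrArg (fun z => e' * z) h2
      simpa using this
    have h4 : f' * f⁻¹ = 1 := by rw [← h1, h2]
    have h5 : f = f' := by
      have := congrArg (fun z => z * f) h4
      simpa using this.symm
    rw [h3, h5]
  have hc₃ : Nat.card A₃ = ((E : Set G) \ {1}).ncard * ((F : Set G) \ {1}).ncard := by
    rw [Nat.card_coe_set_eq, hA₃, hinjOn.ncard_image, Set.ncard_prod]
  -- TI and disjointness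
  have hTI₁ : ∀ g : G, ∀ a ∈ A₁, g * a * g⁻¹ ∈ A₁ → g ∈ M := fun g a ha hga =>
    hTIM g a ha.1 (fun h => ha.2 (Set.mem_singleton_iff.mpr h)) hga.1
  have hTI₂ : ∀ g : G, ∀ a ∈ A₂, g * a * g⁻¹ ∈ A₂ → g ∈ H := fun g a ha hga =>
    hTIH g a ha.1 (fun h => ha.2 (Set.mem_singleton_iff.mpr h)) hga.1
  have hTI₃ : ∀ g : G, ∀ a ∈ A₃, g * a * g⁻¹ ∈ A₃ → g ∈ E ⊔ F := by
    rintro g _ ⟨⟨e, f⟩, ⟨he, hf⟩, rfl⟩ ⟨⟨e', f'⟩, ⟨he', hf'⟩, h⟩
    exact hTIZ g e he.1 (fun h => he.2 (Set.mem_singleton_iff.mpr h)) f hf.1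
      (fun h => hf.2 (Set.mem_singleton_iff.mpr h)) e' he'.1
      (fun h => he'.2 (Set.mem_singleton_iff.mpr h)) f' hf'.1
      (fun h => hf'.2 (Set.mem_singleton_iff.mpr h)) h.symm
  have h1₁ : (1 : G) ∉ A₁ := fun h => h.2 rfl
  have h1₂ : (1 : G) ∉ A₂ := fun h => h.2 rfl
  have h1₃ : (1 : G) ∉ A₃ := by
    rintro ⟨⟨e, f⟩, ⟨he, hf⟩, h⟩
    simp only at h
    have h2 : e ∈ E ⊓ F := by
      refine Subgroup.mem_inf.mpr ⟨he.1, ?_⟩
      have : e = f⁻¹ := eq_inv_of_mul_eq_one_left h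
      rw [this]
      exact F.inv_mem hf.1
    rw [hEFbot, Subgroup.mem_bot] at h2
    exact he.2 (Set.mem_singleton_iff.mpr h2)
  have hd₁₂ : ∀ g : G, ∀ a ∈ A₁, g * a * g⁻¹ ∉ A₂ := by
    intro g a ha hga
    apply ha.2
    rw [Set.mem_singleton_iff]
    have h1 : a ^ Nat.card Ms = 1 := pow_card_eq_one_of_mem ha.1
    have h2 : a ^ Nat.card Hs = 1 := by
      have := pow_card_eq_one_of_mem hga.1
      rw [hconj_pow] at this
      have h3 := congrArg (fun z => g⁻¹ * z * g) this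
      simpa [mul_assoc] using h3
    exact eq_one_of_pow_pow_coprime hcop h1 h2
  have hd₁₃ : ∀ g : G, ∀ a ∈ A₁, g * a * g⁻¹ ∉ A₃ := by
    rintro g a ha ⟨⟨e, f⟩, ⟨he, hf⟩, h⟩
    simp only at h
    apply he.2
    rw [Set.mem_singleton_iff]
    have h1 : (e * f) ^ Nat.card Ms = 1 := by
      rw [h, hconj_pow, pow_card_eq_one_of_mem ha.1]
      group
    have hc : Commute e f := hEF e he.1 f hf.1
    rw [hc.mul_pow, pow_card_eq_one_of_mem (hFM hf.1), mul_one] at h1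
    exact eq_one_of_pow_pow_coprime hcop h1 (pow_card_eq_one_of_mem (hEH he.1))
  have hd₂₃ : ∀ g : G, ∀ a ∈ A₂, g * a * g⁻¹ ∉ A₃ := by
    rintro g a ha ⟨⟨e, f⟩, ⟨he, hf⟩, h⟩
    simp only at h
    apply hf.2
    rw [Set.mem_singleton_iff]
    have h1 : (e * f) ^ Nat.card Hs = 1 := by
      rw [h, hconj_pow, pow_card_eq_one_of_mem ha.1]
      group
    have hc : Commute e f := hEF e he.1 f hf.1
    rw [hc.mul_pow, pow_card_eq_one_of_mem (hEH he.1), one_mul] at h1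
    exact eq_one_of_pow_pow_coprime hcop (pow_card_eq_one_of_mem (hFM hf.1)) h1
  have hcount := card_add_one_le hTI₁ hTI₂ hTI₃ h1₁ h1₂ h1₃ hd₁₂ hd₁₃ hd₂₃
  -- arithmetic
  have hi₁ : M.index * (Nat.card Ms * Nat.card E) = Nat.card G := by
    rw [← hMc]; exact M.index_mul_card
  have hi₂ : H.index * (Nat.card Hs * Nat.card F) = Nat.card G := by
    rw [← hHc]; exact H.index_mul_card
  have hi₃ : (E ⊔ F).index * (Nat.card E * Nat.card F) = Nat.card G := by
    rw [← card_sup_of_commute hEF hEFbot]; exact (E ⊔ F).index_mul_card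
  rw [hc₃] at hcount
  have hm : (Nat.card A₁ : ℤ) = (Nat.card Ms : ℤ) - 1 := by rw [← hc₁]; push_cast; ring
  have hh : (Nat.card A₂ : ℤ) = (Nat.card Hs : ℤ) - 1 := by rw [← hc₂]; push_cast; ring
  have he : ((((E : Set G) \ {1}).ncard : ℕ) : ℤ) = (Nat.card E : ℤ) - 1 := by
    rw [← hcE]; push_cast; ring
  have hf : ((((F : Set G) \ {1}).ncard : ℕ) : ℤ) = (Nat.card F : ℤ) - 1 := by
    rw [← hcF]; push_cast; ring
  have hcountZ : ((Nat.card Ms : ℤ) - 1) * (M.index : ℤ) + ((Nat.card Hs : ℤ) - 1) * (H.index : ℤ) +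
      ((Nat.card E : ℤ) - 1) * ((Nat.card F : ℤ) - 1) * ((E ⊔ F).index : ℤ) + 1 ≤
      (Nat.card G : ℤ) := by
    have := (Nat.cast_le (α := ℤ)).mpr hcount
    push_cast at this
    rw [hm, hh, he, hf] at this
    exact this
  refine arith_false (g := (Nat.card G : ℤ)) (i₁ := (M.index : ℤ)) (i₂ := (H.index : ℤ))
    (i₃ := ((E ⊔ F).index : ℤ)) (m := (Nat.card Ms : ℤ)) (h := (Nat.card Hs : ℤ))
    (e := (Nat.card E : ℤ)) (f := (Nat.card F : ℤ)) ?_ ?_ ?_ ?_ ?_ ?_ ?_ ?_ hcountZ ?_ ?_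
  · exact_mod_cast Nat.card_pos
  · exact_mod_cast Nat.card_pos
  · exact_mod_cast Nat.card_pos
  · exact_mod_cast Nat.card_pos
  · exact_mod_cast Nat.card_pos
  · exact_mod_cast hi₁
  · exact_mod_cast hi₂
  · exact_mod_cast hi₃
  · exact_mod_cast h3f
  · exact_mod_cast h3e

end Cfsg.Agent.Lib.Helper24.BGCount
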