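import Mathlib

/-!
# Knoche: a finite `p`-group whose class sizes are at most `p` has `|P'| ≤ p` (helper24; leaf E1 of S4130)
-/

set_option autoImplicit false

namespace Cfsg.Agent.Lib.Helper24.SqfLeaf

open Subgroup
open scoped commutatorElement

variable {P : Type*} [Group P]

/-- a subgroup of a finite `p`-group of index at most `p` contains the commutator subgroup -/
theorem commutator_le_of_index_le [Finite P] (p : ℕ) [hp : Fact p.Prime] (hP : IsPGroup p P)
    (H : Subgroup P) (h : H.index ≤ p) : commutator P ≤ H := by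
  have hpp := hp.out
  by_cases htop : H = ⊤
  · rw [htop]; exact le_top
  have h1 : H.index ≠ 1 := fun h1 => htop (index_eq_one.mp h1)
  obtain ⟨n, hn⟩ := IsPGroup.iff_card.mp hP
  have h2 : H.index ∣ p ^ n := hn ▸ H.index_dvd_card
  obtain ⟨k, hk, hk'⟩ := (Nat.dvd_prime_pow hpp).mp h2
  have hk0 : k ≠ 0 := by
    rintro rfl
    exact h1 (by rw [hk', pow_zero])
  have hidx : H.index = p := by
    apply le_antisymm h
    rw [hk']
    exact Nat.le_self_pow hk0 p
  have hn0 : n ≠ 0 := by
    rintro rfl
    have : k = 0 := Nat.le_zero.mp hk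
    exact hk0 this
  have hmin : (Nat.card P).minFac = p := by
    rw [hn]; exact hpp.pow_minFac hn0
  have hN : H.Normal := normal_of_index_eq_minFac_card (hidx.trans hmin.symm)
  have hcard : Nat.card (P ⧸ H) = p := by
    rw [← hidx]; rfl
  have hcyc : IsCyclic (P ⧸ H) := isCyclic_of_prime_card hcard
  have hcomm : IsMulCommutative (P ⧸ H) := ⟨⟨fun a b => hcyc.commGroup.mul_comm a b⟩⟩
  exact Subgroup.Normal.quotient_commutative_iff_commutator_le.mp hcomm

/-- the commutator map `g ↦ ⁅x, g⁆` as a homomorphism, when commutators are central -/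
noncomputable def commHom (hc : commutator P ≤ center P) (x : P) : P →* P :=
  MonoidHom.mk' (fun g => ⁅x, g⁆) (by
    intro g h
    have h1 : ⁅x, h⁆ ∈ center P := hc (by
      rw [commutator_def]; exact commutator_mem_commutator (mem_top x) (mem_top h))
    have h2 := (mem_center_iff.mp h1) g⁻¹
    simp only [commutatorElement_def] at h2 ⊢
    calc x * (g * h) * x⁻¹ * (g * h)⁻¹ = x * g * x⁻¹ * (x * h * x⁻¹ * h⁻¹ * g⁻¹) := by group
      _ = x * g * x⁻¹ * (g⁻¹ * (x * h * x⁻¹ * h⁻¹)) := by rw [h2]
      _ = x * g * x⁻¹ * g⁻¹ * (x * h * x⁻¹ * h⁻¹) := by group)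

theorem commHom_apply (hc : commutator P ≤ center P) (x g : P) : commHom hc x g = ⁅x, g⁆ := rfl

theorem ker_commHom (hc : commutator P ≤ center P) (x : P) :
    (commHom hc x).ker = centralizer ({x} : Set P) := by
  ext g
  rw [MonoidHom.mem_ker, commHom_apply, commutatorElement_eq_one_iff_mul_comm, mem_centralizer_iff]
  constructor
  · intro h m hm
    rw [Set.mem_singleton_iff] at hm
    rw [hm]; exact h
  · intro h
    exact h x (Set.mem_singleton x)

/-- a subgroup of order at most `p` of a `p`-group is generated by any of its nonidentity elements -/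
theorem eq_zpowers_of_card_le [Finite P] (p : ℕ) [hp : Fact p.Prime] (hP : IsPGroup p P)
    (R : Subgroup P) (hR : Nat.card R ≤ p) (a : P) (ha : a ∈ R) (ha1 : a ≠ 1) :
    R = zpowers a := by
  symm
  apply eq_of_le_of_card_ge (zpowers_le.mpr ha)
  rw [Nat.card_zpowers]
  obtain ⟨k, hk⟩ := (IsPGroup.iff_orderOf.mp hP) a
  have hk0 : k ≠ 0 := by
    rintro rfl
    rw [pow_zero, orderOf_eq_one_iff] at hk
    exact ha1 hk
  rw [hk]
  exact le_trans hR (Nat.le_self_pow hk0 p)

theorem card_commutator_le_of_class_le {P : Type*} [Group P] [Finite P] (p : ℕ) [Fact p.Prime]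
    (hP : IsPGroup p P) (h : ∀ x : P, (centralizer ({x} : Set P)).index ≤ p) :
    Nat.card (commutator P) ≤ p := by
  have hpp : p.Prime := Fact.out
  have hc : commutator P ≤ center P := by
    intro z hz
    rw [mem_center_iff]
    intro x
    have h1 := commutator_le_of_index_le p hP _ (h x) hz
    exact (mem_centralizer_iff.mp h1 x (Set.mem_singleton x))
  -- the ranges
  let R : P → Subgroup P := fun x => (commHom hc x).range
  have hRcard : ∀ x, Nat.card (R x) ≤ p := by
    intro x
    have := index_ker (commHom hc x)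
    rw [ker_commHom] at this
    rw [← this]
    exact h x
  have hRmem : ∀ x g : P, ⁅x, g⁆ ∈ R x := fun x g => ⟨g, rfl⟩
  have hRmem' : ∀ x g : P, ⁅g, x⁆ ∈ R x := by
    intro x g
    rw [← commutatorElement_inv]
    exact (R x).inv_mem (hRmem x g)
  have hcomm_mem : ∀ u v : P, ⁅u, v⁆ ∈ commutator P := by
    intro u v
    rw [commutator_def]; exact commutator_mem_commutator (mem_top u) (mem_top v)
  by_cases hab : ∀ x y : P, ⁅x, y⁆ = 1
  · have : commutator P = ⊥ := by
      rw [commutator_def, commutator_eq_bot_iff_le_centralizer]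
      intro x _
      rw [mem_centralizer_iff]
      intro y _
      exact (commutatorElement_eq_one_iff_mul_comm.mp (hab y x))
    rw [this, card_bot]
    exact hpp.one_lt.le
  push Not at hab
  obtain ⟨x, y, hxy⟩ := hab
  set a := ⁅x, y⁆ with ha
  have hRx : R x = zpowers a := eq_zpowers_of_card_le p hP _ (hRcard x) a (hRmem x y) hxy
  have hRy : R y = zpowers a := eq_zpowers_of_card_le p hP _ (hRcard y) a (hRmem' y x) hxy
  have key : ∀ u v : P, ⁅u, v⁆ ∈ zpowers a := by
    intro u v
    by_contra hb
    set b := ⁅u, v⁆ with hbdef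
    have hb1 : b ≠ 1 := fun h1 => hb (h1 ▸ one_mem _)
    have hRu : R u = zpowers b := eq_zpowers_of_card_le p hP _ (hRcard u) b (hRmem u v) hb1
    have hRv : R v = zpowers b := eq_zpowers_of_card_le p hP _ (hRcard v) b (hRmem' v u) hb1
    -- a commutator lying in both zpowers a-range and zpowers b-range is trivial
    have triv : ∀ (s t : P) (c : P), R s = zpowers a → R t = zpowers b → c ∈ R s → c ∈ R t → c = 1 := by
      intro s t c hs ht hcs hct
      by_contra hc1
      have e1 := eq_zpowers_of_card_le p hP _ (hRcard s) c hcs hc1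
      have e2 := eq_zpowers_of_card_le p hP _ (hRcard t) c hct hc1
      apply hb
      rw [← hs, e1, ← e2, ht]
      exact mem_zpowers b
    have hxu : ⁅x, u⁆ = 1 := triv x u _ hRx hRu (hRmem x u) (hRmem' u x)
    have hxv : ⁅x, v⁆ = 1 := triv x v _ hRx hRv (hRmem x v) (hRmem' v x)
    have hyu : ⁅y, u⁆ = 1 := triv y u _ hRy hRu (hRmem y u) (hRmem' u y)
    have huy : ⁅u, y⁆ = 1 := by rw [← commutatorElement_inv, hyu, inv_one]
    have e1 : ⁅x * u, y⁆ = a := by
      have : ⁅x * u, y⁆ = x * ⁅u, y⁆ * x⁻¹ * ⁅x, y⁆ := by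
        simp only [commutatorElement_def]; group
      rw [this, huy, mul_one, mul_inv_cancel, one_mul]
    have e2 : ⁅x * u, v⁆ = b := by
      have : ⁅x * u, v⁆ = x * ⁅u, v⁆ * x⁻¹ * ⁅x, v⁆ := by
        simp only [commutatorElement_def]; group
      rw [this, hxv, mul_one, ← hbdef]
      have hbz : b ∈ center P := hc (hcomm_mem u v)
      have := (mem_center_iff.mp hbz) x
      rw [this, mul_inv_cancel_right]
    have hRxu : R (x * u) = zpowers a :=
      eq_zpowers_of_card_le p hP _ (hRcard (x * u)) a (e1 ▸ hRmem (x * u) y) hxy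
    apply hb
    rw [← hRxu, ← e2]
    exact hRmem (x * u) v
  have hle : commutator P ≤ zpowers a := by
    rw [_root_.commutator_def, commutator_le]
    intro u _ v _
    exact key u v
  calc Nat.card (commutator P) ≤ Nat.card (zpowers a) := card_le_of_le hle
    _ = Nat.card (R x) := by rw [hRx]
    _ ≤ p := hRcard x

end Cfsg.Agent.Lib.Helper24.SqfLeaf
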