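import Mathlib
import Cfsg.Agent.Lib.Helper5.TWS.Defs
import Cfsg.Agent.Lib.Helper26.TWSIIT6

/-!
S5668 Stage II-B, leaf B1 `B1S_blocks` (last open leaf), sub-step (E2) of helper11's cut (msg 5305): a hyperbolic pair inside
`A₀ = ⟨y, y'⟩^⊥` for `k ≥ 4`, and the projection `proj_A0`.
-/

set_option autoImplicit false
set_option linter.unusedSectionVars false
set_option linter.unusedVariables false

namespace Cfsg.Agent.Lib.Helper24.TWSIILeaf
open Cfsg.Agent.Lib.Helper25.SpT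

variable {F : Type*} [Field F] [Fintype F] {k : ℕ}

/-- the projection onto `A₀ = ⟨y, y'⟩^⊥` along `⟨y, y'⟩` (for `sf y y' = 1`) -/
def projA0 (y y' x : Fin k → F) : Fin k → F := x - sf x y' • y + sf x y • y'

lemma sf_projA0_y (y y' : Fin k → F) (hyy' : sf y y' = 1) (x : Fin k → F) : sf (projA0 y y' x) y = 0 := by
  unfold projA0
  have h1 : sf y' y = -1 := by rw [sf_skew, hyy']
  rw [sf_add_left, sf_sub_left, sf_smul_left, sf_smul_left, sf_self, h1]
  ring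

lemma sf_projA0_y' (y y' : Fin k → F) (hyy' : sf y y' = 1) (x : Fin k → F) : sf (projA0 y y' x) y' = 0 := by
  unfold projA0
  rw [sf_add_left, sf_sub_left, sf_smul_left, sf_smul_left, sf_self, hyy']
  ring

lemma sf_left_projA0 (y y' : Fin k → F) (v : Fin k → F) (hvy : sf v y = 0) (hvy' : sf v y' = 0) (x : Fin k → F) :
    sf v (projA0 y y' x) = sf v x := by
  unfold projA0
  rw [sf_add_right, sf_sub_right, sf_smul_right, sf_smul_right, hvy, hvy']
  ring

lemma projA0_of_mem (y y' : Fin k → F) (x : Fin k → F) (hxy : sf x y = 0) (hxy' : sf x y' = 0) :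
    projA0 y y' x = x := by
  unfold projA0
  rw [hxy, hxy', zero_smul, zero_smul, sub_zero, add_zero]

/-- (E2): a hyperbolic pair inside `A₀ = ⟨y, y'⟩^⊥` (`k ≥ 4`) -/
theorem exists_A0_pair (hk : Even k) (hk4 : 4 ≤ k) (y y' : Fin k → F) (hyy' : sf y y' = 1) :
    ∃ a w : Fin k → F, sf a y = 0 ∧ sf a y' = 0 ∧ sf w y = 0 ∧ sf w y' = 0 ∧ sf a w = 1 := by
  obtain ⟨v, hv0, hvy, hvy'⟩ := Cfsg.Agent.Lib.Helper26.TWSIILeaf.exists_A0 hk hk4 y y' hyy'
  obtain ⟨x, hx⟩ := exists_sf_ne_zero hk hv0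
  refine ⟨v, (sf v x)⁻¹ • projA0 y y' x, hvy, hvy', ?_, ?_, ?_⟩
  · rw [sf_smul_left, sf_projA0_y y y' hyy', mul_zero]
  · rw [sf_smul_left, sf_projA0_y' y y' hyy', mul_zero]
  · rw [sf_smul_right, sf_left_projA0 y y' v hvy hvy', inv_mul_cancel₀ hx]

/-- every `a ∈ A₀`, `a ≠ 0`, has a partner in `A₀` -/
theorem exists_A0_partner (hk : Even k) (y y' : Fin k → F) (hyy' : sf y y' = 1) (a : Fin k → F) (ha0 : a ≠ 0)
    (hay : sf a y = 0) (hay' : sf a y' = 0) :
    ∃ w : Fin k → F, sf w y = 0 ∧ sf w y' = 0 ∧ sf a w = 1 := by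
  obtain ⟨x, hx⟩ := exists_sf_ne_zero hk ha0
  refine ⟨(sf a x)⁻¹ • projA0 y y' x, ?_, ?_, ?_⟩
  · rw [sf_smul_left, sf_projA0_y y y' hyy', mul_zero]
  · rw [sf_smul_left, sf_projA0_y' y y' hyy', mul_zero]
  · rw [sf_smul_right, sf_left_projA0 y y' a hay hay', inv_mul_cancel₀ hx]

/-- decomposition `x = sf x y' • y - sf x y • y' + projA0 x` -/
lemma decomp_projA0 (y y' x : Fin k → F) : x = sf x y' • y - sf x y • y' + projA0 y y' x := by
  unfold projA0
  abel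

end Cfsg.Agent.Lib.Helper24.TWSIILeaf
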