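/-
helper24: S4540 leaf (BI) (planner helper1): the row sums of the squared norms of the scaled
contributions over all units of `ZMod N`, for every character `χ`.
-/
import Cfsg.Agent.Lib.Helper1.TwoMajDefs
import Cfsg.Agent.Lib.Helper23.MajSubH5
import Cfsg.Agent.Lib.Helper23.SubsecH
import Cfsg.Agent.Lib.Helper6.DefectOrder

set_option autoImplicit false

namespace Cfsg.Agent.Lib.Helper24.TwoMajBI

open Cfsg Cfsg.Agent.CharLib Cfsg.Agent.Lib.Helper24 Cfsg.Agent.Lib.Helper6 Cfsg.Agent.Lib.Helper23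
open Cfsg.Agent.Lib.Helper23.Subsec Cfsg.Agent.Lib.Helper27.MajSub
open Cfsg.Agent.Lib.Helper1.TwoMaj
open scoped ComplexConjugate

universe u w

section GC

variable {G : Type u} [Group G] [Fintype G] {M : Ideal AlgInt}

/-- (BI) the row sums of the squared norms, for EVERY `χ`. -/
theorem sum_sum_normSq_eq (hM : IsPModular 2 M) (z : G) (hz : ∃ k : ℕ, orderOf z = 2 ^ k)
    (N : ℕ) [NeZero N] (hzN : z ^ N = 1)
    (C : Subgroup G) [Fintype C] [Fintype (IrrCharacter C)]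
    (hC : C = Subgroup.centralizer ({z} : Set G))
    (B : Set (IrrCharacter G)) (hB : IsPBlock M B) [Fintype (IrrCharacter G)]
    [DecidablePred (· ∈ B)] (ψ₀ : IrrCharacter C)
    (hind : IsInducedBlock M C (blockOf M (ψ₀ : C → ℂ)) B)
    (w : Subgroup.center C) (hwz : ((w : C) : G) = z) (χ : IrrCharacter G) :
    ∑ ψ ∈ Finset.univ.filter (· ∈ B), ∑ u : (ZMod N)ˣ,
      ‖(2 : ℂ) ^ blockDefect 2 (blockOf M (ψ₀ : C → ℂ)) *
        contrib 2 C (blockOf M (ψ₀ : C → ℂ)) (z ^ (u : ZMod N).val) χ ψ‖ ^ 2 =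
      (2 : ℝ) ^ blockDefect 2 (blockOf M (ψ₀ : C → ℂ)) *
        ((Fintype.card (ZMod N)ˣ : ℝ) * (rtrace C (blockOf M (ψ₀ : C → ℂ)) w χ : ℝ)) := by
  classical
  have : Fact (Nat.Prime 2) := ⟨Nat.prime_two⟩
  have he : IsPBlock M (blockOf M (ψ₀ : C → ℂ)) := ⟨ψ₀, rfl⟩
  set e := blockOf M (ψ₀ : C → ℂ) with hedef
  set q := blockDefect 2 e with hq
  obtain ⟨k₀, hk₀⟩ := hz
  have hwcoe : ∀ k : ℕ, ((((w ^ k : Subgroup.center C) : C) : G)) = z ^ k := by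
    intro k
    rw [← hwz]
    simp
  have hwN : w ^ N = 1 := by
    apply Subtype.ext
    apply Subtype.ext
    rw [hwcoe]
    simp only [OneMemClass.coe_one]
    exact hzN
  have hwp : ∃ j : ℕ, w ^ (2 ^ j) = 1 := by
    refine ⟨k₀, ?_⟩
    apply Subtype.ext
    apply Subtype.ext
    rw [hwcoe]
    simp only [OneMemClass.coe_one]
    rw [← hk₀, pow_orderOf_eq_one]
  have hordN : orderOf z ∣ N := orderOf_dvd_of_pow_eq_one hzN
  have hcop : ∀ u : (ZMod N)ˣ, ((u : ZMod N).val).Coprime (orderOf z) := by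
    intro u
    exact Nat.Coprime.coprime_dvd_right hordN (ZMod.val_coe_unit_coprime u)
  have hzk : ∀ u : (ZMod N)ˣ, ∃ j : ℕ, orderOf (z ^ (u : ZMod N).val) = 2 ^ j := by
    intro u
    have h1 : orderOf (z ^ (u : ZMod N).val) ∣ 2 ^ k₀ := by rw [← hk₀]; exact orderOf_pow_dvd _
    obtain ⟨j, -, hj⟩ := (Nat.dvd_prime_pow Nat.prime_two).mp h1
    exact ⟨j, hj⟩
  have hCk : ∀ u : (ZMod N)ˣ, C = Subgroup.centralizer ({z ^ (u : ZMod N).val} : Set G) := by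
    intro u
    rw [centralizer_pow_eq z _ (hcop u)]
    exact hC
  have hrow : ∀ u : (ZMod N)ˣ,
      ((∑ ψ ∈ Finset.univ.filter (· ∈ B),
        ‖contrib 2 C e (z ^ (u : ZMod N).val) χ ψ‖ ^ 2 : ℝ) : ℂ) =
      contrib 2 C e (z ^ (u : ZMod N).val) χ χ := by
    intro u
    exact sum_contrib_normSq hM (z ^ (u : ZMod N).val) (hzk u) C (hCk u) B hB ψ₀ hind χ
  have hsum := sum_units_contrib_eq (G := G) hM N C e he w hwN hwp χ
  simp_rw [hwcoe] at hsum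
  -- move to the complex numbers
  have key : ((∑ ψ ∈ Finset.univ.filter (· ∈ B), ∑ u : (ZMod N)ˣ,
      ‖(2 : ℂ) ^ q * contrib 2 C e (z ^ (u : ZMod N).val) χ ψ‖ ^ 2 : ℝ) : ℂ) =
      (((2 : ℝ) ^ q * ((Fintype.card (ZMod N)ˣ : ℝ) * (rtrace C e w χ : ℝ)) : ℝ) : ℂ) := by
    rw [Finset.sum_comm]
    have h1 : ∀ u : (ZMod N)ˣ, ∑ ψ ∈ Finset.univ.filter (· ∈ B),
        ‖(2 : ℂ) ^ q * contrib 2 C e (z ^ (u : ZMod N).val) χ ψ‖ ^ 2 =
        ((2 : ℝ) ^ q) ^ 2 * ∑ ψ ∈ Finset.univ.filter (· ∈ B),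
          ‖contrib 2 C e (z ^ (u : ZMod N).val) χ ψ‖ ^ 2 := by
      intro u
      rw [Finset.mul_sum]
      apply Finset.sum_congr rfl
      intro ψ _
      rw [norm_mul, mul_pow, norm_pow]
      simp only [Complex.norm_ofNat]
    simp_rw [h1]
    rw [Complex.ofReal_sum]
    have h2 : ∀ u : (ZMod N)ˣ, ((((2 : ℝ) ^ q) ^ 2 * ∑ ψ ∈ Finset.univ.filter (· ∈ B),
          ‖contrib 2 C e (z ^ (u : ZMod N).val) χ ψ‖ ^ 2 : ℝ) : ℂ) =
        (2 : ℂ) ^ q * ((2 : ℂ) ^ q * contrib 2 C e (z ^ (u : ZMod N).val) χ χ) := by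
      intro u
      rw [Complex.ofReal_mul, hrow u]
      push_cast
      ring
    simp_rw [h2]
    rw [← Finset.mul_sum, hsum]
    push_cast
    ring
  exact_mod_cast key

end GC

end Cfsg.Agent.Lib.Helper24.TwoMajBI
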