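/-
helper24: kernels of blocks and block induction.  If `b` (a block of `H`) induces `B` and `Y` is a
normal `p'`-subgroup of the ambient group, then `Y` lies in the kernel of `B` iff `Y ∩ H` lies in the
kernel of `b` (Brauer).
-/
import Mathlib
import Cfsg.Agent.Lib.Helper6.InducedDefect
import Cfsg.Agent.Lib.Helper6.Gallagher2
import Cfsg.Agent.Lib.Helper6.FirstMain
import Cfsg.Agent.Lib.Helper24.IrrFacts

set_option autoImplicit false

namespace Cfsg.Agent.Lib.Helper24

open Cfsg Cfsg.Agent.CharLib Cfsg.Agent.Lib.Helper6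
open scoped ComplexConjugate

universe u

section ind

variable {X : Type u} [Group X]

open Classical in
/-- The indicator function of a subgroup. -/
noncomputable def subInd (Y : Subgroup X) : X → ℂ := fun x => if x ∈ Y then 1 else 0

theorem subInd_of_mem (Y : Subgroup X) {x : X} (hx : x ∈ Y) : subInd Y x = 1 := by
  unfold subInd
  rw [if_pos hx]

theorem subInd_of_not_mem (Y : Subgroup X) {x : X} (hx : x ∉ Y) : subInd Y x = 0 := by
  unfold subInd
  rw [if_neg hx]

theorem subInd_isClassFunction (Y : Subgroup X) [hY : Y.Normal] : IsClassFunction X (subInd Y) := by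
  intro g h
  by_cases hg : g ∈ Y
  · rw [subInd_of_mem Y hg, subInd_of_mem Y (hY.conj_mem g hg h)]
  · rw [subInd_of_not_mem Y hg, subInd_of_not_mem Y]
    intro hc
    apply hg
    have := hY.conj_mem _ hc h⁻¹
    simpa [mul_assoc] using this

theorem memLocalRing_subInd {M : Ideal AlgInt} [hp : M.IsPrime] (Y : Subgroup X) (x : X) :
    MemLocalRing M (subInd Y x) := by
  by_cases hx : x ∈ Y
  · rw [subInd_of_mem Y hx]
    exact memLocalRing_one
  · rw [subInd_of_not_mem Y hx]
    exact memLocalRing_zero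

theorem resFun_subInd (H Y : Subgroup X) : resFun H (subInd Y) = subInd (Y.subgroupOf H) := by
  funext h
  rw [resFun_apply]
  by_cases hh : (h : X) ∈ Y
  · rw [subInd_of_mem Y hh, subInd_of_mem _ (Subgroup.mem_subgroupOf.mpr hh)]
  · rw [subInd_of_not_mem Y hh, subInd_of_not_mem _ (fun hc => hh (Subgroup.mem_subgroupOf.mp hc))]

variable [Fintype X]

theorem omegaFun_subInd (Y : Subgroup X) [Fintype Y] (χ : X → ℂ) :
    omegaFun χ (subInd Y) = (∑ n : Y, χ n) / χ 1 := by
  classical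
  unfold omegaFun
  congr 1
  have h1 : ∑ g : X, subInd Y g * χ g = ∑ g : X, if g ∈ Y then χ g else 0 := by
    apply Finset.sum_congr rfl
    intro g _
    by_cases hg : g ∈ Y
    · rw [subInd_of_mem Y hg, if_pos hg, one_mul]
    · rw [subInd_of_not_mem Y hg, if_neg hg, zero_mul]
  rw [h1, ← Finset.sum_filter]
  symm
  apply Finset.sum_bij (fun (n : Y) _ => (n : X))
  · intro n _
    rw [Finset.mem_filter]
    exact ⟨Finset.mem_univ _, n.2⟩
  · intro a _ b _ hab
    exact Subtype.ext hab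
  · intro g hg
    rw [Finset.mem_filter] at hg
    exact ⟨⟨g, hg.2⟩, Finset.mem_univ _, rfl⟩
  · intro n _
    rfl

/-- The central character of an irreducible character at the sum of a normal subgroup: `|Y|` if
`Y` is in the kernel, and `0` otherwise. -/
theorem omegaFun_subInd_irr (Y : Subgroup X) [hY : Y.Normal] (χ : IrrCharacter X) :
    ((∀ y ∈ Y, (χ : X → ℂ) y = (χ : X → ℂ) 1) ∧
      omegaFun (χ : X → ℂ) (subInd Y) = (Nat.card Y : ℂ)) ∨
    ((¬ ∀ y ∈ Y, (χ : X → ℂ) y = (χ : X → ℂ) 1) ∧ omegaFun (χ : X → ℂ) (subInd Y) = 0) := by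
  classical
  let _ : Fintype Y := Fintype.ofFinite Y
  have h1 := irr_apply_one_ne_zero χ
  rw [omegaFun_subInd]
  by_cases h : classInner (indFun Y (1 : Y → ℂ)) (χ : X → ℂ) = 0
  · right
    have h2 := sum_normal_mul_eq_zero Y χ.2 h 1
    simp only [mul_one] at h2
    refine ⟨?_, by rw [h2, zero_div]⟩
    intro hker
    have h3 : ∑ n : Y, (χ : X → ℂ) n = (Nat.card Y : ℂ) * (χ : X → ℂ) 1 := by
      have h4 : ∀ n ∈ (Finset.univ : Finset Y), (χ : X → ℂ) (n : X) = (χ : X → ℂ) 1 :=
        fun n _ => hker (n : X) n.2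
      rw [Finset.sum_congr rfl h4, Finset.sum_const, Finset.card_univ,
        nsmul_eq_mul, Nat.card_eq_fintype_card]
    rw [h2] at h3
    have hY0 : (Nat.card Y : ℂ) ≠ 0 := by exact_mod_cast (Nat.card_pos (α := Y)).ne'
    exact (mul_ne_zero hY0 h1) h3.symm
  · left
    obtain ⟨h2, h3⟩ := apply_mul_of_indFun_one_ne_zero Y χ.2 h
    refine ⟨?_, by rw [h2, mul_div_assoc, div_self h1, mul_one]⟩
    intro y hy
    have := h3 ⟨y, hy⟩ 1
    rwa [mul_one] at this

end ind

section kernel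

variable {X : Type u} [Group X] [Finite X] {M : Ideal AlgInt}

theorem not_memLocalIdeal_natCast_of_not_dvd {p : ℕ} (hM : IsPModular p M) {k : ℕ}
    (hk : ¬ p ∣ k) : ¬ MemLocalIdeal M (k : ℂ) := by
  have hprime : M.IsPrime := isPrime_of_isPModular hM
  have h1 := natCast_not_mem_of_not_dvd hM hk
  intro h2
  apply h1
  rw [← memLocalIdeal_coe_iff]
  simpa using h2

/-- **Kernels and induced blocks**: if `b` induces `B` and `Y` is a normal `p'`-subgroup, then `Y`
lies in the kernel of `B` iff `Y ∩ H` lies in the kernel of `b`. -/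
theorem ker_iff_of_induced {p : ℕ} [hpp : Fact p.Prime] (hM : IsPModular p M) (H : Subgroup X)
    (b : Set (IrrCharacter H)) (B : Set (IrrCharacter X)) (hind : IsInducedBlock M H b B)
    (Y : Subgroup X) [hY : Y.Normal] (hYp : ¬ p ∣ Nat.card Y) :
    (∀ y ∈ Y, ∀ χ ∈ B, (χ : X → ℂ) y = (χ : X → ℂ) 1) ↔
      (∀ y : H, (y : X) ∈ Y → ∀ ξ ∈ b, (ξ : H → ℂ) y = (ξ : H → ℂ) 1) := by
  classical
  let _ : Fintype X := Fintype.ofFinite X
  let _ : Fintype H := Fintype.ofFinite H
  have hprime : M.IsPrime := isPrime_of_isPModular hM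
  have hYH : ¬ p ∣ Nat.card (Y.subgroupOf H) := by
    intro h
    apply hYp
    have h1 : Nat.card (Y.subgroupOf H) = Nat.card ((Y.subgroupOf H).map H.subtype) :=
      (Subgroup.card_map_of_injective H.subtype_injective).symm
    rw [h1, Subgroup.subgroupOf_map_subtype] at h
    exact h.trans (Subgroup.card_dvd_of_le inf_le_left)
  have key : ∀ ξ ∈ b, ∀ χ ∈ B, MemLocalIdeal M
      (omegaFun (ξ : H → ℂ) (subInd (Y.subgroupOf H)) - omegaFun (χ : X → ℂ) (subInd Y)) := by
    intro ξ hξ χ hχ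
    have := memLocalIdeal_omegaFun_resFun_sub_of_induced H hind hξ hχ (subInd_isClassFunction Y)
      (memLocalRing_subInd Y)
    rwa [resFun_subInd] at this
  obtain ⟨ξ₀, hξ₀⟩ := hind.1
  have hξ₀b : ξ₀ ∈ b := by rw [hξ₀]; exact mem_blockOf_self ξ₀
  obtain ⟨χ₀, hχ₀⟩ := hind.2.1
  have hχ₀B : χ₀ ∈ B := by rw [hχ₀]; exact mem_blockOf_self χ₀
  constructor
  · intro hker y hy ξ hξ
    rcases omegaFun_subInd_irr (Y.subgroupOf H) ξ with ⟨h1, -⟩ | ⟨-, h2⟩
    · exact h1 y (Subgroup.mem_subgroupOf.mpr hy)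
    · exfalso
      rcases omegaFun_subInd_irr Y χ₀ with ⟨-, h3⟩ | ⟨h3, -⟩
      · have h4 := key ξ hξ χ₀ hχ₀B
        rw [h2, h3, zero_sub] at h4
        have h5 := memLocalIdeal_neg h4
        rw [neg_neg] at h5
        exact not_memLocalIdeal_natCast_of_not_dvd hM hYp h5
      · exact h3 (fun y hy => hker y hy χ₀ hχ₀B)
  · intro hker y hy χ hχ
    rcases omegaFun_subInd_irr Y χ with ⟨h1, -⟩ | ⟨-, h2⟩
    · exact h1 y hy
    · exfalso
      rcases omegaFun_subInd_irr (Y.subgroupOf H) ξ₀ with ⟨-, h3⟩ | ⟨h3, -⟩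
      · have h4 := key ξ₀ hξ₀b χ hχ
        rw [h2, h3, sub_zero] at h4
        exact not_memLocalIdeal_natCast_of_not_dvd hM hYH h4
      · exact h3 (fun y hy => hker y (Subgroup.mem_subgroupOf.mp hy) ξ₀ hξ₀b)

end kernel

end Cfsg.Agent.Lib.Helper24
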