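import Mathlib
import Cfsg.Agent.Lib.Helper20.AschDefs

/-!
S5630 (Aschbacher's theorem, helper20), block (A7) = the symplectic-type case (sub-planner helper24): shared definitions.
-/

set_option autoImplicit false
set_option linter.unusedSectionVars false
set_option linter.unusedVariables false

namespace Cfsg.Agent.Lib.Helper24.AschA7
open Matrix Cfsg.Geo Cfsg.Agent.Lib.Helper20.Asch
open scoped commutatorElement

/-- the abstract situation of (A7): class at most two, cyclic centre, every characteristic subgroup is the whole
group or central, not abelian -/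
structure CM (G : Type*) [Group G] : Prop where
  comm_central : ∀ x y : G, ⁅x, y⁆ ∈ Subgroup.center G
  center_cyclic : IsCyclic (Subgroup.center G)
  charmin : ∀ K : Subgroup G, K.Characteristic → K = ⊤ ∨ K ≤ Subgroup.center G
  nonab : ∃ x y : G, ⁅x, y⁆ ≠ 1

/-- a monomial matrix all of whose non-zero entries are `z`-th roots of unity -/
def MonoZ {F : Type*} [Field F] {n : ℕ} (z : ℕ) (M : Matrix (Fin n) (Fin n) F) : Prop :=
  ∃ (π : Equiv.Perm (Fin n)) (d : Fin n → F), (∀ i, d i ^ z = 1) ∧ ∀ i j, M i j = if j = π i then d i else 0

end Cfsg.Agent.Lib.Helper24.AschA7
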