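import Mathlib
import Cfsg.Agent.S0547
import Cfsg.Agent.S0548

/-!
# TWGAL (S3613 market "TW"): a finite soluble group acting faithfully and transitively on a set of
prime size `q` has order `q d` with `d ∣ q - 1` (Galois).
-/

set_option autoImplicit false

namespace Cfsg.Agent.Lib.Helper24.TWGAL

open MulAction

/-- A nontrivial finite group has a minimal normal subgroup. -/
theorem exists_minimal_normal {H : Type*} [Group H] [Finite H] (hne : Nontrivial H) :
    ∃ M : Subgroup H, M.Normal ∧ M ≠ ⊥ ∧
      ∀ K : Subgroup H, K.Normal → K ≤ M → K = ⊥ ∨ K = M := by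
  classical
  -- choose a nontrivial normal subgroup of minimal cardinality
  have hex : ∃ n : ℕ, ∃ M : Subgroup H, M.Normal ∧ M ≠ ⊥ ∧ Nat.card M = n :=
    ⟨Nat.card (⊤ : Subgroup H), ⊤, inferInstance, by
      intro h
      exact bot_ne_top h.symm, rfl⟩
  obtain ⟨M, hMn, hM0, hMc⟩ := Nat.find_spec hex
  refine ⟨M, hMn, hM0, fun K hK hKM => ?_⟩
  by_cases hK0 : K = ⊥
  · exact Or.inl hK0
  · right
    have hle : Nat.card K ≤ Nat.card M := Nat.card_mono (Set.toFinite _) hKM
    have hge : Nat.find hex ≤ Nat.card K := Nat.find_min' hex ⟨K, hK, hK0, rfl⟩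
    have heq : Nat.card K = Nat.card M := by omega
    exact Subgroup.eq_of_le_of_card_ge hKM (by rw [heq])

/-- **TWGAL** (Galois). -/
theorem TWGAL {H X : Type*} [Group H] [Finite H] [MulAction H X] [FaithfulSMul H X] [Finite X]
    (q : ℕ) (hq : q.Prime) (hX : Nat.card X = q) (htr : MulAction.IsPretransitive H X)
    (hsol : Group.IsSolvable H) : ∃ d : ℕ, d ∣ q - 1 ∧ Nat.card H = q * d := by
  classical
  haveI := hsol
  haveI := htr
  have hXne : Nonempty X := by
    have : 0 < Nat.card X := by rw [hX]; exact hq.pos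
    exact (Nat.card_pos_iff.mp this).1
  have hprim : IsPreprimitive H X := IsPreprimitive.of_prime_card (by rw [hX]; exact hq)
  -- H is nontrivial
  have hnt : Nontrivial H := by
    by_contra hcon
    rw [not_nontrivial_iff_subsingleton] at hcon
    obtain ⟨ω⟩ := hXne
    have hall : ∀ x : X, x = ω := by
      intro x
      obtain ⟨g, hg⟩ := MulAction.exists_smul_eq H ω x
      have : g = 1 := Subsingleton.elim _ _
      rw [this, one_smul] at hg
      exact hg.symm
    have : Nat.card X ≤ 1 := by
      haveI : Subsingleton X := ⟨fun a b => by rw [hall a, hall b]⟩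
      exact Finite.card_le_one_iff_subsingleton.mpr inferInstance
    rw [hX] at this
    exact absurd hq.two_le (by omega)
  obtain ⟨M, hMn, hM0, hmin⟩ := exists_minimal_normal hnt
  haveI := hMn
  obtain ⟨-, -, p, d, hp, hd, hXp, hMp⟩ := Cfsg.Agent.S0547.result hprim M hM0 hmin
  have hMq : Nat.card M = q := by rw [hMp, ← hXp, hX]
  obtain ⟨ω⟩ := hXne
  obtain ⟨hcomp, hcent, -⟩ := Cfsg.Agent.S0548.result hprim M hM0 hmin ω
  -- the conjugation action of the stabilizer on M is faithful
  let S : Subgroup H := stabilizer H ω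
  let φ : S →* MulAut M := (MulAut.conjNormal (H := M)).comp S.subtype
  have hφ : Function.Injective φ := by
    rw [injective_iff_map_eq_one]
    intro s hs
    have hsc : (s : H) ∈ Subgroup.centralizer (M : Set H) := by
      rw [Subgroup.mem_centralizer_iff]
      intro m hm
      have h1 : φ s ⟨m, hm⟩ = ⟨m, hm⟩ := by rw [hs]; rfl
      have h2 : ((φ s ⟨m, hm⟩ : M) : H) = (s : H) * m * (s : H)⁻¹ := rfl
      rw [h1] at h2
      simp only at h2
      calc m * (s : H) = (s : H) * m * (s : H)⁻¹ * (s : H) := by rw [← h2]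
        _ = (s : H) * m := by group
    have hmem : (s : H) ∈ stabilizer H ω ⊓ Subgroup.centralizer (M : Set H) := ⟨s.2, hsc⟩
    rw [hcent] at hmem
    exact Subtype.ext (Subgroup.mem_bot.mp hmem)
  haveI : Fact q.Prime := ⟨hq⟩
  haveI : IsCyclic M := isCyclic_of_prime_card hMq
  have hAut : Nat.card (MulAut M) = q - 1 := by
    rw [IsCyclic.card_mulAut, hMq, Nat.totient_prime hq]
  refine ⟨Nat.card S, ?_, ?_⟩
  · rw [← hAut]
    exact Subgroup.card_dvd_of_injective φ hφ
  · rw [← hMq]
    exact hcomp.card_mul.symm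

end Cfsg.Agent.Lib.Helper24.TWGAL
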