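/-
helper24: S2524 - orbits of `GL_n` on the symmetric matrices of rank at most one
(`g . B = g^{-T} B g^{-1}`): representatives `E_00`, `ν E_00`, and their non-conjugacy.
-/
import Mathlib
import Cfsg.Agent.Lib.Helper10.WGDefs

set_option autoImplicit false

namespace Cfsg.Agent.Lib.Helper24.WGORB

open Matrix Cfsg.Agent.Lib.Helper11.LS Cfsg.Agent.Lib.Helper10.WG

variable {F : Type*} [Field F]

section act

variable {n : ℕ}

/-- the action of `GL_n` on matrices by congruence: `g . B = g^{-T} B g^{-1}` -/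
def act (g : GL (Fin n) F) (B : Matrix (Fin n) (Fin n) F) : Matrix (Fin n) (Fin n) F :=
  ((g⁻¹ : GL (Fin n) F) : Matrix (Fin n) (Fin n) F)ᵀ * B *
    ((g⁻¹ : GL (Fin n) F) : Matrix (Fin n) (Fin n) F)

theorem act_def (g : GL (Fin n) F) (B : Matrix (Fin n) (Fin n) F) :
    act g B = ((g⁻¹ : GL (Fin n) F) : Matrix (Fin n) (Fin n) F)ᵀ * B *
      ((g⁻¹ : GL (Fin n) F) : Matrix (Fin n) (Fin n) F) := rfl

theorem act_one (B : Matrix (Fin n) (Fin n) F) : act (1 : GL (Fin n) F) B = B := by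
  simp [act]

theorem act_mul (g h : GL (Fin n) F) (B : Matrix (Fin n) (Fin n) F) :
    act (g * h) B = act g (act h B) := by
  simp only [act]
  rw [_root_.mul_inv_rev, Units.val_mul, Matrix.transpose_mul]
  simp only [Matrix.mul_assoc]

theorem act_inv_act (g : GL (Fin n) F) (B : Matrix (Fin n) (Fin n) F) :
    act g⁻¹ (act g B) = B := by
  rw [← act_mul, inv_mul_cancel, act_one]

theorem act_act_inv (g : GL (Fin n) F) (B : Matrix (Fin n) (Fin n) F) :
    act g (act g⁻¹ B) = B := by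
  rw [← act_mul, mul_inv_cancel, act_one]

theorem act_zero (g : GL (Fin n) F) : act g (0 : Matrix (Fin n) (Fin n) F) = 0 := by
  simp [act]

theorem act_eq_zero_iff (g : GL (Fin n) F) (B : Matrix (Fin n) (Fin n) F) :
    act g B = 0 ↔ B = 0 := by
  constructor
  · intro h
    have := act_inv_act g B
    rw [h, act_zero] at this
    exact this.symm
  · intro h
    rw [h, act_zero]

theorem act_transpose (g : GL (Fin n) F) (B : Matrix (Fin n) (Fin n) F) (hB : Bᵀ = B) :
    (act g B)ᵀ = act g B := by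
  simp only [act, Matrix.transpose_mul, Matrix.transpose_transpose, hB, Matrix.mul_assoc]

/-- congruence of `κ E_00` by `N`: `Nᵀ (κ E_00) N = κ r rᵀ`, `r` the first row of `N` -/
theorem transpose_mul_single_mul (N : Matrix (Fin (n + 1)) (Fin (n + 1)) F) (κ : F) :
    Nᵀ * single 0 0 κ * N = κ • vecMulVec (N 0) (N 0) := by
  ext i j
  rw [Matrix.mul_apply, Finset.sum_eq_single 0]
  · rw [mul_single_apply_same]
    simp only [Matrix.smul_apply, vecMulVec_apply, smul_eq_mul, transpose_apply]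
    ring
  · intro b _ hb
    rw [mul_single_apply_of_ne (hbj := hb), zero_mul]
  · intro h
    exact absurd (Finset.mem_univ _) h

theorem act_single (g : GL (Fin (n + 1)) F) (κ : F) :
    act g (single 0 0 κ) =
      κ • vecMulVec (((g⁻¹ : GL (Fin (n + 1)) F) : Matrix (Fin (n + 1)) (Fin (n + 1)) F) 0)
        (((g⁻¹ : GL (Fin (n + 1)) F) : Matrix (Fin (n + 1)) (Fin (n + 1)) F) 0) := by
  rw [act_def, transpose_mul_single_mul]

/-- an invertible matrix with prescribed non-zero first row -/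
theorem exists_GL_row (w : Fin (n + 1) → F) (hw : w ≠ 0) :
    ∃ g : GL (Fin (n + 1)) F,
      ((g⁻¹ : GL (Fin (n + 1)) F) : Matrix (Fin (n + 1)) (Fin (n + 1)) F) 0 = w := by
  classical
  have he : (Pi.single 0 1 : Fin (n + 1) → F) ≠ 0 := by
    intro h
    have := congrFun h 0
    simp at this
  let f : Submodule.span F {(Pi.single 0 1 : Fin (n + 1) → F)} ≃ₗ[F] Submodule.span F {w} :=
    (LinearEquiv.toSpanNonzeroSingleton F (Fin (n + 1) → F) _ he).symm ≪≫ₗ
      LinearEquiv.toSpanNonzeroSingleton F (Fin (n + 1) → F) w hw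
  obtain ⟨T, hT⟩ := Submodule.exists_linearEquiv_restrict_eq f
  have hT0 : T (Pi.single 0 1) = w := by
    have h1 := hT ⟨Pi.single 0 1, Submodule.mem_span_singleton_self _⟩
    have h2 : f ⟨Pi.single 0 1, Submodule.mem_span_singleton_self _⟩ =
        ⟨w, Submodule.mem_span_singleton_self _⟩ := by
      simp only [f, LinearEquiv.trans_apply]
      rw [LinearEquiv.coord_self]
      ext1
      simp
    rw [h2] at h1
    exact h1.symm
  set N : Matrix (Fin (n + 1)) (Fin (n + 1)) F := (LinearMap.toMatrix' T.toLinearMap)ᵀ with hN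
  have hdet : N.det ≠ 0 := by
    rw [hN, det_transpose, LinearMap.det_toMatrix']
    exact (LinearEquiv.isUnit_det' T).ne_zero
  refine ⟨(Matrix.GeneralLinearGroup.mkOfDetNeZero N hdet)⁻¹, ?_⟩
  rw [inv_inv]
  ext j
  show N 0 j = w j
  rw [hN, transpose_apply, LinearMap.toMatrix'_apply]
  simp only [LinearEquiv.coe_coe]
  rw [hT0]

end act

section orbits

variable [Fintype F] [DecidableEq F] {n : ℕ}

theorem ringChar_ne_two (h2 : (2 : F) ≠ 0) : ringChar F ≠ 2 := by
  intro h
  apply h2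
  have := CharP.cast_eq_zero F (ringChar F)
  rw [h] at this
  exact_mod_cast this

/-- the two square classes of a finite field of odd order -/
theorem square_class (h2 : (2 : F) ≠ 0) (ν : F) (hν : ¬ IsSquare ν) (a : F) (ha : a ≠ 0) :
    ∃ κ t : F, (κ = 1 ∨ κ = ν) ∧ t ≠ 0 ∧ a = κ * t ^ 2 := by
  have hc := ringChar_ne_two h2
  have hν0 : ν ≠ 0 := by
    intro h
    apply hν
    rw [h]
    exact ⟨0, by simp⟩
  by_cases hsq : IsSquare a
  · obtain ⟨t, ht⟩ := hsq
    refine ⟨1, t, Or.inl rfl, ?_, by rw [ht]; ring⟩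
    intro h
    apply ha
    rw [ht, h, mul_zero]
  · have h1 : quadraticChar F a = -1 := (quadraticChar_neg_one_iff_not_isSquare).mpr hsq
    have h2' : quadraticChar F ν = -1 := (quadraticChar_neg_one_iff_not_isSquare).mpr hν
    have h3 : quadraticChar F (a * ν) = 1 := by
      rw [map_mul, h1, h2']
      norm_num
    have hne : a * ν ≠ 0 := mul_ne_zero ha hν0
    obtain ⟨t, ht⟩ := (quadraticChar_one_iff_isSquare hne).mp h3
    refine ⟨ν, t * ν⁻¹, Or.inr rfl, ?_, ?_⟩
    · intro h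
      apply hne
      rcases mul_eq_zero.mp h with h' | h'
      · rw [ht, h', mul_zero]
      · exact absurd h' (inv_ne_zero hν0)
    · have : a = (a * ν) * ν⁻¹ := by
        field_simp
      rw [this, ht]
      field_simp

/-- (orbit representatives) a non-zero symmetric matrix of rank one is conjugate to `E_00` or `ν E_00` -/
theorem orbit_rep (h2 : (2 : F) ≠ 0) (ν : F) (hν : ¬ IsSquare ν) (a : F) (v : Fin (n + 1) → F)
    (hB : a • vecMulVec v v ≠ 0) :
    ∃ (g : GL (Fin (n + 1)) F) (κ : F), (κ = 1 ∨ κ = ν) ∧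
      ((g⁻¹ : GL (Fin (n + 1)) F) : Matrix (Fin (n + 1)) (Fin (n + 1)) F)ᵀ * single 0 0 κ *
        ((g⁻¹ : GL (Fin (n + 1)) F) : Matrix (Fin (n + 1)) (Fin (n + 1)) F) = a • vecMulVec v v := by
  have ha : a ≠ 0 := by
    intro h
    apply hB
    rw [h, zero_smul]
  have hv : v ≠ 0 := by
    intro h
    apply hB
    rw [h]
    ext i j
    simp [vecMulVec_apply]
  obtain ⟨κ, t, hκ, ht, hat⟩ := square_class h2 ν hν a ha
  have hw : t • v ≠ 0 := smul_ne_zero ht hv
  obtain ⟨g, hg⟩ := exists_GL_row (t • v) hw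
  refine ⟨g, κ, hκ, ?_⟩
  rw [transpose_mul_single_mul, hg, hat]
  ext i j
  simp [vecMulVec_apply]
  ring

/-- (non-conjugacy) `κ E_00` and `κ' E_00`, `κ, κ' ∈ {1, ν}`, are conjugate only if `κ = κ'` -/
theorem kappa_unique (ν : F) (hν : ¬ IsSquare ν) (g : GL (Fin (n + 1)) F) (κ κ' : F)
    (hκ : κ = 1 ∨ κ = ν) (hκ' : κ' = 1 ∨ κ' = ν)
    (h : act g (single 0 0 κ) = single 0 0 κ') : κ = κ' := by
  rw [act_single] at h
  have h00 := congrFun (congrFun h 0) 0
  simp only [Matrix.smul_apply, vecMulVec_apply, smul_eq_mul, single_apply_same] at h00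
  set r := ((g⁻¹ : GL (Fin (n + 1)) F) : Matrix (Fin (n + 1)) (Fin (n + 1)) F) 0 0 with hr
  rcases hκ with rfl | rfl <;> rcases hκ' with rfl | rfl
  · rfl
  · exfalso
    apply hν
    exact ⟨r, by rw [← h00]; ring⟩
  · exfalso
    apply hν
    have hr0 : r ≠ 0 := by
      intro h0
      rw [h0] at h00
      simp at h00
    refine ⟨r⁻¹, ?_⟩
    field_simp
    rw [← h00]
    ring
  · rfl

end orbits

end Cfsg.Agent.Lib.Helper24.WGORB
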