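/-
helper24: S2524 leaf PIV - `GL_n` is generated by the elementary transvections and the diagonal matrices
(Mathlib pivot decomposition).
-/
import Mathlib
import Cfsg.Agent.Lib.Helper10.WGDefs

set_option autoImplicit false

namespace Cfsg.Agent.Lib.Helper24.WGPIV

open Matrix Cfsg.Agent.Lib.Helper11.LS Cfsg.Agent.Lib.Helper10.WG

universe u

variable {F : Type*} [Field F] [Fintype F] [DecidableEq F]

/-- (PIV) `GL_n` is generated by the elementary transvections and the diagonal matrices. -/
theorem closure_tv_dg (n : ℕ) :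
    Subgroup.closure ({g : GL (Fin n) F | ∃ (i j : Fin n) (hij : i ≠ j) (c : F), g = tvG i j hij c} ∪
      {g : GL (Fin n) F | ∃ d : Fin n → Fˣ, g = dgG d}) = ⊤ := by
  rw [eq_top_iff]
  intro g _
  set H : Subgroup (GL (Fin n) F) :=
    Subgroup.closure ({g : GL (Fin n) F | ∃ (i j : Fin n) (hij : i ≠ j) (c : F), g = tvG i j hij c} ∪
      {g : GL (Fin n) F | ∃ d : Fin n → Fˣ, g = dgG d}) with hH
  have key : ∀ M : Matrix (Fin n) (Fin n) F, det M ≠ 0 →
      ∀ g : GL (Fin n) F, (g : Matrix (Fin n) (Fin n) F) = M → g ∈ H := by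
    intro M hM
    refine Matrix.diagonal_transvection_induction_of_det_ne_zero
      (fun M => ∀ g : GL (Fin n) F, (g : Matrix (Fin n) (Fin n) F) = M → g ∈ H) M hM ?_ ?_ ?_
    · intro D hD g hg
      rw [det_diagonal] at hD
      have hD' : ∀ i, D i ≠ 0 := fun i => (Finset.prod_ne_zero_iff.mp hD) i (Finset.mem_univ i)
      apply Subgroup.subset_closure
      right
      refine ⟨fun i => Units.mk0 (D i) (hD' i), ?_⟩
      apply Units.ext
      rw [hg]
      rfl
    · intro t g hg
      apply Subgroup.subset_closure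
      left
      refine ⟨t.i, t.j, t.hij, t.c, ?_⟩
      apply Units.ext
      rw [hg]
      rfl
    · intro A B hA hB PA PB g hg
      have h1 := PA (Matrix.GeneralLinearGroup.mkOfDetNeZero A hA) rfl
      have h2 := PB (Matrix.GeneralLinearGroup.mkOfDetNeZero B hB) rfl
      have : g = Matrix.GeneralLinearGroup.mkOfDetNeZero A hA *
          Matrix.GeneralLinearGroup.mkOfDetNeZero B hB := by
        apply Units.ext
        rw [hg]
        rfl
      rw [this]
      exact H.mul_mem h1 h2
  refine key (g : Matrix (Fin n) (Fin n) F) ?_ g rfl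
  have := Matrix.GeneralLinearGroup.det_ne_zero g
  exact this

end Cfsg.Agent.Lib.Helper24.WGPIV
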