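/-
helper24: S2524 leaf MKE - Mackey existence for `P = Q ⋊ L` on (W)-modules: a `P`-homomorphism with
prescribed restrictions to the weight spaces of the orbit representatives `0`, `E_00`, `ν E_00`.
General form `mackey_general` (any family of pairwise non-conjugate base points covering the weights).
-/
import Mathlib
import Cfsg.Agent.Lib.Helper10.WGDefs
import Cfsg.Agent.Lib.Helper17.WGWD
import Cfsg.Agent.Lib.Helper23.WGLVW
import Cfsg.Agent.Lib.Helper29.WGLVH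
import Cfsg.Agent.Lib.Helper24.WGORB

set_option autoImplicit false

namespace Cfsg.Agent.Lib.Helper24.WGMKE

open Matrix Cfsg.Agent.Lib.Helper11.LS Cfsg.Agent.Lib.Helper10.WG Cfsg.Agent.Lib.Helper24.WGORB

universe u

variable {F : Type*} [Field F] [Fintype F] [DecidableEq F]

section general

variable {n : ℕ} {V V' : Type*} [AddCommGroup V] [Module ℂ V] [AddCommGroup V'] [Module ℂ V']

theorem LvG_mem_wt_act (ψ : AddChar F ℂ) (ρ : Representation ℂ (SpG F n) V) (g : GL (Fin n) F)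
    (B : Matrix (Fin n) (Fin n) F) (v : V) (hv : v ∈ wt ψ ρ B) :
    ρ (LvG g) v ∈ wt ψ ρ (act g B) :=
  Cfsg.Agent.Lib.Helper23.WGLVW.LvG_mem_wt ψ ρ g B v hv

theorem rho_LvG_mul (ρ : Representation ℂ (SpG F n) V) (g h : GL (Fin n) F) (v : V) :
    ρ (LvG g) (ρ (LvG h) v) = ρ (LvG (g * h)) v := by
  rw [Cfsg.Agent.Lib.Helper29.WGLVH.LvG_mul, map_mul]
  rfl

theorem rho_LvG_one (ρ : Representation ℂ (SpG F n) V) (v : V) :
    ρ (LvG (1 : GL (Fin n) F)) v = v := by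
  rw [Cfsg.Agent.Lib.Helper29.WGLVH.LvG_one, map_one]
  rfl

/-- two linear maps which agree on all weight spaces are equal -/
theorem ext_wt (h2 : (2 : F) ≠ 0) (ψ : AddChar F ℂ) (hψ : ψ.IsPrimitive)
    (ρ' : Representation ℂ (SpG F n) V') {W : Type*} [AddCommGroup W] [Module ℂ W]
    (f g : V' →ₗ[ℂ] W)
    (h : ∀ B : Matrix (Fin n) (Fin n) F, Bᵀ = B → ∀ v ∈ wt ψ ρ' B, f v = g v) : f = g := by
  ext v
  rw [← Cfsg.Agent.Lib.Helper17.WGWD.sum_wtProj h2 ψ hψ ρ' v, map_sum, map_sum]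
  exact Finset.sum_congr rfl
    (fun B _ => h B.1 B.2 _ (Cfsg.Agent.Lib.Helper17.WGWD.wtProj_mem ψ ρ' B.1 v))

variable {ι : Type*}

open scoped Classical in
/-- the local map at the weight `B`: transport of `φ i` from the base point `B₀ i` -/
noncomputable def locMap (ρ' : Representation ℂ (SpG F n) V') (ρ : Representation ℂ (SpG F n) V)
    (B₀ : ι → Matrix (Fin n) (Fin n) F) (φ : ι → (V' →ₗ[ℂ] V)) (B : Matrix (Fin n) (Fin n) F) :
    V' →ₗ[ℂ] V :=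
  if h : ∃ (i : ι) (g : GL (Fin n) F), act g (B₀ i) = B then
    ρ (LvG h.choose_spec.choose) ∘ₗ φ h.choose ∘ₗ ρ' (LvG (h.choose_spec.choose)⁻¹)
  else 0

/-- independence of the transporter -/
theorem transport_indep (ψ : AddChar F ℂ) (ρ' : Representation ℂ (SpG F n) V')
    (ρ : Representation ℂ (SpG F n) V) (B₀ : ι → Matrix (Fin n) (Fin n) F) (φ : ι → (V' →ₗ[ℂ] V))
    (hstab : ∀ i, IsStabMap ψ ρ' ρ (B₀ i) (φ i))
    (hdisj : ∀ (i j : ι) (g : GL (Fin n) F), act g (B₀ i) = B₀ j → i = j)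
    (B : Matrix (Fin n) (Fin n) F) (i₀ i : ι) (g₀ g : GL (Fin n) F)
    (hg₀ : act g₀ (B₀ i₀) = B) (hg : act g (B₀ i) = B) (v : V') (hv : v ∈ wt ψ ρ' B) :
    ρ (LvG g₀) (φ i₀ (ρ' (LvG g₀⁻¹) v)) = ρ (LvG g) (φ i (ρ' (LvG g⁻¹) v)) := by
  have hi : i₀ = i := hdisj i₀ i (g⁻¹ * g₀) (by rw [act_mul, hg₀, ← hg, act_inv_act])
  subst hi
  have hs : act (g⁻¹ * g₀) (B₀ i₀) = B₀ i₀ := by rw [act_mul, hg₀, ← hg, act_inv_act]
  have hw : ρ' (LvG g₀⁻¹) v ∈ wt ψ ρ' (B₀ i₀) := by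
    have := LvG_mem_wt_act ψ ρ' g₀⁻¹ B v hv
    rwa [← hg₀, act_inv_act] at this
  have h1 := (hstab i₀).2 (g⁻¹ * g₀) hs _ hw
  rw [rho_LvG_mul, mul_assoc, mul_inv_cancel, mul_one] at h1
  rw [h1, rho_LvG_mul, ← mul_assoc, mul_inv_cancel, one_mul]

theorem locMap_eq (ψ : AddChar F ℂ) (ρ' : Representation ℂ (SpG F n) V')
    (ρ : Representation ℂ (SpG F n) V) (B₀ : ι → Matrix (Fin n) (Fin n) F) (φ : ι → (V' →ₗ[ℂ] V))
    (hstab : ∀ i, IsStabMap ψ ρ' ρ (B₀ i) (φ i))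
    (hdisj : ∀ (i j : ι) (g : GL (Fin n) F), act g (B₀ i) = B₀ j → i = j)
    (B : Matrix (Fin n) (Fin n) F) (i : ι) (g : GL (Fin n) F)
    (hg : act g (B₀ i) = B) (v : V') (hv : v ∈ wt ψ ρ' B) :
    locMap ρ' ρ B₀ φ B v = ρ (LvG g) (φ i (ρ' (LvG g⁻¹) v)) := by
  have h : ∃ (i : ι) (g : GL (Fin n) F), act g (B₀ i) = B := ⟨i, g, hg⟩
  rw [locMap, dif_pos h]
  exact transport_indep ψ ρ' ρ B₀ φ hstab hdisj B _ i _ g h.choose_spec.choose_spec hg v hv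

theorem locMap_mem (ψ : AddChar F ℂ) (ρ' : Representation ℂ (SpG F n) V')
    (ρ : Representation ℂ (SpG F n) V) (B₀ : ι → Matrix (Fin n) (Fin n) F) (φ : ι → (V' →ₗ[ℂ] V))
    (hstab : ∀ i, IsStabMap ψ ρ' ρ (B₀ i) (φ i))
    (hdisj : ∀ (i j : ι) (g : GL (Fin n) F), act g (B₀ i) = B₀ j → i = j)
    (B : Matrix (Fin n) (Fin n) F) (i : ι) (g : GL (Fin n) F)
    (hg : act g (B₀ i) = B) (v : V') (hv : v ∈ wt ψ ρ' B) :
    locMap ρ' ρ B₀ φ B v ∈ wt ψ ρ B := by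
  rw [locMap_eq ψ ρ' ρ B₀ φ hstab hdisj B i g hg v hv]
  have hw : ρ' (LvG g⁻¹) v ∈ wt ψ ρ' (B₀ i) := by
    have := LvG_mem_wt_act ψ ρ' g⁻¹ B v hv
    rwa [← hg, act_inv_act] at this
  have := LvG_mem_wt_act ψ ρ g (B₀ i) _ ((hstab i).1 _ hw)
  rwa [hg] at this

/-- the glued map -/
noncomputable def glue (ψ : AddChar F ℂ) (ρ' : Representation ℂ (SpG F n) V')
    (ρ : Representation ℂ (SpG F n) V) (B₀ : ι → Matrix (Fin n) (Fin n) F)
    (φ : ι → (V' →ₗ[ℂ] V)) : V' →ₗ[ℂ] V :=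
  ∑ B : SymM F n, locMap ρ' ρ B₀ φ B.1 ∘ₗ wtProj ψ ρ' B.1

theorem glue_apply (h2 : (2 : F) ≠ 0) (ψ : AddChar F ℂ) (hψ : ψ.IsPrimitive)
    (ρ' : Representation ℂ (SpG F n) V')
    (ρ : Representation ℂ (SpG F n) V) (B₀ : ι → Matrix (Fin n) (Fin n) F) (φ : ι → (V' →ₗ[ℂ] V))
    (B : Matrix (Fin n) (Fin n) F) (hB : Bᵀ = B) (v : V') (hv : v ∈ wt ψ ρ' B) :
    glue ψ ρ' ρ B₀ φ v = locMap ρ' ρ B₀ φ B v := by
  rw [glue, LinearMap.sum_apply, Finset.sum_eq_single (⟨B, hB⟩ : SymM F n)]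
  · rw [LinearMap.comp_apply, Cfsg.Agent.Lib.Helper17.WGWD.wtProj_of_mem ψ ρ' B v hv]
  · intro B' _ hne
    rw [LinearMap.comp_apply,
      Cfsg.Agent.Lib.Helper17.WGWD.wtProj_of_mem_ne h2 ψ hψ ρ' B'.1 B B'.2 hB
        (fun h => hne (Subtype.ext h)) v hv, map_zero]
  · intro h
    exact absurd (Finset.mem_univ _) h

/-- (Mackey, general form) gluing stabiliser maps at pairwise non-conjugate base points covering all
weights of `V'` to a `P`-homomorphism. -/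
theorem mackey_general (h2 : (2 : F) ≠ 0) (ψ : AddChar F ℂ) (hψ : ψ.IsPrimitive)
    (ρ' : Representation ℂ (SpG F n) V') (ρ : Representation ℂ (SpG F n) V)
    (B₀ : ι → Matrix (Fin n) (Fin n) F) (hB₀ : ∀ i, (B₀ i)ᵀ = B₀ i) (φ : ι → (V' →ₗ[ℂ] V))
    (hstab : ∀ i, IsStabMap ψ ρ' ρ (B₀ i) (φ i))
    (hdisj : ∀ (i j : ι) (g : GL (Fin n) F), act g (B₀ i) = B₀ j → i = j)
    (hcover : ∀ B : Matrix (Fin n) (Fin n) F, Bᵀ = B → wt ψ ρ' B ≠ ⊥ →
      ∃ (i : ι) (g : GL (Fin n) F), act g (B₀ i) = B) :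
    ∃ Φ : V' →ₗ[ℂ] V,
      (∀ (S : Matrix (Fin n) (Fin n) F) (hS : Sᵀ = S), Comm ρ' ρ Φ (Xs S hS)) ∧
      (∀ g : GL (Fin n) F, Comm ρ' ρ Φ (LvG g)) ∧
      (∀ i, ∀ v ∈ wt ψ ρ' (B₀ i), Φ v = φ i v) := by
  refine ⟨glue ψ ρ' ρ B₀ φ, ?_, ?_, ?_⟩
  · intro S hS v
    have key : glue ψ ρ' ρ B₀ φ ∘ₗ ρ' (Xs S hS) = ρ (Xs S hS) ∘ₗ glue ψ ρ' ρ B₀ φ := by
      apply ext_wt h2 ψ hψ ρ'
      intro B hB w hw
      by_cases hw0 : w = 0
      · rw [hw0, map_zero, map_zero]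
      have hne : wt ψ ρ' B ≠ ⊥ := by
        intro h
        rw [h] at hw
        exact hw0 ((Submodule.mem_bot ℂ).mp hw)
      obtain ⟨i, g, hg⟩ := hcover B hB hne
      rw [LinearMap.comp_apply, LinearMap.comp_apply, hw S hS, map_smul,
        glue_apply h2 ψ hψ ρ' ρ B₀ φ B hB w hw]
      exact ((locMap_mem ψ ρ' ρ B₀ φ hstab hdisj B i g hg w hw) S hS).symm
    exact LinearMap.congr_fun key v
  · intro h v
    have key : glue ψ ρ' ρ B₀ φ ∘ₗ ρ' (LvG h) = ρ (LvG h) ∘ₗ glue ψ ρ' ρ B₀ φ := by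
      apply ext_wt h2 ψ hψ ρ'
      intro B hB w hw
      by_cases hw0 : w = 0
      · rw [hw0, map_zero, map_zero]
      have hne : wt ψ ρ' B ≠ ⊥ := by
        intro h
        rw [h] at hw
        exact hw0 ((Submodule.mem_bot ℂ).mp hw)
      obtain ⟨i, g, hg⟩ := hcover B hB hne
      have hw' : ρ' (LvG h) w ∈ wt ψ ρ' (act h B) := LvG_mem_wt_act ψ ρ' h B w hw
      have hg' : act (h * g) (B₀ i) = act h B := by rw [act_mul, hg]
      rw [LinearMap.comp_apply, LinearMap.comp_apply,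
        glue_apply h2 ψ hψ ρ' ρ B₀ φ (act h B) (act_transpose h B hB) _ hw',
        glue_apply h2 ψ hψ ρ' ρ B₀ φ B hB w hw,
        locMap_eq ψ ρ' ρ B₀ φ hstab hdisj (act h B) i (h * g) hg' _ hw',
        locMap_eq ψ ρ' ρ B₀ φ hstab hdisj B i g hg w hw,
        rho_LvG_mul ρ' _ h w, rho_LvG_mul ρ h g, _root_.mul_inv_rev, mul_assoc, inv_mul_cancel,
        mul_one]
    exact LinearMap.congr_fun key v
  · intro i v hv
    rw [glue_apply h2 ψ hψ ρ' ρ B₀ φ (B₀ i) (hB₀ i) v hv,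
      locMap_eq ψ ρ' ρ B₀ φ hstab hdisj (B₀ i) i 1 (act_one _) v hv, inv_one, rho_LvG_one,
      rho_LvG_one]

end general

section mackey

variable {n : ℕ} {V V' : Type u} [AddCommGroup V] [Module ℂ V] [AddCommGroup V'] [Module ℂ V']

/-- (MKE) existence: a `P`-homomorphism with prescribed restrictions to the weight spaces of `0`,
`E_00` and `ν E_00` (`ν` a non-square: every non-zero weight of rank one is `L`-conjugate to `E_00` or
`ν E_00`).  Define `Φ` on `V'_B`, `B = g . B_κ`, as `g φ_κ g⁻¹`, and `Φ = ∑_B Φ_B ∘ wtProj B`. -/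
theorem exists_P_hom (h2 : (2 : F) ≠ 0) (ψ : AddChar F ℂ) (hψ : ψ.IsPrimitive) (ν : F)
    (hν : ¬ IsSquare ν) (ρ' : Representation ℂ (SpG F (n + 1)) V')
    (ρ : Representation ℂ (SpG F (n + 1)) V) (hW' : IsW ψ ρ')
    (a φ₁ φ₂ : V' →ₗ[ℂ] V) (ha : IsStabMap ψ ρ' ρ 0 a)
    (h₁ : IsStabMap ψ ρ' ρ (single 0 0 1) φ₁) (h₂ : IsStabMap ψ ρ' ρ (single 0 0 ν) φ₂) :
    ∃ Φ : V' →ₗ[ℂ] V,
      (∀ (S : Matrix (Fin (n + 1)) (Fin (n + 1)) F) (hS : Sᵀ = S), Comm ρ' ρ Φ (Xs S hS)) ∧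
      (∀ g : GL (Fin (n + 1)) F, Comm ρ' ρ Φ (LvG g)) ∧
      (∀ v ∈ wt ψ ρ' 0, Φ v = a v) ∧
      (∀ v ∈ wt ψ ρ' (single 0 0 1), Φ v = φ₁ v) ∧
      (∀ v ∈ wt ψ ρ' (single 0 0 ν), Φ v = φ₂ v) := by
  have hν0 : ν ≠ 0 := by
    intro h
    apply hν
    rw [h]
    exact ⟨0, by simp⟩
  have hν1 : ν ≠ 1 := by
    intro h
    apply hν
    rw [h]
    exact ⟨1, by simp⟩
  have h10 : (1 : F) ≠ 0 := one_ne_zero
  let k : Fin 3 → F := ![0, 1, ν]
  let B₀ : Fin 3 → Matrix (Fin (n + 1)) (Fin (n + 1)) F := fun i => single 0 0 (k i)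
  let φ : Fin 3 → (V' →ₗ[ℂ] V) := ![a, φ₁, φ₂]
  have hk : ∀ i j : Fin 3, k i = k j → i = j := by
    intro i j h
    fin_cases i <;> fin_cases j <;> simp [k] at h ⊢ <;> first | exact absurd h hν0 | exact absurd h.symm hν0 | exact absurd h hν1 | exact absurd h.symm hν1 | skip
  have hsingle_inj : ∀ c c' : F, (single 0 0 c : Matrix (Fin (n + 1)) (Fin (n + 1)) F) = single 0 0 c' →
      c = c' := by
    intro c c' h
    have := congrFun (congrFun h 0) 0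
    simpa using this
  have hB₀ : ∀ i, (B₀ i)ᵀ = B₀ i := by
    intro i
    simp [B₀]
  have hstab : ∀ i, IsStabMap ψ ρ' ρ (B₀ i) (φ i) := by
    intro i
    fin_cases i
    · simpa [B₀, k, φ] using ha
    · simpa [B₀, k, φ] using h₁
    · simpa [B₀, k, φ] using h₂
  have hdisj : ∀ (i j : Fin 3) (g : GL (Fin (n + 1)) F), act g (B₀ i) = B₀ j → i = j := by
    intro i j g h
    apply hk
    have hki : k i = 0 ∨ k i = 1 ∨ k i = ν := by
      fin_cases i <;> simp [k]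
    have hkj : k j = 0 ∨ k j = 1 ∨ k j = ν := by
      fin_cases j <;> simp [k]
    show k i = k j
    change act g (single 0 0 (k i)) = single 0 0 (k j) at h
    rcases hki with hi | hi
    · rw [hi, single_zero, act_zero] at h
      rw [hi]
      have : (single 0 0 (0 : F) : Matrix (Fin (n + 1)) (Fin (n + 1)) F) = single 0 0 (k j) := by
        rw [single_zero]; exact h
      exact hsingle_inj _ _ this
    · rcases hkj with hj | hj
      · rw [hj, single_zero, act_eq_zero_iff] at h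
        rw [hj]
        have : (single 0 0 (k i) : Matrix (Fin (n + 1)) (Fin (n + 1)) F) = single 0 0 0 := by
          rw [single_zero]; exact h
        exact hsingle_inj _ _ this
      · exact kappa_unique ν hν g (k i) (k j) hi hj h
  have hcover : ∀ B : Matrix (Fin (n + 1)) (Fin (n + 1)) F, Bᵀ = B → wt ψ ρ' B ≠ ⊥ →
      ∃ (i : Fin 3) (g : GL (Fin (n + 1)) F), act g (B₀ i) = B := by
    intro B hB hne
    obtain ⟨c, v, hcv⟩ := hW' B hB hne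
    by_cases hB0 : B = 0
    · refine ⟨0, 1, ?_⟩
      rw [act_one, hB0]
      simp [B₀, k]
    · rw [hcv] at hB0
      obtain ⟨g, κ, hκ, hg⟩ := orbit_rep h2 ν hν c v hB0
      rcases hκ with rfl | rfl
      · refine ⟨1, g, ?_⟩
        rw [hcv, ← hg]
        simp [B₀, k, act_def]
      · refine ⟨2, g, ?_⟩
        rw [hcv, ← hg]
        simp [B₀, k, act_def]
  obtain ⟨Φ, hQ, hL, hval⟩ :=
    mackey_general h2 ψ hψ ρ' ρ B₀ hB₀ φ hstab hdisj hcover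
  refine ⟨Φ, hQ, hL, ?_, ?_, ?_⟩
  · intro v hv
    have := hval 0 v (by simpa [B₀, k] using hv)
    simpa [φ] using this
  · intro v hv
    have := hval 1 v (by simpa [B₀, k] using hv)
    simpa [φ] using this
  · intro v hv
    have := hval 2 v (by simpa [B₀, k] using hv)
    simpa [φ] using this

end mackey

end Cfsg.Agent.Lib.Helper24.WGMKE
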