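/-
helper24: S2524 leaf MKU (twin) - Mackey uniqueness for `P = Q ⋊ L` on (W)-modules.
-/
import Mathlib
import Cfsg.Agent.Lib.Helper10.WGDefs
import Cfsg.Agent.Lib.Helper24.WGMKE

set_option autoImplicit false

namespace Cfsg.Agent.Lib.Helper24.WGMKU

open Matrix Cfsg.Agent.Lib.Helper11.LS Cfsg.Agent.Lib.Helper10.WG Cfsg.Agent.Lib.Helper24.WGORB
  Cfsg.Agent.Lib.Helper24.WGMKE

universe u

variable {F : Type*} [Field F] [Fintype F] [DecidableEq F]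

section mackey

variable {n : ℕ} {V V' : Type u} [AddCommGroup V] [Module ℂ V] [AddCommGroup V'] [Module ℂ V']

/-- (MKU) uniqueness. -/
theorem P_hom_unique (h2 : (2 : F) ≠ 0) (ψ : AddChar F ℂ) (hψ : ψ.IsPrimitive) (ν : F)
    (hν : ¬ IsSquare ν) (ρ' : Representation ℂ (SpG F (n + 1)) V')
    (ρ : Representation ℂ (SpG F (n + 1)) V) (hW' : IsW ψ ρ') (Φ Ψ : V' →ₗ[ℂ] V)
    (hΦQ : ∀ (S : Matrix (Fin (n + 1)) (Fin (n + 1)) F) (hS : Sᵀ = S), Comm ρ' ρ Φ (Xs S hS))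
    (hΦL : ∀ g : GL (Fin (n + 1)) F, Comm ρ' ρ Φ (LvG g))
    (hΨQ : ∀ (S : Matrix (Fin (n + 1)) (Fin (n + 1)) F) (hS : Sᵀ = S), Comm ρ' ρ Ψ (Xs S hS))
    (hΨL : ∀ g : GL (Fin (n + 1)) F, Comm ρ' ρ Ψ (LvG g))
    (h0 : ∀ v ∈ wt ψ ρ' 0, Φ v = Ψ v)
    (h1 : ∀ v ∈ wt ψ ρ' (single 0 0 1), Φ v = Ψ v)
    (h2' : ∀ v ∈ wt ψ ρ' (single 0 0 ν), Φ v = Ψ v) : Φ = Ψ := by
  apply ext_wt h2 ψ hψ ρ'
  intro B hB v hv
  by_cases hv0 : v = 0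
  · rw [hv0, map_zero, map_zero]
  have hne : wt ψ ρ' B ≠ ⊥ := by
    intro h
    rw [h] at hv
    exact hv0 ((Submodule.mem_bot ℂ).mp hv)
  obtain ⟨c, x, hcx⟩ := hW' B hB hne
  by_cases hB0 : B = 0
  · rw [hB0] at hv
    exact h0 v hv
  · rw [hcx] at hB0
    obtain ⟨g, κ, hκ, hg⟩ := orbit_rep h2 ν hν c x hB0
    have hgB : act g (single 0 0 κ) = B := by
      rw [hcx, ← hg, act_def]
    have hw : ρ' (LvG g⁻¹) v ∈ wt ψ ρ' (single 0 0 κ) := by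
      have := LvG_mem_wt_act ψ ρ' g⁻¹ B v hv
      rwa [← hgB, act_inv_act] at this
    have hΦΨ : Φ (ρ' (LvG g⁻¹) v) = Ψ (ρ' (LvG g⁻¹) v) := by
      rcases hκ with rfl | rfl
      · exact h1 _ hw
      · exact h2' _ hw
    have hv' : v = ρ' (LvG g) (ρ' (LvG g⁻¹) v) := by
      rw [rho_LvG_mul, mul_inv_cancel, rho_LvG_one]
    rw [hv', hΦL g _, hΨL g _, hΦΨ]

end mackey

end Cfsg.Agent.Lib.Helper24.WGMKU
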