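import Mathlib
import Cfsg.Agent.Lib.Helper11.LSDefs

/-!
# S2333 leaf P1: the orthogonal complement of a hyperbolic pair

`finrank_perp2`: `dim {v,w}^⊥ + 2 = dim V` for a hyperbolic pair `(v, w)`;
`nondef_perp2`: the restriction of a non-defective form to `{v,w}^⊥` is non-defective.
-/

set_option autoImplicit false

open QuadraticMap Module Cfsg.Agent.Lib.Helper11.LS

universe u

namespace Cfsg.Agent.Lib.Helper24.LSLeaf

variable {F : Type*} [Field F] {V : Type u} [AddCommGroup V] [Module F V]

theorem polar_self_of_eq_zero (Q : QuadraticForm F V) {v : V} (h : Q v = 0) : polar Q v v = 0 := by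
  rw [polar_self, h, smul_zero]

/-- the two coordinate functionals of a hyperbolic pair -/
noncomputable def pairMap (Q : QuadraticForm F V) (v w : V) : V →ₗ[F] F × F :=
  (Q.polarBilin v).prod (Q.polarBilin w)

theorem pairMap_apply (Q : QuadraticForm F V) (v w x : V) :
    pairMap Q v w x = (polar Q v x, polar Q w x) := rfl

theorem ker_pairMap (Q : QuadraticForm F V) (v w : V) :
    LinearMap.ker (pairMap Q v w) = perp2 Q v w := by
  ext x
  rw [LinearMap.mem_ker, pairMap_apply, mem_perp2, Prod.mk_eq_zero]

theorem pairMap_surjective (Q : QuadraticForm F V) {v w : V} (h : IsHypPair Q v w) :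
    Function.Surjective (pairMap Q v w) := by
  rintro ⟨a, b⟩
  refine ⟨a • w + b • v, ?_⟩
  rw [pairMap_apply]
  have hvv : polar Q v v = 0 := polar_self_of_eq_zero Q h.1
  have hww : polar Q w w = 0 := polar_self_of_eq_zero Q h.2.1
  have hvw : polar Q v w = 1 := h.2.2
  have hwv : polar Q w v = 1 := by rw [polar_comm]; exact hvw
  refine Prod.ext ?_ ?_
  · show polar Q v (a • w + b • v) = a
    rw [polar_add_right, polar_smul_right, polar_smul_right, hvv, hvw]
    simp
  · show polar Q w (a • w + b • v) = b
    rw [polar_add_right, polar_smul_right, polar_smul_right, hww, hwv]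
    simp

theorem finrank_perp2 [CharP F 2] [FiniteDimensional F V] (Q : QuadraticForm F V) {v w : V}
    (h : IsHypPair Q v w) : finrank F (perp2 Q v w) + 2 = finrank F V := by
  have h1 := LinearMap.finrank_range_add_finrank_ker (pairMap Q v w)
  rw [LinearMap.range_eq_top.2 (pairMap_surjective Q h), ker_pairMap] at h1
  have h2 : finrank F (⊤ : Submodule F (F × F)) = 2 := by
    rw [finrank_top, Module.finrank_prod, Module.finrank_self]
  omega

theorem nondef_perp2 [CharP F 2] (Q : QuadraticForm F V) (hQ : Nondef Q) {v w : V}
    (h : IsHypPair Q v w) : Nondef (Q.comp (perp2 Q v w).subtype) := by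
  intro x hx hx0
  have hvv : polar Q v v = 0 := polar_self_of_eq_zero Q h.1
  have hww : polar Q w w = 0 := polar_self_of_eq_zero Q h.2.1
  have hvw : polar Q v w = 1 := h.2.2
  have hwv : polar Q w v = 1 := by rw [polar_comm]; exact hvw
  have hxv : polar Q (x : V) v = 0 := by rw [polar_comm]; exact x.2.1
  have hxw : polar Q (x : V) w = 0 := by rw [polar_comm]; exact x.2.2
  have hx0' : Q (x : V) = 0 := hx0
  have key : ∀ z : V, polar Q (x : V) z = 0 := by
    intro z
    set z' : V := z - (polar Q w z) • v - (polar Q v z) • w with hz'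
    have hz'mem : z' ∈ perp2 Q v w := by
      refine ⟨?_, ?_⟩
      · rw [hz', polar_sub_right, polar_sub_right, polar_smul_right, polar_smul_right, hvv, hvw]
        simp
      · rw [hz', polar_sub_right, polar_sub_right, polar_smul_right, polar_smul_right, hww, hwv]
        simp
    have h1 : polar Q (x : V) z' = 0 := by
      have := hx ⟨z', hz'mem⟩
      simpa [polar, QuadraticMap.comp_apply] using this
    have hz : z = z' + (polar Q w z) • v + (polar Q v z) • w := by
      rw [hz']; abel
    rw [hz, polar_add_right, polar_add_right, polar_smul_right, polar_smul_right, h1, hxv, hxw]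
    simp
  have := hQ (x : V) key hx0'
  exact Subtype.ext this

end Cfsg.Agent.Lib.Helper24.LSLeaf
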