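import Mathlib
import Cfsg.Agent.Lib.Helper11.LSDefs

/-!
# S2333 leaf Q3: a non-defective form of dimension at least two (finite field of
characteristic two) has non-zero polar form
-/

set_option autoImplicit false

open QuadraticMap Module Cfsg.Agent.Lib.Helper11.LS

universe u

namespace Cfsg.Agent.Lib.Helper24.LSLeaf

variable {F : Type*} [Field F] {V : Type u} [AddCommGroup V] [Module F V]

/-- every element of a finite field of characteristic two is a square -/
theorem exists_mul_self_eq [Fintype F] [CharP F 2] (a : F) : ∃ b : F, b * b = a := by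
  have h2 : ringChar F = 2 := ringChar.eq F 2
  obtain ⟨r, hr⟩ := FiniteField.isSquare_of_char_two h2 a
  exact ⟨r, hr.symm⟩

theorem two_smul_eq_zero [CharP F 2] (c : F) : c + c = 0 := by
  have : (2 : F) = 0 := CharTwo.two_eq_zero
  linear_combination c * this

theorem exists_polar_ne_zero [Fintype F] [CharP F 2] [Finite V] (Q : QuadraticForm F V)
    (hQ : Nondef Q) (h : 2 ≤ finrank F V) : ∃ v w, polar Q v w ≠ 0 := by
  by_contra hcon
  push Not at hcon
  have hne : ∀ v : V, v ≠ 0 → Q v ≠ 0 := fun v hv hv0 => hv (hQ v (hcon v) hv0)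
  have : Nontrivial V := Module.nontrivial_of_finrank_pos (R := F) (by omega)
  obtain ⟨x, hx⟩ := exists_ne (0 : V)
  obtain ⟨y, hxy⟩ := exists_linearIndependent_pair_of_one_lt_finrank (R := F) (by omega) hx
  have hQx : Q x ≠ 0 := hne x hx
  obtain ⟨a, ha⟩ := exists_mul_self_eq (Q y / Q x)
  have h0 : Q (y + a • x) = 0 := by
    rw [QuadraticMap.map_add Q y (a • x), hcon, add_zero, QuadraticMap.map_smul, smul_eq_mul, ha,
      div_mul_cancel₀ _ hQx]
    exact two_smul_eq_zero (Q y)
  have h1 : y + a • x = 0 := by
    by_contra hz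
    exact hne _ hz h0
  rw [LinearIndependent.pair_iff] at hxy
  have := hxy a 1 (by rw [one_smul, add_comm]; exact h1)
  exact one_ne_zero this.2

end Cfsg.Agent.Lib.Helper24.LSLeaf
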