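import Mathlib
import Cfsg.Agent.Lib.Helper11.LSDefs
import Cfsg.Agent.Lib.Helper24.LSQ3

/-!
# S2333 leaf Q4: a non-defective form of dimension at least three (finite field of
characteristic two) has a hyperbolic pair
-/

set_option autoImplicit false

open QuadraticMap Module Cfsg.Agent.Lib.Helper11.LS

universe u

namespace Cfsg.Agent.Lib.Helper24.LSLeaf

variable {F : Type*} [Field F] {V : Type u} [AddCommGroup V] [Module F V]

/-- a non-zero singular vector exists in dimension at least three -/
theorem exists_singular [Fintype F] [CharP F 2] [Finite V] (Q : QuadraticForm F V)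
    (h : 3 ≤ finrank F V) : ∃ v : V, v ≠ 0 ∧ Q v = 0 := by
  have : Nontrivial V := Module.nontrivial_of_finrank_pos (R := F) (by omega)
  obtain ⟨x, hx⟩ := exists_ne (0 : V)
  by_cases hQx : Q x = 0
  · exact ⟨x, hx, hQx⟩
  -- the kernel of `polar x ·` has dimension at least two
  set φ : V →ₗ[F] F := Q.polarBilin x with hφ
  have hker : 2 ≤ finrank F (LinearMap.ker φ) := by
    have h1 := LinearMap.finrank_range_add_finrank_ker φ
    have h2 : finrank F (LinearMap.range φ) ≤ 1 := by
      have := Submodule.finrank_le (LinearMap.range φ)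
      rwa [Module.finrank_self] at this
    omega
  have hnle : ¬ LinearMap.ker φ ≤ Submodule.span F {x} := by
    intro hle
    have h1 := Submodule.finrank_mono hle
    have h2 : finrank F (Submodule.span F {x}) ≤ 1 := by
      have := finrank_span_le_card (R := F) ({x} : Set V)
      simpa using this
    omega
  obtain ⟨y, hyker, hyx⟩ := SetLike.not_le_iff_exists.1 hnle
  have hxy : polar Q x y = 0 := LinearMap.mem_ker.1 hyker
  obtain ⟨a, ha⟩ := exists_mul_self_eq (Q y / Q x)
  refine ⟨y + a • x, ?_, ?_⟩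
  · intro h0
    apply hyx
    have : y = (-a) • x := by
      rw [neg_smul]
      exact eq_neg_of_add_eq_zero_left h0
    rw [this]
    exact Submodule.smul_mem _ _ (Submodule.mem_span_singleton_self x)
  · rw [QuadraticMap.map_add Q y (a • x), polar_smul_right, polar_comm, hxy, smul_zero, add_zero,
      QuadraticMap.map_smul, smul_eq_mul, ha, div_mul_cancel₀ _ hQx]
    exact two_smul_eq_zero (Q y)

theorem exists_hypPair [Fintype F] [CharP F 2] [Finite V] (Q : QuadraticForm F V) (hQ : Nondef Q)
    (h : 3 ≤ finrank F V) : ∃ v w, IsHypPair Q v w := by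
  obtain ⟨v, hv, hQv⟩ := exists_singular Q h
  have hex : ∃ w₀, polar Q v w₀ ≠ 0 := by
    by_contra hcon
    push Not at hcon
    exact hv (hQ v hcon hQv)
  obtain ⟨w₀, hw₀⟩ := hex
  obtain ⟨w₁, h1⟩ : ∃ w₁, polar Q v w₁ = 1 :=
    ⟨(polar Q v w₀)⁻¹ • w₀, by rw [polar_smul_right, smul_eq_mul, inv_mul_cancel₀ hw₀]⟩
  have hvv : polar Q v v = 0 := by rw [polar_self, hQv, smul_zero]
  obtain ⟨c, hc⟩ : ∃ c : F, c = Q w₁ := ⟨_, rfl⟩
  refine ⟨v, w₁ + c • v, hQv, ?_, ?_⟩
  · rw [QuadraticMap.map_add Q w₁ (c • v), QuadraticMap.map_smul, hQv, smul_zero, add_zero,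
      polar_smul_right, polar_comm, h1, smul_eq_mul, mul_one, hc]
    exact two_smul_eq_zero (Q w₁)
  · rw [polar_add_right, polar_smul_right, hvv, smul_zero, add_zero, h1]

end Cfsg.Agent.Lib.Helper24.LSLeaf
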