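/- helper24: orthogonal toolkit A: totally singular subspaces of quadratic spaces -/
import Mathlib
import Cfsg.Agent.Lib.Helper12.UnC
import Cfsg.Agent.Lib.Helper15.OrthSemi

set_option autoImplicit false

namespace Cfsg.Agent.Lib.Helper24.Or

open Module QuadraticMap Polynomial Cfsg.Agent.Lib.Helper12.Elus Cfsg.Agent.Lib.Helper12

section basic

variable {F V : Type*} [Field F] [AddCommGroup V] [Module F V] (Q : QuadraticForm F V)

/-- the polar form as a bilinear form -/
abbrev pB : LinearMap.BilinForm F V := polarBilin Q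

/-- `Q` vanishes on `W` -/
def TS (W : Submodule F V) : Prop := ∀ w ∈ W, Q w = 0

theorem pB_apply (u v : V) : pB Q u v = polar Q u v := rfl

theorem pB_sym (u v : V) : pB Q v u = (RingHom.id F) (pB Q u v) := by
  rw [pB_apply, pB_apply, polar_comm]
  rfl

theorem id_invol (a : F) : (RingHom.id F) ((RingHom.id F) a) = a := rfl

theorem ts_bot : TS Q ⊥ := by
  intro w hw
  rw [(Submodule.mem_bot F).1 hw, QuadraticMap.map_zero]

theorem TS.mono {W W' : Submodule F V} (h : TS Q W) (hle : W' ≤ W) : TS Q W' :=
  fun w hw => h w (hle hw)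

theorem TS.polar_zero {W : Submodule F V} (h : TS Q W) (u v : V) (hu : u ∈ W) (hv : v ∈ W) :
    polar Q u v = 0 := by
  rw [QuadraticMap.polar, h _ (W.add_mem hu hv), h u hu, h v hv]
  ring

theorem TS.le_orth {W : Submodule F V} (h : TS Q W) : W ≤ Un.orth (pB Q) W := by
  intro w hw n hn
  exact h.polar_zero Q n w hn hw

theorem TS.sup {W₁ W₂ : Submodule F V} (h₁ : TS Q W₁) (h₂ : TS Q W₂)
    (horth : ∀ a ∈ W₁, ∀ b ∈ W₂, polar Q a b = 0) : TS Q (W₁ ⊔ W₂) := by
  intro w hw
  obtain ⟨a, ha, b, hb, rfl⟩ := Submodule.mem_sup.1 hw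
  have : Q (a + b) = Q a + Q b + polar Q a b := by
    rw [QuadraticMap.polar]; ring
  rw [this, h₁ a ha, h₂ b hb, horth a ha b hb]
  ring

/-- a span of pairwise orthogonal singular vectors is totally singular -/
theorem ts_span {ι : Type*} (v : ι → V) (hv : ∀ i, Q (v i) = 0)
    (horth : ∀ i j, polar Q (v i) (v j) = 0) : TS Q (Submodule.span F (Set.range v)) := by
  intro w hw
  have key : ∀ w ∈ Submodule.span F (Set.range v), Q w = 0 ∧ ∀ j, polar Q w (v j) = 0 := by
    intro w hw
    refine Submodule.span_induction ?_ ?_ ?_ ?_ hw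
    · rintro _ ⟨i, rfl⟩
      exact ⟨hv i, fun j => horth i j⟩
    · refine ⟨QuadraticMap.map_zero Q, fun j => ?_⟩
      rw [polar_zero_left]
    · intro x z hx hz ihx ihz
      -- need polar x z = 0
      have hxz : polar Q x z = 0 := by
        have : ∀ z ∈ Submodule.span F (Set.range v), polar Q x z = 0 := by
          intro z hz
          refine Submodule.span_induction ?_ ?_ ?_ ?_ hz
          · rintro _ ⟨j, rfl⟩
            exact ihx.2 j
          · rw [polar_zero_right]
          · intro a b _ _ ha hb
            rw [polar_add_right, ha, hb, add_zero]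
          · intro c a _ ha
            rw [polar_smul_right, ha, smul_zero]
        exact this z hz
      refine ⟨?_, fun j => ?_⟩
      · have : Q (x + z) = Q x + Q z + polar Q x z := by
          rw [QuadraticMap.polar]; ring
        rw [this, ihx.1, ihz.1, hxz]
        ring
      · rw [polar_add_left, ihx.2 j, ihz.2 j, add_zero]
    · intro c x _ ihx
      refine ⟨?_, fun j => ?_⟩
      · rw [QuadraticMap.map_smul, ihx.1, smul_zero]
      · rw [polar_smul_left, ihx.2 j, smul_zero]
  exact (key w hw).1

end basic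

end Cfsg.Agent.Lib.Helper24.Or
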