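import Mathlib
import Cfsg.Agent.Lib.Helper11.Su2Tools

/-! S2153 market "SU2", leaf S3B: a complement `Q` of `H` normalised by `τ ∈ H` is a `τ`-equivariant
transversal, so the fixed points of `τ` on `G ⧸ H` correspond to the centraliser of `τ` in `Q`. -/

set_option autoImplicit false

namespace Cfsg.Agent.Lib.Helper24.Su2Leaf

open MulAction Pointwise Cfsg.Agent.Lib.Helper11.Su2

theorem card_fixed_eq_card_centralizer {G : Type*} [Group G] [Finite G] (H Q : Subgroup G)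
    (hbot : H ⊓ Q = ⊥) (hidx : H.index = Nat.card Q) {τ : G} (hτ : τ ∈ H)
    (hnorm : ∀ q ∈ Q, τ * q * τ⁻¹ ∈ Q) :
    Nat.card {c : G ⧸ H // τ • c = c} = Nat.card {q : Q // τ * (q : G) * τ⁻¹ = q} := by
  classical
  let f : Q → G ⧸ H := fun q => ((q : G) : G ⧸ H)
  have hinj : Function.Injective f := by
    intro q q' hqq
    have h1 : (q : G)⁻¹ * (q' : G) ∈ H := QuotientGroup.eq.mp hqq
    have h2 : (q : G)⁻¹ * (q' : G) ∈ Q := Q.mul_mem (Q.inv_mem q.2) q'.2
    have h3 : (q : G)⁻¹ * (q' : G) ∈ H ⊓ Q := ⟨h1, h2⟩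
    rw [hbot, Subgroup.mem_bot] at h3
    apply Subtype.ext
    exact (inv_mul_eq_one.mp h3)
  have hcard : Nat.card (G ⧸ H) ≤ Nat.card Q := by
    have : Nat.card (G ⧸ H) = H.index := rfl
    rw [this, hidx]
  have hbij : Function.Bijective f := hinj.bijective_of_nat_card_le hcard
  let e : Q ≃ G ⧸ H := Equiv.ofBijective f hbij
  symm
  apply Nat.card_congr
  refine e.subtypeEquiv ?_
  intro q
  have hsm : τ • ((q : G) : G ⧸ H) = ((τ * (q : G) * τ⁻¹ : G) : G ⧸ H) := by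
    rw [MulAction.Quotient.smul_mk, smul_eq_mul]
    apply QuotientGroup.eq.mpr
    have : (τ * (q : G))⁻¹ * (τ * (q : G) * τ⁻¹) = τ⁻¹ := by group
    rw [this]
    exact H.inv_mem hτ
  change τ * (q : G) * τ⁻¹ = q ↔ τ • ((q : G) : G ⧸ H) = ((q : G) : G ⧸ H)
  rw [hsm]
  constructor
  · intro h
    rw [h]
  · intro h
    have := @hinj ⟨τ * (q : G) * τ⁻¹, hnorm q q.2⟩ q h
    exact congrArg Subtype.val this

end Cfsg.Agent.Lib.Helper24.Su2Leaf
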