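import Mathlib
import Cfsg.Agent.Lib.Helper11.Su2Tools

/-! S2153 market "SU2", leaf P1: duality for the trace form `tr (h u v)` on `V` seen as a vector space
over the field with two elements. -/

set_option autoImplicit false

namespace Cfsg.Agent.Lib.Helper24.Su2Leaf

open MulAction Pointwise Cfsg.Agent.Lib.Helper11.Su2

variable {F V G : Type*} [Field F] [AddCommGroup V] [Module F V] [Group G] [DistribMulAction G V]

/-- the trace `F → ZMod 2` as a plain function -/
noncomputable def trFun (a : F) : ZMod 2 := by
  classical exact if a + a * a = 0 then 0 else 1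

theorem trFun_eq_zero_iff (a : F) : trFun a = 0 ↔ a + a * a = 0 := by
  classical
  unfold trFun
  split_ifs with h
  · simp [h]
  · simp [h]

variable (S : Setting F V G)

include S in
theorem trFun_add (a b : F) : trFun (a + b) = trFun a + trFun b := by
  classical
  have h11 : (1 : F) + 1 = 0 := S.add_self 1
  have h1 : (1 : F) ≠ 0 := one_ne_zero
  unfold trFun
  rw [S.tr_add a b]
  rcases S.tr_mem a with ha | ha <;> rcases S.tr_mem b with hb | hb <;> rw [ha, hb] <;>
    simp [h11, h1] <;> decide

theorem card_mul_card_perp [Finite V] (U : AddSubgroup V) :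
    Nat.card U * Nat.card (S.perp U) = Nat.card V := by
  classical
  let _ : Module (ZMod 2) V :=
    AddCommGroup.zmodModule (n := 2) (by intro x; rw [two_nsmul]; exact S.vadd_self x)
  have hc2 : ∀ c : ZMod 2, c = 0 ∨ c = 1 := by decide
  have ht0 : trFun (0 : F) = 0 := (trFun_eq_zero_iff _).mpr (by ring)
  let B : LinearMap.BilinForm (ZMod 2) V :=
    LinearMap.mk₂ (ZMod 2) (fun u v => trFun (S.h u v))
      (by intro u u' v; simp only [S.h_add_left, trFun_add S])
      (by
        intro c u v
        rcases hc2 c with rfl | rfl
        · rw [zero_smul, zero_smul, S.h_zero_left, ht0]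
        · rw [one_smul, one_smul])
      (by intro u v v'; simp only [S.h_add_right, trFun_add S])
      (by
        intro c u v
        rcases hc2 c with rfl | rfl
        · rw [zero_smul, zero_smul, S.h_zero_right, ht0]
        · rw [one_smul, one_smul])
  have hB : ∀ u v, B u v = trFun (S.h u v) := fun u v => rfl
  have hsep : ∀ x : V, (∀ y, S.h x y + S.h x y * S.h x y = 0) → x = 0 := by
    intro x hx
    apply S.nondeg
    intro y
    apply S.eq_zero_of_tr_mul (hx y)
    have := hx ((S.om * S.om) • y)
    rwa [S.h_smul_right, S.frob] at this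
  have hnd : B.Nondegenerate := by
    refine ⟨?_, ?_⟩
    · intro x hx
      apply hsep x
      intro y
      exact (trFun_eq_zero_iff _).mp ((hB x y).symm.trans (hx y))
    · intro y hy
      apply hsep y
      intro x
      rw [S.tr_h_symm]
      exact (trFun_eq_zero_iff _).mp ((hB x y).symm.trans (hy x))
  have : Module.Finite (ZMod 2) V := Module.Finite.of_finite
  let W : Submodule (ZMod 2) V := AddSubgroup.toZModSubmodule 2 U
  have h1 := LinearMap.BilinForm.finrank_orthogonal hnd W
  have h2 : Module.finrank (ZMod 2) W ≤ Module.finrank (ZMod 2) V := Submodule.finrank_le W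
  have hWU : Nat.card W = Nat.card U := rfl
  have hperp : Nat.card (B.orthogonal W) = Nat.card (S.perp U) := by
    apply Nat.card_congr
    apply Equiv.subtypeEquivRight
    intro v
    rw [LinearMap.BilinForm.mem_orthogonal_iff, S.mem_perp]
    constructor
    · intro h u hu
      exact (trFun_eq_zero_iff _).mp ((hB u v).symm.trans (h u hu))
    · intro h u hu
      exact (hB u v).trans ((trFun_eq_zero_iff _).mpr (h u hu))
  rw [← hWU, ← hperp, Module.natCard_eq_pow_finrank (K := ZMod 2) (V := W),
    Module.natCard_eq_pow_finrank (K := ZMod 2) (V := B.orthogonal W),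
    Module.natCard_eq_pow_finrank (K := ZMod 2) (V := V), h1, ← pow_add]
  congr 1
  omega

theorem perp_perp [Finite V] (U : AddSubgroup V) : S.perp (S.perp U) = U := by
  have h1 := card_mul_card_perp S U
  have h2 := card_mul_card_perp S (S.perp U)
  have hpos : 0 < Nat.card (S.perp U) := Nat.card_pos
  have hcard : Nat.card (S.perp (S.perp U)) = Nat.card U := by
    rw [mul_comm] at h2
    exact Nat.eq_of_mul_eq_mul_right hpos (h2.trans h1.symm)
  exact (AddSubgroup.eq_of_le_of_card_ge (S.le_perp_perp U) hcard.le).symm

end Cfsg.Agent.Lib.Helper24.Su2Leaf
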