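/-
Helper24 library: irreducible characters of a normal subgroup `H` of `G`: each lies under an irreducible character
of `G`, its degree and the size of its `G`-orbit divide the degree of that character, the orbit size divides the
index; inflation from quotients at the level of `IrrCharacter`.
-/
import Mathlib
import Cfsg.Agent.Lib.Helper6.Clifford
import Cfsg.Agent.Lib.Helper6.CliffordCorr
import Cfsg.Agent.Lib.Lead.CharEquiv
import Cfsg.Agent.Lib.Lead.CharMore
import Cfsg.Agent.Lib.Helper24.IrrFacts

set_option autoImplicit false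

namespace Cfsg.Agent.Lib.Helper24

open Cfsg Cfsg.Agent.CharLib Cfsg.Agent.Lib.Helper6
open scoped ComplexConjugate

universe u

variable {G : Type u} [Group G]

section normal
variable (H : Subgroup G) [hN : H.Normal] [Fintype G] [Fintype H]

/-- Every irreducible character `θ` of a normal subgroup lies under an irreducible character `χ` of the group, and
`χ 1 = c * t * θ 1` with `c` a positive natural number and `t` the size of the orbit of `θ`. -/
theorem exists_irr_over {θ : H → ℂ} (hθ : IsIrrCharacter H θ) :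
    ∃ χ : G → ℂ, IsIrrCharacter G χ ∧ ∃ c : ℕ, c ≠ 0 ∧
      χ 1 = (c : ℂ) * ((conjOrbit H θ).card : ℂ) * θ 1 := by
  classical
  have hθc : IsCharacter H θ := IsIrrCharacter.isCharacter hθ
  have hind : IsCharacter G (indFun H θ) := IsCharacter.indFun H hθc
  have hθ1 : θ 1 ≠ 0 := irr_apply_one_ne_zero ⟨θ, hθ⟩
  have hne : indFun H θ ≠ 0 := by
    intro h0
    have h1 := congrFun h0 1
    rw [Cfsg.Agent.Lib.Helper6.indFun_apply_one] at h1
    have hH : (Nat.card H : ℂ) ≠ 0 := by
      have : 0 < Nat.card H := Nat.card_pos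
      exact_mod_cast this.ne'
    have hG : (Nat.card G : ℂ) ≠ 0 := by
      have : 0 < Nat.card G := Nat.card_pos
      exact_mod_cast this.ne'
    have : (Nat.card H : ℂ)⁻¹ * (Nat.card G : ℂ) * θ 1 ≠ 0 :=
      mul_ne_zero (mul_ne_zero (inv_ne_zero hH) hG) hθ1
    exact this h1
  obtain ⟨χ, hχ, hχne⟩ := IsCharacter.exists_constituent hind hne
  have hχc : IsCharacter G χ := IsIrrCharacter.isCharacter hχ
  have hcls : IsClassFunction G χ := IsCharacter.isClassFunction hχc
  rw [frobenius_reciprocity H θ hcls] at hχne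
  have hne2 : classInner (resFun H χ) θ ≠ 0 := by
    intro h0
    apply hχne
    rw [Cfsg.Agent.Lib.Helper10.classInner_conj_symm]
    have : classInner (fun h : H => χ h) θ = 0 := h0
    rw [this, map_zero]
  obtain ⟨c, hc⟩ := IsCharacter.classInner_nat (isCharacter_resFun H hχc) hθc
  refine ⟨χ, hχ, c, ?_, ?_⟩
  · intro h0
    apply hne2
    rw [hc, h0, Nat.cast_zero]
  · rw [← hc]
    exact clifford_degree H hχ hθ hne2

/-- The inertia group of a class function on a normal subgroup. -/
def inertia {θ : H → ℂ} (hθ : IsClassFunction H θ) : Subgroup G where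
  carrier := {g | conjFun H g θ = θ}
  mul_mem' := by
    intro a b ha hb
    show conjFun H (a * b) θ = θ
    rw [conjFun_mul, ha, hb]
  one_mem' := conjFun_one H θ
  inv_mem' := by
    intro a ha
    show conjFun H a⁻¹ θ = θ
    have h1 : conjFun H a⁻¹ (conjFun H a θ) = θ := conjFun_inv_conjFun H a θ
    have h2 : conjFun H a θ = θ := ha
    rwa [h2] at h1

omit [Fintype G] [Fintype H] in
theorem mem_inertia {θ : H → ℂ} (hθ : IsClassFunction H θ) (g : G) :
    g ∈ inertia H hθ ↔ conjFun H g θ = θ := Iff.rfl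

omit [Fintype G] [Fintype H] in
theorem le_inertia {θ : H → ℂ} (hθ : IsClassFunction H θ) : H ≤ inertia H hθ :=
  fun _ hg => conjFun_of_mem H hθ hg

/-- The size of the orbit of `θ` divides the index of the normal subgroup. -/
theorem card_conjOrbit_dvd_index {θ : H → ℂ} (hθ : IsClassFunction H θ) :
    (conjOrbit H θ).card ∣ H.index := by
  have h1 := card_conjOrbit_mul H θ
  have h2 : Nat.card {g : G // conjFun H g θ = θ} = Nat.card (inertia H hθ) := rfl
  rw [h2] at h1
  have h3 : Nat.card H * H.relIndex (inertia H hθ) = Nat.card (inertia H hθ) := by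
    rw [← Subgroup.card_mul_index (H.subgroupOf (inertia H hθ))]
    congr 1
    exact (Nat.card_congr (Subgroup.subgroupOfEquivOfLe (le_inertia H hθ)).toEquiv).symm
  have h4 := H.card_mul_index
  have hpos : 0 < Nat.card H := Nat.card_pos
  refine ⟨H.relIndex (inertia H hθ), ?_⟩
  apply Nat.eq_of_mul_eq_mul_left hpos
  rw [h4, ← h1, ← h3]
  ring

/-- If every irreducible character of `G` has degree prime to `p`, the same holds for every normal subgroup, and the
orbits of the irreducible characters of the normal subgroup have size prime to `p`. -/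
theorem not_dvd_degree_normal (p : ℕ) [Fact p.Prime]
    (hG : ∀ χ : IrrCharacter G, ¬ p ∣ charDegree (χ : G → ℂ)) (θ : IrrCharacter H) :
    ¬ p ∣ charDegree (θ : H → ℂ) ∧ ¬ p ∣ (conjOrbit H (θ : H → ℂ)).card := by
  obtain ⟨χ, hχ, c, hc0, hc⟩ := exists_irr_over H θ.2
  have h1 := irr_apply_one (⟨χ, hχ⟩ : IrrCharacter G)
  have h2 := irr_apply_one θ
  have h3 : (χ : G → ℂ) 1 = (charDegree χ : ℂ) := h1
  rw [h3, h2] at hc
  have h4 : charDegree χ = c * (conjOrbit H (θ : H → ℂ)).card * charDegree (θ : H → ℂ) := by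
    exact_mod_cast hc
  have h5 := hG ⟨χ, hχ⟩
  constructor
  · intro hd
    apply h5
    show p ∣ charDegree χ
    rw [h4]
    exact dvd_mul_of_dvd_right hd _
  · intro hd
    apply h5
    show p ∣ charDegree χ
    rw [h4]
    exact dvd_mul_of_dvd_left (dvd_mul_of_dvd_right hd _) _

end normal

section quotient

/-- inflation of an irreducible character of a quotient -/
theorem exists_inflation (N : Subgroup G) [N.Normal] (ψ : IrrCharacter (G ⧸ N)) :
    ∃ χ : IrrCharacter G, ∀ g : G, (χ : G → ℂ) g = (ψ : G ⧸ N → ℂ) (g : G ⧸ N) := by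
  obtain ⟨ψf, n, ρ, hirr, rfl⟩ := ψ
  refine ⟨⟨_, n, (MonoidHom.comp ρ (QuotientGroup.mk' N) : Representation ℂ G (Fin n → ℂ)),
    isIrreducible_comp_of_surjective ρ hirr (QuotientGroup.mk' N) (QuotientGroup.mk'_surjective N), rfl⟩, ?_⟩
  intro g
  rfl

/-- If every irreducible character of `G` has degree prime to `p`, the same holds for every quotient. -/
theorem not_dvd_degree_quotient (p : ℕ) (N : Subgroup G) [N.Normal]
    (hG : ∀ χ : IrrCharacter G, ¬ p ∣ charDegree (χ : G → ℂ)) (ψ : IrrCharacter (G ⧸ N)) :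
    ¬ p ∣ charDegree (ψ : G ⧸ N → ℂ) := by
  obtain ⟨χ, hχ⟩ := exists_inflation N ψ
  have h1 : charDegree (χ : G → ℂ) = charDegree (ψ : G ⧸ N → ℂ) := by
    unfold charDegree
    rw [hχ 1]
    rfl
  rw [← h1]
  exact hG χ

end quotient

end Cfsg.Agent.Lib.Helper24
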