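import Mathlib
import Cfsg.Agent.Lib.Helper2.SOTDefs
import Cfsg.Agent.Lib.Helper13.SOTGDefs

/-!
S5666 part (G) (helper13's sub-market): the orthogonal-geometry leaves of the model part,
RF `exists_refl`, B3 `exists_singular_nonperp`, OT `exists_orth_map`
(`fB G` a nondegenerate symmetric form on `F^b`, `b ≥ 3`, characteristic `≠ 2`).
-/

set_option autoImplicit false
set_option linter.unusedSectionVars false
set_option linter.unusedVariables false

namespace Cfsg.Agent.Lib.Helper24.SOTGLeaf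
open Matrix
open Cfsg.Agent.Lib.Helper25.Tens Cfsg.Agent.Lib.Helper25.SpT Cfsg.Agent.Lib.Helper19.OSub
open Cfsg.Agent.Lib.Helper2.SOT Cfsg.Agent.Lib.Helper13.SOTG
open scoped Kronecker

section model
variable {F : Type*} [Field F] [Fintype F] {a b : ℕ} {G : Matrix (Fin b) (Fin b) F}
  {M : Subgroup (GL (Idx a b) F)}

theorem ot_fB_neg_left (G : Matrix (Fin b) (Fin b) F) (y z : Fin b → F) :
    fB G (-y) z = - fB G y z := by
  rw [← neg_one_smul F y, fB_smul_left]; ring

theorem ot_fB_neg_right (G : Matrix (Fin b) (Fin b) F) (y z : Fin b → F) :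
    fB G y (-z) = - fB G y z := by
  rw [← neg_one_smul F z, fB_smul_right]; ring

theorem ot_fB_sub_left (G : Matrix (Fin b) (Fin b) F) (y y' z : Fin b → F) :
    fB G (y - y') z = fB G y z - fB G y' z := by
  rw [sub_eq_add_neg, fB_add_left, ot_fB_neg_left]; ring

theorem ot_fB_sub_right (G : Matrix (Fin b) (Fin b) F) (y z z' : Fin b → F) :
    fB G y (z - z') = fB G y z - fB G y z' := by
  rw [sub_eq_add_neg, fB_add_right, ot_fB_neg_right]; ring

theorem ot_fB_zero_left (G : Matrix (Fin b) (Fin b) F) (z : Fin b → F) : fB G 0 z = 0 := by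
  simp [fB]

theorem ot_fB_zero_right (G : Matrix (Fin b) (Fin b) F) (z : Fin b → F) : fB G z 0 = 0 := by
  simp [fB]

/-- nondegeneracy of `fB G` when `det G ≠ 0` -/
theorem ot_fB_nondeg (hG : G.det ≠ 0) {y : Fin b → F} (hy : y ≠ 0) :
    ∃ y' : Fin b → F, fB G y y' ≠ 0 := by
  by_contra hcon
  push Not at hcon
  apply hy
  have h1 : Matrix.vecMul y G = 0 := by
    funext j
    have := hcon (Pi.single j 1)
    unfold fB at this
    rw [Matrix.dotProduct_mulVec] at this
    simpa using this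
  exact Matrix.eq_zero_of_vecMul_eq_zero hG h1

/-- (RF) the reflection in a non-singular vector -/
theorem exists_refl (h : Ctx a b G) {d : Fin b → F} (hd : fB G d d ≠ 0) :
    ∃ β : GL (Fin b) F, (∀ y y' : Fin b → F, fB G ((β : Matrix (Fin b) (Fin b) F) *ᵥ y)
      ((β : Matrix (Fin b) (Fin b) F) *ᵥ y') = fB G y y') ∧
      ∀ y : Fin b → F, (β : Matrix (Fin b) (Fin b) F) *ᵥ y = y - (2 * fB G y d / fB G d d) • d := by
  set R : Matrix (Fin b) (Fin b) F := 1 - (2 / fB G d d) • Matrix.vecMulVec d (G *ᵥ d) with hR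
  have hRv : ∀ y : Fin b → F, R *ᵥ y = y - (2 * fB G y d / fB G d d) • d := by
    intro y
    rw [hR, Matrix.sub_mulVec, Matrix.one_mulVec, Matrix.smul_mulVec, Matrix.vecMulVec_mulVec]
    congr 1
    ext p
    simp only [Pi.smul_apply, smul_eq_mul, MulOpposite.smul_eq_mul_unop, MulOpposite.unop_op, fB]
    rw [dotProduct_comm y]
    ring
  have hc : ∀ y : Fin b → F, fB G (R *ᵥ y) d = - fB G y d := by
    intro y
    rw [hRv, ot_fB_sub_left, fB_smul_left]
    field_simp
    ring
  have hRR : R * R = 1 := by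
    apply Matrix.mulVec_injective
    funext y
    rw [← Matrix.mulVec_mulVec, Matrix.one_mulVec, hRv (R *ᵥ y), hc, hRv y]
    ext p
    simp only [Pi.sub_apply, Pi.smul_apply, smul_eq_mul]
    ring
  refine ⟨⟨R, R, hRR, hRR⟩, ?_, hRv⟩
  intro y y'
  show fB G (R *ᵥ y) (R *ᵥ y') = fB G y y'
  rw [hRv, hRv, ot_fB_sub_left, ot_fB_sub_right, ot_fB_sub_right, fB_smul_left, fB_smul_left,
    fB_smul_right, fB_smul_right, fB_comm G h.symm d y']
  field_simp
  ring

/-- three-case trick: a vector non-orthogonal to two given non-zero vectors -/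
theorem ot_exists_both (hG : G.det ≠ 0) {z z' : Fin b → F} (hz : z ≠ 0) (hz' : z' ≠ 0) :
    ∃ y : Fin b → F, fB G z y ≠ 0 ∧ fB G z' y ≠ 0 := by
  obtain ⟨a₁, ha₁⟩ := ot_fB_nondeg hG hz
  obtain ⟨b₁, hb₁⟩ := ot_fB_nondeg hG hz'
  by_cases h1 : fB G z' a₁ = 0
  · by_cases h2 : fB G z b₁ = 0
    · refine ⟨a₁ + b₁, ?_, ?_⟩
      · rw [fB_add_right, h2, add_zero]; exact ha₁
      · rw [fB_add_right, h1, zero_add]; exact hb₁
    · exact ⟨b₁, h2, hb₁⟩
  · exact ⟨a₁, ha₁, h1⟩

/-- a non-zero vector orthogonal to two given vectors (`b ≥ 3`) -/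
theorem ot_exists_perp_two (hb : 3 ≤ b) (z z' : Fin b → F) :
    ∃ v : Fin b → F, v ≠ 0 ∧ fB G v z = 0 ∧ fB G v z' = 0 := by
  let φ : (Fin b → F) →ₗ[F] (Fin 2 → F) :=
    { toFun := fun v => ![fB G v z, fB G v z']
      map_add' := by
        intro v w
        ext i
        fin_cases i <;> simp [fB_add_left]
      map_smul' := by
        intro c v
        ext i
        fin_cases i <;> simp [fB_smul_left] }
  have hlt : Module.finrank F (Fin 2 → F) < Module.finrank F (Fin b → F) := by
    rw [Module.finrank_fin_fun, Module.finrank_fin_fun]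
    omega
  have hker := LinearMap.ker_ne_bot_of_finrank_lt (f := φ) hlt
  obtain ⟨v, hv, hv0⟩ := (Submodule.ne_bot_iff _).1 hker
  refine ⟨v, hv0, ?_, ?_⟩
  · have := congrFun (LinearMap.mem_ker.1 hv) 0
    simpa [φ] using this
  · have := congrFun (LinearMap.mem_ker.1 hv) 1
    simpa [φ] using this

/-- (B3) a singular vector non-orthogonal to two given non-zero singular vectors -/
theorem exists_singular_nonperp (h : Ctx a b G) {z z' : Fin b → F} (hz : z ≠ 0) (hz' : z' ≠ 0)
    (hzz : fB G z z = 0) (hz'z' : fB G z' z' = 0) :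
    ∃ z₁ : Fin b → F, fB G z₁ z₁ = 0 ∧ fB G z z₁ ≠ 0 ∧ fB G z' z₁ ≠ 0 := by
  have h2 : (2 : F) ≠ 0 := h.two
  by_cases hzz' : fB G z z' = 0
  · obtain ⟨y, hy, hy'⟩ := ot_exists_both h.nd hz hz'
    refine ⟨y - (fB G y y / (2 * fB G z y)) • z, ?_, ?_, ?_⟩
    · rw [ot_fB_sub_left, ot_fB_sub_right, ot_fB_sub_right, fB_smul_left, fB_smul_left,
        fB_smul_right, fB_smul_right, hzz, fB_comm G h.symm y z]
      field_simp
      ring
    · rw [ot_fB_sub_right, fB_smul_right, hzz, mul_zero, sub_zero]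
      exact hy
    · rw [ot_fB_sub_right, fB_smul_right, fB_comm G h.symm z' z, hzz', mul_zero, sub_zero]
      exact hy'
  · -- a non-singular `v ⊥ z, z'`
    have hv : ∃ v : Fin b → F, fB G v z = 0 ∧ fB G v z' = 0 ∧ fB G v v ≠ 0 := by
      by_contra hcon
      push Not at hcon
      obtain ⟨v₀, hv₀, hv₀z, hv₀z'⟩ := ot_exists_perp_two (G := G) h.hb z z'
      obtain ⟨y, hy⟩ := ot_fB_nondeg h.nd hv₀
      apply hy
      -- decompose `y`
      set yp : Fin b → F := y - (fB G y z' / fB G z z') • z - (fB G y z / fB G z z') • z' with hyp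
      have hypz : fB G yp z = 0 := by
        rw [hyp, ot_fB_sub_left, ot_fB_sub_left, fB_smul_left, fB_smul_left, hzz,
          fB_comm G h.symm z' z]
        field_simp
        ring
      have hypz' : fB G yp z' = 0 := by
        rw [hyp, ot_fB_sub_left, ot_fB_sub_left, fB_smul_left, fB_smul_left, hz'z']
        field_simp
        ring
      -- polarisation on the perp
      have hpol : fB G v₀ yp = 0 := by
        have e1 := hcon (v₀ + yp) (by rw [fB_add_left, hv₀z, hypz, add_zero])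
          (by rw [fB_add_left, hv₀z', hypz', add_zero])
        have e2 := hcon v₀ hv₀z hv₀z'
        have e3 := hcon yp hypz hypz'
        rw [fB_add_left, fB_add_right, fB_add_right, e2, e3, fB_comm G h.symm yp v₀] at e1
        have : 2 * fB G v₀ yp = 0 := by linear_combination e1
        rcases mul_eq_zero.1 this with h0 | h0
        · exact absurd h0 h2
        · exact h0
      have hy_eq : y = yp + (fB G y z' / fB G z z') • z + (fB G y z / fB G z z') • z' := by
        rw [hyp]; abel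
      rw [hy_eq, fB_add_right, fB_add_right, fB_smul_right, fB_smul_right, hpol, hv₀z, hv₀z']
      ring
    obtain ⟨v, hvz, hvz', hvv⟩ := hv
    have hzv : fB G z v = 0 := by rw [fB_comm G h.symm]; exact hvz
    have hz'v : fB G z' v = 0 := by rw [fB_comm G h.symm]; exact hvz'
    refine ⟨z - (fB G v v / (2 * fB G z z')) • z' + v, ?_, ?_, ?_⟩
    · simp only [fB_add_left, fB_add_right, ot_fB_sub_left, ot_fB_sub_right, fB_smul_left,
        fB_smul_right, hzz, hz'z', hzv, hz'v, hvz, hvz', fB_comm G h.symm z' z]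
      field_simp
      ring
    · rw [fB_add_right, ot_fB_sub_right, fB_smul_right, hzz, hzv]
      intro h0
      have h3 : fB G v v / (2 * fB G z z') * fB G z z' = 0 := by linear_combination -h0
      have h4 : fB G v v / (2 * fB G z z') * fB G z z' = fB G v v / 2 := by
        field_simp
      rw [h4] at h3
      exact hvv (by
        have := div_eq_zero_iff.1 h3
        rcases this with h5 | h5
        · exact h5
        · exact absurd h5 h2)
    · rw [fB_add_right, ot_fB_sub_right, fB_smul_right, hz'z', hz'v, fB_comm G h.symm z' z]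
      intro h0
      apply hzz'
      linear_combination h0

/-- (OT) `O(B)` is transitive on the non-zero singular vectors -/
theorem exists_orth_map (h : Ctx a b G) {z z' : Fin b → F} (hz : z ≠ 0) (hz' : z' ≠ 0)
    (hzz : fB G z z = 0) (hz'z' : fB G z' z' = 0) :
    ∃ β : GL (Fin b) F, (∀ y y' : Fin b → F, fB G ((β : Matrix (Fin b) (Fin b) F) *ᵥ y)
      ((β : Matrix (Fin b) (Fin b) F) *ᵥ y') = fB G y y') ∧ (β : Matrix (Fin b) (Fin b) F) *ᵥ z = z' := by
  have h2 : (2 : F) ≠ 0 := h.two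
  -- the case of non-orthogonal vectors
  have key : ∀ {w w' : Fin b → F}, fB G w w = 0 → fB G w' w' = 0 → fB G w w' ≠ 0 →
      ∃ β : GL (Fin b) F, (∀ y y' : Fin b → F, fB G ((β : Matrix (Fin b) (Fin b) F) *ᵥ y)
        ((β : Matrix (Fin b) (Fin b) F) *ᵥ y') = fB G y y') ∧
        (β : Matrix (Fin b) (Fin b) F) *ᵥ w = w' := by
    intro w w' hww hw'w' hne
    have hdd : fB G (w - w') (w - w') = -(2 * fB G w w') := by
      rw [ot_fB_sub_left, ot_fB_sub_right, ot_fB_sub_right, hww, hw'w', fB_comm G h.symm w' w]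
      ring
    have hd : fB G (w - w') (w - w') ≠ 0 := by
      rw [hdd]
      exact neg_ne_zero.2 (mul_ne_zero h2 hne)
    obtain ⟨β, hβ, hβv⟩ := exists_refl h hd
    refine ⟨β, hβ, ?_⟩
    rw [hβv, hdd, ot_fB_sub_right, hww]
    have : 2 * (0 - fB G w w') / -(2 * fB G w w') = 1 := by
      field_simp
      ring
    rw [this, one_smul]
    abel
  by_cases hzz' : fB G z z' = 0
  · obtain ⟨z₁, hz₁, hzz₁, hz'z₁⟩ := exists_singular_nonperp h hz hz' hzz hz'z'
    obtain ⟨β₁, hβ₁, hβ₁z⟩ := key hzz hz₁ hzz₁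
    have hz₁z' : fB G z₁ z' ≠ 0 := by rw [fB_comm G h.symm]; exact hz'z₁
    obtain ⟨β₂, hβ₂, hβ₂z⟩ := key hz₁ hz'z' hz₁z'
    refine ⟨β₂ * β₁, ?_, ?_⟩
    · intro y y'
      rw [Units.val_mul, ← Matrix.mulVec_mulVec, ← Matrix.mulVec_mulVec, hβ₂, hβ₁]
    · rw [Units.val_mul, ← Matrix.mulVec_mulVec, hβ₁z, hβ₂z]
  · exact key hzz hz'z' hzz'

end model

end Cfsg.Agent.Lib.Helper24.SOTGLeaf
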