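/- helper24: orthogonal toolkit B: maximal invariant totally singular subspaces, Chevalley-Warning -/
import Mathlib
import Cfsg.Agent.Lib.Helper24.OrA

set_option autoImplicit false

namespace Cfsg.Agent.Lib.Helper24.Or

open Module QuadraticMap Polynomial Cfsg.Agent.Lib.Helper12.Elus Cfsg.Agent.Lib.Helper12

section peel

variable {F V : Type*} [Field F] [AddCommGroup V] [Module F V] [FiniteDimensional F V]
  (Q : QuadraticForm F V) (y : V →ₗ[F] V)

/-- `W` is a `y`-invariant totally singular subspace of `R` -/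
def TSInv (R W : Submodule F V) : Prop :=
  W ≤ R ∧ (∀ u ∈ W, y u ∈ W) ∧ TS Q W

omit [FiniteDimensional F V] in
theorem tsInv_bot (R : Submodule F V) : TSInv Q y R ⊥ :=
  ⟨bot_le, fun u hu => by rw [(Submodule.mem_bot F).1 hu, map_zero]; exact zero_mem _, ts_bot Q⟩

omit [FiniteDimensional F V] in
theorem polar_iso (hiso : ∀ v, Q (y v) = Q v) (u v : V) : pB Q (y u) (y v) = pB Q u v := by
  rw [pB_apply, pB_apply, QuadraticMap.polar, QuadraticMap.polar, ← map_add, hiso, hiso, hiso]

/-- peeling a maximal invariant totally singular subspace: the complement has no invariant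
totally singular subspace -/
theorem exists_max_ts (hiso : ∀ v, Q (y v) = Q v) (r : ℕ) (hr : 0 < r) (hy : y ^ r = 1)
    (hr0 : (r : F) ≠ 0)
    (R : Submodule F V) (hR : ∀ u ∈ R, y u ∈ R) (hRnd : Un.NdOn (pB Q) R) :
    ∃ W N : Submodule F V, TSInv Q y R W ∧ N ≤ R ∧ (∀ u ∈ N, y u ∈ N) ∧ Un.NdOn (pB Q) N ∧
      2 * finrank F W + finrank F N = finrank F R ∧
      (∀ W' : Submodule F V, W' ≤ N → (∀ u ∈ W', y u ∈ W') → TS Q W' → W' = ⊥) := by
  classical
  have hex : ∃ k, k ≤ finrank F V ∧ ∃ W, TSInv Q y R W ∧ finrank F W = k :=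
    ⟨0, Nat.zero_le _, ⊥, tsInv_bot Q y R, finrank_bot F V⟩
  set k₀ := Nat.findGreatest (fun k => ∃ W, TSInv Q y R W ∧ finrank F W = k) (finrank F V)
    with hk₀
  have hspec : ∃ W, TSInv Q y R W ∧ finrank F W = k₀ := by
    obtain ⟨k, hk, hW⟩ := hex
    exact Nat.findGreatest_spec (P := fun k => ∃ W, TSInv Q y R W ∧ finrank F W = k) hk hW
  have hmax : ∀ W, TSInv Q y R W → finrank F W ≤ k₀ := by
    intro W hW
    exact Nat.le_findGreatest (P := fun k => ∃ W, TSInv Q y R W ∧ finrank F W = k)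
      (Submodule.finrank_le W) ⟨W, hW, rfl⟩
  obtain ⟨W, ⟨hWR, hWinv, hWts⟩, hWdim⟩ := hspec
  obtain ⟨N, hNR, hNO, hNinv, hNnd, hNdim, hinf⟩ :=
    Un.peel_iso (pB Q) id_invol (pB_sym Q) y (polar_iso Q y hiso) r hr hy hr0 R hR hRnd W hWR
      hWinv (hWts.le_orth Q)
  refine ⟨W, N, ⟨hWR, hWinv, hWts⟩, hNR, hNinv, hNnd, hNdim, ?_⟩
  intro W' hW'N hW'inv hW'ts
  by_contra hW'0
  have hbig : TSInv Q y R (W ⊔ W') := by
    refine ⟨sup_le hWR (hW'N.trans hNR), sup_invariant y W W' hWinv hW'inv, ?_⟩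
    apply hWts.sup Q hW'ts
    intro a ha b hb
    exact hNO (hW'N hb) a ha
  have h1 := hmax _ hbig
  have hd : W ⊓ W' = ⊥ := by
    rw [eq_bot_iff, ← hinf]
    exact inf_le_inf le_rfl hW'N
  have h2 := Submodule.finrank_sup_add_finrank_inf_eq W W'
  rw [hd, finrank_bot, add_zero] at h2
  have h3 : 0 < finrank F W' := by
    rw [Nat.pos_iff_ne_zero]
    intro h0
    exact hW'0 (Submodule.finrank_eq_zero.1 h0)
  omega

end peel

end Cfsg.Agent.Lib.Helper24.Or

namespace Cfsg.Agent.Lib.Helper24.Or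

open Module QuadraticMap Polynomial Cfsg.Agent.Lib.Helper12.Elus Cfsg.Agent.Lib.Helper12

section cw

variable {F V : Type*} [Field F] [Fintype F] [AddCommGroup V] [Module F V]
  [FiniteDimensional F V] (Q : QuadraticForm F V) (y : V →ₗ[F] V)

/-- Chevalley–Warning: a subspace of dimension `> 2(s+1)` contains a nonzero singular `u` with
`B(y^k u, u) = 0` for `1 ≤ k ≤ s` -/
theorem exists_ts_vec {p : ℕ} [Fact p.Prime] [CharP F p] (M : Submodule F V) (s : ℕ)
    (hdim : 2 * (s + 1) < finrank F M) :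
    ∃ u ∈ M, u ≠ 0 ∧ Q u = 0 ∧ ∀ k, 1 ≤ k → k ≤ s → polar Q ((y ^ k) u) u = 0 := by
  obtain ⟨β, hβ⟩ := LinearMap.BilinMap.toQuadraticMap_surjective Q
  have hβQ : ∀ v, β v v = Q v := by
    intro v
    rw [← hβ, LinearMap.BilinMap.toQuadraticMap_apply]
  obtain ⟨⟨u, huM⟩, hu0, hu⟩ := Sp.exists_common_isotropic (F := F) (V := M) (p := p) (s + 1)
    (fun k => if (k : ℕ) = 0 then LinearMap.BilinForm.comp β M.subtype M.subtype
      else (pB Q).comp ((y ^ (k : ℕ)).comp M.subtype) M.subtype) hdim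
  refine ⟨u, huM, fun h => hu0 (Subtype.ext h), ?_, ?_⟩
  · have := hu ⟨0, by omega⟩
    simp only [if_true, LinearMap.BilinForm.comp_apply, Submodule.subtype_apply] at this
    rw [← hβQ]
    exact this
  · intro k hk1 hks
    have := hu ⟨k, by omega⟩
    rw [if_neg (by simp; omega)] at this
    simp only [LinearMap.BilinForm.comp_apply, LinearMap.comp_apply, Submodule.subtype_apply] at this
    exact this

end cw

end Cfsg.Agent.Lib.Helper24.Or

namespace Cfsg.Agent.Lib.Helper24.Or

open Module QuadraticMap Polynomial Cfsg.Agent.Lib.Helper12.Elus Cfsg.Agent.Lib.Helper12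

section aniso

variable {F V : Type*} [Field F] [Fintype F] [AddCommGroup V] [Module F V] [FiniteDimensional F V]
  {p : ℕ} [Fact p.Prime] [CharP F p] (Q : QuadraticForm F V) (y : V →ₗ[F] V)
  (r : ℕ) [Fact r.Prime]

omit [Fintype F] [FiniteDimensional F V] [Fact r.Prime] in
theorem iso_pow' (hiso : ∀ v, Q (y v) = Q v) (k : ℕ) (v : V) : Q ((y ^ k) v) = Q v := by
  induction k with
  | zero => simp
  | succ k ih => rw [pow_succ', Module.End.mul_apply, hiso, ih]

omit [Fintype F] [FiniteDimensional F V] [Fact r.Prime] in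
theorem polar_pow (hiso : ∀ v, Q (y v) = Q v) (k : ℕ) (u v : V) :
    polar Q ((y ^ k) u) ((y ^ k) v) = polar Q u v := by
  rw [QuadraticMap.polar, QuadraticMap.polar, ← map_add, iso_pow' Q y hiso, iso_pow' Q y hiso,
    iso_pow' Q y hiso]

omit [Fintype F] [FiniteDimensional F V] [Fact r.Prime] in
/-- all the polars of the cyclic vectors vanish once the short ones do -/
theorem cyc_ts_of_polar (hiso : ∀ v, Q (y v) = Q v) (i : ℕ) (u : V) (hu : Q u = 0)
    (hpol : ∀ k, 1 ≤ k → k < i → polar Q ((y ^ k) u) u = 0) : TS Q (cyc y u i) := by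
  rw [cyc]
  apply ts_span
  · intro a
    exact (iso_pow' Q y hiso _ u).trans hu
  · have key1 : ∀ a b : ℕ, b ≤ a → a < i → polar Q ((y ^ a) u) ((y ^ b) u) = 0 := by
      intro a b hba ha
      have h1 : (y ^ a) u = (y ^ b) ((y ^ (a - b)) u) := by
        rw [← Module.End.mul_apply, ← pow_add, Nat.add_sub_cancel' hba]
      rw [h1, polar_pow Q y hiso]
      rcases Nat.eq_or_lt_of_le hba with h | h
      · rw [h, Nat.sub_self, pow_zero, Module.End.one_apply, polar_self, hu, smul_zero]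
      · exact hpol (a - b) (by omega) (by omega)
    intro a b
    rcases le_total (b : ℕ) (a : ℕ) with h | h
    · exact key1 a b h a.2
    · rw [polar_comm]
      exact key1 b a h b.2

theorem exists_ts_cyc (hiso : ∀ v, Q (y v) = Q v)
    (hrp : r ≠ p) (hy : y ^ r = 1) (hr0 : (r : F) ≠ 0) (hr2 : r ≠ 2)
    (hev : Even (orderOf (Fintype.card F : ZMod r)))
    (M : Submodule F V) (hM : ∀ u ∈ M, y u ∈ M) (hMR : M ≤ movR y) (h : F[X]) (hm : h.Monic)
    (hdeg : h.natDegree = orderOf (Fintype.card F : ZMod r))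
    (hMh : ∀ u ∈ M, aeval y h u = 0)
    (hdim : orderOf (Fintype.card F : ZMod r) < finrank F M) :
    ∃ W : Submodule F V, W ≤ M ∧ (∀ u ∈ W, y u ∈ W) ∧ W ≠ ⊥ ∧ TS Q W := by
  have hr : 0 < r := (Fact.out : r.Prime).pos
  have hipos : 0 < orderOf (Fintype.card F : ZMod r) := orderOf_card_pos r hrp
  set i₀ := orderOf (Fintype.card F : ZMod r) with hi₀
  obtain ⟨s, hs⟩ := hev
  have hs1 : 1 ≤ s := by omega
  obtain ⟨c, hc⟩ := orderOf_dvd_finrank_of_le_movR y r hy hr0 M hM hMR
  rw [← hi₀] at hc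
  have hc2 : 2 ≤ c := by
    by_contra hlt
    push Not at hlt
    have : i₀ * c ≤ i₀ * 1 := Nat.mul_le_mul_left _ (by omega)
    omega
  have hdim4 : 2 * i₀ ≤ finrank F M := by
    rw [hc]
    calc 2 * i₀ = i₀ * 2 := by ring
      _ ≤ i₀ * c := Nat.mul_le_mul_left _ hc2
  -- common part: given `u` with enough vanishing polars
  have fin : ∀ u ∈ M, u ≠ 0 → Q u = 0 → (∀ k, 1 ≤ k → k ≤ s → polar Q ((y ^ k) u) u = 0) →
      ∃ W : Submodule F V, W ≤ M ∧ (∀ u ∈ W, y u ∈ W) ∧ W ≠ ⊥ ∧ TS Q W := by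
    intro u huM hu0 hQu hu
    obtain ⟨hWinv, hWh⟩ := Sp.cyc_of_aeval y u h hm i₀ hdeg (hMh u huM)
    have hWM : cyc y u i₀ ≤ M := Sp.cyc_le y u i₀ M hM huM
    have huW : u ∈ cyc y u i₀ := self_mem_cyc y u i₀ hipos
    have hW0 : cyc y u i₀ ≠ ⊥ := by
      intro h0
      rw [h0] at huW
      exact hu0 ((Submodule.mem_bot F).1 huW)
    have hWdim : finrank F (cyc y u i₀) = i₀ :=
      Sp.finrank_eq_of_le y r hy hr0 _ hWinv (hWM.trans hMR) hW0 (finrank_cyc_le y u i₀)
    -- the middle vector is in the radical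
    have hmid : (y ^ s) u ∈ cyc y u i₀ ⊓ Un.orth (pB Q) (cyc y u i₀) := by
      refine ⟨pow_mem_cyc y u i₀ s (by omega), ?_⟩
      intro n hn
      rw [cyc] at hn
      refine Submodule.span_induction ?_ ?_ ?_ ?_ hn
      · rintro _ ⟨a, rfl⟩
        have ha : (a : ℕ) < i₀ := a.2
        show polar Q ((y ^ (a : ℕ)) u) ((y ^ s) u) = 0
        rcases le_total s (a : ℕ) with hsa | has
        · have h1 : (y ^ (a : ℕ)) u = (y ^ s) ((y ^ ((a : ℕ) - s)) u) := by
            rw [← Module.End.mul_apply, ← pow_add, Nat.add_sub_cancel' hsa]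
          rw [h1, polar_pow Q y hiso]
          rcases Nat.eq_or_lt_of_le hsa with h2 | h2
          · rw [← h2, Nat.sub_self, pow_zero, Module.End.one_apply, polar_self, hQu, smul_zero]
          · exact hu ((a : ℕ) - s) (by omega) (by omega)
        · have h1 : (y ^ s) u = (y ^ (a : ℕ)) ((y ^ (s - (a : ℕ))) u) := by
            rw [← Module.End.mul_apply, ← pow_add, Nat.add_sub_cancel' has]
          rw [h1, polar_pow Q y hiso, polar_comm]
          rcases Nat.eq_or_lt_of_le has with h2 | h2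
          · rw [h2, Nat.sub_self, pow_zero, Module.End.one_apply, polar_self, hQu, smul_zero]
          · exact hu (s - (a : ℕ)) (by omega) (by omega)
      · rw [map_zero, LinearMap.zero_apply]
      · intro x z _ _ hx hz
        rw [map_add, LinearMap.add_apply, hx, hz, add_zero]
      · intro c x _ hx
        rw [map_smul, LinearMap.smul_apply, hx, smul_zero]
    have hmid0 : (y ^ s) u ≠ 0 := by
      intro h0
      apply hu0
      have h1 : (y ^ (r * s)) u = u := by
        rw [pow_mul, hy, one_pow, Module.End.one_apply]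
      have h2 : r * s = (r - 1) * s + s := by
        obtain ⟨r₀, rfl⟩ := Nat.exists_eq_succ_of_ne_zero hr.ne'
        rw [Nat.succ_sub_one, Nat.succ_mul]
      rw [h2, pow_add, Module.End.mul_apply, h0, map_zero] at h1
      exact h1.symm
    have hOinv := Un.orth_invariant (pB Q) y (polar_iso Q y hiso) r hr hy _ hWinv
    have hRinv : ∀ v ∈ cyc y u i₀ ⊓ Un.orth (pB Q) (cyc y u i₀),
        y v ∈ cyc y u i₀ ⊓ Un.orth (pB Q) (cyc y u i₀) := Sp.inf_invariant y _ _ hWinv hOinv
    have hrad := Sp.irred_sub y r hy hr0 (cyc y u i₀) (hWM.trans hMR) hWdim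
      (cyc y u i₀ ⊓ Un.orth (pB Q) (cyc y u i₀)) hRinv inf_le_left
    rcases hrad with h0 | h1
    · rw [h0] at hmid
      exact absurd ((Submodule.mem_bot F).1 hmid) hmid0
    · refine ⟨cyc y u i₀, hWM, hWinv, hW0, ?_⟩
      apply cyc_ts_of_polar Q y hiso i₀ u hQu
      intro k hk1 hki
      have h3 : u ∈ cyc y u i₀ ⊓ Un.orth (pB Q) (cyc y u i₀) := by rw [h1]; exact huW
      exact h3.2 _ (pow_mem_cyc y u i₀ k hki)
  rcases Nat.lt_or_ge 1 s with hs2 | hs1'
  · -- `s ≥ 2`
    obtain ⟨u, huM, hu0, hQu, hu⟩ := exists_ts_vec Q y (p := p) M s (by omega)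
    exact fin u huM hu0 hQu hu
  · -- `s = 1`
    have hs' : s = 1 := by omega
    obtain ⟨u, huM, hu0, hQu, -⟩ := exists_ts_vec Q y (p := p) M 0 (by omega)
    apply fin u huM hu0 hQu
    intro k hk1 hks
    have hk : k = 1 := by omega
    subst hk
    rw [pow_one]
    by_contra hc0
    obtain ⟨hWinv, -⟩ := Sp.cyc_of_aeval y u h hm i₀ hdeg (hMh u huM)
    have hi2 : i₀ = 2 := by omega
    rw [hi2] at hWinv
    have hyu : y u ∈ cyc y u 2 := by
      have := pow_mem_cyc y u 2 1 (by omega)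
      rwa [pow_one] at this
    have hyyu := hWinv _ hyu
    rw [cyc, Submodule.mem_span_range_iff_exists_fun] at hyyu
    obtain ⟨cf, hcf⟩ := hyyu
    rw [Fin.sum_univ_two] at hcf
    simp only [Fin.val_zero, pow_zero, Module.End.one_apply, Fin.val_one, pow_one] at hcf
    set α := cf 0
    set β := cf 1
    set cc := polar Q (y u) u with hcc
    have hQyu : Q (y u) = 0 := by rw [hiso, hQu]
    have e1 : Q (y (y u)) = α * β * cc := by
      rw [← hcf]
      have : Q (α • u + β • y u) = Q (α • u) + Q (β • y u) + polar Q (α • u) (β • y u) := by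
        rw [QuadraticMap.polar]; ring
      rw [this, QuadraticMap.map_smul, QuadraticMap.map_smul, hQu, hQyu, polar_smul_left,
        polar_smul_right, polar_comm Q u (y u)]
      simp only [smul_eq_mul, mul_zero, zero_add]
      ring
    rw [hiso, hiso, hQu] at e1
    have e2 : polar Q (y u) (y (y u)) = α * cc := by
      rw [← hcf, polar_add_right, polar_smul_right, polar_smul_right, polar_self, hQyu]
      simp only [smul_eq_mul, smul_zero, mul_zero, add_zero, hcc]
    have e3 : polar Q (y u) (y (y u)) = cc := by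
      have := polar_pow Q y hiso 1 u (y u)
      rw [pow_one] at this
      rw [this, polar_comm]
    have hα : α = 1 := by
      have : (α - 1) * cc = 0 := by rw [sub_mul, one_mul, ← e2, e3, sub_self]
      rcases mul_eq_zero.1 this with h1 | h1
      · exact sub_eq_zero.1 h1
      · exact absurd h1 hc0
    have hβ : β = 0 := by
      rw [hα, one_mul] at e1
      rcases mul_eq_zero.1 e1.symm with h1 | h1
      · exact h1
      · exact absurd h1 hc0
    rw [hα, hβ, one_smul, zero_smul, add_zero] at hcf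
    -- `y² u = u`, so `y u = u`
    have hy2 : (y ^ 2) u = u := by rw [pow_two, Module.End.mul_apply]; exact hcf.symm
    obtain ⟨j, hj⟩ := (Fact.out : r.Prime).odd_of_ne_two hr2
    have hyu1 : y u = u := by
      have h1 : (y ^ (2 * (j + 1))) u = u := by
        rw [pow_mul]
        exact pow_apply_of_fixed (y ^ 2) u hy2 (j + 1)
      have h2 : 2 * (j + 1) = r + 1 := by omega
      rw [h2, pow_succ, hy, one_mul] at h1
      exact h1
    have hmem : u ∈ fixE y ⊓ movR y := ⟨(mem_fixE y u).2 hyu1, hMR huM⟩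
    rw [fix_inf_mov y r hy hr0] at hmem
    exact hu0 ((Submodule.mem_bot F).1 hmem)

end aniso

end Cfsg.Agent.Lib.Helper24.Or
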