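/- helper24: orthogonal toolkit C: structure of the moved space of an isometry of odd prime order -/
import Mathlib
import Cfsg.Agent.Lib.Helper24.OrB
import Cfsg.Agent.Lib.Helper15.PrimeOrderClasses

set_option autoImplicit false

namespace Cfsg.Agent.Lib.Helper24.Or

open Module QuadraticMap Polynomial Cfsg.Agent.Lib.Helper12.Elus Cfsg.Agent.Lib.Helper12

section tiinv

variable {F V : Type*} [Field F] [AddCommGroup V] [Module F V] [FiniteDimensional F V]
  (Q : QuadraticForm F V) (y : V →ₗ[F] V)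

/-- an invariant totally isotropic subspace without fixed vectors is totally singular -/
theorem ts_of_ti_inv (hiso : ∀ v, Q (y v) = Q v) (W : Submodule F V)
    (hW : ∀ u ∈ W, y u ∈ W) (hfix : W ⊓ fixE y = ⊥) (hti : W ≤ Un.orth (pB Q) W) : TS Q W := by
  have h1 := finrank_eq_fix_add_map y W
  rw [hfix, finrank_bot, zero_add] at h1
  have h2 : W.map (y - 1) = W :=
    Submodule.eq_of_le_of_finrank_le (map_sub_one_le y W hW) (by rw [← h1])
  intro w hw
  rw [← h2] at hw
  obtain ⟨w', hw', rfl⟩ := hw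
  have hpol : polar Q (y w') w' = 0 := hti hw' _ (hW w' hw')
  have hself : polar Q w' w' = 0 := hti hw' _ hw'
  rw [LinearMap.sub_apply, Module.End.one_apply]
  have : Q (y w' - w') = Q (y w') + Q w' - polar Q (y w') w' := by
    have h3 : polar Q (y w') (-w') = - polar Q (y w') w' := by rw [polar_neg_right]
    have h4 : y w' - w' = y w' + -w' := sub_eq_add_neg _ _
    rw [h4]
    have h5 : Q (y w' + -w') = Q (y w') + Q (-w') + polar Q (y w') (-w') := by
      rw [QuadraticMap.polar]; ring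
    rw [h5, h3, QuadraticMap.map_neg]
    ring
  rw [this, hiso, hpol, sub_zero]
  rw [polar_self] at hself
  rw [← two_nsmul]
  exact hself

end tiinv

section aniso

variable {F V : Type*} [Field F] [Fintype F] [AddCommGroup V] [Module F V] [FiniteDimensional F V]
  {p : ℕ} [Fact p.Prime] [CharP F p] (Q : QuadraticForm F V) (y : V →ₗ[F] V)
  (r : ℕ) [Fact r.Prime]

/-- an invariant subspace of the moved space without invariant totally singular subspaces has
dimension at most `i·t` (`i` even) -/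
theorem aniso_bound (hiso : ∀ v, Q (y v) = Q v)
    (hrp : r ≠ p) (hr2 : r ≠ 2) (hy : y ^ r = 1)
    (hev : Even (orderOf (Fintype.card F : ZMod r)))
    (N : Submodule F V) (hN : ∀ u ∈ N, y u ∈ N) (hNR : N ≤ movR y)
    (haniso : ∀ W' : Submodule F V, W' ≤ N → (∀ u ∈ W', y u ∈ W') → TS Q W' → W' = ⊥) :
    finrank F N ≤ orderOf (Fintype.card F : ZMod r) *
      ((r - 1) / orderOf (Fintype.card F : ZMod r)) := by
  classical
  have hr : r.Prime := Fact.out
  have hr0 : (r : F) ≠ 0 := by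
    rw [Ne, CharP.cast_eq_zero_iff F p]
    intro hd
    exact hrp ((Nat.prime_dvd_prime_iff_eq Fact.out Fact.out).1 hd).symm
  set i₀ := orderOf (Fintype.card F : ZMod r) with hi₀
  have hipos : 0 < i₀ := orderOf_card_pos r hrp
  have hq0 : ((Fintype.card F : ℕ) : ZMod r) ≠ 0 := by
    rw [Ne, ZMod.natCast_eq_zero_iff]
    exact card_not_dvd (F := F) r hr hrp
  have hidvd : i₀ ∣ r - 1 := orderOf_dvd_of_pow_eq_one (ZMod.pow_card_sub_one_eq_one hq0)
  set t := (r - 1) / i₀ with ht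
  have hti : t * i₀ = r - 1 := Nat.div_mul_cancel hidvd
  obtain ⟨h, hmon, hirr, hnone, hdeg, hprod⟩ :=
    Cfsg.Agent.Lib.Helper15.PrimeOrderClasses.exists_factor_family (F := F) (p := p) rfl r i₀ t hr
      hrp hi₀ hti
  have hsq : Squarefree (∏ o, h o) := by
    rw [hprod]
    have := (separable_X_pow_sub_C (1 : F) hr0 one_ne_zero).squarefree
    rwa [map_one] at this
  have hcop := Cfsg.Agent.Lib.Helper15.PrimeOrderClasses.family_coprime h hmon hirr hsq
  have hkill : ∀ u ∈ N, aeval y (∏ j ∈ (Finset.univ : Finset (Fin t)), h (some j)) u = 0 := by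
    intro u hu
    obtain ⟨w, rfl⟩ := hNR hu
    have h1 : (y - 1) w = aeval y (h none) w := by
      rw [hnone, map_sub, aeval_X, map_one]
    rw [h1, ← Module.End.mul_apply, ← map_mul]
    have h2 : (∏ j : Fin t, h (some j)) * h none = X ^ r - 1 := by
      rw [← hprod, Fintype.prod_option, mul_comm]
    rw [h2, map_sub, map_pow, aeval_X, map_one, hy, sub_self, LinearMap.zero_apply]
  have hmain := Sp.finrank_le_of_family y (fun j : Fin t => h (some j)) i₀ N (by
    intro j N' hN'inv hN'N hN'h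
    by_contra hlt
    push Not at hlt
    obtain ⟨W, hWN', hWinv, hW0, hWts⟩ := exists_ts_cyc Q y r hiso hrp hy hr0 hr2 hev
      N' hN'inv (hN'N.trans hNR) (h (some j)) (hmon _) (hdeg j) hN'h hlt
    exact hW0 (haniso W (hWN'.trans hN'N) hWinv hWts)) Finset.univ (by
    intro j _ j' _ hne
    exact hcop (some j) (some j') (fun h' => hne (Option.some_injective _ h'))) N hN le_rfl hkill
  rw [Finset.card_univ, Fintype.card_fin] at hmain
  exact hmain

/-- for `i` odd an invariant subspace of the moved space without invariant totally singular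
subspaces is trivial -/
theorem aniso_bot_of_odd (hiso : ∀ v, Q (y v) = Q v)
    (hrp : r ≠ p) (hr2 : r ≠ 2) (hy : y ^ r = 1)
    (hodd : Odd (orderOf (Fintype.card F : ZMod r)))
    (N : Submodule F V) (hN : ∀ u ∈ N, y u ∈ N) (hNR : N ≤ movR y)
    (haniso : ∀ W' : Submodule F V, W' ≤ N → (∀ u ∈ W', y u ∈ W') → TS Q W' → W' = ⊥) :
    N = ⊥ := by
  have hr0 : (r : F) ≠ 0 := by
    rw [Ne, CharP.cast_eq_zero_iff F p]
    intro hd
    exact hrp ((Nat.prime_dvd_prime_iff_eq Fact.out Fact.out).1 hd).symm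
  have hr : 0 < r := (Fact.out : r.Prime).pos
  by_contra hN0
  obtain ⟨v, hvN, hv0, h, hm, hdeg, hh⟩ := Sp.exists_irred_vec y r hrp hy N hN hNR hN0
  set i₀ := orderOf (Fintype.card F : ZMod r) with hi₀
  have hipos : 0 < i₀ := orderOf_card_pos r hrp
  obtain ⟨hWinv, hWh⟩ := Sp.cyc_of_aeval y v h hm i₀ hdeg hh
  have hWN : cyc y v i₀ ≤ N := Sp.cyc_le y v i₀ N hN hvN
  have hvW : v ∈ cyc y v i₀ := self_mem_cyc y v i₀ hipos
  have hW0 : cyc y v i₀ ≠ ⊥ := by
    intro h0
    rw [h0] at hvW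
    exact hv0 ((Submodule.mem_bot F).1 hvW)
  have hWdim : finrank F (cyc y v i₀) = i₀ :=
    Sp.finrank_eq_of_le y r hy hr0 _ hWinv (hWN.trans hNR) hW0 (finrank_cyc_le y v i₀)
  have hOinv := Un.orth_invariant (pB Q) y (polar_iso Q y hiso) r hr hy _ hWinv
  have hRinv : ∀ u ∈ cyc y v i₀ ⊓ Un.orth (pB Q) (cyc y v i₀),
      y u ∈ cyc y v i₀ ⊓ Un.orth (pB Q) (cyc y v i₀) :=
    fun u hu => ⟨hWinv u hu.1, hOinv u hu.2⟩
  rcases Sp.irred_sub y r hy hr0 _ (hWN.trans hNR) hWdim _ hRinv inf_le_left with h1 | h1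
  · -- nondegenerate of odd dimension: impossible
    have hnd : Cfsg.Agent.Lib.Helper15.NdOn Q (cyc y v i₀) := by
      intro w hw hall
      have : w ∈ cyc y v i₀ ⊓ Un.orth (pB Q) (cyc y v i₀) := by
        refine ⟨hw, ?_⟩
        intro n hn
        show polar Q n w = 0
        rw [polar_comm]
        exact hall n hn
      rw [h1] at this
      exact (Submodule.mem_bot F).1 this
    have := Cfsg.Agent.Lib.Helper15.OrthSemi.even_finrank_of_fpf Q y hiso r hr2 hy hr0 _ hWinv
      (hWN.trans hNR) hnd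
    rw [hWdim] at this
    exact (Nat.not_even_iff_odd.2 hodd) this
  · have hti : cyc y v i₀ ≤ Un.orth (pB Q) (cyc y v i₀) := inf_eq_left.1 h1
    have hfix : cyc y v i₀ ⊓ fixE y = ⊥ := by
      rw [eq_bot_iff, ← fix_inf_mov y r hy hr0, inf_comm]
      exact inf_le_inf le_rfl (hWN.trans hNR)
    have hts := ts_of_ti_inv Q y hiso _ hWinv hfix hti
    exact hW0 (haniso _ hWN hWinv hts)

end aniso

end Cfsg.Agent.Lib.Helper24.Or

namespace Cfsg.Agent.Lib.Helper24.Or

open Module QuadraticMap Polynomial Cfsg.Agent.Lib.Helper12.Elus Cfsg.Agent.Lib.Helper12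

section struct

variable {F V : Type*} [Field F] [Fintype F] [AddCommGroup V] [Module F V] [FiniteDimensional F V]
  {p : ℕ} [Fact p.Prime] [CharP F p] (Q : QuadraticForm F V) (y : V →ₗ[F] V)
  (r : ℕ) [Fact r.Prime]

omit [Fintype F] [FiniteDimensional F V] [Fact p.Prime] [CharP F p] in
theorem ndOn_top_of_nondeg (hnd : ∀ x, (∀ z, polar Q x z = 0) → x = 0) :
    Un.NdOn (pB Q) (⊤ : Submodule F V) := by
  intro u _ hu0
  by_contra hcon
  push Not at hcon
  exact hu0 (hnd u (fun z => hcon z Submodule.mem_top))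

omit [Fintype F] [Fact p.Prime] [CharP F p] in
theorem ndOn_fix (hnd : ∀ x, (∀ z, polar Q x z = 0) → x = 0) (hiso : ∀ v, Q (y v) = Q v)
    (hy : y ^ r = 1) (hr0 : (r : F) ≠ 0) : Un.NdOn (pB Q) (fixE y) := by
  have := Un.ndOn_inf_fix (pB Q) y (polar_iso Q y hiso) r hy hr0 ⊤
    (fun _ _ => Submodule.mem_top) (ndOn_top_of_nondeg Q hnd)
  rwa [top_inf_eq] at this

omit [Fintype F] [Fact p.Prime] [CharP F p] in
theorem ndOn_mov (hnd : ∀ x, (∀ z, polar Q x z = 0) → x = 0) (hiso : ∀ v, Q (y v) = Q v)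
    (hy : y ^ r = 1) (hr0 : (r : F) ≠ 0) : Un.NdOn (pB Q) (movR y) := by
  have := Un.ndOn_inf_mov (pB Q) y (pB_sym Q) (polar_iso Q y hiso) r hy hr0 ⊤
    (fun _ _ => Submodule.mem_top) (ndOn_top_of_nondeg Q hnd)
  rwa [top_inf_eq] at this

omit [Fintype F] [Fact p.Prime] [CharP F p] in
theorem finrank_fix_add_mov' (hy : y ^ r = 1) (hr0 : (r : F) ≠ 0) :
    finrank F (fixE y) + finrank F (movR y) = finrank F V := by
  have hdisj : fixE y ⊓ movR y = ⊥ := fix_inf_mov y r hy hr0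
  have hsplit : fixE y ⊔ movR y = ⊤ := by
    have := Sp.inv_split y r hy hr0 ⊤ (fun _ _ => Submodule.mem_top)
    rwa [top_inf_eq, top_inf_eq] at this
  have := Submodule.finrank_sup_add_finrank_inf_eq (fixE y) (movR y)
  rw [hsplit, hdisj, finrank_bot, add_zero, finrank_top] at this
  exact this.symm

/-- structure of the moved space: `dim [V,y] = 2 i k₀ + i o` with invariant totally singular
subspaces of all dimensions `i k`, `k ≤ k₀`; `o ≤ t` for `i` even and `o = 0` for `i` odd -/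
theorem mov_structure (hnd : ∀ x, (∀ z, polar Q x z = 0) → x = 0) (hiso : ∀ v, Q (y v) = Q v)
    (hrp : r ≠ p) (hr2 : r ≠ 2) (hy : y ^ r = 1) :
    ∃ k₀ o : ℕ, finrank F (movR y) = orderOf (Fintype.card F : ZMod r) * (2 * k₀ + o) ∧
      (Even (orderOf (Fintype.card F : ZMod r)) →
        o ≤ (r - 1) / orderOf (Fintype.card F : ZMod r)) ∧
      (Odd (orderOf (Fintype.card F : ZMod r)) → o = 0) ∧
      ∀ k, k ≤ k₀ → ∃ W : Submodule F V, W ≤ movR y ∧ (∀ u ∈ W, y u ∈ W) ∧ TS Q W ∧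
        finrank F W = orderOf (Fintype.card F : ZMod r) * k := by
  have hr : r.Prime := Fact.out
  have hr0 : (r : F) ≠ 0 := by
    rw [Ne, CharP.cast_eq_zero_iff F p]
    intro hd
    exact hrp ((Nat.prime_dvd_prime_iff_eq Fact.out Fact.out).1 hd).symm
  set i₀ := orderOf (Fintype.card F : ZMod r) with hi₀
  have hipos : 0 < i₀ := orderOf_card_pos r hrp
  have hRnd := ndOn_mov Q y r hnd hiso hy hr0
  obtain ⟨W₀, N, ⟨hW₀R, hW₀inv, hW₀ts⟩, hNR, hNinv, hNnd, hNdim, haniso⟩ :=
    exists_max_ts Q y hiso r hr.pos hy hr0 (movR y) (movR_invariant y) hRnd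
  obtain ⟨k₀, hk₀⟩ := orderOf_dvd_finrank_of_le_movR y r hy hr0 W₀ hW₀inv hW₀R
  obtain ⟨o, ho⟩ := orderOf_dvd_finrank_of_le_movR y r hy hr0 N hNinv hNR
  rw [← hi₀] at hk₀ ho
  refine ⟨k₀, o, ?_, ?_, ?_, ?_⟩
  · rw [← hNdim, hk₀, ho]
    ring
  · intro hev
    have hb := aniso_bound Q y r hiso hrp hr2 hy hev N hNinv hNR haniso
    rw [← hi₀, ho] at hb
    exact Nat.le_of_mul_le_mul_left hb hipos
  · intro hodd
    have := aniso_bot_of_odd Q y r hiso hrp hr2 hy hodd N hNinv hNR haniso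
    rw [this, finrank_bot] at ho
    rcases Nat.eq_zero_or_pos o with h0 | h0
    · exact h0
    · have : 0 < i₀ * o := Nat.mul_pos hipos h0
      omega
  · intro k hk
    obtain ⟨WR, hWRW₀, hWRinv, hWRdim⟩ := Sp.exists_inv_sub y r hrp hy hr0 W₀ hW₀inv hW₀R k (by
      rw [hk₀]
      exact Nat.mul_le_mul_left _ hk)
    exact ⟨WR, hWRW₀.trans hW₀R, hWRinv, hW₀ts.mono Q hWRW₀, hWRdim⟩

omit [Fintype F] [FiniteDimensional F V] [Fact p.Prime] [CharP F p] [Fact r.Prime] in
/-- gluing a totally singular subspace of the fixed space with an invariant one of the moved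
space -/
theorem glue_ts (hiso : ∀ v, Q (y v) = Q v)
    (WE WR : Submodule F V) (hWE : WE ≤ fixE y) (hWR : WR ≤ movR y)
    (hWRinv : ∀ u ∈ WR, y u ∈ WR) (hE : TS Q WE) (hR : TS Q WR) :
    TS Q (WE ⊔ WR) ∧ (∀ u ∈ WE ⊔ WR, y u ∈ WE ⊔ WR) := by
  refine ⟨hE.sup Q hR ?_, sup_invariant y WE WR (fixE_invariant y WE hWE) hWRinv⟩
  intro a ha b hb
  exact Un.fix_orth_mov (pB Q) y (polar_iso Q y hiso) a b (hWE ha) (hWR hb)

end struct

end Cfsg.Agent.Lib.Helper24.Or
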