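/- helper24: orthogonal toolkit D: Witt index bounds and types of fixed and moved spaces -/
import Mathlib
import Cfsg.Agent.Lib.Helper24.OrC
import Cfsg.Agent.Lib.Helper15.PolarForms
import Cfsg.Agent.Lib.Helper15.QuadClasses

set_option autoImplicit false

namespace Cfsg.Agent.Lib.Helper24.Or

open Module QuadraticMap Polynomial Cfsg.Agent.Lib.Helper12.Elus Cfsg.Agent.Lib.Helper12
  Cfsg.Agent.Lib.Helper15 Cfsg.Agent.Lib.Helper15.QuadType Cfsg.Agent.Lib.Helper15.OrthSemi

section witt

variable {F V : Type*} [Field F] [AddCommGroup V] [Module F V]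
  (Q : QuadraticForm F V)

theorem nd15_of_un (C : Submodule F V) (h : Un.NdOn (pB Q) C) : Helper15.NdOn Q C := by
  intro w hw hall
  by_contra hw0
  obtain ⟨v, hv, hne⟩ := h w hw hw0
  exact hne (hall v hv)

theorem un_of_nd15 (C : Submodule F V) (h : Helper15.NdOn Q C) : Un.NdOn (pB Q) C := by
  intro w hw hw0
  by_contra hcon
  push Not at hcon
  exact hw0 (h w hw (fun v hv => hcon v hv))

variable [Finite F] [FiniteDimensional F V]

/-- Witt index lower bound: a nondegenerate subspace of dimension at least `2j+1` contains a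
totally singular subspace of dimension `j` -/
theorem exists_ts_sub : ∀ (j : ℕ) (C : Submodule F V), Helper15.NdOn Q C → 2 * j + 1 ≤ finrank F C →
    ∃ U : Submodule F V, U ≤ C ∧ TS Q U ∧ finrank F U = j := by
  intro j
  induction j with
  | zero =>
    intro C _ _
    exact ⟨⊥, bot_le, ts_bot Q, finrank_bot F V⟩
  | succ j ih =>
    intro C hC hdim
    obtain ⟨e, heC, he0, hQe⟩ := exists_singular_in Q C (by omega)
    obtain ⟨f, hfC, hQf, hef⟩ := exists_hyp_partner Q C hC heC he0 hQe
    have hnd' := perpPair_nd Q C hC heC hfC hQe hQf hef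
    have hdim' := perpPair_finrank Q C heC hfC hQe hQf hef
    obtain ⟨U, hUC, hUts, hUdim⟩ := ih (perpPair Q C e f) hnd' (by omega)
    have heU : e ∉ U := by
      intro h
      have := ((mem_perpPair Q C e f e).1 (hUC h)).2.2
      rw [polar_comm, hef] at this
      exact one_ne_zero this
    refine ⟨U ⊔ Submodule.span F {e}, ?_, ?_, ?_⟩
    · apply sup_le (hUC.trans (perpPair_le Q C e f))
      rw [Submodule.span_singleton_le_iff_mem]
      exact heC
    · apply hUts.sup Q
      · intro w hw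
        obtain ⟨c, rfl⟩ := Submodule.mem_span_singleton.1 hw
        rw [QuadraticMap.map_smul, hQe, smul_zero]
      · intro a ha b hb
        obtain ⟨c, rfl⟩ := Submodule.mem_span_singleton.1 hb
        rw [polar_smul_right, polar_comm, ((mem_perpPair Q C e f a).1 (hUC ha)).2.1, smul_zero]
    · have hdisj : U ⊓ Submodule.span F {e} = ⊥ := by
        rw [eq_bot_iff]
        intro x hx
        obtain ⟨hxU, hxe⟩ := hx
        obtain ⟨c, rfl⟩ := Submodule.mem_span_singleton.1 hxe
        by_cases hc : c = 0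
        · rw [hc, zero_smul]; exact Submodule.zero_mem _
        · exfalso
          apply heU
          have := U.smul_mem c⁻¹ hxU
          rwa [smul_smul, inv_mul_cancel₀ hc, one_smul] at this
      have h1 := Submodule.finrank_sup_add_finrank_inf_eq U (Submodule.span F {e})
      rw [hdisj, finrank_bot, add_zero, finrank_span_singleton he0, hUdim] at h1
      exact h1

/-- Witt index upper bound -/
theorem ts_sub_le (C U : Submodule F V) (hC : Helper15.NdOn Q C) (hUC : U ≤ C) (hU : TS Q U) :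
    2 * finrank F U ≤ finrank F C :=
  Un.iso_finrank_le (pB Q) id_invol (pB_sym Q) C U (un_of_nd15 Q C hC) hUC hU.le_orth

end witt

section types

variable {F V : Type*} [Field F] [Fintype F] [AddCommGroup V] [Module F V] [FiniteDimensional F V]
  (Q : QuadraticForm F V)

/-- a totally singular subspace of a subspace, as a subspace of the restricted space -/
theorem ts_comap (C U : Submodule F V) (hU : TS Q U) :
    ∀ u ∈ U.comap C.subtype, resQ Q C u = 0 := by
  intro u hu
  exact hU _ hu

theorem finrank_comap_sub (C U : Submodule F V) (hUC : U ≤ C) :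
    finrank F (U.comap C.subtype) = finrank F U :=
  (Submodule.comapSubtypeEquivOfLe hUC).finrank_eq

/-- boundary case of the Witt index lower bound: plus type -/
theorem exists_ts_sub_plus (C : Submodule F V) (hC : Helper15.NdOn Q C) (j : ℕ)
    (hdim : finrank F C = 2 * j) (ht : HasType 1 j (fun v => resQ Q C v)) :
    ∃ U : Submodule F V, U ≤ C ∧ TS Q U ∧ finrank F U = j := by
  rcases Nat.eq_zero_or_pos j with rfl | hj
  · exact ⟨⊥, bot_le, ts_bot Q, finrank_bot F V⟩
  obtain ⟨U', hU', hdim'⟩ := PolarForms.exists_ts_of_hasType_one (resQ Q C)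
    (nondegenerate_resQ Q C hC) j hj hdim ht
  refine ⟨U'.map C.subtype, ?_, ?_, ?_⟩
  · rintro _ ⟨u, _, rfl⟩
    exact u.2
  · rintro _ ⟨u, hu, rfl⟩
    exact hU' u hu
  · rw [← hdim']
    exact (Submodule.equivSubtypeMap C U').symm.finrank_eq

/-- Witt index upper bound, minus type -/
theorem ts_sub_lt_minus (C U : Submodule F V) (hC : Helper15.NdOn Q C) (hUC : U ≤ C)
    (hU : TS Q U) (n : ℕ) (hdim : finrank F C = 2 * n)
    (ht : HasType (-1) n (fun v => resQ Q C v)) : finrank F U + 1 ≤ n := by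
  by_contra hcon
  push Not at hcon
  have h1 := PolarForms.hasType_one_of_ts (resQ Q C) (nondegenerate_resQ Q C hC) n hdim
    (U.comap C.subtype) (ts_comap Q C U hU) (by rw [finrank_comap_sub C U hUC]; omega)
  have := ht.unique h1
  omega

/-- type of an orthogonal sum of two subspaces -/
theorem hasType_of_split (C M : Submodule F V) (hsup : C ⊔ M = ⊤) (hinf : C ⊓ M = ⊥)
    (horth : ∀ a ∈ C, ∀ b ∈ M, polar Q a b = 0) {ε₁ ε₂ : ℤ} {n₁ n₂ : ℕ}
    (h₁ : HasType ε₁ n₁ (fun v => resQ Q C v)) (h₂ : HasType ε₂ n₂ (fun v => resQ Q M v)) :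
    HasType (ε₁ * ε₂) (n₁ + n₂) (fun v => Q v) := by
  have : Finite V := Module.finite_of_finite F
  have hc : IsCompl C M := ⟨disjoint_iff.2 hinf, codisjoint_iff.2 hsup⟩
  have h := h₁.prod h₂
  refine h.congr (Submodule.prodEquivOfIsCompl C M hc).toEquiv ?_
  rintro ⟨a, b⟩
  show Q ((Submodule.prodEquivOfIsCompl C M hc) (a, b)) = Q a + Q b
  rw [Submodule.coe_prodEquivOfIsCompl']
  have : Q ((a : V) + (b : V)) = Q a + Q b + polar Q (a : V) (b : V) := by
    rw [QuadraticMap.polar]; ring
  rw [this, horth a a.2 b b.2, add_zero]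

end types

section movtype

variable {F V : Type*} [Field F] [Fintype F] [AddCommGroup V] [Module F V] [FiniteDimensional F V]
  (Q : QuadraticForm F V) (y : V →ₗ[F] V) (r : ℕ) [Fact r.Prime] {p : ℕ} [Fact p.Prime] [CharP F p]

theorem card_not_dvd' (hrp : r ≠ p) : ¬ r ∣ Fintype.card F := by
  obtain ⟨k, -, hk⟩ := FiniteField.card F p
  rw [hk]
  intro hd
  exact hrp ((Nat.prime_dvd_prime_iff_eq Fact.out Fact.out).1
    ((Fact.out : r.Prime).dvd_of_dvd_pow hd))

/-- the type of a nondegenerate invariant subspace on which `y` acts without fixed points -/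
theorem type_of_fpf (hiso : ∀ v, Q (y v) = Q v) (hrp : r ≠ p) (hr2 : r ≠ 2) (hy : y ^ r = 1)
    (M : Submodule F V) (hM : ∀ u ∈ M, y u ∈ M) (hMnd : Helper15.NdOn Q M)
    (hfpf : M ⊓ fixE y = ⊥) (n : ℕ) (hdim : finrank F M = 2 * n) :
    ∃ ε : ℤ, (ε = 1 ∨ ε = -1) ∧ HasType ε n (fun v => resQ Q M v) ∧
      (ε = 1 ↔ orderOf (Fintype.card F : ZMod r) ∣ n) := by
  have hr : r.Prime := Fact.out
  have : Finite M := Module.finite_of_finite F
  obtain ⟨ε, hε, ht⟩ := hasType_of_nondeg (resQ Q M) (nondegenerate_resQ Q M hMnd) n hdim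
  refine ⟨ε, hε, ht, ?_⟩
  have hT : (y.restrict hM) ^ r = 1 := by
    rw [Module.End.pow_restrict r]
    apply LinearMap.ext
    intro v
    apply Subtype.ext
    rw [LinearMap.coe_restrict_apply, hy]
    rfl
  have hlev := QuadReal.dvd_card_level (resQ Q M) (y.restrict hM) r hr hT (by
    intro u
    show Q (y u) = Q u
    exact hiso u) (by
    intro v hv
    have h1 : (v : V) ∈ M ⊓ fixE y := by
      refine ⟨v.2, ?_⟩
      apply (mem_fixE y _).2
      exact congrArg Subtype.val hv
    rw [hfpf] at h1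
    exact Subtype.ext ((Submodule.mem_bot F).1 h1)) 1 one_ne_zero
  have hz := ht.zmod r hlev (card_not_dvd' r hrp)
  rw [orderOf_dvd_iff_pow_eq_one, hz]
  constructor
  · rintro rfl
    simp
  · intro h1
    exact QuadClasses.eps_eq_of_zmod r hr hr2 hε (Or.inl rfl) (by rw [h1]; simp)

/-- the type of the fixed space of an isometry of odd prime order -/
theorem fix_type (hnd : ∀ x, (∀ z, polar Q x z = 0) → x = 0) (hiso : ∀ v, Q (y v) = Q v)
    (hrp : r ≠ p) (hr2 : r ≠ 2) (hy : y ^ r = 1) (d : ℕ) (hV : finrank F V = 2 * d)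
    (ε : ℤ) (hε : ε = 1 ∨ ε = -1) (ht : HasType ε d (fun v => Q v)) (nM : ℕ)
    (hM : finrank F (movR y) = 2 * nM) :
    nM ≤ d ∧ finrank F (fixE y) = 2 * (d - nM) ∧
    ∃ εC : ℤ, (εC = 1 ∨ εC = -1) ∧ HasType εC (d - nM) (fun v => resQ Q (fixE y) v) ∧
      (εC = ε ↔ orderOf (Fintype.card F : ZMod r) ∣ nM) := by
  have hr : r.Prime := Fact.out
  have hr0 : (r : F) ≠ 0 := by
    rw [Ne, CharP.cast_eq_zero_iff F p]
    intro hd
    exact hrp ((Nat.prime_dvd_prime_iff_eq Fact.out Fact.out).1 hd).symm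
  have hsum := finrank_fix_add_mov' y r hy hr0
  have hle : nM ≤ d := by omega
  have hC : finrank F (fixE y) = 2 * (d - nM) := by omega
  have hdisj : fixE y ⊓ movR y = ⊥ := fix_inf_mov y r hy hr0
  have hsplit : fixE y ⊔ movR y = ⊤ := by
    have := Sp.inv_split y r hy hr0 ⊤ (fun _ _ => Submodule.mem_top)
    rwa [top_inf_eq, top_inf_eq] at this
  have hCnd := nd15_of_un Q _ (ndOn_fix Q y r hnd hiso hy hr0)
  have hMnd := nd15_of_un Q _ (ndOn_mov Q y r hnd hiso hy hr0)
  obtain ⟨εM, hεM, htM, hiffM⟩ := type_of_fpf Q y r hiso hrp hr2 hy (movR y) (movR_invariant y)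
    hMnd (by rw [inf_comm]; exact hdisj) nM hM
  obtain ⟨εC, hεC, htC⟩ := hasType_of_nondeg (resQ Q (fixE y)) (nondegenerate_resQ Q _ hCnd)
    (d - nM) hC
  refine ⟨hle, hC, εC, hεC, htC, ?_⟩
  have h1 := hasType_of_split Q (fixE y) (movR y) hsplit hdisj (by
    intro a ha b hb
    exact Un.fix_orth_mov (pB Q) y (polar_iso Q y hiso) a b ha hb) htC htM
  have h2 : d - nM + nM = d := by omega
  rw [h2] at h1
  have h3 := ht.unique h1
  rw [← hiffM]
  rcases hεC with rfl | rfl <;> rcases hεM with rfl | rfl <;> rcases hε with rfl | rfl <;>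
    simp at h3 ⊢

end movtype

end Cfsg.Agent.Lib.Helper24.Or
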