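/- helper24: orthogonal toolkit F(a): singular vectors orthogonal to a totally singular subspace -/
import Mathlib
import Cfsg.Agent.Lib.Helper24.OrD

set_option autoImplicit false

namespace Cfsg.Agent.Lib.Helper24.Or

open Module QuadraticMap Polynomial Cfsg.Agent.Lib.Helper12.Elus Cfsg.Agent.Lib.Helper12

section affine

variable {F U : Type*} [Field F] [Fintype F] [AddCommGroup U] [Module F U] [FiniteDimensional F U]

/-- the fibres of a nonzero linear functional over a finite field -/
theorem card_affine_fiber (φ : U →ₗ[F] F) (hφ : φ ≠ 0) (c : F) :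
    Fintype.card F * Nat.card {a : U // φ a = c} = Fintype.card F ^ finrank F U := by
  classical
  have : Finite U := Module.finite_of_finite F
  obtain ⟨a₀, ha₀⟩ : ∃ a₀, φ a₀ ≠ 0 := by
    by_contra h
    push Not at h
    exact hφ (LinearMap.ext h)
  have hfib : ∀ c' : F, Nat.card {a : U // φ a = c'} = Nat.card {a : U // φ a = c} := by
    intro c'
    apply Nat.card_congr
    refine Equiv.subtypeEquiv (Equiv.addRight (((c - c') / φ a₀) • a₀)) ?_
    intro a
    show φ a = c' ↔ φ (a + ((c - c') / φ a₀) • a₀) = c
    rw [map_add, map_smul, smul_eq_mul, div_mul_cancel₀ _ ha₀]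
    constructor
    · intro h; rw [h]; ring
    · intro h; linear_combination h
  have h1 : Nat.card U = ∑ c' : F, Nat.card {a : U // φ a = c'} := by
    rw [← Nat.card_sigma]
    exact (Nat.card_congr (Equiv.sigmaFiberEquiv φ)).symm
  rw [Finset.sum_congr rfl (fun c' _ => hfib c'), Finset.sum_const, smul_eq_mul, Finset.card_univ]
    at h1
  rw [← h1, Module.natCard_eq_pow_finrank (K := F), Nat.card_eq_fintype_card]

end affine

section perp

variable {F V : Type*} [Field F] [Fintype F] [AddCommGroup V] [Module F V] [FiniteDimensional F V]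
  (Q : QuadraticForm F V)

/-- singular vectors orthogonal to a totally singular subspace -/
theorem card_sing_perp (hnd : ∀ x, (∀ z, polar Q x z = 0) → x = 0) (U : Submodule F V)
    (hU : TS Q U) :
    Fintype.card F * Nat.card {x : V // Q x = 0 ∧ ∀ a ∈ U, polar Q x a = 0} +
        Fintype.card F ^ finrank F V =
      Fintype.card F * Nat.card {x : V // Q x = 0} +
        Fintype.card F ^ (finrank F V - finrank F U) := by
  classical
  have : Finite V := Module.finite_of_finite F
  have : Fintype V := Fintype.ofFinite V
  have hcardU : ∀ W : Submodule F V, Nat.card W = Fintype.card F ^ finrank F W := fun W => by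
    rw [Module.natCard_eq_pow_finrank (K := F), Nat.card_eq_fintype_card]
  have hcardV : Fintype.card V = Fintype.card F ^ finrank F V :=
    Module.card_eq_pow_finrank (K := F) (V := V)
  have hqpos : 0 < Fintype.card F := Fintype.card_pos
  have hkn : finrank F U ≤ finrank F V := Submodule.finrank_le U
  have hperp0 := Un.finrank_inf_orth' (pB Q) id_invol (pB_sym Q) ⊤ U (ndOn_top_of_nondeg Q hnd) le_top
  rw [top_inf_eq, finrank_top] at hperp0
  have hcardP := hcardU (Un.orth (pB Q) U)
  have hcardUU := hcardU U
  have haff : ∀ φ : U →ₗ[F] F, φ ≠ 0 → ∀ c : F,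
      Fintype.card F * Nat.card {a : U // φ a = c} = Fintype.card F ^ finrank F U :=
    fun φ hφ c => card_affine_fiber φ hφ c
  clear hcardU
  generalize Fintype.card F = q at *
  generalize finrank F U = k at *
  generalize finrank F V = n at *
  -- the set of pairs
  have hT1 : Nat.card {t : V × U // Q (t.1 + t.2) = 0} = Nat.card {x : V // Q x = 0} * q ^ k := by
    have e : {t : V × U // Q (t.1 + t.2) = 0} ≃ {x : V // Q x = 0} × U :=
      { toFun := fun t => (⟨t.1.1 + t.1.2, t.2⟩, t.1.2)
        invFun := fun s => ⟨(s.1.1 - s.2, s.2), by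
          show Q (s.1.1 - (s.2 : V) + (s.2 : V)) = 0
          rw [sub_add_cancel]; exact s.1.2⟩
        left_inv := by
          rintro ⟨⟨x, a⟩, h⟩
          apply Subtype.ext
          show ((x + (a : V)) - (a : V), a) = (x, a)
          rw [add_sub_cancel_right]
        right_inv := by
          rintro ⟨⟨z, hz⟩, a⟩
          apply Prod.ext
          · apply Subtype.ext
            show z - (a : V) + (a : V) = z
            rw [sub_add_cancel]
          · rfl }
    rw [Nat.card_congr e, Nat.card_prod, hcardUU]
  have hT2 : Nat.card {t : V × U // Q (t.1 + t.2) = 0} =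
      ∑ x : V, Nat.card {a : U // Q (x + a) = 0} := by
    rw [← Nat.card_sigma]
    apply Nat.card_congr
    exact
      { toFun := fun t => ⟨t.1.1, ⟨t.1.2, t.2⟩⟩
        invFun := fun s => ⟨(s.1, s.2.1), s.2.2⟩
        left_inv := fun _ => rfl
        right_inv := fun _ => rfl }
  -- the fibres
  have hexp : ∀ (x : V) (a : U), Q (x + a) = Q x + polar Q x a := by
    intro x a
    have : Q (x + (a : V)) = Q x + Q (a : V) + polar Q x (a : V) := by rw [QuadraticMap.polar]; ring
    rw [this, hU a a.2, add_zero]
  have hfib : ∀ x : V, q * Nat.card {a : U // Q (x + a) = 0} =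
      if (∀ a ∈ U, polar Q x a = 0) then (if Q x = 0 then q ^ (k + 1) else 0) else q ^ k := by
    intro x
    by_cases hx : ∀ a ∈ U, polar Q x a = 0
    · rw [if_pos hx]
      by_cases hQx : Q x = 0
      · rw [if_pos hQx]
        have : Nat.card {a : U // Q (x + a) = 0} = q ^ k := by
          rw [← hcardUU]
          apply Nat.card_congr
          refine Equiv.subtypeUnivEquiv ?_
          intro a
          rw [hexp, hQx, hx a a.2, add_zero]
        rw [this, pow_succ]; ring
      · rw [if_neg hQx]
        have : Nat.card {a : U // Q (x + a) = 0} = 0 := by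
          rw [Nat.card_eq_zero]
          left
          constructor
          rintro ⟨a, ha⟩
          rw [hexp, hx a a.2, add_zero] at ha
          exact hQx ha
        rw [this, mul_zero]
    · rw [if_neg hx]
      let φ : U →ₗ[F] F := (polarBilin Q x).comp U.subtype
      have hφ : φ ≠ 0 := by
        intro h0
        apply hx
        intro a ha
        have := LinearMap.congr_fun h0 ⟨a, ha⟩
        exact this
      have := haff φ hφ (-Q x)
      rw [← this]
      congr 1
      apply Nat.card_congr
      refine Equiv.subtypeEquivRight ?_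
      intro a
      rw [hexp]
      show Q x + polar Q x a = 0 ↔ polar Q x a = -Q x
      constructor
      · intro h; linear_combination h
      · intro h; rw [h]; ring
  -- the orthogonal complement
  have hperp : Nat.card {x : V // ∀ a ∈ U, polar Q x a = 0} = q ^ (n - k) := by
    have h2 : finrank F (Un.orth (pB Q) U) = n - k := by omega
    rw [← h2, ← hcardP]
    apply Nat.card_congr
    refine Equiv.subtypeEquivRight ?_
    intro x
    constructor
    · intro h a ha
      show polar Q a x = 0
      rw [polar_comm]; exact h a ha
    · intro h a ha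
      have : polar Q a x = 0 := h a ha
      rw [polar_comm]; exact this
  -- summing up
  have hsum : q * (Nat.card {x : V // Q x = 0} * q ^ k) =
      q ^ (k + 1) * Nat.card {x : V // Q x = 0 ∧ ∀ a ∈ U, polar Q x a = 0} +
        q ^ k * (q ^ n - q ^ (n - k)) := by
    rw [← hT1, hT2, Finset.mul_sum, Finset.sum_congr rfl (fun x _ => hfib x)]
    rw [Finset.sum_ite, Finset.sum_const, smul_eq_mul, Finset.sum_ite, Finset.sum_const,
      Finset.sum_const_zero, add_zero, smul_eq_mul]
    congr 1
    · rw [mul_comm]
      congr 1
      rw [Nat.card_eq_fintype_card, Fintype.card_subtype, Finset.filter_filter]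
      congr 1
      ext x
      simp only [Finset.mem_filter, Finset.mem_univ, true_and]
      exact and_comm
    · rw [mul_comm]
      congr 1
      have h1 : (Finset.univ.filter (fun x : V => ¬ ∀ a ∈ U, polar Q x a = 0)).card =
          Fintype.card V - (Finset.univ.filter (fun x : V => ∀ a ∈ U, polar Q x a = 0)).card := by
        have := Finset.card_filter_add_card_filter_not (s := (Finset.univ : Finset V))
          (fun x : V => ∀ a ∈ U, polar Q x a = 0)
        rw [Finset.card_univ] at this
        omega
      rw [h1, hcardV, ← Fintype.card_subtype, ← Nat.card_eq_fintype_card, hperp]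
  -- cancel q^k
  have hpk : 0 < q ^ k := pow_pos hqpos k
  have hle : q ^ (n - k) ≤ q ^ n := Nat.pow_le_pow_right hqpos (Nat.sub_le n k)
  apply Nat.eq_of_mul_eq_mul_left hpk
  have e1 : q ^ k * q ^ (n - k) = q ^ n := by rw [← pow_add]; congr 1; omega
  have h3 : q ^ k * (q ^ n - q ^ (n - k)) + q ^ k * q ^ (n - k) = q ^ k * q ^ n := by
    rw [← mul_add, Nat.sub_add_cancel hle]
  have h4 : q * (Nat.card {x : V // Q x = 0} * q ^ k) + q ^ k * q ^ (n - k) =
      q ^ (k + 1) * Nat.card {x : V // Q x = 0 ∧ ∀ a ∈ U, polar Q x a = 0} + q ^ k * q ^ n := by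
    rw [hsum, add_assoc, h3]
  rw [pow_succ] at h4
  linarith

end perp

end Cfsg.Agent.Lib.Helper24.Or
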