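/- helper24: orthogonal toolkit F(b): totally singular frames -/
import Mathlib
import Cfsg.Agent.Lib.Helper24.OrD
import Cfsg.Agent.Lib.Helper24.OrFa

set_option autoImplicit false

namespace Cfsg.Agent.Lib.Helper24.Or

open Module QuadraticMap Polynomial Cfsg.Agent.Lib.Helper12.Elus Cfsg.Agent.Lib.Helper12

section frames

variable {F V : Type*} [Field F] [AddCommGroup V] [Module F V]
  (Q : QuadraticForm F V)

/-- totally singular frames: linearly independent, pairwise orthogonal singular vectors -/
def TSFrame (k : ℕ) (v : Fin k → V) : Prop :=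
  LinearIndependent F v ∧ (∀ i, Q (v i) = 0) ∧ ∀ i j, polar Q (v i) (v j) = 0

theorem TSFrame.ts {k : ℕ} {v : Fin k → V} (h : TSFrame Q k v) :
    TS Q (Submodule.span F (Set.range v)) := ts_span Q v h.2.1 h.2.2

theorem TSFrame.finrank {k : ℕ} {v : Fin k → V} (h : TSFrame Q k v) :
    finrank F (Submodule.span F (Set.range v)) = k := by
  rw [finrank_span_eq_card h.1, Fintype.card_fin]

theorem perp_span_iff {k : ℕ} (v : Fin k → V) (u : V) :
    (∀ a ∈ Submodule.span F (Set.range v), polar Q u a = 0) ↔ ∀ i, polar Q u (v i) = 0 := by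
  constructor
  · intro h i
    exact h _ (Submodule.subset_span ⟨i, rfl⟩)
  · intro h a ha
    refine Submodule.span_induction ?_ ?_ ?_ ?_ ha
    · rintro _ ⟨i, rfl⟩
      exact h i
    · rw [polar_zero_right]
    · intro x z _ _ hx hz
      rw [polar_add_right, hx, hz, add_zero]
    · intro c x _ hx
      rw [polar_smul_right, hx, smul_zero]

theorem tsFrame_cons_iff {k : ℕ} (u : V) (v : Fin k → V) :
    TSFrame Q (k + 1) (Fin.cons u v) ↔ TSFrame Q k v ∧ Q u = 0 ∧ (∀ i, polar Q u (v i) = 0) ∧
      u ∉ Submodule.span F (Set.range v) := by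
  unfold TSFrame
  rw [linearIndependent_finCons]
  constructor
  · rintro ⟨⟨hli, hu⟩, hQ, hpol⟩
    refine ⟨⟨hli, fun i => ?_, fun i j => ?_⟩, ?_, fun i => ?_, hu⟩
    · have := hQ i.succ
      rwa [Fin.cons_succ] at this
    · have := hpol i.succ j.succ
      rwa [Fin.cons_succ, Fin.cons_succ] at this
    · have := hQ 0
      rwa [Fin.cons_zero] at this
    · have := hpol 0 i.succ
      rwa [Fin.cons_zero, Fin.cons_succ] at this
  · rintro ⟨⟨hli, hQ, hpol⟩, hQu, hpu, hu⟩
    refine ⟨⟨hli, hu⟩, fun i => ?_, fun i j => ?_⟩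
    · refine Fin.cases ?_ (fun i' => ?_) i
      · rw [Fin.cons_zero]; exact hQu
      · rw [Fin.cons_succ]; exact hQ i'
    · refine Fin.cases ?_ (fun i' => ?_) i
      · refine Fin.cases ?_ (fun j' => ?_) j
        · rw [Fin.cons_zero, polar_self, hQu, smul_zero]
        · rw [Fin.cons_zero, Fin.cons_succ]; exact hpu j'
      · refine Fin.cases ?_ (fun j' => ?_) j
        · rw [Fin.cons_zero, Fin.cons_succ, polar_comm]; exact hpu i'
        · rw [Fin.cons_succ, Fin.cons_succ]; exact hpol i' j'

/-- fibrewise counting with constant fibre size (after helper15's PlusFrames) -/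
theorem card_pairs_const' {α β : Type*} [Finite α] [Finite β] (P : α → Prop) (R : α → β → Prop)
    (c : ℕ) (h : ∀ a, P a → Nat.card {b // R a b} = c) :
    Nat.card {p : β × α // P p.2 ∧ R p.2 p.1} = Nat.card {a // P a} * c := by
  classical
  have := Fintype.ofFinite α
  have e1 : {p : β × α // P p.2 ∧ R p.2 p.1} ≃ Σ a : {a // P a}, {b // R a.1 b} :=
    { toFun := fun p => ⟨⟨p.1.2, p.2.1⟩, ⟨p.1.1, p.2.2⟩⟩
      invFun := fun x => ⟨(x.2.1, x.1.1), x.1.2, x.2.2⟩
      left_inv := fun p => rfl
      right_inv := fun x => rfl }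
  rw [Nat.card_congr e1, Nat.card_sigma]
  rw [Finset.sum_congr rfl (fun a _ => h a.1 a.2), Finset.sum_const, smul_eq_mul,
    Finset.card_univ, Nat.card_eq_fintype_card]

/-- removing a subset -/
theorem card_and_not' {α : Type*} [Finite α] (A S : α → Prop) (hSA : ∀ a, S a → A a) :
    Nat.card {a // A a ∧ ¬ S a} + Nat.card {a // S a} = Nat.card {a // A a} := by
  classical
  have := Fintype.ofFinite α
  simp only [Nat.card_eq_fintype_card, Fintype.card_subtype]
  have h1 : (Finset.univ.filter (fun a => S a)) = (Finset.univ.filter A).filter (fun a => S a) := by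
    ext a
    simp only [Finset.mem_filter, Finset.mem_univ, true_and]
    exact ⟨fun h => ⟨hSA a h, h⟩, fun h => h.2⟩
  have h2 : (Finset.univ.filter (fun a => A a ∧ ¬ S a)) =
      (Finset.univ.filter A).filter (fun a => ¬ S a) := by
    ext a
    simp only [Finset.mem_filter, Finset.mem_univ, true_and]
  rw [h1, h2, add_comm]
  exact Finset.card_filter_add_card_filter_not (s := Finset.univ.filter A) (fun a => S a)

/-- splitting off the first vector -/
def consE' (α : Type*) (k : ℕ) : (Fin (k + 1) → α) ≃ α × (Fin k → α) where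
  toFun v := (v 0, Fin.tail v)
  invFun p := Fin.cons p.1 p.2
  left_inv v := Fin.cons_self_tail v
  right_inv p := by
    obtain ⟨a, b⟩ := p
    simp only [Fin.cons_zero, Fin.tail_cons]

theorem consE'_apply (α : Type*) (k : ℕ) (v : Fin (k + 1) → α) :
    consE' α k v = (v 0, Fin.tail v) := rfl

variable [Fintype F] [FiniteDimensional F V]

/-- extending a frame by one vector, when the number of choices is constant -/
theorem card_frames_succ (k c : ℕ)
    (hc : ∀ v : Fin k → V, TSFrame Q k v →
      Nat.card {u : V // Q u = 0 ∧ (∀ i, polar Q u (v i) = 0) ∧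
        u ∉ Submodule.span F (Set.range v)} = c) :
    Nat.card {w : Fin (k + 1) → V // TSFrame Q (k + 1) w} =
      Nat.card {v : Fin k → V // TSFrame Q k v} * c := by
  classical
  have : Finite V := Module.finite_of_finite F
  have e1 : {w : Fin (k + 1) → V // TSFrame Q (k + 1) w} ≃
      {p : V × (Fin k → V) // TSFrame Q k p.2 ∧ (Q p.1 = 0 ∧ (∀ i, polar Q p.1 (p.2 i) = 0) ∧
        p.1 ∉ Submodule.span F (Set.range p.2))} :=
    Equiv.subtypeEquiv (consE' _ k) (fun v => by
      rw [← tsFrame_cons_iff, consE'_apply]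
      simp only [Fin.cons_self_tail])
  rw [Nat.card_congr e1]
  exact card_pairs_const' (fun v => TSFrame Q k v)
    (fun v u => Q u = 0 ∧ (∀ i, polar Q u (v i) = 0) ∧ u ∉ Submodule.span F (Set.range v)) c hc

/-- the number of choices for the next vector of a frame -/
theorem card_next (hnd : ∀ x, (∀ z, polar Q x z = 0) → x = 0) (k : ℕ) (v : Fin k → V)
    (hv : TSFrame Q k v) :
    Fintype.card F * (Nat.card {u : V // Q u = 0 ∧ (∀ i, polar Q u (v i) = 0) ∧
        u ∉ Submodule.span F (Set.range v)} + Fintype.card F ^ k) +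
        Fintype.card F ^ finrank F V =
      Fintype.card F * Nat.card {x : V // Q x = 0} + Fintype.card F ^ (finrank F V - k) := by
  classical
  have : Finite V := Module.finite_of_finite F
  have h1 := card_sing_perp Q hnd (Submodule.span F (Set.range v)) (hv.ts Q)
  rw [hv.finrank Q] at h1
  rw [← h1]
  congr 2
  have hU : Nat.card {u : V // u ∈ Submodule.span F (Set.range v)} = Fintype.card F ^ k := by
    have := Module.natCard_eq_pow_finrank (K := F) (V := Submodule.span F (Set.range v))
    rw [hv.finrank Q, Nat.card_eq_fintype_card (α := F)] at this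
    exact this
  rw [← hU]
  have h2 := card_and_not' (fun u : V => Q u = 0 ∧ ∀ i, polar Q u (v i) = 0)
    (fun u => u ∈ Submodule.span F (Set.range v)) (fun u hu =>
      ⟨hv.ts Q u hu, fun i => (hv.ts Q).polar_zero Q u (v i) hu (Submodule.subset_span ⟨i, rfl⟩)⟩)
  have e3 : Nat.card {u : V // Q u = 0 ∧ (∀ i, polar Q u (v i) = 0) ∧
      u ∉ Submodule.span F (Set.range v)} =
      Nat.card {a : V // (Q a = 0 ∧ ∀ i, polar Q a (v i) = 0) ∧
        a ∉ Submodule.span F (Set.range v)} := by
    apply Nat.card_congr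
    refine Equiv.subtypeEquivRight ?_
    intro u
    exact ⟨fun h => ⟨⟨h.1, h.2.1⟩, h.2.2⟩, fun h => ⟨h.1.1, h.1.2, h.2⟩⟩
  have e4 : Nat.card {x : V // Q x = 0 ∧ ∀ a ∈ Submodule.span F (Set.range v), polar Q x a = 0} =
      Nat.card {a : V // Q a = 0 ∧ ∀ i, polar Q a (v i) = 0} := by
    apply Nat.card_congr
    refine Equiv.subtypeEquivRight ?_
    intro u
    rw [perp_span_iff]
  rw [e3, e4]
  exact h2

end frames

end Cfsg.Agent.Lib.Helper24.Or
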