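/- helper24: orthogonal toolkit F(c): totally singular frames and subspaces -/
import Mathlib
import Cfsg.Agent.Lib.Helper24.OrFb

set_option autoImplicit false

namespace Cfsg.Agent.Lib.Helper24.Or

open Module QuadraticMap Polynomial Cfsg.Agent.Lib.Helper12.Elus Cfsg.Agent.Lib.Helper12

section count

variable {F V : Type*} [Field F] [Fintype F] [AddCommGroup V] [Module F V] [FiniteDimensional F V]
  (Q : QuadraticForm F V)

omit [Fintype F] [FiniteDimensional F V] in
theorem card_frames_zero : Nat.card {v : Fin 0 → V // TSFrame Q 0 v} = 1 := by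
  rw [Nat.card_eq_one_iff_unique]
  refine ⟨⟨?_⟩, ⟨⟨fun i => i.elim0, linearIndependent_empty_type, fun i => i.elim0,
    fun i => i.elim0⟩⟩⟩
  rintro ⟨a, _⟩ ⟨b, _⟩
  apply Subtype.ext
  funext i
  exact i.elim0

/-- the number of totally singular frames -/
theorem card_frames (hnd : ∀ x, (∀ z, polar Q x z = 0) → x = 0) (c : ℕ → ℕ) (m : ℕ)
    (hc : ∀ k, k < m → Fintype.card F * (c k + Fintype.card F ^ k) +
        Fintype.card F ^ finrank F V =
      Fintype.card F * Nat.card {x : V // Q x = 0} + Fintype.card F ^ (finrank F V - k)) :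
    Nat.card {v : Fin m → V // TSFrame Q m v} = ∏ k ∈ Finset.range m, c k := by
  induction m with
  | zero => rw [Finset.prod_range_zero]; exact card_frames_zero Q
  | succ m ih =>
    rw [Finset.prod_range_succ, ← ih (fun k hk => hc k (by omega))]
    apply card_frames_succ Q m (c m)
    intro v hv
    have h1 := card_next Q hnd m v hv
    have h2 := hc m (by omega)
    have hq : 0 < Fintype.card F := Fintype.card_pos
    have h3 : Fintype.card F * (Nat.card {u : V // Q u = 0 ∧ (∀ i, polar Q u (v i) = 0) ∧
        u ∉ Submodule.span F (Set.range v)} + Fintype.card F ^ m) =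
        Fintype.card F * (c m + Fintype.card F ^ m) := by omega
    have h4 := Nat.eq_of_mul_eq_mul_left hq h3
    omega

/-- frames and subspaces -/
theorem card_ts_sub_mul (m : ℕ) :
    Nat.card {W : Submodule F V // finrank F W = m ∧ TS Q W} *
        ∏ i : Fin m, (Fintype.card F ^ m - Fintype.card F ^ (i : ℕ)) =
      Nat.card {v : Fin m → V // TSFrame Q m v} := by
  classical
  have : Finite V := Module.finite_of_finite F
  let f : {v : Fin m → V // TSFrame Q m v} → {W : Submodule F V // finrank F W = m ∧ TS Q W} :=
    fun v => ⟨Submodule.span F (Set.range v.1), v.2.finrank Q, v.2.ts Q⟩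
  have e := Equiv.sigmaFiberEquiv f
  rw [← Nat.card_congr e]
  have : Finite {W : Submodule F V // finrank F W = m ∧ TS Q W} := inferInstance
  have : Fintype {W : Submodule F V // finrank F W = m ∧ TS Q W} := Fintype.ofFinite _
  rw [Nat.card_sigma]
  have h : ∀ W : {W : Submodule F V // finrank F W = m ∧ TS Q W},
      Nat.card {v : {v : Fin m → V // TSFrame Q m v} // f v = W} =
        ∏ i : Fin m, (Fintype.card F ^ m - Fintype.card F ^ (i : ℕ)) := by
    intro W
    have h1 := card_linearIndependent (K := F) (V := W.1) (k := m) (le_of_eq W.2.1.symm)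
    rw [W.2.1] at h1
    rw [← h1]
    apply Nat.card_congr
    refine
      { toFun := fun v => ⟨fun i => ⟨v.1.1 i, ?_⟩, ?_⟩
        invFun := fun s => ⟨⟨fun i => (s.1 i : V), ?_, ?_, ?_⟩, ?_⟩
        left_inv := fun _ => rfl
        right_inv := fun _ => rfl }
    · have h2 : v.1.1 i ∈ Submodule.span F (Set.range v.1.1) := Submodule.subset_span ⟨i, rfl⟩
      have h3 : Submodule.span F (Set.range v.1.1) = W.1 := congrArg Subtype.val v.2
      rw [h3] at h2
      exact h2
    · apply LinearIndependent.of_comp W.1.subtype
      exact v.1.2.1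
    · exact s.2.map' W.1.subtype (Submodule.ker_subtype W.1)
    · intro i
      exact W.2.2 _ (s.1 i).2
    · intro i j
      exact W.2.2.polar_zero Q _ _ (s.1 i).2 (s.1 j).2
    · apply Subtype.ext
      show Submodule.span F (Set.range fun i => (s.1 i : V)) = W.1
      have hli : LinearIndependent F (fun i => (s.1 i : V)) :=
        s.2.map' W.1.subtype (Submodule.ker_subtype W.1)
      apply Submodule.eq_of_le_of_finrank_eq
      · rw [Submodule.span_le]
        rintro _ ⟨i, rfl⟩
        exact (s.1 i).2
      · rw [finrank_span_eq_card hli, Fintype.card_fin, W.2.1]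
  rw [Finset.sum_congr rfl (fun W _ => h W), Finset.sum_const, smul_eq_mul, Finset.card_univ,
    Nat.card_eq_fintype_card]

end count

end Cfsg.Agent.Lib.Helper24.Or
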