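/- helper24: orthogonal toolkit F(d): the number of totally singular subspaces, arithmetic -/
import Mathlib
import Cfsg.Agent.Lib.Helper24.OrFc

set_option autoImplicit false

namespace Cfsg.Agent.Lib.Helper24.Or

open Module QuadraticMap Polynomial Cfsg.Agent.Lib.Helper12.Elus Cfsg.Agent.Lib.Helper12

section count

variable {F V : Type*} [Field F] [Fintype F] [AddCommGroup V] [Module F V] [FiniteDimensional F V]
  (Q : QuadraticForm F V)

/-- the general shape of the count of totally singular subspaces -/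
theorem count_gen (hnd : ∀ x, (∀ z, polar Q x z = 0) → x = 0) (m : ℕ) (e : ℕ → ℕ)
    (he : ∀ k, k < m → Fintype.card F * (Fintype.card F ^ k * e k + Fintype.card F ^ k) +
        Fintype.card F ^ finrank F V =
      Fintype.card F * Nat.card {x : V // Q x = 0} + Fintype.card F ^ (finrank F V - k)) :
    Nat.card {W : Submodule F V // finrank F W = m ∧ TS Q W} *
        ∏ i : Fin m, (Fintype.card F ^ (m - (i : ℕ)) - 1) = ∏ i : Fin m, e i := by
  have hq : 0 < Fintype.card F := Fintype.card_pos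
  have h1 := card_ts_sub_mul Q m
  rw [card_frames Q hnd (fun k => Fintype.card F ^ k * e k) m he,
    prod_pow_sub_pow _ m m le_rfl, ← Fin.prod_univ_eq_prod_range
      (fun k => Fintype.card F ^ k * e k) m, Finset.prod_mul_distrib] at h1
  have hpos : 0 < ∏ i : Fin m, Fintype.card F ^ (i : ℕ) :=
    Finset.prod_pos (fun i _ => pow_pos hq _)
  apply Nat.eq_of_mul_eq_mul_left hpos
  rw [← h1]
  ring

end count

section arith

/-- the odd-dimensional case -/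
theorem he_odd (q S d k : ℕ) (hq : 0 < q) (hk : k ≤ d) (hS : S = q ^ (2 * d)) :
    q * (q ^ k * (q ^ (2 * (d - k)) - 1) + q ^ k) + q ^ (2 * d + 1) =
      q * S + q ^ (2 * d + 1 - k) := by
  have h1 : 1 ≤ q ^ (2 * (d - k)) := Nat.one_le_pow _ _ hq
  have h2 : q ^ k * (q ^ (2 * (d - k)) - 1) + q ^ k = q ^ k * q ^ (2 * (d - k)) := by
    rw [Nat.mul_sub, mul_one, Nat.sub_add_cancel]
    exact Nat.le_mul_of_pos_right _ (by omega)
  rw [h2, hS, ← pow_add, ← pow_succ', ← pow_succ']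
  have e1 : k + 2 * (d - k) + 1 = 2 * d + 1 - k := by omega
  rw [e1]
  ring

/-- the plus case -/
theorem he_plus (q S d k : ℕ) (hq : 0 < q) (hk : k + 1 ≤ d)
    (hS : (q : ℤ) * S = (q : ℤ) ^ (2 * d) - 1 * (q : ℤ) ^ d + 1 * (q : ℤ) ^ (d + 1)) :
    q * (q ^ k * ((q ^ (d - k) - 1) * (q ^ (d - k - 1) + 1)) + q ^ k) + q ^ (2 * d) =
      q * S + q ^ (2 * d - k) := by
  obtain ⟨j, rfl⟩ : ∃ j, d = k + j + 1 := ⟨d - k - 1, by omega⟩
  have e1 : k + j + 1 - k = j + 1 := by omega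
  have e2 : j + 1 - 1 = j := by omega
  have e3 : 2 * (k + j + 1) - k = k + 2 * j + 2 := by omega
  rw [e1, e2, e3]
  have h1 : 1 ≤ q ^ (j + 1) := Nat.one_le_pow _ _ hq
  zify [h1]
  rw [hS]
  ring

/-- the minus case -/
theorem he_minus (q S d k : ℕ) (hq : 0 < q) (hk : k + 1 ≤ d)
    (hS : (q : ℤ) * S = (q : ℤ) ^ (2 * d) - (-1) * (q : ℤ) ^ d + (-1) * (q : ℤ) ^ (d + 1)) :
    q * (q ^ k * ((q ^ (d - k) + 1) * (q ^ (d - k - 1) - 1)) + q ^ k) + q ^ (2 * d) =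
      q * S + q ^ (2 * d - k) := by
  obtain ⟨j, rfl⟩ : ∃ j, d = k + j + 1 := ⟨d - k - 1, by omega⟩
  have e1 : k + j + 1 - k = j + 1 := by omega
  have e2 : j + 1 - 1 = j := by omega
  have e3 : 2 * (k + j + 1) - k = k + 2 * j + 2 := by omega
  rw [e1, e2, e3]
  have h1 : 1 ≤ q ^ j := Nat.one_le_pow _ _ hq
  zify [h1]
  rw [hS]
  ring

theorem dvd_factor (r N m A : ℕ) (hr : r.Prime) (e : ℕ → ℕ)
    (h : N * A = ∏ i : Fin m, e i) (hd : r ∣ N) : ∃ i, i < m ∧ r ∣ e i := by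
  have h1 : r ∣ ∏ i : Fin m, e i := by
    rw [← h]
    exact Dvd.dvd.mul_right hd _
  obtain ⟨i, -, hi⟩ := (Prime.dvd_finsetProd_iff hr.prime _).1 h1
  exact ⟨i, i.2, hi⟩

theorem not_dvd_pow_sub_one (p q a : ℕ) (hp : p.Prime) (hpq : p ∣ q) (hq : 0 < q) (ha : 1 ≤ a) :
    ¬ p ∣ q ^ a - 1 := by
  intro h
  have h1 : p ∣ q ^ a := Dvd.dvd.trans hpq (dvd_pow_self q (by omega))
  have h2 : 1 ≤ q ^ a := Nat.one_le_pow _ _ hq
  have h3 : p ∣ q ^ a - (q ^ a - 1) := Nat.dvd_sub h1 h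
  have h4 : q ^ a - (q ^ a - 1) = 1 := by omega
  rw [h4] at h3
  exact hp.one_lt.ne' (Nat.dvd_one.1 h3)

theorem not_dvd_pow_add_one (p q a : ℕ) (hp : p.Prime) (hpq : p ∣ q) (ha : 1 ≤ a) :
    ¬ p ∣ q ^ a + 1 := by
  intro h
  have h1 : p ∣ q ^ a := Dvd.dvd.trans hpq (dvd_pow_self q (by omega))
  have h3 : p ∣ q ^ a + 1 - q ^ a := Nat.dvd_sub h h1
  rw [Nat.add_sub_cancel_left] at h3
  exact hp.one_lt.ne' (Nat.dvd_one.1 h3)

end arith

end Cfsg.Agent.Lib.Helper24.Or
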