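/- helper24: orthogonal toolkit E: sufficiency and necessity cores for invariant totally singular subspaces -/
import Mathlib
import Cfsg.Agent.Lib.Helper24.OrD

set_option autoImplicit false

namespace Cfsg.Agent.Lib.Helper24.Or

open Module QuadraticMap Polynomial Cfsg.Agent.Lib.Helper12.Elus Cfsg.Agent.Lib.Helper12
  Cfsg.Agent.Lib.Helper15 Cfsg.Agent.Lib.Helper15.QuadType Cfsg.Agent.Lib.Helper15.OrthSemi

section suff

variable {F V : Type*} [Field F] [Fintype F] [AddCommGroup V] [Module F V] [FiniteDimensional F V]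
  (Q : QuadraticForm F V) (y : V →ₗ[F] V) (r : ℕ) [Fact r.Prime] {p : ℕ} [Fact p.Prime] [CharP F p]

/-- the invariant totally singular subspaces obtained from the structure of the moved space and
a totally singular subspace of the fixed space -/
theorem suff_core (hnd : ∀ x, (∀ z, polar Q x z = 0) → x = 0) (hiso : ∀ v, Q (y v) = Q v)
    (hrp : r ≠ p) (hr2 : r ≠ 2) (hy : y ^ r = 1) (m : ℕ) :
    ∃ k₀ o : ℕ, finrank F (movR y) = orderOf (Fintype.card F : ZMod r) * (2 * k₀ + o) ∧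
      (Even (orderOf (Fintype.card F : ZMod r)) →
        o ≤ (r - 1) / orderOf (Fintype.card F : ZMod r)) ∧
      (Odd (orderOf (Fintype.card F : ZMod r)) → o = 0) ∧
      ∀ k, k ≤ k₀ → orderOf (Fintype.card F : ZMod r) * k ≤ m →
        (∃ U : Submodule F V, U ≤ fixE y ∧ TS Q U ∧
          finrank F U = m - orderOf (Fintype.card F : ZMod r) * k) →
        ∃ W : Submodule F V, finrank F W = m ∧ TS Q W ∧ ∀ u ∈ W, y u ∈ W := by
  have hr : r.Prime := Fact.out
  have hr0 : (r : F) ≠ 0 := by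
    rw [Ne, CharP.cast_eq_zero_iff F p]
    intro hd
    exact hrp ((Nat.prime_dvd_prime_iff_eq Fact.out Fact.out).1 hd).symm
  obtain ⟨k₀, o, h1, h2, h3, h4⟩ := mov_structure Q y r hnd hiso hrp hr2 hy
  refine ⟨k₀, o, h1, h2, h3, ?_⟩
  intro k hk hkm ⟨U, hUC, hUts, hUdim⟩
  obtain ⟨W, hWR, hWinv, hWts, hWdim⟩ := h4 k hk
  obtain ⟨hts, hinv⟩ := glue_ts Q y hiso U W hUC hWR hWinv hUts hWts
  refine ⟨U ⊔ W, ?_, hts, hinv⟩
  have hdisj : U ⊓ W = ⊥ := by
    rw [eq_bot_iff, ← fix_inf_mov y r hy hr0]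
    exact inf_le_inf hUC hWR
  have := Submodule.finrank_sup_add_finrank_inf_eq U W
  rw [hdisj, finrank_bot, add_zero, hUdim, hWdim] at this
  omega

/-- splitting an invariant totally singular subspace into its fixed and moved parts -/
theorem nec_core (hnd : ∀ x, (∀ z, polar Q x z = 0) → x = 0) (hiso : ∀ v, Q (y v) = Q v)
    (hrp : r ≠ p) (hy : y ^ r = 1) (W : Submodule F V) (hW : ∀ u ∈ W, y u ∈ W)
    (hWts : TS Q W) :
    ∃ k : ℕ, finrank F W = finrank F ↥(W ⊓ fixE y) + orderOf (Fintype.card F : ZMod r) * k ∧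
      finrank F ↥(W ⊓ movR y) = orderOf (Fintype.card F : ZMod r) * k ∧
      2 * (orderOf (Fintype.card F : ZMod r) * k) ≤ finrank F (movR y) ∧
      TS Q (W ⊓ fixE y) := by
  have hr0 : (r : F) ≠ 0 := by
    rw [Ne, CharP.cast_eq_zero_iff F p]
    intro hd
    exact hrp ((Nat.prime_dvd_prime_iff_eq Fact.out Fact.out).1 hd).symm
  obtain ⟨h1, -, h3⟩ := Un.iso_inv_split (pB Q) y r id_invol (pB_sym Q) hnd
    (polar_iso Q y hiso) hy hr0 W hW hWts.le_orth
  obtain ⟨k, hk⟩ := orderOf_dvd_finrank_of_le_movR y r hy hr0 _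
      (Sp.inf_invariant y _ _ hW (movR_invariant y)) (inf_le_right : W ⊓ movR y ≤ movR y)
  refine ⟨k, ?_, hk, ?_, hWts.mono Q inf_le_left⟩
  · rw [h1, hk]
  · rw [← hk]; exact h3

omit [FiniteDimensional F V] in
/-- a space of dimension zero is of plus type -/
theorem eps_of_hasType_zero (C : Submodule F V) (hC : finrank F C = 0) [FiniteDimensional F C]
    (ε : ℤ) (ht : HasType ε 0 (fun v => resQ Q C v)) : ε = 1 := by
  have h1 := ht.2 1 one_ne_zero
  have h2 : Nat.card {v : C // resQ Q C v = 1} = 0 := by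
    rw [Nat.card_eq_zero]
    left
    constructor
    rintro ⟨v, hv⟩
    have hsub : Subsingleton C := Module.finrank_zero_iff.1 hC
    rw [Subsingleton.elim v 0, QuadraticMap.map_zero] at hv
    exact zero_ne_one hv
  rw [h2] at h1
  simp at h1
  linarith

/-- arithmetic: divisibility of half the dimension of the moved space -/
theorem dvd_half_iff (i k₀ o nM : ℕ) (hi : 0 < i) (h : 2 * nM = i * (2 * k₀ + o))
    (hodd : Odd i → o = 0) : i ∣ nM ↔ Even o := by
  rcases Nat.even_or_odd i with hev | hod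
  · obtain ⟨h', rfl⟩ := hev
    have hh : 0 < h' := by omega
    have h1 : nM = h' * (2 * k₀ + o) := by
      have : 2 * nM = 2 * (h' * (2 * k₀ + o)) := by rw [h]; ring
      omega
    constructor
    · rintro ⟨c, hc⟩
      rw [hc] at h1
      have h2 : h' * (2 * c) = h' * (2 * k₀ + o) := by rw [← h1]; ring
      have h3 := Nat.eq_of_mul_eq_mul_left hh h2
      exact ⟨c - k₀, by omega⟩
    · rintro ⟨o', rfl⟩
      exact ⟨k₀ + o', by rw [h1]; ring⟩
  · have ho := hodd hod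
    subst ho
    constructor
    · intro _; exact ⟨0, rfl⟩
    · intro _
      exact ⟨k₀, by
        have : 2 * nM = 2 * (i * k₀) := by rw [h]; ring
        omega⟩

/-- even dimension: sufficiency core with the type of the fixed space -/
theorem suff_even (hnd : ∀ x, (∀ z, polar Q x z = 0) → x = 0) (hiso : ∀ v, Q (y v) = Q v)
    (hrp : r ≠ p) (hr2 : r ≠ 2) (hy : y ^ r = 1) (d : ℕ) (hV : finrank F V = 2 * d)
    (ε : ℤ) (hε : ε = 1 ∨ ε = -1) (ht : HasType ε d (fun v => Q v)) (m : ℕ) :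
    ∃ k₀ o nM : ℕ, 2 * nM = orderOf (Fintype.card F : ZMod r) * (2 * k₀ + o) ∧ nM ≤ d ∧
      (Even (orderOf (Fintype.card F : ZMod r)) →
        o ≤ (r - 1) / orderOf (Fintype.card F : ZMod r)) ∧
      (Odd (orderOf (Fintype.card F : ZMod r)) → o = 0) ∧
      ∃ εC : ℤ, (εC = 1 ∨ εC = -1) ∧ (εC = ε ↔ Even o) ∧ (nM = d → εC = 1) ∧
        ∀ k, k ≤ k₀ → orderOf (Fintype.card F : ZMod r) * k ≤ m →
          (m - orderOf (Fintype.card F : ZMod r) * k + 1 ≤ d - nM ∨
            (m - orderOf (Fintype.card F : ZMod r) * k ≤ d - nM ∧ εC = 1)) →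
          ∃ W : Submodule F V, finrank F W = m ∧ TS Q W ∧ ∀ u ∈ W, y u ∈ W := by
  have hr0 : (r : F) ≠ 0 := by
    rw [Ne, CharP.cast_eq_zero_iff F p]
    intro hd
    exact hrp ((Nat.prime_dvd_prime_iff_eq Fact.out Fact.out).1 hd).symm
  have hipos : 0 < orderOf (Fintype.card F : ZMod r) := orderOf_card_pos r hrp
  obtain ⟨k₀, o, h1, h2, h3, h4⟩ := suff_core Q y r hnd hiso hrp hr2 hy m
  have hCnd := nd15_of_un Q _ (ndOn_fix Q y r hnd hiso hy hr0)
  have hft := fix_type Q y r hnd hiso hrp hr2 hy d hV ε hε ht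
  generalize orderOf (Fintype.card F : ZMod r) = i₀ at *
  have hevM : Even (i₀ * (2 * k₀ + o)) := by
    rcases Nat.even_or_odd i₀ with hev | hod
    · exact hev.mul_right _
    · rw [h3 hod, add_zero]
      exact (even_two_mul k₀).mul_left _
  obtain ⟨nM, hnM⟩ := hevM
  have hnM2 : 2 * nM = i₀ * (2 * k₀ + o) := by omega
  have hMdim : finrank F (movR y) = 2 * nM := by rw [h1, hnM2]
  obtain ⟨hle, hCdim, εC, hεC, htC, hiff⟩ := hft nM hMdim
  refine ⟨k₀, o, nM, hnM2, hle, h2, h3, εC, hεC, ?_, ?_, ?_⟩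
  · rw [hiff]
    exact dvd_half_iff i₀ k₀ o nM hipos hnM2 h3
  · intro hd
    have h0 : finrank F (fixE y) = 0 := by rw [hCdim, hd]; omega
    have h00 : d - nM = 0 := by omega
    rw [h00] at htC
    exact eps_of_hasType_zero Q (fixE y) h0 εC htC
  · intro k hk hkm hcase
    apply h4 k hk hkm
    by_cases hlt : m - i₀ * k + 1 ≤ d - nM
    · exact exists_ts_sub Q _ (fixE y) hCnd (by rw [hCdim]; omega)
    · rcases hcase with h | ⟨h, hplus⟩
      · exact absurd h hlt
      · have heq : d - nM = m - i₀ * k := by omega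
        rw [hplus, heq] at htC
        exact exists_ts_sub_plus Q (fixE y) hCnd _ (by rw [hCdim, heq]) htC

/-- odd dimension: sufficiency core -/
theorem suff_odd (hnd : ∀ x, (∀ z, polar Q x z = 0) → x = 0) (hiso : ∀ v, Q (y v) = Q v)
    (hrp : r ≠ p) (hr2 : r ≠ 2) (hy : y ^ r = 1) (d : ℕ) (hV : finrank F V = 2 * d + 1)
    (m : ℕ) :
    ∃ k₀ o nM : ℕ, 2 * nM = orderOf (Fintype.card F : ZMod r) * (2 * k₀ + o) ∧ nM ≤ d ∧
      (Even (orderOf (Fintype.card F : ZMod r)) →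
        o ≤ (r - 1) / orderOf (Fintype.card F : ZMod r)) ∧
      (Odd (orderOf (Fintype.card F : ZMod r)) → o = 0) ∧
        ∀ k, k ≤ k₀ → orderOf (Fintype.card F : ZMod r) * k ≤ m →
          m - orderOf (Fintype.card F : ZMod r) * k ≤ d - nM →
          ∃ W : Submodule F V, finrank F W = m ∧ TS Q W ∧ ∀ u ∈ W, y u ∈ W := by
  have hr0 : (r : F) ≠ 0 := by
    rw [Ne, CharP.cast_eq_zero_iff F p]
    intro hd
    exact hrp ((Nat.prime_dvd_prime_iff_eq Fact.out Fact.out).1 hd).symm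
  obtain ⟨k₀, o, h1, h2, h3, h4⟩ := suff_core Q y r hnd hiso hrp hr2 hy m
  have hsum := finrank_fix_add_mov' y r hy hr0
  have hCnd := nd15_of_un Q _ (ndOn_fix Q y r hnd hiso hy hr0)
  generalize orderOf (Fintype.card F : ZMod r) = i₀ at *
  have hevM : Even (i₀ * (2 * k₀ + o)) := by
    rcases Nat.even_or_odd i₀ with hev | hod
    · exact hev.mul_right _
    · rw [h3 hod, add_zero]
      exact (even_two_mul k₀).mul_left _
  obtain ⟨nM, hnM⟩ := hevM
  have hnM2 : 2 * nM = i₀ * (2 * k₀ + o) := by omega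
  rw [← hnM2] at h1
  refine ⟨k₀, o, nM, hnM2, by omega, h2, h3, ?_⟩
  intro k hk hkm hcase
  apply h4 k hk hkm
  exact exists_ts_sub Q _ (fixE y) hCnd (by omega)

/-- even dimension: the shape of an invariant totally singular subspace -/
theorem nec_even (hnd : ∀ x, (∀ z, polar Q x z = 0) → x = 0) (hiso : ∀ v, Q (y v) = Q v)
    (hrp : r ≠ p) (hr2 : r ≠ 2) (hy : y ^ r = 1) (d : ℕ) (hV : finrank F V = 2 * d)
    (ε : ℤ) (hε : ε = 1 ∨ ε = -1) (ht : HasType ε d (fun v => Q v)) (nM : ℕ)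
    (hM : finrank F (movR y) = 2 * nM) (W : Submodule F V) (hW : ∀ u ∈ W, y u ∈ W)
    (hWts : TS Q W) :
    ∃ k a : ℕ, finrank F W = a + orderOf (Fintype.card F : ZMod r) * k ∧
      finrank F ↥(W ⊓ movR y) = orderOf (Fintype.card F : ZMod r) * k ∧
      orderOf (Fintype.card F : ZMod r) * k ≤ nM ∧ a ≤ d - nM ∧
      (((ε = 1 ∧ ¬ orderOf (Fintype.card F : ZMod r) ∣ nM) ∨
        (ε = -1 ∧ orderOf (Fintype.card F : ZMod r) ∣ nM)) → a + 1 ≤ d - nM) := by
  have hr0 : (r : F) ≠ 0 := by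
    rw [Ne, CharP.cast_eq_zero_iff F p]
    intro hd
    exact hrp ((Nat.prime_dvd_prime_iff_eq Fact.out Fact.out).1 hd).symm
  obtain ⟨k, h1, h2, h3, h4⟩ := nec_core Q y r hnd hiso hrp hy W hW hWts
  obtain ⟨hle, hCdim, εC, hεC, htC, hiff⟩ := fix_type Q y r hnd hiso hrp hr2 hy d hV ε hε ht nM hM
  have hCnd := nd15_of_un Q _ (ndOn_fix Q y r hnd hiso hy hr0)
  have h5 := ts_sub_le Q (fixE y) (W ⊓ fixE y) hCnd inf_le_right h4
  refine ⟨k, finrank F ↥(W ⊓ fixE y), h1, h2, by omega, by omega, ?_⟩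
  intro hcase
  have hm1 : εC = -1 := by
    rcases hcase with ⟨h6, h7⟩ | ⟨h6, h7⟩
    · rcases hεC with h8 | h8
      · exfalso
        apply h7
        rw [← hiff, h8, h6]
      · exact h8
    · rw [hiff.2 h7, h6]
  rw [hm1] at htC
  exact ts_sub_lt_minus Q (fixE y) (W ⊓ fixE y) hCnd inf_le_right h4 (d - nM) hCdim htC

/-- odd dimension: the shape of an invariant totally singular subspace -/
theorem nec_odd (hnd : ∀ x, (∀ z, polar Q x z = 0) → x = 0) (hiso : ∀ v, Q (y v) = Q v)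
    (hrp : r ≠ p) (hy : y ^ r = 1) (d : ℕ) (hV : finrank F V = 2 * d + 1)
    (nM : ℕ) (hM : finrank F (movR y) = 2 * nM) (W : Submodule F V) (hW : ∀ u ∈ W, y u ∈ W)
    (hWts : TS Q W) :
    ∃ k a : ℕ, finrank F W = a + orderOf (Fintype.card F : ZMod r) * k ∧
      finrank F ↥(W ⊓ movR y) = orderOf (Fintype.card F : ZMod r) * k ∧
      orderOf (Fintype.card F : ZMod r) * k ≤ nM ∧ a ≤ d - nM := by
  have hr0 : (r : F) ≠ 0 := by
    rw [Ne, CharP.cast_eq_zero_iff F p]
    intro hd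
    exact hrp ((Nat.prime_dvd_prime_iff_eq Fact.out Fact.out).1 hd).symm
  obtain ⟨k, h1, h2, h3, h4⟩ := nec_core Q y r hnd hiso hrp hy W hW hWts
  have hsum := finrank_fix_add_mov' y r hy hr0
  have hCnd := nd15_of_un Q _ (ndOn_fix Q y r hnd hiso hy hr0)
  have h5 := ts_sub_le Q (fixE y) (W ⊓ fixE y) hCnd inf_le_right h4
  exact ⟨k, finrank F ↥(W ⊓ fixE y), h1, h2, by omega, by omega⟩

end suff

end Cfsg.Agent.Lib.Helper24.Or
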