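/- helper24: orthogonal toolkit G: transfer of the fixing property, elements of Omega from isometries -/
import Mathlib
import Cfsg.Agent.Lib.Helper24.OrE
import Cfsg.Agent.Lib.Helper15.UniOmega2

set_option autoImplicit false

namespace Cfsg.Agent.Lib.Helper24.Or

open Module QuadraticMap Polynomial Cfsg.Agent.Lib.Helper12.Elus Cfsg.Agent.Lib.Helper12
  Cfsg.Agent.Lib.Helper15
open scoped MatrixGroups Matrix

section transfer

variable {F V V' : Type*} [Field F] [AddCommGroup V] [Module F V] [AddCommGroup V'] [Module F V']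

/-- every nontrivial isometry `y` with `y ^ r = 1` fixes a totally singular `m`-space -/
def ModelFix (Q : QuadraticForm F V) (m r : ℕ) : Prop :=
  ∀ y : V →ₗ[F] V, (∀ v, Q (y v) = Q v) → y ^ r = 1 → y ≠ 1 →
    ∃ W : Submodule F V, finrank F W = m ∧ TS Q W ∧ ∀ u ∈ W, y u ∈ W

theorem conj_pow'' (e : V' ≃ₗ[F] V) (y : V' →ₗ[F] V') (n : ℕ) :
    (e.conj y) ^ n = e.conj (y ^ n) := by
  induction n with
  | zero =>
    apply LinearMap.ext
    intro v
    simp [LinearEquiv.conj_apply]
  | succ n ih =>
    rw [pow_succ, pow_succ, ih]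
    apply LinearMap.ext
    intro v
    simp [LinearEquiv.conj_apply]

/-- transfer along a similarity -/
theorem ModelFix.transfer {Q : QuadraticForm F V} {Q' : QuadraticForm F V'} {m r : ℕ}
    (h : ModelFix Q m r) (e : V' ≃ₗ[F] V) (c : F) (hc : c ≠ 0)
    (he : ∀ v, c * Q (e v) = Q' v) : ModelFix Q' m r := by
  intro y' hiso' hy' hy1'
  have hQ : ∀ v, Q v = c⁻¹ * Q' (e.symm v) := by
    intro v
    rw [← he, LinearEquiv.apply_symm_apply, ← mul_assoc, inv_mul_cancel₀ hc, one_mul]
  obtain ⟨W, hWdim, hWts, hWinv⟩ := h (e.conj y') (by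
    intro v
    rw [hQ, hQ v, LinearEquiv.conj_apply]
    simp only [LinearMap.comp_apply, LinearEquiv.coe_coe, LinearEquiv.symm_apply_apply]
    rw [hiso']) (by
    rw [conj_pow'', hy']
    apply LinearMap.ext
    intro v
    simp [LinearEquiv.conj_apply]) (by
    intro h1
    apply hy1'
    apply LinearMap.ext
    intro v
    have := LinearMap.congr_fun h1 (e v)
    rw [LinearEquiv.conj_apply] at this
    simp only [LinearMap.comp_apply, LinearEquiv.coe_coe, LinearEquiv.symm_apply_apply,
      Module.End.one_apply] at this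
    exact e.injective this)
  refine ⟨W.map (e.symm : V →ₗ[F] V'), ?_, ?_, ?_⟩
  · rw [LinearEquiv.finrank_map_eq e.symm, hWdim]
  · rintro _ ⟨w, hw, rfl⟩
    have h1 := hWts w hw
    rw [hQ] at h1
    rcases mul_eq_zero.1 h1 with h2 | h2
    · exact absurd h2 (inv_ne_zero hc)
    · exact h2
  · rintro _ ⟨w, hw, rfl⟩
    refine ⟨e (y' (e.symm w)), ?_, ?_⟩
    · have := hWinv w hw
      rw [LinearEquiv.conj_apply] at this
      exact this
    · simp

end transfer

section bridge

variable {F : Type*} [Field F] [Fintype F] {ι : Type} [Fintype ι] [DecidableEq ι]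

/-- an isometry of odd prime order of a standard space as an element of `Ω` -/
theorem exists_gl_of_isometry (Qs : QuadraticForm F (ι → F))
    (hnd : (polarBilin Qs).Nondegenerate) (hex : Fintype.card F ≠ 2 ∨ Fintype.card ι ≠ 4)
    (r : ℕ) [Fact r.Prime] (hr2 : r ≠ 2) (y : (ι → F) →ₗ[F] (ι → F))
    (hiso : ∀ v, Qs (y v) = Qs v) (hy : y ^ r = 1) (hy1 : y ≠ 1) :
    ∃ x : GL ι F, x ∈ Cfsg.Geo.omegaGL ⇑Qs ∧ Matrix.toLin' (x : Matrix ι ι F) = y ∧
      orderOf x = r ∧ ((x ^ r : GL ι F) : Matrix ι ι F) = 1 ∧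
      ∀ z : F, (x : Matrix ι ι F) ≠ z • (1 : Matrix ι ι F) := by
  classical
  have hr : r.Prime := Fact.out
  set B := LinearMap.toMatrix' y with hB
  have hBy : Matrix.toLin' B = y := Matrix.toLin'_toMatrix' y
  have hBr : B ^ r = 1 := by
    have h1 : Matrix.toLin' (B ^ r) = Matrix.toLin' (1 : Matrix ι ι F) := by
      rw [Matrix.toLin'_pow, hBy, hy, Matrix.toLin'_one]
      rfl
    exact Matrix.toLin'.injective h1
  obtain ⟨r', hr'⟩ : ∃ r', r = r' + 1 := ⟨r - 1, by have := hr.pos; omega⟩
  let g : GL ι F := ⟨B, B ^ r', by rw [← pow_succ', ← hr', hBr], by rw [← pow_succ, ← hr', hBr]⟩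
  have hgmem : g ∈ Cfsg.isometryGroup F ⇑Qs := by
    intro u v
    show Qs (B *ᵥ u) = Qs u
    rw [← Matrix.toLin'_apply, hBy]
    exact hiso u
  obtain ⟨A, hA⟩ : ∃ A : ↥(Cfsg.isometryGroup F ⇑Qs), A = ⟨g, hgmem⟩ := ⟨_, rfl⟩
  have hAB : ((A : GL ι F) : Matrix ι ι F) = B := by rw [hA]
  have hAr : A ^ r = 1 := by
    apply Subtype.ext
    apply Units.ext
    rw [Subgroup.coe_pow, Units.val_pow_eq_pow_val, hAB, hBr]
    rfl
  have hAΩ := UniOmega2.mem_omega_of_odd_order Qs hnd hex A r (hr.odd_of_ne_two hr2) hAr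
  have hxr : (A : GL ι F) ^ r = 1 := by
    have := congrArg Subtype.val hAr
    rwa [Subgroup.coe_pow] at this
  have hx1 : (A : GL ι F) ≠ 1 := by
    intro h1
    apply hy1
    rw [← hBy, ← hAB, h1]
    exact Matrix.toLin'_one
  refine ⟨(A : GL ι F), Subgroup.mem_map.2 ⟨A, hAΩ, rfl⟩, by rw [hAB, hBy], ?_, ?_, ?_⟩
  · exact orderOf_eq_prime hxr hx1
  · rw [hxr]; rfl
  · intro z hz
    rw [hAB] at hz
    have hyz : ∀ v, y v = z • v := by
      intro v
      rw [← hBy, Matrix.toLin'_apply, hz, Matrix.smul_mulVec, Matrix.one_mulVec]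
    -- some vector is nonsingular
    obtain ⟨v, hv⟩ : ∃ v, Qs v ≠ 0 := by
      by_contra hcon
      push Not at hcon
      apply hy1
      apply LinearMap.ext
      intro v
      have : v = 0 := by
        apply hnd.1 v
        intro w
        rw [polarBilin_apply_apply, QuadraticMap.polar, hcon, hcon, hcon]
        ring
      rw [this, map_zero, map_zero]
    have hzz : z * z = 1 := by
      have h1 := hiso v
      rw [hyz, QuadraticMap.map_smul, smul_eq_mul] at h1
      have h2 : (z * z - 1) * Qs v = 0 := by linear_combination h1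
      rcases mul_eq_zero.1 h2 with h3 | h3
      · linear_combination h3
      · exact absurd h3 hv
    have hv0 : v ≠ 0 := by
      rintro rfl
      exact hv (QuadraticMap.map_zero Qs)
    have hzr : z ^ r = 1 := by
      have h1 : (y ^ r) v = z ^ r • v := by
        have : ∀ n : ℕ, (y ^ n) v = z ^ n • v := by
          intro n
          induction n with
          | zero => simp
          | succ n ih => rw [pow_succ', Module.End.mul_apply, ih, map_smul, hyz, smul_smul, pow_succ]
        exact this r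
      rw [hy, Module.End.one_apply] at h1
      have h2 : (z ^ r - 1) • v = 0 := by rw [sub_smul, one_smul, ← h1, sub_self]
      rcases smul_eq_zero.1 h2 with h3 | h3
      · linear_combination h3
      · exact absurd h3 hv0
    obtain ⟨k, hk⟩ := hr.odd_of_ne_two hr2
    have hz1 : z = 1 := by
      have : z ^ r = z := by rw [hk, pow_succ, pow_mul, pow_two, hzz, one_pow, one_mul]
      rw [← this, hzr]
    apply hy1
    apply LinearMap.ext
    intro w
    rw [hyz, hz1, one_smul, Module.End.one_apply]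

end bridge

end Cfsg.Agent.Lib.Helper24.Or
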