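/- helper24: orthogonal toolkit H: product models of prescribed dimension and type -/
import Mathlib
import Cfsg.Agent.Lib.Helper24.OrG
import Cfsg.Agent.Lib.Helper12.SpJ
import Cfsg.Agent.Lib.Helper15.NonsingPts
import Cfsg.Agent.Lib.Helper15.OrthReal

set_option autoImplicit false

namespace Cfsg.Agent.Lib.Helper24.Or

open Module QuadraticMap Polynomial Cfsg.Agent.Lib.Helper12.Elus Cfsg.Agent.Lib.Helper12
  Cfsg.Agent.Lib.Helper15 Cfsg.Agent.Lib.Helper15.QuadType Cfsg.Agent.Lib.Helper15.OrthSemi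
  Cfsg.Agent.Lib.Helper15.QuadReal

universe u

section prodmodel

variable {F : Type u} [Field F] {W C : Type u} [AddCommGroup W] [Module F W]
  [FiniteDimensional F W] [AddCommGroup C] [Module F C] [FiniteDimensional F C]

/-- the product of a fixed-point-free isometry and the identity -/
theorem prod_model (QW : QuadraticForm F W) (QC : QuadraticForm F C)
    (hndW : (polarBilin QW).Nondegenerate) (hndC : (polarBilin QC).Nondegenerate)
    (T : W →ₗ[F] W) (hiso : ∀ u, QW (T u) = QW u) (r : ℕ) (hTr : T ^ r = 1)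
    (hfpf : ∀ v, T v = v → v = 0) :
    (polarBilin (QW.prod QC)).Nondegenerate ∧
    (∀ v, (QW.prod QC) ((T.prodMap LinearMap.id) v) = (QW.prod QC) v) ∧
    (T.prodMap (LinearMap.id : C →ₗ[F] C)) ^ r = 1 ∧
    finrank F (movR (T.prodMap (LinearMap.id : C →ₗ[F] C))) = finrank F W ∧
    ∀ P : F[X], P.eval 1 ≠ 0 →
      finrank F (LinearMap.ker (aeval (T.prodMap (LinearMap.id : C →ₗ[F] C)) P)) =
        finrank F (LinearMap.ker (aeval T P)) := by
  refine ⟨nondegenerate_prod QW QC hndW hndC, ?_, ?_, ?_, ?_⟩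
  · intro x
    show QW (T x.1) + QC x.2 = QW x.1 + QC x.2
    rw [hiso]
  · rw [SpReal.prodMap_pow', hTr]
    have : (LinearMap.id : C →ₗ[F] C) ^ r = LinearMap.id := one_pow r
    rw [this]
    exact LinearMap.prodMap_one
  · have hinj : Function.Injective ((T - 1 : W →ₗ[F] W) : W → W) := by
      rw [← LinearMap.ker_eq_bot, eq_bot_iff]
      intro v hv
      rw [LinearMap.mem_ker, LinearMap.sub_apply, Module.End.one_apply, sub_eq_zero] at hv
      rw [Submodule.mem_bot]
      exact hfpf v hv
    have hsurj : Function.Surjective ((T - 1 : W →ₗ[F] W) : W → W) :=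
      LinearMap.injective_iff_surjective.1 hinj
    have hmov : movR (T.prodMap (LinearMap.id : C →ₗ[F] C)) =
        LinearMap.range (LinearMap.inl F W C) := by
      ext x
      constructor
      · rintro ⟨v, rfl⟩
        refine ⟨T v.1 - v.1, ?_⟩
        apply Prod.ext
        · simp
        · simp
      · rintro ⟨w, rfl⟩
        obtain ⟨w₀, hw₀⟩ := hsurj w
        refine ⟨(w₀, 0), ?_⟩
        apply Prod.ext
        · simpa using hw₀
        · simp
    rw [hmov, LinearMap.finrank_range_of_inj LinearMap.inl_injective]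
  · intro P hP
    rw [Sp.aeval_prodMap, Sp.finrank_ker_prodMap]
    have h1 : aeval (LinearMap.id : C →ₗ[F] C) P =
        algebraMap F (Module.End F C) (P.eval 1) := by
      have : (LinearMap.id : C →ₗ[F] C) = algebraMap F (Module.End F C) 1 := (map_one _).symm
      rw [this, aeval_algebraMap_apply_eq_algebraMap_eval]
    have h2 : LinearMap.ker (aeval (LinearMap.id : C →ₗ[F] C) P) = ⊥ := by
      rw [eq_bot_iff]
      intro v hv
      rw [LinearMap.mem_ker, h1, Module.algebraMap_end_apply] at hv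
      rw [Submodule.mem_bot]
      rcases smul_eq_zero.1 hv with h | h
      · exact absurd h hP
      · exact h
    rw [h2, finrank_bot, add_zero]

end prodmodel

section types

variable {F : Type u} [Field F] [Fintype F]

/-- standard spaces of every type -/
theorem exists_std_of_type (ε : ℤ) (hε : ε = 1 ∨ ε = -1) (n : ℕ) (h0 : n = 0 → ε = 1) :
    ∃ (C : Type u) (_ : AddCommGroup C) (_ : Module F C) (_ : FiniteDimensional F C)
      (QC : QuadraticForm F C), (polarBilin QC).Nondegenerate ∧ finrank F C = 2 * n ∧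
        HasType ε n (fun v => QC v) := by
  rcases hε with rfl | rfl
  · refine ⟨(Fin n ⊕ Fin n → F), inferInstance, inferInstance, inferInstance, plusQF n,
      plusQF_nondegenerate n, ?_, ?_⟩
    · rw [Module.finrank_pi, Fintype.card_sum, Fintype.card_fin]; ring
    · exact (hasType_plus (F := F) n).congr (Equiv.refl _) (fun v => plusQF_eq n v)
  · obtain ⟨k, rfl⟩ : ∃ k, n = k + 1 := by
      rcases Nat.eq_zero_or_pos n with h | h
      · have := h0 h
        omega
      · exact ⟨n - 1, by omega⟩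
    obtain ⟨a₀, c₀, hac⟩ := exists_aniso (F := F)
    refine ⟨((Fin k ⊕ Fin k) ⊕ Fin 2 → F), inferInstance, inferInstance, inferInstance,
      minusQFab k a₀ c₀,
      minusQFab_nondegenerate k a₀ c₀ (Cfsg.Agent.Lib.Helper14.OrthMinus.disc_ne_zero hac), ?_, ?_⟩
    · rw [Module.finrank_pi, Fintype.card_sum, Fintype.card_sum, Fintype.card_fin,
        Fintype.card_fin]; ring
    · exact (hasType_minus hac k).congr (Equiv.refl _) (fun v => minusQFab_eq k a₀ c₀ v)

variable {p : ℕ} [Fact p.Prime] [CharP F p]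

/-- the type of a space with a fixed-point-free isometry of odd prime order -/
theorem type_of_fpf_whole {W : Type u} [AddCommGroup W] [Module F W] [FiniteDimensional F W]
    (QW : QuadraticForm F W) (hndW : (polarBilin QW).Nondegenerate)
    (T : W →ₗ[F] W) (hiso : ∀ u, QW (T u) = QW u) (r : ℕ) [Fact r.Prime] (hrp : r ≠ p)
    (hr2 : r ≠ 2) (hTr : T ^ r = 1) (hfpf : ∀ v, T v = v → v = 0) (n : ℕ)
    (hdim : finrank F W = 2 * n) :
    ∃ ε : ℤ, (ε = 1 ∨ ε = -1) ∧ HasType ε n (fun v => QW v) ∧
      (ε = 1 ↔ orderOf (Fintype.card F : ZMod r) ∣ n) := by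
  have hr : r.Prime := Fact.out
  have : Finite W := Module.finite_of_finite F
  obtain ⟨ε, hε, ht⟩ := hasType_of_nondeg QW hndW n hdim
  refine ⟨ε, hε, ht, ?_⟩
  have hlev := dvd_card_level QW T r hr hTr hiso hfpf 1 one_ne_zero
  have hz := ht.zmod r hlev (card_not_dvd' r hrp)
  rw [orderOf_dvd_iff_pow_eq_one, hz]
  constructor
  · rintro rfl
    simp
  · intro h1
    exact QuadClasses.eps_eq_of_zmod r hr hr2 hε (Or.inl rfl) (by rw [h1]; simp)

/-- assembling a model of even dimension and prescribed type -/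
theorem assemble_even {W : Type u} [AddCommGroup W] [Module F W] [FiniteDimensional F W]
    (QW : QuadraticForm F W) (hndW : (polarBilin QW).Nondegenerate)
    (T : W →ₗ[F] W) (hiso : ∀ u, QW (T u) = QW u) (r : ℕ) [Fact r.Prime] (hrp : r ≠ p)
    (hr2 : r ≠ 2) (hTr : T ^ r = 1) (hfpf : ∀ v, T v = v → v = 0) (nM : ℕ)
    (hdim : finrank F W = 2 * nM) (d : ℕ) (hle : nM ≤ d) (ε : ℤ) (hε : ε = 1 ∨ ε = -1)
    (hcompat : nM = d → (ε = 1 ↔ orderOf (Fintype.card F : ZMod r) ∣ nM)) :
    ∃ (V' : Type u) (_ : AddCommGroup V') (_ : Module F V') (_ : FiniteDimensional F V')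
      (Q' : QuadraticForm F V') (y' : V' →ₗ[F] V'),
      (polarBilin Q').Nondegenerate ∧ finrank F V' = 2 * d ∧ HasType ε d (fun v => Q' v) ∧
      (∀ v, Q' (y' v) = Q' v) ∧ y' ^ r = 1 ∧ finrank F (movR y') = 2 * nM ∧
      ∀ P : F[X], P.eval 1 ≠ 0 →
        finrank F (LinearMap.ker (aeval y' P)) = finrank F (LinearMap.ker (aeval T P)) := by
  obtain ⟨εW, hεW, htW, hiffW⟩ := type_of_fpf_whole QW hndW T hiso r hrp hr2 hTr hfpf nM hdim
  obtain ⟨C, _, _, _, QC, hndC, hdimC, htC⟩ := exists_std_of_type (F := F) (ε * εW)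
    (by rcases hε with rfl | rfl <;> rcases hεW with rfl | rfl <;> simp) (d - nM) (by
      intro h0
      have hnd : nM = d := by omega
      have h1 := hcompat hnd
      rw [← hiffW] at h1
      rcases hε with rfl | rfl <;> rcases hεW with rfl | rfl <;> simp at h1 ⊢)
  obtain ⟨h1, h2, h3, h4, h5⟩ := prod_model QW QC hndW hndC T hiso r hTr hfpf
  have : Finite W := Module.finite_of_finite F
  have : Finite C := Module.finite_of_finite F
  refine ⟨W × C, inferInstance, inferInstance, inferInstance, QW.prod QC,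
    T.prodMap LinearMap.id, h1, ?_, ?_, h2, h3, by rw [h4, hdim], h5⟩
  · rw [Module.finrank_prod, hdim, hdimC]; omega
  · have h6 := htW.prod htC
    have e1 : εW * (ε * εW) = ε := by
      rcases hε with rfl | rfl <;> rcases hεW with rfl | rfl <;> simp
    have e2 : nM + (d - nM) = d := by omega
    rw [e1, e2] at h6
    exact h6

/-- assembling a model of odd dimension -/
theorem assemble_odd (h2 : (2 : F) ≠ 0) {W : Type u} [AddCommGroup W] [Module F W]
    [FiniteDimensional F W]
    (QW : QuadraticForm F W) (hndW : (polarBilin QW).Nondegenerate)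
    (T : W →ₗ[F] W) (hiso : ∀ u, QW (T u) = QW u) (r : ℕ) (hTr : T ^ r = 1)
    (hfpf : ∀ v, T v = v → v = 0) (nM : ℕ)
    (hdim : finrank F W = 2 * nM) (d : ℕ) (hle : nM ≤ d) :
    ∃ (V' : Type u) (_ : AddCommGroup V') (_ : Module F V') (_ : FiniteDimensional F V')
      (Q' : QuadraticForm F V') (y' : V' →ₗ[F] V'),
      (polarBilin Q').Nondegenerate ∧ finrank F V' = 2 * d + 1 ∧
      (∀ v, Q' (y' v) = Q' v) ∧ y' ^ r = 1 ∧ finrank F (movR y') = 2 * nM ∧
      ∀ P : F[X], P.eval 1 ≠ 0 →
        finrank F (LinearMap.ker (aeval y' P)) = finrank F (LinearMap.ker (aeval T P)) := by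
  obtain ⟨h1, h2', h3, h4, h5⟩ := prod_model QW (OrthReal.oddQF (F := F) (d - nM)) hndW
    (OrthReal.oddQF_nondegenerate h2 (d - nM)) T hiso r hTr hfpf
  refine ⟨W × (Unit ⊕ (Fin (d - nM) ⊕ Fin (d - nM)) → F), inferInstance, inferInstance,
    inferInstance, QW.prod (OrthReal.oddQF (d - nM)),
    T.prodMap LinearMap.id, h1, ?_, h2', h3, by rw [h4, hdim], h5⟩
  rw [Module.finrank_prod, hdim, Module.finrank_pi, Fintype.card_sum, Fintype.card_sum,
    Fintype.card_fin]
  simp
  omega

end types

end Cfsg.Agent.Lib.Helper24.Or
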