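/- helper24: orthogonal toolkit I: no invariant totally singular subspaces in multiplicity-free moved spaces; moved parts -/
import Mathlib
import Cfsg.Agent.Lib.Helper24.OrH
import Cfsg.Agent.Lib.Helper12.SpK
import Cfsg.Agent.Lib.Helper12.UnF

set_option autoImplicit false

namespace Cfsg.Agent.Lib.Helper24.Or

open Module QuadraticMap Polynomial Cfsg.Agent.Lib.Helper12.Elus Cfsg.Agent.Lib.Helper12
  Cfsg.Agent.Lib.Helper15 Cfsg.Agent.Lib.Helper15.QuadType Cfsg.Agent.Lib.Helper15.OrthSemi
  Cfsg.Agent.Lib.Helper15.QuadReal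

universe u

section nots

variable {F V : Type*} [Field F] [Fintype F] [AddCommGroup V] [Module F V] [FiniteDimensional F V]
  (Q : QuadraticForm F V) (y : V →ₗ[F] V) (r : ℕ) [Fact r.Prime] {p : ℕ} [Fact p.Prime] [CharP F p]

/-- if all the kernels of the irreducible factors have dimension `≤ i` (`i` even) then the moved
space has no nonzero invariant totally singular subspace (after helper12's `Sp.no_iso_in_mov`) -/
theorem no_ts_in_mov (hnd : ∀ x, (∀ z, polar Q x z = 0) → x = 0)
    (hiso : ∀ v, Q (y v) = Q v) (hrp : r ≠ p) (hy : y ^ r = 1)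
    (hev : Even (orderOf (Fintype.card F : ZMod r))) {t : ℕ} (h : Option (Fin t) → F[X])
    (hnone : h none = X - 1) (hprod : ∏ o, h o = X ^ r - 1)
    (hcop : ∀ o o', o ≠ o' → IsCoprime (h o) (h o'))
    (hker : ∀ j : Fin t, finrank F (LinearMap.ker (aeval y (h (some j)))) ≤
      orderOf (Fintype.card F : ZMod r))
    (W : Submodule F V) (hWR : W ≤ movR y) (hW : ∀ u ∈ W, y u ∈ W)
    (hWts : TS Q W) : W = ⊥ := by
  classical
  have hr : r.Prime := Fact.out
  have hr0 : (r : F) ≠ 0 := by
    rw [Ne, CharP.cast_eq_zero_iff F p]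
    intro hd
    exact hrp ((Nat.prime_dvd_prime_iff_eq Fact.out Fact.out).1 hd).symm
  have hisoB : ∀ u v, pB Q (y u) (y v) = pB Q u v := polar_iso Q y hiso
  set i₀ := orderOf (Fintype.card F : ZMod r) with hi₀
  have hipos : 0 < i₀ := orderOf_card_pos r hrp
  obtain ⟨s, hs⟩ := id hev
  have hs0 : 0 < s := by omega
  have hm : r ∣ Fintype.card F ^ s + 1 :=
    Sp.dvd_pow_half_add_one r (Fintype.card F) s hs0 (by rw [← hi₀, hs, two_mul])
  have hyall : aeval y (X ^ r - 1 : F[X]) = 0 := by
    rw [map_sub, map_pow, aeval_X, map_one, hy, sub_self]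
  have hkill : ∀ u ∈ W, aeval y (∏ j ∈ (Finset.univ : Finset (Fin t)), h (some j)) u = 0 := by
    intro u hu
    obtain ⟨w, rfl⟩ := hWR hu
    have h1 : (y - 1) w = aeval y (h none) w := by
      rw [hnone, map_sub, aeval_X, map_one]
    rw [h1, ← Module.End.mul_apply, ← map_mul]
    have h2 : (∏ j : Fin t, h (some j)) * h none = X ^ r - 1 := by
      rw [← hprod, Fintype.prod_option, mul_comm]
    rw [h2, hyall, LinearMap.zero_apply]
  have hmain := Sp.finrank_le_of_family y (fun j : Fin t => h (some j)) 0 W (by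
    intro j N' hN'inv hN'W hN'h
    by_contra hpos
    have hN'0 : N' ≠ ⊥ := by
      intro h0
      apply hpos
      rw [h0, finrank_bot]
    have hN'K : N' ≤ LinearMap.ker (aeval y (h (some j))) := fun u hu =>
      LinearMap.mem_ker.2 (hN'h u hu)
    have hle : finrank F N' ≤ i₀ := (Submodule.finrank_mono hN'K).trans (hker j)
    have hdim : finrank F N' = i₀ :=
      Sp.finrank_eq_of_le y r hy hr0 N' hN'inv (hN'W.trans hWR) hN'0 hle
    have hEq : N' = LinearMap.ker (aeval y (h (some j))) :=
      Submodule.eq_of_le_of_finrank_le hN'K (by rw [hdim]; exact hker j)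
    -- the kernel is nondegenerate
    have hKnd : Sp.NdOn (pB Q) (LinearMap.ker (aeval y (h (some j)))) := by
      apply Sp.ndOn_ker (pB Q) y r hnd hisoB hy s hm (h (some j))
        (∏ o ∈ Finset.univ.erase (some j), h o)
      · apply IsCoprime.prod_right
        intro o ho
        exact hcop (some j) o (Finset.ne_of_mem_erase ho).symm
      · rw [Finset.mul_prod_erase Finset.univ h (Finset.mem_univ _), hprod, hyall]
    rw [← hEq] at hKnd
    obtain ⟨u, hu, hu0⟩ := Submodule.exists_mem_ne_zero_of_ne_bot hN'0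
    obtain ⟨v, hv, hne⟩ := hKnd u hu hu0
    exact hne (hWts.polar_zero Q u v (hN'W hu) (hN'W hv))) Finset.univ (by
    intro j _ j' _ hne
    exact hcop (some j) (some j') (fun h' => hne (Option.some_injective _ h'))) W hW le_rfl hkill
  rw [zero_mul, Nat.le_zero] at hmain
  exact Submodule.finrank_eq_zero.1 hmain

end nots

section movers

variable {F : Type u} [Field F] [Fintype F] {p : ℕ} [Fact p.Prime] [CharP F p]

/-- moved parts with a single kind of block -/
theorem exists_mov_D1 (r : ℕ) [Fact r.Prime] (hr2 : r ≠ 2) (hrp : r ≠ p) (n : ℕ)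
    (hdvd : orderOf (Fintype.card F : ZMod r) ∣ 2 * n) :
    ∃ (W : Type u) (_ : AddCommGroup W) (_ : Module F W) (_ : FiniteDimensional F W)
      (T : W →ₗ[F] W) (QW : QuadraticForm F W),
      (polarBilin QW).Nondegenerate ∧ (∀ u, QW (T u) = QW u) ∧ T ^ r = 1 ∧
        (∀ v, T v = v → v = 0) ∧ finrank F W = 2 * n := by
  obtain ⟨f, ⟨W, _, _, _, T, Q, hnd, hinv, hTr, hcp, hfix⟩, hdeg⟩ :=
    NonsingPts.exists_qreal (F := F) (p := p) rfl r _ Fact.out hr2 hrp rfl n hdvd
  refine ⟨W, inferInstance, inferInstance, inferInstance, T, Q, hnd, hinv, hTr, hfix, ?_⟩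
  rw [← LinearMap.charpoly_natDegree T, hcp, hdeg]

/-- every irreducible factor `≠ X - 1` of `X^r - 1` is realised by a fixed-point-free isometry
of a quadratic space when `ord_r(q)` is even -/
theorem qReal_member (r : ℕ) [Fact r.Prime] (hr2 : r ≠ 2) (hrp : r ≠ p)
    (hev : Even (orderOf (Fintype.card F : ZMod r))) (g : F[X]) (hmon : g.Monic)
    (hirr : Irreducible g) (hdvd : g ∣ X ^ r - 1) (hcop : IsCoprime (X - 1 : F[X]) g) :
    QReal r g := by
  have hr : r.Prime := Fact.out
  have hrodd : Odd r := hr.odd_of_ne_two hr2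
  have hipos : 0 < orderOf (Fintype.card F : ZMod r) := orderOf_card_pos r hrp
  have hne : g ≠ X - 1 := by
    intro h1
    rw [h1] at hcop hirr
    exact hirr.not_isUnit (isCoprime_self.1 hcop)
  have hndvd : ¬ g ∣ X ^ 2 - 1 := by
    intro hd
    obtain ⟨k', hk'⟩ := hrodd
    have h1 : (X ^ 2 - 1 : F[X]) ∣ X ^ r - X := by
      have h2 : (X ^ r - X : F[X]) = X * ((X ^ 2) ^ k' - 1 ^ k') := by
        rw [hk', one_pow]; ring
      rw [h2]
      exact Dvd.dvd.mul_left (sub_dvd_pow_sub_pow (X ^ 2) 1 k') X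
    have h3 : g ∣ X - 1 := by
      have h4 : (X - 1 : F[X]) = (X ^ r - 1) - (X ^ r - X) := by ring
      rw [h4]
      exact dvd_sub hdvd (hd.trans h1)
    exact hirr.not_isUnit (hcop.symm.isUnit_of_dvd' (dvd_refl _) h3)
  have hstar : StarPoly.star (RingHom.id F) g = g := by
    have h1 := StarPoly.star_eq_self_iff p 0 (RingHom.id F)
      (fun c => by rw [pow_zero, pow_one]; rfl) (fun c => rfl) r hr g hmon hirr hdvd hne
    rw [h1, Nat.card_eq_fintype_card, pow_zero]
    exact (Cfsg.Agent.S2645.arith_even r (Fintype.card F) _ hr hr2 rfl hipos).2 hev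
  exact qReal_selfdual p r g hmon hirr hstar hdvd hndvd

/-- moved parts with `s` distinct self-dual blocks -/
theorem exists_mov_D2 (r : ℕ) [Fact r.Prime] (hr2 : r ≠ 2) (hrp : r ≠ p)
    (hev : Even (orderOf (Fintype.card F : ZMod r))) {t : ℕ} (h : Option (Fin t) → F[X])
    (hmon : ∀ o, (h o).Monic) (hirr : ∀ o, Irreducible (h o)) (hnone : h none = X - 1)
    (hdeg : ∀ j, (h (some j)).natDegree = orderOf (Fintype.card F : ZMod r))
    (hprod : ∏ o, h o = X ^ r - 1) (hcop : ∀ o o', o ≠ o' → IsCoprime (h o) (h o'))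
    (s : ℕ) (hs : s ≤ t) :
    ∃ (W : Type u) (_ : AddCommGroup W) (_ : Module F W) (_ : FiniteDimensional F W)
      (T : W →ₗ[F] W) (QW : QuadraticForm F W),
      (polarBilin QW).Nondegenerate ∧ (∀ u, QW (T u) = QW u) ∧ T ^ r = 1 ∧
        (∀ v, T v = v → v = 0) ∧ finrank F W = orderOf (Fintype.card F : ZMod r) * s ∧
        ∀ j : Fin t, finrank F (LinearMap.ker (aeval T (h (some j)))) ≤
          orderOf (Fintype.card F : ZMod r) := by
  classical
  have hr : r.Prime := Fact.out
  have hr0 : (r : F) ≠ 0 := by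
    rw [Ne, CharP.cast_eq_zero_iff F p]
    intro hd
    exact hrp ((Nat.prime_dvd_prime_iff_eq Fact.out Fact.out).1 hd).symm
  set i₀ := orderOf (Fintype.card F : ZMod r) with hi₀
  let S : Finset (Fin t) := Finset.univ.map (Fin.castLEEmb hs)
  have hScard : S.card = s := by
    rw [Finset.card_map, Finset.card_univ, Fintype.card_fin]
  have hmem : ∀ j : Fin t, IsCoprime (X - 1 : F[X]) (h (some j)) := by
    intro j
    rw [← hnone]
    exact hcop none (some j) (Option.some_ne_none j).symm
  have hdvd : ∀ j : Fin t, h (some j) ∣ X ^ r - 1 := by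
    intro j
    rw [← hprod]
    exact Finset.dvd_prod_of_mem h (Finset.mem_univ _)
  have hQ : QReal r (∏ j ∈ S, h (some j)) :=
    QReal.prod S (fun j => h (some j)) (fun j _ =>
      qReal_member r hr2 hrp hev _ (hmon _) (hirr _) (hdvd j) (hmem j))
  obtain ⟨W, _, _, _, T, Q, hnd, hinv, hTr, hcp, hfix⟩ := hQ
  have hsq : Squarefree (∏ o, h o) := by
    rw [hprod]
    have := (separable_X_pow_sub_C (1 : F) hr0 one_ne_zero).squarefree
    rwa [map_one] at this
  have hT : aeval T (∏ o, h o) = 0 := by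
    rw [hprod, map_sub, map_pow, aeval_X, map_one, hTr, sub_self]
  obtain ⟨e, he1, he2⟩ := Un.ker_dims_of_family h hmon hirr hsq (finrank F W) W T rfl hT
  -- the exponents
  let a : Option (Fin t) → ℕ := fun o => if o ∈ S.map Function.Embedding.some then 1 else 0
  have ha : ∏ j ∈ S, h (some j) = ∏ o, h o ^ a o := by
    have h1 : ∏ o, h o ^ a o = ∏ o ∈ S.map Function.Embedding.some, h o := by
      rw [← Finset.prod_subset (Finset.subset_univ (S.map Function.Embedding.some))]
      · apply Finset.prod_congr rfl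
        intro o ho
        simp only [a, if_pos ho, pow_one]
      · intro o _ ho
        simp only [a, if_neg ho, pow_zero]
    rw [h1]
    exact (Finset.prod_map S Function.Embedding.some h).symm
  have hea : e = a := by
    apply PrimeOrderClasses.exp_unique h hirr hcop
    rw [← he1, hcp, ha]
  refine ⟨W, inferInstance, inferInstance, inferInstance, T, Q, hnd, hinv, hTr, hfix, ?_, ?_⟩
  · rw [← LinearMap.charpoly_natDegree T, hcp, Polynomial.natDegree_prod_of_monic _ _
      (fun j _ => hmon (some j)), Finset.sum_congr rfl (fun j _ => hdeg j), Finset.sum_const,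
      hScard, smul_eq_mul, mul_comm]
  · intro j
    rw [he2 (some j), hea, hdeg j]
    have : a (some j) ≤ 1 := by
      simp only [a]
      split_ifs <;> omega
    calc a (some j) * i₀ ≤ 1 * i₀ := Nat.mul_le_mul_right _ this
      _ = i₀ := one_mul _

end movers

end Cfsg.Agent.Lib.Helper24.Or
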