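/- helper24: orthogonal toolkit J: derangement lemmas (necessity) in even and odd dimension -/
import Mathlib
import Cfsg.Agent.Lib.Helper24.OrI

set_option autoImplicit false

namespace Cfsg.Agent.Lib.Helper24.Or

open Module QuadraticMap Polynomial Cfsg.Agent.Lib.Helper12.Elus Cfsg.Agent.Lib.Helper12
  Cfsg.Agent.Lib.Helper15 Cfsg.Agent.Lib.Helper15.QuadType Cfsg.Agent.Lib.Helper15.OrthSemi
  Cfsg.Agent.Lib.Helper15.QuadReal

universe u

section derange

variable {F : Type u} [Field F] [Fintype F] {p : ℕ} [Fact p.Prime] [CharP F p]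
  {V : Type u} [AddCommGroup V] [Module F V] [FiniteDimensional F V] (Q : QuadraticForm F V)

omit [Fintype F] [Fact p.Prime] [CharP F p] [FiniteDimensional F V] in
theorem ne_one_of_mov {V' : Type*} [AddCommGroup V'] [Module F V'] (y' : V' →ₗ[F] V')
    (h : 0 < finrank F (movR y')) : y' ≠ 1 := by
  rintro rfl
  have : movR (1 : V' →ₗ[F] V') = ⊥ := by
    rw [eq_bot_iff]
    rintro _ ⟨v, rfl⟩
    simp
  rw [this, finrank_bot] at h
  exact lt_irrefl 0 h

/-- even dimension, derangements with a moved space of dimension `2 nM` -/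
theorem nec_D1_even (d : ℕ) (ε : ℤ) (hε : ε = 1 ∨ ε = -1)
    (huniv : ∀ (V' : Type u) [AddCommGroup V'] [Module F V'] [FiniteDimensional F V']
      (Q' : QuadraticForm F V'), (polarBilin Q').Nondegenerate → finrank F V' = 2 * d →
      HasType ε d (fun v => Q' v) → ∃ (e : V' ≃ₗ[F] V) (c : F), c ≠ 0 ∧ ∀ v, c * Q (e v) = Q' v)
    (m r : ℕ) [Fact r.Prime] (hfix : ModelFix Q m r) (hrp : r ≠ p) (hr2 : r ≠ 2) (nM : ℕ)
    (h1 : 1 ≤ nM) (hle : nM ≤ d) (hdvd : orderOf (Fintype.card F : ZMod r) ∣ 2 * nM)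
    (hcompat : nM = d → (ε = 1 ↔ orderOf (Fintype.card F : ZMod r) ∣ nM)) :
    ∃ k a : ℕ, m = a + orderOf (Fintype.card F : ZMod r) * k ∧
      orderOf (Fintype.card F : ZMod r) * k ≤ nM ∧ a ≤ d - nM ∧
      (((ε = 1 ∧ ¬ orderOf (Fintype.card F : ZMod r) ∣ nM) ∨
        (ε = -1 ∧ orderOf (Fintype.card F : ZMod r) ∣ nM)) → a + 1 ≤ d - nM) := by
  obtain ⟨W, _, _, _, T, QW, hndW, hisoW, hTr, hfpf, hWdim⟩ :=
    exists_mov_D1 (F := F) r hr2 hrp nM hdvd
  obtain ⟨V', _, _, _, Q', y', hnd', hdim', ht', hiso', hy', hmov', -⟩ :=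
    assemble_even QW hndW T hisoW r hrp hr2 hTr hfpf nM hWdim d hle ε hε hcompat
  obtain ⟨e, c, hc, he⟩ := huniv V' Q' hnd' hdim' ht'
  have hfix' : ModelFix Q' m r := hfix.transfer e c hc he
  obtain ⟨W', hW'dim, hW'ts, hW'inv⟩ := hfix' y' hiso' hy' (ne_one_of_mov y' (by omega))
  have hnd'' : ∀ x, (∀ z, polar Q' x z = 0) → x = 0 := fun x hx => hnd'.1 x (fun z => by
    rw [polarBilin_apply_apply]; exact hx z)
  obtain ⟨k, a, hk1, -, hk3, hk4, hk5⟩ := nec_even Q' y' r hnd'' hiso' hrp hr2 hy' d hdim' ε hε ht'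
    nM hmov' W' hW'inv hW'ts
  exact ⟨k, a, by rw [← hW'dim, hk1], hk3, hk4, hk5⟩

/-- even dimension, derangements with a multiplicity-free moved space -/
theorem nec_D2_even (d : ℕ) (ε : ℤ) (hε : ε = 1 ∨ ε = -1)
    (huniv : ∀ (V' : Type u) [AddCommGroup V'] [Module F V'] [FiniteDimensional F V']
      (Q' : QuadraticForm F V'), (polarBilin Q').Nondegenerate → finrank F V' = 2 * d →
      HasType ε d (fun v => Q' v) → ∃ (e : V' ≃ₗ[F] V) (c : F), c ≠ 0 ∧ ∀ v, c * Q (e v) = Q' v)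
    (m r : ℕ) [Fact r.Prime] (hfix : ModelFix Q m r) (hrp : r ≠ p) (hr2 : r ≠ 2)
    (hev : Even (orderOf (Fintype.card F : ZMod r))) (s nM : ℕ) (hs1 : 1 ≤ s)
    (hst : s ≤ (r - 1) / orderOf (Fintype.card F : ZMod r))
    (hnM : 2 * nM = orderOf (Fintype.card F : ZMod r) * s) (hle : nM ≤ d)
    (hcompat : nM = d → (ε = 1 ↔ orderOf (Fintype.card F : ZMod r) ∣ nM)) :
    m ≤ d - nM ∧
      (((ε = 1 ∧ ¬ orderOf (Fintype.card F : ZMod r) ∣ nM) ∨
        (ε = -1 ∧ orderOf (Fintype.card F : ZMod r) ∣ nM)) → m + 1 ≤ d - nM) := by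
  classical
  have hr : r.Prime := Fact.out
  have hr0 : (r : F) ≠ 0 := by
    rw [Ne, CharP.cast_eq_zero_iff F p]
    intro hd
    exact hrp ((Nat.prime_dvd_prime_iff_eq Fact.out Fact.out).1 hd).symm
  have hipos : 0 < orderOf (Fintype.card F : ZMod r) := orderOf_card_pos r hrp
  have hq0 : ((Fintype.card F : ℕ) : ZMod r) ≠ 0 := by
    rw [Ne, ZMod.natCast_eq_zero_iff]
    exact card_not_dvd' r hrp
  have hidvd' : orderOf (Fintype.card F : ZMod r) ∣ r - 1 :=
    orderOf_dvd_of_pow_eq_one (ZMod.pow_card_sub_one_eq_one hq0)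
  have hti : (r - 1) / orderOf (Fintype.card F : ZMod r) * orderOf (Fintype.card F : ZMod r) =
      r - 1 := Nat.div_mul_cancel hidvd'
  obtain ⟨h, hmon, hirr, hnone, hdeg, hprod⟩ :=
    PrimeOrderClasses.exists_factor_family (F := F) (p := p) rfl r _ _ hr hrp rfl hti
  have hsq : Squarefree (∏ o, h o) := by
    rw [hprod]
    have := (separable_X_pow_sub_C (1 : F) hr0 one_ne_zero).squarefree
    rwa [map_one] at this
  have hcop := PrimeOrderClasses.family_coprime h hmon hirr hsq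
  obtain ⟨W, _, _, _, T, QW, hndW, hisoW, hTr, hfpf, hWdim, hWker⟩ :=
    exists_mov_D2 (F := F) r hr2 hrp hev h hmon hirr hnone hdeg hprod hcop s hst
  obtain ⟨V', _, _, _, Q', y', hnd', hdim', ht', hiso', hy', hmov', hker'⟩ :=
    assemble_even QW hndW T hisoW r hrp hr2 hTr hfpf nM (by rw [hWdim, hnM]) d hle ε hε hcompat
  obtain ⟨e, c, hc, he⟩ := huniv V' Q' hnd' hdim' ht'
  have hfix' : ModelFix Q' m r := hfix.transfer e c hc he
  have hnMpos : 0 < nM := by
    have : 0 < orderOf (Fintype.card F : ZMod r) * s := Nat.mul_pos hipos (by omega)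
    omega
  obtain ⟨W', hW'dim, hW'ts, hW'inv⟩ := hfix' y' hiso' hy' (ne_one_of_mov y' (by omega))
  have hnd'' : ∀ x, (∀ z, polar Q' x z = 0) → x = 0 := fun x hx => hnd'.1 x (fun z => by
    rw [polarBilin_apply_apply]; exact hx z)
  obtain ⟨k, a, hk1, hk2, hk3, hk4, hk5⟩ := nec_even Q' y' r hnd'' hiso' hrp hr2 hy' d hdim' ε hε
    ht' nM hmov' W' hW'inv hW'ts
  have hbot : W' ⊓ movR y' = ⊥ := by
    apply no_ts_in_mov Q' y' r hnd'' hiso' hrp hy' hev h hnone hprod hcop ?_ _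
      inf_le_right (Sp.inf_invariant _ _ _ hW'inv (movR_invariant _)) (hW'ts.mono Q' inf_le_left)
    intro j
    rw [hker']
    · exact hWker j
    · intro h0
      have h1 : IsCoprime (X - 1 : F[X]) (h (some j)) := by
        rw [← hnone]
        exact hcop none (some j) (Option.some_ne_none j).symm
      obtain ⟨u, v, huv⟩ := h1
      have := congrArg (Polynomial.eval 1) huv
      rw [eval_add, eval_mul, eval_mul, h0, eval_sub, eval_X, eval_one, sub_self, mul_zero,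
        mul_zero, add_zero] at this
      exact zero_ne_one this
  rw [hbot, finrank_bot] at hk2
  rw [← hk2, add_zero] at hk1
  rw [hW'dim] at hk1
  rw [hk1]
  exact ⟨hk4, hk5⟩

/-- odd dimension, derangements with a moved space of dimension `2 nM` -/
theorem nec_D1_odd (h2 : (2 : F) ≠ 0) (d : ℕ)
    (huniv : ∀ (V' : Type u) [AddCommGroup V'] [Module F V'] [FiniteDimensional F V']
      (Q' : QuadraticForm F V'), (polarBilin Q').Nondegenerate → finrank F V' = 2 * d + 1 →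
      ∃ (e : V' ≃ₗ[F] V) (c : F), c ≠ 0 ∧ ∀ v, c * Q (e v) = Q' v)
    (m r : ℕ) [Fact r.Prime] (hfix : ModelFix Q m r) (hrp : r ≠ p) (hr2 : r ≠ 2) (nM : ℕ)
    (h1 : 1 ≤ nM) (hle : nM ≤ d) (hdvd : orderOf (Fintype.card F : ZMod r) ∣ 2 * nM) :
    ∃ k a : ℕ, m = a + orderOf (Fintype.card F : ZMod r) * k ∧
      orderOf (Fintype.card F : ZMod r) * k ≤ nM ∧ a ≤ d - nM := by
  obtain ⟨W, _, _, _, T, QW, hndW, hisoW, hTr, hfpf, hWdim⟩ :=
    exists_mov_D1 (F := F) r hr2 hrp nM hdvd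
  obtain ⟨V', _, _, _, Q', y', hnd', hdim', hiso', hy', hmov', -⟩ :=
    assemble_odd h2 QW hndW T hisoW r hTr hfpf nM hWdim d hle
  obtain ⟨e, c, hc, he⟩ := huniv V' Q' hnd' hdim'
  have hfix' : ModelFix Q' m r := hfix.transfer e c hc he
  obtain ⟨W', hW'dim, hW'ts, hW'inv⟩ := hfix' y' hiso' hy' (ne_one_of_mov y' (by omega))
  have hnd'' : ∀ x, (∀ z, polar Q' x z = 0) → x = 0 := fun x hx => hnd'.1 x (fun z => by
    rw [polarBilin_apply_apply]; exact hx z)
  obtain ⟨k, a, hk1, -, hk3, hk4⟩ := nec_odd Q' y' r hnd'' hiso' hrp hy' d hdim'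
    nM hmov' W' hW'inv hW'ts
  exact ⟨k, a, by rw [← hW'dim, hk1], hk3, hk4⟩

/-- odd dimension, derangements with a multiplicity-free moved space -/
theorem nec_D2_odd (h2 : (2 : F) ≠ 0) (d : ℕ)
    (huniv : ∀ (V' : Type u) [AddCommGroup V'] [Module F V'] [FiniteDimensional F V']
      (Q' : QuadraticForm F V'), (polarBilin Q').Nondegenerate → finrank F V' = 2 * d + 1 →
      ∃ (e : V' ≃ₗ[F] V) (c : F), c ≠ 0 ∧ ∀ v, c * Q (e v) = Q' v)
    (m r : ℕ) [Fact r.Prime] (hfix : ModelFix Q m r) (hrp : r ≠ p) (hr2 : r ≠ 2)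
    (hev : Even (orderOf (Fintype.card F : ZMod r))) (s nM : ℕ) (hs1 : 1 ≤ s)
    (hst : s ≤ (r - 1) / orderOf (Fintype.card F : ZMod r))
    (hnM : 2 * nM = orderOf (Fintype.card F : ZMod r) * s) (hle : nM ≤ d) :
    m ≤ d - nM := by
  classical
  have hr : r.Prime := Fact.out
  have hr0 : (r : F) ≠ 0 := by
    rw [Ne, CharP.cast_eq_zero_iff F p]
    intro hd
    exact hrp ((Nat.prime_dvd_prime_iff_eq Fact.out Fact.out).1 hd).symm
  have hipos : 0 < orderOf (Fintype.card F : ZMod r) := orderOf_card_pos r hrp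
  have hq0 : ((Fintype.card F : ℕ) : ZMod r) ≠ 0 := by
    rw [Ne, ZMod.natCast_eq_zero_iff]
    exact card_not_dvd' r hrp
  have hidvd' : orderOf (Fintype.card F : ZMod r) ∣ r - 1 :=
    orderOf_dvd_of_pow_eq_one (ZMod.pow_card_sub_one_eq_one hq0)
  have hti : (r - 1) / orderOf (Fintype.card F : ZMod r) * orderOf (Fintype.card F : ZMod r) =
      r - 1 := Nat.div_mul_cancel hidvd'
  obtain ⟨h, hmon, hirr, hnone, hdeg, hprod⟩ :=
    PrimeOrderClasses.exists_factor_family (F := F) (p := p) rfl r _ _ hr hrp rfl hti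
  have hsq : Squarefree (∏ o, h o) := by
    rw [hprod]
    have := (separable_X_pow_sub_C (1 : F) hr0 one_ne_zero).squarefree
    rwa [map_one] at this
  have hcop := PrimeOrderClasses.family_coprime h hmon hirr hsq
  obtain ⟨W, _, _, _, T, QW, hndW, hisoW, hTr, hfpf, hWdim, hWker⟩ :=
    exists_mov_D2 (F := F) r hr2 hrp hev h hmon hirr hnone hdeg hprod hcop s hst
  obtain ⟨V', _, _, _, Q', y', hnd', hdim', hiso', hy', hmov', hker'⟩ :=
    assemble_odd h2 QW hndW T hisoW r hTr hfpf nM (by rw [hWdim, hnM]) d hle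
  obtain ⟨e, c, hc, he⟩ := huniv V' Q' hnd' hdim'
  have hfix' : ModelFix Q' m r := hfix.transfer e c hc he
  have hnMpos : 0 < nM := by
    have : 0 < orderOf (Fintype.card F : ZMod r) * s := Nat.mul_pos hipos (by omega)
    omega
  obtain ⟨W', hW'dim, hW'ts, hW'inv⟩ := hfix' y' hiso' hy' (ne_one_of_mov y' (by omega))
  have hnd'' : ∀ x, (∀ z, polar Q' x z = 0) → x = 0 := fun x hx => hnd'.1 x (fun z => by
    rw [polarBilin_apply_apply]; exact hx z)
  obtain ⟨k, a, hk1, hk2, hk3, hk4⟩ := nec_odd Q' y' r hnd'' hiso' hrp hy' d hdim'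
    nM hmov' W' hW'inv hW'ts
  have hbot : W' ⊓ movR y' = ⊥ := by
    apply no_ts_in_mov Q' y' r hnd'' hiso' hrp hy' hev h hnone hprod hcop ?_ _
      inf_le_right (Sp.inf_invariant _ _ _ hW'inv (movR_invariant _)) (hW'ts.mono Q' inf_le_left)
    intro j
    rw [hker']
    · exact hWker j
    · intro h0
      have h1 : IsCoprime (X - 1 : F[X]) (h (some j)) := by
        rw [← hnone]
        exact hcop none (some j) (Option.some_ne_none j).symm
      obtain ⟨u, v, huv⟩ := h1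
      have := congrArg (Polynomial.eval 1) huv
      rw [eval_add, eval_mul, eval_mul, h0, eval_sub, eval_X, eval_one, sub_self, mul_zero,
        mul_zero, add_zero] at this
      exact zero_ne_one this
  rw [hbot, finrank_bot] at hk2
  rw [← hk2, add_zero] at hk1
  rw [hW'dim] at hk1
  rw [hk1]
  exact hk4

end derange

end Cfsg.Agent.Lib.Helper24.Or
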