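/- helper24: orthogonal toolkit K: odd dimension, elements of odd prime order: sufficiency and necessity -/
import Mathlib
import Cfsg.Agent.Lib.Helper24.OrJ

set_option autoImplicit false

namespace Cfsg.Agent.Lib.Helper24.Or

open Module QuadraticMap Polynomial Cfsg.Agent.Lib.Helper12.Elus Cfsg.Agent.Lib.Helper12
  Cfsg.Agent.Lib.Helper15 Cfsg.Agent.Lib.Helper15.QuadType Cfsg.Agent.Lib.Helper15.OrthSemi

universe u

section oddsuff

variable {F V : Type*} [Field F] [Fintype F] [AddCommGroup V] [Module F V] [FiniteDimensional F V]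
  (Q : QuadraticForm F V) (y : V →ₗ[F] V) (r : ℕ) [Fact r.Prime] {p : ℕ} [Fact p.Prime] [CharP F p]

/-- pure arithmetic: the fixed space is big enough -/
theorem odd_suff_arith (i c t d m k₀ o nM : ℕ) (hi : 0 < i)
    (hc : c = if Even i then i else 2 * i)
    (hnM : 2 * nM = i * (2 * k₀ + o)) (hle : nM ≤ d)
    (ho1 : Even i → o ≤ t) (ho2 : Odd i → o = 0) (hmd : m ≤ d)
    (h1 : 2 * (m % i) < (2 * d + 1) % c)
    (h2 : Odd i ∨ t + 2 * (m / i) ≤ (2 * d + 1) / i) :
    ∃ k, k ≤ k₀ ∧ i * k ≤ m ∧ m - i * k ≤ d - nM := by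
  have hm := Nat.div_add_mod m i
  have hmlt := Nat.mod_lt m hi
  by_cases hk : k₀ ≤ m / i
  · -- take k = k₀
    refine ⟨k₀, le_rfl, ?_, ?_⟩
    · calc i * k₀ ≤ i * (m / i) := Nat.mul_le_mul_left _ hk
        _ ≤ m := by omega
    · have hik : i * k₀ ≤ m := by
        calc i * k₀ ≤ i * (m / i) := Nat.mul_le_mul_left _ hk
          _ ≤ m := by omega
      -- need 2m + i*o ≤ 2d
      have key : 2 * m + i * o ≤ 2 * d := by
        rcases Nat.even_or_odd i with hev | hod
        · rw [if_pos hev] at hc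
          rw [hc] at h1
          rcases h2 with h2 | h2
          · exact absurd hev (Nat.not_even_iff_odd.2 h2)
          · have h3 := Nat.div_add_mod (2 * d + 1) i
            have h4 : i * (t + 2 * (m / i)) ≤ i * ((2 * d + 1) / i) := Nat.mul_le_mul_left _ h2
            have h5 : i * o ≤ i * t := Nat.mul_le_mul_left _ (ho1 hev)
            have h6 : i * (t + 2 * (m / i)) = i * t + 2 * (i * (m / i)) := by ring
            omega
        · rw [ho2 hod, mul_zero]
          omega
      have h7 : i * (2 * k₀ + o) = 2 * (i * k₀) + i * o := by ring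
      omega
  · -- take k = m / i
    push Not at hk
    refine ⟨m / i, by omega, by omega, ?_⟩
    have h3 : m - i * (m / i) = m % i := by omega
    rw [h3]
    -- c divides 2 nM
    have hcpos : 0 < c := by
      rw [hc]; split_ifs <;> omega
    have hcd : c ∣ 2 * nM := by
      rw [hnM, hc]
      split_ifs with hev
      · exact dvd_mul_right _ _
      · rw [ho2 (Nat.not_even_iff_odd.1 hev), add_zero]
        exact ⟨k₀, by ring⟩
    obtain ⟨s, hs⟩ := hcd
    have h4 : c * s ≤ 2 * d + 1 := by omega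
    have h5 : s ≤ (2 * d + 1) / c := (Nat.le_div_iff_mul_le hcpos).2 (by rw [mul_comm]; exact h4)
    have h6 : c * s ≤ c * ((2 * d + 1) / c) := Nat.mul_le_mul_left _ h5
    have h7 := Nat.div_add_mod (2 * d + 1) c
    omega

/-- odd dimension: sufficiency -/
theorem odd_suff (hnd : ∀ x, (∀ z, polar Q x z = 0) → x = 0) (hiso : ∀ v, Q (y v) = Q v)
    (hrp : r ≠ p) (hr2 : r ≠ 2) (hy : y ^ r = 1) (d : ℕ) (hV : finrank F V = 2 * d + 1)
    (m : ℕ) (hmd : m ≤ d) (c : ℕ)
    (hc : c = if Even (orderOf (Fintype.card F : ZMod r)) then orderOf (Fintype.card F : ZMod r)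
      else 2 * orderOf (Fintype.card F : ZMod r))
    (h1 : 2 * (m % orderOf (Fintype.card F : ZMod r)) < (2 * d + 1) % c)
    (h2 : Odd (orderOf (Fintype.card F : ZMod r)) ∨
      (r - 1) / orderOf (Fintype.card F : ZMod r) + 2 * (m / orderOf (Fintype.card F : ZMod r)) ≤
        (2 * d + 1) / orderOf (Fintype.card F : ZMod r)) :
    ∃ W : Submodule F V, finrank F W = m ∧ TS Q W ∧ ∀ u ∈ W, y u ∈ W := by
  have hipos : 0 < orderOf (Fintype.card F : ZMod r) := orderOf_card_pos r hrp
  obtain ⟨k₀, o, nM, hnM, hle, ho1, ho2, hmain⟩ := suff_odd Q y r hnd hiso hrp hr2 hy d hV m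
  obtain ⟨k, hk1, hk2, hk3⟩ := odd_suff_arith _ c _ d m k₀ o nM hipos hc hnM hle ho1 ho2 hmd h1 h2
  exact hmain k hk1 hk2 hk3

end oddsuff

section oddnec

variable {F : Type u} [Field F] [Fintype F] {p : ℕ} [Fact p.Prime] [CharP F p]
  {V : Type u} [AddCommGroup V] [Module F V] [FiniteDimensional F V] (Q : QuadraticForm F V)

/-- `t = (r - 1) / i` is positive -/
theorem t_pos (r : ℕ) [Fact r.Prime] (hrp : r ≠ p) :
    1 ≤ (r - 1) / orderOf (Fintype.card F : ZMod r) := by
  have hr : r.Prime := Fact.out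
  have hipos : 0 < orderOf (Fintype.card F : ZMod r) := orderOf_card_pos r hrp
  have hq0 : ((Fintype.card F : ℕ) : ZMod r) ≠ 0 := by
    rw [Ne, ZMod.natCast_eq_zero_iff]
    exact card_not_dvd' r hrp
  have hidvd' : orderOf (Fintype.card F : ZMod r) ∣ r - 1 :=
    orderOf_dvd_of_pow_eq_one (ZMod.pow_card_sub_one_eq_one hq0)
  have hti := Nat.div_mul_cancel hidvd'
  rcases Nat.eq_zero_or_pos ((r - 1) / orderOf (Fintype.card F : ZMod r)) with h0 | h0
  · rw [h0, zero_mul] at hti
    have := hr.two_le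
    omega
  · exact h0

/-- odd dimension: necessity -/
theorem odd_nec (h2 : (2 : F) ≠ 0) (d : ℕ)
    (huniv : ∀ (V' : Type u) [AddCommGroup V'] [Module F V'] [FiniteDimensional F V']
      (Q' : QuadraticForm F V'), (polarBilin Q').Nondegenerate → finrank F V' = 2 * d + 1 →
      ∃ (e : V' ≃ₗ[F] V) (c : F), c ≠ 0 ∧ ∀ v, c * Q (e v) = Q' v)
    (m r : ℕ) [Fact r.Prime] (hfix : ModelFix Q m r) (hrp : r ≠ p) (hr2 : r ≠ 2)
    (hm : 1 ≤ m) (hmd : m ≤ d)
    (hj : ∃ j, j < m ∧ r ∣ Fintype.card F ^ (2 * (d - j)) - 1) (c : ℕ)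
    (hc : c = if Even (orderOf (Fintype.card F : ZMod r)) then orderOf (Fintype.card F : ZMod r)
      else 2 * orderOf (Fintype.card F : ZMod r)) :
    orderOf (Fintype.card F : ZMod r) ≤ m ∧
    2 * (m % orderOf (Fintype.card F : ZMod r)) < (2 * d + 1) % c ∧
    (Odd (orderOf (Fintype.card F : ZMod r)) ∨
      (r - 1) / orderOf (Fintype.card F : ZMod r) + 2 * (m / orderOf (Fintype.card F : ZMod r)) ≤
        (2 * d + 1) / orderOf (Fintype.card F : ZMod r)) := by
  have hipos : 0 < orderOf (Fintype.card F : ZMod r) := orderOf_card_pos r hrp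
  have hq : 0 < Fintype.card F := Fintype.card_pos
  have ht1 := t_pos (F := F) r hrp
  obtain ⟨j, hjm, hjdvd⟩ := hj
  have hidvd : orderOf (Fintype.card F : ZMod r) ∣ 2 * (d - j) :=
    orderOf_dvd_of_dvd_pow_sub_one r _ _ hq hjdvd
  have hcdvd : c ∣ 2 * (d - j) := by
    have := Sp.blockDim_dvd_of_dvd_two_mul _ r _ hidvd
    rw [Sp.blockDim, ← hc] at this
    exact this
  have hD1 := fun nM h1 hle hdvd => nec_D1_odd Q h2 d huniv m r hfix hrp hr2 nM h1 hle hdvd
  have hD2 := fun hev s nM hs1 hst hnM hle =>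
    nec_D2_odd Q h2 d huniv m r hfix hrp hr2 hev s nM hs1 hst hnM hle
  generalize orderOf (Fintype.card F : ZMod r) = i at *
  generalize (r - 1) / i = t at *
  have hcpos : 0 < c := by
    rw [hc]; split_ifs <;> omega
  have hic : i ∣ c := by
    rw [hc]; split_ifs
    · exact dvd_rfl
    · exact dvd_mul_left _ _
  have hc2i : c ≤ 2 * i := by
    rw [hc]; split_ifs <;> omega
  have hceven : Even c := by
    rw [hc]; split_ifs with hev
    · exact hev
    · exact even_two_mul i
  have hc2d : c ≤ 2 * d := by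
    have := Nat.le_of_dvd (by omega) hcdvd
    omega
  have hdm := Nat.div_add_mod (2 * d + 1) c
  have hνlt : (2 * d + 1) % c < c := Nat.mod_lt _ hcpos
  have ha1 : 1 ≤ (2 * d + 1) / c := (Nat.one_le_div_iff hcpos).2 (by omega)
  -- (N1)
  have hN1 : 2 * (m % i) < (2 * d + 1) % c := by
    obtain ⟨c', hc'⟩ := hceven
    have hc'2 : c = 2 * c' := by omega
    have hnM : 2 * (c' * ((2 * d + 1) / c)) = c * ((2 * d + 1) / c) := by rw [hc'2]; ring
    have hpos : 0 < c' * ((2 * d + 1) / c) := Nat.mul_pos (by omega) (by omega)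
    obtain ⟨k', a', hk1, hk2, hk3⟩ := hD1 (c' * ((2 * d + 1) / c)) hpos (by omega) (by
      rw [hnM]
      exact Dvd.dvd.mul_right hic _)
    have ha'lt : a' < i := by omega
    have hmod : m % i = a' := by
      rw [hk1, Nat.add_mul_mod_self_left, Nat.mod_eq_of_lt ha'lt]
    rw [hmod]
    omega
  -- (N2)
  have hN2 : i ≤ m := by
    by_contra hlt
    push Not at hlt
    rw [Nat.mod_eq_of_lt hlt] at hN1
    obtain ⟨b, hb⟩ := hcdvd
    have h1 : 2 * d + 1 = 2 * j + 1 + c * b := by omega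
    have h3 : (2 * d + 1) % c = 2 * j + 1 := by
      rw [h1, Nat.add_mul_mod_self_left, Nat.mod_eq_of_lt (by omega)]
    omega
  refine ⟨hN2, hN1, ?_⟩
  -- (N3)
  rcases Nat.even_or_odd i with hev | hodd
  · right
    by_contra hcon
    push Not at hcon
    have hci : c = i := by rw [hc, if_pos hev]
    rw [hci] at hdm hνlt hc2d
    obtain ⟨i', hi'⟩ := hev
    have hdivm := Nat.div_add_mod m i
    have hD1' : 1 ≤ (2 * d + 1) / i := (Nat.one_le_div_iff hipos).2 (by omega)
    have hκ1 : 1 ≤ m / i := (Nat.one_le_div_iff hipos).2 hN2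
    by_cases hcase : t ≤ (2 * d + 1) / i
    · -- s = t
      have hnM : 2 * (i' * t) = i * t := by rw [hi']; ring
      have hle : i * t ≤ i * ((2 * d + 1) / i) := Nat.mul_le_mul_left _ hcase
      have h3 := hD2 ⟨i', hi'⟩ t (i' * t) ht1 le_rfl hnM (by omega)
      have h4 : i * ((2 * d + 1) / i + 1) ≤ i * (t + 2 * (m / i)) := Nat.mul_le_mul_left _ hcon
      have h5 : i * ((2 * d + 1) / i + 1) = i * ((2 * d + 1) / i) + i := by ring
      have h6 : i * (t + 2 * (m / i)) = i * t + 2 * (i * (m / i)) := by ring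
      omega
    · -- s = n'
      push Not at hcase
      have hnM : 2 * (i' * ((2 * d + 1) / i)) = i * ((2 * d + 1) / i) := by rw [hi']; ring
      have h3 := hD2 ⟨i', hi'⟩ ((2 * d + 1) / i) (i' * ((2 * d + 1) / i)) hD1' (by omega) hnM
        (by omega)
      omega
  · left
    exact hodd

end oddnec

end Cfsg.Agent.Lib.Helper24.Or
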