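/- helper24: orthogonal toolkit L(a): pure arithmetic of the even-dimensional criteria -/
import Mathlib

set_option autoImplicit false

namespace Cfsg.Agent.Lib.Helper24.Or

section evenarith

/-- the common core of the even-dimensional sufficiency arithmetic -/
theorem core_ineq (i X kk l pen : ℕ) (G : Prop) (hi2 : 2 ≤ i) (hpen : pen ≤ 1) (hkk : Even kk)
    (hparX : Even X ↔ (G ↔ pen = 0))
    (hcond : (2 * l ≤ i ∧ kk = 0 ∧ ¬ G ∧ (X = 0 → pen = 0)) ∨ (2 * l ≤ kk ∧ G) ∨
      (2 * l < kk ∧ ¬ G)) : 2 * l + 2 * pen ≤ i * X + kk := by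
  obtain ⟨kk', hkk'⟩ := hkk
  rcases hcond with ⟨h1, h2, h3, h4⟩ | ⟨h1, h2⟩ | ⟨h1, h2⟩
  · by_cases hp : pen = 0
    · -- X odd
      have hX : ¬ Even X := by
        rw [hparX]
        intro h
        exact h3 (h.2 hp)
      have hX1 : 1 ≤ X := by
        rcases Nat.eq_zero_or_pos X with h0 | h0
        · exfalso; apply hX; rw [h0]; exact ⟨0, rfl⟩
        · exact h0
      have : i * 1 ≤ i * X := Nat.mul_le_mul_left _ hX1
      omega
    · have hX : Even X := by
        rw [hparX]
        exact ⟨fun h => absurd h h3, fun h => absurd h hp⟩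
      obtain ⟨X', hX'⟩ := hX
      have hX0 : X ≠ 0 := fun h0 => hp (h4 h0)
      have hX2 : 2 ≤ X := by omega
      have : i * 2 ≤ i * X := Nat.mul_le_mul_left _ hX2
      omega
  · by_cases hp : pen = 0
    · omega
    · have hX : ¬ Even X := by
        rw [hparX]
        intro h
        exact hp (h.1 h2)
      have hX1 : 1 ≤ X := by
        rcases Nat.eq_zero_or_pos X with h0 | h0
        · exfalso; apply hX; rw [h0]; exact ⟨0, rfl⟩
        · exact h0
      have : i * 1 ≤ i * X := Nat.mul_le_mul_left _ hX1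
      omega
  · omega

/-- even dimension: the fixed space is big enough -/
theorem even_suff_arith (P Cp : Prop) (i c t d m k₀ o nM : ℕ) (hi : 0 < i)
    (hc : c = if Even i then i else 2 * i)
    (hnM : 2 * nM = i * (2 * k₀ + o)) (hle : nM ≤ d)
    (ho1 : Even i → o ≤ t) (ho2 : Odd i → o = 0) (hrel : Cp ↔ (P ↔ Even o))
    (hC0 : nM = d → Cp) (hmd : m + 1 ≤ d)
    (hcond : (Odd i ∧ i ≤ m ∧ ((P ∧ 2 * (m % i) ≤ (2 * d) % c) ∨
        (¬ P ∧ ((2 * d) % c = 0 ∨ 2 * (m % i) < (2 * d) % c)))) ∨
      (Even i ∧ i ≤ m ∧ t + 2 * (m / i) ≤ (2 * d) / i ∧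
        ((2 * (m % i) ≤ i ∧ (2 * d) % c = 0 ∧ ¬ (P ↔ Even ((2 * d) / i)) ∧
            t + 2 * (m / i) < (2 * d) / i) ∨
          (2 * (m % i) ≤ (2 * d) % c ∧ (P ↔ Even ((2 * d) / i))) ∨
          (2 * (m % i) < (2 * d) % c ∧ ¬ (P ↔ Even ((2 * d) / i)))))) :
    ∃ k, k ≤ k₀ ∧ i * k ≤ m ∧ (m - i * k + 1 ≤ d - nM ∨ (m - i * k ≤ d - nM ∧ Cp)) := by
  classical
  have hm := Nat.div_add_mod m i
  have hmlt := Nat.mod_lt m hi
  -- reformulate the goal with a penalty
  obtain ⟨pen, hpen1, hpen0⟩ : ∃ pen : ℕ, pen ≤ 1 ∧ (pen = 0 ↔ Cp) := by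
    by_cases h : Cp
    · exact ⟨0, by omega, ⟨fun _ => h, fun _ => rfl⟩⟩
    · exact ⟨1, le_rfl, ⟨fun h1 => by omega, fun h1 => absurd h1 h⟩⟩
  suffices hs : ∃ k, k ≤ k₀ ∧ i * k ≤ m ∧ m - i * k + pen ≤ d - nM by
    obtain ⟨k, hk1, hk2, hk3⟩ := hs
    refine ⟨k, hk1, hk2, ?_⟩
    by_cases h : Cp
    · right
      exact ⟨by omega, h⟩
    · left
      have : pen = 1 := by
        have : pen ≠ 0 := fun h0 => h (hpen0.1 h0)
        omega
      omega
  rcases hcond with ⟨hod, him, hcase⟩ | ⟨hev, him, hT, hcase⟩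
  · -- i odd
    have ho := ho2 hod
    subst ho
    have hnev : ¬ Even i := Nat.not_even_iff_odd.2 hod
    rw [if_neg hnev] at hc
    have hCpP : Cp ↔ P := by
      rw [hrel]
      exact ⟨fun h => h.2 ⟨0, rfl⟩, fun h => ⟨fun _ => ⟨0, rfl⟩, fun _ => h⟩⟩
    have hnM' : nM = i * k₀ := by
      have : 2 * nM = 2 * (i * k₀) := by rw [hnM]; ring
      omega
    have hdm := Nat.div_add_mod (2 * d) c
    have hcpos : 0 < c := by omega
    by_cases hk : k₀ ≤ m / i
    · refine ⟨k₀, le_rfl, ?_, ?_⟩
      · calc i * k₀ ≤ i * (m / i) := Nat.mul_le_mul_left _ hk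
          _ ≤ m := by omega
      · have hik : i * k₀ ≤ m := by
          calc i * k₀ ≤ i * (m / i) := Nat.mul_le_mul_left _ hk
            _ ≤ m := by omega
        omega
    · push Not at hk
      refine ⟨m / i, by omega, by omega, ?_⟩
      have h3 : m - i * (m / i) = m % i := by omega
      rw [h3]
      have h4 : c * k₀ ≤ 2 * d := by rw [hc]; rw [hnM'] at hle; nlinarith
      have h5 : k₀ ≤ (2 * d) / c := (Nat.le_div_iff_mul_le hcpos).2 (by rw [mul_comm]; exact h4)
      have h6 : c * k₀ ≤ c * ((2 * d) / c) := Nat.mul_le_mul_left _ h5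
      have h2nM : 2 * nM = c * k₀ := by rw [hc, hnM']; ring
      rcases hcase with ⟨hP, h7⟩ | ⟨hP, h7⟩
      · have : pen = 0 := hpen0.2 (hCpP.2 hP)
        omega
      · have hpen : pen = 1 := by
          have : pen ≠ 0 := fun h0 => hP (hCpP.1 (hpen0.1 h0))
          omega
        rcases h7 with h7 | h7
        · -- (2d) % c = 0
          have hne : nM ≠ d := fun h => hP (hCpP.1 (hC0 h))
          have h8 : k₀ ≠ (2 * d) / c := by
            intro h9
            apply hne
            rw [h9] at h2nM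
            omega
          have h9 : k₀ + 1 ≤ (2 * d) / c := by omega
          have h10 : c * (k₀ + 1) ≤ c * ((2 * d) / c) := Nat.mul_le_mul_left _ h9
          have h11 : c * (k₀ + 1) = c * k₀ + c := by ring
          omega
        · -- 2 l < kk, kk even
          have hkkev : (2 * d) % c % 2 = 0 := by
            have h12 : (2 * d) % c = 2 * d - c * ((2 * d) / c) := by omega
            rw [hc] at h12 ⊢
            have : 2 * i * (2 * d / (2 * i)) = 2 * (i * (2 * d / (2 * i))) := by ring
            omega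
          omega
  · -- i even
    rw [if_pos hev] at hc
    subst hc
    have ho := ho1 hev
    have hi2 : 2 ≤ c := by
      obtain ⟨i', hi'⟩ := hev
      omega
    have hdm := Nat.div_add_mod (2 * d) c
    have hkkev : Even ((2 * d) % c) := by
      obtain ⟨i', hi'⟩ := hev
      have h12 : (2 * d) % c = 2 * d - c * ((2 * d) / c) := by omega
      refine ⟨d - i' * ((2 * d) / c), ?_⟩
      have : c * (2 * d / c) = 2 * (i' * (2 * d / c)) := by rw [hi']; ring
      omega
    have hsle : 2 * k₀ + o ≤ (2 * d) / c :=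
      (Nat.le_div_iff_mul_le hi).2 (by rw [mul_comm]; omega)
    have hpenpar : ∀ X : ℕ, X + (2 * k₀ + o) = (2 * d) / c ∨ X + (2 * (m / c) + o) = (2 * d) / c →
        (Even X ↔ ((P ↔ Even ((2 * d) / c)) ↔ pen = 0)) := by
      intro X hX
      rw [hpen0, hrel]
      have hpar : (X % 2 = 0 ↔ o % 2 = 0) ↔ ((2 * d) / c) % 2 = 0 := by
        rcases hX with hX | hX <;> omega
      rw [Nat.even_iff, Nat.even_iff, Nat.even_iff]
      generalize (X % 2 = 0) = a at *
      generalize (o % 2 = 0) = b at *
      generalize ((2 * d) / c % 2 = 0) = e at *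
      clear hcase hT
      by_cases ha : a <;> by_cases hb : b <;> by_cases he : e <;> by_cases hP : P <;>
        simp only [ha, hb, he, hP] at hpar ⊢ <;> simp at hpar ⊢
    by_cases hk : k₀ ≤ m / c
    · -- k = k₀, X = D
      refine ⟨k₀, le_rfl, ?_, ?_⟩
      · calc c * k₀ ≤ c * (m / c) := Nat.mul_le_mul_left _ hk
          _ ≤ m := by omega
      · have hik : c * k₀ ≤ m := by
          calc c * k₀ ≤ c * (m / c) := Nat.mul_le_mul_left _ hk
            _ ≤ m := by omega
        obtain ⟨X, hX⟩ : ∃ X, X + (2 * (m / c) + o) = (2 * d) / c := ⟨(2 * d) / c - (2 * (m / c) + o),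
          by omega⟩
        have hcore := core_ineq c X ((2 * d) % c) (m % c) pen (P ↔ Even ((2 * d) / c)) hi2 hpen1
          hkkev (hpenpar X (Or.inr hX)) (by
            rcases hcase with ⟨h1, h2, h3, h4⟩ | h | h
            · left
              exact ⟨h1, h2, h3, fun h0 => by omega⟩
            · right; left; exact h
            · right; right; exact h)
        have e1 : c * ((2 * d) / c) = c * X + 2 * (c * (m / c)) + c * o := by rw [← hX]; ring
        have e2 : c * (2 * k₀ + o) = 2 * (c * k₀) + c * o := by ring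
        omega
    · -- k = m / c, X = E
      push Not at hk
      refine ⟨m / c, by omega, by omega, ?_⟩
      have h3 : m - c * (m / c) = m % c := by omega
      rw [h3]
      obtain ⟨X, hX⟩ : ∃ X, X + (2 * k₀ + o) = (2 * d) / c := ⟨(2 * d) / c - (2 * k₀ + o),
        by omega⟩
      have e1 : c * ((2 * d) / c) = c * X + c * (2 * k₀ + o) := by rw [← hX]; ring
      have hcore := core_ineq c X ((2 * d) % c) (m % c) pen (P ↔ Even ((2 * d) / c)) hi2 hpen1
        hkkev (hpenpar X (Or.inl hX)) (by
          rcases hcase with ⟨h1, h2, h3, h4⟩ | h | h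
          · left
            refine ⟨h1, h2, h3, fun h0 => ?_⟩
            apply hpen0.2
            apply hC0
            rw [h0, mul_zero, zero_add] at e1
            omega
          · right; left; exact h
          · right; right; exact h)
      omega

end evenarith

section evennecarith

theorem mod_of_decomp (m a i k : ℕ) (h : m = a + i * k) (ha : a < i) : m % i = a ∧ m / i = k := by
  have hi : 0 < i := by omega
  constructor
  · rw [h, Nat.add_mul_mod_self_left, Nat.mod_eq_of_lt ha]
  · rw [h, Nat.add_mul_div_left _ _ hi, Nat.div_eq_of_lt ha, zero_add]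

/-- even dimension: the arithmetic of the necessity direction -/
theorem even_nec_arith (P : Prop) (i c t d m : ℕ) (hi : 0 < i) (ht1 : 1 ≤ t)
    (hc : c = if Even i then i else 2 * i) (hm : 1 ≤ m) (hmd : m + 1 ≤ d)
    (hD1 : ∀ nM, 1 ≤ nM → nM ≤ d → i ∣ 2 * nM → (nM = d → (P ↔ i ∣ nM)) →
      ∃ k a, m = a + i * k ∧ i * k ≤ nM ∧ a ≤ d - nM ∧ (¬ (P ↔ i ∣ nM) → a + 1 ≤ d - nM))
    (hD2 : Even i → ∀ s nM, 1 ≤ s → s ≤ t → 2 * nM = i * s → nM ≤ d →
      (nM = d → (P ↔ i ∣ nM)) → m ≤ d - nM ∧ (¬ (P ↔ i ∣ nM) → m + 1 ≤ d - nM))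
    (hwit : ∃ nM j, j < m ∧ 1 ≤ nM ∧ nM ≤ d ∧ i ∣ 2 * nM ∧ (nM = d → (P ↔ i ∣ nM)) ∧
      ((¬ (P ↔ i ∣ nM) → d - nM = j + 1) ∧ ((P ↔ i ∣ nM) → d - nM = j))) :
    (Odd i ∧ i ≤ m ∧ ((P ∧ 2 * (m % i) ≤ (2 * d) % c) ∨
        (¬ P ∧ ((2 * d) % c = 0 ∨ 2 * (m % i) < (2 * d) % c)))) ∨
      (Even i ∧ i ≤ m ∧ t + 2 * (m / i) ≤ (2 * d) / i ∧
        ((2 * (m % i) ≤ i ∧ (2 * d) % c = 0 ∧ ¬ (P ↔ Even ((2 * d) / i)) ∧
            t + 2 * (m / i) < (2 * d) / i) ∨
          (2 * (m % i) ≤ (2 * d) % c ∧ (P ↔ Even ((2 * d) / i))) ∨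
          (2 * (m % i) < (2 * d) % c ∧ ¬ (P ↔ Even ((2 * d) / i))))) := by
  classical
  -- (N2)
  have hN2 : i ≤ m := by
    by_contra hlt
    push Not at hlt
    obtain ⟨nM, j, hjm, h1, h2, h3, h4, h5, h6⟩ := hwit
    obtain ⟨k, a, hk1, hk2, hk3, hk4⟩ := hD1 nM h1 h2 h3 h4
    have hk0 : k = 0 := by
      rcases Nat.eq_zero_or_pos k with h | h
      · exact h
      · have : i * 1 ≤ i * k := Nat.mul_le_mul_left _ h
        omega
    rw [hk0, mul_zero, add_zero] at hk1
    by_cases hC : (P ↔ i ∣ nM)
    · have := h6 hC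
      omega
    · have := h5 hC
      have := hk4 hC
      omega
  have hmdiv := Nat.div_add_mod m i
  have hmlt := Nat.mod_lt m hi
  rcases Nat.even_or_odd i with hev | hod
  · -- i even
    right
    rw [if_pos hev] at hc
    subst hc
    obtain ⟨i', hi'⟩ := id hev
    have hi'pos : 0 < i' := by omega
    have hdm := Nat.div_add_mod (2 * d) c
    have hklt := Nat.mod_lt (2 * d) hi
    have hn'2 : 2 ≤ (2 * d) / c := (Nat.le_div_iff_mul_le hi).2 (by omega)
    have hκ1 : 1 ≤ m / c := (Nat.one_le_div_iff hi).2 hN2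
    -- divisibility of nM = i' * s
    have hdvd_iff : ∀ s, (c ∣ i' * s ↔ Even s) := by
      intro s
      constructor
      · rintro ⟨z, hz⟩
        have h1 : i' * s = i' * (2 * z) := by rw [hz, hi']; ring
        have h2 := Nat.eq_of_mul_eq_mul_left hi'pos h1
        exact ⟨z, by omega⟩
      · rintro ⟨z, rfl⟩
        exact ⟨z, by rw [hi']; ring⟩
    -- the derangements in terms of s
    have hD1' : ∀ s, 1 ≤ s → s ≤ (2 * d) / c → (c * s = 2 * d → (P ↔ Even s)) →
        ∃ k a, m = a + c * k ∧ 2 * a + c * s ≤ 2 * d ∧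
          (¬ (P ↔ Even s) → 2 * a + 2 + c * s ≤ 2 * d) := by
      intro s hs1 hs2 hs3
      have h1 : c * s ≤ c * ((2 * d) / c) := Nat.mul_le_mul_left _ hs2
      have h2 : 2 * (i' * s) = c * s := by rw [hi']; ring
      obtain ⟨k, a, hk1, hk2, hk3, hk4⟩ := hD1 (i' * s) (Nat.mul_pos hi'pos (by omega)) (by omega)
        ⟨s, by rw [h2]⟩ (by
          intro h3
          rw [hdvd_iff]
          exact hs3 (by omega))
      refine ⟨k, a, hk1, by omega, ?_⟩
      intro h3
      rw [hdvd_iff] at hk4
      have := hk4 h3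
      omega
    have hD2' : ∀ s, 1 ≤ s → s ≤ t → s ≤ (2 * d) / c → (c * s = 2 * d → (P ↔ Even s)) →
        2 * m + c * s ≤ 2 * d ∧ (¬ (P ↔ Even s) → 2 * m + 2 + c * s ≤ 2 * d) := by
      intro s hs1 hst hs2 hs3
      have h1 : c * s ≤ c * ((2 * d) / c) := Nat.mul_le_mul_left _ hs2
      have h2 : 2 * (i' * s) = c * s := by rw [hi']; ring
      obtain ⟨h4, h5⟩ := hD2 hev s (i' * s) hs1 hst h2 (by omega) (by
          intro h3
          rw [hdvd_iff]
          exact hs3 (by omega))
      refine ⟨by omega, ?_⟩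
      intro h3
      rw [hdvd_iff] at h5
      have := h5 h3
      omega
    have hpred : ∀ s, 1 ≤ s → (Even (s - 1) ↔ ¬ Even s) := by
      intro s hs
      rw [Nat.even_iff, Nat.even_iff]
      omega
    -- (T)
    have hT : t + 2 * (m / c) ≤ (2 * d) / c := by
      by_contra hcon
      push Not at hcon
      have h6 : c * ((2 * d) / c + 1) ≤ c * (t + 2 * (m / c)) := Nat.mul_le_mul_left _ hcon
      have h7 : c * ((2 * d) / c + 1) = c * ((2 * d) / c) + c := by ring
      have h8 : c * (t + 2 * (m / c)) = c * t + 2 * (c * (m / c)) := by ring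
      by_cases hcase : t ≤ (2 * d) / c
      · by_cases hcomp : c * t = 2 * d → (P ↔ Even t)
        · have := (hD2' t ht1 le_rfl hcase hcomp).1
          omega
        · push Not at hcomp
          obtain ⟨hct, -⟩ := hcomp
          have ht2 : 2 ≤ t := by
            by_contra h9
            have : t = 1 := by omega
            rw [this, mul_one] at hct
            omega
          have h9 : c * (t - 1) + c = c * t := by
            have : c * (t - 1) + c = c * (t - 1 + 1) := by ring
            rw [this, Nat.sub_add_cancel (by omega)]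
          have := (hD2' (t - 1) (by omega) (by omega) (by omega) (by intro h10; omega)).1
          omega
      · push Not at hcase
        by_cases hcomp : c * ((2 * d) / c) = 2 * d → (P ↔ Even ((2 * d) / c))
        · have := (hD2' ((2 * d) / c) (by omega) (by omega) le_rfl hcomp).1
          omega
        · have h9 : c * ((2 * d) / c - 1) + c = c * ((2 * d) / c) := by
            have : c * ((2 * d) / c - 1) + c = c * ((2 * d) / c - 1 + 1) := by ring
            rw [this, Nat.sub_add_cancel (by omega)]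
          have := (hD2' ((2 * d) / c - 1) (by omega) (by omega) (by omega) (by intro h10; omega)).1
          omega
    refine ⟨hev, hN2, hT, ?_⟩
    by_cases hkk : (2 * d) % c = 0
    · by_cases hG : (P ↔ Even ((2 * d) / c))
      · -- s = n', C = 0
        right; left
        obtain ⟨k, a, hk1, hk2, -⟩ := hD1' ((2 * d) / c) (by omega) le_rfl (fun _ => hG)
        have ha0 : a = 0 := by omega
        have := (mod_of_decomp m a c k hk1 (by omega)).1
        exact ⟨by omega, hG⟩
      · left
        have h9 : c * ((2 * d) / c - 1) + c = c * ((2 * d) / c) := by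
          have : c * ((2 * d) / c - 1) + c = c * ((2 * d) / c - 1 + 1) := by ring
          rw [this, Nat.sub_add_cancel (by omega)]
        refine ⟨?_, hkk, hG, ?_⟩
        · obtain ⟨k, a, hk1, hk2, -⟩ := hD1' ((2 * d) / c - 1) (by omega) (by omega)
            (by intro h10; omega)
          have halt : a < c := by omega
          have := (mod_of_decomp m a c k hk1 halt).1
          omega
        · by_contra hcon
          have hteq : t + 2 * (m / c) = (2 * d) / c := by omega
          have hpar : Even t ↔ Even ((2 * d) / c) := by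
            rw [← hteq, Nat.even_add]
            simp
          have h10 : c * ((2 * d) / c) = c * t + 2 * (c * (m / c)) := by rw [← hteq]; ring
          have := (hD2' t ht1 le_rfl (by omega) (by
            intro h11
            have : c * (m / c) = 0 := by omega
            have : c * 1 ≤ c * (m / c) := Nat.mul_le_mul_left _ hκ1
            omega)).2 (by rw [hpar]; exact hG)
          omega
    · have hkpos : 0 < (2 * d) % c := Nat.pos_of_ne_zero hkk
      right
      by_cases hG : (P ↔ Even ((2 * d) / c))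
      · left
        obtain ⟨k, a, hk1, hk2, -⟩ := hD1' ((2 * d) / c) (by omega) le_rfl (by intro h; omega)
        have halt : a < c := by omega
        have := (mod_of_decomp m a c k hk1 halt).1
        exact ⟨by omega, hG⟩
      · right
        obtain ⟨k, a, hk1, -, hk3⟩ := hD1' ((2 * d) / c) (by omega) le_rfl (by intro h; omega)
        have hk3' := hk3 hG
        have halt : a < c := by omega
        have := (mod_of_decomp m a c k hk1 halt).1
        exact ⟨by omega, hG⟩
  · -- i odd
    left
    have hnev : ¬ Even i := Nat.not_even_iff_odd.2 hod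
    rw [if_neg hnev] at hc
    subst hc
    have hkk : (2 * d) % (2 * i) = 2 * (d % i) := Nat.mul_mod_mul_left 2 d i
    have hddiv := Nat.div_add_mod d i
    have hdlt := Nat.mod_lt d hi
    have hq1 : 1 ≤ d / i := (Nat.one_le_div_iff hi).2 (by omega)
    have hpos : 0 < i * (d / i) := Nat.mul_pos hi (by omega)
    have hdvd : i ∣ i * (d / i) := dvd_mul_right _ _
    refine ⟨hod, hN2, ?_⟩
    by_cases hP : P
    · left
      refine ⟨hP, ?_⟩
      obtain ⟨k, a, hk1, hk2, hk3, -⟩ := hD1 (i * (d / i)) hpos (by omega) (Dvd.dvd.mul_left hdvd 2)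
        (fun _ => ⟨fun _ => hdvd, fun _ => hP⟩)
      have halt : a < i := by omega
      have := (mod_of_decomp m a i k hk1 halt).1
      omega
    · right
      refine ⟨hP, ?_⟩
      by_cases hρ : d % i = 0
      · left; omega
      · right
        obtain ⟨k, a, hk1, hk2, hk3, hk4⟩ := hD1 (i * (d / i)) hpos (by omega)
          (Dvd.dvd.mul_left hdvd 2) (by intro h; omega)
        have hk4' := hk4 (by
          intro h
          exact hP (h.2 hdvd))
        have halt : a < i := by omega
        have := (mod_of_decomp m a i k hk1 halt).1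
        omega

end evennecarith

end Cfsg.Agent.Lib.Helper24.Or
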