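/- helper24: orthogonal toolkit L(b): even dimension, sufficiency and necessity -/
import Mathlib
import Cfsg.Agent.Lib.Helper24.OrK
import Cfsg.Agent.Lib.Helper24.OrLa

set_option autoImplicit false

namespace Cfsg.Agent.Lib.Helper24.Or

open Module QuadraticMap Polynomial Cfsg.Agent.Lib.Helper12.Elus Cfsg.Agent.Lib.Helper12
  Cfsg.Agent.Lib.Helper15 Cfsg.Agent.Lib.Helper15.QuadType Cfsg.Agent.Lib.Helper15.OrthSemi

universe u

section witness

/-- `r ∣ q ^ e + 1` in terms of the order of `q` modulo `r` -/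
theorem order_of_dvd_pow_add_one (r q e : ℕ) [Fact r.Prime] (hr2 : r ≠ 2) (h : r ∣ q ^ e + 1) :
    orderOf (q : ZMod r) ∣ 2 * e ∧ ¬ orderOf (q : ZMod r) ∣ e := by
  have h1 : ((q ^ e + 1 : ℕ) : ZMod r) = 0 := (ZMod.natCast_eq_zero_iff _ _).2 h
  rw [Nat.cast_add, Nat.cast_pow, Nat.cast_one] at h1
  have h2 : (q : ZMod r) ^ e = -1 := by linear_combination h1
  constructor
  · apply orderOf_dvd_of_pow_eq_one
    rw [mul_comm, pow_mul, h2]
    norm_num
  · intro hd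
    have h3 := orderOf_dvd_iff_pow_eq_one.1 hd
    rw [h2] at h3
    have h4 : ((2 : ℕ) : ZMod r) = 0 := by
      push_cast
      linear_combination -h3
    rw [ZMod.natCast_eq_zero_iff] at h4
    exact hr2 ((Nat.prime_dvd_prime_iff_eq Fact.out Nat.prime_two).1 h4)

/-- the element of order `r` provided by the count of totally singular subspaces -/
theorem witness_even (r q d m : ℕ) [Fact r.Prime] (hr2 : r ≠ 2) (hq : 0 < q) (hmd : m + 1 ≤ d)
    (ε : ℤ) (hε : ε = 1 ∨ ε = -1)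
    (hwit : ∃ j, j < m ∧ ((ε = 1 ∧ (r ∣ q ^ (d - j) - 1 ∨ r ∣ q ^ (d - j - 1) + 1)) ∨
      (ε = -1 ∧ (r ∣ q ^ (d - j) + 1 ∨ r ∣ q ^ (d - j - 1) - 1)))) :
    ∃ nM j, j < m ∧ 1 ≤ nM ∧ nM ≤ d ∧ orderOf (q : ZMod r) ∣ 2 * nM ∧
      (nM = d → (ε = 1 ↔ orderOf (q : ZMod r) ∣ nM)) ∧
      ((((ε = 1 ∧ ¬ orderOf (q : ZMod r) ∣ nM) ∨ (ε = -1 ∧ orderOf (q : ZMod r) ∣ nM)) →
        d - nM = j + 1) ∧
       (¬ ((ε = 1 ∧ ¬ orderOf (q : ZMod r) ∣ nM) ∨ (ε = -1 ∧ orderOf (q : ZMod r) ∣ nM)) →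
        d - nM = j)) := by
  obtain ⟨j, hjm, hcase⟩ := hwit
  have hne : (1 : ℤ) ≠ -1 := by norm_num
  rcases hcase with ⟨he, h | h⟩ | ⟨he, h | h⟩
  · have h1 := orderOf_dvd_of_dvd_pow_sub_one r q _ hq h
    refine ⟨d - j, j, hjm, by omega, by omega, Dvd.dvd.mul_left h1 2, fun _ => ⟨fun _ => h1,
      fun _ => he⟩, ?_, ?_⟩
    · rintro (⟨-, h2⟩ | ⟨h2, -⟩)
      · exact absurd h1 h2
      · rw [he] at h2; exact absurd h2 hne
    · intro _; omega
  · obtain ⟨h1, h2⟩ := order_of_dvd_pow_add_one r q _ hr2 h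
    refine ⟨d - j - 1, j, hjm, by omega, by omega, h1, fun h3 => by omega, ?_, ?_⟩
    · intro _; omega
    · intro h3
      exact absurd (Or.inl ⟨he, h2⟩) h3
  · obtain ⟨h1, h2⟩ := order_of_dvd_pow_add_one r q _ hr2 h
    refine ⟨d - j, j, hjm, by omega, by omega, h1, fun _ => ⟨fun h3 => ?_, fun h3 => absurd h3 h2⟩,
      ?_, ?_⟩
    · rw [he] at h3; exact absurd h3.symm hne
    · rintro (⟨h3, -⟩ | ⟨-, h3⟩)
      · rw [he] at h3; exact absurd h3.symm hne
      · exact absurd h3 h2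
    · intro _; omega
  · have h1 := orderOf_dvd_of_dvd_pow_sub_one r q _ hq h
    refine ⟨d - j - 1, j, hjm, by omega, by omega, Dvd.dvd.mul_left h1 2, fun h3 => by omega,
      ?_, ?_⟩
    · intro _; omega
    · intro h3
      exact absurd (Or.inr ⟨he, h1⟩) h3

end witness

section evensuff

variable {F V : Type*} [Field F] [Fintype F] [AddCommGroup V] [Module F V] [FiniteDimensional F V]
  (Q : QuadraticForm F V) (y : V →ₗ[F] V) (r : ℕ) [Fact r.Prime] {p : ℕ} [Fact p.Prime] [CharP F p]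

/-- the numerical criterion in even dimension, for a space of type `ε` -/
def EvenCond (P : Prop) (i c t d m : ℕ) : Prop :=
  (Odd i ∧ i ≤ m ∧ ((P ∧ 2 * (m % i) ≤ (2 * d) % c) ∨
      (¬ P ∧ ((2 * d) % c = 0 ∨ 2 * (m % i) < (2 * d) % c)))) ∨
    (Even i ∧ i ≤ m ∧ t + 2 * (m / i) ≤ (2 * d) / i ∧
      ((2 * (m % i) ≤ i ∧ (2 * d) % c = 0 ∧ ¬ (P ↔ Even ((2 * d) / i)) ∧
          t + 2 * (m / i) < (2 * d) / i) ∨
        (2 * (m % i) ≤ (2 * d) % c ∧ (P ↔ Even ((2 * d) / i))) ∨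
        (2 * (m % i) < (2 * d) % c ∧ ¬ (P ↔ Even ((2 * d) / i)))))

/-- even dimension: sufficiency -/
theorem even_suff (hnd : ∀ x, (∀ z, polar Q x z = 0) → x = 0) (hiso : ∀ v, Q (y v) = Q v)
    (hrp : r ≠ p) (hr2 : r ≠ 2) (hy : y ^ r = 1) (d : ℕ) (hV : finrank F V = 2 * d)
    (ε : ℤ) (hε : ε = 1 ∨ ε = -1) (ht : HasType ε d (fun v => Q v))
    (m : ℕ) (hmd : m + 1 ≤ d) (c : ℕ)
    (hc : c = if Even (orderOf (Fintype.card F : ZMod r)) then orderOf (Fintype.card F : ZMod r)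
      else 2 * orderOf (Fintype.card F : ZMod r))
    (hcond : EvenCond (ε = 1) (orderOf (Fintype.card F : ZMod r)) c
      ((r - 1) / orderOf (Fintype.card F : ZMod r)) d m) :
    ∃ W : Submodule F V, finrank F W = m ∧ TS Q W ∧ ∀ u ∈ W, y u ∈ W := by
  have hipos : 0 < orderOf (Fintype.card F : ZMod r) := orderOf_card_pos r hrp
  obtain ⟨k₀, o, nM, hnM, hle, ho1, ho2, εC, hεC, hiff, hC0, hmain⟩ :=
    suff_even Q y r hnd hiso hrp hr2 hy d hV ε hε ht m
  have hrel : εC = 1 ↔ (ε = 1 ↔ Even o) := by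
    have hne : (1 : ℤ) ≠ -1 := by norm_num
    rcases hε with rfl | rfl <;> rcases hεC with rfl | rfl
    · simpa using hiff
    · constructor
      · intro h; exact absurd h.symm hne
      · intro h
        exfalso
        have h1 : Even o := h.1 rfl
        exact hne (hiff.2 h1).symm
    · constructor
      · intro _
        constructor
        · intro h; exact absurd h.symm hne
        · intro h; exact absurd (hiff.2 h) hne
      · intro _; rfl
    · constructor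
      · intro h; exact absurd h.symm hne
      · intro h
        exfalso
        have h1 : Even o := hiff.1 rfl
        exact hne (h.2 h1).symm
  obtain ⟨k, hk1, hk2, hk3⟩ := even_suff_arith (ε = 1) (εC = 1) _ c _ d m k₀ o nM hipos hc hnM hle
    ho1 ho2 hrel hC0 hmd hcond
  exact hmain k hk1 hk2 hk3

end evensuff

section evennec

variable {F : Type u} [Field F] [Fintype F] {p : ℕ} [Fact p.Prime] [CharP F p]
  {V : Type u} [AddCommGroup V] [Module F V] [FiniteDimensional F V] (Q : QuadraticForm F V)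

/-- even dimension: necessity -/
theorem even_nec (d : ℕ) (ε : ℤ) (hε : ε = 1 ∨ ε = -1)
    (huniv : ∀ (V' : Type u) [AddCommGroup V'] [Module F V'] [FiniteDimensional F V']
      (Q' : QuadraticForm F V'), (polarBilin Q').Nondegenerate → finrank F V' = 2 * d →
      HasType ε d (fun v => Q' v) → ∃ (e : V' ≃ₗ[F] V) (c : F), c ≠ 0 ∧ ∀ v, c * Q (e v) = Q' v)
    (m r : ℕ) [Fact r.Prime] (hfix : ModelFix Q m r) (hrp : r ≠ p) (hr2 : r ≠ 2)
    (hm : 1 ≤ m) (hmd : m + 1 ≤ d)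
    (hwit : ∃ j, j < m ∧ ((ε = 1 ∧ (r ∣ Fintype.card F ^ (d - j) - 1 ∨
        r ∣ Fintype.card F ^ (d - j - 1) + 1)) ∨
      (ε = -1 ∧ (r ∣ Fintype.card F ^ (d - j) + 1 ∨ r ∣ Fintype.card F ^ (d - j - 1) - 1))))
    (c : ℕ)
    (hc : c = if Even (orderOf (Fintype.card F : ZMod r)) then orderOf (Fintype.card F : ZMod r)
      else 2 * orderOf (Fintype.card F : ZMod r)) :
    EvenCond (ε = 1) (orderOf (Fintype.card F : ZMod r)) c
      ((r - 1) / orderOf (Fintype.card F : ZMod r)) d m := by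
  have hipos : 0 < orderOf (Fintype.card F : ZMod r) := orderOf_card_pos r hrp
  have hq : 0 < Fintype.card F := Fintype.card_pos
  have ht1 := t_pos (F := F) r hrp
  have hne : (1 : ℤ) ≠ -1 := by norm_num
  have hCm : ∀ nM : ℕ, ((ε = 1 ∧ ¬ orderOf (Fintype.card F : ZMod r) ∣ nM) ∨
      (ε = -1 ∧ orderOf (Fintype.card F : ZMod r) ∣ nM)) ↔
      ¬ (ε = 1 ↔ orderOf (Fintype.card F : ZMod r) ∣ nM) := by
    intro nM
    rcases hε with rfl | rfl
    · constructor
      · rintro (⟨-, h⟩ | ⟨h, -⟩)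
        · intro h1; exact h (h1.1 rfl)
        · exact absurd h hne
      · intro h
        left
        refine ⟨rfl, fun h1 => h ⟨fun _ => h1, fun _ => rfl⟩⟩
    · constructor
      · rintro (⟨h, -⟩ | ⟨-, h⟩)
        · exact absurd h.symm hne
        · intro h1; exact hne (h1.2 h).symm
      · intro h
        right
        refine ⟨rfl, ?_⟩
        by_contra h1
        exact h ⟨fun h2 => absurd h2.symm hne, fun h2 => absurd h2 h1⟩
  apply even_nec_arith (ε = 1) _ c _ d m hipos ht1 hc hm hmd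
  · intro nM h1 hle hdvd hcompat
    obtain ⟨k, a, hk1, hk2, hk3, hk4⟩ :=
      nec_D1_even Q d ε hε huniv m r hfix hrp hr2 nM h1 hle hdvd hcompat
    exact ⟨k, a, hk1, hk2, hk3, fun h => hk4 ((hCm nM).2 h)⟩
  · intro hev s nM hs1 hst hnM hle hcompat
    obtain ⟨h1, h2⟩ := nec_D2_even Q d ε hε huniv m r hfix hrp hr2 hev s nM hs1 hst hnM hle hcompat
    exact ⟨h1, fun h => h2 ((hCm nM).2 h)⟩
  · obtain ⟨nM, j, hjm, h1, h2, h3, h4, h5, h6⟩ :=
      witness_even r (Fintype.card F) d m hr2 hq hmd ε hε hwit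
    refine ⟨nM, j, hjm, h1, h2, h3, h4, ?_, ?_⟩
    · intro h
      exact h5 ((hCm nM).2 h)
    · intro h
      apply h6
      rw [hCm nM]
      exact fun h' => h' h

end evennec

end Cfsg.Agent.Lib.Helper24.Or
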