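/- helper24: orthogonal toolkit M: glue between matrix statements and the model -/
import Mathlib
import Cfsg.Agent.Lib.Helper24.OrLb

set_option autoImplicit false

namespace Cfsg.Agent.Lib.Helper24.Or

open Module QuadraticMap Polynomial Cfsg.Agent.Lib.Helper12.Elus Cfsg.Agent.Lib.Helper12
  Cfsg.Agent.Lib.Helper15 Cfsg.Agent.Lib.Helper15.QuadType
open scoped MatrixGroups Matrix

universe u

section glue

variable {F : Type u} [Field F] {ι : Type} [Fintype ι] [DecidableEq ι]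

theorem iso_of_mem_omega (Q : (ι → F) → F) (x : GL ι F) (hx : x ∈ Cfsg.Geo.omegaGL Q) :
    x ∈ Cfsg.isometryGroup F Q := by
  obtain ⟨A, -, rfl⟩ := Subgroup.mem_map.1 hx
  exact A.2

theorem toLin_iso (Q : (ι → F) → F) (x : GL ι F) (hx : x ∈ Cfsg.isometryGroup F Q) (v : ι → F) :
    Q (Matrix.toLin' (x : Matrix ι ι F) v) = Q v := by
  rw [Matrix.toLin'_apply]
  exact hx v v

omit [Fintype ι] [DecidableEq ι] in
theorem map_le_of_forall (W : Submodule F (ι → F)) (y : (ι → F) →ₗ[F] (ι → F))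
    (h : ∀ u ∈ W, y u ∈ W) : W.map y ≤ W := by
  rintro _ ⟨u, hu, rfl⟩
  exact h u hu

omit [Fintype ι] [DecidableEq ι] in
theorem forall_of_map_le (W : Submodule F (ι → F)) (y : (ι → F) →ₗ[F] (ι → F))
    (h : W.map y ≤ W) : ∀ u ∈ W, y u ∈ W := fun u hu => h ⟨u, hu, rfl⟩

variable [Fintype F]

/-- the fixing property of the model from the hypothesis on elements of order `r` -/
theorem modelFix_of_order (Qs : QuadraticForm F (ι → F))
    (hnd : (polarBilin Qs).Nondegenerate) (hex : Fintype.card F ≠ 2 ∨ Fintype.card ι ≠ 4)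
    (r : ℕ) [Fact r.Prime] (hr2 : r ≠ 2) (m : ℕ)
    (h : ∀ x : GL ι F, x ∈ Cfsg.Geo.omegaGL ⇑Qs → orderOf x = r →
      ∃ W : Submodule F (ι → F), finrank F W = m ∧ (∀ w ∈ W, Qs w = 0) ∧
        W.map (Matrix.toLin' (x : Matrix ι ι F)) ≤ W) : ModelFix Qs m r := by
  intro y hiso hy hy1
  obtain ⟨x, hxΩ, hxy, hxo, -, -⟩ := exists_gl_of_isometry Qs hnd hex r hr2 y hiso hy hy1
  obtain ⟨W, hW1, hW2, hW3⟩ := h x hxΩ hxo
  rw [hxy] at hW3
  exact ⟨W, hW1, hW2, forall_of_map_le W y hW3⟩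

/-- the fixing property of the model from the hypothesis on elements of order `r` modulo scalars -/
theorem modelFix_of_scalar (Qs : QuadraticForm F (ι → F))
    (hnd : (polarBilin Qs).Nondegenerate) (hex : Fintype.card F ≠ 2 ∨ Fintype.card ι ≠ 4)
    (r : ℕ) [Fact r.Prime] (hr2 : r ≠ 2) (m : ℕ)
    (h : ∀ x : GL ι F, x ∈ Cfsg.Geo.omegaGL ⇑Qs →
      (∃ z : F, ((x ^ r : GL ι F) : Matrix ι ι F) = z • (1 : Matrix ι ι F)) →
      (∀ z : F, (x : Matrix ι ι F) ≠ z • (1 : Matrix ι ι F)) →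
      ∃ W : Submodule F (ι → F), finrank F W = m ∧ (∀ w ∈ W, Qs w = 0) ∧
        W.map (Matrix.toLin' (x : Matrix ι ι F)) ≤ W) : ModelFix Qs m r := by
  intro y hiso hy hy1
  obtain ⟨x, hxΩ, hxy, -, hxr, hxs⟩ := exists_gl_of_isometry Qs hnd hex r hr2 y hiso hy hy1
  obtain ⟨W, hW1, hW2, hW3⟩ := h x hxΩ ⟨1, by rw [hxr, one_smul]⟩ hxs
  rw [hxy] at hW3
  exact ⟨W, hW1, hW2, forall_of_map_le W y hW3⟩

omit [Fintype F] in
/-- an isometry with `x ^ r` scalar, `r` odd: `x` or `-x` has `r`-th power one -/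
theorem scalar_pow_cases (Qs : QuadraticForm F (ι → F)) (v₀ : ι → F) (hv₀ : Qs v₀ ≠ 0)
    (r : ℕ) (hodd : Odd r) (x : GL ι F) (hx : x ∈ Cfsg.isometryGroup F ⇑Qs)
    (z : F) (hz : ((x ^ r : GL ι F) : Matrix ι ι F) = z • (1 : Matrix ι ι F)) :
    ∃ y : (ι → F) →ₗ[F] (ι → F), (∀ v, Qs (y v) = Qs v) ∧ y ^ r = 1 ∧
      (y = Matrix.toLin' (x : Matrix ι ι F) ∨ y = -Matrix.toLin' (x : Matrix ι ι F)) := by
  have hiso : ∀ v, Qs (Matrix.toLin' (x : Matrix ι ι F) v) = Qs v := toLin_iso _ x hx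
  have hpow : (Matrix.toLin' (x : Matrix ι ι F)) ^ r = z • (1 : End F (ι → F)) := by
    rw [← Matrix.toLin'_pow, ← Units.val_pow_eq_pow_val, hz, map_smul, Matrix.toLin'_one]
    rfl
  have hisor : ∀ (n : ℕ) v, Qs (((Matrix.toLin' (x : Matrix ι ι F)) ^ n) v) = Qs v := by
    intro n
    induction n with
    | zero => intro v; simp
    | succ n ih =>
      intro v
      rw [pow_succ, Module.End.mul_apply, ih, hiso]
  have hz2 : z * z = 1 := by
    have h1 := hisor r v₀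
    rw [hpow, LinearMap.smul_apply, Module.End.one_apply, QuadraticMap.map_smul, smul_eq_mul] at h1
    exact mul_right_cancel₀ hv₀ (by rw [h1, one_mul])
  rcases mul_self_eq_one_iff.1 hz2 with rfl | rfl
  · exact ⟨_, hiso, by rw [hpow, one_smul], Or.inl rfl⟩
  · refine ⟨-Matrix.toLin' (x : Matrix ι ι F), ?_, ?_, Or.inr rfl⟩
    · intro v
      rw [LinearMap.neg_apply, QuadraticMap.map_neg, hiso]
    · have h1 := hodd.neg_pow (Matrix.toLin' (x : Matrix ι ι F) : End F (ι → F))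
      rw [hpow] at h1
      refine Eq.trans h1 ?_
      apply LinearMap.ext
      intro v
      simp

end glue

end Cfsg.Agent.Lib.Helper24.Or
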