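/- helper24: orthogonal toolkit N: odd dimension, odd primes, final glue -/
import Mathlib
import Cfsg.Agent.Lib.Helper24.OrM
import Cfsg.Agent.Lib.Helper15.BCOrth
import Cfsg.Agent.Lib.Helper15.OrthReal
import Cfsg.Agent.Lib.Helper24.OrFd
import Cfsg.Agent.Lib.Helper14.OrthOdd

set_option autoImplicit false

namespace Cfsg.Agent.Lib.Helper24.Or

open Module QuadraticMap Polynomial Cfsg.Agent.Lib.Helper12.Elus Cfsg.Agent.Lib.Helper12
  Cfsg.Agent.Lib.Helper15 Cfsg.Agent.Lib.Helper15.QuadType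
open scoped MatrixGroups Matrix

universe u

section count

variable {F : Type u} [Field F] [Fintype F] {p : ℕ} [Fact p.Prime] [CharP F p]

omit [Fact p.Prime] in
theorem char_dvd_card : p ∣ Fintype.card F := by
  obtain ⟨k, -, hk⟩ := FiniteField.card F p
  rw [hk]
  exact dvd_pow_self p k.ne_zero

end count

section s72

variable {F : Type u} [Field F] [Fintype F] {p : ℕ} [Fact p.Prime] [CharP F p]

/-- the count of totally singular subspaces in odd dimension -/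
theorem count_odd (h2 : (2 : F) ≠ 0) (d m : ℕ) (hmd : m ≤ d) :
    Nat.card {W : Submodule F (Unit ⊕ (Fin d ⊕ Fin d) → F) // finrank F W = m ∧
        TS (OrthReal.oddQF d) W} *
        ∏ i : Fin m, (Fintype.card F ^ (m - (i : ℕ)) - 1) =
      ∏ i : Fin m, (Fintype.card F ^ (2 * (d - (i : ℕ))) - 1) := by
  classical
  have hnd := OrthReal.oddQF_nondegenerate (F := F) h2 d
  have hnd' : ∀ x, (∀ z, polar (OrthReal.oddQF d (F := F)) x z = 0) → x = 0 :=
    fun x hx => hnd.1 x (fun z => by rw [polarBilin_apply_apply]; exact hx z)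
  have hS : Nat.card {x : Unit ⊕ (Fin d ⊕ Fin d) → F // OrthReal.oddQF d x = 0} =
      Fintype.card F ^ (2 * d) := by
    rw [← Cfsg.Agent.Lib.Helper14.odd_card_zero (F := F) d]
    apply Nat.card_congr
    exact Equiv.subtypeEquivRight (fun v => by rw [OrthReal.oddQF_apply])
  have hdim : finrank F (Unit ⊕ (Fin d ⊕ Fin d) → F) = 2 * d + 1 := by
    rw [Module.finrank_fintype_fun_eq_card]
    simp
    ring
  have key := count_gen (OrthReal.oddQF d (F := F)) hnd' m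
    (fun k => Fintype.card F ^ (2 * (d - k)) - 1) (by
      intro k hk
      rw [hdim]
      exact he_odd _ _ d k Fintype.card_pos (by omega) hS)
  exact key

theorem card_idx_odd (d : ℕ) : Fintype.card (Unit ⊕ (Fin d ⊕ Fin d)) = 2 * d + 1 := by
  simp
  ring

omit [Fintype F] in
theorem coe_oddQF (d : ℕ) : ⇑(OrthReal.oddQF d (F := F)) = Cfsg.quadFormOdd d F :=
  funext (OrthReal.oddQF_apply d)

/-- the characteristic does not divide the number of totally singular subspaces; a witness -/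
theorem dvd_count_odd (h2 : (2 : F) ≠ 0) (d m : ℕ) (hmd : m ≤ d) (r : ℕ) [Fact r.Prime]
    (hrΩ : r ∣ Nat.card {W : Submodule F (Unit ⊕ (Fin d ⊕ Fin d) → F) // finrank F W = m ∧
      (∀ w ∈ W, Cfsg.quadFormOdd d F w = 0)}) :
    r ≠ p ∧ ∃ j, j < m ∧ r ∣ Fintype.card F ^ (2 * (d - j)) - 1 := by
  have hcount := count_odd (F := F) h2 d m hmd
  simp only [TS, coe_oddQF] at hcount
  obtain ⟨j, hjm, hj⟩ := dvd_factor r _ m _ Fact.out
    (fun k => Fintype.card F ^ (2 * (d - k)) - 1) hcount hrΩ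
  refine ⟨?_, j, hjm, hj⟩
  rintro rfl
  exact not_dvd_pow_sub_one r _ _ Fact.out (char_dvd_card (F := F)) Fintype.card_pos (by omega) hj

/-- S5972, odd `r`, forward direction -/
theorem fwd72_odd (h2 : (2 : F) ≠ 0) (d m : ℕ) (hm : 1 ≤ m) (hmd : m ≤ d) (r : ℕ)
    [Fact r.Prime] (hr2 : r ≠ 2)
    (hrΩ : r ∣ Nat.card {W : Submodule F (Unit ⊕ (Fin d ⊕ Fin d) → F) // finrank F W = m ∧
      (∀ w ∈ W, Cfsg.quadFormOdd d F w = 0)}) (c : ℕ)
    (hc : c = if Even (orderOf (Fintype.card F : ZMod r)) then orderOf (Fintype.card F : ZMod r)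
      else 2 * orderOf (Fintype.card F : ZMod r))
    (h : ∀ x : GL (Unit ⊕ (Fin d ⊕ Fin d)) F, x ∈ Cfsg.Geo.omegaGL (Cfsg.quadFormOdd d F) →
      orderOf x = r → ∃ W : Submodule F (Unit ⊕ (Fin d ⊕ Fin d) → F), finrank F W = m ∧
        (∀ w ∈ W, Cfsg.quadFormOdd d F w = 0) ∧
        W.map (Matrix.toLin' (x : Matrix (Unit ⊕ (Fin d ⊕ Fin d)) (Unit ⊕ (Fin d ⊕ Fin d)) F)) ≤ W) :
    r ≠ p ∧ orderOf (Fintype.card F : ZMod r) ≤ m ∧
    2 * (m % orderOf (Fintype.card F : ZMod r)) < (2 * d + 1) % c ∧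
    (Odd (orderOf (Fintype.card F : ZMod r)) ∨
      (r - 1) / orderOf (Fintype.card F : ZMod r) + 2 * (m / orderOf (Fintype.card F : ZMod r)) ≤
        (2 * d + 1) / orderOf (Fintype.card F : ZMod r)) := by
  classical
  obtain ⟨hrp, hj⟩ := dvd_count_odd (p := p) h2 d m hmd r hrΩ
  have hnd := OrthReal.oddQF_nondegenerate (F := F) h2 d
  have hfix : ModelFix (OrthReal.oddQF d (F := F)) m r := by
    apply modelFix_of_order _ hnd (Or.inr (by rw [card_idx_odd]; omega)) r hr2 m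
    rw [coe_oddQF]
    exact h
  refine ⟨hrp, odd_nec (OrthReal.oddQF d (F := F)) h2 d ?_ m r hfix hrp hr2 hm hmd hj c hc⟩
  intro V' _ _ _ Q' hnd' hdim'
  obtain ⟨c', E, hc', hE⟩ := BCOrth.exists_equiv_odd Q' hnd' d hdim'
  exact ⟨E, c', hc', fun v => by rw [OrthReal.oddQF_apply]; exact hE v⟩

/-- S5972, odd `r`, backward direction -/
theorem bwd72_odd (h2 : (2 : F) ≠ 0) (d m : ℕ) (hmd : m ≤ d) (r : ℕ)
    [Fact r.Prime] (hr2 : r ≠ 2) (hrp : r ≠ p) (c : ℕ)
    (hc : c = if Even (orderOf (Fintype.card F : ZMod r)) then orderOf (Fintype.card F : ZMod r)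
      else 2 * orderOf (Fintype.card F : ZMod r))
    (h1 : 2 * (m % orderOf (Fintype.card F : ZMod r)) < (2 * d + 1) % c)
    (h3 : Odd (orderOf (Fintype.card F : ZMod r)) ∨
      (r - 1) / orderOf (Fintype.card F : ZMod r) + 2 * (m / orderOf (Fintype.card F : ZMod r)) ≤
        (2 * d + 1) / orderOf (Fintype.card F : ZMod r))
    (x : GL (Unit ⊕ (Fin d ⊕ Fin d)) F) (hx : x ∈ Cfsg.Geo.omegaGL (Cfsg.quadFormOdd d F))
    (hxo : orderOf x = r) :
    ∃ W : Submodule F (Unit ⊕ (Fin d ⊕ Fin d) → F), finrank F W = m ∧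
        (∀ w ∈ W, Cfsg.quadFormOdd d F w = 0) ∧
        W.map (Matrix.toLin' (x : Matrix (Unit ⊕ (Fin d ⊕ Fin d)) (Unit ⊕ (Fin d ⊕ Fin d)) F)) ≤ W := by
  classical
  have hnd := OrthReal.oddQF_nondegenerate (F := F) h2 d
  have hnd' : ∀ x, (∀ z, polar (OrthReal.oddQF d (F := F)) x z = 0) → x = 0 :=
    fun x hx => hnd.1 x (fun z => by rw [polarBilin_apply_apply]; exact hx z)
  have hiso : ∀ v, OrthReal.oddQF d (Matrix.toLin' (x : Matrix _ _ F) v) = OrthReal.oddQF d v := by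
    intro v
    rw [OrthReal.oddQF_apply, OrthReal.oddQF_apply]
    exact toLin_iso _ x (iso_of_mem_omega _ x hx) v
  have hy : (Matrix.toLin' (x : Matrix (Unit ⊕ (Fin d ⊕ Fin d)) (Unit ⊕ (Fin d ⊕ Fin d)) F)) ^ r
      = 1 := by
    rw [← Matrix.toLin'_pow, ← Units.val_pow_eq_pow_val, ← hxo, pow_orderOf_eq_one]
    exact Matrix.toLin'_one
  have hdim : finrank F (Unit ⊕ (Fin d ⊕ Fin d) → F) = 2 * d + 1 := by
    rw [Module.finrank_fintype_fun_eq_card, card_idx_odd]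
  obtain ⟨W, hW1, hW2, hW3⟩ := odd_suff (p := p) (OrthReal.oddQF d (F := F)) _ r hnd' hiso hrp hr2 hy
    d hdim m hmd c hc h1 h3
  refine ⟨W, hW1, ?_, map_le_of_forall W _ hW3⟩
  intro w hw
  rw [← OrthReal.oddQF_apply]
  exact hW2 w hw

end s72

end Cfsg.Agent.Lib.Helper24.Or
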