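/- helper24: orthogonal toolkit O: even dimension, odd primes, final glue -/
import Mathlib
import Cfsg.Agent.Lib.Helper24.OrN
import Cfsg.Agent.Lib.Helper15.UnitaryQuad

set_option autoImplicit false

namespace Cfsg.Agent.Lib.Helper24.Or

open Module QuadraticMap Polynomial Cfsg.Agent.Lib.Helper12.Elus Cfsg.Agent.Lib.Helper12
  Cfsg.Agent.Lib.Helper15 Cfsg.Agent.Lib.Helper15.QuadType
open scoped MatrixGroups Matrix

universe u

section logic

theorem evenCond_plus (i c t d m : ℕ) : EvenCond ((1 : ℤ) = 1) i c t d m ↔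
    ((Odd i ∧ i ≤ m ∧ 2 * (m % i) ≤ (2 * d) % c) ∨
     (Even i ∧ i ≤ m ∧ t + 2 * (m / i) ≤ (2 * d) / i ∧
       ((2 * (m % i) ≤ i ∧ (2 * d) % c = 0 ∧ Odd ((2 * d) / i) ∧ t + 2 * (m / i) < (2 * d) / i) ∨
        (2 * (m % i) ≤ (2 * d) % c ∧ Even ((2 * d) / i)) ∨
        (2 * (m % i) < (2 * d) % c ∧ Odd ((2 * d) / i))))) := by
  unfold EvenCond
  simp only [true_and, not_true_eq_false, false_and, or_false, true_iff, Nat.not_even_iff_odd]

theorem evenCond_minus (i c t d m : ℕ) : EvenCond ((-1 : ℤ) = 1) i c t d m ↔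
    ((Odd i ∧ i ≤ m ∧ ((2 * d) % c = 0 ∨ 2 * (m % i) < (2 * d) % c)) ∨
     (Even i ∧ i ≤ m ∧ t + 2 * (m / i) ≤ (2 * d) / i ∧
       ((2 * (m % i) ≤ i ∧ (2 * d) % c = 0 ∧ Even ((2 * d) / i) ∧ t + 2 * (m / i) < (2 * d) / i) ∨
        (2 * (m % i) ≤ (2 * d) % c ∧ Odd ((2 * d) / i)) ∨
        (2 * (m % i) < (2 * d) % c ∧ Even ((2 * d) / i))))) := by
  unfold EvenCond
  have h : ¬ ((-1 : ℤ) = 1) := by norm_num
  simp only [h, false_and, false_or, not_false_eq_true, true_and, false_iff,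
    Nat.not_even_iff_odd, Nat.not_odd_iff_even]

end logic

section s73

variable {F : Type u} [Field F] [Fintype F] {p : ℕ} [Fact p.Prime] [CharP F p]

theorem card_idx_plus (d : ℕ) : Fintype.card (Fin d ⊕ Fin d) = 2 * d := by
  simp
  ring

omit [Fintype F] in
theorem coe_plusQF (d : ℕ) : ⇑(plusQF d (F := F)) = Cfsg.quadFormPlus d F :=
  funext (plusQF_eq d)

theorem hasType_plusQF (d : ℕ) : HasType 1 d (fun v => plusQF d (F := F) v) := by
  have h : (fun v => plusQF d (F := F) v) = Cfsg.quadFormPlus d F := funext (plusQF_eq d)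
  rw [h]
  exact hasType_plus d

/-- the count of totally singular subspaces, plus type -/
theorem count_plus (d m : ℕ) (hmd : m ≤ d) :
    Nat.card {W : Submodule F (Fin d ⊕ Fin d → F) // finrank F W = m ∧ TS (plusQF d) W} *
        ∏ i : Fin m, (Fintype.card F ^ (m - (i : ℕ)) - 1) =
      ∏ i : Fin m, ((Fintype.card F ^ (d - (i : ℕ)) - 1) *
        (Fintype.card F ^ (d - (i : ℕ) - 1) + 1)) := by
  classical
  have hnd := plusQF_nondegenerate (F := F) d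
  have hnd' : ∀ x, (∀ z, polar (plusQF d (F := F)) x z = 0) → x = 0 :=
    fun x hx => hnd.1 x (fun z => by rw [polarBilin_apply_apply]; exact hx z)
  have hS := (hasType_plusQF (F := F) d).1
  have hdim : finrank F (Fin d ⊕ Fin d → F) = 2 * d := by
    rw [Module.finrank_fintype_fun_eq_card, card_idx_plus]
  have key := count_gen (plusQF d (F := F)) hnd' m
    (fun k => (Fintype.card F ^ (d - k) - 1) * (Fintype.card F ^ (d - k - 1) + 1)) (by
      intro k hk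
      rw [hdim]
      exact he_plus _ _ d k Fintype.card_pos (by omega) hS)
  exact key

theorem dvd_count_plus (d m : ℕ) (hmd : m + 1 ≤ d) (r : ℕ) [Fact r.Prime]
    (hrΩ : r ∣ Nat.card {W : Submodule F (Fin d ⊕ Fin d → F) // finrank F W = m ∧
      (∀ w ∈ W, Cfsg.quadFormPlus d F w = 0)}) :
    r ≠ p ∧ ∃ j, j < m ∧ (r ∣ Fintype.card F ^ (d - j) - 1 ∨
      r ∣ Fintype.card F ^ (d - j - 1) + 1) := by
  have hr : r.Prime := Fact.out
  have hcount := count_plus (F := F) d m (by omega)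
  simp only [TS, coe_plusQF] at hcount
  obtain ⟨j, hjm, hj⟩ := dvd_factor r _ m _ hr
    (fun k => (Fintype.card F ^ (d - k) - 1) * (Fintype.card F ^ (d - k - 1) + 1)) hcount hrΩ
  have hj' := (Nat.Prime.dvd_mul hr).1 hj
  refine ⟨?_, j, hjm, hj'⟩
  rintro rfl
  rcases hj' with h | h
  · exact not_dvd_pow_sub_one r _ _ hr (char_dvd_card (F := F)) Fintype.card_pos (by omega) h
  · exact not_dvd_pow_add_one r _ _ hr (char_dvd_card (F := F)) (by omega) h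

/-- S5973, odd `r`, forward direction -/
theorem fwd73_odd (d m : ℕ) (hd : 3 ≤ d) (hm : 1 ≤ m) (hmd : m + 1 ≤ d) (r : ℕ)
    [Fact r.Prime] (hr2 : r ≠ 2)
    (hrΩ : r ∣ Nat.card {W : Submodule F (Fin d ⊕ Fin d → F) // finrank F W = m ∧
      (∀ w ∈ W, Cfsg.quadFormPlus d F w = 0)}) (c : ℕ)
    (hc : c = if Even (orderOf (Fintype.card F : ZMod r)) then orderOf (Fintype.card F : ZMod r)
      else 2 * orderOf (Fintype.card F : ZMod r))
    (h : ∀ x : GL (Fin d ⊕ Fin d) F, x ∈ Cfsg.Geo.omegaGL (Cfsg.quadFormPlus d F) →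
      (∃ z : F, ((x ^ r : GL (Fin d ⊕ Fin d) F) : Matrix (Fin d ⊕ Fin d) (Fin d ⊕ Fin d) F) =
        z • (1 : Matrix (Fin d ⊕ Fin d) (Fin d ⊕ Fin d) F)) →
      (∀ z : F, (x : Matrix (Fin d ⊕ Fin d) (Fin d ⊕ Fin d) F) ≠
        z • (1 : Matrix (Fin d ⊕ Fin d) (Fin d ⊕ Fin d) F)) →
      ∃ W : Submodule F (Fin d ⊕ Fin d → F), finrank F W = m ∧
        (∀ w ∈ W, Cfsg.quadFormPlus d F w = 0) ∧
        W.map (Matrix.toLin' (x : Matrix (Fin d ⊕ Fin d) (Fin d ⊕ Fin d) F)) ≤ W) :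
    r ≠ p ∧ EvenCond ((1 : ℤ) = 1) (orderOf (Fintype.card F : ZMod r)) c
      ((r - 1) / orderOf (Fintype.card F : ZMod r)) d m := by
  classical
  obtain ⟨hrp, j, hjm, hj⟩ := dvd_count_plus (p := p) d m hmd r hrΩ
  have hnd := plusQF_nondegenerate (F := F) d
  have hfix : ModelFix (plusQF d (F := F)) m r := by
    apply modelFix_of_scalar _ hnd (Or.inr (by rw [card_idx_plus]; omega)) r hr2 m
    rw [coe_plusQF]
    exact h
  refine ⟨hrp, even_nec (plusQF d (F := F)) d 1 (Or.inl rfl) ?_ m r hfix hrp hr2 hm hmd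
    ⟨j, hjm, Or.inl ⟨rfl, hj⟩⟩ c hc⟩
  intro V' _ _ _ Q' hnd' hdim' ht'
  obtain ⟨b, hb⟩ := univ_plus Q' hnd' d (by omega) hdim' ht'
  exact ⟨b.equivFun, 1, one_ne_zero, fun v => by rw [one_mul, plusQF_eq]; exact hb v⟩

omit [Fintype F] [Fact p.Prime] [CharP F p] in
theorem plus_nonzero (d : ℕ) (hd : 1 ≤ d) : ∃ v₀ : Fin d ⊕ Fin d → F, plusQF d v₀ ≠ 0 := by
  classical
  refine ⟨Pi.single (Sum.inl ⟨0, hd⟩) 1 + Pi.single (Sum.inr ⟨0, hd⟩) 1, ?_⟩
  rw [plusQF_eq]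
  unfold Cfsg.quadFormPlus
  rw [Finset.sum_eq_single ⟨0, hd⟩]
  · simp
  · intro b _ hb
    simp [hb]
  · intro h
    exact absurd (Finset.mem_univ _) h

/-- S5973, odd `r`, backward direction -/
theorem bwd73_odd (d m : ℕ) (hd : 1 ≤ d) (hmd : m + 1 ≤ d) (r : ℕ)
    [Fact r.Prime] (hr2 : r ≠ 2) (hrp : r ≠ p) (c : ℕ)
    (hc : c = if Even (orderOf (Fintype.card F : ZMod r)) then orderOf (Fintype.card F : ZMod r)
      else 2 * orderOf (Fintype.card F : ZMod r))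
    (hcond : EvenCond ((1 : ℤ) = 1) (orderOf (Fintype.card F : ZMod r)) c
      ((r - 1) / orderOf (Fintype.card F : ZMod r)) d m)
    (x : GL (Fin d ⊕ Fin d) F) (hx : x ∈ Cfsg.Geo.omegaGL (Cfsg.quadFormPlus d F))
    (hxr : ∃ z : F, ((x ^ r : GL (Fin d ⊕ Fin d) F) : Matrix (Fin d ⊕ Fin d) (Fin d ⊕ Fin d) F) =
        z • (1 : Matrix (Fin d ⊕ Fin d) (Fin d ⊕ Fin d) F)) :
    ∃ W : Submodule F (Fin d ⊕ Fin d → F), finrank F W = m ∧
        (∀ w ∈ W, Cfsg.quadFormPlus d F w = 0) ∧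
        W.map (Matrix.toLin' (x : Matrix (Fin d ⊕ Fin d) (Fin d ⊕ Fin d) F)) ≤ W := by
  classical
  have hr : r.Prime := Fact.out
  have hnd := plusQF_nondegenerate (F := F) d
  have hnd' : ∀ x, (∀ z, polar (plusQF d (F := F)) x z = 0) → x = 0 :=
    fun x hx => hnd.1 x (fun z => by rw [polarBilin_apply_apply]; exact hx z)
  obtain ⟨v₀, hv₀⟩ := plus_nonzero (F := F) d hd
  obtain ⟨z, hz⟩ := hxr
  have hxiso : x ∈ Cfsg.isometryGroup F ⇑(plusQF d (F := F)) := by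
    rw [coe_plusQF]
    exact iso_of_mem_omega _ x hx
  obtain ⟨y, hiso, hy, hyx⟩ := scalar_pow_cases (plusQF d (F := F)) v₀ hv₀ r
    (hr.odd_of_ne_two hr2) x hxiso z hz
  have hdim : finrank F (Fin d ⊕ Fin d → F) = 2 * d := by
    rw [Module.finrank_fintype_fun_eq_card, card_idx_plus]
  obtain ⟨W, hW1, hW2, hW3⟩ := even_suff (p := p) (plusQF d (F := F)) y r hnd' hiso hrp hr2 hy
    d hdim 1 (Or.inl rfl) (hasType_plusQF d) m hmd c hc hcond
  refine ⟨W, hW1, ?_, ?_⟩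
  · intro w hw
    rw [← plusQF_eq]
    exact hW2 w hw
  · apply map_le_of_forall
    intro u hu
    rcases hyx with rfl | rfl
    · exact hW3 u hu
    · have := hW3 u hu
      rw [LinearMap.neg_apply] at this
      exact (Submodule.neg_mem_iff W).1 this

end s73

section s87

variable {F : Type u} [Field F] [Fintype F] {p : ℕ} [Fact p.Prime] [CharP F p]

theorem card_idx_minus (k : ℕ) : Fintype.card ((Fin k ⊕ Fin k) ⊕ Fin 2) = 2 * (k + 1) := by
  simp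
  ring

omit [Fintype F] in
theorem coe_minusQF (k : ℕ) (a b : F) : ⇑(minusQFab k a b) = Cfsg.quadFormMinus k F a b :=
  funext (minusQFab_eq k a b)

theorem hasType_minusQF (k : ℕ) (a b : F)
    (hab : ∀ x y : F, x ^ 2 + a * x * y + b * y ^ 2 = 0 → x = 0 ∧ y = 0) :
    HasType (-1) (k + 1) (fun v => minusQFab k a b v) := by
  have h : (fun v => minusQFab k a b v) = Cfsg.quadFormMinus k F a b :=
    funext (minusQFab_eq k a b)
  rw [h]
  exact hasType_minus hab k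

theorem minusQF_nd (k : ℕ) (a b : F)
    (hab : ∀ x y : F, x ^ 2 + a * x * y + b * y ^ 2 = 0 → x = 0 ∧ y = 0) :
    (polarBilin (minusQFab k a b)).Nondegenerate :=
  minusQFab_nondegenerate k a b (Cfsg.Agent.Lib.Helper14.OrthMinus.disc_ne_zero hab)

/-- the count of totally singular subspaces, minus type -/
theorem count_minus (k m : ℕ) (hmd : m ≤ k + 1) (a b : F)
    (hab : ∀ x y : F, x ^ 2 + a * x * y + b * y ^ 2 = 0 → x = 0 ∧ y = 0) :
    Nat.card {W : Submodule F ((Fin k ⊕ Fin k) ⊕ Fin 2 → F) // finrank F W = m ∧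
        TS (minusQFab k a b) W} *
        ∏ i : Fin m, (Fintype.card F ^ (m - (i : ℕ)) - 1) =
      ∏ i : Fin m, ((Fintype.card F ^ (k + 1 - (i : ℕ)) + 1) *
        (Fintype.card F ^ (k + 1 - (i : ℕ) - 1) - 1)) := by
  classical
  have hnd := minusQF_nd k a b hab
  have hnd' : ∀ x, (∀ z, polar (minusQFab k a b) x z = 0) → x = 0 :=
    fun x hx => hnd.1 x (fun z => by rw [polarBilin_apply_apply]; exact hx z)
  have hS := (hasType_minusQF k a b hab).1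
  have hdim : finrank F ((Fin k ⊕ Fin k) ⊕ Fin 2 → F) = 2 * (k + 1) := by
    rw [Module.finrank_fintype_fun_eq_card, card_idx_minus]
  have key := count_gen (minusQFab k a b) hnd' m
    (fun j => (Fintype.card F ^ (k + 1 - j) + 1) * (Fintype.card F ^ (k + 1 - j - 1) - 1)) (by
      intro j hj
      rw [hdim]
      exact he_minus _ _ (k + 1) j Fintype.card_pos (by omega) hS)
  exact key

theorem dvd_count_minus (k m : ℕ) (hmd : m ≤ k) (a b : F)
    (hab : ∀ x y : F, x ^ 2 + a * x * y + b * y ^ 2 = 0 → x = 0 ∧ y = 0) (r : ℕ) [Fact r.Prime]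
    (hrΩ : r ∣ Nat.card {W : Submodule F ((Fin k ⊕ Fin k) ⊕ Fin 2 → F) // finrank F W = m ∧
      (∀ w ∈ W, Cfsg.quadFormMinus k F a b w = 0)}) :
    r ≠ p ∧ ∃ j, j < m ∧ (r ∣ Fintype.card F ^ (k + 1 - j) + 1 ∨
      r ∣ Fintype.card F ^ (k + 1 - j - 1) - 1) := by
  have hr : r.Prime := Fact.out
  have hcount := count_minus (F := F) k m (by omega) a b hab
  simp only [TS, coe_minusQF] at hcount
  obtain ⟨j, hjm, hj⟩ := dvd_factor r _ m _ hr
    (fun j => (Fintype.card F ^ (k + 1 - j) + 1) * (Fintype.card F ^ (k + 1 - j - 1) - 1))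
    hcount hrΩ
  have hj' := (Nat.Prime.dvd_mul hr).1 hj
  refine ⟨?_, j, hjm, hj'⟩
  rintro rfl
  rcases hj' with h | h
  · exact not_dvd_pow_add_one r _ _ hr (char_dvd_card (F := F)) (by omega) h
  · exact not_dvd_pow_sub_one r _ _ hr (char_dvd_card (F := F)) Fintype.card_pos (by omega) h

/-- S5987, odd `r`, forward direction -/
theorem fwd87_odd (k m : ℕ) (hk : 2 ≤ k) (hm : 1 ≤ m) (hmd : m ≤ k) (a b : F)
    (hab : ∀ x y : F, x ^ 2 + a * x * y + b * y ^ 2 = 0 → x = 0 ∧ y = 0) (r : ℕ)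
    [Fact r.Prime] (hr2 : r ≠ 2)
    (hrΩ : r ∣ Nat.card {W : Submodule F ((Fin k ⊕ Fin k) ⊕ Fin 2 → F) // finrank F W = m ∧
      (∀ w ∈ W, Cfsg.quadFormMinus k F a b w = 0)}) (c : ℕ)
    (hc : c = if Even (orderOf (Fintype.card F : ZMod r)) then orderOf (Fintype.card F : ZMod r)
      else 2 * orderOf (Fintype.card F : ZMod r))
    (h : ∀ x : GL ((Fin k ⊕ Fin k) ⊕ Fin 2) F,
      x ∈ Cfsg.Geo.omegaGL (Cfsg.quadFormMinus k F a b) →
      (∃ z : F, ((x ^ r : GL ((Fin k ⊕ Fin k) ⊕ Fin 2) F) :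
        Matrix ((Fin k ⊕ Fin k) ⊕ Fin 2) ((Fin k ⊕ Fin k) ⊕ Fin 2) F) =
        z • (1 : Matrix ((Fin k ⊕ Fin k) ⊕ Fin 2) ((Fin k ⊕ Fin k) ⊕ Fin 2) F)) →
      (∀ z : F, (x : Matrix ((Fin k ⊕ Fin k) ⊕ Fin 2) ((Fin k ⊕ Fin k) ⊕ Fin 2) F) ≠
        z • (1 : Matrix ((Fin k ⊕ Fin k) ⊕ Fin 2) ((Fin k ⊕ Fin k) ⊕ Fin 2) F)) →
      ∃ W : Submodule F ((Fin k ⊕ Fin k) ⊕ Fin 2 → F), finrank F W = m ∧
        (∀ w ∈ W, Cfsg.quadFormMinus k F a b w = 0) ∧
        W.map (Matrix.toLin' (x : Matrix ((Fin k ⊕ Fin k) ⊕ Fin 2)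
          ((Fin k ⊕ Fin k) ⊕ Fin 2) F)) ≤ W) :
    r ≠ p ∧ EvenCond ((-1 : ℤ) = 1) (orderOf (Fintype.card F : ZMod r)) c
      ((r - 1) / orderOf (Fintype.card F : ZMod r)) (k + 1) m := by
  classical
  obtain ⟨hrp, j, hjm, hj⟩ := dvd_count_minus (p := p) k m hmd a b hab r hrΩ
  have hnd := minusQF_nd k a b hab
  have hfix : ModelFix (minusQFab k a b) m r := by
    apply modelFix_of_scalar _ hnd (Or.inr (by rw [card_idx_minus]; omega)) r hr2 m
    rw [coe_minusQF]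
    exact h
  refine ⟨hrp, even_nec (minusQFab k a b) (k + 1) (-1) (Or.inr rfl) ?_ m r hfix hrp hr2 hm
    (by omega) ⟨j, hjm, Or.inr ⟨rfl, hj⟩⟩ c hc⟩
  intro V' _ _ _ Q' hnd' hdim' ht'
  obtain ⟨bs, hbs⟩ := univ_minus Q' hnd' k hdim' ht' hab
  exact ⟨bs.equivFun, 1, one_ne_zero, fun v => by rw [one_mul, minusQFab_eq]; exact hbs v⟩

omit [Fintype F] [Fact p.Prime] [CharP F p] in
theorem minus_nonzero (k : ℕ) (a b : F) :
    ∃ v₀ : (Fin k ⊕ Fin k) ⊕ Fin 2 → F, minusQFab k a b v₀ ≠ 0 := by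
  classical
  refine ⟨Pi.single (Sum.inr 0) 1, ?_⟩
  rw [minusQFab_eq]
  unfold Cfsg.quadFormMinus
  simp

/-- S5987, odd `r`, backward direction -/
theorem bwd87_odd (k m : ℕ) (hmd : m ≤ k) (a b : F)
    (hab : ∀ x y : F, x ^ 2 + a * x * y + b * y ^ 2 = 0 → x = 0 ∧ y = 0) (r : ℕ)
    [Fact r.Prime] (hr2 : r ≠ 2) (hrp : r ≠ p) (c : ℕ)
    (hc : c = if Even (orderOf (Fintype.card F : ZMod r)) then orderOf (Fintype.card F : ZMod r)
      else 2 * orderOf (Fintype.card F : ZMod r))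
    (hcond : EvenCond ((-1 : ℤ) = 1) (orderOf (Fintype.card F : ZMod r)) c
      ((r - 1) / orderOf (Fintype.card F : ZMod r)) (k + 1) m)
    (x : GL ((Fin k ⊕ Fin k) ⊕ Fin 2) F)
    (hx : x ∈ Cfsg.Geo.omegaGL (Cfsg.quadFormMinus k F a b))
    (hxr : ∃ z : F, ((x ^ r : GL ((Fin k ⊕ Fin k) ⊕ Fin 2) F) :
        Matrix ((Fin k ⊕ Fin k) ⊕ Fin 2) ((Fin k ⊕ Fin k) ⊕ Fin 2) F) =
        z • (1 : Matrix ((Fin k ⊕ Fin k) ⊕ Fin 2) ((Fin k ⊕ Fin k) ⊕ Fin 2) F)) :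
    ∃ W : Submodule F ((Fin k ⊕ Fin k) ⊕ Fin 2 → F), finrank F W = m ∧
        (∀ w ∈ W, Cfsg.quadFormMinus k F a b w = 0) ∧
        W.map (Matrix.toLin' (x : Matrix ((Fin k ⊕ Fin k) ⊕ Fin 2)
          ((Fin k ⊕ Fin k) ⊕ Fin 2) F)) ≤ W := by
  classical
  have hr : r.Prime := Fact.out
  have hnd := minusQF_nd k a b hab
  have hnd' : ∀ x, (∀ z, polar (minusQFab k a b) x z = 0) → x = 0 :=
    fun x hx => hnd.1 x (fun z => by rw [polarBilin_apply_apply]; exact hx z)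
  obtain ⟨v₀, hv₀⟩ := minus_nonzero (F := F) k a b
  obtain ⟨z, hz⟩ := hxr
  have hxiso : x ∈ Cfsg.isometryGroup F ⇑(minusQFab k a b) := by
    rw [coe_minusQF]
    exact iso_of_mem_omega _ x hx
  obtain ⟨y, hiso, hy, hyx⟩ := scalar_pow_cases (minusQFab k a b) v₀ hv₀ r
    (hr.odd_of_ne_two hr2) x hxiso z hz
  have hdim : finrank F ((Fin k ⊕ Fin k) ⊕ Fin 2 → F) = 2 * (k + 1) := by
    rw [Module.finrank_fintype_fun_eq_card, card_idx_minus]
  obtain ⟨W, hW1, hW2, hW3⟩ := even_suff (p := p) (minusQFab k a b) y r hnd' hiso hrp hr2 hy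
    (k + 1) hdim (-1) (Or.inr rfl) (hasType_minusQF k a b hab) m (by omega) c hc hcond
  refine ⟨W, hW1, ?_, ?_⟩
  · intro w hw
    rw [← minusQFab_eq]
    exact hW2 w hw
  · apply map_le_of_forall
    intro u hu
    rcases hyx with rfl | rfl
    · exact hW3 u hu
    · have := hW3 u hu
      rw [LinearMap.neg_apply] at this
      exact (Submodule.neg_mem_iff W).1 this

end s87

end Cfsg.Agent.Lib.Helper24.Or
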