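/- helper24: orthogonal toolkit P: involutions, basic facts -/
import Mathlib
import Cfsg.Agent.Lib.Helper24.OrO
import Cfsg.Agent.Lib.Helper12.SpM

set_option autoImplicit false

namespace Cfsg.Agent.Lib.Helper24.Or

open Module QuadraticMap Polynomial Cfsg.Agent.Lib.Helper12.Elus Cfsg.Agent.Lib.Helper12
  Cfsg.Agent.Lib.Helper15 Cfsg.Agent.Lib.Helper15.QuadType

section invol

variable {F V : Type*} [Field F] [AddCommGroup V] [Module F V]
  (Q : QuadraticForm F V) (y : V →ₗ[F] V)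

omit Q in
/-- an involution acts as `-1` on its moved space -/
theorem mov_neg (hy : y ^ 2 = 1) : ∀ u ∈ movR y, y u = -u := by
  rintro _ ⟨w, rfl⟩
  have h1 : y (y w) = w := by
    have := congrArg (fun f : V →ₗ[F] V => f w) hy
    simpa [pow_two] using this
  simp only [LinearMap.sub_apply, Module.End.one_apply, map_sub, h1]
  abel

omit Q in
theorem mov_sub_invariant (hy : y ^ 2 = 1) (U : Submodule F V) (hU : U ≤ movR y) :
    ∀ u ∈ U, y u ∈ U := by
  intro u hu
  rw [mov_neg y hy u (hU hu)]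
  exact U.neg_mem hu

variable [Finite F] [FiniteDimensional F V]

/-- every nondegenerate subspace contains a totally singular subspace of about half its
dimension -/
theorem exists_ts_half (C : Submodule F V) (hC : Helper15.NdOn Q C) :
    ∃ U : Submodule F V, U ≤ C ∧ TS Q U ∧ finrank F C ≤ 2 * finrank F U + 2 ∧
      (Odd (finrank F C) → finrank F C = 2 * finrank F U + 1) := by
  rcases Nat.eq_zero_or_pos (finrank F C) with h0 | hpos
  · refine ⟨⊥, bot_le, ts_bot Q, by omega, ?_⟩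
    intro hodd
    rw [h0] at hodd
    exact absurd hodd (by decide)
  · obtain ⟨U, hUC, hUts, hUdim⟩ := exists_ts_sub Q ((finrank F C - 1) / 2) C hC (by omega)
    refine ⟨U, hUC, hUts, by omega, ?_⟩
    rintro ⟨k, hk⟩
    omega

end invol

section invol2

variable {F V : Type*} [Field F] [Fintype F] [AddCommGroup V] [Module F V]
  [FiniteDimensional F V] (Q : QuadraticForm F V) (y : V →ₗ[F] V)

omit [Fintype F] in
/-- gluing totally singular subspaces of the two eigenspaces of an involution -/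
theorem invol_fix_of_ts (h2 : (2 : F) ≠ 0) (hiso : ∀ v, Q (y v) = Q v) (hy : y ^ 2 = 1)
    (Up Um : Submodule F V) (hUp : Up ≤ fixE y) (hUm : Um ≤ movR y) (hpts : TS Q Up)
    (hmts : TS Q Um) (m : ℕ) (hm : m ≤ finrank F Up + finrank F Um) :
    ∃ W : Submodule F V, finrank F W = m ∧ TS Q W ∧ ∀ u ∈ W, y u ∈ W := by
  have : Fact (Nat.Prime 2) := ⟨Nat.prime_two⟩
  have hr0 : ((2 : ℕ) : F) ≠ 0 := by exact_mod_cast h2
  obtain ⟨Wp, hWp, hWpdim⟩ := Sp.exists_sub_finrank Up (min m (finrank F Up)) (min_le_right _ _)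
  obtain ⟨Wm, hWm, hWmdim⟩ := Sp.exists_sub_finrank Um (m - min m (finrank F Up)) (by omega)
  obtain ⟨hts, hinv⟩ := glue_ts Q y hiso Wp Wm (hWp.trans hUp) (hWm.trans hUm)
    (mov_sub_invariant y hy Wm (hWm.trans hUm)) (hpts.mono Q hWp) (hmts.mono Q hWm)
  refine ⟨Wp ⊔ Wm, ?_, hts, hinv⟩
  have hdisj : Wp ⊓ Wm = ⊥ := by
    rw [eq_bot_iff, ← fix_inf_mov y 2 hy hr0]
    exact inf_le_inf (hWp.trans hUp) (hWm.trans hUm)
  have := Submodule.finrank_sup_add_finrank_inf_eq Wp Wm
  rw [hdisj, finrank_bot, add_zero, hWpdim, hWmdim] at this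
  omega

/-- the generic bound: an involution fixes totally singular subspaces of small dimension -/
theorem invol_fix_generic (h2 : (2 : F) ≠ 0)
    (hnd : ∀ x, (∀ z, polar Q x z = 0) → x = 0) (hiso : ∀ v, Q (y v) = Q v) (hy : y ^ 2 = 1)
    (m : ℕ) (hm : 2 * m + 3 ≤ finrank F V ∨
      (Odd (finrank F (fixE y)) ∧ 2 * m + 2 ≤ finrank F V)) :
    ∃ W : Submodule F V, finrank F W = m ∧ TS Q W ∧ ∀ u ∈ W, y u ∈ W := by
  have : Fact (Nat.Prime 2) := ⟨Nat.prime_two⟩
  have hr0 : ((2 : ℕ) : F) ≠ 0 := by exact_mod_cast h2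
  have hsum := finrank_fix_add_mov' y 2 hy hr0
  have hndp := nd15_of_un Q _ (ndOn_fix Q y 2 hnd hiso hy hr0)
  have hndm := nd15_of_un Q _ (ndOn_mov Q y 2 hnd hiso hy hr0)
  obtain ⟨Up, hUp, hpts, hp1, hp2⟩ := exists_ts_half Q (fixE y) hndp
  obtain ⟨Um, hUm, hmts, hm1, hm2⟩ := exists_ts_half Q (movR y) hndm
  apply invol_fix_of_ts Q y h2 hiso hy Up Um hUp hUm hpts hmts m
  rcases hm with hm | ⟨hodd, hm⟩
  · rcases Nat.even_or_odd (finrank F (fixE y)) with hev | hodd
    · rcases Nat.even_or_odd (finrank F (movR y)) with hev' | hodd'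
      · obtain ⟨a, ha⟩ := hev
        obtain ⟨b, hb⟩ := hev'
        omega
      · have := hm2 hodd'
        omega
    · have := hp2 hodd
      omega
  · have h3 := hp2 hodd
    rcases Nat.even_or_odd (finrank F (movR y)) with hev' | hodd'
    · obtain ⟨b, hb⟩ := hev'
      omega
    · have := hm2 hodd'
      omega

omit [Fintype F] in
/-- an invariant totally singular subspace of an involution splits -/
theorem invol_split (h2 : (2 : F) ≠ 0)
    (hnd : ∀ x, (∀ z, polar Q x z = 0) → x = 0) (hiso : ∀ v, Q (y v) = Q v) (hy : y ^ 2 = 1)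
    (W : Submodule F V) (hW : ∀ u ∈ W, y u ∈ W) (hWts : TS Q W) :
    finrank F W = finrank F ↥(W ⊓ fixE y) + finrank F ↥(W ⊓ movR y) := by
  have : Fact (Nat.Prime 2) := ⟨Nat.prime_two⟩
  have hr0 : ((2 : ℕ) : F) ≠ 0 := by exact_mod_cast h2
  exact (Un.iso_inv_split (pB Q) y 2 id_invol (pB_sym Q) hnd (polar_iso Q y hiso) hy hr0 W hW
    hWts.le_orth).1

end invol2

end Cfsg.Agent.Lib.Helper24.Or
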