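/- helper24: orthogonal toolkit Q: involutions in Omega, reflection pairs, anisotropic planes -/
import Mathlib
import Cfsg.Agent.Lib.Helper24.OrP
import Cfsg.Agent.Lib.Helper15.OrthDisc

set_option autoImplicit false

namespace Cfsg.Agent.Lib.Helper24.Or

open Module QuadraticMap Polynomial Cfsg.Agent.Lib.Helper12.Elus Cfsg.Agent.Lib.Helper12
  Cfsg.Agent.Lib.Helper15 Cfsg.Agent.Lib.Helper15.QuadType Cfsg.Agent.Lib.Helper15.OrthSemi
open scoped MatrixGroups Matrix

section formula

variable {F V : Type*} [Field F] [Fintype F] [AddCommGroup V] [Module F V]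
  [FiniteDimensional F V] (Q : QuadraticForm F V) (y : V →ₗ[F] V)

omit [Fintype F] in
/-- an involution is the product of the reflections in an orthogonal basis of its moved space -/
theorem invol_formula (h2 : (2 : F) ≠ 0) (hiso : ∀ v, Q (y v) = Q v) (hy : y ^ 2 = 1) (n : ℕ)
    (w : Fin n → V) (hwW : ∀ i, w i ∈ movR y)
    (hworth : ∀ i j, i ≠ j → polar Q (w i) (w j) = 0) (hwne : ∀ i, Q (w i) ≠ 0)
    (hdim : finrank F (movR y) = n) (z : V) :
    y z = z - ∑ j, ((Q (w j))⁻¹ * polar Q (w j) z) • w j := by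
  classical
  have : Fact (Nat.Prime 2) := ⟨Nat.prime_two⟩
  have hr0 : ((2 : ℕ) : F) ≠ 0 := by exact_mod_cast h2
  have hli := orth_linearIndependent h2 Q w hworth hwne
  have hli' : LinearIndependent F (fun i => (⟨w i, hwW i⟩ : movR y)) := by
    apply LinearIndependent.of_comp (movR y).subtype
    exact hli
  have hcard : Fintype.card (Fin n) = finrank F (movR y) := by rw [Fintype.card_fin, hdim]
  obtain ⟨b0, hb0'⟩ : ∃ b0 : Basis (Fin n) F (movR y), ⇑b0 = fun i => (⟨w i, hwW i⟩ : movR y) :=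
    ⟨basisOfLinearIndependentOfCardEqFinrank' _ hli' hcard,
      coe_basisOfLinearIndependentOfCardEqFinrank' _ hli' hcard⟩
  have hb0 : ∀ i, ((b0 i : movR y) : V) = w i := by
    intro i
    rw [hb0']
  have hsplit : fixE y ⊔ movR y = ⊤ := by
    have := Sp.inv_split y 2 hy hr0 ⊤ (fun _ _ => Submodule.mem_top)
    rwa [top_inf_eq, top_inf_eq] at this
  have hz : z ∈ fixE y ⊔ movR y := by rw [hsplit]; trivial
  obtain ⟨a, ha, w0, hw0, rfl⟩ := Submodule.mem_sup.1 hz
  rw [map_add, (mem_fixE y a).1 ha, mov_neg y hy w0 hw0]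
  have hrep : w0 = ∑ j, (b0.repr ⟨w0, hw0⟩ j) • w j := by
    have h1 := b0.sum_repr ⟨w0, hw0⟩
    have h3 := congrArg Subtype.val h1
    rw [Submodule.coe_sum] at h3
    simp only [Submodule.coe_smul, hb0] at h3
    exact h3.symm
  have hpol : ∀ j, polar Q (w j) (a + w0) = (b0.repr ⟨w0, hw0⟩ j) * (2 * Q (w j)) := by
    intro j
    have hfm : polar Q a (w j) = 0 :=
      Un.fix_orth_mov (pB Q) y (polar_iso Q y hiso) a (w j) ha (hwW j)
    rw [polar_add_right, polar_comm Q (w j) a, hfm, zero_add]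
    conv_lhs => rw [hrep]
    have h4 := map_sum (polarBilin Q (w j)) (fun i => (b0.repr ⟨w0, hw0⟩ i) • w i) Finset.univ
    simp only [polarBilin_apply_apply] at h4
    rw [h4, Finset.sum_eq_single j]
    · rw [polar_smul_right, polar_self]
      simp
    · intro i _ hij
      rw [polar_smul_right, hworth j i (Ne.symm hij), smul_zero]
    · intro h
      exact absurd (Finset.mem_univ j) h
  have hsum : ∑ j, ((Q (w j))⁻¹ * polar Q (w j) (a + w0)) • w j = (2 : F) • w0 := by
    conv_rhs => rw [hrep, Finset.smul_sum]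
    apply Finset.sum_congr rfl
    intro j _
    rw [hpol j, smul_smul]
    congr 1
    have := hwne j
    field_simp
  rw [hsum, two_smul]
  abel

end formula

section orthonormal

variable {F V : Type*} [Field F] [AddCommGroup V] [Module F V] (Q : QuadraticForm F V)

/-- an orthonormal family of even size spans a space containing a totally singular subspace
of half the dimension, if `-1` is a square -/
theorem ts_of_orthonormal (h2 : (2 : F) ≠ 0) (ι0 : F) (hι : ι0 * ι0 = -1) (b : ℕ)
    (w : Fin (b + b) → V) (hworth : ∀ i j, i ≠ j → polar Q (w i) (w j) = 0)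
    (hw1 : ∀ i, Q (w i) = 1) :
    ∃ U : Submodule F V, U ≤ Submodule.span F (Set.range w) ∧ TS Q U ∧ finrank F U = b := by
  classical
  have hne : ∀ j k : Fin b, Fin.castAdd b j ≠ Fin.natAdd b k := by
    intro j k h
    have := congrArg Fin.val h
    simp at this
    omega
  have hinj0 : ∀ j k : Fin b, j ≠ k → Fin.castAdd b j ≠ Fin.castAdd b k := by
    intro j k hjk h
    exact hjk (Fin.castAdd_injective b b h)
  have hinj1 : ∀ j k : Fin b, j ≠ k → Fin.natAdd b j ≠ Fin.natAdd b k := by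
    intro j k hjk h
    exact hjk (Fin.natAdd_injective b b h)
  obtain ⟨u, hu⟩ : ∃ u : Fin b → V,
      u = fun j => w (Fin.castAdd b j) + ι0 • w (Fin.natAdd b j) := ⟨_, rfl⟩
  have hQu : ∀ j, Q (u j) = 0 := by
    intro j
    have h1 : Q (w (Fin.castAdd b j) + ι0 • w (Fin.natAdd b j)) =
        Q (w (Fin.castAdd b j)) + Q (ι0 • w (Fin.natAdd b j)) +
          polar Q (w (Fin.castAdd b j)) (ι0 • w (Fin.natAdd b j)) := by
      rw [QuadraticMap.polar]; ring
    rw [hu]
    simp only
    rw [h1, QuadraticMap.map_smul, hw1, hw1, polar_smul_right, hworth _ _ (hne j j), smul_eq_mul,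
      smul_eq_mul, mul_one, mul_zero, add_zero, hι]
    ring
  have hpol : ∀ j k, polar Q (u j) (u k) = 0 := by
    intro j k
    by_cases hjk : j = k
    · rw [hjk, polar_self, hQu]
      simp
    · rw [hu]
      simp only
      rw [polar_add_left, polar_add_right, polar_add_right, polar_smul_left, polar_smul_left,
        polar_smul_right, polar_smul_right, hworth _ _ (hinj0 j k hjk), hworth _ _ (hne j k),
        hworth _ _ (Ne.symm (hne k j)), hworth _ _ (hinj1 j k hjk)]
      simp
  have hli : LinearIndependent F u := by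
    rw [Fintype.linearIndependent_iff]
    intro g hg k
    have h1 := congrArg (fun z => polarBilin Q (w (Fin.castAdd b k)) z) hg
    simp only [map_sum, map_smul, polarBilin_apply_apply, map_zero, smul_eq_mul] at h1
    rw [Finset.sum_eq_single k] at h1
    · rw [hu] at h1
      simp only at h1
      rw [polar_add_right, polar_smul_right, hworth _ _ (hne k k), polar_self, hw1] at h1
      have h3 : g k * 2 = 0 := by simpa using h1
      exact (mul_eq_zero.1 h3).resolve_right h2
    · intro i _ hik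
      rw [hu]
      simp only
      rw [polar_add_right, polar_smul_right, hworth _ _ (hinj0 k i (Ne.symm hik)),
        hworth _ _ (hne k i)]
      simp
    · intro h
      exact absurd (Finset.mem_univ k) h
  refine ⟨Submodule.span F (Set.range u), ?_, ts_span Q u hQu hpol, ?_⟩
  · rw [Submodule.span_le]
    rintro _ ⟨j, rfl⟩
    rw [hu]
    exact Submodule.add_mem _ (Submodule.subset_span ⟨_, rfl⟩)
      (Submodule.smul_mem _ _ (Submodule.subset_span ⟨_, rfl⟩))
  · rw [finrank_span_eq_card hli, Fintype.card_fin]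

end orthonormal

section aniso

variable {F V : Type*} [Field F] [Fintype F] [AddCommGroup V] [Module F V]
  [FiniteDimensional F V] (Q : QuadraticForm F V) (y : V →ₗ[F] V)

omit [Fintype F] [FiniteDimensional F V] in
/-- an invariant totally singular subspace meets an anisotropic moved space trivially -/
theorem inf_mov_of_aniso (haniso : ∀ z ∈ movR y, Q z = 0 → z = 0) (W : Submodule F V)
    (hWts : TS Q W) : W ⊓ movR y = ⊥ := by
  rw [eq_bot_iff]
  rintro z ⟨hzW, hzM⟩
  exact haniso z hzM (hWts z hzW)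

/-- odd dimension: an involution with anisotropic moved plane fixes no maximal totally
singular subspace -/
theorem aniso_bound_odd (h2 : (2 : F) ≠ 0) (hnd : ∀ x, (∀ z, polar Q x z = 0) → x = 0)
    (hiso : ∀ v, Q (y v) = Q v) (hy : y ^ 2 = 1) (haniso : ∀ z ∈ movR y, Q z = 0 → z = 0)
    (hmov : finrank F (movR y) = 2) (d : ℕ) (hV : finrank F V = 2 * d + 1)
    (W : Submodule F V) (hW : ∀ u ∈ W, y u ∈ W) (hWts : TS Q W) : finrank F W + 1 ≤ d := by
  have : Fact (Nat.Prime 2) := ⟨Nat.prime_two⟩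
  have hr0 : ((2 : ℕ) : F) ≠ 0 := by exact_mod_cast h2
  have hsum := finrank_fix_add_mov' y 2 hy hr0
  have hndp := nd15_of_un Q _ (ndOn_fix Q y 2 hnd hiso hy hr0)
  have hsplit := invol_split Q y h2 hnd hiso hy W hW hWts
  rw [inf_mov_of_aniso Q y haniso W hWts, finrank_bot, add_zero] at hsplit
  have hle := ts_sub_le Q (fixE y) (W ⊓ fixE y) hndp inf_le_right (hWts.mono Q inf_le_left)
  omega

/-- even dimension, plus type: an involution with anisotropic moved plane fixes no totally
singular subspace of dimension `d - 1` -/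
theorem aniso_bound_plus (h2 : (2 : F) ≠ 0) (hnd : ∀ x, (∀ z, polar Q x z = 0) → x = 0)
    (hiso : ∀ v, Q (y v) = Q v) (hy : y ^ 2 = 1) (haniso : ∀ z ∈ movR y, Q z = 0 → z = 0)
    (hmov : finrank F (movR y) = 2) (d : ℕ) (hV : finrank F V = 2 * d)
    (ht : HasType 1 d (fun v => Q v))
    (W : Submodule F V) (hW : ∀ u ∈ W, y u ∈ W) (hWts : TS Q W) : finrank F W + 2 ≤ d := by
  have : Fact (Nat.Prime 2) := ⟨Nat.prime_two⟩
  have hr0 : ((2 : ℕ) : F) ≠ 0 := by exact_mod_cast h2
  have hsum := finrank_fix_add_mov' y 2 hy hr0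
  have hndp := nd15_of_un Q _ (ndOn_fix Q y 2 hnd hiso hy hr0)
  have hndm := nd15_of_un Q _ (ndOn_mov Q y 2 hnd hiso hy hr0)
  have hsplit := invol_split Q y h2 hnd hiso hy W hW hWts
  rw [inf_mov_of_aniso Q y haniso W hWts, finrank_bot, add_zero] at hsplit
  have : Finite (fixE y) := Module.finite_of_finite F
  have : Finite (movR y) := Module.finite_of_finite F
  obtain ⟨d', rfl⟩ : ∃ d', d = d' + 1 := ⟨d - 1, by omega⟩
  obtain ⟨εp, hεp, htp⟩ := hasType_of_nondeg (resQ Q (fixE y))
    (nondegenerate_resQ Q _ hndp) d' (by omega)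
  obtain ⟨εm, hεm, htm⟩ := hasType_of_nondeg (resQ Q (movR y))
    (nondegenerate_resQ Q _ hndm) 1 (by omega)
  have hεm' : εm = -1 := by
    rcases hεm with rfl | rfl
    · exfalso
      obtain ⟨U, hUle, hUts, hUdim⟩ := exists_ts_sub_plus Q (movR y) hndm 1 (by omega) htm
      have hne : U ≠ ⊥ := by
        intro h
        rw [h, finrank_bot] at hUdim
        omega
      obtain ⟨z, hzU, hz0⟩ := Submodule.exists_mem_ne_zero_of_ne_bot hne
      exact hz0 (haniso z (hUle hzU) (hUts z hzU))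
    · rfl
  have hdisj : fixE y ⊓ movR y = ⊥ := fix_inf_mov y 2 hy hr0
  have hsup : fixE y ⊔ movR y = ⊤ := by
    have := Sp.inv_split y 2 hy hr0 ⊤ (fun _ _ => Submodule.mem_top)
    rwa [top_inf_eq, top_inf_eq] at this
  have hsp := hasType_of_split Q (fixE y) (movR y) hsup hdisj
    (fun a ha b hb => Un.fix_orth_mov (pB Q) y (polar_iso Q y hiso) a b ha hb) htp htm
  have huniq := ht.unique hsp
  have hεp' : εp = -1 := by
    rw [hεm'] at huniq
    rcases hεp with rfl | rfl
    · norm_num at huniq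
    · rfl
  rw [hεp'] at htp
  have hlt := ts_sub_lt_minus Q (fixE y) (W ⊓ fixE y) hndp inf_le_right
    (hWts.mono Q inf_le_left) d' (by omega) htp
  omega

end aniso

section pair

variable {F V : Type*} [Field F] [AddCommGroup V] [Module F V] (Q : QuadraticForm F V) (u v : V)

/-- the product of the reflections in two vectors -/
noncomputable def pairMap : V →ₗ[F] V :=
  LinearMap.id - (polarBilin Q u).smulRight u - (polarBilin Q v).smulRight v

theorem pairMap_apply (z : V) : pairMap Q u v z = z - polar Q u z • u - polar Q v z • v := by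
  simp [pairMap, polarBilin_apply_apply]

variable {u v}

theorem polar_self_one (hu : Q u = 1) : polar Q u u = 2 := by
  rw [polar_self, hu]
  simp

theorem pairMap_sq (hu : Q u = 1) (hv : Q v = 1) (huv : polar Q u v = 0) :
    (pairMap Q u v) ^ 2 = 1 := by
  apply LinearMap.ext
  intro z
  have hvu : polar Q v u = 0 := by rw [polar_comm]; exact huv
  rw [pow_two, Module.End.mul_apply, Module.End.one_apply, pairMap_apply, pairMap_apply]
  simp only [polar_sub_right, polar_smul_right, polar_self_one Q hu, polar_self_one Q hv, huv, hvu,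
    smul_eq_mul, mul_zero, sub_zero]
  module

theorem pairMap_mov_le : movR (pairMap Q u v) ≤ Submodule.span F (Set.range ![u, v]) := by
  rintro _ ⟨z, rfl⟩
  rw [LinearMap.sub_apply, Module.End.one_apply, pairMap_apply]
  have e : z - polar Q u z • u - polar Q v z • v - z =
      (-polar Q u z) • u + (-polar Q v z) • v := by
    rw [neg_smul, neg_smul]; abel
  rw [e]
  exact Submodule.add_mem _
    (Submodule.smul_mem _ _ (Submodule.subset_span ⟨0, rfl⟩))
    (Submodule.smul_mem _ _ (Submodule.subset_span ⟨1, rfl⟩))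

theorem pairMap_mov (h2 : (2 : F) ≠ 0) (hu : Q u = 1) (hv : Q v = 1) (huv : polar Q u v = 0) :
    movR (pairMap Q u v) = Submodule.span F (Set.range ![u, v]) := by
  apply le_antisymm (pairMap_mov_le Q)
  have hvu : polar Q v u = 0 := by rw [polar_comm]; exact huv
  have key : (-(2 : F)⁻¹ - -(2 : F)⁻¹ * 2 - -(2 : F)⁻¹) = 1 := by field_simp; ring
  rw [Submodule.span_le]
  rintro _ ⟨i, rfl⟩
  fin_cases i
  · refine ⟨(-(2 : F)⁻¹) • u, ?_⟩
    rw [LinearMap.sub_apply, Module.End.one_apply, pairMap_apply]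
    simp only [polar_smul_right, polar_self_one Q hu, hvu, smul_eq_mul, mul_zero, zero_smul,
      sub_zero, Matrix.cons_val_zero, Fin.zero_eta]
    rw [← sub_smul, ← sub_smul, key, one_smul]
  · refine ⟨(-(2 : F)⁻¹) • v, ?_⟩
    rw [LinearMap.sub_apply, Module.End.one_apply, pairMap_apply]
    simp only [polar_smul_right, polar_self_one Q hv, huv, smul_eq_mul, mul_zero, zero_smul,
      sub_zero, Fin.mk_one, Matrix.cons_val_one, Matrix.cons_val_fin_one]
    rw [← sub_smul, ← sub_smul, key, one_smul]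

theorem pair_orth (huv : polar Q u v = 0) :
    ∀ i j : Fin 2, i ≠ j → polar Q (![u, v] i) (![u, v] j) = 0 := by
  have hvu : polar Q v u = 0 := by rw [polar_comm]; exact huv
  intro i j hij
  fin_cases i <;> fin_cases j <;> simp_all

theorem pair_ne (hu : Q u = 1) (hv : Q v = 1) : ∀ i : Fin 2, Q (![u, v] i) ≠ 0 := by
  intro i
  fin_cases i <;> simp [hu, hv]

theorem pairMap_finrank_mov (h2 : (2 : F) ≠ 0) (hu : Q u = 1) (hv : Q v = 1)
    (huv : polar Q u v = 0) : finrank F (movR (pairMap Q u v)) = 2 := by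
  rw [pairMap_mov Q h2 hu hv huv,
    finrank_span_eq_card (orth_linearIndependent h2 Q ![u, v] (pair_orth Q huv) (pair_ne Q hu hv)),
    Fintype.card_fin]

theorem pairMap_aniso (hns : ¬ IsSquare (-1 : F)) (hu : Q u = 1) (hv : Q v = 1)
    (huv : polar Q u v = 0) : ∀ z ∈ movR (pairMap Q u v), Q z = 0 → z = 0 := by
  intro z hz hQz
  have hz' := pairMap_mov_le Q hz
  obtain ⟨c, rfl⟩ := (Submodule.mem_span_range_iff_exists_fun F).1 hz'
  rw [Fin.sum_univ_two] at hQz ⊢
  simp only [Matrix.cons_val_zero, Matrix.cons_val_one] at hQz ⊢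
  have h1 : Q (c 0 • u + c 1 • v) = c 0 * c 0 + c 1 * c 1 := by
    have : Q (c 0 • u + c 1 • v) = Q (c 0 • u) + Q (c 1 • v) + polar Q (c 0 • u) (c 1 • v) := by
      rw [QuadraticMap.polar]; ring
    rw [this, QuadraticMap.map_smul, QuadraticMap.map_smul, hu, hv, polar_smul_left,
      polar_smul_right, huv]
    simp
  rw [h1] at hQz
  by_cases hc1 : c 1 = 0
  · rw [hc1, mul_zero, add_zero] at hQz
    rw [hc1, mul_self_eq_zero.1 hQz, zero_smul, zero_smul, add_zero]
  · exfalso
    apply hns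
    refine ⟨c 0 / c 1, ?_⟩
    field_simp
    linear_combination -hQz

end pair

section omega

variable {F : Type*} [Field F] [Fintype F] {ι : Type} [Fintype ι] [DecidableEq ι]
  (Qs : QuadraticForm F (ι → F))

/-- an involution in `Ω`: its moved space has even dimension and an orthonormal basis -/
theorem omega_invol_struct (h2 : (2 : F) ≠ 0) (hQ : (polarBilin Qs).Nondegenerate)
    (x : GL ι F) (hx : x ∈ Cfsg.Geo.omegaGL ⇑Qs)
    (hx2 : (Matrix.toLin' (x : Matrix ι ι F)) ^ 2 = 1) (n : ℕ)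
    (hdim : finrank F (movR (Matrix.toLin' (x : Matrix ι ι F))) = n + 1) :
    Even (n + 1) ∧ ∃ w : Fin (n + 1) → (ι → F),
      (∀ i, w i ∈ movR (Matrix.toLin' (x : Matrix ι ι F))) ∧
      (∀ i j, i ≠ j → polar Qs (w i) (w j) = 0) ∧ ∀ i, Qs (w i) = 1 := by
  classical
  have : Fact (Nat.Prime 2) := ⟨Nat.prime_two⟩
  have hr0 : ((2 : ℕ) : F) ≠ 0 := by exact_mod_cast h2
  obtain ⟨y, hy⟩ : ∃ y : (ι → F) →ₗ[F] (ι → F), y = Matrix.toLin' (x : Matrix ι ι F) := ⟨_, rfl⟩
  rw [← hy] at hx2 hdim ⊢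
  have hiso : ∀ v, Qs (y v) = Qs v := by
    intro v
    rw [hy]
    exact toLin_iso _ x (iso_of_mem_omega _ x hx) v
  have hnd : ∀ u, (∀ z, polar Qs u z = 0) → u = 0 :=
    fun u hu => hQ.1 u (fun z => by rw [polarBilin_apply_apply]; exact hu z)
  have hW := nd15_of_un Qs _ (ndOn_mov Qs y 2 hnd hiso hx2 hr0)
  obtain ⟨w, hwW, hworth, hwone, hwlast⟩ := orth_family h2 Qs n (movR y) hW hdim
  have hwne : ∀ i, Qs (w i) ≠ 0 := by
    intro i
    by_cases hi : i = Fin.last n
    · rw [hi]; exact hwlast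
    · rw [hwone i hi]; exact one_ne_zero
  have hD : ∀ z, (x : Matrix ι ι F) *ᵥ z =
      z - ∑ j ∈ Finset.univ, ((Qs (w j))⁻¹ * polar Qs (w j) z) • w j := by
    intro z
    rw [← Matrix.toLin'_apply, ← hy]
    exact invol_formula Qs y h2 hiso hx2 (n + 1) w hwW hworth hwne hdim z
  have hΩ : ∃ g : ↥(Cfsg.isometryGroup F ⇑Qs), g ∈ Cfsg.Omega F ⇑Qs ∧
      ((g : GL ι F) : Matrix ι ι F) = (x : Matrix ι ι F) := by
    obtain ⟨A, hA, rfl⟩ := Subgroup.mem_map.1 hx
    exact ⟨A, hA, rfl⟩
  rw [Cfsg.Agent.Lib.Helper25.Spin.orth_mem_omega_iff Qs h2 hQ w Finset.univ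
    (fun j _ => hwne j) (fun i _ j _ hij => hworth i j hij) hD, Finset.card_univ,
    Fintype.card_fin] at hΩ
  obtain ⟨hev, hsq⟩ := hΩ
  refine ⟨hev, ?_⟩
  have hprod : ∏ j, Qs (w j) = Qs (w (Fin.last n)) := by
    rw [Finset.prod_eq_single (Fin.last n)]
    · intro j _ hj
      exact hwone j hj
    · intro h
      exact absurd (Finset.mem_univ _) h
  rw [hprod] at hsq
  obtain ⟨s, hs⟩ := hsq
  have hs0 : s ≠ 0 := by
    rintro rfl
    rw [mul_zero] at hs
    exact hwlast hs
  refine ⟨Function.update w (Fin.last n) (s⁻¹ • w (Fin.last n)), ?_, ?_, ?_⟩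
  · intro i
    by_cases hi : i = Fin.last n
    · rw [hi, Function.update_self]
      exact Submodule.smul_mem _ _ (hwW _)
    · rw [Function.update_of_ne hi]
      exact hwW i
  · intro i j hij
    by_cases hi : i = Fin.last n
    · have hj : j ≠ Fin.last n := fun h => hij (hi.trans h.symm)
      rw [hi, Function.update_self, Function.update_of_ne hj, polar_smul_left,
        hworth _ _ (Ne.symm hj), smul_zero]
    · rw [Function.update_of_ne hi]
      by_cases hj : j = Fin.last n
      · rw [hj, Function.update_self, polar_smul_right, hworth _ _ hi, smul_zero]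
      · rw [Function.update_of_ne hj, hworth i j hij]
  · intro i
    by_cases hi : i = Fin.last n
    · rw [hi, Function.update_self, QuadraticMap.map_smul, hs, smul_eq_mul]
      field_simp
    · rw [Function.update_of_ne hi, hwone i hi]

/-- an involution in `Ω`, when `-1` is a square: the moved space is of plus type -/
theorem omega_invol_ts (h2 : (2 : F) ≠ 0) (hQ : (polarBilin Qs).Nondegenerate)
    (x : GL ι F) (hx : x ∈ Cfsg.Geo.omegaGL ⇑Qs)
    (hx2 : (Matrix.toLin' (x : Matrix ι ι F)) ^ 2 = 1) (hsq : IsSquare (-1 : F)) :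
    ∃ U : Submodule F (ι → F), U ≤ movR (Matrix.toLin' (x : Matrix ι ι F)) ∧ TS Qs U ∧
      2 * finrank F U = finrank F (movR (Matrix.toLin' (x : Matrix ι ι F))) := by
  rcases Nat.eq_zero_or_pos (finrank F (movR (Matrix.toLin' (x : Matrix ι ι F)))) with h0 | hpos
  · exact ⟨⊥, bot_le, ts_bot Qs, by rw [finrank_bot, h0]⟩
  · obtain ⟨n, hn⟩ : ∃ n, finrank F (movR (Matrix.toLin' (x : Matrix ι ι F))) = n + 1 :=
      ⟨_, (Nat.sub_add_cancel hpos).symm⟩
    obtain ⟨⟨b, hb⟩, w, hwW, hworth, hw1⟩ := omega_invol_struct Qs h2 hQ x hx hx2 n hn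
    obtain ⟨ι0, hι0⟩ := hsq
    obtain ⟨U, hU, hUts, hUdim⟩ := ts_of_orthonormal Qs h2 ι0 hι0.symm b
      (fun i => w (Fin.cast hb.symm i))
      (fun i j hij => hworth _ _ (fun h => hij (Fin.cast_injective _ h)))
      (fun i => hw1 _)
    refine ⟨U, hU.trans ?_, hUts, by rw [hUdim, hn, hb]; ring⟩
    rw [Submodule.span_le]
    rintro _ ⟨i, rfl⟩
    exact hwW _

/-- an involution in `Ω`, when `-1` is a square, fixes totally singular subspaces of all
possible dimensions (except the maximal one in even dimension) -/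
theorem omega_invol_fix (h2 : (2 : F) ≠ 0) (hQ : (polarBilin Qs).Nondegenerate)
    (x : GL ι F) (hx : x ∈ Cfsg.Geo.omegaGL ⇑Qs)
    (hx2 : (Matrix.toLin' (x : Matrix ι ι F)) ^ 2 = 1) (hsq : IsSquare (-1 : F)) (m : ℕ)
    (hm : 2 * m + 1 ≤ Fintype.card ι) :
    ∃ W : Submodule F (ι → F), finrank F W = m ∧ TS Qs W ∧
      ∀ u ∈ W, Matrix.toLin' (x : Matrix ι ι F) u ∈ W := by
  have : Fact (Nat.Prime 2) := ⟨Nat.prime_two⟩
  have hr0 : ((2 : ℕ) : F) ≠ 0 := by exact_mod_cast h2
  obtain ⟨Um, hUm, hmts, hmdim⟩ := omega_invol_ts Qs h2 hQ x hx hx2 hsq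
  obtain ⟨y, hy⟩ : ∃ y : (ι → F) →ₗ[F] (ι → F), y = Matrix.toLin' (x : Matrix ι ι F) := ⟨_, rfl⟩
  rw [← hy] at hx2 hUm hmdim ⊢
  have hiso : ∀ v, Qs (y v) = Qs v := by
    intro v
    rw [hy]
    exact toLin_iso _ x (iso_of_mem_omega _ x hx) v
  have hnd : ∀ u, (∀ z, polar Qs u z = 0) → u = 0 :=
    fun u hu => hQ.1 u (fun z => by rw [polarBilin_apply_apply]; exact hu z)
  have hsum := finrank_fix_add_mov' y 2 hx2 hr0
  rw [Module.finrank_fintype_fun_eq_card] at hsum
  have hndp := nd15_of_un Qs _ (ndOn_fix Qs y 2 hnd hiso hx2 hr0)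
  obtain ⟨Up, hUp, hpts, hp1, hp2⟩ := exists_ts_half Qs (fixE y) hndp
  apply invol_fix_of_ts Qs y h2 hiso hx2 Up Um hUp hUm hpts hmts m
  rcases Nat.even_or_odd (finrank F (fixE y)) with hev | hodd
  · obtain ⟨a, ha⟩ := hev
    omega
  · have := hp2 hodd
    omega

/-- the product of two commuting reflections as an element of `Ω` -/
theorem exists_refl_pair (h2 : (2 : F) ≠ 0) (hQ : (polarBilin Qs).Nondegenerate)
    (u v : ι → F) (hu : Qs u = 1) (hv : Qs v = 1) (huv : polar Qs u v = 0) :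
    ∃ x : GL ι F, x ∈ Cfsg.Geo.omegaGL ⇑Qs ∧
      Matrix.toLin' (x : Matrix ι ι F) = pairMap Qs u v := by
  classical
  have hD : ∀ z, LinearMap.toMatrix' (pairMap Qs u v) *ᵥ z =
      z - ∑ j ∈ Finset.univ, ((Qs (![u, v] j))⁻¹ * polar Qs (![u, v] j) z) • ![u, v] j := by
    intro z
    rw [← Matrix.toLin'_apply, Matrix.toLin'_toMatrix', pairMap_apply, Fin.sum_univ_two]
    simp only [Matrix.cons_val_zero, Matrix.cons_val_one, hu, hv, inv_one, one_mul]
    abel
  obtain ⟨g, hg, hgD⟩ := (Cfsg.Agent.Lib.Helper25.Spin.orth_mem_omega_iff Qs h2 hQ ![u, v]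
    Finset.univ (fun j _ => pair_ne Qs hu hv j) (fun i _ j _ hij => pair_orth Qs huv i j hij)
    hD).2 ⟨by rw [Finset.card_univ, Fintype.card_fin]; exact ⟨1, rfl⟩, by
      rw [Fin.prod_univ_two]
      simp only [Matrix.cons_val_zero, Matrix.cons_val_one, hu, hv, mul_one]
      exact ⟨1, by ring⟩⟩
  refine ⟨(g : GL ι F), Subgroup.mem_map.2 ⟨g, hg, rfl⟩, ?_⟩
  rw [hgD, Matrix.toLin'_toMatrix']

end omega

end Cfsg.Agent.Lib.Helper24.Or
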