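/- helper24: orthogonal toolkit, statement S5972: the prime two -/
import Mathlib
import Cfsg.Agent.Lib.Helper24.OrQ

set_option autoImplicit false

namespace Cfsg.Agent.Lib.Helper24.Or

open Module QuadraticMap Polynomial Cfsg.Agent.Lib.Helper12.Elus Cfsg.Agent.Lib.Helper12
  Cfsg.Agent.Lib.Helper15 Cfsg.Agent.Lib.Helper15.QuadType Cfsg.Agent.Lib.Helper15.OrthSemi
open scoped MatrixGroups Matrix

universe u

section glue2

variable {F : Type u} [Field F] {ι : Type} [Fintype ι] [DecidableEq ι]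

/-- an element of order two gives an involution -/
theorem toLin_sq_of_order (x : GL ι F) (hxo : orderOf x = 2) :
    (Matrix.toLin' (x : Matrix ι ι F)) ^ 2 = 1 := by
  rw [← Matrix.toLin'_pow, ← Units.val_pow_eq_pow_val, ← hxo, pow_orderOf_eq_one]
  exact Matrix.toLin'_one

/-- an element whose linear map is a nontrivial involution has order two -/
theorem order_two_of_toLin (x : GL ι F) (y : (ι → F) →ₗ[F] (ι → F))
    (hxy : Matrix.toLin' (x : Matrix ι ι F) = y) (hy : y ^ 2 = 1) (hy1 : y ≠ 1) :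
    orderOf x = 2 := by
  have : Fact (Nat.Prime 2) := ⟨Nat.prime_two⟩
  apply orderOf_eq_prime
  · apply Units.ext
    apply Matrix.toLin'.injective
    rw [Units.val_pow_eq_pow_val, Matrix.toLin'_pow, hxy, hy, Units.val_one, Matrix.toLin'_one]
    rfl
  · rintro rfl
    apply hy1
    rw [← hxy, Units.val_one, Matrix.toLin'_one]
    rfl

end glue2

section s72two

variable {F : Type u} [Field F] [Fintype F]

theorem two_ne_zero_odd (hodd : Odd (Fintype.card F)) : (2 : F) ≠ 0 := by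
  intro h
  have : CharP F 2 := CharTwo.of_one_ne_zero_of_two_eq_zero one_ne_zero h
  obtain ⟨k, -, hk⟩ := FiniteField.card F 2
  rw [hk] at hodd
  have hev : Even (2 ^ (k : ℕ)) := (Nat.even_pow.2 ⟨even_two, k.ne_zero⟩)
  exact (Nat.not_even_iff_odd.2 hodd) hev

/-- S5972, `r = 2`, backward direction -/
theorem bwd72_two (h2 : (2 : F) ≠ 0) (d m : ℕ) (hmd : m ≤ d)
    (hcond : m < d ∨ Fintype.card F % 4 = 1)
    (x : GL (Unit ⊕ (Fin d ⊕ Fin d)) F) (hx : x ∈ Cfsg.Geo.omegaGL (Cfsg.quadFormOdd d F))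
    (hxo : orderOf x = 2) :
    ∃ W : Submodule F (Unit ⊕ (Fin d ⊕ Fin d) → F), finrank F W = m ∧
        (∀ w ∈ W, Cfsg.quadFormOdd d F w = 0) ∧
        W.map (Matrix.toLin' (x : Matrix (Unit ⊕ (Fin d ⊕ Fin d)) (Unit ⊕ (Fin d ⊕ Fin d)) F)) ≤ W := by
  classical
  have hnd := OrthReal.oddQF_nondegenerate (F := F) h2 d
  have hnd' : ∀ x, (∀ z, polar (OrthReal.oddQF d (F := F)) x z = 0) → x = 0 :=
    fun x hx => hnd.1 x (fun z => by rw [polarBilin_apply_apply]; exact hx z)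
  have hx' : x ∈ Cfsg.Geo.omegaGL ⇑(OrthReal.oddQF d (F := F)) := by
    rw [coe_oddQF]; exact hx
  have hiso : ∀ v, OrthReal.oddQF d (Matrix.toLin' (x : Matrix _ _ F) v) = OrthReal.oddQF d v :=
    fun v => toLin_iso _ x (iso_of_mem_omega _ x hx') v
  have hy := toLin_sq_of_order x hxo
  have hdim : finrank F (Unit ⊕ (Fin d ⊕ Fin d) → F) = 2 * d + 1 := by
    rw [Module.finrank_fintype_fun_eq_card, card_idx_odd]
  have key : ∃ W : Submodule F (Unit ⊕ (Fin d ⊕ Fin d) → F), finrank F W = m ∧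
      TS (OrthReal.oddQF d) W ∧ ∀ u ∈ W, Matrix.toLin' (x : Matrix _ _ F) u ∈ W := by
    rcases hcond with hlt | h4
    · exact invol_fix_generic _ _ h2 hnd' hiso hy m (Or.inl (by rw [hdim]; omega))
    · have hsq : IsSquare (-1 : F) := by
        rw [FiniteField.isSquare_neg_one_iff]; omega
      exact omega_invol_fix _ h2 hnd x hx' hy hsq m (by rw [card_idx_odd]; omega)
  obtain ⟨W, hW1, hW2, hW3⟩ := key
  refine ⟨W, hW1, ?_, map_le_of_forall W _ hW3⟩
  intro w hw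
  rw [← OrthReal.oddQF_apply]
  exact hW2 w hw

/-- S5972, `r = 2`, forward direction -/
theorem fwd72_two (h2 : (2 : F) ≠ 0) (d m : ℕ) (hd : 1 ≤ d) (hmd : m ≤ d)
    (hodd : Odd (Fintype.card F))
    (h : ∀ x : GL (Unit ⊕ (Fin d ⊕ Fin d)) F, x ∈ Cfsg.Geo.omegaGL (Cfsg.quadFormOdd d F) →
      orderOf x = 2 → ∃ W : Submodule F (Unit ⊕ (Fin d ⊕ Fin d) → F), finrank F W = m ∧
        (∀ w ∈ W, Cfsg.quadFormOdd d F w = 0) ∧
        W.map (Matrix.toLin' (x : Matrix (Unit ⊕ (Fin d ⊕ Fin d)) (Unit ⊕ (Fin d ⊕ Fin d)) F)) ≤ W) :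
    m < d ∨ Fintype.card F % 4 = 1 := by
  classical
  by_contra hcon
  push Not at hcon
  obtain ⟨hmd', hq4⟩ := hcon
  have hmeq : m = d := by omega
  have hns : ¬ IsSquare (-1 : F) := by
    rw [FiniteField.isSquare_neg_one_iff]
    obtain ⟨k, hk⟩ := hodd
    omega
  have hnd := OrthReal.oddQF_nondegenerate (F := F) h2 d
  have hnd' : ∀ x, (∀ z, polar (OrthReal.oddQF d (F := F)) x z = 0) → x = 0 :=
    fun x hx => hnd.1 x (fun z => by rw [polarBilin_apply_apply]; exact hx z)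
  obtain ⟨u, hu⟩ : ∃ u : Unit ⊕ (Fin d ⊕ Fin d) → F, u = Pi.single (Sum.inl ()) 1 := ⟨_, rfl⟩
  obtain ⟨i0, -⟩ : ∃ i0 : Fin d, i0 = ⟨0, hd⟩ := ⟨_, rfl⟩
  obtain ⟨v, hv⟩ : ∃ v : Unit ⊕ (Fin d ⊕ Fin d) → F,
      v = Pi.single (Sum.inr (Sum.inl i0)) 1 + Pi.single (Sum.inr (Sum.inr i0)) 1 :=
    ⟨_, rfl⟩
  have hQu : OrthReal.oddQF d u = 1 := by
    rw [OrthReal.oddQF_apply, hu]
    unfold Cfsg.quadFormOdd
    simp
  have hQv : OrthReal.oddQF d v = 1 := by
    rw [OrthReal.oddQF_apply, hv]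
    unfold Cfsg.quadFormOdd
    rw [Finset.sum_eq_single i0]
    · simp
    · intro b _ hb
      simp [hb]
    · intro h
      exact absurd (Finset.mem_univ _) h
  have huv : polar (OrthReal.oddQF d (F := F)) u v = 0 := by
    rw [OrthReal.polar_oddQF, hu, hv]
    simp
  obtain ⟨x, hxΩ, hxy⟩ := exists_refl_pair (OrthReal.oddQF d (F := F)) h2 hnd u v hQu hQv huv
  have hy := pairMap_sq (OrthReal.oddQF d (F := F)) hQu hQv huv
  have hmov := pairMap_finrank_mov (OrthReal.oddQF d (F := F)) h2 hQu hQv huv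
  have hy1 : pairMap (OrthReal.oddQF d (F := F)) u v ≠ 1 := by
    intro h1
    have : movR (pairMap (OrthReal.oddQF d (F := F)) u v) = ⊥ := by
      rw [h1, eq_bot_iff]
      rintro _ ⟨z, rfl⟩
      simp
    rw [this, finrank_bot] at hmov
    omega
  have hxo := order_two_of_toLin x _ hxy hy hy1
  rw [coe_oddQF] at hxΩ
  obtain ⟨W, hW1, hW2, hW3⟩ := h x hxΩ hxo
  rw [hxy] at hW3
  have hiso : ∀ z, OrthReal.oddQF d (pairMap (OrthReal.oddQF d (F := F)) u v z) =
      OrthReal.oddQF d z := by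
    intro z
    rw [← hxy, OrthReal.oddQF_apply, OrthReal.oddQF_apply]
    exact toLin_iso _ x (iso_of_mem_omega _ x hxΩ) z
  have hdim : finrank F (Unit ⊕ (Fin d ⊕ Fin d) → F) = 2 * d + 1 := by
    rw [Module.finrank_fintype_fun_eq_card, card_idx_odd]
  have hb := aniso_bound_odd (OrthReal.oddQF d (F := F)) _ h2 hnd' hiso hy
    (pairMap_aniso _ hns hQu hQv huv) hmov d hdim W (forall_of_map_le W _ hW3)
    (fun w hw => by rw [OrthReal.oddQF_apply]; exact hW2 w hw)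
  omega

end s72two

end Cfsg.Agent.Lib.Helper24.Or
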