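/- helper24: orthogonal toolkit R: isometries with square minus one -/
import Mathlib
import Cfsg.Agent.Lib.Helper24.OrQ

set_option autoImplicit false

namespace Cfsg.Agent.Lib.Helper24.Or

open Module QuadraticMap Polynomial Cfsg.Agent.Lib.Helper12.Elus Cfsg.Agent.Lib.Helper12
  Cfsg.Agent.Lib.Helper15 Cfsg.Agent.Lib.Helper15.QuadType Cfsg.Agent.Lib.Helper15.OrthSemi
open scoped MatrixGroups Matrix

section sqneg

variable {F V : Type*} [Field F] [AddCommGroup V] [Module F V]
  (Q : QuadraticForm F V) (y : V →ₗ[F] V)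

omit Q in
/-- parity: an invariant subspace of a map with square `-1` has even dimension when `-1` is
not a square -/
theorem even_finrank_of_sq_neg [FiniteDimensional F V] (hns : ¬ IsSquare (-1 : F))
    (hy : ∀ v, y (y v) = -v) (U : Submodule F V) (hU : ∀ u ∈ U, y u ∈ U) :
    Even (finrank F U) := by
  by_contra hodd
  rw [Nat.not_even_iff_odd] at hodd
  apply hns
  have hT : (y.restrict hU) * (y.restrict hU) = (-1 : F) • (1 : End F U) := by
    apply LinearMap.ext
    intro u
    apply Subtype.ext
    simp [LinearMap.restrict_apply, hy]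
  have hdet := congrArg LinearMap.det hT
  rw [map_mul, LinearMap.det_smul, map_one, mul_one, hodd.neg_one_pow] at hdet
  exact ⟨LinearMap.det (y.restrict hU), hdet.symm⟩

/-- `y` is skew when `y² = -1` -/
theorem polar_self_map (h2 : (2 : F) ≠ 0) (hiso : ∀ v, Q (y v) = Q v) (hy : ∀ v, y (y v) = -v)
    (v : V) : polar Q v (y v) = 0 := by
  have h1 := Cfsg.Agent.Lib.Helper15.OrthSemi.polar_iso Q y hiso v (y v)
  rw [hy, polar_neg_right, polar_comm] at h1
  have h3 : (2 : F) * polar Q v (y v) = 0 := by linear_combination -h1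
  exact (mul_eq_zero.1 h3).resolve_left h2

omit Q in
theorem pair_invariant (hy : ∀ v, y (y v) = -v) (u : V) :
    ∀ z ∈ Submodule.span F (Set.range ![u, y u]), y z ∈ Submodule.span F (Set.range ![u, y u]) := by
  intro z hz
  obtain ⟨c, rfl⟩ := (Submodule.mem_span_range_iff_exists_fun F).1 hz
  rw [Fin.sum_univ_two, map_add, map_smul, map_smul]
  simp only [Matrix.cons_val_zero, Matrix.cons_val_one, hy]
  exact Submodule.add_mem _
    (Submodule.smul_mem _ _ (Submodule.subset_span ⟨1, rfl⟩))
    (Submodule.smul_mem _ _ (Submodule.neg_mem _ (Submodule.subset_span ⟨0, rfl⟩)))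

omit Q in
/-- invariant subspaces of every even dimension -/
theorem exists_inv_sub [FiniteDimensional F V] (hns : ¬ IsSquare (-1 : F))
    (hy : ∀ v, y (y v) = -v) (U : Submodule F V) (hU : ∀ u ∈ U, y u ∈ U) :
    ∀ k, 2 * k ≤ finrank F U → ∃ U' : Submodule F V, U' ≤ U ∧ (∀ u ∈ U', y u ∈ U') ∧
      finrank F U' = 2 * k := by
  intro k
  induction k with
  | zero =>
    intro _
    exact ⟨⊥, bot_le, fun u hu => by rw [(Submodule.mem_bot F).1 hu, map_zero]; exact zero_mem _,
      finrank_bot F V⟩
  | succ k ih =>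
    intro hk
    obtain ⟨U', hU'U, hU'inv, hU'dim⟩ := ih (by omega)
    have hne : U' ≠ U := by
      intro h
      rw [h] at hU'dim
      omega
    obtain ⟨u, huU, huU'⟩ := SetLike.exists_of_lt (lt_of_le_of_ne hU'U hne)
    have hPinv := pair_invariant y hy u
    have hPle : Submodule.span F (Set.range ![u, y u]) ≤ U := by
      rw [Submodule.span_le]
      rintro _ ⟨i, rfl⟩
      fin_cases i
      · exact huU
      · exact hU u huU
    have hinv := sup_invariant y U' _ hU'inv hPinv
    refine ⟨U' ⊔ Submodule.span F (Set.range ![u, y u]), sup_le hU'U hPle, hinv, ?_⟩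
    have hev := even_finrank_of_sq_neg y hns hy _ hinv
    have hlt : U' < U' ⊔ Submodule.span F (Set.range ![u, y u]) := by
      apply lt_of_le_of_ne le_sup_left
      intro h
      apply huU'
      rw [h]
      exact (le_sup_right : _ ≤ U' ⊔ Submodule.span F (Set.range ![u, y u]))
        (Submodule.subset_span ⟨0, rfl⟩)
    have h1 := Submodule.finrank_lt_finrank_of_lt hlt
    have h3 := Submodule.finrank_add_le_finrank_add_finrank U'
      (Submodule.span F (Set.range ![u, y u]))
    have h4 : finrank F (Submodule.span F (Set.range ![u, y u])) ≤ 2 := by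
      have := finrank_range_le_card (R := F) ![u, y u]
      rw [Fintype.card_fin] at this
      exact this
    obtain ⟨j, hj⟩ := hev
    omega

end sqneg

section sqneg2

variable {F V : Type*} [Field F] [Fintype F] [AddCommGroup V] [Module F V]
  [FiniteDimensional F V] (Q : QuadraticForm F V) (y : V →ₗ[F] V)

/-- an isometry with square `-1` (`-1` not a square) fixes totally singular subspaces of all
even dimensions below half the dimension -/
theorem sqneg_fix (h2 : (2 : F) ≠ 0) (hns : ¬ IsSquare (-1 : F))
    (hnd : ∀ x, (∀ z, polar Q x z = 0) → x = 0) (hiso : ∀ v, Q (y v) = Q v)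
    (hy : ∀ v, y (y v) = -v) (m : ℕ) (hm : Even m) (hmd : 2 * m + 2 ≤ finrank F V) :
    ∃ W : Submodule F V, finrank F W = m ∧ TS Q W ∧ ∀ u ∈ W, y u ∈ W := by
  have hy4 : y ^ 4 = 1 := by
    apply LinearMap.ext
    intro v
    have : y ^ 4 = y * y * (y * y) := by
      rw [← pow_two, ← pow_two, ← pow_mul]
    rw [this]
    simp [hy]
  have h40 : ((4 : ℕ) : F) ≠ 0 := by
    have : ((4 : ℕ) : F) = 2 * 2 := by norm_num
    rw [this]
    exact mul_ne_zero h2 h2
  obtain ⟨W₀, N, ⟨-, hWinv, hWts⟩, -, hNinv, hNnd, hdim, hno⟩ := exists_max_ts Q y hiso 4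
    (by norm_num) hy4 h40 ⊤ (fun _ _ => Submodule.mem_top) (ndOn_top_of_nondeg Q hnd)
  rw [finrank_top] at hdim
  have hN2 : finrank F N ≤ 2 := by
    by_contra hcon
    push Not at hcon
    obtain ⟨e, heN, he0, hQe⟩ := Helper15.exists_singular_in Q N (by omega)
    have hPinv := pair_invariant y hy e
    have hPle : Submodule.span F (Set.range ![e, y e]) ≤ N := by
      rw [Submodule.span_le]
      rintro _ ⟨i, rfl⟩
      fin_cases i
      · exact heN
      · exact hNinv e heN
    have hQye : Q (y e) = 0 := by rw [hiso, hQe]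
    have hpe := polar_self_map Q y h2 hiso hy e
    have hPts : TS Q (Submodule.span F (Set.range ![e, y e])) := by
      apply ts_span
      · intro i
        fin_cases i
        · exact hQe
        · exact hQye
      · intro i j
        fin_cases i <;> fin_cases j
        · simp [polar_self, hQe]
        · exact hpe
        · show polar Q (y e) e = 0
          rw [polar_comm]; exact hpe
        · simp [polar_self, hQye]
    have hbot := hno _ hPle hPinv hPts
    apply he0
    have : e ∈ Submodule.span F (Set.range ![e, y e]) := Submodule.subset_span ⟨0, rfl⟩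
    rw [hbot] at this
    exact (Submodule.mem_bot F).1 this
  obtain ⟨k, hk⟩ := hm
  obtain ⟨W, hWW₀, hWinv', hWdim⟩ := exists_inv_sub y hns hy W₀ hWinv k (by omega)
  exact ⟨W, by rw [hWdim, hk]; ring, hWts.mono Q hWW₀, hWinv'⟩

omit [Fintype F] in
/-- eigenspaces of an isometry with square `-1` when `-1` is a square -/
theorem sqneg_eig (h2 : (2 : F) ≠ 0) (ι0 : F) (hι : ι0 * ι0 = -1)
    (hiso : ∀ v, Q (y v) = Q v) (hy : ∀ v, y (y v) = -v) :
    ∃ E E' : Submodule F V, TS Q E ∧ TS Q E' ∧ (∀ U : Submodule F V, U ≤ E → ∀ u ∈ U, y u ∈ U) ∧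
      finrank F V ≤ finrank F E + finrank F E' := by
  have hι0 : ι0 ≠ 0 := by
    rintro rfl
    rw [mul_zero] at hι
    exact one_ne_zero (neg_eq_zero.1 hι.symm)
  have hts : ∀ c : F, c * c = -1 → TS Q (LinearMap.ker (y - c • (1 : End F V))) := by
    intro c hc v hv
    rw [LinearMap.mem_ker, LinearMap.sub_apply, LinearMap.smul_apply, Module.End.one_apply,
      sub_eq_zero] at hv
    have h1 := hiso v
    rw [hv, QuadraticMap.map_smul, hc, smul_eq_mul] at h1
    have h3 : (2 : F) * Q v = 0 := by linear_combination -h1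
    exact (mul_eq_zero.1 h3).resolve_left h2
  refine ⟨LinearMap.ker (y - ι0 • (1 : End F V)), LinearMap.ker (y - (-ι0) • (1 : End F V)),
    hts ι0 hι, hts (-ι0) (by rw [neg_mul_neg, hι]), ?_, ?_⟩
  · intro U hU u hu
    have := hU hu
    rw [LinearMap.mem_ker, LinearMap.sub_apply, LinearMap.smul_apply, Module.End.one_apply,
      sub_eq_zero] at this
    rw [this]
    exact U.smul_mem _ hu
  · have hsup : LinearMap.ker (y - ι0 • (1 : End F V)) ⊔
        LinearMap.ker (y - (-ι0) • (1 : End F V)) = ⊤ := by
      rw [eq_top_iff]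
      intro v _
      rw [Submodule.mem_sup]
      refine ⟨(2 : F)⁻¹ • (v - ι0 • y v), ?_, (2 : F)⁻¹ • (v + ι0 • y v), ?_, ?_⟩
      · rw [LinearMap.mem_ker, LinearMap.sub_apply, LinearMap.smul_apply, Module.End.one_apply,
          map_smul, map_sub, map_smul, hy, sub_eq_zero]
        linear_combination (norm := module) ((2 : F)⁻¹ * hι) • y v
      · rw [LinearMap.mem_ker, LinearMap.sub_apply, LinearMap.smul_apply, Module.End.one_apply,
          map_smul, map_add, map_smul, hy, sub_eq_zero]
        linear_combination (norm := module) ((2 : F)⁻¹ * hι) • y v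
      · rw [← smul_add]
        have : v - ι0 • y v + (v + ι0 • y v) = (2 : F) • v := by rw [two_smul]; abel
        rw [this, smul_smul, inv_mul_cancel₀ h2, one_smul]
    have := Submodule.finrank_add_le_finrank_add_finrank
      (LinearMap.ker (y - ι0 • (1 : End F V))) (LinearMap.ker (y - (-ι0) • (1 : End F V)))
    rw [hsup, finrank_top] at this
    exact this

end sqneg2

end Cfsg.Agent.Lib.Helper24.Or
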