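/- helper24: orthogonal toolkit S: Hermitian orthogonal bases, spinor norm of isometries with square minus one -/
import Mathlib
import Cfsg.Agent.Lib.Helper24.OrR

set_option autoImplicit false

namespace Cfsg.Agent.Lib.Helper24.Or

open Module QuadraticMap Polynomial Cfsg.Agent.Lib.Helper12.Elus Cfsg.Agent.Lib.Helper12
  Cfsg.Agent.Lib.Helper15 Cfsg.Agent.Lib.Helper15.QuadType Cfsg.Agent.Lib.Helper15.OrthSemi
open scoped MatrixGroups Matrix

section herm

variable {F V : Type*} [Field F] [AddCommGroup V] [Module F V] [FiniteDimensional F V]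
  (Q : QuadraticForm F V) (y : V →ₗ[F] V)

omit [FiniteDimensional F V] in
theorem pB_iso (hiso : ∀ v, Q (y v) = Q v) (u v : V) : polar Q (y u) (y v) = polar Q u v :=
  Cfsg.Agent.Lib.Helper15.OrthSemi.polar_iso Q y hiso u v

/-- a "Hermitian orthogonal basis": the space is the orthogonal sum of the planes
`⟨v i, y (v i)⟩` -/
theorem exists_herm_basis (h2 : (2 : F) ≠ 0) (hns : ¬ IsSquare (-1 : F))
    (hiso : ∀ v, Q (y v) = Q v) (hy : ∀ v, y (y v) = -v) :
    ∀ (k : ℕ) (C : Submodule F V), Un.NdOn (pB Q) C → (∀ u ∈ C, y u ∈ C) →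
      finrank F C = 2 * k →
      ∃ v : Fin k → V, (∀ i, v i ∈ C) ∧ (∀ i, Q (v i) ≠ 0) ∧
        (∀ i j, i ≠ j → polar Q (v i) (v j) = 0) ∧ (∀ i j, polar Q (v i) (y (v j)) = 0) := by
  intro k
  induction k with
  | zero =>
    intro C _ _ _
    exact ⟨fun i => i.elim0, fun i => i.elim0, fun i => i.elim0, fun i => i.elim0,
      fun i => i.elim0⟩
  | succ k ih =>
    intro C hC hCinv hdim
    have hy4 : y ^ 4 = 1 := by
      apply LinearMap.ext
      intro v
      have : y ^ 4 = y * y * (y * y) := by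
        rw [← pow_two, ← pow_two, ← pow_mul]
      rw [this]
      simp [hy]
    -- a nonsingular vector
    obtain ⟨v₀, hv₀C, hQv₀⟩ : ∃ v₀ ∈ C, Q v₀ ≠ 0 := by
      by_contra hcon
      push Not at hcon
      have hts : TS Q C := hcon
      have hbot : C = ⊥ := by
        rw [eq_bot_iff]
        intro c hc
        by_contra hc0
        obtain ⟨c', hc', hne⟩ := hC c hc (by simpa using hc0)
        exact hne (hts.polar_zero Q c c' hc hc')
      rw [hbot, finrank_bot] at hdim
      omega
    have hskew := polar_self_map Q y h2 hiso hy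
    obtain ⟨P, hP⟩ : ∃ P : Submodule F V, P = Submodule.span F {v₀} ⊔ Submodule.span F {y v₀} :=
      ⟨_, rfl⟩
    have hPC : P ≤ C := by
      rw [hP]
      apply sup_le
      · rw [Submodule.span_le]
        intro x hx
        rw [Set.mem_singleton_iff.1 hx]; exact hv₀C
      · rw [Submodule.span_le]
        intro x hx
        rw [Set.mem_singleton_iff.1 hx]; exact hCinv _ hv₀C
    have hPinv : ∀ u ∈ P, y u ∈ P := by
      rw [hP]
      intro u hu
      obtain ⟨a, ha, b, hb, rfl⟩ := Submodule.mem_sup.1 hu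
      obtain ⟨s, rfl⟩ := Submodule.mem_span_singleton.1 ha
      obtain ⟨t, rfl⟩ := Submodule.mem_span_singleton.1 hb
      rw [map_add, map_smul, map_smul, hy, add_comm]
      exact Submodule.add_mem _
        ((le_sup_left : Submodule.span F {v₀} ≤ _)
          (Submodule.smul_mem _ _ (Submodule.neg_mem _ (Submodule.mem_span_singleton_self _))))
        ((le_sup_right : Submodule.span F {y v₀} ≤ _)
          (Submodule.smul_mem _ _ (Submodule.mem_span_singleton_self _)))
    have hpp : ∀ u : V, Q u ≠ 0 → pB Q u u ≠ 0 := by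
      intro u hu
      rw [pB_apply, polar_self]
      simpa using mul_ne_zero h2 hu
    have hPnd : Un.NdOn (pB Q) P := by
      rw [hP]
      apply Un.ndOn_sup (pB Q) (pB_sym Q) _ _ (Un.ndOn_span_singleton (pB Q) v₀ (hpp v₀ hQv₀))
        (Un.ndOn_span_singleton (pB Q) (y v₀) (hpp _ (by rw [hiso]; exact hQv₀)))
      intro a ha c hc
      obtain ⟨s, rfl⟩ := Submodule.mem_span_singleton.1 ha
      obtain ⟨t, rfl⟩ := Submodule.mem_span_singleton.1 hc
      rw [pB_apply, polar_smul_left, polar_smul_right, hskew]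
      simp
    have hv₀P : v₀ ∈ P := by
      rw [hP]
      exact (le_sup_left : Submodule.span F {v₀} ≤ _) (Submodule.mem_span_singleton_self _)
    have hyv₀P : y v₀ ∈ P := hPinv _ hv₀P
    have hPdim : finrank F P = 2 := by
      have hev := even_finrank_of_sq_neg y hns hy P hPinv
      have hle : finrank F P ≤ 2 := by
        rw [hP]
        have h1 := Submodule.finrank_add_le_finrank_add_finrank (Submodule.span F {v₀})
          (Submodule.span F {y v₀})
        have h3 : finrank F (Submodule.span F {v₀}) ≤ 1 := by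
          have := finrank_span_le_card (R := F) ({v₀} : Set V)
          simpa using this
        have h4 : finrank F (Submodule.span F {y v₀}) ≤ 1 := by
          have := finrank_span_le_card (R := F) ({y v₀} : Set V)
          simpa using this
        omega
      have hpos : 0 < finrank F P := by
        rw [Module.finrank_pos_iff_exists_ne_zero]
        refine ⟨⟨v₀, hv₀P⟩, ?_⟩
        intro h
        have : v₀ = 0 := congrArg Subtype.val h
        rw [this, QuadraticMap.map_zero] at hQv₀
        exact hQv₀ rfl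
      obtain ⟨j, hj⟩ := hev
      omega
    have hC'nd := Un.ndOn_inf_orth (pB Q) id_invol (pB_sym Q) C P hC hPC hPnd
    have hC'dim := Un.finrank_inf_orth (pB Q) id_invol (pB_sym Q) C P hPC hPnd
    have hC'inv : ∀ u ∈ C ⊓ Un.orth (pB Q) P, y u ∈ C ⊓ Un.orth (pB Q) P := by
      intro u hu
      exact ⟨hCinv u hu.1, Un.orth_invariant (pB Q) y (polar_iso Q y hiso) 4 (by norm_num) hy4 P
        hPinv u hu.2⟩
    obtain ⟨v', hv'C, hv'Q, hv'orth, hv'y⟩ := ih (C ⊓ Un.orth (pB Q) P) hC'nd hC'inv (by omega)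
    have h0j : ∀ j, polar Q v₀ (v' j) = 0 := fun j => (hv'C j).2 v₀ hv₀P
    have hy0j : ∀ j, polar Q (y v₀) (v' j) = 0 := fun j => (hv'C j).2 (y v₀) hyv₀P
    refine ⟨Fin.cons v₀ v', ?_, ?_, ?_, ?_⟩
    · intro i
      refine Fin.cases ?_ (fun j => ?_) i
      · exact hv₀C
      · exact (hv'C j).1
    · intro i
      refine Fin.cases ?_ (fun j => ?_) i
      · exact hQv₀
      · exact hv'Q j
    · intro i j
      refine Fin.cases ?_ (fun i' => ?_) i <;> refine Fin.cases ?_ (fun j' => ?_) j
      · intro hij; exact absurd rfl hij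
      · intro _
        rw [Fin.cons_zero, Fin.cons_succ]
        exact h0j j'
      · intro _
        rw [Fin.cons_zero, Fin.cons_succ, polar_comm]
        exact h0j i'
      · intro hij
        rw [Fin.cons_succ, Fin.cons_succ]
        exact hv'orth i' j' (fun h => hij (by rw [h]))
    · intro i j
      refine Fin.cases ?_ (fun i' => ?_) i <;> refine Fin.cases ?_ (fun j' => ?_) j
      · rw [Fin.cons_zero]
        exact hskew v₀
      · rw [Fin.cons_zero, Fin.cons_succ]
        have h1 := pB_iso Q y hiso (y v₀) (v' j')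
        rw [hy, polar_neg_left, hy0j] at h1
        exact neg_eq_zero.1 h1
      · rw [Fin.cons_zero, Fin.cons_succ, polar_comm]
        exact hy0j i'
      · rw [Fin.cons_succ, Fin.cons_succ]
        exact hv'y i' j'

end herm

section spinor

open Cfsg.Agent.Lib.Helper25.Spin Cfsg.Agent.Lib.Helper25.CD

variable {F V : Type*} [Field F] [AddCommGroup V] [Module F V] (Q : QuadraticForm F V)

theorem orthE_perp {J : Type*} [Fintype J] (w : J → V) (E : V → V)
    (hE : ∀ x, E x = x - ∑ j, ((Q (w j))⁻¹ * polar Q (w j) x) • w j) (z : V)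
    (hz : ∀ j, polar Q (w j) z = 0) : E z = z := by
  rw [hE, Finset.sum_eq_zero, sub_zero]
  intro j _
  rw [hz j, mul_zero, zero_smul]

theorem orthE_self {J : Type*} [Fintype J] [DecidableEq J] (w : J → V) (E : V → V)
    (hE : ∀ x, E x = x - ∑ j, ((Q (w j))⁻¹ * polar Q (w j) x) • w j)
    (horth : ∀ i j, i ≠ j → polar Q (w i) (w j) = 0) (hne : ∀ j, Q (w j) ≠ 0) (k : J) :
    E (w k) = -w k := by
  rw [hE, Finset.sum_eq_single k]
  · rw [polar_self]
    have : ((Q (w k))⁻¹ * (2 • Q (w k))) = 2 := by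
      have := hne k
      rw [nsmul_eq_mul]
      field_simp
      push_cast
      ring
    rw [this, two_smul]
    abel
  · intro j _ hjk
    rw [horth j k hjk, mul_zero, zero_smul]
  · intro h
    exact absurd (Finset.mem_univ k) h

end spinor

section kl4

open Cfsg.Agent.Lib.Helper25.Spin Cfsg.Agent.Lib.Helper25.CD

variable {F : Type*} [Field F] [Fintype F] {ι : Type} [Fintype ι] [DecidableEq ι]
  (Qs : QuadraticForm F (ι → F))

/-- the spinor norm of an isometry with square `-1` is `2 ^ d` -/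
theorem sqneg_mem_omega_iff (h2 : (2 : F) ≠ 0) (hns : ¬ IsSquare (-1 : F))
    (hQ : (polarBilin Qs).Nondegenerate) (y : (ι → F) →ₗ[F] (ι → F))
    (hiso : ∀ v, Qs (y v) = Qs v) (hy : ∀ v, y (y v) = -v) (d : ℕ)
    (hcard : Fintype.card ι = 2 * d) :
    (∃ g : ↥(Cfsg.isometryGroup F ⇑Qs), g ∈ Cfsg.Omega F ⇑Qs ∧
      ((g : GL ι F) : Matrix ι ι F) = LinearMap.toMatrix' y) ↔ IsSquare ((2 : F) ^ d) := by
  classical
  have hnd : ∀ u, (∀ z, polar Qs u z = 0) → u = 0 :=
    fun u hu => hQ.1 u (fun z => by rw [polarBilin_apply_apply]; exact hu z)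
  have hdim : finrank F (ι → F) = 2 * d := by
    rw [Module.finrank_fintype_fun_eq_card, hcard]
  obtain ⟨v, -, hvQ, hvorth, hvy⟩ := exists_herm_basis Qs y h2 hns hiso hy d ⊤
    (ndOn_top_of_nondeg Qs hnd) (fun _ _ => Submodule.mem_top) (by rw [finrank_top, hdim])
  have hyv : ∀ i j, polar Qs (y (v i)) (v j) = 0 := by
    intro i j
    rw [polar_comm]; exact hvy j i
  have hyy : ∀ i j, polar Qs (y (v i)) (y (v j)) = polar Qs (v i) (v j) :=
    fun i j => pB_iso Qs y hiso _ _
  obtain ⟨wA, hwA⟩ : ∃ wA : Fin d → (ι → F), wA = fun j => v j + y (v j) := ⟨_, rfl⟩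
  have hQA : ∀ j, Qs (wA j) = 2 * Qs (v j) := by
    intro j
    have : Qs (v j + y (v j)) = Qs (v j) + Qs (y (v j)) + polar Qs (v j) (y (v j)) := by
      rw [QuadraticMap.polar]; ring
    rw [hwA]
    simp only
    rw [this, hiso, hvy]
    ring
  have hAne : ∀ j, Qs (wA j) ≠ 0 := fun j => by rw [hQA]; exact mul_ne_zero h2 (hvQ j)
  have hAorth : ∀ i j, i ≠ j → polar Qs (wA i) (wA j) = 0 := by
    intro i j hij
    rw [hwA]
    simp only
    rw [polar_add_left, polar_add_right, polar_add_right, hvorth i j hij, hvy, hyv, hyy,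
      hvorth i j hij]
    simp
  obtain ⟨vsA, hA1, hA2, hA3, hA4⟩ := exists_orth_word Qs wA Finset.univ (fun j _ => hAne j)
    (fun i _ j _ hij => hAorth i j hij)
  obtain ⟨vsB, hB1, hB2, hB3, hB4⟩ := exists_orth_word Qs v Finset.univ (fun j _ => hvQ j)
    (fun i _ j _ hij => hvorth i j hij)
  -- the basis
  have horth' : ∀ a b : Fin d ⊕ Fin d, a ≠ b →
      polar Qs (Sum.elim v (fun j => y (v j)) a) (Sum.elim v (fun j => y (v j)) b) = 0 := by
    rintro (i | i) (j | j) hab
    · exact hvorth i j (fun h => hab (by rw [h]))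
    · exact hvy i j
    · exact hyv i j
    · simp only [Sum.elim_inr]
      rw [hyy]
      exact hvorth i j (fun h => hab (by rw [h]))
  have hne' : ∀ a : Fin d ⊕ Fin d, Qs (Sum.elim v (fun j => y (v j)) a) ≠ 0 := by
    rintro (i | i)
    · exact hvQ i
    · simp only [Sum.elim_inr]
      rw [hiso]; exact hvQ i
  have hli := orth_linearIndependent h2 Qs _ horth' hne'
  have hcard' : Fintype.card (Fin d ⊕ Fin d) = finrank F (ι → F) := by
    rw [hdim]; simp; ring
  obtain ⟨b, hb⟩ : ∃ b : Basis (Fin d ⊕ Fin d) F (ι → F), ⇑b = Sum.elim v (fun j => y (v j)) :=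
    ⟨basisOfLinearIndependentOfCardEqFinrank' _ hli hcard',
      coe_basisOfLinearIndependentOfCardEqFinrank' _ hli hcard'⟩
  have hperp : ∀ j k, polar Qs (wA j) (v k - y (v k)) = 0 := by
    intro j k
    rw [hwA]
    simp only
    rw [polar_add_left, polar_sub_right, polar_sub_right, hvy, hyv, hyy]
    ring
  have hEAw : ∀ k, wordProd Qs vsA (wA k) = -wA k :=
    fun k => orthE_self Qs wA _ hA4 hAorth hAne k
  have hEAp : ∀ k, wordProd Qs vsA (v k - y (v k)) = v k - y (v k) :=
    fun k => orthE_perp Qs wA _ hA4 _ (fun j => hperp j k)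
  have hdecomp1 : ∀ k, v k = (2 : F)⁻¹ • wA k + (2 : F)⁻¹ • (v k - y (v k)) := by
    intro k
    rw [hwA, ← smul_add]
    have : v k + y (v k) + (v k - y (v k)) = (2 : F) • v k := by rw [two_smul]; abel
    rw [this, smul_smul, inv_mul_cancel₀ h2, one_smul]
  have hdecomp2 : ∀ k, y (v k) = (2 : F)⁻¹ • wA k - (2 : F)⁻¹ • (v k - y (v k)) := by
    intro k
    rw [hwA, ← smul_sub]
    have : v k + y (v k) - (v k - y (v k)) = (2 : F) • y (v k) := by rw [two_smul]; abel
    rw [this, smul_smul, inv_mul_cancel₀ h2, one_smul]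
  have hEAv : ∀ k, wordProd Qs vsA (v k) = -y (v k) := by
    intro k
    conv_lhs => rw [hdecomp1 k]
    rw [map_add, map_smul, map_smul, hEAw, hEAp]
    conv_rhs => rw [hdecomp2 k]
    rw [smul_neg]
    abel
  have hEAyv : ∀ k, wordProd Qs vsA (y (v k)) = -v k := by
    intro k
    conv_lhs => rw [hdecomp2 k]
    rw [map_sub, map_smul, map_smul, hEAw, hEAp]
    conv_rhs => rw [hdecomp1 k]
    rw [smul_neg]
    abel
  have hEBv : ∀ k, wordProd Qs vsB (v k) = -v k :=
    fun k => orthE_self Qs v _ hB4 hvorth hvQ k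
  have hEByv : ∀ k, wordProd Qs vsB (y (v k)) = y (v k) :=
    fun k => orthE_perp Qs v _ hB4 _ (fun j => hvy j k)
  have hkey : y = ((wordProd Qs (vsA ++ vsB) : (ι → F) ≃ₗ[F] (ι → F)) :
      (ι → F) →ₗ[F] (ι → F)) := by
    apply b.ext
    intro a
    rw [hb, LinearEquiv.coe_coe, wordProd_append, LinearEquiv.mul_apply]
    rcases a with k | k
    · simp only [Sum.elim_inl]
      rw [hEBv, map_neg, hEAv, neg_neg]
    · simp only [Sum.elim_inr]
      rw [hEByv, hEAyv, hy]
  have hvs : ∀ u ∈ vsA ++ vsB, Qs u ≠ 0 := by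
    intro u hu
    rcases List.mem_append.1 hu with h | h
    · exact hA1 u h
    · exact hB1 u h
  rw [word_mem_omega_iff Qs h2 hQ hvs (fun x => by
    rw [← Matrix.toLin'_apply, Matrix.toLin'_toMatrix']
    conv_lhs => rw [hkey]
    rfl), List.length_append, hA2, hB2, Finset.card_univ, Fintype.card_fin, normProd_append, hA3,
    hB3]
  have hprod : (∏ j, Qs (wA j)) * ∏ j, Qs (v j) = (∏ j, Qs (v j)) ^ 2 * (2 : F) ^ d := by
    have : ∏ j, Qs (wA j) = (2 : F) ^ d * ∏ j, Qs (v j) := by
      rw [Finset.prod_congr rfl (fun j _ => hQA j), Finset.prod_mul_distrib, Finset.prod_const,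
        Finset.card_univ, Fintype.card_fin]
    rw [this]
    ring
  rw [hprod, isSquare_sq_mul_iff (Finset.prod_ne_zero_iff.2 (fun j _ => hvQ j))]
  exact ⟨fun h => h.2, fun h => ⟨⟨d, rfl⟩, h⟩⟩

end kl4

end Cfsg.Agent.Lib.Helper24.Or
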