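/- helper24: orthogonal toolkit T: the type of a space with an isometry of square minus one (counting) -/
import Mathlib
import Cfsg.Agent.Lib.Helper24.OrS
import Cfsg.Agent.Lib.Helper24.Or72

set_option autoImplicit false

namespace Cfsg.Agent.Lib.Helper24.Or

open Module QuadraticMap Polynomial Cfsg.Agent.Lib.Helper12.Elus Cfsg.Agent.Lib.Helper12
  Cfsg.Agent.Lib.Helper15 Cfsg.Agent.Lib.Helper15.QuadType Cfsg.Agent.Lib.Helper15.OrthSemi
open scoped MatrixGroups Matrix

section count4

/-- a permutation of order four acting freely: the cardinality is divisible by four -/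
theorem four_dvd_card_of_perm {L : Type*} [Finite L] (σ : Equiv.Perm L)
    (h2 : ∀ v, σ (σ v) ≠ v) (h4 : ∀ v, σ (σ (σ (σ v))) = v) : 4 ∣ Nat.card L := by
  rcases isEmpty_or_nonempty L with he | ⟨⟨v₀⟩⟩
  · rw [Nat.card_of_isEmpty]
    exact dvd_zero 4
  have hσ4 : σ ^ 4 = 1 := by
    apply Equiv.ext
    intro v
    have : σ ^ 4 = σ * (σ * (σ * σ)) := by
      rw [pow_succ', pow_succ', pow_succ', pow_one]
    rw [this]
    exact h4 v
  have hσ2 : ¬ σ ^ 2 = 1 := by
    intro h
    have := congrArg (fun τ : Equiv.Perm L => τ v₀) h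
    rw [pow_two] at this
    exact h2 v₀ this
  have hord : orderOf σ = 4 := by
    have := orderOf_eq_prime_pow (p := 2) (n := 1) (x := σ) (by simpa using hσ2) (by
      norm_num
      exact hσ4)
    simpa using this
  have h1 : ∀ v, σ v ≠ v := by
    intro v h
    apply h2 v
    rw [h, h]
  have h3 : ∀ v, σ (σ (σ v)) ≠ v := by
    intro v h
    apply h1 v
    have := h4 v
    rw [h] at this
    exact this
  have hfree : ∀ b : L, MulAction.stabilizer (Subgroup.zpowers σ) b = ⊥ := by
    intro b
    rw [eq_bot_iff]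
    rintro ⟨g, hg⟩ hgb
    rw [MulAction.mem_stabilizer_iff] at hgb
    have hgb' : g b = b := hgb
    obtain ⟨k, rfl⟩ := Subgroup.mem_zpowers_iff.1 hg
    rw [Subgroup.mem_bot]
    apply Subtype.ext
    show σ ^ k = 1
    rw [← zpow_mod_orderOf, hord] at hgb' ⊢
    simp only [Nat.cast_ofNat] at hgb' ⊢
    have hk0 : 0 ≤ k % 4 := Int.emod_nonneg _ (by norm_num)
    have hk4 : k % 4 < 4 := Int.emod_lt_of_pos _ (by norm_num)
    obtain ⟨j, hj⟩ : ∃ j : ℕ, k % 4 = j := ⟨(k % 4).toNat, (Int.toNat_of_nonneg hk0).symm⟩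
    rw [hj] at hgb' ⊢
    rw [zpow_natCast] at hgb' ⊢
    have hj4 : j < 4 := by omega
    interval_cases j
    · rfl
    · exact absurd (by simpa using hgb') (h1 b)
    · exact absurd (by simpa [pow_two] using hgb') (h2 b)
    · exfalso
      apply h3 b
      have : σ ^ 3 = σ * (σ * σ) := by
        rw [pow_succ', pow_succ', pow_one]
      rw [this] at hgb'
      exact hgb'
  have e := MulAction.selfEquivOrbitsQuotientProd hfree
  rw [Nat.card_congr e, Nat.card_prod, Nat.card_zpowers, hord]
  exact dvd_mul_left 4 _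

variable {F V : Type*} [Field F] [Fintype F] [AddCommGroup V] [Module F V]
  [FiniteDimensional F V] (Q : QuadraticForm F V) (y : V →ₗ[F] V)

/-- the level sets of an isometry with square `-1` have size divisible by four -/
theorem four_dvd_card_level (h2 : (2 : F) ≠ 0) (hiso : ∀ v, Q (y v) = Q v)
    (hy : ∀ v, y (y v) = -v) (c : F) (hc : c ≠ 0) : 4 ∣ Nat.card {v : V // Q v = c} := by
  have : Finite V := Module.finite_of_finite F
  let σ : Equiv.Perm {v : V // Q v = c} :=
    { toFun := fun v => ⟨y v.1, by rw [hiso]; exact v.2⟩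
      invFun := fun v => ⟨-y v.1, by rw [QuadraticMap.map_neg, hiso]; exact v.2⟩
      left_inv := by
        intro v
        apply Subtype.ext
        show -y (y v.1) = v.1
        rw [hy, neg_neg]
      right_inv := by
        intro v
        apply Subtype.ext
        show y (-y v.1) = v.1
        rw [map_neg, hy, neg_neg] }
  have hσ : ∀ v, ((σ v : {v : V // Q v = c}) : V) = y v.1 := fun v => rfl
  apply four_dvd_card_of_perm σ
  · intro v h
    have h1 := congrArg Subtype.val h
    rw [hσ, hσ, hy] at h1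
    have h3 : (2 : F) • v.1 = 0 := by
      rw [two_smul]
      nth_rw 1 [← h1]
      exact neg_add_cancel _
    have h4 : v.1 = 0 := (smul_eq_zero.1 h3).resolve_left h2
    have := v.2
    rw [h4, QuadraticMap.map_zero] at this
    exact hc this.symm
  · intro v
    apply Subtype.ext
    rw [hσ, hσ, hσ, hσ, hy, hy, neg_neg]

/-- the type of a space admitting an isometry with square `-1`, `q ≡ 3 (mod 4)` -/
theorem type_of_sqneg (hq : Fintype.card F % 4 = 3) (hiso : ∀ v, Q (y v) = Q v)
    (hy : ∀ v, y (y v) = -v) (d : ℕ) (ε : ℤ) (hε : ε = 1 ∨ ε = -1)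
    (ht : HasType ε d (fun v => Q v)) : (Even d → ε = 1) ∧ (Odd d → ε = -1) := by
  have h2 : (2 : F) ≠ 0 := by
    apply two_ne_zero_odd
    rw [Nat.odd_iff]
    omega
  obtain ⟨N, hN⟩ := four_dvd_card_level Q y h2 hiso hy 1 one_ne_zero
  have h1 := ht.2 1 one_ne_zero
  rw [hN] at h1
  -- reduce modulo 4
  have hz : ((Fintype.card F : ℕ) : ZMod 4) = -1 := by
    have : ((Fintype.card F : ℕ) : ZMod 4) = ((Fintype.card F % 4 : ℕ) : ZMod 4) := by
      rw [ZMod.natCast_mod]
    rw [this, hq]
    decide
  have h3 := congrArg (Int.cast : ℤ → ZMod 4) h1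
  push_cast at h3
  have h40 : (4 : ZMod 4) = 0 := by decide
  rw [hz, h40, zero_mul, mul_zero, mul_comm 2 d, pow_mul] at h3
  have hsq : ((-1 : ZMod 4) ^ d) ^ 2 = 1 := by
    rw [← pow_mul, mul_comm, pow_mul]
    norm_num
  rw [hsq] at h3
  constructor
  · intro hev
    rw [hev.neg_one_pow, mul_one] at h3
    rcases hε with rfl | rfl
    · rfl
    · exfalso
      revert h3
      decide
  · intro hodd
    rw [hodd.neg_one_pow] at h3
    rcases hε with rfl | rfl
    · exfalso
      revert h3
      decide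
    · rfl

end count4

end Cfsg.Agent.Lib.Helper24.Or
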