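/- helper24: orthogonal toolkit U: the sum-of-squares model, existence of elements of Omega with square minus one -/
import Mathlib
import Cfsg.Agent.Lib.Helper24.OrT

set_option autoImplicit false

namespace Cfsg.Agent.Lib.Helper24.Or

open Module QuadraticMap Polynomial Cfsg.Agent.Lib.Helper12.Elus Cfsg.Agent.Lib.Helper12
  Cfsg.Agent.Lib.Helper15 Cfsg.Agent.Lib.Helper15.QuadType Cfsg.Agent.Lib.Helper15.OrthSemi
open scoped MatrixGroups Matrix

universe u

section model

variable {F : Type u} [Field F]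

/-- the sum of squares in dimension `2d` -/
noncomputable def sumSqQF (d : ℕ) : QuadraticForm F (Fin d ⊕ Fin d → F) :=
  ∑ k : Fin d ⊕ Fin d, QuadraticMap.proj k k

theorem sumSqQF_apply (d : ℕ) (v : Fin d ⊕ Fin d → F) : sumSqQF d v = ∑ k, v k * v k := by
  unfold sumSqQF
  rw [_root_.sum_apply]
  simp only [QuadraticMap.proj_apply]

theorem polar_sumSqQF (d : ℕ) (u v : Fin d ⊕ Fin d → F) :
    polar (sumSqQF d (F := F)) u v = 2 * ∑ k, u k * v k := by
  simp only [polar, sumSqQF_apply, Pi.add_apply]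
  rw [← Finset.sum_sub_distrib, ← Finset.sum_sub_distrib, Finset.mul_sum]
  refine Finset.sum_congr rfl fun i _ => ?_
  ring

theorem sumSqQF_nondegenerate (h2 : (2 : F) ≠ 0) (d : ℕ) :
    (polarBilin (sumSqQF d (F := F))).Nondegenerate := by
  classical
  have key : ∀ x : Fin d ⊕ Fin d → F, (∀ y, polar (sumSqQF d (F := F)) x y = 0) → x = 0 := by
    intro x hx
    funext k
    have := hx (Pi.single k 1)
    rw [polar_sumSqQF, Finset.sum_eq_single k] at this
    · simpa [h2] using this
    · intro j _ hjk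
      simp [hjk]
    · intro h
      exact absurd (Finset.mem_univ k) h
  constructor
  · intro x hx
    exact key x (fun y => by rw [← polarBilin_apply_apply]; exact hx y)
  · intro y hy
    exact key y (fun x => by rw [polar_comm, ← polarBilin_apply_apply]; exact hy x)

/-- the rotation by a quarter turn in all coordinate planes -/
noncomputable def quarterMap (d : ℕ) : (Fin d ⊕ Fin d → F) →ₗ[F] (Fin d ⊕ Fin d → F) :=
  LinearMap.pi (fun k => Sum.elim (fun i => -LinearMap.proj (Sum.inr i))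
    (fun i => LinearMap.proj (Sum.inl i)) k)

theorem quarterMap_inl (d : ℕ) (v : Fin d ⊕ Fin d → F) (i : Fin d) :
    quarterMap d v (Sum.inl i) = -v (Sum.inr i) := by
  simp [quarterMap]

theorem quarterMap_inr (d : ℕ) (v : Fin d ⊕ Fin d → F) (i : Fin d) :
    quarterMap d v (Sum.inr i) = v (Sum.inl i) := by
  simp [quarterMap]

theorem quarterMap_iso (d : ℕ) (v : Fin d ⊕ Fin d → F) :
    sumSqQF d (quarterMap d v) = sumSqQF d v := by
  rw [sumSqQF_apply, sumSqQF_apply, Fintype.sum_sum_type, Fintype.sum_sum_type]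
  simp only [quarterMap_inl, quarterMap_inr]
  rw [add_comm]
  congr 1
  refine Finset.sum_congr rfl fun i _ => ?_
  ring

theorem quarterMap_sq (d : ℕ) (v : Fin d ⊕ Fin d → F) :
    quarterMap d (quarterMap d v) = -v := by
  funext k
  rcases k with i | i
  · rw [quarterMap_inl, quarterMap_inr, Pi.neg_apply]
  · rw [quarterMap_inr, quarterMap_inl, Pi.neg_apply]

end model

section exist

variable {F : Type u} [Field F] [Fintype F] {ι : Type} [Fintype ι] [DecidableEq ι]
  (Qs : QuadraticForm F (ι → F))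

omit [Fintype ι] [DecidableEq ι] in
/-- existence of an isometry with square `-1` on a space of the right type -/
theorem exists_sqneg (hq : Fintype.card F % 4 = 3) (d : ℕ) (ε : ℤ)
    (hεd : (Even d → ε = 1) ∧ (Odd d → ε = -1))
    (huniv : ∀ (V' : Type u) [AddCommGroup V'] [Module F V'] [FiniteDimensional F V']
      (Q' : QuadraticForm F V'), (polarBilin Q').Nondegenerate → finrank F V' = 2 * d →
      HasType ε d (fun v => Q' v) → ∃ e : V' ≃ₗ[F] (ι → F), ∀ v, Qs (e v) = Q' v) :
    ∃ y : (ι → F) →ₗ[F] (ι → F), (∀ v, Qs (y v) = Qs v) ∧ ∀ v, y (y v) = -v := by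
  have h2 : (2 : F) ≠ 0 := by
    apply two_ne_zero_odd
    rw [Nat.odd_iff]
    omega
  have hnd := sumSqQF_nondegenerate (F := F) h2 d
  have hdim : finrank F (Fin d ⊕ Fin d → F) = 2 * d := by
    rw [Module.finrank_fintype_fun_eq_card, card_idx_plus]
  obtain ⟨ε', hε', ht'⟩ := hasType_of_nondeg (sumSqQF d (F := F)) hnd d hdim
  obtain ⟨h1, h3⟩ := type_of_sqneg (sumSqQF d (F := F)) (quarterMap d) hq (quarterMap_iso d)
    (quarterMap_sq d) d ε' hε' ht'
  have hεε : ε' = ε := by
    rcases Nat.even_or_odd d with hev | hodd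
    · rw [h1 hev, hεd.1 hev]
    · rw [h3 hodd, hεd.2 hodd]
  rw [hεε] at ht'
  obtain ⟨e, he⟩ := huniv _ (sumSqQF d (F := F)) hnd hdim ht'
  refine ⟨e.conj (quarterMap d), ?_, ?_⟩
  · intro v
    rw [LinearEquiv.conj_apply]
    simp only [LinearMap.comp_apply, LinearEquiv.coe_coe]
    rw [he, quarterMap_iso, ← he, LinearEquiv.apply_symm_apply]
  · intro v
    rw [LinearEquiv.conj_apply]
    simp only [LinearMap.comp_apply, LinearEquiv.coe_coe, LinearEquiv.symm_apply_apply]
    rw [quarterMap_sq, map_neg, LinearEquiv.apply_symm_apply]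

/-- an element of `Ω` with square `-1` -/
theorem exists_sqneg_omega (hq : Fintype.card F % 4 = 3)
    (hQ : (polarBilin Qs).Nondegenerate) (d : ℕ) (hcard : Fintype.card ι = 2 * d) (ε : ℤ)
    (hεd : (Even d → ε = 1) ∧ (Odd d → ε = -1))
    (huniv : ∀ (V' : Type u) [AddCommGroup V'] [Module F V'] [FiniteDimensional F V']
      (Q' : QuadraticForm F V'), (polarBilin Q').Nondegenerate → finrank F V' = 2 * d →
      HasType ε d (fun v => Q' v) → ∃ e : V' ≃ₗ[F] (ι → F), ∀ v, Qs (e v) = Q' v)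
    (hsq : IsSquare ((2 : F) ^ d)) :
    ∃ x : GL ι F, x ∈ Cfsg.Geo.omegaGL ⇑Qs ∧
      ∀ v, Matrix.toLin' (x : Matrix ι ι F) (Matrix.toLin' (x : Matrix ι ι F) v) = -v := by
  have h2 : (2 : F) ≠ 0 := by
    apply two_ne_zero_odd
    rw [Nat.odd_iff]
    omega
  have hns : ¬ IsSquare (-1 : F) := by
    rw [FiniteField.isSquare_neg_one_iff]
    omega
  obtain ⟨y, hiso, hy⟩ := exists_sqneg Qs hq d ε hεd huniv
  obtain ⟨g, hg, hgy⟩ := (sqneg_mem_omega_iff Qs h2 hns hQ y hiso hy d hcard).2 hsq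
  refine ⟨(g : GL ι F), Subgroup.mem_map.2 ⟨g, hg, rfl⟩, ?_⟩
  intro v
  rw [hgy, Matrix.toLin'_toMatrix', hy]

end exist

section cases2

variable {F : Type u} [Field F] {ι : Type} [Fintype ι] [DecidableEq ι]

/-- an isometry whose square is scalar: the square is `1` or `-1` -/
theorem scalar_sq_cases (Qs : QuadraticForm F (ι → F)) (v₀ : ι → F) (hv₀ : Qs v₀ ≠ 0)
    (x : GL ι F) (hx : x ∈ Cfsg.isometryGroup F ⇑Qs)
    (z : F) (hz : ((x ^ 2 : GL ι F) : Matrix ι ι F) = z • (1 : Matrix ι ι F)) :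
    (Matrix.toLin' (x : Matrix ι ι F)) ^ 2 = 1 ∨
      ∀ v, Matrix.toLin' (x : Matrix ι ι F) (Matrix.toLin' (x : Matrix ι ι F) v) = -v := by
  have hiso : ∀ v, Qs (Matrix.toLin' (x : Matrix ι ι F) v) = Qs v := toLin_iso _ x hx
  have hpow : (Matrix.toLin' (x : Matrix ι ι F)) ^ 2 = z • (1 : End F (ι → F)) := by
    rw [← Matrix.toLin'_pow, ← Units.val_pow_eq_pow_val, hz, map_smul, Matrix.toLin'_one]
    rfl
  have happ : ∀ v, Matrix.toLin' (x : Matrix ι ι F) (Matrix.toLin' (x : Matrix ι ι F) v) =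
      z • v := by
    intro v
    have := congrArg (fun f : End F (ι → F) => f v) hpow
    simpa [pow_two] using this
  have hz2 : z * z = 1 := by
    have h1 : Qs (z • v₀) = Qs v₀ := by rw [← happ, hiso, hiso]
    rw [QuadraticMap.map_smul, smul_eq_mul] at h1
    exact mul_right_cancel₀ hv₀ (by rw [h1, one_mul])
  rcases mul_self_eq_one_iff.1 hz2 with rfl | rfl
  · left
    rw [hpow, one_smul]
  · right
    intro v
    rw [happ, neg_one_smul]

/-- an element with square `-1` (as a linear map) has scalar square and is not scalar, and its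
invariant subspaces have even dimension -/
theorem sqneg_props (hns : ¬ IsSquare (-1 : F)) [Nonempty ι] (x : GL ι F)
    (hy : ∀ v, Matrix.toLin' (x : Matrix ι ι F) (Matrix.toLin' (x : Matrix ι ι F) v) = -v) :
    (∃ z : F, ((x ^ 2 : GL ι F) : Matrix ι ι F) = z • (1 : Matrix ι ι F)) ∧
    (∀ z : F, (x : Matrix ι ι F) ≠ z • (1 : Matrix ι ι F)) ∧
    ∀ W : Submodule F (ι → F), W.map (Matrix.toLin' (x : Matrix ι ι F)) ≤ W →
      Even (finrank F W) := by
  refine ⟨⟨-1, ?_⟩, ?_, ?_⟩
  · apply Matrix.toLin'.injective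
    apply LinearMap.ext
    intro v
    rw [Units.val_pow_eq_pow_val, Matrix.toLin'_pow, pow_two, Module.End.mul_apply, hy, map_smul,
      Matrix.toLin'_one]
    simp
  · intro z hz
    apply hns
    obtain ⟨k⟩ := (inferInstance : Nonempty ι)
    have h1 := hy (Pi.single k 1)
    rw [hz, map_smul, Matrix.toLin'_one] at h1
    simp only [LinearMap.smul_apply, LinearMap.id_apply, smul_smul] at h1
    have h3 := congrFun h1 k
    simp only [Pi.smul_apply, Pi.single_eq_same, Pi.neg_apply, smul_eq_mul, mul_one] at h3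
    exact ⟨z, h3.symm⟩
  · intro W hW
    exact even_finrank_of_sq_neg _ hns hy W (forall_of_map_le W _ hW)

end cases2

end Cfsg.Agent.Lib.Helper24.Or
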