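/- helper24: orthogonal toolkit, statement S5973: the prime two -/
import Mathlib
import Cfsg.Agent.Lib.Helper24.OrU

set_option autoImplicit false

namespace Cfsg.Agent.Lib.Helper24.Or

open Module QuadraticMap Polynomial Cfsg.Agent.Lib.Helper12.Elus Cfsg.Agent.Lib.Helper12
  Cfsg.Agent.Lib.Helper15 Cfsg.Agent.Lib.Helper15.QuadType Cfsg.Agent.Lib.Helper15.OrthSemi
open scoped MatrixGroups Matrix

universe u

section s73two

variable {F : Type u} [Field F] [Fintype F]

theorem odd_card_of_char_ne_two {p : ℕ} [Fact p.Prime] [CharP F p] (hp2 : p ≠ 2) :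
    Odd (Fintype.card F) := by
  obtain ⟨k, -, hk⟩ := FiniteField.card F p
  rw [hk]
  exact Odd.pow ((Fact.out : p.Prime).odd_of_ne_two hp2)

/-- S5973, `r = 2`, backward direction -/
theorem bwd73_two (h2 : (2 : F) ≠ 0) (d m : ℕ) (hd : 1 ≤ d) (hmd : m + 1 ≤ d)
    (hcond : Fintype.card F % 4 = 1 ∨
      (Fintype.card F % 4 = 3 ∧ m + 2 ≤ d ∧ (Even m ∨ (2 * d) % 4 = 2)))
    (x : GL (Fin d ⊕ Fin d) F) (hx : x ∈ Cfsg.Geo.omegaGL (Cfsg.quadFormPlus d F))
    (hxr : ∃ z : F, ((x ^ 2 : GL (Fin d ⊕ Fin d) F) : Matrix (Fin d ⊕ Fin d) (Fin d ⊕ Fin d) F) =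
        z • (1 : Matrix (Fin d ⊕ Fin d) (Fin d ⊕ Fin d) F)) :
    ∃ W : Submodule F (Fin d ⊕ Fin d → F), finrank F W = m ∧
        (∀ w ∈ W, Cfsg.quadFormPlus d F w = 0) ∧
        W.map (Matrix.toLin' (x : Matrix (Fin d ⊕ Fin d) (Fin d ⊕ Fin d) F)) ≤ W := by
  classical
  have hnd := plusQF_nondegenerate (F := F) d
  have hnd' : ∀ x, (∀ z, polar (plusQF d (F := F)) x z = 0) → x = 0 :=
    fun x hx => hnd.1 x (fun z => by rw [polarBilin_apply_apply]; exact hx z)
  have hx' : x ∈ Cfsg.Geo.omegaGL ⇑(plusQF d (F := F)) := by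
    rw [coe_plusQF]; exact hx
  have hxiso := iso_of_mem_omega _ x hx'
  have hiso : ∀ v, plusQF d (Matrix.toLin' (x : Matrix _ _ F) v) = plusQF d v :=
    fun v => toLin_iso _ x hxiso v
  have hdim : finrank F (Fin d ⊕ Fin d → F) = 2 * d := by
    rw [Module.finrank_fintype_fun_eq_card, card_idx_plus]
  obtain ⟨v₀, hv₀⟩ := plus_nonzero (F := F) d hd
  obtain ⟨z, hz⟩ := hxr
  have key : ∃ W : Submodule F (Fin d ⊕ Fin d → F), finrank F W = m ∧
      TS (plusQF d) W ∧ ∀ u ∈ W, Matrix.toLin' (x : Matrix _ _ F) u ∈ W := by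
    rcases scalar_sq_cases (plusQF d (F := F)) v₀ hv₀ x hxiso z hz with hinv | hneg
    · rcases hcond with h41 | ⟨h43, hm2, -⟩
      · have hsq : IsSquare (-1 : F) := by
          rw [FiniteField.isSquare_neg_one_iff]; omega
        exact omega_invol_fix _ h2 hnd x hx' hinv hsq m (by rw [card_idx_plus]; omega)
      · exact invol_fix_generic _ _ h2 hnd' hiso hinv m (Or.inl (by rw [hdim]; omega))
    · rcases hcond with h41 | ⟨h43, hm2, hpar⟩
      · have hsq : IsSquare (-1 : F) := by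
          rw [FiniteField.isSquare_neg_one_iff]; omega
        obtain ⟨ι0, hι0⟩ := hsq
        obtain ⟨E, E', hE, hE', hEinv, hEdim⟩ := sqneg_eig (plusQF d (F := F)) _ h2 ι0 hι0.symm
          hiso hneg
        have h1 := PolarForms.ts_le (plusQF d (F := F)) hnd d hdim E hE
        have h3 := PolarForms.ts_le (plusQF d (F := F)) hnd d hdim E' hE'
        obtain ⟨W, hWE, hWdim⟩ := Sp.exists_sub_finrank E m (by omega)
        exact ⟨W, hWdim, hE.mono _ hWE, hEinv W hWE⟩
      · have hns : ¬ IsSquare (-1 : F) := by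
          rw [FiniteField.isSquare_neg_one_iff]; omega
        rcases hpar with hev | hd4
        · exact sqneg_fix _ _ h2 hns hnd' hiso hneg m hev (by rw [hdim]; omega)
        · exfalso
          have hodd : Odd d := by
            rw [Nat.odd_iff]; omega
          have := (type_of_sqneg (plusQF d (F := F)) _ h43 hiso hneg d 1 (Or.inl rfl)
            (hasType_plusQF d)).2 hodd
          norm_num at this
  obtain ⟨W, hW1, hW2, hW3⟩ := key
  refine ⟨W, hW1, ?_, map_le_of_forall W _ hW3⟩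
  intro w hw
  rw [← plusQF_eq]
  exact hW2 w hw

omit [Fintype F] in
/-- a scalar map has moved space zero or everything -/
theorem finrank_mov_scalar {V : Type*} [AddCommGroup V] [Module F V] [FiniteDimensional F V]
    (z : F) : finrank F (movR (z • (1 : End F V))) = 0 ∨
      finrank F (movR (z • (1 : End F V))) = finrank F V := by
  by_cases hz : z = 1
  · left
    have : movR (z • (1 : End F V)) = ⊥ := by
      rw [eq_bot_iff]
      rintro _ ⟨v, rfl⟩
      simp [hz]
    rw [this, finrank_bot]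
  · right
    have : movR (z • (1 : End F V)) = ⊤ := by
      rw [eq_top_iff]
      intro v _
      refine ⟨(z - 1)⁻¹ • v, ?_⟩
      simp only [LinearMap.sub_apply, LinearMap.smul_apply, Module.End.one_apply]
      rw [smul_smul, ← sub_smul]
      have : z * (z - 1)⁻¹ - (z - 1)⁻¹ = 1 := by
        have := sub_ne_zero.2 hz
        field_simp
      rw [this, one_smul]
    rw [this, finrank_top]

/-- S5973, `r = 2`, forward direction -/
theorem fwd73_two (h2 : (2 : F) ≠ 0) (hodd : Odd (Fintype.card F)) (d m : ℕ) (hd : 2 ≤ d)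
    (h : ∀ x : GL (Fin d ⊕ Fin d) F, x ∈ Cfsg.Geo.omegaGL (Cfsg.quadFormPlus d F) →
      (∃ z : F, ((x ^ 2 : GL (Fin d ⊕ Fin d) F) : Matrix (Fin d ⊕ Fin d) (Fin d ⊕ Fin d) F) =
        z • (1 : Matrix (Fin d ⊕ Fin d) (Fin d ⊕ Fin d) F)) →
      (∀ z : F, (x : Matrix (Fin d ⊕ Fin d) (Fin d ⊕ Fin d) F) ≠
        z • (1 : Matrix (Fin d ⊕ Fin d) (Fin d ⊕ Fin d) F)) →
      ∃ W : Submodule F (Fin d ⊕ Fin d → F), finrank F W = m ∧
        (∀ w ∈ W, Cfsg.quadFormPlus d F w = 0) ∧
        W.map (Matrix.toLin' (x : Matrix (Fin d ⊕ Fin d) (Fin d ⊕ Fin d) F)) ≤ W) :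
    Fintype.card F % 4 = 1 ∨
      (Fintype.card F % 4 = 3 ∧ m + 2 ≤ d ∧ (Even m ∨ (2 * d) % 4 = 2)) := by
  classical
  by_cases h41 : Fintype.card F % 4 = 1
  · exact Or.inl h41
  right
  have h43 : Fintype.card F % 4 = 3 := by
    obtain ⟨k, hk⟩ := hodd
    omega
  have hns : ¬ IsSquare (-1 : F) := by
    rw [FiniteField.isSquare_neg_one_iff]; omega
  have hnd := plusQF_nondegenerate (F := F) d
  have hnd' : ∀ x, (∀ z, polar (plusQF d (F := F)) x z = 0) → x = 0 :=
    fun x hx => hnd.1 x (fun z => by rw [polarBilin_apply_apply]; exact hx z)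
  have hdim : finrank F (Fin d ⊕ Fin d → F) = 2 * d := by
    rw [Module.finrank_fintype_fun_eq_card, card_idx_plus]
  have hne : Nonempty (Fin d ⊕ Fin d) := ⟨Sum.inl ⟨0, by omega⟩⟩
  refine ⟨h43, ?_, ?_⟩
  · -- the product of two reflections with anisotropic moved plane
    obtain ⟨i0, hi0⟩ : ∃ i0 : Fin d, i0 = ⟨0, by omega⟩ := ⟨_, rfl⟩
    obtain ⟨i1, hi1⟩ : ∃ i1 : Fin d, i1 = ⟨1, by omega⟩ := ⟨_, rfl⟩
    obtain ⟨u, hu⟩ : ∃ u : Fin d ⊕ Fin d → F,
        u = Pi.single (Sum.inl i0) 1 + Pi.single (Sum.inr i0) 1 := ⟨_, rfl⟩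
    obtain ⟨v, hv⟩ : ∃ v : Fin d ⊕ Fin d → F,
        v = Pi.single (Sum.inl i1) 1 + Pi.single (Sum.inr i1) 1 := ⟨_, rfl⟩
    have hQ1 : ∀ i : Fin d, plusQF d (F := F)
        (Pi.single (Sum.inl i) 1 + Pi.single (Sum.inr i) 1) = 1 := by
      intro i
      rw [plusQF_eq]
      unfold Cfsg.quadFormPlus
      rw [Finset.sum_eq_single i]
      · simp
      · intro b _ hb
        simp [hb]
      · intro h
        exact absurd (Finset.mem_univ _) h
    have hQu : plusQF d u = 1 := by rw [hu]; exact hQ1 i0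
    have hQv : plusQF d v = 1 := by rw [hv]; exact hQ1 i1
    have h01 : i1 ≠ ⟨0, by omega⟩ := by
      rw [hi1]
      intro h
      have := congrArg Fin.val h
      simp at this
    have huv : polar (plusQF d (F := F)) u v = 0 := by
      rw [polar_plusQF', hu, hv]
      apply Finset.sum_eq_zero
      intro i _
      have hne : i0 ≠ i1 := by rw [hi0]; exact fun h => h01 h.symm
      by_cases h0 : i = i0
      · subst h0
        simp [hne]
      · simp [h0]
    obtain ⟨x, hxΩ, hxy⟩ := exists_refl_pair (plusQF d (F := F)) h2 hnd u v hQu hQv huv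
    have hy := pairMap_sq (plusQF d (F := F)) hQu hQv huv
    have hmov := pairMap_finrank_mov (plusQF d (F := F)) h2 hQu hQv huv
    rw [coe_plusQF] at hxΩ
    have hx2 : ∃ z : F, ((x ^ 2 : GL (Fin d ⊕ Fin d) F) :
        Matrix (Fin d ⊕ Fin d) (Fin d ⊕ Fin d) F) =
        z • (1 : Matrix (Fin d ⊕ Fin d) (Fin d ⊕ Fin d) F) := by
      refine ⟨1, ?_⟩
      apply Matrix.toLin'.injective
      rw [Units.val_pow_eq_pow_val, Matrix.toLin'_pow, hxy, hy, one_smul, Matrix.toLin'_one]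
      rfl
    have hxns : ∀ z : F, (x : Matrix (Fin d ⊕ Fin d) (Fin d ⊕ Fin d) F) ≠
        z • (1 : Matrix (Fin d ⊕ Fin d) (Fin d ⊕ Fin d) F) := by
      intro z hz
      have h1 : pairMap (plusQF d (F := F)) u v = z • (1 : End F (Fin d ⊕ Fin d → F)) := by
        rw [← hxy, hz, map_smul, Matrix.toLin'_one]
        rfl
      rw [h1] at hmov
      rcases finrank_mov_scalar (F := F) (V := Fin d ⊕ Fin d → F) z with h0 | h0
      · omega
      · rw [hdim] at h0
        omega
    obtain ⟨W, hW1, hW2, hW3⟩ := h x hxΩ hx2 hxns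
    rw [hxy] at hW3
    have hiso : ∀ z, plusQF d (pairMap (plusQF d (F := F)) u v z) = plusQF d z := by
      intro z
      rw [← hxy, plusQF_eq, plusQF_eq]
      exact toLin_iso _ x (iso_of_mem_omega _ x hxΩ) z
    have hb := aniso_bound_plus (plusQF d (F := F)) _ h2 hnd' hiso hy
      (pairMap_aniso _ hns hQu hQv huv) hmov d hdim (hasType_plusQF d) W
      (forall_of_map_le W _ hW3) (fun w hw => by rw [plusQF_eq]; exact hW2 w hw)
    omega
  · -- an element with square `-1`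
    by_contra hcon
    push Not at hcon
    obtain ⟨hmodd, hd4⟩ := hcon
    have hdev : Even d := by
      rw [Nat.even_iff]; omega
    obtain ⟨e, he⟩ := hdev
    obtain ⟨x, hxΩ, hxy⟩ := exists_sqneg_omega (plusQF d (F := F)) h43 hnd d (card_idx_plus d) 1
      ⟨fun _ => rfl, fun ho => absurd ⟨e, he⟩ (Nat.not_even_iff_odd.2 ho)⟩ (by
        intro V' _ _ _ Q' hnd'' hdim'' ht''
        obtain ⟨b, hb⟩ := univ_plus Q' hnd'' d (by omega) hdim'' ht''
        exact ⟨b.equivFun, fun v => by rw [plusQF_eq]; exact hb v⟩) ⟨(2 : F) ^ e, by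
        rw [he, pow_add]⟩
    rw [coe_plusQF] at hxΩ
    obtain ⟨hx2, hxns, hpar⟩ := sqneg_props hns x hxy
    obtain ⟨W, hW1, -, hW3⟩ := h x hxΩ hx2 hxns
    have := hpar W hW3
    rw [hW1] at this
    exact hmodd this


end s73two

end Cfsg.Agent.Lib.Helper24.Or
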