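/- helper24: orthogonal toolkit, statement S5987 -/
import Mathlib
import Cfsg.Agent.Lib.Helper24.Or73

set_option autoImplicit false

namespace Cfsg.Agent.Lib.Helper24.Or

open Module QuadraticMap Polynomial Cfsg.Agent.Lib.Helper12.Elus Cfsg.Agent.Lib.Helper12
  Cfsg.Agent.Lib.Helper15 Cfsg.Agent.Lib.Helper15.QuadType Cfsg.Agent.Lib.Helper15.OrthSemi
open scoped MatrixGroups Matrix

universe u

section invminus

variable {F V : Type*} [Field F] [Fintype F] [AddCommGroup V] [Module F V]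
  [FiniteDimensional F V] (Q : QuadraticForm F V) (y : V →ₗ[F] V)

/-- minus type: every involution fixes totally singular subspaces of all non-maximal
dimensions -/
theorem invol_fix_minus (h2 : (2 : F) ≠ 0) (hnd : ∀ x, (∀ z, polar Q x z = 0) → x = 0)
    (hiso : ∀ v, Q (y v) = Q v) (hy : y ^ 2 = 1) (d : ℕ) (hV : finrank F V = 2 * d)
    (ht : HasType (-1) d (fun v => Q v)) (m : ℕ) (hm : m + 1 ≤ d) :
    ∃ W : Submodule F V, finrank F W = m ∧ TS Q W ∧ ∀ u ∈ W, y u ∈ W := by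
  have : Fact (Nat.Prime 2) := ⟨Nat.prime_two⟩
  have hr0 : ((2 : ℕ) : F) ≠ 0 := by exact_mod_cast h2
  rcases Nat.even_or_odd (finrank F (fixE y)) with hev | hodd
  swap
  · exact invol_fix_generic Q y h2 hnd hiso hy m (Or.inr ⟨hodd, by omega⟩)
  have hsum := finrank_fix_add_mov' y 2 hy hr0
  have hndp := nd15_of_un Q _ (ndOn_fix Q y 2 hnd hiso hy hr0)
  have hndm := nd15_of_un Q _ (ndOn_mov Q y 2 hnd hiso hy hr0)
  obtain ⟨a, ha⟩ := hev
  obtain ⟨b, hb⟩ : ∃ b, finrank F (movR y) = 2 * b := ⟨d - a, by omega⟩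
  have hab : a + b = d := by omega
  have : Finite (fixE y) := Module.finite_of_finite F
  have : Finite (movR y) := Module.finite_of_finite F
  obtain ⟨εp, hεp, htp⟩ := hasType_of_nondeg (resQ Q (fixE y))
    (nondegenerate_resQ Q _ hndp) a (by omega)
  obtain ⟨εm, hεm, htm⟩ := hasType_of_nondeg (resQ Q (movR y))
    (nondegenerate_resQ Q _ hndm) b hb
  have hdisj : fixE y ⊓ movR y = ⊥ := fix_inf_mov y 2 hy hr0
  have hsup : fixE y ⊔ movR y = ⊤ := by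
    have := Sp.inv_split y 2 hy hr0 ⊤ (fun _ _ => Submodule.mem_top)
    rwa [top_inf_eq, top_inf_eq] at this
  have hsp := hasType_of_split Q (fixE y) (movR y) hsup hdisj
    (fun a ha b hb => Un.fix_orth_mov (pB Q) y (polar_iso Q y hiso) a b ha hb) htp htm
  rw [hab] at hsp
  have huniq := ht.unique hsp
  obtain ⟨Up', hUp', hpts', hp1', -⟩ := exists_ts_half Q (fixE y) hndp
  obtain ⟨Um', hUm', hmts', hm1', -⟩ := exists_ts_half Q (movR y) hndm
  rcases hεp with rfl | rfl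
  · obtain ⟨Up, hUp, hpts, hpdim⟩ := exists_ts_sub_plus Q (fixE y) hndp a (by omega) htp
    exact invol_fix_of_ts Q y h2 hiso hy Up Um' hUp hUm' hpts hmts' m (by omega)
  · rcases hεm with rfl | rfl
    · obtain ⟨Um, hUm, hmts, hmdim⟩ := exists_ts_sub_plus Q (movR y) hndm b hb htm
      exact invol_fix_of_ts Q y h2 hiso hy Up' Um hUp' hUm hpts' hmts m (by omega)
    · norm_num at huniq

end invminus

section s87two

variable {F : Type u} [Field F] [Fintype F]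

theorem isSquare_two_of_pow (h2 : (2 : F) ≠ 0) (d : ℕ) (hodd : Odd d)
    (h : IsSquare ((2 : F) ^ d)) : IsSquare (2 : F) := by
  obtain ⟨e, rfl⟩ := hodd
  have : (2 : F) ^ (2 * e + 1) = ((2 : F) ^ e) ^ 2 * 2 := by
    rw [pow_succ, pow_mul, pow_two, pow_two, mul_pow]
  rw [this, Cfsg.Agent.Lib.Helper25.Spin.isSquare_sq_mul_iff (pow_ne_zero _ h2)] at h
  exact h

/-- S5987, `r = 2`, backward direction -/
theorem bwd87_two (h2 : (2 : F) ≠ 0) (k m : ℕ) (hmd : m ≤ k) (a b : F)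
    (hab : ∀ x y : F, x ^ 2 + a * x * y + b * y ^ 2 = 0 → x = 0 ∧ y = 0)
    (hcond : Even (k + 1) ∨ Even m ∨ Fintype.card F % 8 ≠ 7)
    (x : GL ((Fin k ⊕ Fin k) ⊕ Fin 2) F)
    (hx : x ∈ Cfsg.Geo.omegaGL (Cfsg.quadFormMinus k F a b))
    (hxr : ∃ z : F, ((x ^ 2 : GL ((Fin k ⊕ Fin k) ⊕ Fin 2) F) :
        Matrix ((Fin k ⊕ Fin k) ⊕ Fin 2) ((Fin k ⊕ Fin k) ⊕ Fin 2) F) =
        z • (1 : Matrix ((Fin k ⊕ Fin k) ⊕ Fin 2) ((Fin k ⊕ Fin k) ⊕ Fin 2) F)) :
    ∃ W : Submodule F ((Fin k ⊕ Fin k) ⊕ Fin 2 → F), finrank F W = m ∧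
        (∀ w ∈ W, Cfsg.quadFormMinus k F a b w = 0) ∧
        W.map (Matrix.toLin' (x : Matrix ((Fin k ⊕ Fin k) ⊕ Fin 2)
          ((Fin k ⊕ Fin k) ⊕ Fin 2) F)) ≤ W := by
  classical
  have hnd := minusQF_nd k a b hab
  have hnd' : ∀ x, (∀ z, polar (minusQFab k a b) x z = 0) → x = 0 :=
    fun x hx => hnd.1 x (fun z => by rw [polarBilin_apply_apply]; exact hx z)
  have hx' : x ∈ Cfsg.Geo.omegaGL ⇑(minusQFab k a b) := by
    rw [coe_minusQF]; exact hx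
  have hxiso := iso_of_mem_omega _ x hx'
  have hiso : ∀ v, minusQFab k a b (Matrix.toLin' (x : Matrix _ _ F) v) = minusQFab k a b v :=
    fun v => toLin_iso _ x hxiso v
  have hdim : finrank F ((Fin k ⊕ Fin k) ⊕ Fin 2 → F) = 2 * (k + 1) := by
    rw [Module.finrank_fintype_fun_eq_card, card_idx_minus]
  obtain ⟨v₀, hv₀⟩ := minus_nonzero (F := F) k a b
  obtain ⟨z, hz⟩ := hxr
  have ht := hasType_minusQF k a b hab
  have key : ∃ W : Submodule F ((Fin k ⊕ Fin k) ⊕ Fin 2 → F), finrank F W = m ∧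
      TS (minusQFab k a b) W ∧ ∀ u ∈ W, Matrix.toLin' (x : Matrix _ _ F) u ∈ W := by
    rcases scalar_sq_cases (minusQFab k a b) v₀ hv₀ x hxiso z hz with hinv | hneg
    · exact invol_fix_minus _ _ h2 hnd' hiso hinv (k + 1) hdim ht m (by omega)
    · by_cases hsq : IsSquare (-1 : F)
      · exfalso
        obtain ⟨ι0, hι0⟩ := hsq
        obtain ⟨E, E', hE, hE', -, hEdim⟩ := sqneg_eig (minusQFab k a b) _ h2 ι0 hι0.symm
          hiso hneg
        have h1 := ts_minus_le k a b hab E (fun u hu => by rw [← minusQFab_eq]; exact hE u hu)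
        have h3 := ts_minus_le k a b hab E' (fun u hu => by rw [← minusQFab_eq]; exact hE' u hu)
        omega
      · have h43 : Fintype.card F % 4 = 3 := by
          rw [FiniteField.isSquare_neg_one_iff] at hsq
          omega
        have hty := type_of_sqneg (minusQFab k a b) _ h43 hiso hneg (k + 1) (-1) (Or.inr rfl) ht
        have hodd : Odd (k + 1) := by
          rw [← Nat.not_even_iff_odd]
          intro hev
          have := hty.1 hev
          norm_num at this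
        rcases hcond with hev | hev | h8
        · exact absurd hev (Nat.not_even_iff_odd.2 hodd)
        · exact sqneg_fix _ _ h2 hsq hnd' hiso hneg m hev (by rw [hdim]; omega)
        · exfalso
          have hΩ : ∃ g : ↥(Cfsg.isometryGroup F ⇑(minusQFab k a b)),
              g ∈ Cfsg.Omega F ⇑(minusQFab k a b) ∧
              ((g : GL ((Fin k ⊕ Fin k) ⊕ Fin 2) F) :
                Matrix ((Fin k ⊕ Fin k) ⊕ Fin 2) ((Fin k ⊕ Fin k) ⊕ Fin 2) F) =
                LinearMap.toMatrix' (Matrix.toLin' (x : Matrix ((Fin k ⊕ Fin k) ⊕ Fin 2)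
                  ((Fin k ⊕ Fin k) ⊕ Fin 2) F)) := by
            obtain ⟨A, hA, rfl⟩ := Subgroup.mem_map.1 hx'
            exact ⟨A, hA, by rw [LinearMap.toMatrix'_toLin']; rfl⟩
          have h2d := (sqneg_mem_omega_iff (minusQFab k a b) h2 hsq hnd _ hiso hneg (k + 1)
            (card_idx_minus k)).1 hΩ
          have h22 := isSquare_two_of_pow h2 (k + 1) hodd h2d
          rw [FiniteField.isSquare_two_iff] at h22
          omega
  obtain ⟨W, hW1, hW2, hW3⟩ := key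
  refine ⟨W, hW1, ?_, map_le_of_forall W _ hW3⟩
  intro w hw
  rw [← minusQFab_eq]
  exact hW2 w hw

/-- S5987, `r = 2`, forward direction -/
theorem fwd87_two (k m : ℕ) (a b : F)
    (hab : ∀ x y : F, x ^ 2 + a * x * y + b * y ^ 2 = 0 → x = 0 ∧ y = 0)
    (h : ∀ x : GL ((Fin k ⊕ Fin k) ⊕ Fin 2) F,
      x ∈ Cfsg.Geo.omegaGL (Cfsg.quadFormMinus k F a b) →
      (∃ z : F, ((x ^ 2 : GL ((Fin k ⊕ Fin k) ⊕ Fin 2) F) :
        Matrix ((Fin k ⊕ Fin k) ⊕ Fin 2) ((Fin k ⊕ Fin k) ⊕ Fin 2) F) =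
        z • (1 : Matrix ((Fin k ⊕ Fin k) ⊕ Fin 2) ((Fin k ⊕ Fin k) ⊕ Fin 2) F)) →
      (∀ z : F, (x : Matrix ((Fin k ⊕ Fin k) ⊕ Fin 2) ((Fin k ⊕ Fin k) ⊕ Fin 2) F) ≠
        z • (1 : Matrix ((Fin k ⊕ Fin k) ⊕ Fin 2) ((Fin k ⊕ Fin k) ⊕ Fin 2) F)) →
      ∃ W : Submodule F ((Fin k ⊕ Fin k) ⊕ Fin 2 → F), finrank F W = m ∧
        (∀ w ∈ W, Cfsg.quadFormMinus k F a b w = 0) ∧
        W.map (Matrix.toLin' (x : Matrix ((Fin k ⊕ Fin k) ⊕ Fin 2)
          ((Fin k ⊕ Fin k) ⊕ Fin 2) F)) ≤ W) :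
    Even (k + 1) ∨ Even m ∨ Fintype.card F % 8 ≠ 7 := by
  classical
  by_contra hcon
  push Not at hcon
  obtain ⟨hdodd, hmodd, h87⟩ := hcon
  rw [Nat.not_even_iff_odd] at hdodd
  have h43 : Fintype.card F % 4 = 3 := by omega
  have hns : ¬ IsSquare (-1 : F) := by
    rw [FiniteField.isSquare_neg_one_iff]; omega
  have h2sq : IsSquare (2 : F) := by
    rw [FiniteField.isSquare_two_iff]; omega
  have hnd := minusQF_nd k a b hab
  have hne : Nonempty ((Fin k ⊕ Fin k) ⊕ Fin 2) := ⟨Sum.inr 0⟩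
  obtain ⟨x, hxΩ, hxy⟩ := exists_sqneg_omega (minusQFab k a b) h43 hnd (k + 1)
    (card_idx_minus k) (-1)
    ⟨fun hev => absurd hev (Nat.not_even_iff_odd.2 hdodd), fun _ => rfl⟩ (by
      intro V' _ _ _ Q' hnd'' hdim'' ht''
      obtain ⟨bs, hbs⟩ := univ_minus Q' hnd'' k hdim'' ht'' hab
      exact ⟨bs.equivFun, fun v => by rw [minusQFab_eq]; exact hbs v⟩) (by
      obtain ⟨s, hs⟩ := h2sq
      exact ⟨s ^ (k + 1), by rw [hs, mul_pow]⟩)
  rw [coe_minusQF] at hxΩ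
  obtain ⟨hx2, hxns, hpar⟩ := sqneg_props hns x hxy
  obtain ⟨W, hW1, -, hW3⟩ := h x hxΩ hx2 hxns
  have := hpar W hW3
  rw [hW1] at this
  exact hmodd this

end s87two

section main87

variable {F : Type u} [Field F] [Fintype F] {p : ℕ} [Fact p.Prime] [CharP F p]

/-- S5987 with `d = k + 1` -/
theorem main87 (k m : ℕ) (hk : 3 ≤ k) (hm : 1 ≤ m) (hmd : m ≤ k) (a b : F)
    (hab : ∀ x y : F, x ^ 2 + a * x * y + b * y ^ 2 = 0 → x = 0 ∧ y = 0)
    (r : ℕ) [Fact r.Prime]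
    (hrΩ : r ∣ Nat.card {W : Submodule F ((Fin k ⊕ Fin k) ⊕ Fin 2 → F) //
      Module.finrank F ↥W = m ∧
        Cfsg.Geo.IsTotallySingularQuad (Cfsg.quadFormMinus k F a b) W})
    (c : ℕ)
    (hc : c = if Even (orderOf (Fintype.card F : ZMod r)) then orderOf (Fintype.card F : ZMod r)
      else 2 * orderOf (Fintype.card F : ZMod r)) :
    (∀ x : GL ((Fin k ⊕ Fin k) ⊕ Fin 2) F,
      x ∈ Cfsg.Geo.omegaGL (Cfsg.quadFormMinus k F a b) →
      (∃ z : F, ((x ^ r : GL ((Fin k ⊕ Fin k) ⊕ Fin 2) F) :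
        Matrix ((Fin k ⊕ Fin k) ⊕ Fin 2) ((Fin k ⊕ Fin k) ⊕ Fin 2) F) =
        z • (1 : Matrix ((Fin k ⊕ Fin k) ⊕ Fin 2) ((Fin k ⊕ Fin k) ⊕ Fin 2) F)) →
      (∀ z : F, (x : Matrix ((Fin k ⊕ Fin k) ⊕ Fin 2) ((Fin k ⊕ Fin k) ⊕ Fin 2) F) ≠
        z • (1 : Matrix ((Fin k ⊕ Fin k) ⊕ Fin 2) ((Fin k ⊕ Fin k) ⊕ Fin 2) F)) →
      ∃ W : Submodule F ((Fin k ⊕ Fin k) ⊕ Fin 2 → F),
        (Module.finrank F ↥W = m ∧
          Cfsg.Geo.IsTotallySingularQuad (Cfsg.quadFormMinus k F a b) W) ∧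
        W.map (Matrix.toLin' (x : Matrix ((Fin k ⊕ Fin k) ⊕ Fin 2)
          ((Fin k ⊕ Fin k) ⊕ Fin 2) F)) ≤ W) ↔
    ((r = 2 ∧ p ≠ 2 ∧ (Even (k + 1) ∨ Even m ∨ Fintype.card F % 8 ≠ 7)) ∨
     (r ≠ p ∧ 2 < r ∧ Odd (orderOf (Fintype.card F : ZMod r)) ∧
       orderOf (Fintype.card F : ZMod r) ≤ m ∧
       ((2 * (k + 1)) % c = 0 ∨
         2 * (m % orderOf (Fintype.card F : ZMod r)) < (2 * (k + 1)) % c)) ∨
     (r ≠ p ∧ 2 < r ∧ Even (orderOf (Fintype.card F : ZMod r)) ∧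
       orderOf (Fintype.card F : ZMod r) ≤ m ∧
       (r - 1) / orderOf (Fintype.card F : ZMod r) +
         2 * (m / orderOf (Fintype.card F : ZMod r)) ≤
           (2 * (k + 1)) / orderOf (Fintype.card F : ZMod r) ∧
       ((2 * (m % orderOf (Fintype.card F : ZMod r)) ≤ orderOf (Fintype.card F : ZMod r) ∧
          (2 * (k + 1)) % c = 0 ∧ Even ((2 * (k + 1)) / orderOf (Fintype.card F : ZMod r)) ∧
          (r - 1) / orderOf (Fintype.card F : ZMod r) +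
            2 * (m / orderOf (Fintype.card F : ZMod r)) <
              (2 * (k + 1)) / orderOf (Fintype.card F : ZMod r)) ∨
        (2 * (m % orderOf (Fintype.card F : ZMod r)) ≤ (2 * (k + 1)) % c ∧
          Odd ((2 * (k + 1)) / orderOf (Fintype.card F : ZMod r))) ∨
        (2 * (m % orderOf (Fintype.card F : ZMod r)) < (2 * (k + 1)) % c ∧
          Even ((2 * (k + 1)) / orderOf (Fintype.card F : ZMod r)))))) := by
  classical
  have hr : r.Prime := Fact.out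
  have hconv : ∀ (x : GL ((Fin k ⊕ Fin k) ⊕ Fin 2) F),
      (∃ W : Submodule F ((Fin k ⊕ Fin k) ⊕ Fin 2 → F), finrank F W = m ∧
        (∀ w ∈ W, Cfsg.quadFormMinus k F a b w = 0) ∧
        W.map (Matrix.toLin' (x : Matrix ((Fin k ⊕ Fin k) ⊕ Fin 2)
          ((Fin k ⊕ Fin k) ⊕ Fin 2) F)) ≤ W) ↔
      ∃ W : Submodule F ((Fin k ⊕ Fin k) ⊕ Fin 2 → F),
        (Module.finrank F ↥W = m ∧
          Cfsg.Geo.IsTotallySingularQuad (Cfsg.quadFormMinus k F a b) W) ∧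
        W.map (Matrix.toLin' (x : Matrix ((Fin k ⊕ Fin k) ⊕ Fin 2)
          ((Fin k ⊕ Fin k) ⊕ Fin 2) F)) ≤ W := by
    intro x
    constructor
    · rintro ⟨W, h1, h3, h4⟩
      exact ⟨W, ⟨h1, h3⟩, h4⟩
    · rintro ⟨W, ⟨h1, h3⟩, h4⟩
      exact ⟨W, h1, h3, h4⟩
  constructor
  · intro h
    have h' := fun x hx h1 h3 => (hconv x).2 (h x hx h1 h3)
    by_cases hr2 : r = 2
    · left
      subst hr2
      obtain ⟨hrp, -⟩ := dvd_count_minus (p := p) k m hmd a b hab 2 hrΩ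
      have hp2 : p ≠ 2 := fun h => hrp h.symm
      exact ⟨rfl, hp2, fwd87_two k m a b hab h'⟩
    · right
      obtain ⟨hrp, hcond⟩ := fwd87_odd (p := p) k m (by omega) hm hmd a b hab r hr2 hrΩ c hc h'
      rw [evenCond_minus] at hcond
      have := hr.two_le
      rcases hcond with ⟨h1, h3, h4⟩ | ⟨h1, h3, h4, h5⟩
      · left
        exact ⟨hrp, by omega, h1, h3, h4⟩
      · right
        exact ⟨hrp, by omega, h1, h3, h4, h5⟩
  · rintro (⟨rfl, hp2, hcond⟩ | ⟨hrp, hr2, h1, h3, h4⟩ | ⟨hrp, hr2, h1, h3, h4, h5⟩) x hx hxr _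
    · have hodd := odd_card_of_char_ne_two (F := F) (p := p) hp2
      have h2 := two_ne_zero_odd hodd
      exact (hconv x).1 (bwd87_two h2 k m hmd a b hab hcond x hx hxr)
    · exact (hconv x).1 (bwd87_odd (p := p) k m hmd a b hab r (by omega) hrp c hc
        ((evenCond_minus _ _ _ _ _).2 (Or.inl ⟨h1, h3, h4⟩)) x hx hxr)
    · exact (hconv x).1 (bwd87_odd (p := p) k m hmd a b hab r (by omega) hrp c hc
        ((evenCond_minus _ _ _ _ _).2 (Or.inr ⟨h1, h3, h4, h5⟩)) x hx hxr)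

end main87

end Cfsg.Agent.Lib.Helper24.Or
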