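import Mathlib
import Cfsg.Agent.S2388

set_option autoImplicit false
open Polynomial Module

namespace Cfsg.Agent.Lib.Helper24.Leaf

/-- (L2) GL-conjugate semisimple elements are conjugate by an element of determinant 1 -/
theorem L2 {F : Type*} [Field F] [Fintype F] {n : ℕ} (P : F[X]) (hP : Squarefree P)
    (x y : GL (Fin n) F)
    (hx : aeval (x : Matrix (Fin n) (Fin n) F) P = 0)
    (h : ∃ e : (Fin n → F) ≃ₗ[F] (Fin n → F), ∀ v,
      e (Matrix.toLin' (x : Matrix (Fin n) (Fin n) F) v) =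
        Matrix.toLin' (y : Matrix (Fin n) (Fin n) F) (e v)) :
    ∃ g : GL (Fin n) F, Matrix.det (g : Matrix (Fin n) (Fin n) F) = 1 ∧ g⁻¹ * x * g = y := by
  classical
  rcases Nat.eq_zero_or_pos n with h0 | hn
  · subst h0
    refine ⟨1, ?_, ?_⟩
    · simp
    · apply Units.ext
      exact Subsingleton.elim _ _
  obtain ⟨e, he⟩ := h
  have : Nonempty (Fin n) := ⟨⟨0, hn⟩⟩
  set T : End F (Fin n → F) := Matrix.toLinAlgEquiv' (x : Matrix (Fin n) (Fin n) F) with hTdef
  set T' : End F (Fin n → F) := Matrix.toLinAlgEquiv' (y : Matrix (Fin n) (Fin n) F) with hT'def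
  have hT : aeval T P = 0 := by
    rw [hTdef, Polynomial.aeval_algHom_apply, hx, map_zero]
  have heT : ∀ v, e (T v) = T' (e v) := he
  have hdet0 : LinearMap.det (e : (Fin n → F) →ₗ[F] (Fin n → F)) ≠ 0 :=
    (LinearEquiv.isUnit_det' e).ne_zero
  obtain ⟨c, hcT, hdet⟩ := Cfsg.Agent.S2388.exists_commuting_det P hP T hT
    (LinearMap.det (e : (Fin n → F) →ₗ[F] (Fin n → F)))
  -- G = c ∘ e.symm
  let Q : End F (Fin n → F) := c ∘ₗ (e.symm : (Fin n → F) →ₗ[F] (Fin n → F))
  have hQdet : LinearMap.det Q = 1 := by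
    show LinearMap.det (c * (e.symm : (Fin n → F) →ₗ[F] (Fin n → F))) = 1
    rw [map_mul, hdet, ← map_mul]
    have : (e : (Fin n → F) →ₗ[F] (Fin n → F)) * (e.symm : (Fin n → F) →ₗ[F] (Fin n → F)) = 1 := by
      apply LinearMap.ext
      intro v
      simp
    rw [this, map_one]
  have hQT : T * Q = Q * T' := by
    apply LinearMap.ext
    intro v
    show T (c (e.symm v)) = c (e.symm (T' v))
    have h1 : e.symm (T' v) = T (e.symm v) := by
      apply e.injective
      rw [heT, e.apply_symm_apply, e.apply_symm_apply]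
    rw [h1]
    have := congrArg (fun φ : End F (Fin n → F) => φ (e.symm v)) hcT.eq
    exact this.symm
  let M := LinearMap.toMatrixAlgEquiv' Q
  have hM : M.det = 1 := by
    have : M = LinearMap.toMatrix' Q := rfl
    rw [this, LinearMap.det_toMatrix', hQdet]
  have hMg : (x : Matrix (Fin n) (Fin n) F) * M = M * (y : Matrix (Fin n) (Fin n) F) := by
    have h1 : (x : Matrix (Fin n) (Fin n) F) = LinearMap.toMatrixAlgEquiv' T := by
      rw [hTdef]; exact (LinearMap.toMatrixAlgEquiv'_toLinAlgEquiv' _).symm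
    have h2 : (y : Matrix (Fin n) (Fin n) F) = LinearMap.toMatrixAlgEquiv' T' := by
      rw [hT'def]; exact (LinearMap.toMatrixAlgEquiv'_toLinAlgEquiv' _).symm
    rw [h1, h2, ← map_mul, ← map_mul, hQT]
  have hMu : IsUnit M.det := by rw [hM]; exact isUnit_one
  refine ⟨Matrix.GeneralLinearGroup.mk'' M hMu, ?_, ?_⟩
  · exact hM
  · rw [mul_assoc, inv_mul_eq_iff_eq_mul]
    apply Units.ext
    exact hMg

end Cfsg.Agent.Lib.Helper24.Leaf
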