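import Mathlib
import Cfsg.Agent.Lib.Helper15.SemisimpleConj
import Cfsg.Agent.Lib.Helper15.PGLInvol

set_option autoImplicit false
open Polynomial Module

namespace Cfsg.Agent.Lib.Helper24.Leaf

open Cfsg.Agent.Lib.Helper15.SemisimpleConj

section aux

variable {F : Type*} [Field F] {V : Type*} [AddCommGroup V] [Module F V]

lemma ker_sub_one_eq (T : End F V) :
    LinearMap.ker (T - 1) = LinearMap.ker (aeval T (X - C (1 : F))) := by
  rw [map_sub, aeval_X, aeval_C, map_one]

lemma isCoprime_of_eval_ne (Q : F[X]) (hQ1 : Q.eval 1 ≠ 0) : IsCoprime (X - C (1 : F)) Q := by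
  rw [(irreducible_X_sub_C (1 : F)).coprime_iff_not_dvd, dvd_iff_isRoot]
  exact hQ1

lemma isCompl_ker (Q : F[X]) (hQ1 : Q.eval 1 ≠ 0) (T : End F V)
    (hT : aeval T ((X - 1) * Q) = 0) :
    IsCompl (LinearMap.ker (T - 1)) (LinearMap.ker (aeval T Q)) := by
  have hc := isCoprime_of_eval_ne Q hQ1
  rw [ker_sub_one_eq]
  constructor
  · exact Polynomial.disjoint_ker_aeval_of_isCoprime T hc
  · rw [codisjoint_iff, Polynomial.sup_ker_aeval_eq_ker_aeval_mul_of_coprime T hc]
    have : (X - C (1 : F)) * Q = (X - 1) * Q := by rw [map_one]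
    rw [this, hT, LinearMap.ker_zero]

end aux

/-- (L3) conjugacy from the fixed space when the other factor is irreducible -/
theorem L3 {F : Type*} [Field F] {V : Type*} [AddCommGroup V] [Module F V]
    [FiniteDimensional F V] (Q : F[X]) (hQm : Q.Monic) (hQi : Irreducible Q)
    (hQ1 : Q.eval 1 ≠ 0) (T T' : End F V)
    (hT : aeval T ((X - 1) * Q) = 0) (hT' : aeval T' ((X - 1) * Q) = 0)
    (hfix : finrank F (LinearMap.ker (T - 1)) = finrank F (LinearMap.ker (T' - 1))) :
    (∃ e : V ≃ₗ[F] V, ∀ v, e (T v) = T' (e v)) ∧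
      Q.natDegree ∣ finrank F V - finrank F (LinearMap.ker (T - 1)) := by
  classical
  -- a general package for one endomorphism
  have key : ∀ S : End F V, aeval S ((X - 1) * Q) = 0 →
      ∃ (hℓ : ∀ x ∈ LinearMap.ker (S - 1), S x ∈ LinearMap.ker (S - 1))
        (hU : ∀ x ∈ LinearMap.ker (aeval S Q), S x ∈ LinearMap.ker (aeval S Q)),
        Conj ((S.restrict hℓ).prodMap (S.restrict hU)) S ∧ S.restrict hℓ = 1 ∧
        aeval (S.restrict hU) Q = 0 ∧
        finrank F (LinearMap.ker (aeval S Q)) = finrank F V - finrank F (LinearMap.ker (S - 1)) := by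
    intro S hS
    have hℓ : LinearMap.ker (S - 1) ∈ S.invtSubmodule := by
      rw [ker_sub_one_eq]; exact ker_aeval_mem_invt S _
    have hU : LinearMap.ker (aeval S Q) ∈ S.invtSubmodule := ker_aeval_mem_invt S _
    have hc := isCompl_ker Q hQ1 S hS
    refine ⟨hℓ, hU, conj_prodMap_of_isCompl S _ _ hℓ hU hc, ?_, ?_, ?_⟩
    · apply LinearMap.ext
      rintro ⟨v, hv⟩
      apply Subtype.ext
      rw [LinearMap.mem_ker, LinearMap.sub_apply, sub_eq_zero] at hv
      exact hv
    · apply LinearMap.ext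
      rintro ⟨v, hv⟩
      apply Subtype.ext
      have := intertwine_aeval (LinearMap.ker (aeval S Q)).subtype (S.restrict hU) S
        (fun w => rfl) Q ⟨v, hv⟩
      rw [Submodule.subtype_apply] at this
      rw [this]
      exact hv
    · have := Submodule.finrank_add_eq_of_isCompl hc
      omega
  obtain ⟨hℓ, hU, hconj, hid, hQU, hfr⟩ := key T hT
  obtain ⟨hℓ', hU', hconj', hid', hQU', hfr'⟩ := key T' hT'
  have hd : 0 < Q.natDegree := hQi.natDegree_pos
  have hcp := Cfsg.Agent.Lib.Helper15.PGLInvol.charpoly_isotypic Q hQm hQi _ _ (T.restrict hU) rfl hQU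
  have hcp' := Cfsg.Agent.Lib.Helper15.PGLInvol.charpoly_isotypic Q hQm hQi _ _ (T'.restrict hU') rfl hQU'
  have hfrU : finrank F (LinearMap.ker (aeval T Q)) = finrank F (LinearMap.ker (aeval T' Q)) := by
    rw [hfr, hfr', hfix]
  constructor
  · have c1 : Conj (T.restrict hℓ) (T'.restrict hℓ') := by
      refine ⟨LinearEquiv.ofFinrankEq _ _ hfix, fun v => ?_⟩
      rw [hid, hid']
      rfl
    have c2 : Conj (T.restrict hU) (T'.restrict hU') := by
      apply conj_of_charpoly_eq Q hQi.squarefree _ _ _ (T.restrict hU) (T'.restrict hU') rfl hQU hQU'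
      rw [hcp, hcp', hfrU]
    exact (hconj.symm.trans (c1.prodMap c2)).trans hconj'
  · rw [← hfr]
    have h1 := LinearMap.charpoly_natDegree (T.restrict hU)
    rw [hcp, natDegree_pow] at h1
    rw [← h1]
    exact Dvd.intro_left _ rfl

end Cfsg.Agent.Lib.Helper24.Leaf
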