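import Mathlib
import Cfsg.Agent.Lib.Helper20.AschDefs
import Cfsg.Agent.Lib.Helper24.AschA7Defs
import Cfsg.Agent.Lib.Helper14.AschA7L4a
import Cfsg.Agent.Lib.Helper14.AschA7L4b

/-!
S5630 (Aschbacher), block (A7), leaf L4 `exists_monomial_basis`: the monomial basis of a class-two absolutely irreducible
group whose exponent divides `z`, over a field containing a primitive `z`-th root of unity.
-/

set_option autoImplicit false
set_option linter.unusedSectionVars false
set_option linter.unusedVariables false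

namespace Cfsg.Agent.Lib.Helper24.AschA7Leaf
open Matrix Cfsg.Geo Cfsg.Agent.Lib.Helper20.Asch Cfsg.Agent.Lib.Helper24.AschA7
open scoped Kronecker commutatorElement

variable {F : Type*} [Field F] [Fintype F] {n : ℕ} {H N : Subgroup (GL (Fin n) F)}

/-- a matrix mapping each vector of a basis to a root of unity times a basis vector is monomial in that basis -/
theorem monoZ_of_basis {z : ℕ} (hz : 0 < z) (b : Fin n → Fin n → F) (B x : GL (Fin n) F)
    (hB : ∀ j, (B : Matrix (Fin n) (Fin n) F) *ᵥ b j = Pi.single j 1)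
    (h : ∀ j, ∃ (k : Fin n) (d : F), d ^ z = 1 ∧ (x : Matrix (Fin n) (Fin n) F) *ᵥ b j = d • b k) :
    MonoZ z ((B : Matrix (Fin n) (Fin n) F) * (x : Matrix (Fin n) (Fin n) F) *
      ((B⁻¹ : GL (Fin n) F) : Matrix (Fin n) (Fin n) F)) := by
  classical
  choose ρ d hd hx using h
  set M : Matrix (Fin n) (Fin n) F := (B : Matrix (Fin n) (Fin n) F) * (x : Matrix (Fin n) (Fin n) F) *
      ((B⁻¹ : GL (Fin n) F) : Matrix (Fin n) (Fin n) F) with hM
  have hBinv : ∀ j, ((B⁻¹ : GL (Fin n) F) : Matrix (Fin n) (Fin n) F) *ᵥ Pi.single j 1 = b j := by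
    intro j
    rw [← hB j, Matrix.mulVec_mulVec, ← Units.val_mul, inv_mul_cancel, Units.val_one, Matrix.one_mulVec]
  have hMe : ∀ j, M *ᵥ Pi.single j 1 = d j • Pi.single (ρ j) 1 := by
    intro j
    rw [hM, ← Matrix.mulVec_mulVec, hBinv, ← Matrix.mulVec_mulVec, hx, Matrix.mulVec_smul, hB]
  have hMunit : IsUnit M := by
    have : M = ((B * x * B⁻¹ : GL (Fin n) F) : Matrix (Fin n) (Fin n) F) := by
      rw [hM, Units.val_mul, Units.val_mul]
    rw [this]
    exact (B * x * B⁻¹).isUnit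
  have hd0 : ∀ j, d j ≠ 0 := by
    intro j h0
    have := hd j
    rw [h0, zero_pow hz.ne'] at this
    exact zero_ne_one this
  have hinj : Function.Injective ρ := by
    intro j j' hjj
    by_contra hne
    have h1 : M *ᵥ (d j' • Pi.single j 1 - d j • Pi.single j' 1) = 0 := by
      rw [Matrix.mulVec_sub, Matrix.mulVec_smul, Matrix.mulVec_smul, hMe, hMe, hjj, smul_smul, smul_smul,
        mul_comm, sub_self]
    have h2 : (d j' • Pi.single j 1 - d j • Pi.single j' 1 : Fin n → F) = 0 := by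
      have hinjM : Function.Injective M.mulVec := Matrix.mulVec_injective_iff_isUnit.2 hMunit
      apply hinjM
      rw [h1, Matrix.mulVec_zero]
    have h3 := congrFun h2 j
    simp only [Pi.sub_apply, Pi.smul_apply, Pi.single_eq_same, smul_eq_mul, mul_one, Pi.zero_apply] at h3
    rw [Pi.single_eq_of_ne hne, mul_zero, sub_zero] at h3
    exact hd0 j' h3
  have hbij : Function.Bijective ρ := Finite.injective_iff_bijective.1 hinj
  refine ⟨(Equiv.ofBijective ρ hbij).symm, fun i => d ((Equiv.ofBijective ρ hbij).symm i), fun i => hd _, ?_⟩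
  intro i j
  have h1 : M i j = (M *ᵥ Pi.single j 1) i := by
    rw [Matrix.mulVec_single_one]; rfl
  rw [h1, hMe, Pi.smul_apply, smul_eq_mul]
  by_cases hij : j = (Equiv.ofBijective ρ hbij).symm i
  · rw [if_pos hij]
    have : ρ j = i := by
      rw [hij]
      exact (Equiv.ofBijective ρ hbij).apply_symm_apply i
    rw [this, Pi.single_eq_same, mul_one, hij]
  · rw [if_neg hij]
    have : i ≠ ρ j := by
      intro h
      apply hij
      rw [h]
      exact ((Equiv.ofBijective ρ hbij).symm_apply_apply j).symm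
    rw [Pi.single_eq_of_ne this, mul_zero]


/-- a maximal abelian subgroup of `N` is self-centralising in `N` -/
theorem exists_max_abelian (N : Subgroup (GL (Fin n) F)) :
    ∃ A : Subgroup (GL (Fin n) F), A ≤ N ∧ (∀ a ∈ A, ∀ b ∈ A, a * b = b * a) ∧
      ∀ y ∈ N, (∀ a ∈ A, y * a = a * y) → y ∈ A := by
  classical
  set S : Set (Subgroup (GL (Fin n) F)) := {A | A ≤ N ∧ ∀ a ∈ A, ∀ b ∈ A, a * b = b * a} with hS
  have hfin : S.Finite := Set.toFinite S
  have hbot : (⊥ : Subgroup (GL (Fin n) F)) ∈ S := by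
    refine ⟨bot_le, ?_⟩
    intro a ha b hb
    rw [Subgroup.mem_bot] at ha hb
    rw [ha, hb]
  obtain ⟨A, -, hA⟩ := hfin.exists_le_maximal hbot
  refine ⟨A, hA.prop.1, hA.prop.2, ?_⟩
  intro y hy hcomm
  set A' : Subgroup (GL (Fin n) F) := Subgroup.closure ((A : Set (GL (Fin n) F)) ∪ {y}) with hA'
  have hAA' : A ≤ A' := by
    intro a ha
    exact Subgroup.subset_closure (Or.inl ha)
  have hA'S : A' ∈ S := by
    refine ⟨?_, ?_⟩
    · rw [hA', Subgroup.closure_le]
      rintro g (hg | hg)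
      · exact hA.prop.1 hg
      · rw [Set.mem_singleton_iff] at hg
        rw [hg]; exact hy
    · have hgen : ∀ g ∈ (A : Set (GL (Fin n) F)) ∪ {y}, ∀ g' ∈ (A : Set (GL (Fin n) F)) ∪ {y}, g * g' = g' * g := by
        rintro g (hg | hg) g' (hg' | hg')
        · exact hA.prop.2 g hg g' hg'
        · rw [Set.mem_singleton_iff] at hg'
          rw [hg']; exact (hcomm g hg).symm
        · rw [Set.mem_singleton_iff] at hg
          rw [hg]; exact hcomm g' hg'
        · rw [Set.mem_singleton_iff] at hg hg'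
          rw [hg, hg']
      intro a ha b hb
      have : Commute a b := Subgroup.closure_induction₂ (p := fun a b _ _ => Commute a b)
        (k := (A : Set (GL (Fin n) F)) ∪ {y}) (fun g g' hg hg' => hgen g hg g' hg')
        (fun g _ => Commute.one_left g) (fun g _ => Commute.one_right g)
        (fun g g' g'' _ _ _ h1 h2 => Commute.mul_left h1 h2)
        (fun g g' g'' _ _ _ h1 h2 => Commute.mul_right h1 h2)
        (fun g g' _ _ h1 => Commute.inv_left h1)
        (fun g g' _ _ h1 => Commute.inv_right h1) ha hb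
      exact this
  have := hA.le_of_ge hA'S hAA'
  exact this (Subgroup.subset_closure (Or.inr rfl))


/-- L4.  MONOMIAL BASIS. -/
theorem exists_monomial_basis (habs : AbsIrr N) (hcomm : ⁅N, N⁆ ≤ scalars (Fin n) F) {z : ℕ} (hz : 0 < z)
    (hexp : ∀ x ∈ N, x ^ z = 1) {ζ : F} (hζ : IsPrimitiveRoot ζ z) :
    ∃ B : GL (Fin n) F, ∀ x ∈ N, MonoZ z ((B : Matrix (Fin n) (Fin n) F) * (x : Matrix (Fin n) (Fin n) F) *
      ((B⁻¹ : GL (Fin n) F) : Matrix (Fin n) (Fin n) F)) := by
  classical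
  rcases Nat.eq_zero_or_pos n with hn0 | hn
  · subst hn0
    exact ⟨1, fun x hx => ⟨1, fun _ => 1, fun i => one_pow z, fun i => i.elim0⟩⟩
  obtain ⟨A, hAN, hAab, hAmax⟩ := exists_max_abelian N
  obtain ⟨v, hv0, hv⟩ := Cfsg.Agent.Lib.Helper14.AschA7Leaf.exists_common_eigenvector hn A hAab hz (fun a ha => hexp a (hAN ha)) hζ
  -- invertible matrices move non-zero vectors to non-zero vectors
  have hne : ∀ t : GL (Fin n) F, ∀ w : Fin n → F, w ≠ 0 → (t : Matrix (Fin n) (Fin n) F) *ᵥ w ≠ 0 := by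
    intro t w hw h0
    apply hw
    have := congrArg (fun y => ((t⁻¹ : GL (Fin n) F) : Matrix (Fin n) (Fin n) F) *ᵥ y) h0
    simp only [Matrix.mulVec_mulVec, Matrix.mulVec_zero] at this
    rwa [← Units.val_mul, inv_mul_cancel, Units.val_one, Matrix.one_mulVec] at this
  -- the scalar twist: `t⁻¹ a t = γ a`
  have htw : ∀ t ∈ N, ∀ a ∈ A, ∃ γ : F, ((t⁻¹ * a * t : GL (Fin n) F) : Matrix (Fin n) (Fin n) F) =
      γ • (a : Matrix (Fin n) (Fin n) F) := by
    intro t ht a ha
    have h1 : t⁻¹ * a * t * a⁻¹ ∈ scalars (Fin n) F := hcomm (by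
      have : t⁻¹ * a * t * a⁻¹ = ⁅t⁻¹, a⁆ := by rw [commutatorElement_def, inv_inv]
      rw [this]
      exact Subgroup.commutator_mem_commutator (N.inv_mem ht) (hAN ha))
    obtain ⟨c, hc⟩ := (mem_scalars_iff _).1 h1
    refine ⟨c, ?_⟩
    have : t⁻¹ * a * t = (t⁻¹ * a * t * a⁻¹) * a := by group
    rw [this, Units.val_mul, hc, Matrix.smul_mul, Matrix.one_mul]
  -- `t v` is an eigenvector of `A`
  have heig : ∀ t ∈ N, ∀ a ∈ A, ∃ c : F, (a : Matrix (Fin n) (Fin n) F) *ᵥ ((t : Matrix (Fin n) (Fin n) F) *ᵥ v) =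
      c • ((t : Matrix (Fin n) (Fin n) F) *ᵥ v) := by
    intro t ht a ha
    obtain ⟨γ, hγ⟩ := htw t ht a ha
    obtain ⟨c, hc⟩ := hv a ha
    refine ⟨γ * c, ?_⟩
    have : (a : Matrix (Fin n) (Fin n) F) * (t : Matrix (Fin n) (Fin n) F) =
        (t : Matrix (Fin n) (Fin n) F) * ((t⁻¹ * a * t : GL (Fin n) F) : Matrix (Fin n) (Fin n) F) := by
      rw [← Units.val_mul, ← Units.val_mul]
      congr 1
      group
    rw [Matrix.mulVec_mulVec, this, hγ, ← Matrix.mulVec_mulVec, Matrix.smul_mulVec, hc, smul_smul,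
      Matrix.mulVec_smul]
  choose! χ hχ using heig
  -- (K) equal characters: proportional vectors
  have hK : ∀ t₁ ∈ N, ∀ t₂ ∈ N, (∀ a ∈ A, χ t₁ a = χ t₂ a) → ∃ d : F, d ^ z = 1 ∧
      (t₂ : Matrix (Fin n) (Fin n) F) *ᵥ v = d • ((t₁ : Matrix (Fin n) (Fin n) F) *ᵥ v) := by
    intro t₁ ht₁ t₂ ht₂ heq
    have hconj : ∀ a ∈ A, t₁⁻¹ * a * t₁ = t₂⁻¹ * a * t₂ := by
      intro a ha
      obtain ⟨γ₁, hγ₁⟩ := htw t₁ ht₁ a ha
      obtain ⟨γ₂, hγ₂⟩ := htw t₂ ht₂ a ha
      obtain ⟨c, hc⟩ := hv a ha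
      have hc0 : c ≠ 0 := by
        intro h0
        rw [h0, zero_smul] at hc
        exact hne a v hv0 hc
      have key : ∀ t ∈ N, ∀ γ : F, ((t⁻¹ * a * t : GL (Fin n) F) : Matrix (Fin n) (Fin n) F) =
          γ • (a : Matrix (Fin n) (Fin n) F) → χ t a = γ * c := by
        intro t ht γ hγ
        have h1 : ((t⁻¹ * a * t : GL (Fin n) F) : Matrix (Fin n) (Fin n) F) *ᵥ v = χ t a • v := by
          have h2 : ((t⁻¹ * a * t : GL (Fin n) F) : Matrix (Fin n) (Fin n) F) =
              ((t⁻¹ : GL (Fin n) F) : Matrix (Fin n) (Fin n) F) * ((a : Matrix (Fin n) (Fin n) F) *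
                (t : Matrix (Fin n) (Fin n) F)) := by
            rw [Units.val_mul, Units.val_mul, mul_assoc]
          rw [h2, ← Matrix.mulVec_mulVec, ← Matrix.mulVec_mulVec, hχ t ht a ha, Matrix.mulVec_smul,
            Matrix.mulVec_mulVec, ← Units.val_mul, inv_mul_cancel, Units.val_one, Matrix.one_mulVec]
        rw [hγ, Matrix.smul_mulVec, hc, smul_smul] at h1
        by_contra hne'
        have h3 : (γ * c - χ t a) • v = 0 := by rw [sub_smul, h1, sub_self]
        rcases smul_eq_zero.1 h3 with h4 | h4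
        · exact hne' (sub_eq_zero.1 h4).symm
        · exact hv0 h4
      have e1 := key t₁ ht₁ γ₁ hγ₁
      have e2 := key t₂ ht₂ γ₂ hγ₂
      have : γ₁ = γ₂ := by
        have h5 : γ₁ * c = γ₂ * c := by rw [← e1, ← e2, heq a ha]
        exact mul_right_cancel₀ hc0 h5
      apply Units.ext
      rw [hγ₁, hγ₂, this]
    have hs : t₂ * t₁⁻¹ ∈ A := by
      apply hAmax _ (N.mul_mem ht₂ (N.inv_mem ht₁))
      intro a ha
      have h1 := hconj a ha
      have h2 : t₂ * t₁⁻¹ * a * (t₂ * t₁⁻¹)⁻¹ = a := by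
        have : t₂ * t₁⁻¹ * a * (t₂ * t₁⁻¹)⁻¹ = t₂ * (t₁⁻¹ * a * t₁) * t₂⁻¹ := by group
        rw [this, h1]
        group
      calc t₂ * t₁⁻¹ * a = (t₂ * t₁⁻¹ * a * (t₂ * t₁⁻¹)⁻¹) * (t₂ * t₁⁻¹) := by group
        _ = a * (t₂ * t₁⁻¹) := by rw [h2]
    refine ⟨χ t₁ (t₂ * t₁⁻¹), ?_, ?_⟩
    · -- `d ^ z = 1`
      have hpow : ∀ k : ℕ, (((t₂ * t₁⁻¹) ^ k : GL (Fin n) F) : Matrix (Fin n) (Fin n) F) *ᵥ
          ((t₁ : Matrix (Fin n) (Fin n) F) *ᵥ v) =
          (χ t₁ (t₂ * t₁⁻¹)) ^ k • ((t₁ : Matrix (Fin n) (Fin n) F) *ᵥ v) := by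
        intro k
        induction k with
        | zero => simp
        | succ k ih =>
          rw [pow_succ, Units.val_mul, ← Matrix.mulVec_mulVec, hχ t₁ ht₁ _ hs, Matrix.mulVec_smul, ih,
            smul_smul, pow_succ, mul_comm]
      have h1 := hpow z
      rw [hexp _ (hAN hs), Units.val_one, Matrix.one_mulVec] at h1
      by_contra hne'
      have h3 : ((χ t₁ (t₂ * t₁⁻¹)) ^ z - 1) • ((t₁ : Matrix (Fin n) (Fin n) F) *ᵥ v) = 0 := by
        rw [sub_smul, ← h1, one_smul, sub_self]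
      rcases smul_eq_zero.1 h3 with h4 | h4
      · exact hne' (sub_eq_zero.1 h4)
      · exact hne t₁ v hv0 h4
    · rw [← hχ t₁ ht₁ _ hs, Matrix.mulVec_mulVec, ← Units.val_mul, inv_mul_cancel_right]
  -- the index set: the characters that occur
  set X : Set (A → F) := Set.range (fun t : N => fun a : A => χ (t : GL (Fin n) F) (a : GL (Fin n) F)) with hX
  let _ : Fintype X := Fintype.ofFinite X
  have hrepx : ∀ ξ : X, ∃ t : N, (fun a : A => χ (t : GL (Fin n) F) (a : GL (Fin n) F)) = ξ.1 := fun ξ => ξ.2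
  choose rep hrep using hrepx
  set u : X → Fin n → F := fun ξ => ((rep ξ : GL (Fin n) F) : Matrix (Fin n) (Fin n) F) *ᵥ v with hu
  have hu0 : ∀ ξ, u ξ ≠ 0 := fun ξ => hne _ v hv0
  have hli : LinearIndependent F u := by
    refine Cfsg.Agent.Lib.Helper14.AschA7Leaf.linearIndependent_of_characters A u (fun ξ => ξ.1) hu0 ?_ Subtype.val_injective
    intro ξ a
    rw [hu]
    simp only
    rw [hχ _ (rep ξ).2 _ a.2]
    congr 1
    exact congrFun (hrep ξ) a
  -- `N` maps each `u ξ` to a root of unity times some `u ξ'`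
  have hmove : ∀ x ∈ N, ∀ ξ : X, ∃ (ξ' : X) (d : F), d ^ z = 1 ∧
      (x : Matrix (Fin n) (Fin n) F) *ᵥ u ξ = d • u ξ' := by
    intro x hx ξ
    have ht₂ : x * (rep ξ : GL (Fin n) F) ∈ N := N.mul_mem hx (rep ξ).2
    set ξ' : X := ⟨fun a : A => χ (x * (rep ξ : GL (Fin n) F)) (a : GL (Fin n) F), ⟨⟨_, ht₂⟩, rfl⟩⟩ with hξ'
    obtain ⟨d, hd, hdv⟩ := hK (rep ξ' : GL (Fin n) F) (rep ξ').2 _ ht₂ (by
      intro a ha
      have := congrFun (hrep ξ') ⟨a, ha⟩
      simpa [hξ'] using this)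
    refine ⟨ξ', d, hd, ?_⟩
    rw [hu]
    simp only
    rw [Matrix.mulVec_mulVec, ← Units.val_mul]
    exact hdv
  -- the span is everything
  have hspan : Submodule.span F (Set.range u) = ⊤ := by
    refine (habs.1 _ ?_).resolve_left ?_
    · rintro s ⟨x, hx, rfl⟩
      rw [Submodule.map_le_iff_le_comap, Submodule.span_le]
      rintro w ⟨ξ, rfl⟩
      rw [SetLike.mem_coe, Submodule.mem_comap, Matrix.toLin'_apply]
      obtain ⟨ξ', d, -, hd⟩ := hmove x hx ξ
      rw [hd]
      exact Submodule.smul_mem _ _ (Submodule.subset_span ⟨ξ', rfl⟩)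
    · intro hbot
      have hmem : (1 : GL (Fin n) F) ∈ N := N.one_mem
      set ξ₀ : X := ⟨fun a : A => χ ((⟨1, hmem⟩ : N) : GL (Fin n) F) (a : GL (Fin n) F), ⟨⟨1, hmem⟩, rfl⟩⟩
      have : u ξ₀ ∈ Submodule.span F (Set.range u) := Submodule.subset_span ⟨ξ₀, rfl⟩
      rw [hbot, Submodule.mem_bot] at this
      exact hu0 ξ₀ this
  -- the basis, indexed by `Fin n`
  let b : Module.Basis X F (Fin n → F) := Module.Basis.mk hli (by rw [hspan])
  have hcard : Fintype.card X = n := by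
    have h1 := Module.finrank_eq_card_basis b
    rw [Module.finrank_fin_fun] at h1
    exact h1.symm
  let e : Fin n ≃ X := (Fintype.equivFinOfCardEq hcard).symm
  set b' : Fin n → Fin n → F := fun j => u (e j) with hb'
  have hli' : LinearIndependent F b' := hli.comp e e.injective
  set P : Matrix (Fin n) (Fin n) F := Matrix.of (fun i j => b' j i) with hP
  have hPcol : ∀ j, P.col j = b' j := fun j => rfl
  have hPunit : IsUnit P := by
    rw [← Matrix.linearIndependent_cols_iff_isUnit]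
    have : P.col = b' := funext hPcol
    rw [this]
    exact hli'
  obtain ⟨Pu, hPu⟩ := hPunit
  refine ⟨Pu⁻¹, fun x hx => ?_⟩
  apply monoZ_of_basis hz b' Pu⁻¹ x
  · intro j
    have : b' j = (Pu : Matrix (Fin n) (Fin n) F) *ᵥ Pi.single j 1 := by
      rw [hPu, Matrix.mulVec_single_one, hPcol]
    rw [this, Matrix.mulVec_mulVec, ← Units.val_mul, inv_mul_cancel, Units.val_one, Matrix.one_mulVec]
  · intro j
    obtain ⟨ξ', d, hd, hdv⟩ := hmove x hx (e j)
    refine ⟨e.symm ξ', d, hd, ?_⟩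
    rw [hb']
    simp only
    rw [Equiv.apply_symm_apply]
    exact hdv

end Cfsg.Agent.Lib.Helper24.AschA7Leaf
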