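import Mathlib
import Cfsg.Agent.Lib.Helper20.AschDefs
import Cfsg.Agent.Lib.Helper20.SympC2
import Cfsg.Agent.Lib.Helper24.AschA7Defs
import Cfsg.Agent.Lib.Helper24.AschA7L4
import Cfsg.Agent.Lib.Helper12.AschBurnside
import Cfsg.Agent.Lib.Helper4.AschA4
import Cfsg.Agent.Lib.Helper7.AschForms
import Cfsg.Agent.Lib.Helper4.AschA7G
import Cfsg.Agent.Lib.Helper4.AschA7G2
import Cfsg.Agent.Lib.Helper15.AschA7B
import Cfsg.Agent.Lib.Helper15.AschA7NT
import Cfsg.Agent.Lib.Helper14.AschA7L1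
import Cfsg.Agent.Lib.Helper14.AschA7L5
import Cfsg.Agent.Lib.Helper14.AschA7L6
import Cfsg.Agent.Lib.Helper27.AschA7L2
import Cfsg.Agent.Lib.Helper27.AschA7L3
import Cfsg.Agent.Lib.Helper27.AschA7L7
import Cfsg.Agent.Lib.Helper27.AschA7L8

/-!
S5630 (Aschbacher's theorem, helper20): block (A7) `geo_of_nilpotent`, the symplectic-type / C6 case.
Assembly (helper24) of the 29 leaves of notes/S5630_A7_leaves.lean (helper4: block G; helper15: blocks B, NT;
helper14: L1, L4a, L4b, L5, L6; helper27: L2, L3, L7, L8; helper24: L4) and of the external blocks B0 (helper12),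
A4 (helper4), A5 (helper7).
-/

set_option autoImplicit false
set_option linter.unusedSectionVars false
set_option linter.unusedVariables false

namespace Cfsg.Agent.Lib.Helper24.AschLeaf
open Matrix Cfsg.Geo Cfsg.Agent.Lib.Helper20.Asch Cfsg.Agent.Lib.Helper24.AschA7
open scoped Kronecker commutatorElement
open Cfsg.Agent.Lib.Helper24.AschA7Leaf Cfsg.Agent.Lib.Helper12.AschLeaf Cfsg.Agent.Lib.Helper4.AschLeaf
  Cfsg.Agent.Lib.Helper7.AschLeaf Cfsg.Agent.Lib.Helper4.AschA7Leaf Cfsg.Agent.Lib.Helper15.AschA7Leaf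
  Cfsg.Agent.Lib.Helper27.AschA7Leaf Cfsg.Agent.Lib.Helper14.AschA7Leaf

variable {F : Type*} [Field F] [Fintype F] {n : ℕ} {H N : Subgroup (GL (Fin n) F)}

/-! ## assembly -/

/-- `CM N` from the linear context -/
theorem cm_of_ctx (habs : AbsIrr N) (hN : N ≤ H) (hnorm : NormBy H N) (hns : ¬ N ≤ scalars (Fin n) F)
    (hmin : ∀ M : Subgroup (GL (Fin n) F), M ≤ N → NormBy H M → M = N ∨ M ≤ scalars (Fin n) F)
    (hcomm : ⁅N, N⁆ ≤ scalars (Fin n) F) : CM N where
  comm_central := by
    intro x y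
    rw [mem_center_iff_scalar habs]
    apply hcomm
    have : ((⁅x, y⁆ : N) : GL (Fin n) F) = ⁅(x : GL (Fin n) F), (y : GL (Fin n) F)⁆ := by
      simp [commutatorElement_def]
    rw [this]
    exact Subgroup.commutator_mem_commutator x.2 y.2
  center_cyclic := center_isCyclic habs
  charmin := by
    intro K hK
    rcases hmin (K.map N.subtype) (Subgroup.map_subtype_le K) (normBy_map_of_characteristic hnorm K hK) with h | h
    · left
      rw [eq_top_iff]
      intro x _
      have hx : (x : GL (Fin n) F) ∈ K.map N.subtype := by rw [h]; exact x.2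
      obtain ⟨y, hy, hyx⟩ := hx
      have : y = x := Subtype.ext hyx
      rwa [← this]
    · right
      intro x hx
      rw [mem_center_iff_scalar habs]
      exact h ⟨x, hx, rfl⟩
  nonab := by
    by_contra hcon
    push Not at hcon
    apply hns
    intro x hx
    have : (⟨x, hx⟩ : N) ∈ Subgroup.center N := by
      rw [Subgroup.mem_center_iff]
      intro g
      have := hcon g ⟨x, hx⟩
      rwa [commutatorElement_eq_one_iff_mul_comm] at this
    exact (mem_center_iff_scalar habs ⟨x, hx⟩).1 this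

/-- the symplectic-type structure of `N` -/
theorem symplecticType_of_cm (hcm : CM N) {r : ℕ} (hr : r.Prime) (hpg : IsPGroup r N)
    (hexp : ∀ x : N, x ^ (r * Nat.gcd 2 r) = 1) : IsSymplecticTypeGroup r N where
  prime := hr
  pGroup := hpg
  cyclic_of_characteristic := fun A hA hab => cm_cyclic_of_char hcm A hA hab
  exponent_eq := cm_exponent hcm hr hpg hexp

/-- (A7) THE SYMPLECTIC-TYPE CASE (block theorem of notes/S5630_leaves.lean) -/
theorem geo_of_nilpotent (hn : 3 ≤ n) (hirr : Irr H) (hqp : QP H) (hN : N ≤ H)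
    (hnorm : NormBy H N) (hns : ¬ N ≤ scalars (Fin n) F)
    (hmin : ∀ M : Subgroup (GL (Fin n) F), M ≤ N → NormBy H M → M = N ∨ M ≤ scalars (Fin n) F)
    (hcomm : ⁅N, N⁆ ≤ scalars (Fin n) F) : Geo H := by
  by_contra hgeo
  have habs : AbsIrr N := (hqp N hN hnorm).resolve_left hns
  have hcm : CM N := cm_of_ctx habs hN hnorm hns hmin hcomm
  obtain ⟨r, hr, hpg⟩ := cm_exists_prime hcm
  obtain ⟨p, hchar⟩ := CharP.exists F
  obtain ⟨e, hp, hcardF⟩ := FiniteField.card F p
  have he0 : 0 < (e : ℕ) := e.pos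
  have hrp : r ≠ p := prime_ne_char habs.1 hns hr hchar hpg
  have hpow := cm_pow_mem_center hcm hr hpg
  have hcp := cm_comm_pow hcm.comm_central hpow
  -- the exponent
  have hexp : ∀ x : N, x ^ (r * Nat.gcd 2 r) = 1 := by
    intro x
    by_cases h2 : r = 2
    · subst h2
      exact cm_pow_four hcm hpg hpow hcp x
    · have hg : Nat.gcd 2 r = 1 := by
        rcases Nat.Prime.eq_one_or_self_of_dvd Nat.prime_two (Nat.gcd 2 r) (Nat.gcd_dvd_left 2 r) with h | h
        · exact h
        · exfalso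
          have h3 : 2 ∣ r := h ▸ Nat.gcd_dvd_right 2 r
          exact h2 ((Nat.prime_dvd_prime_iff_eq Nat.prime_two hr).1 h3).symm
      rw [hg, mul_one]
      exact cm_pow_eq_one_odd hcm hr h2 hpg hpow hcp x
  obtain ⟨hzo, hze⟩ := cm_card_center hcm hr hpg hexp
  obtain ⟨m, hm1, hcardN⟩ := cm_card hcm hr hpg hcp
  have hsq := card_eq_sq_mul (by omega) habs (burnside habs) hcomm
  obtain ⟨ζ, hζ⟩ := exists_primitive_root (by omega) habs
  have hst := symplecticType_of_cm hcm hr hpg hexp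
  have hzpos : 0 < Nat.card (Subgroup.center N) := Nat.card_pos
  -- `z` divides `p ^ e - 1`
  have hzdvd : Nat.card (Subgroup.center N) ∣ p ^ (e : ℕ) - 1 := by
    have hζ0 : ζ ≠ 0 := hζ.ne_zero hzpos.ne'
    have := FiniteField.pow_card_sub_one_eq_one ζ hζ0
    rw [hcardF] at this
    exact hζ.dvd_of_pow_eq_one _ this
  -- `n * n = r ^ (2 * m)`
  have hnn : n * n = r ^ (2 * m) := by
    have h1 : n * n * Nat.card (Subgroup.center N) = r ^ (2 * m) * Nat.card (Subgroup.center N) := by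
      rw [← hsq, hcardN]
    exact Nat.eq_of_mul_eq_mul_right hzpos h1
  -- the case `|Z(N)| = 2`: forms
  by_cases hz2 : Nat.card (Subgroup.center N) = 2
  · have hr2 : r = 2 := by
      by_contra h
      have := hzo h
      rw [hz2] at this
      exact h this.symm
    subst hr2
    have hp2 : p ≠ 2 := fun h => hrp h.symm
    have h2F : (2 : F) ≠ 0 := by
      intro h
      have h3 : ((2 : ℕ) : F) = 0 := by exact_mod_cast h
      rw [CharP.cast_eq_zero_iff F p] at h3
      exact hp2 ((Nat.prime_dvd_prime_iff_eq hp Nat.prime_two).1 h3)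
    have hn0 : (n : F) ≠ 0 := by
      intro h
      rw [CharP.cast_eq_zero_iff F p] at h
      have h3 : p ∣ n * n := Dvd.dvd.mul_right h n
      rw [hnn] at h3
      have h4 := hp.dvd_of_dvd_pow h3
      exact hp2 ((Nat.prime_dvd_prime_iff_eq hp Nat.prime_two).1 h4)
    obtain ⟨B, hB0, hB⟩ := exists_invariant_bilinear habs h2F hn0 hz2
      (fun x hx hxs => trace_eq_zero habs hcomm hx hxs)
    rcases form_of_invariant_bilinear habs h2F B hB0 hB with ⟨Q, hQ, hfix⟩ | ⟨f, hf, hfix⟩
    · exact hgeo (geo_of_fixes_quad hn hN hnorm habs Q hQ hfix)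
    · exact hgeo (geo_of_fixes_symp hn hN hnorm habs f hf hfix)
  -- now `z = r` (odd) or `z = 4`: the exponent of `N` divides `z`
  have hzcase : (r ≠ 2 ∧ Nat.card (Subgroup.center N) = r) ∨ (r = 2 ∧ Nat.card (Subgroup.center N) = 4) := by
    by_cases h2 : r = 2
    · right
      exact ⟨h2, (hze h2).resolve_left hz2⟩
    · left
      exact ⟨h2, hzo h2⟩
  have hzexp : ∀ x ∈ N, x ^ Nat.card (Subgroup.center N) = 1 := by
    intro x hx
    have h1 := hexp ⟨x, hx⟩
    have h2 : (x : GL (Fin n) F) ^ (r * Nat.gcd 2 r) = 1 := by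
      have := congrArg (fun y : N => (y : GL (Fin n) F)) h1
      simpa using this
    rcases hzcase with ⟨h3, h4⟩ | ⟨h3, h4⟩
    · have hg : Nat.gcd 2 r = 1 := by
        rcases Nat.Prime.eq_one_or_self_of_dvd Nat.prime_two (Nat.gcd 2 r) (Nat.gcd_dvd_left 2 r) with h | h
        · exact h
        · exfalso
          have h5 : 2 ∣ r := h ▸ Nat.gcd_dvd_right 2 r
          exact h3 ((Nat.prime_dvd_prime_iff_eq Nat.prime_two hr).1 h5).symm
      rw [hg, mul_one] at h2
      rw [h4]; exact h2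
    · subst h3
      rw [h4]; exact h2
  have hzpr : (Nat.card (Subgroup.center N)).Prime ∨ Nat.card (Subgroup.center N) = 4 := by
    rcases hzcase with ⟨_, h4⟩ | ⟨_, h4⟩
    · left; rw [h4]; exact hr
    · right; exact h4
  obtain ⟨B, hB⟩ := exists_monomial_basis habs hcomm hzpos hzexp hζ
  -- the field is minimal
  have hminF : IsMinimalFieldFor (Nat.card (Subgroup.center N)) p e F := by
    refine ⟨hp, hchar, hcardF, hzdvd, ?_⟩
    intro d hd0 hde hdz
    obtain ⟨F₀, hF₀, hμ⟩ := exists_proper_subfield hp hchar hcardF hd0 hde hdz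
    exact hgeo (geo_of_realisable hN hnorm habs F₀ hF₀ (realisable_of_mono B hB F₀ hμ))
  -- `e` is odd
  have hodd : Odd (e : ℕ) := by
    by_contra hev
    rw [Nat.not_odd_iff_even] at hev
    obtain ⟨k, hk⟩ := hev
    have hk2 : (e : ℕ) = 2 * k := by omega
    have hk0 : 0 < k := by omega
    obtain ⟨σ, hσ1, hσ2, hσ3⟩ := exists_half_frobenius hp hchar hk0 (hk2 ▸ hcardF)
    have hnd : ¬ Nat.card (Subgroup.center N) ∣ p ^ k - 1 := hminF.2.2.2.2 k hk0 (by omega)
    have hdvd := dvd_pow_add_one hp hzpr (hk2 ▸ hzdvd) hnd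
    have hinv : ∀ c : F, c ^ Nat.card (Subgroup.center N) = 1 → σ c * c = 1 := by
      intro c hc
      rw [hσ3, ← pow_succ]
      obtain ⟨t, ht⟩ := hdvd
      rw [ht, pow_mul, hc, one_pow]
    obtain ⟨f, hf, hfix⟩ := unitary_of_mono B hB σ hσ1 hσ2 hinv
    exact hgeo (geo_of_fixes_unitary hn hN hnorm habs σ f hf hfix)
  -- class C6
  apply hgeo
  refine Geo.of_C6 r N ⟨hst, habs, p, e, hrp, hminF, ?_⟩ (le_subgroupNormalizer hnorm)
  rcases hzcase with ⟨h3, h4⟩ | ⟨h3, h4⟩
  · left
    refine ⟨hr.odd_of_ne_two h3, hodd, h4, m, hm1, ?_⟩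
    rw [hcardN, h4, pow_add, pow_one, mul_comm]
  · right; left
    subst h3
    refine ⟨rfl, ?_, h4, ?_, m, ?_⟩
    · exact e_eq_one_of_four (h4 ▸ hminF) hodd
    · rw [Fintype.card_fin]
      exact four_le_of_sq hnn hn
    · rw [hcardN, h4, pow_add, mul_comm]
      norm_num


end Cfsg.Agent.Lib.Helper24.AschLeaf
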