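import Mathlib
import Cfsg.Agent.Lib.Helper15.AschUDefs
import Cfsg.Agent.Lib.Helper24.AschA7Main
import Cfsg.Agent.Lib.Helper13.ThRMain

/-!
# S5663 (Aschbacher's theorem for `GU_n(q)`, planner helper15): the symplectic-type case [NIL] = class C6 with form (helper24)

`H ≤ GU_n(q)`, `QP H`, `N` minimal non-scalar `H`-normal with `[N,N] ≤ Z`.  `N` is absolutely irreducible, an `r`-group of
symplectic type (A7 leaves of S5630), `z = |Z(N)|`, `z ∣ p^e - 1`.
 * `F = F_(p^e)` minimal for `z`: then `z ≠ 2` (`e` is even), and `N` is a class-C6 group (`z = r` odd, or `z = 4`, `e = 2`);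
 * otherwise `z ∣ p^d - 1` for some `0 < d < e`: `φ = Frob^d` fixes the traces of `N` (they are `0` or `n c`, `c^z = 1`), so
   Theorem R (helper13) makes `N` realisable over the proper subfield `Fix φ`: subfield class C5 by the form-aware descent [DSC]
   (a hypothesis of the core form below).
-/

set_option autoImplicit false
set_option linter.unusedSectionVars false
set_option linter.unusedVariables false

namespace Cfsg.Agent.Lib.Helper24.AschULeaf
open Matrix Cfsg Cfsg.Geo Cfsg.Agent.Lib.Helper20.Asch Cfsg.Agent.Lib.Helper24.AschA7 Cfsg.Agent.Lib.Helper15.AschU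
open scoped Kronecker commutatorElement
open Cfsg.Agent.Lib.Helper24.AschA7Leaf Cfsg.Agent.Lib.Helper12.AschLeaf Cfsg.Agent.Lib.Helper4.AschLeaf
  Cfsg.Agent.Lib.Helper4.AschA7Leaf Cfsg.Agent.Lib.Helper15.AschA7Leaf
  Cfsg.Agent.Lib.Helper27.AschA7Leaf Cfsg.Agent.Lib.Helper14.AschA7Leaf Cfsg.Agent.Lib.Helper24.AschLeaf

variable {F : Type*} [Field F] [Fintype F] {n : ℕ} {H N : Subgroup (GL (Fin n) F)}

/-- a power of the Frobenius as an automorphism, with proper fixed field containing the `z`-th roots of unity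
(`z ∣ p^d - 1`, `0 < d < e`) -/
theorem exists_fix_of_dvd {p e d z : ℕ} (hp : p.Prime) (hchar : CharP F p) (hcard : Fintype.card F = p ^ e)
    (hd0 : 0 < d) (hde : d < e) (hz : z ∣ p ^ d - 1) :
    ∃ (φ : F ≃+* F) (F₀ : Subfield F), (∀ c : F, c ^ z = 1 → φ c = c) ∧ (∀ c : F, c ∈ F₀ ↔ φ c = c) ∧ F₀ ≠ ⊤ := by
  have : Fact p.Prime := ⟨hp⟩
  have := hchar
  have hinj : Function.Injective (iterateFrobenius F p d) := (iterateFrobenius F p d).injective
  have hbij : Function.Bijective (iterateFrobenius F p d) :=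
    ⟨hinj, Finite.injective_iff_surjective.mp hinj⟩
  have hφ : ∀ a : F, RingEquiv.ofBijective (iterateFrobenius F p d) hbij a = a ^ (p ^ d) := by
    intro a
    rw [RingEquiv.ofBijective_apply, iterateFrobenius_def]
  refine ⟨RingEquiv.ofBijective (iterateFrobenius F p d) hbij,
    (iterateFrobenius F p d).eqLocusField (RingHom.id F), ?_, ?_, ?_⟩
  · intro c hc
    rw [hφ]
    obtain ⟨k, hk⟩ := hz
    have hpd : 1 ≤ p ^ d := Nat.one_le_pow _ _ hp.pos
    have h1 : c ^ (p ^ d - 1) = 1 := by rw [hk, pow_mul, hc, one_pow]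
    calc c ^ (p ^ d) = c ^ (p ^ d - 1 + 1) := by rw [Nat.sub_add_cancel hpd]
      _ = c := by rw [pow_succ, h1, one_mul]
  · intro c
    rw [hφ]
    show iterateFrobenius F p d c = RingHom.id F c ↔ _
    rw [iterateFrobenius_def, RingHom.id_apply]
  · intro htop
    obtain ⟨x, hx⟩ := exists_pow_ne hp hcard hd0 hde
    have : x ∈ (iterateFrobenius F p d).eqLocusField (RingHom.id F) := by rw [htop]; trivial
    apply hx
    have h2 : iterateFrobenius F p d x = RingHom.id F x := this
    rwa [iterateFrobenius_def, RingHom.id_apply] at h2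

/-- the traces of `N` are fixed by every automorphism fixing the `|Z(N)|`-th roots of unity -/
theorem trace_fixed (habs : AbsIrr N) (hcomm : ⁅N, N⁆ ≤ scalars (Fin n) F) (φ : F ≃+* F)
    (hφ : ∀ c : F, c ^ Nat.card (Subgroup.center N) = 1 → φ c = c) {x : GL (Fin n) F} (hx : x ∈ N) :
    φ (Matrix.trace (x : Matrix (Fin n) (Fin n) F)) = Matrix.trace (x : Matrix (Fin n) (Fin n) F) := by
  by_cases hxs : x ∈ scalars (Fin n) F
  · obtain ⟨c, hc⟩ := (mem_scalars_iff x).1 hxs
    have hxc : (⟨x, hx⟩ : N) ∈ Subgroup.center N := (mem_center_iff_scalar habs ⟨x, hx⟩).2 hxs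
    have hpow : (⟨⟨x, hx⟩, hxc⟩ : Subgroup.center N) ^ Nat.card (Subgroup.center N) = 1 := pow_card_eq_one'
    have hpow' : x ^ Nat.card (Subgroup.center N) = 1 := by
      have h1 : (⟨x, hx⟩ : N) ^ Nat.card (Subgroup.center N) = 1 := Subtype.ext_iff.mp hpow
      exact Subtype.ext_iff.mp h1
    rcases Nat.eq_zero_or_pos n with h0 | hpos
    · subst h0
      simp [Matrix.trace]
    · have hcz : (c : F) ^ Nat.card (Subgroup.center N) = 1 := by
        have h1 := congrArg (fun y : GL (Fin n) F => (y : Matrix (Fin n) (Fin n) F) ⟨0, hpos⟩ ⟨0, hpos⟩) hpow'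
        simp only [Units.val_pow_eq_pow_val, hc, Units.val_one, Matrix.one_apply_eq] at h1
        rw [smul_pow, one_pow, Matrix.smul_apply, Matrix.one_apply_eq, smul_eq_mul, mul_one] at h1
        exact h1
      rw [hc, Matrix.trace_smul, Matrix.trace_one, smul_eq_mul, map_mul, map_natCast, hφ _ hcz]
  · rw [trace_eq_zero habs hcomm hx hxs, map_zero]

/-- `GU ≤ similarityGroup` -/
theorem GU_le_similarityGroup (q : ℕ) : Cfsg.GU n F q ≤ similarityGroup (hermForm n F q) := by
  intro g hg
  exact ⟨1, fun u v => by rw [Units.val_one, one_mul]; exact hg u v⟩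

/-- `F` minimal for `4` and `e` even: `e = 2` -/
theorem e_eq_two_of_four {p e : ℕ} (h : IsMinimalFieldFor 4 p e F) (heven : Even e) : e = 2 := by
  obtain ⟨hp, hchar, hcard, hdvd, hmin⟩ := h
  by_contra hne
  obtain ⟨m, hm⟩ := heven
  have he0 : e ≠ 0 := by
    intro h0
    rw [h0, pow_zero] at hcard
    have := Fintype.one_lt_card (α := F)
    omega
  have he3 : 2 < e := by omega
  have hpodd : p % 2 = 1 := by
    rcases hp.eq_two_or_odd with h2 | h2
    · exfalso
      subst h2
      have h1 : 2 ∣ 2 ^ e - 1 := dvd_trans (by norm_num) hdvd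
      have h2 : 2 ∣ 2 ^ e := dvd_pow_self 2 he0
      have h3 : 1 ≤ 2 ^ e := Nat.one_le_two_pow
      omega
    · exact h2
  apply hmin 2 (by norm_num) he3
  -- `4 ∣ p² - 1`
  have h4 : p % 4 = 1 ∨ p % 4 = 3 := by omega
  have hsq : p ^ 2 % 4 = 1 := by
    rw [pow_two, Nat.mul_mod]
    rcases h4 with h | h <;> rw [h]
  have h1 : 1 ≤ p ^ 2 := Nat.one_le_pow _ _ hp.pos
  omega

/-- [NIL], core form: the form-aware subfield descent [DSC] (helper15) is a hypothesis. -/
theorem geoU_of_nilpotent_core {q : ℕ} (hF : Fintype.card F = q ^ 2)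
    (hDSC : ∀ F₀ : Subfield F, F₀ ≠ ⊤ → RealisableOver F₀ (matrixSet N) → GeoU q H)
    (hHU : H ≤ Cfsg.GU n F q) (hirr : Irr H) (hqp : QP H) (hN : N ≤ H)
    (hnorm : NormBy H N) (hns : ¬ N ≤ scalars (Fin n) F)
    (hmin : ∀ M : Subgroup (GL (Fin n) F), M ≤ N → NormBy H M → M = N ∨ M ≤ scalars (Fin n) F)
    (hcomm : ⁅N, N⁆ ≤ scalars (Fin n) F) : GeoU q H := by
  have habs : AbsIrr N := (hqp N hN hnorm).resolve_left hns
  have hn0 : 0 < n := by
    rcases Nat.eq_zero_or_pos n with h0 | h0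
    · exfalso
      subst h0
      apply hns
      intro x _
      have : x = 1 := by
        apply Units.ext
        ext i
        exact i.elim0
      rw [this]
      exact Subgroup.one_mem _
    · exact h0
  have hcm : CM N := cm_of_ctx habs hN hnorm hns hmin hcomm
  obtain ⟨r, hr, hpg⟩ := cm_exists_prime hcm
  obtain ⟨p, hchar⟩ := CharP.exists F
  obtain ⟨e, hp, hcardF⟩ := FiniteField.card F p
  have hrp : r ≠ p := prime_ne_char habs.1 hns hr hchar hpg
  have hpow := cm_pow_mem_center hcm hr hpg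
  have hcp := cm_comm_pow hcm.comm_central hpow
  have hexp : ∀ x : N, x ^ (r * Nat.gcd 2 r) = 1 := by
    intro x
    by_cases h2 : r = 2
    · subst h2
      exact cm_pow_four hcm hpg hpow hcp x
    · have hg : Nat.gcd 2 r = 1 := by
        rcases Nat.Prime.eq_one_or_self_of_dvd Nat.prime_two (Nat.gcd 2 r) (Nat.gcd_dvd_left 2 r) with h | h
        · exact h
        · exfalso
          have h3 : 2 ∣ r := h ▸ Nat.gcd_dvd_right 2 r
          exact h2 ((Nat.prime_dvd_prime_iff_eq Nat.prime_two hr).1 h3).symm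
      rw [hg, mul_one]
      exact cm_pow_eq_one_odd hcm hr h2 hpg hpow hcp x
  obtain ⟨hzo, hze⟩ := cm_card_center hcm hr hpg hexp
  obtain ⟨k, hk1, hcardN⟩ := cm_card hcm hr hpg hcp
  have hst := symplecticType_of_cm hcm hr hpg hexp
  obtain ⟨ζ, hζ⟩ := exists_primitive_root hn0 habs
  have hzpos : 0 < Nat.card (Subgroup.center N) := Nat.card_pos
  have hzdvd : Nat.card (Subgroup.center N) ∣ p ^ (e : ℕ) - 1 := by
    have hζ0 : ζ ≠ 0 := hζ.ne_zero hzpos.ne'
    have := FiniteField.pow_card_sub_one_eq_one ζ hζ0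
    rw [hcardF] at this
    exact hζ.dvd_of_pow_eq_one _ this
  -- `e` is even
  have heven : Even (e : ℕ) := by
    have h1 : p ^ (e : ℕ) = q ^ 2 := by rw [← hcardF, hF]
    have hq : q ∣ p ^ (e : ℕ) := by rw [h1]; exact dvd_pow_self q (by norm_num)
    obtain ⟨j, _, rfl⟩ := (Nat.dvd_prime_pow hp).mp hq
    have h2 : p ^ (e : ℕ) = p ^ (j * 2) := by rw [h1, pow_mul]
    have := Nat.pow_right_injective hp.two_le h2
    exact ⟨j, by omega⟩
  by_cases hminF : IsMinimalFieldFor (Nat.card (Subgroup.center N)) p e F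
  · -- class C6
    have hle : H ≤ subgroupNormalizer N ⊓ Cfsg.GU n F q := le_inf (le_subgroupNormalizer hnorm) hHU
    have hsim : N ≤ similarityGroup (hermForm n F q) := (hN.trans hHU).trans (GU_le_similarityGroup q)
    by_cases hr2 : r = 2
    · subst hr2
      rcases hze rfl with hz | hz
      · -- `z = 2` is impossible: `e ≥ 2` and `2 ∣ p - 1`
        exfalso
        obtain ⟨-, -, -, -, hm⟩ := hminF
        have he2 : 1 < (e : ℕ) := by
          obtain ⟨j, hj⟩ := heven
          have := e.pos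
          omega
        apply hm 1 one_pos he2
        rw [hz, pow_one]
        have hpodd : p % 2 = 1 := by
          rcases hp.eq_two_or_odd with h2 | h2
          · exact absurd h2.symm hrp
          · exact h2
        have := hp.pos
        omega
      · have he2 : (e : ℕ) = 2 := e_eq_two_of_four (hz ▸ hminF) heven
        refine GeoU.of_C6 2 N p e k hst habs hsim hrp hminF (Or.inr ⟨rfl, he2, hz, ?_⟩) hle
        rw [hcardN, hz, pow_add]
        norm_num
        ring
    · have hz := hzo hr2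
      have hodd : Odd r := hr.odd_of_ne_two hr2
      refine GeoU.of_C6 r N p e k hst habs hsim hrp hminF (Or.inl ⟨hodd, hz, hk1, ?_⟩) hle
      rw [hcardN, hz, pow_add, pow_one, mul_comm]
  · -- not minimal: realisable over a proper subfield
    have hex : ∃ d : ℕ, 0 < d ∧ d < (e : ℕ) ∧ Nat.card (Subgroup.center N) ∣ p ^ d - 1 := by
      by_contra hcon
      push Not at hcon
      exact hminF ⟨hp, hchar, hcardF, hzdvd, fun d hd0 hde hdv => hcon d hd0 hde hdv⟩
    obtain ⟨d, hd0, hde, hdv⟩ := hex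
    obtain ⟨φ, F₀, hφ, hF₀, hne⟩ := exists_fix_of_dvd hp hchar hcardF hd0 hde hdv
    exact hDSC F₀ hne (Cfsg.Agent.Lib.Helper13.ThR.theoremR N habs φ
      (fun x hx => trace_fixed habs hcomm φ hφ hx) F₀ hF₀)

end Cfsg.Agent.Lib.Helper24.AschULeaf
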