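import Mathlib

/-!
# S2264/S2265 leaf P5: split off the roots `1` and `-1` of a polynomial over a finite field
-/

set_option autoImplicit false

namespace Cfsg.Agent.Lib.Helper24.EOrdP5

open Polynomial

section
variable {F : Type*} [Field F]

lemma mirror_pow' (p : F[X]) (n : ℕ) : (p ^ n).mirror = p.mirror ^ n := by
  induction n with
  | zero => rw [pow_zero, pow_zero, ← C_1, mirror_C]
  | succ n ih => rw [pow_succ, mirror_mul_of_domain, ih, pow_succ]

lemma reverse_X' : (X : F[X]).reverse = 1 := by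
  rw [← one_mul (X : F[X]), reverse_mul_X, ← C_1, reverse_C]

lemma mirror_X_sub_one : (X - 1 : F[X]).mirror = -(X - 1) := by
  have h : (X - 1 : F[X]) = X + C (-1) := by simp [sub_eq_add_neg]
  have hne : (-1 : F) ≠ 0 := by simp
  rw [h]
  have : (X + C (-1) : F[X]).mirror = (X + C (-1) : F[X]).reverse * X ^ (X + C (-1) : F[X]).natTrailingDegree := rfl
  rw [this]
  have htd : (X + C (-1) : F[X]).natTrailingDegree = 0 := by
    apply natTrailingDegree_eq_zero_of_constantCoeff_ne_zero
    simp
  rw [htd, pow_zero, mul_one]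
  have hr : (X + C (-1) : F[X]).reverse = 1 + C (-1) * X := by
    rw [reverse_add_C, reverse_X']
    simp
  rw [hr]
  simp only [map_neg, map_one]
  ring

lemma mirror_X_add_one : (X + 1 : F[X]).mirror = X + 1 := by
  have h : (X + 1 : F[X]) = X + C 1 := by simp
  rw [h]
  have : (X + C 1 : F[X]).mirror = (X + C 1 : F[X]).reverse * X ^ (X + C 1 : F[X]).natTrailingDegree := rfl
  rw [this]
  have htd : (X + C 1 : F[X]).natTrailingDegree = 0 := by
    apply natTrailingDegree_eq_zero_of_constantCoeff_ne_zero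
    simp
  rw [htd, pow_zero, mul_one]
  have hr : (X + C 1 : F[X]).reverse = 1 + C 1 * X := by
    rw [reverse_add_C, reverse_X']
    simp
  rw [hr]
  simp only [map_one]
  ring

/-- mirror passes through the split `(X-1)^a (X+1)^b P₁` up to a sign -/
lemma mirror_split (a b : ℕ) (P₁ : F[X]) :
    ((X - 1) ^ a * (X + 1) ^ b * P₁).mirror =
      C ((-1 : F) ^ a) * ((X - 1) ^ a * (X + 1) ^ b * P₁.mirror) := by
  rw [mirror_mul_of_domain, mirror_mul_of_domain, mirror_pow', mirror_pow', mirror_X_sub_one,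
    mirror_X_add_one, neg_pow]
  simp only [map_pow, map_neg, map_one]
  ring

lemma associated_of_split {a b : ℕ} {P₁ : F[X]}
    (h : Associated ((X - 1) ^ a * (X + 1) ^ b * P₁).mirror ((X - 1) ^ a * (X + 1) ^ b * P₁))
    (hne : ((X - 1 : F[X]) ^ a * (X + 1) ^ b) ≠ 0) :
    Associated P₁.mirror P₁ := by
  rw [mirror_split] at h
  have hu : IsUnit (C ((-1 : F) ^ a)) := by
    apply isUnit_C.mpr
    exact IsUnit.pow _ (by simp)
  have h2 : Associated ((X - 1) ^ a * (X + 1) ^ b * P₁.mirror) ((X - 1) ^ a * (X + 1) ^ b * P₁) :=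
    (associated_isUnit_mul_left_iff hu).mp h
  exact Associated.of_mul_left h2 (Associated.refl _) hne

end

variable {F : Type*} [Field F] [Fintype F]

set_option linter.unusedSectionVars false in
/-- LEAF P5: split off the roots `1` and `-1`. -/
theorem exists_split (P : F[X]) (hP : P ≠ 0) :
    ∃ (a b : ℕ) (P₁ : F[X]), P = (X - 1) ^ a * (X + 1) ^ b * P₁ ∧
      P₁.eval 1 ≠ 0 ∧ P₁.eval (-1) ≠ 0 ∧ (ringChar F = 2 → b = 0) ∧
      (Associated P.mirror P → Associated P₁.mirror P₁) := by
  classical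
  obtain ⟨Q, hQ, hQnd⟩ := P.exists_eq_pow_rootMultiplicity_mul_and_not_dvd hP 1
  set a := P.rootMultiplicity 1 with ha
  have hQ0 : Q ≠ 0 := by
    rintro rfl
    exact hP (by rw [hQ, mul_zero])
  have hQ1 : Q.eval 1 ≠ 0 := by
    intro h
    exact hQnd (dvd_iff_isRoot.mpr h)
  have hX1 : (X - C (1 : F)) = X - 1 := by simp
  rw [hX1] at hQ
  by_cases h2 : ringChar F = 2
  · refine ⟨a, 0, Q, by simpa using hQ, hQ1, ?_, fun _ => rfl, ?_⟩
    · have : (-1 : F) = 1 := by
        have : CharP F 2 := h2 ▸ ringChar.charP F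
        exact CharTwo.neg_eq (1 : F)
      rw [this]; exact hQ1
    · intro hm
      have hne : ((X - 1 : F[X]) ^ a * (X + 1) ^ 0) ≠ 0 := by
        simp only [pow_zero, mul_one]
        exact pow_ne_zero _ (X_sub_C_ne_zero (1 : F) |> fun h => by simpa using h)
      apply associated_of_split (a := a) (b := 0) _ hne
      have : P = (X - 1) ^ a * (X + 1) ^ 0 * Q := by simpa using hQ
      rw [← this]; exact hm
  · obtain ⟨R, hR, hRnd⟩ := Q.exists_eq_pow_rootMultiplicity_mul_and_not_dvd hQ0 (-1)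
    set b := Q.rootMultiplicity (-1) with hb
    have hXm1 : (X - C (-1 : F)) = X + 1 := by simp
    rw [hXm1] at hR hRnd
    have hRm1 : R.eval (-1) ≠ 0 := by
      intro h
      apply hRnd
      have := dvd_iff_isRoot.mpr h
      rwa [hXm1] at this
    have hR1 : R.eval 1 ≠ 0 := by
      intro h
      apply hQ1
      rw [hR, eval_mul, h, mul_zero]
    have hPeq : P = (X - 1) ^ a * (X + 1) ^ b * R := by
      rw [hQ, hR, mul_assoc]
    refine ⟨a, b, R, hPeq, hR1, hRm1, fun h => absurd h h2, ?_⟩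
    intro hm
    have hne : ((X - 1 : F[X]) ^ a * (X + 1) ^ b) ≠ 0 := by
      apply mul_ne_zero
      · exact pow_ne_zero _ (by simpa using X_sub_C_ne_zero (1 : F))
      · exact pow_ne_zero _ (by simpa using X_sub_C_ne_zero (-1 : F))
    apply associated_of_split (a := a) (b := b) _ hne
    rw [← hPeq]; exact hm

end Cfsg.Agent.Lib.Helper24.EOrdP5
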