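import Mathlib
import Cfsg.Agent.Lib.Helper7.EOrdP7Core
import Cfsg.Agent.Lib.Helper24.EOrdP5
import Cfsg.Agent.Lib.Helper9.EOrdLB
import Cfsg.Agent.Lib.Helper11.EOrdP4

/-!
# S2264/S2265 leaf P6 (`poly_order_even_of` against the statements of leaves LB, P4; then the exact leaf)

`P` self-reciprocal of degree `2m` (`m ≥ 1`) over a finite field `F_q` divides `X^N - 1` or
`X^N + 1` for some `N` with `(q-1) N ≤ q^(m+1)`.
-/

set_option autoImplicit false

namespace Cfsg.Agent.Lib.Helper24.EOrdP6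

open Polynomial
open Cfsg.Agent.Lib.Helper7.EOrdP7Core

variable {F : Type*} [Field F] [Fintype F]

theorem X_pow_add_one_pow_char (s j : ℕ) :
    ((X : F[X]) ^ s + 1) ^ (ringChar F ^ j) = X ^ (s * ringChar F ^ j) + 1 := by
  have : CharP F (ringChar F) := ringChar.charP F
  have : Fact (ringChar F).Prime := ⟨CharP.char_is_prime F _⟩
  rw [add_pow_char_pow, one_pow, ← pow_mul]

theorem X_add_one_pow_dvd_add {b j : ℕ} (hb : b ≤ ringChar F ^ j) :
    ((X : F[X]) + 1) ^ b ∣ X ^ (ringChar F ^ j) + 1 := by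
  have h := X_pow_add_one_pow_char (F := F) 1 j
  rw [pow_one, one_mul] at h
  rw [← h]
  exact pow_dvd_pow _ hb

/-- LEAF P6 against the statements of LB, P4. -/
theorem poly_order_even_of
    (hLB : ∀ (q : ℕ), 2 ≤ q → ∀ (K : Finset ℕ), (∀ k ∈ K, 1 ≤ k) →
      (q - 1) * K.lcm (fun k => q ^ k + 1) ≤ q ^ (K.sum id + 1))
    (hP4 : ∀ (P : F[X]), P.coeff 0 ≠ 0 → Associated P.mirror P → P.eval 1 ≠ 0 →
      P.eval (-1) ≠ 0 →
      ∃ (m : ℕ) (K : Finset ℕ) (nA e : ℕ),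
        P.natDegree = 2 * m ∧ (∀ k ∈ K, 1 ≤ k) ∧ 1 ≤ nA ∧
        P ∣ (X ^ (nA * K.lcm (fun k => Fintype.card F ^ k + 1)) - 1) ^ (ringChar F ^ e) ∧
        nA * ringChar F ^ e * Fintype.card F ^ (K.sum id) ≤ Fintype.card F ^ m ∧
        (Odd (Fintype.card F) → 1 ≤ m →
          Even (nA * K.lcm (fun k => Fintype.card F ^ k + 1))))
    (P : F[X]) (m : ℕ) (hm : 1 ≤ m) (hdeg : P.natDegree = 2 * m)
    (hP0 : P.coeff 0 ≠ 0) (hmir : Associated P.mirror P) :
    ∃ N, 1 ≤ N ∧ (Fintype.card F - 1) * N ≤ Fintype.card F ^ (m + 1) ∧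
      (P ∣ X ^ N - 1 ∨ P ∣ X ^ N + 1) := by
  classical
  have hcharP : CharP F (ringChar F) := ringChar.charP F
  obtain ⟨n, hpprime, hqp⟩ := FiniteField.card F (ringChar F)
  have hP_ne : P ≠ 0 := by rintro rfl; simp at hP0
  obtain ⟨a, b, P₁, hPeq, h1, hm1, hb2, hmir₁⟩ := EOrdP5.exists_split P hP_ne
  generalize hq : Fintype.card F = q at *
  generalize hp : ringChar F = p at *
  have hp2 : 2 ≤ p := hpprime.two_le
  have hpq : p ≤ q := by rw [hqp]; exact Nat.le_self_pow n.pos.ne' p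
  have hq2 : 2 ≤ q := hp2.trans hpq
  have h2F : p ≠ 2 → (2 : F) ≠ 0 := by
    intro hne h
    have h' : ((2 : ℕ) : F) = 0 := by exact_mod_cast h
    rw [CharP.cast_eq_zero_iff F p 2] at h'
    exact hne ((Nat.prime_dvd_prime_iff_eq hpprime Nat.prime_two).mp h')
  have hqodd : p ≠ 2 → Odd q := by
    intro hne
    rw [hqp]; exact (hpprime.odd_of_ne_two hne).pow
  have hp3 : p ≠ 2 → 3 ≤ p := by
    intro hne; omega
  have hmir₁ := hmir₁ hmir
  have hP₁0 : P₁.coeff 0 ≠ 0 := by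
    intro h; apply hP0; rw [hPeq, mul_coeff_zero, h, mul_zero]
  have hP₁ne : P₁ ≠ 0 := by rintro rfl; simp at hP₁0
  obtain ⟨m₁, K, nA, e, hdeg₁, hK, hnA, hdvd, hcost, heven⟩ := hP4 P₁ hP₁0 hmir₁ h1 hm1
  have hXs : ((X : F[X]) - 1).natDegree = 1 := by rw [← C_1]; exact natDegree_X_sub_C 1
  have hXa : ((X : F[X]) + 1).natDegree = 1 := by rw [← C_1]; exact natDegree_X_add_C 1
  have hXs0 : ((X : F[X]) - 1) ≠ 0 := by intro h; rw [h] at hXs; simp at hXs
  have hXa0 : ((X : F[X]) + 1) ≠ 0 := by intro h; rw [h] at hXa; simp at hXa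
  have hdegP : P.natDegree = a + b + 2 * m₁ := by
    rw [hPeq, natDegree_mul (mul_ne_zero (pow_ne_zero _ hXs0) (pow_ne_zero _ hXa0)) hP₁ne,
      natDegree_mul (pow_ne_zero _ hXs0) (pow_ne_zero _ hXa0), natDegree_pow, natDegree_pow,
      hXs, hXa, hdeg₁]
    ring
  set L := K.lcm (fun k => q ^ k + 1) with hL
  have hL1 : 1 ≤ L := by
    rw [Nat.one_le_iff_ne_zero, hL, Ne, Finset.lcm_eq_zero_iff]
    rintro ⟨k, -, hk⟩
    simp at hk
  have hLB' := hLB q hq2 K hK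
  rw [← hL] at hLB'
  have hppos : 0 < p := by omega
  rw [hPeq]
  rcases Nat.eq_zero_or_pos m₁ with hm₁ | hm₁
  · -- `P₁` is a unit
    have hunit : IsUnit P₁ := by
      rw [hm₁, mul_zero] at hdeg₁
      rw [eq_C_of_natDegree_eq_zero hdeg₁] at hP₁ne ⊢
      exact isUnit_C.mpr (isUnit_iff_ne_zero.mpr (fun h => hP₁ne (by rw [h, C_0])))
    have hab : a + b = 2 * m := by omega
    have hbound : (q - 1) * (1 * p ^ m) ≤ q ^ (m + 1) := by
      calc (q - 1) * (1 * p ^ m) ≤ q * q ^ m := by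
            rw [one_mul]; exact Nat.mul_le_mul (Nat.sub_le _ _) (Nat.pow_le_pow_left hpq m)
        _ = q ^ (m + 1) := by rw [pow_succ, mul_comm]
    have hpm : 1 ≤ 1 * p ^ m := by
      have := Nat.pow_pos (n := m) hppos; omega
    have h2m : 2 * m ≤ p ^ m := (two_mul_le_two_pow m).trans (Nat.pow_le_pow_left hp2 _)
    by_cases hb0 : b = 0
    · -- `b = 0`, `a = 2m`
      refine ⟨1 * p ^ m, hpm, hbound, Or.inl ?_⟩
      rw [← hp]
      refine dvd_of_parts h1 hm1 1 m ?_ (Or.inl hb0) hunit.dvd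
      rw [hp]; omega
    · have hp2' : p ≠ 2 := fun h => hb0 (hb2 h)
      have h3 := hp3 hp2'
      by_cases ha0 : a = 0
      · -- `a = 0`, `b = 2m`: `X^N + 1`
        refine ⟨1 * p ^ m, hpm, hbound, Or.inr ?_⟩
        rw [ha0, pow_zero, one_mul, one_mul]
        refine (IsUnit.mul_right_dvd hunit).mpr ?_
        rw [← hp]
        apply X_add_one_pow_dvd_add
        rw [hp]; omega
      · -- both positive
        obtain ⟨k, rfl⟩ : ∃ k, m = k + 1 := ⟨m - 1, by omega⟩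
        have hab' : 2 * k + 1 ≤ p ^ k :=
          (two_mul_add_one_le_three_pow k).trans (Nat.pow_le_pow_left h3 _)
        refine ⟨2 * p ^ k, by have := Nat.pow_pos (n := k) hppos; omega, ?_, Or.inl ?_⟩
        · have hqq : (q - 1) * 2 ≤ q * q := by
            rcases q with _ | q
            · simp
            · simp only [Nat.add_sub_cancel]; nlinarith
          calc (q - 1) * (2 * p ^ k) = ((q - 1) * 2) * p ^ k := by ring
            _ ≤ (q * q) * q ^ k := Nat.mul_le_mul hqq (Nat.pow_le_pow_left hpq _)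
            _ = q ^ (k + 1 + 1) := by ring
        · rw [← hp]
          refine dvd_of_parts h1 hm1 2 k ?_ (Or.inr ⟨even_two, h2F hp2', ?_⟩) hunit.dvd
          · rw [hp]; omega
          · rw [hp]; omega
  · -- `m₁ ≥ 1`
    have hm₁m : m₁ ≤ m := by omega
    obtain ⟨c, rfl⟩ : ∃ c, m = m₁ + c := ⟨m - m₁, by omega⟩
    have hab : a + b ≤ p ^ c := by
      have : a + b = 2 * c := by omega
      rw [this]
      exact (two_mul_le_two_pow c).trans (Nat.pow_le_pow_left hp2 _)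
    refine ⟨(nA * L * p ^ e) * p ^ c, ?_, ?_, Or.inl ?_⟩
    · have h1 := Nat.pow_pos (n := e) hppos
      have h2 := Nat.pow_pos (n := c) hppos
      exact Nat.mul_pos (Nat.mul_pos (Nat.mul_pos hnA hL1) h1) h2
    · calc (q - 1) * (nA * L * p ^ e * p ^ c) = ((q - 1) * L) * (nA * p ^ e) * p ^ c := by ring
        _ ≤ q ^ (K.sum id + 1) * (nA * p ^ e) * q ^ c :=
            Nat.mul_le_mul (Nat.mul_le_mul hLB' le_rfl) (Nat.pow_le_pow_left hpq _)
        _ = (nA * p ^ e * q ^ (K.sum id)) * q * q ^ c := by ring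
        _ ≤ q ^ m₁ * q * q ^ c := Nat.mul_le_mul (Nat.mul_le_mul hcost le_rfl) le_rfl
        _ = q ^ (m₁ + c + 1) := by ring
    · rw [← hp]
      refine dvd_of_parts h1 hm1 (nA * L * ringChar F ^ e) c ?_ ?_ ?_
      · rw [hp]; omega
      · by_cases hb0 : b = 0
        · exact Or.inl hb0
        · have hne : p ≠ 2 := fun h => hb0 (hb2 h)
          refine Or.inr ⟨?_, h2F hne, by rw [hp]; omega⟩
          exact (heven (hqodd hne) hm₁).mul_right _
      · refine hdvd.trans ?_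
        rw [← hp, X_pow_sub_one_pow_char]
        exact pow_one_sub_dvd_pow_mul_sub_one _ _ _

/-- LEAF P6 (even degree `2m`): `P ∣ X^N ∓ 1` with `(q-1)N ≤ q^(m+1)`. -/
theorem poly_order_even (P : F[X]) (m : ℕ) (hm : 1 ≤ m) (hdeg : P.natDegree = 2 * m)
    (hP0 : P.coeff 0 ≠ 0) (hmir : Associated P.mirror P) :
    ∃ N, 1 ≤ N ∧ (Fintype.card F - 1) * N ≤ Fintype.card F ^ (m + 1) ∧
      (P ∣ X ^ N - 1 ∨ P ∣ X ^ N + 1) :=
  poly_order_even_of Cfsg.Agent.Lib.Helper9.EOrdLB.lcm_pow_add_one_le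
    (fun Q h0 hmQ h1 hm1 => Cfsg.Agent.Lib.Helper11.EOrdP4.main_induction Q h0 hmQ h1 hm1)
    P m hm hdeg hP0 hmir

end Cfsg.Agent.Lib.Helper24.EOrdP6
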