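/-
Helper24 library: Sylow `p`-subgroups normalizing Sylow `q`-subgroups: Sylow subgroups inside subgroups of
`p'`-index, conjugacy modulo a normal subgroup, class-size hypotheses in quotients, coprime action.
-/
import Mathlib
import Cfsg.Agent.Lib.Helper12.Basic
import Cfsg.Agent.Lib.Helper17.Coprime
import Cfsg.Agent.Lib.Helper24.PSolvable
import Cfsg.Agent.Lib.Helper4.Basic

set_option autoImplicit false

namespace Cfsg.Agent.Lib.Helper24

open scoped Pointwise

universe u

variable {G : Type u} [Group G]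

/-- A subgroup of index prime to `p` contains a Sylow `p`-subgroup. -/
theorem exists_sylow_le_of_not_dvd_index [Finite G] {p : ℕ} [hp : Fact p.Prime] (B : Subgroup G)
    (h : ¬ p ∣ B.index) : ∃ S : Sylow p G, (S : Subgroup G) ≤ B := by
  obtain ⟨P₀⟩ : Nonempty (Sylow p B) := inferInstance
  have hpg : IsPGroup p ((P₀ : Subgroup B).map B.subtype) := P₀.isPGroup'.map B.subtype
  have hidx2 : ¬ p ∣ ((P₀ : Subgroup B).map B.subtype).index := by
    rw [Subgroup.index_map_subtype]
    exact Nat.Prime.not_dvd_mul hp.out P₀.not_dvd_index h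
  refine ⟨hpg.toSylow hidx2, ?_⟩
  show (P₀ : Subgroup B).map B.subtype ≤ B
  exact Subgroup.map_subtype_le _

/-- A Sylow `p`-subgroup `P ≤ V` can be conjugated into any `A ≤ V` with `|V : A|` prime to `p`. -/
theorem exists_smul_sylow_le [Finite G] {p : ℕ} [hp : Fact p.Prime] (P : Sylow p G) (A V : Subgroup G)
    (hPV : (P : Subgroup G) ≤ V) (hAV : A ≤ V) (h : ¬ p ∣ A.relIndex V) :
    ∃ v : G, ((v • P : Sylow p G) : Subgroup G) ≤ A := by
  obtain ⟨T₀⟩ : Nonempty (Sylow p A) := inferInstance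
  set T : Subgroup G := (T₀ : Subgroup A).map A.subtype with hT
  have hTA : T ≤ A := Subgroup.map_subtype_le _
  have hTp : IsPGroup p T := T₀.isPGroup'.map A.subtype
  have h1 : T.relIndex A = (T₀ : Subgroup A).index := by
    show (T.subgroupOf A).index = _
    have : T.subgroupOf A = (T₀ : Subgroup A) :=
      Subgroup.comap_map_eq_self_of_injective A.subtype_injective _
    rw [this]
  have h2 : ¬ p ∣ T.relIndex V := by
    rw [← Subgroup.relIndex_mul_relIndex T A V hTA hAV, h1]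
    exact Nat.Prime.not_dvd_mul hp.out T₀.not_dvd_index h
  obtain ⟨v, _, hv⟩ := Cfsg.Agent.Lib.Helper12.exists_conj_mem_of_relIndex T V (P : Subgroup G) hTp h2 hPV
    P.isPGroup'
  refine ⟨v, ?_⟩
  intro u hu
  rw [mem_smul_sylow_iff] at hu
  have := hv _ hu
  have h3 : v * (v⁻¹ * u * v) * v⁻¹ = u := by group
  rw [h3] at this
  exact hTA this

/-- Sylow `q`-subgroups inside `Q ⊔ N` (`N` normal) are conjugate to `Q` by elements of `N`. -/
theorem exists_mem_smul_eq_of_le_sup [Finite G] {q : ℕ} [hq : Fact q.Prime] (Q S : Sylow q G)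
    (N : Subgroup G) [N.Normal] (hS : (S : Subgroup G) ≤ (Q : Subgroup G) ⊔ N) :
    ∃ n ∈ N, S = n • Q := by
  obtain ⟨h, hhT, hh⟩ := Cfsg.Agent.Lib.Helper12.exists_conj_mem_sylow Q ((Q : Subgroup G) ⊔ N)
    (S : Subgroup G) le_sup_left hS S.isPGroup'
  -- h • S = Q
  have h1 : ((h • S : Sylow q G) : Subgroup G) ≤ (Q : Subgroup G) := by
    intro u hu
    rw [mem_smul_sylow_iff] at hu
    have := hh _ hu
    have h3 : h * (h⁻¹ * u * h) * h⁻¹ = u := by group
    rw [h3] at this
    exact this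
  have h2 : (Q : Subgroup G) = ((h • S : Sylow q G) : Subgroup G) :=
    (h • S).is_maximal' Q.isPGroup' h1
  have h2' : Q = h • S := Sylow.ext h2
  -- decompose h
  have hmem : h ∈ ((↑((Q : Subgroup G) ⊔ N) : Set G)) := hhT
  rw [Subgroup.mul_normal] at hmem
  obtain ⟨a, ha, n, hn, rfl⟩ := Set.mem_mul.mp hmem
  refine ⟨n⁻¹, N.inv_mem hn, ?_⟩
  have ha' : a • Q = Q := Sylow.smul_eq_iff_mem_normalizer.mpr (Subgroup.le_normalizer ha)
  have h4 : a⁻¹ • Q = Q := by
    rw [inv_smul_eq_iff, ha']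
  have hQ : Q = a • (n • S) := by rw [h2', mul_smul]
  have h5 : n • S = Q := by
    calc n • S = a⁻¹ • (a • (n • S)) := (inv_smul_smul _ _).symm
      _ = a⁻¹ • Q := by rw [← hQ]
      _ = Q := h4
  rw [← h5, inv_smul_smul]

/-- Class-size hypothesis: an element whose class size is prime to `p` is centralized by a Sylow `p`-subgroup. -/
theorem exists_sylow_le_centralizer [Finite G] {p : ℕ} [hp : Fact p.Prime] (y : G)
    (h : ¬ p ∣ (Subgroup.centralizer ({y} : Set G)).index) :
    ∃ S : Sylow p G, (S : Subgroup G) ≤ Subgroup.centralizer ({y} : Set G) :=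
  exists_sylow_le_of_not_dvd_index _ h

/-- The hypothesis "no `q`-element has class size divisible by `p`" passes to quotients. -/
theorem class_size_hyp_quotient [Finite G] (p q : ℕ) [hq : Fact q.Prime] (N : Subgroup G) [N.Normal]
    (h : ∀ y : G, (∃ k : ℕ, orderOf y = q ^ k) → ¬ p ∣ (Subgroup.centralizer ({y} : Set G)).index) :
    ∀ y : G ⧸ N, (∃ k : ℕ, orderOf y = q ^ k) →
      ¬ p ∣ (Subgroup.centralizer ({y} : Set (G ⧸ N))).index := by
  intro yb ⟨k, hk⟩
  obtain ⟨y₀, rfl⟩ := QuotientGroup.mk'_surjective N yb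
  obtain ⟨i, j, hdec, ⟨a, ha⟩, hcop⟩ := Cfsg.Agent.Lib.Helper17.exists_p_pprime_decomp q y₀
  set π := QuotientGroup.mk' N with hπ
  -- the q'-part maps to 1
  have hj1 : π (y₀ ^ j) = 1 := by
    rw [← orderOf_eq_one_iff]
    have h1 : orderOf (π (y₀ ^ j)) ∣ orderOf (y₀ ^ j) := orderOf_map_dvd _ _
    have h2 : orderOf (π (y₀ ^ j)) ∣ q ^ k := by
      rw [map_zpow, ← hk]
      apply orderOf_dvd_of_pow_eq_one
      rw [← zpow_natCast, ← zpow_mul, mul_comm, zpow_mul, zpow_natCast, pow_orderOf_eq_one, one_zpow]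
    have h3 : Nat.Coprime (orderOf (π (y₀ ^ j))) (orderOf (π (y₀ ^ j))) :=
      Nat.Coprime.coprime_dvd_left h1 (Nat.Coprime.coprime_dvd_right h2 (Nat.Coprime.pow_right k hcop))
    exact (Nat.coprime_self _).mp h3
  have hπy : π (y₀ ^ i) = π y₀ := by
    conv_rhs => rw [hdec, map_mul, hj1, mul_one]
  have hy := h (y₀ ^ i) ⟨a, ha⟩
  intro hdvd
  apply hy
  have hle : (Subgroup.centralizer ({y₀ ^ i} : Set G)).map π ≤ Subgroup.centralizer ({π y₀} : Set (G ⧸ N)) := by
    rintro _ ⟨x, hx, rfl⟩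
    rw [Subgroup.mem_centralizer_iff]
    intro z hz
    rw [Set.mem_singleton_iff] at hz
    subst hz
    rw [← hπy, ← map_mul, ← map_mul]
    congr 1
    exact (Subgroup.mem_centralizer_iff.mp hx) _ (Set.mem_singleton _)
  exact dvd_trans hdvd (dvd_trans (Subgroup.index_dvd_of_le hle)
    (Subgroup.index_map_dvd _ (QuotientGroup.mk'_surjective N)))

/-- A Sylow `p`-subgroup of a normal `q'`-subgroup `N` invariant under a Sylow `q`-subgroup `Q`. -/
theorem exists_invariant_sylow_of_normal [Finite G] (p q : ℕ) [hp : Fact p.Prime] [hq : Fact q.Prime]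
    (N : Subgroup G) [N.Normal] (hN : (Nat.card N).Coprime q) (Q : Sylow q G) :
    ∃ T : Subgroup G, T ≤ N ∧ IsPGroup p T ∧ ¬ p ∣ T.relIndex N ∧
      ∀ y ∈ (Q : Subgroup G), ∀ z ∈ T, y * z * y⁻¹ ∈ T := by
  let φ : ↥(Q : Subgroup G) →* MulAut ↥N := (MulAut.conjNormal (H := N)).comp (Q : Subgroup G).subtype
  letI : MulAction ↥(Q : Subgroup G) (Sylow p ↥N) := MulAction.compHom _ φ
  have hcard : ¬ q ∣ Nat.card (Sylow p ↥N) := by
    obtain ⟨S₀⟩ : Nonempty (Sylow p ↥N) := inferInstance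
    intro hdvd
    have h1 : q ∣ Nat.card N :=
      dvd_trans hdvd (dvd_trans (Sylow.card_dvd_index S₀) (Subgroup.index_dvd_card _))
    have h2 := Nat.Coprime.eq_one_of_dvd hN.symm h1
    exact hq.out.one_lt.ne' h2
  obtain ⟨S, hS⟩ := Q.isPGroup'.nonempty_fixed_point_of_prime_not_dvd_card (Sylow p ↥N) hcard
  refine ⟨(S : Subgroup N).map N.subtype, Subgroup.map_subtype_le _, S.isPGroup'.map N.subtype, ?_, ?_⟩
  · have h1 : ((S : Subgroup N).map N.subtype).relIndex N = (S : Subgroup N).index := by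
      show (((S : Subgroup N).map N.subtype).subgroupOf N).index = _
      have : ((S : Subgroup N).map N.subtype).subgroupOf N = (S : Subgroup N) :=
        Subgroup.comap_map_eq_self_of_injective N.subtype_injective _
      rw [this]
    rw [h1]
    exact S.not_dvd_index
  · rintro y hy _ ⟨z, hz, rfl⟩
    have hfix : (⟨y, hy⟩ : ↥(Q : Subgroup G)) • S = S := hS ⟨y, hy⟩
    have h2 : (φ ⟨y, hy⟩) z ∈ ((φ ⟨y, hy⟩ • S : Sylow p ↥N) : Subgroup N) := by
      rw [Sylow.pointwise_smul_def]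
      exact Subgroup.smul_mem_pointwise_smul z (φ ⟨y, hy⟩) (S : Subgroup N) hz
    have h3 : (φ ⟨y, hy⟩ • S : Sylow p ↥N) = S := hfix
    rw [h3] at h2
    exact ⟨(φ ⟨y, hy⟩) z, h2, rfl⟩

/-- Coprime action: let `N` be a normal `q'`-subgroup and `Q` a Sylow `q`-subgroup such that every element of
`Q` centralizes some Sylow `p`-subgroup of `G`. Then `Q` centralizes some Sylow `p`-subgroup of `N`. -/
theorem exists_sylow_of_normal_centralized [Finite G] (p q : ℕ) [hp : Fact p.Prime] [hq : Fact q.Prime]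
    (N : Subgroup G) [hNn : N.Normal] (hN : (Nat.card N).Coprime q) (Q : Sylow q G)
    (hQ : ∀ y ∈ (Q : Subgroup G), ∃ S : Sylow p G, (S : Subgroup G) ≤ Subgroup.centralizer ({y} : Set G)) :
    ∃ T : Subgroup G, T ≤ N ∧ IsPGroup p T ∧ ¬ p ∣ T.relIndex N ∧
      ∀ y ∈ (Q : Subgroup G), ∀ z ∈ T, y * z = z * y := by
  obtain ⟨T, hTN, hTp, hTidx, hTinv⟩ := exists_invariant_sylow_of_normal p q N hN Q
  refine ⟨T, hTN, hTp, hTidx, ?_⟩
  intro y hy
  obtain ⟨Sy, hSy⟩ := hQ y hy
  -- a Sylow p-subgroup of N centralized by y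
  set T' : Subgroup G := (Sy : Subgroup G) ⊓ N with hT'
  have hT'p : IsPGroup p T' := Sy.isPGroup'.to_le inf_le_left
  have hT'idx : ¬ p ∣ T'.relIndex N := by
    rw [hT', Subgroup.inf_relIndex_right]
    exact Cfsg.Agent.Lib.Helper4.not_dvd_relIndex_of_isSubnormal hNn.isSubnormal Sy
  obtain ⟨n, hnN, hn⟩ := Cfsg.Agent.Lib.Helper12.exists_conj_mem_of_relIndex T' N T hT'p hT'idx hTN hTp
  -- y' = n⁻¹ y n centralizes T
  set y' : G := n⁻¹ * y * n with hy'
  have hy'c : ∀ z ∈ T, y' * z = z * y' := by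
    intro z hz
    have h1 : n * z * n⁻¹ ∈ Subgroup.centralizer ({y} : Set G) := hSy (Subgroup.mem_inf.mp (hn z hz)).1
    have h2 : y * (n * z * n⁻¹) = (n * z * n⁻¹) * y :=
      (Subgroup.mem_centralizer_iff.mp h1) y (Set.mem_singleton y)
    calc y' * z = n⁻¹ * (y * (n * z * n⁻¹)) * n := by rw [hy']; group
      _ = n⁻¹ * ((n * z * n⁻¹) * y) * n := by rw [h2]
      _ = z * y' := by rw [hy']; group
  -- normalizer and centralizer of T
  set B := Subgroup.normalizer (T : Set G) with hB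
  have hyB : y ∈ B := Cfsg.Agent.Lib.Helper17.mem_normalizer_of_forall_conj_mem T y (hTinv y hy)
  have hy'B : y' ∈ B := by
    apply Cfsg.Agent.Lib.Helper17.mem_normalizer_of_forall_conj_mem
    intro z hz
    have : y' * z * y'⁻¹ = z := by rw [hy'c z hz]; group
    rw [this]; exact hz
  set M : Subgroup G := N ⊓ B with hM
  have hm₀ : y' * y⁻¹ ∈ M := by
    refine Subgroup.mem_inf.mpr ⟨?_, B.mul_mem hy'B (B.inv_mem hyB)⟩
    have h1 : y * n * y⁻¹ ∈ N := hNn.conj_mem n hnN y
    have h2 : y' * y⁻¹ = n⁻¹ * (y * n * y⁻¹) := by rw [hy']; group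
    rw [h2]
    exact N.mul_mem (N.inv_mem hnN) h1
  have hMcop : (Nat.card M).Coprime q :=
    Nat.Coprime.coprime_dvd_left (Subgroup.card_dvd_of_le inf_le_left) hN
  -- y normalizes M
  have hyM : Subgroup.zpowers y ≤ Subgroup.normalizer (M : Set G) := by
    rw [Subgroup.zpowers_le]
    apply Cfsg.Agent.Lib.Helper17.mem_normalizer_of_forall_conj_mem
    intro z hz
    have hz' := Subgroup.mem_inf.mp hz
    exact Subgroup.mem_inf.mpr ⟨hNn.conj_mem z hz'.1 y, B.mul_mem (B.mul_mem hyB hz'.2) (B.inv_mem hyB)⟩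
  set U : Subgroup G := Subgroup.zpowers y ⊔ M with hU
  have hUB : U ≤ B := sup_le (by rw [Subgroup.zpowers_le]; exact hyB) inf_le_right
  -- order of y
  obtain ⟨k, hk⟩ := (IsPGroup.iff_orderOf.mp Q.isPGroup') ⟨y, hy⟩
  have hk' : orderOf y = q ^ k := by
    rw [← hk]; exact (Subgroup.orderOf_mk y hy).symm
  have hyq : IsPGroup q (Subgroup.zpowers y) := IsPGroup.of_card (n := k) (by rw [Nat.card_zpowers, hk'])
  have hy'ord : orderOf y' = q ^ k := by
    rw [← hk']
    have hsc : SemiconjBy n⁻¹ y y' := by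
      show n⁻¹ * y = y' * n⁻¹
      rw [hy']; group
    exact (SemiconjBy.orderOf_eq n⁻¹ hsc).symm
  have hy'q : IsPGroup q (Subgroup.zpowers y') := IsPGroup.of_card (n := k) (by rw [Nat.card_zpowers, hy'ord])
  -- index of ⟨y⟩ in U prime to q
  have hUidx : ¬ q ∣ (Subgroup.zpowers y).relIndex U := by
    have h1 := Cfsg.Agent.Lib.Helper4.card_sup_mul_card_inf (Subgroup.zpowers y) M hyM
    have h2 := Cfsg.Agent.Lib.Helper4.card_mul_relIndex (le_sup_left : Subgroup.zpowers y ≤ U)
    have h3 : (Subgroup.zpowers y).relIndex U ∣ Nat.card M := by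
      have h4 : Nat.card (Subgroup.zpowers y) * (Subgroup.zpowers y).relIndex U ∣
          Nat.card (Subgroup.zpowers y) * Nat.card M := by
        rw [h2, ← h1]
        exact dvd_mul_right _ _
      exact (Nat.mul_dvd_mul_iff_left Nat.card_pos).mp h4
    intro hdvd
    have h5 := Nat.Coprime.eq_one_of_dvd hMcop.symm (dvd_trans hdvd h3)
    exact hq.out.one_lt.ne' h5
  have hy'U : Subgroup.zpowers y' ≤ U := by
    rw [Subgroup.zpowers_le]
    have : y' = y' * y⁻¹ * y := by group
    rw [this]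
    exact U.mul_mem (le_sup_right (a := Subgroup.zpowers y) hm₀) (le_sup_left (b := M) (Subgroup.mem_zpowers y))
  obtain ⟨u, huU, hu⟩ := Cfsg.Agent.Lib.Helper12.exists_conj_mem_of_relIndex (Subgroup.zpowers y) U
    (Subgroup.zpowers y') hyq hUidx hy'U hy'q
  have hconj : u * y' * u⁻¹ ∈ Subgroup.zpowers y := hu y' (Subgroup.mem_zpowers y')
  -- u y' u⁻¹ centralizes T
  have huB : u ∈ B := hUB huU
  have hcent : ∀ z ∈ T, (u * y' * u⁻¹) * z = z * (u * y' * u⁻¹) := by
    intro z hz
    have h1 : u⁻¹ * z * u ∈ T := Cfsg.Agent.Lib.Helper17.conj_inv_mem_of_mem_normalizer huB hz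
    have h2 := hy'c _ h1
    calc (u * y' * u⁻¹) * z = u * (y' * (u⁻¹ * z * u)) * u⁻¹ := by group
      _ = u * ((u⁻¹ * z * u) * y') * u⁻¹ := by rw [h2]
      _ = z * (u * y' * u⁻¹) := by group
  -- u y' u⁻¹ y⁻¹ ∈ M
  have hinM : u * y' * u⁻¹ * y⁻¹ ∈ M := by
    refine Subgroup.mem_inf.mpr ⟨?_, B.mul_mem (B.mul_mem (B.mul_mem huB hy'B) (B.inv_mem huB)) (B.inv_mem hyB)⟩
    -- modulo N everything is a power of y
    rw [← QuotientGroup.eq_one_iff]
    have hπu : (QuotientGroup.mk' N u) ∈ Subgroup.zpowers (QuotientGroup.mk' N y) := by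
      have h1 : QuotientGroup.mk' N u ∈ U.map (QuotientGroup.mk' N) := ⟨u, huU, rfl⟩
      rw [hU, Subgroup.map_sup, MonoidHom.map_zpowers] at h1
      have h2 : M.map (QuotientGroup.mk' N) = ⊥ := by
        rw [Subgroup.map_eq_bot_iff, QuotientGroup.ker_mk']
        exact inf_le_left
      rw [h2, sup_bot_eq] at h1
      exact h1
    obtain ⟨j, hj⟩ := Subgroup.mem_zpowers_iff.mp hπu
    have hπy' : QuotientGroup.mk' N y' = QuotientGroup.mk' N y := by
      have h1 : QuotientGroup.mk' N (y' * y⁻¹) = 1 :=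
        (QuotientGroup.eq_one_iff _).mpr (Subgroup.mem_inf.mp hm₀).1
      rw [map_mul, map_inv, mul_inv_eq_one] at h1
      exact h1
    show QuotientGroup.mk' N (u * y' * u⁻¹ * y⁻¹) = 1
    rw [map_mul, map_mul, map_mul, map_inv, map_inv, hπy', ← hj]
    rw [← zpow_add_one, ← zpow_neg, ← zpow_add, ← zpow_neg_one, ← zpow_add]
    have : j + 1 + -j + -1 = 0 := by ring
    rw [this, zpow_zero]
  -- conclude y = u y' u⁻¹
  obtain ⟨e, he⟩ := Subgroup.mem_zpowers_iff.mp hconj
  have hpow : y ^ e * y⁻¹ ∈ Subgroup.zpowers y ⊓ M := by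
    refine Subgroup.mem_inf.mpr ⟨?_, ?_⟩
    · exact (Subgroup.zpowers y).mul_mem (Subgroup.zpow_mem_zpowers y e) ((Subgroup.zpowers y).inv_mem (Subgroup.mem_zpowers y))
    · rw [he]; exact hinM
  have hdisj : Subgroup.zpowers y ⊓ M = ⊥ := by
    rw [eq_bot_iff]
    intro w hw
    have hw' := Subgroup.mem_inf.mp hw
    rw [Subgroup.mem_bot, ← orderOf_eq_one_iff]
    have h1 : orderOf w ∣ q ^ k := by
      have := Subgroup.orderOf_dvd_natCard (Subgroup.zpowers y) hw'.1
      rwa [Nat.card_zpowers, hk'] at this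
    have h2 : orderOf w ∣ Nat.card M := Subgroup.orderOf_dvd_natCard M hw'.2
    have h3 : Nat.Coprime (orderOf w) (orderOf w) :=
      Nat.Coprime.coprime_dvd_left h2 (Nat.Coprime.coprime_dvd_right h1 (Nat.Coprime.pow_right k hMcop))
    exact (Nat.coprime_self _).mp h3
  rw [hdisj, Subgroup.mem_bot, mul_inv_eq_one] at hpow
  intro z hz
  have := hcent z hz
  rw [← he, hpow] at this
  exact this

/-- Main theorem: if `G` is `p`-solvable or `q`-solvable and no `q`-element has class size divisible by `p`,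
then some Sylow `p`-subgroup normalizes some Sylow `q`-subgroup (strong induction form). -/
theorem sylow_normalizes_of_class_sizes (p q : ℕ) [hp : Fact p.Prime] [hq : Fact q.Prime] :
    ∀ (n : ℕ) (G : Type u) [Group G] [Finite G], Nat.card G = n →
      (Cfsg.IsPSolvable p G ∨ Cfsg.IsPSolvable q G) →
      (∀ y : G, (∃ k : ℕ, orderOf y = q ^ k) → ¬ p ∣ (Subgroup.centralizer ({y} : Set G)).index) →
      ∃ (P : Sylow p G) (Q : Sylow q G),
        (P : Subgroup G) ≤ Subgroup.normalizer ((Q : Subgroup G) : Set G) := by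
  intro n
  induction n using Nat.strong_induction_on with
  | _ n ih =>
  intro G _ _ hn hsolv hH
  rcases subsingleton_or_nontrivial G with hs | hnt
  · obtain ⟨P⟩ : Nonempty (Sylow p G) := inferInstance
    obtain ⟨Q⟩ : Nonempty (Sylow q G) := inferInstance
    refine ⟨P, Q, ?_⟩
    intro x _
    have : x = 1 := Subsingleton.elim _ _
    rw [this]; exact Subgroup.one_mem _
  -- choose N
  have hN : ∃ N : Subgroup G, N.Normal ∧ N ≠ ⊥ ∧
      (IsPGroup p N ∨ (Nat.card N).Coprime p ∨ IsPGroup q N ∨ (Nat.card N).Coprime q) := by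
    rcases hsolv with h | h
    · obtain ⟨N, h1, h2, h3⟩ := exists_normal_of_isPSolvable p h
      refine ⟨N, h1, h2, ?_⟩
      rcases h3 with h3 | h3
      · exact Or.inl h3
      · exact Or.inr (Or.inl h3)
    · obtain ⟨N, h1, h2, h3⟩ := exists_normal_of_isPSolvable q h
      refine ⟨N, h1, h2, ?_⟩
      rcases h3 with h3 | h3
      · exact Or.inr (Or.inr (Or.inl h3))
      · exact Or.inr (Or.inr (Or.inr h3))
  obtain ⟨N, hNn, hN1, hNtype⟩ := hN
  haveI := hNn
  have hπ : Function.Surjective (QuotientGroup.mk' N) := QuotientGroup.mk'_surjective N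
  have hcard : Nat.card (G ⧸ N) < n := by
    have h1 := Subgroup.card_eq_card_quotient_mul_card_subgroup N
    have h2 : 1 < Nat.card N := by
      rw [Subgroup.one_lt_card_iff_ne_bot]; exact hN1
    have h3 : 0 < Nat.card (G ⧸ N) := Nat.card_pos
    rw [← hn, h1]
    nlinarith
  have hsolv' : Cfsg.IsPSolvable p (G ⧸ N) ∨ Cfsg.IsPSolvable q (G ⧸ N) :=
    hsolv.imp (isPSolvable_of_surjective p _ hπ) (isPSolvable_of_surjective q _ hπ)
  have hH' := class_size_hyp_quotient p q N hH
  obtain ⟨Pb, Qb, hPQb⟩ := ih _ hcard (G ⧸ N) rfl hsolv' hH'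
  obtain ⟨P, rfl⟩ := Sylow.mapSurjective_surjective hπ p Pb
  obtain ⟨Q, rfl⟩ := Sylow.mapSurjective_surjective hπ q Qb
  rw [Sylow.coe_mapSurjective, Sylow.coe_mapSurjective] at hPQb
  set A := Subgroup.normalizer ((Q : Subgroup G) : Set G) with hA
  set V := A ⊔ N with hV
  -- centralizing Sylow subgroups
  have hcentS : ∀ y ∈ (Q : Subgroup G), ∃ S : Sylow p G,
      (S : Subgroup G) ≤ Subgroup.centralizer ({y} : Set G) := by
    intro y hy
    obtain ⟨k, hk⟩ := (IsPGroup.iff_orderOf.mp Q.isPGroup') ⟨y, hy⟩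
    have hk' : orderOf y = q ^ k := by
      rw [← hk]; exact (Subgroup.orderOf_mk y hy).symm
    exact exists_sylow_le_centralizer y (hH y ⟨k, hk'⟩)
  -- P ≤ V
  have hPV : (P : Subgroup G) ≤ V := by
    intro x hx
    have hxQ : ((x • Q : Sylow q G) : Subgroup G) ≤ (Q : Subgroup G) ⊔ N := by
      intro u hu
      rw [mem_smul_sylow_iff] at hu
      have hπx : QuotientGroup.mk' N x ∈
          Subgroup.normalizer (((Q : Subgroup G).map (QuotientGroup.mk' N) : Subgroup (G ⧸ N)) : Set (G ⧸ N)) :=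
        hPQb ⟨x, hx, rfl⟩
      have h1 : QuotientGroup.mk' N (x⁻¹ * u * x) ∈ (Q : Subgroup G).map (QuotientGroup.mk' N) :=
        ⟨_, hu, rfl⟩
      have h2 := ((Subgroup.mem_normalizer_iff.mp hπx) _).mp h1
      have h3 : QuotientGroup.mk' N x * QuotientGroup.mk' N (x⁻¹ * u * x) * (QuotientGroup.mk' N x)⁻¹ =
          QuotientGroup.mk' N u := by
        rw [← map_inv, ← map_mul, ← map_mul]
        congr 1
        group
      rw [h3] at h2
      obtain ⟨w, hw, hwu⟩ := h2
      have h4 : w⁻¹ * u ∈ N := by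
        rw [← QuotientGroup.eq_one_iff]
        show QuotientGroup.mk' N (w⁻¹ * u) = 1
        rw [map_mul, map_inv, hwu, inv_mul_cancel]
      have h5 : u = w * (w⁻¹ * u) := by group
      rw [h5]
      exact Subgroup.mul_mem _ (le_sup_left (b := N) hw) (le_sup_right (a := (Q : Subgroup G)) h4)
    obtain ⟨m, hm, hmeq⟩ := exists_mem_smul_eq_of_le_sup Q (x • Q) N hxQ
    have h5 : (m⁻¹ * x) • Q = Q := by
      rw [mul_smul, hmeq, inv_smul_smul]
    have h6 : m⁻¹ * x ∈ A := Sylow.smul_eq_iff_mem_normalizer.mp h5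
    have h7 : x = m * (m⁻¹ * x) := by group
    rw [h7]
    exact V.mul_mem (le_sup_right (a := A) hm) (le_sup_left (b := N) h6)
  -- index computation
  have hAN : A ≤ Subgroup.normalizer (N : Set G) := by
    rw [Subgroup.normalizer_eq_top]; exact le_top
  have hrel : A.relIndex V = A.relIndex N :=
    Cfsg.Agent.Lib.Helper4.relIndex_sup_left_of_le_normalizer A N hAN
  -- elements commuting with all of Q normalize Q
  have hnorm_of_comm : ∀ z : G, (∀ y ∈ (Q : Subgroup G), y * z = z * y) → z ∈ A := by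
    intro z hz
    apply Cfsg.Agent.Lib.Helper17.mem_normalizer_of_forall_conj_mem
    intro y hy
    have : z * y * z⁻¹ = y := by rw [← hz y hy]; group
    rw [this]; exact hy
  have hidx : ¬ p ∣ A.relIndex N := by
    rcases hNtype with h | h | h | h
    · have hNA : N ≤ A := by
        intro z hz
        apply hnorm_of_comm
        intro y hy
        obtain ⟨S, hS⟩ := hcentS y hy
        have hzS : z ∈ (S : Subgroup G) := normal_pgroup_le_sylow N h S hz
        exact (Subgroup.mem_centralizer_iff.mp (hS hzS)) y (Set.mem_singleton y)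
      rw [Subgroup.relIndex_eq_one.mpr hNA]
      exact hp.out.not_dvd_one
    · intro hdvd
      have h1 : p ∣ Nat.card N := dvd_trans hdvd (Subgroup.relIndex_dvd_card A N)
      have h2 := Nat.Coprime.eq_one_of_dvd h.symm h1
      exact hp.out.one_lt.ne' h2
    · have hNA : N ≤ A := (normal_pgroup_le_sylow N h Q).trans Subgroup.le_normalizer
      rw [Subgroup.relIndex_eq_one.mpr hNA]
      exact hp.out.not_dvd_one
    · obtain ⟨T, hTN, hTp, hTidx, hTc⟩ := exists_sylow_of_normal_centralized p q N h Q hcentS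
      have hTA : T ≤ A := by
        intro z hz
        apply hnorm_of_comm
        intro y hy
        exact hTc y hy z hz
      have h1 : (A ⊓ N).relIndex N = A.relIndex N := Subgroup.inf_relIndex_right A N
      have h2 : (A ⊓ N).relIndex N ∣ T.relIndex N := Subgroup.relIndex_dvd_of_le_left N (le_inf hTA hTN)
      intro hdvd
      rw [← h1] at hdvd
      exact hTidx (dvd_trans hdvd h2)
  obtain ⟨v, hv⟩ := exists_smul_sylow_le P A V hPV le_sup_left (by rw [hrel]; exact hidx)
  exact ⟨v • P, Q, hv⟩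

end Cfsg.Agent.Lib.Helper24
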