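/-
helper24: fusion argument for groups with cd(G) = {1, m, n}, 1 < m < n coprime: not all nonlinear
irreducible characters can be faithful (used for Isaacs 12.15, S4460).
-/
import Mathlib
import Cfsg.Prelude.Def_Blocks
import Cfsg.Agent.Lib.Lead.CharOrtho
import Cfsg.Agent.Lib.Lead.CharMain
import Cfsg.Agent.Lib.Lead.CharEquiv
import Cfsg.Agent.Lib.Lead.CharComplete
import Cfsg.Agent.Lib.Lead.CharFS
import Cfsg.Agent.Lib.Helper6.CharExtra
import Cfsg.Agent.Lib.Helper6.AbelianQuot
import Cfsg.Agent.Lib.Helper6.Gallagher2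
import Cfsg.Agent.Lib.Helper24.IrrFacts

set_option autoImplicit false
set_option linter.unusedSectionVars false

namespace Cfsg.Agent.Lib.Helper24.ThreeDeg

open Cfsg Cfsg.Agent.CharLib Cfsg.Agent.Lib.Helper6 Cfsg.Agent.Lib.Helper24
open scoped ComplexConjugate commutatorElement

universe u

variable {G : Type u} [Group G] [Fintype G]

/-- pointwise complex conjugate -/
noncomputable def cjf (f : G → ℂ) : G → ℂ := fun x => conj (f x)

omit [Fintype G] in
theorem cjf_apply (f : G → ℂ) (x : G) : cjf f x = conj (f x) := rfl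

omit [Fintype G] in
theorem cjf_cjf (f : G → ℂ) : cjf (cjf f) = f := by
  funext x
  simp [cjf]

/-- adjointness of multiplication -/
theorem classInner_mul_adj (f g h : G → ℂ) :
    classInner (f * g) h = classInner g (cjf f * h) := by
  unfold classInner
  congr 1
  apply Finset.sum_congr rfl
  intro x _
  rw [Pi.mul_apply, Pi.mul_apply, cjf_apply, map_mul, Complex.conj_conj]
  ring

/-- the conjugate irreducible character -/
noncomputable def cjI (χ : IrrCharacter G) : IrrCharacter G :=
  ⟨cjf (χ : G → ℂ), IsIrrCharacter.conj' χ.2⟩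

theorem cjI_coe (χ : IrrCharacter G) : ((cjI χ : IrrCharacter G) : G → ℂ) = cjf (χ : G → ℂ) := rfl

theorem charDegree_cjI (χ : IrrCharacter G) :
    charDegree ((cjI χ : IrrCharacter G) : G → ℂ) = charDegree (χ : G → ℂ) := by
  have h1 := irr_apply_one (cjI χ)
  rw [cjI_coe, cjf_apply, irr_apply_one χ, Complex.conj_natCast] at h1
  exact_mod_cast h1.symm

/-- the product of a linear irreducible character and an irreducible character -/
noncomputable def mulLin (lam χ : IrrCharacter G) (h : charDegree (lam : G → ℂ) = 1) : IrrCharacter G :=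
  ⟨(lam : G → ℂ) * (χ : G → ℂ), isIrrCharacter_linear_mul (IsIrrCharacter.isCharacter lam.2)
    (by rw [irr_apply_one, h, Nat.cast_one]) χ.2⟩

theorem mulLin_coe (lam χ : IrrCharacter G) (h : charDegree (lam : G → ℂ) = 1) :
    ((mulLin lam χ h : IrrCharacter G) : G → ℂ) = (lam : G → ℂ) * (χ : G → ℂ) := rfl

theorem charDegree_mulLin (lam χ : IrrCharacter G) (h : charDegree (lam : G → ℂ) = 1) :
    charDegree ((mulLin lam χ h : IrrCharacter G) : G → ℂ) = charDegree (χ : G → ℂ) := by
  have h1 := irr_apply_one (mulLin lam χ h)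
  rw [mulLin_coe, Pi.mul_apply, irr_apply_one χ, irr_apply_one lam, h, Nat.cast_one, one_mul] at h1
  exact_mod_cast h1.symm

/-- irreducible characters of different degrees are orthogonal -/
theorem classInner_eq_zero_of_degree_ne (χ ψ : IrrCharacter G)
    (h : charDegree (χ : G → ℂ) ≠ charDegree (ψ : G → ℂ)) :
    classInner (χ : G → ℂ) (ψ : G → ℂ) = 0 := by
  rw [classInner_irr', if_neg]
  rintro rfl
  exact h rfl

/-- a linear irreducible character is trivial on the commutator subgroup -/
theorem linear_apply_commutator (lam : IrrCharacter G) (h1 : charDegree (lam : G → ℂ) = 1)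
    (x : G) (hx : x ∈ commutator G) : (lam : G → ℂ) x = 1 := by
  have hc := IsIrrCharacter.isCharacter lam.2
  have h1' : (lam : G → ℂ) 1 = 1 := by rw [irr_apply_one, h1, Nat.cast_one]
  have hker : commutator G ≤ (linCharUnitsHom hc h1').ker :=
    Abelianization.commutator_subset_ker _
  have h2 := hker hx
  rw [MonoidHom.mem_ker] at h2
  have h3 := linCharUnitsHom_apply hc h1' x
  rw [h2] at h3
  rw [← h3]
  rfl


section split
variable [Fintype (IrrCharacter G)]

/-- the degree of a character, split according to the three possible degrees of its constituents -/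
theorem degree_split {m n : ℕ}
    (hcd : ∀ χ : IrrCharacter G, charDegree (χ : G → ℂ) = 1 ∨ charDegree (χ : G → ℂ) = m ∨
      charDegree (χ : G → ℂ) = n)
    (hm1 : m ≠ 1) (hn1 : n ≠ 1) (hmn : m ≠ n) {Φ : G → ℂ} (mult : IrrCharacter G → ℕ)
    (hdec : Φ = ∑ η : IrrCharacter G, mult η • (η : G → ℂ)) {d : ℕ} (hd : Φ 1 = d) :
    d = (∑ η : IrrCharacter G, if charDegree (η : G → ℂ) = 1 then mult η else 0) +
      m * (∑ η : IrrCharacter G, if charDegree (η : G → ℂ) = m then mult η else 0) +
      n * (∑ η : IrrCharacter G, if charDegree (η : G → ℂ) = n then mult η else 0) := by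
  classical
  have h1 : Φ 1 = ((∑ η : IrrCharacter G, mult η * charDegree (η : G → ℂ) : ℕ) : ℂ) := by
    rw [hdec, Finset.sum_apply, Nat.cast_sum]
    apply Finset.sum_congr rfl
    intro η _
    rw [Pi.smul_apply, irr_apply_one η, nsmul_eq_mul, Nat.cast_mul]
  rw [hd] at h1
  have h2 : d = ∑ η : IrrCharacter G, mult η * charDegree (η : G → ℂ) := by exact_mod_cast h1
  rw [h2, Finset.mul_sum, Finset.mul_sum, ← Finset.sum_add_distrib, ← Finset.sum_add_distrib]
  apply Finset.sum_congr rfl
  intro η _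
  rcases hcd η with h | h | h
  · rw [h, if_pos rfl, if_neg (Ne.symm hm1), if_neg (Ne.symm hn1)]
    simp
  · rw [h, if_neg hm1, if_pos rfl, if_neg hmn]
    simp [mul_comm]
  · rw [h, if_neg hn1, if_neg (Ne.symm hmn), if_pos rfl]
    simp [mul_comm]

/-- evaluation of a decomposed character on the commutator subgroup -/
theorem eq_zero_of_sum_ite_eq_zero {ι : Type*} [Fintype ι] (P : ι → Prop) [DecidablePred P]
    (f : ι → ℕ) (h : (∑ i, if P i then f i else 0) = 0) (i : ι) (hi : P i) : f i = 0 := by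
  have := (Finset.sum_eq_zero_iff.mp h) i (Finset.mem_univ i)
  rwa [if_pos hi] at this


/-- **(F1)** a product of two irreducible characters of degree `m` without linear constituents has no
constituents of degree `n`. -/
theorem no_big_of_no_linear {m n : ℕ}
    (hcd : ∀ χ : IrrCharacter G, charDegree (χ : G → ℂ) = 1 ∨ charDegree (χ : G → ℂ) = m ∨
      charDegree (χ : G → ℂ) = n)
    (hm : 1 < m) (hmn : m < n) (hcop : Nat.Coprime m n)
    (χ₁ χ₂ : IrrCharacter G) (h1 : charDegree (χ₁ : G → ℂ) = m) (h2 : charDegree (χ₂ : G → ℂ) = m)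
    (hlin : ∀ lam : IrrCharacter G, charDegree (lam : G → ℂ) = 1 →
      classInner ((χ₁ : G → ℂ) * (χ₂ : G → ℂ)) (lam : G → ℂ) = 0)
    (ψ : IrrCharacter G) (hψ : charDegree (ψ : G → ℂ) = n) :
    classInner ((χ₁ : G → ℂ) * (χ₂ : G → ℂ)) (ψ : G → ℂ) = 0 := by
  classical
  have hΦ : IsCharacter G ((χ₁ : G → ℂ) * (χ₂ : G → ℂ)) :=
    IsCharacter.mul (IsIrrCharacter.isCharacter χ₁.2) (IsIrrCharacter.isCharacter χ₂.2)
  obtain ⟨mult, hdec, hmult⟩ := IsCharacter.exists_decomp_sum hΦ
  have hd : ((χ₁ : G → ℂ) * (χ₂ : G → ℂ)) 1 = ((m * m : ℕ) : ℂ) := by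
    rw [Pi.mul_apply, irr_apply_one χ₁, irr_apply_one χ₂, h1, h2, Nat.cast_mul]
  have hsplit := degree_split hcd (by omega) (by omega) (by omega) mult hdec hd
  have hL : (∑ η : IrrCharacter G, if charDegree (η : G → ℂ) = 1 then mult η else 0) = 0 := by
    apply Finset.sum_eq_zero
    intro η _
    split_ifs with h
    · have := hlin η h
      rw [hmult η] at this
      exact_mod_cast this
    · rfl
  rw [hL, zero_add] at hsplit
  set C := ∑ η : IrrCharacter G, if charDegree (η : G → ℂ) = m then mult η else 0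
  set F := ∑ η : IrrCharacter G, if charDegree (η : G → ℂ) = n then mult η else 0 with hF
  have hdvd : m ∣ n * F := by
    have : m ∣ m * m := dvd_mul_right m m
    rw [hsplit] at this
    exact (Nat.dvd_add_right (dvd_mul_right m C)).mp this
  have hdvd2 : m ∣ F := hcop.dvd_of_dvd_mul_left hdvd
  have hF0 : F = 0 := by
    by_contra hne
    have hle : m ≤ F := Nat.le_of_dvd (Nat.pos_of_ne_zero hne) hdvd2
    have : n * F ≥ n * m := Nat.mul_le_mul_left n hle
    nlinarith
  have := eq_zero_of_sum_ite_eq_zero (fun η : IrrCharacter G => charDegree (η : G → ℂ) = n) mult hF0 ψ hψ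
  rw [hmult ψ, this, Nat.cast_zero]

/-- **(F2)** a linear constituent of a product of two irreducible characters -/
theorem eq_of_linear_constituent (χ₁ χ₂ lam : IrrCharacter G) (hlam : charDegree (lam : G → ℂ) = 1)
    (h : classInner ((χ₁ : G → ℂ) * (χ₂ : G → ℂ)) (lam : G → ℂ) ≠ 0) :
    (χ₂ : G → ℂ) = (lam : G → ℂ) * cjf (χ₁ : G → ℂ) := by
  rw [classInner_mul_adj] at h
  have h2 : cjf (χ₁ : G → ℂ) * (lam : G → ℂ) = ((mulLin lam (cjI χ₁) hlam : IrrCharacter G) : G → ℂ) := by
    rw [mulLin_coe, cjI_coe, mul_comm]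
  rw [h2, classInner_irr'] at h
  by_contra hne
  rw [if_neg] at h
  · exact h rfl
  · intro he
    apply hne
    rw [he, mulLin_coe, cjI_coe]


/-- **(F3)** if the characters of degree `n` are faithful on the commutator subgroup, then `χ χ̄` has no
constituent of degree `n`, for `χ` of degree `m`. -/
theorem no_big_in_square {m n : ℕ}
    (hcd : ∀ χ : IrrCharacter G, charDegree (χ : G → ℂ) = 1 ∨ charDegree (χ : G → ℂ) = m ∨
      charDegree (χ : G → ℂ) = n)
    (hm : 1 < m) (hmn : m < n) (hcop : Nat.Coprime m n)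
    (hfaith : ∀ ψ : IrrCharacter G, charDegree (ψ : G → ℂ) = n → ∀ g ∈ commutator G,
      (ψ : G → ℂ) g = (ψ : G → ℂ) 1 → g = 1)
    (χ ψ : IrrCharacter G) (hχ : charDegree (χ : G → ℂ) = m) (hψ : charDegree (ψ : G → ℂ) = n) :
    classInner ((χ : G → ℂ) * cjf (χ : G → ℂ)) (ψ : G → ℂ) = 0 := by
  classical
  by_contra hc
  have hΦ : IsCharacter G ((χ : G → ℂ) * (ψ : G → ℂ)) :=
    IsCharacter.mul (IsIrrCharacter.isCharacter χ.2) (IsIrrCharacter.isCharacter ψ.2)
  obtain ⟨mult, hdec, hmult⟩ := IsCharacter.exists_decomp_sum hΦ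
  have hd : ((χ : G → ℂ) * (ψ : G → ℂ)) 1 = ((m * n : ℕ) : ℂ) := by
    rw [Pi.mul_apply, irr_apply_one χ, irr_apply_one ψ, hχ, hψ, Nat.cast_mul]
  -- (a) no linear constituents
  have ha : ∀ η : IrrCharacter G, charDegree (η : G → ℂ) = 1 → mult η = 0 := by
    intro η hη
    have h1 := hmult η
    rw [classInner_mul_adj] at h1
    have h2 : cjf (χ : G → ℂ) * (η : G → ℂ) = ((mulLin η (cjI χ) hη : IrrCharacter G) : G → ℂ) := by
      rw [mulLin_coe, cjI_coe, mul_comm]
    rw [h2, classInner_eq_zero_of_degree_ne] at h1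
    · exact_mod_cast h1.symm
    · rw [charDegree_mulLin, charDegree_cjI, hψ, hχ]
      omega
  -- (b) constituents of degree `m` agree with `χ` on the commutator subgroup
  have hb : ∀ η : IrrCharacter G, charDegree (η : G → ℂ) = m → mult η ≠ 0 →
      ∀ x ∈ commutator G, (η : G → ℂ) x = (χ : G → ℂ) x := by
    intro η hη hne x hx
    have h1 : classInner ((χ : G → ℂ) * (ψ : G → ℂ)) (η : G → ℂ) ≠ 0 := by
      rw [hmult η]
      exact_mod_cast hne
    rw [classInner_mul_adj, ← classInner_conj_symm] at h1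
    have h2 : classInner (cjf (χ : G → ℂ) * (η : G → ℂ)) (ψ : G → ℂ) ≠ 0 := by
      intro h0
      rw [h0, map_zero] at h1
      exact h1 rfl
    have h3 : ∃ lam : IrrCharacter G, charDegree (lam : G → ℂ) = 1 ∧
        classInner (((cjI χ : IrrCharacter G) : G → ℂ) * (η : G → ℂ)) (lam : G → ℂ) ≠ 0 := by
      by_contra hcon
      push Not at hcon
      exact h2 (no_big_of_no_linear hcd hm hmn hcop (cjI χ) η (by rw [charDegree_cjI, hχ]) hη hcon ψ hψ)
    obtain ⟨lam, hlam, hl⟩ := h3
    have h4 := eq_of_linear_constituent (cjI χ) η lam hlam hl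
    rw [cjI_coe, cjf_cjf] at h4
    rw [h4, Pi.mul_apply, linear_apply_commutator lam hlam x hx, one_mul]
  -- (c) the degree count
  have hsplit := degree_split hcd (by omega) (by omega) (by omega) mult hdec hd
  have hL : (∑ η : IrrCharacter G, if charDegree (η : G → ℂ) = 1 then mult η else 0) = 0 := by
    apply Finset.sum_eq_zero
    intro η _
    split_ifs with h
    · exact ha η h
    · rfl
  rw [hL, zero_add] at hsplit
  set C := ∑ η : IrrCharacter G, if charDegree (η : G → ℂ) = m then mult η else 0 with hC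
  set F := ∑ η : IrrCharacter G, if charDegree (η : G → ℂ) = n then mult η else 0 with hF
  have hmχ : mult χ ≠ 0 := by
    intro h0
    have h1 := hmult χ
    rw [h0, Nat.cast_zero, classInner_mul_adj, ← classInner_conj_symm, mul_comm] at h1
    apply hc
    have := (map_eq_zero (starRingEnd ℂ)).mp h1
    exact this
  have hCpos : 0 < C := by
    have h1 : (if charDegree (χ : G → ℂ) = m then mult χ else 0) ≤ C :=
      Finset.single_le_sum (f := fun η : IrrCharacter G => if charDegree (η : G → ℂ) = m then mult η else 0)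
        (fun _ _ => Nat.zero_le _) (Finset.mem_univ χ)
    rw [if_pos hχ] at h1
    omega
  have hdvd : n ∣ m * C := by
    have : n ∣ m * n := dvd_mul_left n m
    rw [hsplit] at this
    exact (Nat.dvd_add_left (dvd_mul_right n F)).mp this
  have hdvd2 : n ∣ C := hcop.symm.dvd_of_dvd_mul_left hdvd
  have hnC : n ≤ C := Nat.le_of_dvd hCpos hdvd2
  have hF0 : F = 0 := by
    have h1 : m * n ≤ m * C := Nat.mul_le_mul_left m hnC
    have h2 : n * F = 0 := by omega
    rcases Nat.mul_eq_zero.mp h2 with h | h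
    · omega
    · exact h
  have hCn : C = n := by
    rw [hF0, mul_zero, add_zero] at hsplit
    exact (Nat.eq_of_mul_eq_mul_left (by omega : 0 < m) hsplit).symm
  -- (d) evaluation on the commutator subgroup
  have hd' : ∀ x ∈ commutator G, (χ : G → ℂ) x * (ψ : G → ℂ) x = (n : ℂ) * (χ : G → ℂ) x := by
    intro x hx
    have h1 : ((χ : G → ℂ) * (ψ : G → ℂ)) x = ∑ η : IrrCharacter G, (mult η : ℂ) * (η : G → ℂ) x := by
      conv_lhs => rw [hdec]
      rw [Finset.sum_apply]
      apply Finset.sum_congr rfl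
      intro η _
      rw [Pi.smul_apply, nsmul_eq_mul]
    rw [Pi.mul_apply] at h1
    rw [h1]
    have h2 : ∀ η : IrrCharacter G, (mult η : ℂ) * (η : G → ℂ) x =
        ((if charDegree (η : G → ℂ) = m then mult η else 0 : ℕ) : ℂ) * (χ : G → ℂ) x := by
      intro η
      rcases hcd η with h | h | h
      · rw [ha η h, if_neg (by omega)]
        simp
      · rw [if_pos h]
        by_cases h0 : mult η = 0
        · rw [h0]; simp
        · rw [hb η h h0 x hx]
      · have := eq_zero_of_sum_ite_eq_zero (fun η : IrrCharacter G => charDegree (η : G → ℂ) = n) mult hF0 η h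
        rw [this, if_neg (by omega)]
        simp
    rw [Finset.sum_congr rfl (fun η _ => h2 η), ← Finset.sum_mul, ← Nat.cast_sum, ← hC, hCn]
  -- (e) `χ` vanishes on the nonidentity elements of the commutator subgroup
  have he : ∀ x ∈ commutator G, x ≠ 1 → (χ : G → ℂ) x = 0 := by
    intro x hx hx1
    have h1 := hd' x hx
    have h2 : (ψ : G → ℂ) x ≠ (n : ℂ) := by
      intro h
      apply hx1
      apply hfaith ψ hψ x hx
      rw [h, irr_apply_one ψ, hψ]
    have h3 : (χ : G → ℂ) x * ((ψ : G → ℂ) x - n) = 0 := by rw [mul_sub, h1]; ring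
    rcases mul_eq_zero.mp h3 with h | h
    · exact h
    · exact absurd (sub_eq_zero.mp h) h2
  -- (f) contradiction
  let _ : Fintype (commutator G) := Fintype.ofFinite _
  have hab : ∀ x y : G, ⁅x, y⁆ ∈ commutator G := by
    intro x y
    rw [commutator_def]
    exact Subgroup.commutator_mem_commutator (Subgroup.mem_top x) (Subgroup.mem_top y)
  have hzero : classInner (indFun (commutator G) (1 : commutator G → ℂ)) (χ : G → ℂ) = 0 := by
    by_contra hne
    have := apply_one_eq_one_of_indFun_one_ne_zero (commutator G) hab χ.2 hne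
    rw [irr_apply_one χ, hχ] at this
    have : m = 1 := by exact_mod_cast this
    omega
  have hsum := sum_normal_mul_eq_zero (commutator G) χ.2 hzero 1
  rw [Finset.sum_eq_single (1 : commutator G)] at hsum
  · rw [Subgroup.coe_one, mul_one, irr_apply_one χ, hχ] at hsum
    have : m = 0 := by exact_mod_cast hsum
    omega
  · intro x _ hx
    rw [mul_one]
    apply he x x.2
    intro h
    apply hx
    exact Subtype.ext h
  · intro h
    exact absurd (Finset.mem_univ _) h


/-- **(F4)** closedness of the set of irreducible characters of degree different from `n`. -/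
theorem closed_of_no_big_in_square {m n : ℕ}
    (hcd : ∀ χ : IrrCharacter G, charDegree (χ : G → ℂ) = 1 ∨ charDegree (χ : G → ℂ) = m ∨
      charDegree (χ : G → ℂ) = n)
    (hm : 1 < m) (hmn : m < n) (hcop : Nat.Coprime m n)
    (hsq : ∀ χ ψ : IrrCharacter G, charDegree (χ : G → ℂ) = m → charDegree (ψ : G → ℂ) = n →
      classInner ((χ : G → ℂ) * cjf (χ : G → ℂ)) (ψ : G → ℂ) = 0)
    (ξ₁ ξ₂ ψ : IrrCharacter G) (h1 : charDegree (ξ₁ : G → ℂ) ≠ n) (h2 : charDegree (ξ₂ : G → ℂ) ≠ n)
    (hψ : charDegree (ψ : G → ℂ) = n) :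
    classInner ((ξ₁ : G → ℂ) * (ξ₂ : G → ℂ)) (ψ : G → ℂ) = 0 := by
  classical
  rcases hcd ξ₁ with h | h | h
  · rw [← mulLin_coe ξ₁ ξ₂ h]
    apply classInner_eq_zero_of_degree_ne
    rw [charDegree_mulLin, hψ]
    exact h2
  · rcases hcd ξ₂ with h' | h' | h'
    · rw [mul_comm, ← mulLin_coe ξ₂ ξ₁ h']
      apply classInner_eq_zero_of_degree_ne
      rw [charDegree_mulLin, hψ]
      exact h1
    · by_cases hlin : ∀ lam : IrrCharacter G, charDegree (lam : G → ℂ) = 1 →
          classInner ((ξ₁ : G → ℂ) * (ξ₂ : G → ℂ)) (lam : G → ℂ) = 0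
      · exact no_big_of_no_linear hcd hm hmn hcop ξ₁ ξ₂ h h' hlin ψ hψ
      · push Not at hlin
        obtain ⟨lam, hlam, hl⟩ := hlin
        have h4 := eq_of_linear_constituent ξ₁ ξ₂ lam hlam hl
        have h5 : (ξ₁ : G → ℂ) * (ξ₂ : G → ℂ) = (lam : G → ℂ) * ((ξ₁ : G → ℂ) * cjf (ξ₁ : G → ℂ)) := by
          rw [h4]; ring
        rw [h5, classInner_mul_adj]
        have h6 : cjf (lam : G → ℂ) * (ψ : G → ℂ) =
            ((mulLin (cjI lam) ψ (by rw [charDegree_cjI, hlam]) : IrrCharacter G) : G → ℂ) := by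
          rw [mulLin_coe, cjI_coe]
        rw [h6]
        apply hsq ξ₁ _ h
        rw [charDegree_mulLin, hψ]
    · exact absurd h' h2
  · exact absurd h h1

/-- the weighted sum of the irreducible characters satisfying `P` -/
noncomputable def wsum (P : IrrCharacter G → Prop) [DecidablePred P] : G → ℂ :=
  fun x => ∑ ξ : IrrCharacter G, if P ξ then (ξ : G → ℂ) 1 * (ξ : G → ℂ) x else 0

theorem classInner_sub_mul_wsum (P : IrrCharacter G → Prop) [DecidablePred P] (c : ℂ)
    (χ₀ η : IrrCharacter G)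
    (hcl : ∀ ξ : IrrCharacter G, P ξ → classInner ((χ₀ : G → ℂ) * (ξ : G → ℂ)) (η : G → ℂ) = 0)
    (hne : ∀ ξ : IrrCharacter G, P ξ → ξ ≠ η) :
    classInner (fun x => ((χ₀ : G → ℂ) x - c) * wsum P x) (η : G → ℂ) = 0 := by
  have hfun : (fun x => ((χ₀ : G → ℂ) x - c) * wsum P x) =
      ∑ ξ : IrrCharacter G, (if P ξ then ((ξ : G → ℂ) 1) •
        ((χ₀ : G → ℂ) * (ξ : G → ℂ) - c • (ξ : G → ℂ)) else 0) := by
    funext x
    rw [Finset.sum_apply]
    unfold wsum
    rw [Finset.mul_sum]
    apply Finset.sum_congr rfl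
    intro ξ _
    split_ifs
    · simp only [Pi.smul_apply, Pi.sub_apply, Pi.mul_apply, smul_eq_mul]
      ring
    · simp
  rw [hfun, classInner_sum_left]
  apply Finset.sum_eq_zero
  intro ξ _
  split_ifs with h
  · rw [classInner_smul_left, classInner_sub_left, classInner_smul_left, hcl ξ h, classInner_irr',
      if_neg (hne ξ h)]
    simp
  · exact classInner_zero_left _

theorem wsum_isClassFunction (P : IrrCharacter G → Prop) [DecidablePred P] :
    IsClassFunction G (wsum P) := by
  intro g h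
  unfold wsum
  apply Finset.sum_congr rfl
  intro ξ _
  rw [IsCharacter.isClassFunction (IsIrrCharacter.isCharacter ξ.2) g h]


/-- **Fusion lemma.** If `cd(G) = {1, m, n}` with `1 < m < n` coprime, then not all nonlinear irreducible
characters of `G` are faithful. -/
theorem fusion_false {m n : ℕ}
    (hcd : ∀ χ : IrrCharacter G, charDegree (χ : G → ℂ) = 1 ∨ charDegree (χ : G → ℂ) = m ∨
      charDegree (χ : G → ℂ) = n)
    (hm : 1 < m) (hmn : m < n) (hcop : Nat.Coprime m n)
    (hfaith : ∀ χ : IrrCharacter G, charDegree (χ : G → ℂ) ≠ 1 → ∀ g : G,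
      (χ : G → ℂ) g = (χ : G → ℂ) 1 → g = 1)
    (χ₀ ψ₀ : IrrCharacter G) (hχ₀ : charDegree (χ₀ : G → ℂ) = m) (hψ₀ : charDegree (ψ₀ : G → ℂ) = n) :
    False := by
  classical
  have hsq : ∀ χ ψ : IrrCharacter G, charDegree (χ : G → ℂ) = m → charDegree (ψ : G → ℂ) = n →
      classInner ((χ : G → ℂ) * cjf (χ : G → ℂ)) (ψ : G → ℂ) = 0 := by
    intro χ ψ hχ hψ
    exact no_big_in_square hcd hm hmn hcop
      (fun ψ hψ g _ hg => hfaith ψ (by rw [hψ]; omega) g hg) χ ψ hχ hψ
  have hclosed := closed_of_no_big_in_square hcd hm hmn hcop hsq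
  set D₁ : G → ℂ := fun x => ((χ₀ : G → ℂ) x - m) *
    wsum (fun ξ : IrrCharacter G => charDegree (ξ : G → ℂ) = n) x with hD₁
  set D₂ : G → ℂ := fun x => ((χ₀ : G → ℂ) x - m) *
    wsum (fun ξ : IrrCharacter G => ¬ charDegree (ξ : G → ℂ) = n) x with hD₂
  have hsum : ∀ x : G, D₁ x + D₂ x = 0 := by
    intro x
    simp only [hD₁, hD₂]
    rw [← mul_add]
    have h1 : wsum (fun ξ : IrrCharacter G => charDegree (ξ : G → ℂ) = n) x +
        wsum (fun ξ : IrrCharacter G => ¬ charDegree (ξ : G → ℂ) = n) x =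
        ∑ ξ : IrrCharacter G, (ξ : G → ℂ) 1 * (ξ : G → ℂ) x := by
      unfold wsum
      rw [← Finset.sum_add_distrib]
      apply Finset.sum_congr rfl
      intro ξ _
      by_cases h : charDegree (ξ : G → ℂ) = n
      · rw [if_pos h, if_neg (not_not.mpr h), add_zero]
      · rw [if_neg h, if_pos h, zero_add]
    rw [h1, sum_irr_degree_mul]
    by_cases hx : x = 1
    · rw [hx, irr_apply_one χ₀, hχ₀, sub_self, zero_mul]
    · rw [if_neg hx, mul_zero]
  have hD₁cf : IsClassFunction G D₁ := by
    intro g h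
    simp only [hD₁]
    rw [IsCharacter.isClassFunction (IsIrrCharacter.isCharacter χ₀.2) g h,
      wsum_isClassFunction _ g h]
  have hD₁0 : D₁ = 0 := by
    apply eq_zero_of_classInner_irr_eq_zero hD₁cf
    intro η
    by_cases hη : charDegree (η : G → ℂ) = n
    · have h2 : D₁ = (-1 : ℂ) • D₂ := by
        funext x
        have := hsum x
        rw [Pi.smul_apply, smul_eq_mul]
        linear_combination this
      rw [h2, classInner_smul_left]
      have h3 : classInner D₂ (η : G → ℂ) = 0 := by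
        apply classInner_sub_mul_wsum
        · intro ξ hξ
          exact hclosed χ₀ ξ η (by rw [hχ₀]; omega) hξ hη
        · intro ξ hξ he
          exact hξ (he ▸ hη)
      rw [h3, mul_zero]
    · apply classInner_sub_mul_wsum
      · intro ξ hξ
        rw [classInner_mul_adj, ← classInner_conj_symm]
        have h4 := hclosed (cjI χ₀) η ξ (by rw [charDegree_cjI, hχ₀]; omega) hη hξ
        rw [cjI_coe] at h4
        rw [h4, map_zero]
      · intro ξ hξ he
        exact hη (he ▸ hξ)
  -- `Ψ` vanishes off the identity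
  have hΨ : ∀ x : G, x ≠ 1 → wsum (fun ξ : IrrCharacter G => charDegree (ξ : G → ℂ) = n) x = 0 := by
    intro x hx
    have h1 := congrFun hD₁0 x
    simp only [hD₁, Pi.zero_apply] at h1
    rcases mul_eq_zero.mp h1 with h | h
    · exfalso
      apply hx
      apply hfaith χ₀ (by rw [hχ₀]; omega) x
      rw [irr_apply_one χ₀, hχ₀]
      exact sub_eq_zero.mp h
    · exact h
  -- inner product with the trivial character
  set triv : IrrCharacter G := ⟨1, isIrrCharacter_one G⟩ with htriv
  have htrivdeg : charDegree (triv : G → ℂ) = 1 := by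
    have := irr_apply_one triv
    simp only [htriv, Pi.one_apply] at this
    exact_mod_cast this.symm
  have hin1 : classInner (wsum (fun ξ : IrrCharacter G => charDegree (ξ : G → ℂ) = n)) (triv : G → ℂ) = 0 := by
    have hfun : wsum (fun ξ : IrrCharacter G => charDegree (ξ : G → ℂ) = n) =
        ∑ ξ : IrrCharacter G, (if charDegree (ξ : G → ℂ) = n then ((ξ : G → ℂ) 1) • (ξ : G → ℂ) else 0) := by
      funext x
      rw [Finset.sum_apply]
      unfold wsum
      apply Finset.sum_congr rfl
      intro ξ _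
      split_ifs
      · simp
      · simp
    rw [hfun, classInner_sum_left]
    apply Finset.sum_eq_zero
    intro ξ _
    split_ifs with h
    · rw [classInner_smul_left, classInner_irr', if_neg, mul_zero]
      intro he
      rw [he, htrivdeg] at h
      omega
    · exact classInner_zero_left _
  have hin2 : classInner (wsum (fun ξ : IrrCharacter G => charDegree (ξ : G → ℂ) = n)) (triv : G → ℂ) =
      (Nat.card G : ℂ)⁻¹ * wsum (fun ξ : IrrCharacter G => charDegree (ξ : G → ℂ) = n) 1 := by
    unfold classInner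
    congr 1
    rw [Finset.sum_eq_single (1 : G)]
    · simp [htriv]
    · intro x _ hx
      rw [hΨ x hx, zero_mul]
    · intro h
      exact absurd (Finset.mem_univ _) h
  rw [hin2] at hin1
  have hG : (Nat.card G : ℂ)⁻¹ ≠ 0 := inv_ne_zero card_ne_zero_complex
  have h0 : wsum (fun ξ : IrrCharacter G => charDegree (ξ : G → ℂ) = n) 1 = 0 := by
    rcases mul_eq_zero.mp hin1 with h | h
    · exact absurd h hG
    · exact h
  have h1 : wsum (fun ξ : IrrCharacter G => charDegree (ξ : G → ℂ) = n) 1 =
      ((∑ ξ : IrrCharacter G, if charDegree (ξ : G → ℂ) = n then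
        charDegree (ξ : G → ℂ) * charDegree (ξ : G → ℂ) else 0 : ℕ) : ℂ) := by
    unfold wsum
    rw [Nat.cast_sum]
    apply Finset.sum_congr rfl
    intro ξ _
    split_ifs
    · rw [irr_apply_one ξ, Nat.cast_mul]
    · simp
  rw [h1] at h0
  have h2 : (∑ ξ : IrrCharacter G, if charDegree (ξ : G → ℂ) = n then
        charDegree (ξ : G → ℂ) * charDegree (ξ : G → ℂ) else 0) = 0 := by exact_mod_cast h0
  have h3 := (Finset.sum_eq_zero_iff.mp h2) ψ₀ (Finset.mem_univ ψ₀)
  rw [if_pos hψ₀, hψ₀] at h3
  have : n = 0 := by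
    rcases Nat.mul_eq_zero.mp h3 with h | h <;> exact h
  omega

end split

end Cfsg.Agent.Lib.Helper24.ThreeDeg
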