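import Mathlib
import Cfsg.Prelude.Def_Classical
import Cfsg.Prelude.Def_ClassicalGeometry
import Cfsg.Prelude.Def_GeometricClasses
import Cfsg.Agent.Lib.Helper5.SUMax
import Cfsg.Agent.Lib.Helper5.UForm
import Cfsg.Agent.Lib.Helper16.C3uDefs
import Cfsg.Agent.Lib.Helper13.C3qDefs
import Cfsg.Agent.Lib.Helper13.C3qMDefs
import Cfsg.Agent.Lib.Helper12.C3uF

/-!
S5840 conjunct (7), MOD sub-leaf **M2d `iota_coeff`** (helper24) + shared Frobenius facts.
-/

set_option autoImplicit false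
set_option linter.unusedSectionVars false
set_option linter.unusedVariables false

namespace Cfsg.Agent.Lib.Helper24.C3qModLeaf
open Cfsg Matrix Module Cfsg.Agent.Lib.Helper16.C3u Cfsg.Agent.Lib.Helper13.C3q

universe u
variable {F : Type u} [Field F] [Fintype F] {n q : ℕ} {E : Type u} [Field E] [Algebra F E]

/-- any ring endomorphism commutes with the powers of the Frobenius -/
theorem st_fr_comm (S : KU n q F E) (i : ℕ) (x : E) :
    S.st ((fr F E ^ i) x) = (fr F E ^ i) (S.st x) := by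
  rw [fr_pow_apply, fr_pow_apply, map_pow]

/-- `st (c • e) = c^q • st e` -/
theorem st_smul' (S : KU n q F E) (c : F) (e : E) : S.st (c • e) = (c ^ q) • S.st e := by
  rw [Algebra.smul_def, map_mul, S.st_alg, ← Algebra.smul_def]

theorem fr_pow_five [FiniteDimensional F E] (hr5 : finrank F E = 5) : (fr F E) ^ 5 = 1 := by
  have : Finite E := Module.finite_of_finite F
  have h := FiniteField.orderOf_frobeniusAlgHom F E
  rw [hr5] at h
  rw [← h]
  exact pow_orderOf_eq_one _

theorem fr_pow_add_five [FiniteDimensional F E] (hr5 : finrank F E = 5) (i : ℕ) (hi : i ≤ 5) (x : E) :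
    (fr F E ^ (5 - i)) ((fr F E ^ i) x) = x := by
  have : (fr F E ^ (5 - i)) ((fr F E ^ i) x) = ((fr F E ^ (5 - i)) * (fr F E ^ i)) x := rfl
  rw [this, ← pow_add, Nat.sub_add_cancel hi, fr_pow_five hr5]
  rfl

/-- **M2d** `iota_coeff`. -/
theorem iota_coeff (S : KU n q F E) (hF : Fintype.card F = q ^ 2) [FiniteDimensional F E]
    (hr5 : finrank F E = 5) {δ : E} (hδ0 : δ ≠ 0) (hδst : S.st δ = δ) {c : F} (hc : c ^ q = -c)
    (π : E) (i : ℕ) (hi : i = 1 ∨ i = 2) :
    -(δ⁻¹ * (fr F E ^ (5 - i)) (δ * S.st (c • (π * (fr F E ^ i) (δ * S.st π))))) =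
      c • (π * (fr F E ^ (5 - i)) (δ * S.st π)) := by
  have hi5 : i ≤ 5 := by rcases hi with rfl | rfl <;> norm_num
  have h1 : S.st (c • (π * (fr F E ^ i) (δ * S.st π))) =
      (-c) • (S.st π * (fr F E ^ i) (δ * π)) := by
    rw [st_smul', hc, map_mul, st_fr_comm, map_mul, hδst, S.st_st]
  rw [h1]
  have h2 : δ * ((-c) • (S.st π * (fr F E ^ i) (δ * π))) =
      (-c) • ((δ * S.st π) * (fr F E ^ i) (δ * π)) := by
    rw [mul_smul_comm, mul_assoc]
  rw [h2, map_smul, map_mul, fr_pow_add_five hr5 i hi5]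
  rw [neg_smul, mul_neg, neg_neg, mul_smul_comm]
  congr 1
  field_simp

end Cfsg.Agent.Lib.Helper24.C3qModLeaf
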