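import Mathlib
import Cfsg.Prelude.Def_Classical
import Cfsg.Prelude.Def_ClassicalGeometry
import Cfsg.Prelude.Def_GeometricClasses
import Cfsg.Agent.Lib.Helper5.SUMax
import Cfsg.Agent.Lib.Helper5.UForm
import Cfsg.Agent.Lib.Helper16.C3uDefs
import Cfsg.Agent.Lib.Helper13.C3qDefs
import Cfsg.Agent.Lib.Helper13.C3qMDefs
import Cfsg.Agent.Lib.Helper12.C3uF
import Cfsg.Agent.Lib.Helper24.C3qMIota

/-!
S5840 conjunct (7), MOD sub-leaf **M2c `coeff_ne_zero`** (helper24).
-/

set_option autoImplicit false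
set_option linter.unusedSectionVars false
set_option linter.unusedVariables false

namespace Cfsg.Agent.Lib.Helper24.C3qModLeaf
open Cfsg Matrix Module Polynomial Cfsg.Agent.Lib.Helper16.C3u Cfsg.Agent.Lib.Helper13.C3q

universe u
variable {F : Type u} [Field F] [Fintype F] {n q : ℕ} {E : Type u} [Field E] [Algebra F E]

/-- an element of `E` fixed by the Frobenius of `F` lies in `F` -/
theorem mem_range_of_pow_card (x : E) (hx : x ^ Fintype.card F = x) :
    x ∈ Set.range (algebraMap F E) := by
  classical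
  have hcard : 1 < Fintype.card F := Fintype.one_lt_card
  set p : E[X] := X ^ Fintype.card F - X with hp
  have hp0 : p ≠ 0 := FiniteField.X_pow_card_sub_X_ne_zero E hcard
  have hdeg : p.natDegree = Fintype.card F := FiniteField.X_pow_card_sub_X_natDegree_eq E hcard
  let T : Finset E := Finset.univ.image (algebraMap F E)
  have hTcard : T.card = Fintype.card F := by
    rw [Finset.card_image_of_injective _ (algebraMap F E).injective, Finset.card_univ]
  have hTsub : T ⊆ p.roots.toFinset := by
    intro y hy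
    obtain ⟨c, -, rfl⟩ := Finset.mem_image.mp hy
    rw [Multiset.mem_toFinset, mem_roots hp0, IsRoot.def, hp, eval_sub, eval_pow, eval_X,
      ← map_pow, FiniteField.pow_card, sub_self]
  have hle : p.roots.toFinset.card ≤ T.card := by
    rw [hTcard, ← hdeg]
    exact (Multiset.toFinset_card_le _).trans (card_roots' p)
  have heq : T = p.roots.toFinset := Finset.eq_of_subset_of_card_le hTsub hle
  have hxr : x ∈ p.roots.toFinset := by
    rw [Multiset.mem_toFinset, mem_roots hp0, IsRoot.def, hp, eval_sub, eval_pow, eval_X, hx,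
      sub_self]
  rw [← heq] at hxr
  obtain ⟨c, -, hc⟩ := Finset.mem_image.mp hxr
  exact ⟨c, hc⟩

/-- **M2c** `coeff_ne_zero`. -/
theorem coeff_ne_zero (S : KU n q F E) (hF : Fintype.card F = q ^ 2) [FiniteDimensional F E]
    (hr5 : finrank F E = 5) {δ : E} (hδ0 : δ ≠ 0) {π π' : E}
    (hind : ∀ x y : F, x • π + y • π' = 0 → x = 0 ∧ y = 0) (i : ℕ) (hi : i = 1 ∨ i = 2) :
    π * (fr F E ^ i) (δ * S.st π') + π' * (fr F E ^ i) (δ * S.st π) ≠ 0 := by
  intro h0
  have hπ' : π' ≠ 0 := by
    rintro rfl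
    have := (hind 0 1 (by simp)).2
    exact one_ne_zero this
  -- the ring hom ψ = fr^i ∘ st
  have hφδ : (fr F E ^ i) δ ≠ 0 := by
    rw [Ne, map_eq_zero]; exact hδ0
  have hψπ' : (fr F E ^ i) (S.st π') ≠ 0 := by
    rw [Ne, map_eq_zero, map_eq_zero]; exact hπ'
  rw [map_mul, map_mul] at h0
  have h1 : π * (fr F E ^ i) (S.st π') + π' * (fr F E ^ i) (S.st π) = 0 := by
    have : (fr F E ^ i) δ * (π * (fr F E ^ i) (S.st π') + π' * (fr F E ^ i) (S.st π)) = 0 := by
      rw [← h0]; ring
    exact (mul_eq_zero.mp this).resolve_left hφδ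
  set x : E := π / π' with hx
  have hxψ : x = -((fr F E ^ i) (S.st x)) := by
    rw [hx, map_div₀, map_div₀]
    field_simp
    linear_combination h1
  -- apply ψ again
  have hψψ : (fr F E ^ i) (S.st ((fr F E ^ i) (S.st x))) = (fr F E ^ (2 * i)) x := by
    rw [st_fr_comm, S.st_st, two_mul, pow_add]; rfl
  have e1 : (fr F E ^ i) (S.st x) = -x := neg_eq_iff_eq_neg.mp hxψ.symm
  have e2 : (fr F E ^ i) (S.st ((fr F E ^ i) (S.st x))) = x := by
    rw [e1, map_neg, map_neg, e1, neg_neg]
  have hxx : x = (fr F E ^ (2 * i)) x := by rw [← hψψ, e2]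
  -- fr x = x
  have hfr5 := fr_pow_five (F := F) (E := E) hr5
  have hfix : ∀ m : ℕ, ((fr F E ^ (2 * i)) ^ m) x = x := by
    intro m
    induction m with
    | zero => rfl
    | succ m ih =>
      rw [pow_succ]
      change ((fr F E ^ (2 * i)) ^ m) ((fr F E ^ (2 * i)) x) = x
      rw [← hxx, ih]
  have hfrx : (fr F E) x = x := by
    rcases hi with rfl | rfl
    · have := hfix 3
      have h6 : ((fr F E ^ (2 * 1)) ^ 3) = fr F E := by
        rw [← pow_mul]
        have : 2 * 1 * 3 = 5 + 1 := by norm_num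
        rw [this, pow_add, hfr5, one_mul, pow_one]
      rwa [h6] at this
    · have := hfix 4
      have h16 : ((fr F E ^ (2 * 2)) ^ 4) = fr F E := by
        rw [← pow_mul]
        have : 2 * 2 * 4 = 5 * 3 + 1 := by norm_num
        rw [this, pow_add, pow_mul, hfr5, one_pow, one_mul, pow_one]
      rwa [h16] at this
  have hpow : x ^ Fintype.card F = x := by
    have := hfrx
    rwa [FiniteField.coe_frobeniusAlgHom] at this
  obtain ⟨c, hc⟩ := mem_range_of_pow_card x hpow
  have hπ : π = c • π' := by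
    rw [Algebra.smul_def, hc, hx, div_mul_cancel₀ _ hπ']
  have := (hind 1 (-c) (by rw [hπ]; simp)).1
  exact one_ne_zero this

end Cfsg.Agent.Lib.Helper24.C3qModLeaf
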