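import Mathlib
import Cfsg.Prelude.Def_Classical
import Cfsg.Prelude.Def_ClassicalGeometry
import Cfsg.Prelude.Def_GeometricClasses
import Cfsg.Agent.Lib.Helper5.SUMax
import Cfsg.Agent.Lib.Helper5.UForm
import Cfsg.Agent.Lib.Helper16.C3uDefs
import Cfsg.Agent.Lib.Helper13.C3qDefs
import Cfsg.Agent.Lib.Helper13.C3qMDefs
import Cfsg.Agent.Lib.Helper12.C3uF

/-!
S5840 conjunct (7), MOD sub-leaf **M5 `sep`** (helper24): number theory mod `q^5 - 1`.
-/

set_option autoImplicit false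
set_option linter.unusedSectionVars false
set_option linter.unusedVariables false

namespace Cfsg.Agent.Lib.Helper24.C3qModLeaf
open Cfsg Matrix Module Cfsg.Agent.Lib.Helper16.C3u Cfsg.Agent.Lib.Helper13.C3q

universe u
variable {F : Type u} [Field F] [Fintype F] {n q : ℕ} {E : Type u} [Field E] [Algebra F E]

theorem sep_lt {q : ℕ} (hq : 3 ≤ q) {u v : ℕ} (hu : u ≤ 4) (hv : v ≤ 4) :
    q ^ u + q ^ v < q ^ 5 - 1 := by
  have h1 : q ^ u ≤ q ^ 4 := Nat.pow_le_pow_right (by omega) hu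
  have h2 : q ^ v ≤ q ^ 4 := Nat.pow_le_pow_right (by omega) hv
  have h3 : 3 * q ^ 4 ≤ q ^ 5 := by
    have : q ^ 5 = q * q ^ 4 := by ring
    rw [this]; exact Nat.mul_le_mul_right _ hq
  have h4 : 81 ≤ q ^ 4 := by
    calc 81 = 3 ^ 4 := by norm_num
      _ ≤ q ^ 4 := Nat.pow_le_pow_left hq 4
  omega

theorem sep_key {q : ℕ} (hq : 3 ≤ q) {e u v : ℕ} (he : e ≤ 4) (hu : u ≤ 4) (hv : v ≤ 4)
    (h : 1 + q ^ e ≡ q ^ u + q ^ v [MOD q ^ 5 - 1]) :
    (u = 0 ∧ v = e) ∨ (v = 0 ∧ u = e) := by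
  have h0 : (0 : ℕ) ≤ 4 := by norm_num
  have hl : 1 + q ^ e < q ^ 5 - 1 := by
    have := sep_lt hq h0 he
    simpa using this
  have hr := sep_lt hq hu hv
  have heq : 1 + q ^ e = q ^ u + q ^ v := Nat.ModEq.eq_of_lt_of_lt h hl hr
  have hq2 : 2 ≤ q := by omega
  have hinj := Nat.pow_right_injective hq2
  rcases Nat.eq_zero_or_pos u with hu0 | hu0
  · left
    refine ⟨hu0, ?_⟩
    subst hu0
    have : q ^ e = q ^ v := by simpa using heq
    exact (hinj this).symm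
  rcases Nat.eq_zero_or_pos v with hv0 | hv0
  · right
    refine ⟨hv0, ?_⟩
    subst hv0
    have : q ^ e = q ^ u := by
      have := heq
      simp only [pow_zero] at this
      omega
    exact (hinj this).symm
  exfalso
  have hdu : q ∣ q ^ u := dvd_pow_self q (by omega)
  have hdv : q ∣ q ^ v := dvd_pow_self q (by omega)
  have hd : q ∣ 1 + q ^ e := by rw [heq]; exact dvd_add hdu hdv
  rcases Nat.eq_zero_or_pos e with he0 | he0
  · subst he0
    have h2 : q ∣ 2 := by simpa using hd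
    have := Nat.le_of_dvd (by norm_num) h2
    omega
  · have hde : q ∣ q ^ e := dvd_pow_self q (by omega)
    have h1 : q ∣ 1 := (Nat.dvd_add_left hde).mp hd
    have := Nat.le_of_dvd (by norm_num) h1
    omega

theorem sep_pow_mod {q : ℕ} (hq : 2 ≤ q) (m : ℕ) : q ^ m ≡ q ^ (m % 5) [MOD q ^ 5 - 1] := by
  have h5 : q ^ 5 ≡ 1 [MOD q ^ 5 - 1] := by
    have hpos : 1 ≤ q ^ 5 := Nat.one_le_pow _ _ (by omega)
    exact ((Nat.modEq_iff_dvd' hpos).mpr (dvd_refl _)).symm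
  have hm : q ^ m = (q ^ 5) ^ (m / 5) * q ^ (m % 5) := by
    rw [← pow_mul, ← pow_add, Nat.div_add_mod]
  rw [hm]
  calc (q ^ 5) ^ (m / 5) * q ^ (m % 5) ≡ 1 ^ (m / 5) * q ^ (m % 5) [MOD q ^ 5 - 1] :=
        (h5.pow _).mul_right _
    _ = q ^ (m % 5) := by simp

theorem sep_core {q : ℕ} (hq : 2 ≤ q) {i i' j : ℕ} (hj : j < 5)
    (hbad : ¬ ((j = 0 ∧ (2 * i' + j) % 5 = (2 * i) % 5) ∨ ((2 * i' + j) % 5 = 0 ∧ j = (2 * i) % 5)))
    (h2 : q = 2 → ¬ (1 + 2 ^ (2 * i)) ≡ (1 + 2 ^ (2 * i')) * 2 ^ j [MOD 31]) :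
    ¬ (1 + q ^ (2 * i)) ≡ (1 + q ^ (2 * i')) * q ^ j [MOD q ^ 5 - 1] := by
  intro h
  rcases Nat.lt_or_ge q 3 with hq3 | hq3
  · have : q = 2 := by omega
    subst this
    exact h2 rfl (by simpa using h)
  · apply hbad
    have hL : 1 + q ^ (2 * i) ≡ 1 + q ^ ((2 * i) % 5) [MOD q ^ 5 - 1] :=
      (sep_pow_mod hq _).add_left 1
    have hR : (1 + q ^ (2 * i')) * q ^ j ≡ q ^ j + q ^ ((2 * i' + j) % 5) [MOD q ^ 5 - 1] := by
      have : (1 + q ^ (2 * i')) * q ^ j = q ^ j + q ^ (2 * i' + j) := by ring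
      rw [this]
      exact (sep_pow_mod hq _).add_left _
    have hkey := sep_key hq3 (e := (2 * i) % 5) (u := j) (v := (2 * i' + j) % 5)
      (by omega) (by omega) (by omega) ((hL.symm.trans h).trans hR)
    exact hkey

theorem sep_monoid {G : Type*} [Monoid G] (k : G) {q : ℕ} (hq : 2 ≤ q) (hk : orderOf k = q ^ 5 - 1)
    (a b c : ℕ) (h : k ^ a = (k ^ b) ^ c) : a ≡ b * c [MOD q ^ 5 - 1] := by
  have hpos : 0 < orderOf k := by
    rw [hk]
    have : 2 ^ 5 ≤ q ^ 5 := Nat.pow_le_pow_left hq 5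
    omega
  have hfin : IsOfFinOrder k := orderOf_pos_iff.mp hpos
  rw [← pow_mul] at h
  have := hfin.pow_eq_pow_iff_modEq.mp h
  rwa [hk] at this

/-- **M5** `sep`. -/
theorem sep {G : Type*} [Monoid G] (k : G) (hq : 2 ≤ q) (hk : orderOf k = q ^ 5 - 1) :
    (∀ i ∈ ({1, 4} : Finset ℕ), ∀ i' ∈ ({0, 2, 3} : Finset ℕ), ∀ j < 5,
      k ^ (1 + q ^ (2 * i)) ≠ (k ^ (1 + q ^ (2 * i'))) ^ (q ^ j)) ∧
    (∀ i ∈ ({2, 3} : Finset ℕ), ∀ i' ∈ ({0, 1, 4} : Finset ℕ), ∀ j < 5,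
      k ^ (1 + q ^ (2 * i)) ≠ (k ^ (1 + q ^ (2 * i'))) ^ (q ^ j)) := by
  constructor
  · intro i hi i' hi' j hj heq
    have hmod := sep_monoid k hq hk _ _ _ heq
    refine sep_core hq hj ?_ ?_ hmod
    · simp only [Finset.mem_insert, Finset.mem_singleton] at hi hi'
      rcases hi with rfl | rfl <;> rcases hi' with rfl | rfl | rfl <;> interval_cases j <;> decide
    · intro _
      simp only [Finset.mem_insert, Finset.mem_singleton] at hi hi'
      rcases hi with rfl | rfl <;> rcases hi' with rfl | rfl | rfl <;> interval_cases j <;> decide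
  · intro i hi i' hi' j hj heq
    have hmod := sep_monoid k hq hk _ _ _ heq
    refine sep_core hq hj ?_ ?_ hmod
    · simp only [Finset.mem_insert, Finset.mem_singleton] at hi hi'
      rcases hi with rfl | rfl <;> rcases hi' with rfl | rfl | rfl <;> interval_cases j <;> decide
    · intro _
      simp only [Finset.mem_insert, Finset.mem_singleton] at hi hi'
      rcases hi with rfl | rfl <;> rcases hi' with rfl | rfl | rfl <;> interval_cases j <;> decide

end Cfsg.Agent.Lib.Helper24.C3qModLeaf
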