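/-
helper24: S4651 (Knorr-Robinson alternating chain sum for k(b) - l(b)), definitions shared by the
leaves: chains of nontrivial p-subgroups, their normalizers, the characters of a subgroup lying in
blocks that induce `b`, and the rank sum `Lam`.
-/
import Mathlib
import Cfsg.Agent.Lib.Helper6.SubsectionCount

set_option autoImplicit false

namespace Cfsg.Agent.Lib.Helper24.KR

open Cfsg

universe u

variable {G : Type u} [Group G]

/-- The centralizer of an element. -/
abbrev Cz (z : G) : Subgroup G := Subgroup.centralizer ({z} : Set G)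

/-- The stabilizer of a chain: the intersection of the normalizers of its members. -/
def chainNorm (s : Finset (Subgroup G)) : Subgroup G :=
  ⨅ Q ∈ s, Subgroup.normalizer ((Q : Subgroup G) : Set G)

/-- Nonempty chains of nontrivial `p`-subgroups. -/
def IsPChain (p : ℕ) (s : Finset (Subgroup G)) : Prop :=
  s.Nonempty ∧ (∀ Q ∈ s, ∀ R ∈ s, Q ≤ R ∨ R ≤ Q) ∧ (∀ Q ∈ s, Q ≠ ⊥ ∧ IsPGroup p Q)

/-- Every member of the chain is normal in the largest member. -/
def IsNormalChain (s : Finset (Subgroup G)) : Prop :=
  ∃ T ∈ s, ∀ Q ∈ s, Q ≤ T ∧ T ≤ Subgroup.normalizer ((Q : Subgroup G) : Set G)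

/-- The irreducible characters of `H` lying in blocks of `H` that induce `b`. -/
def indChars (M : Ideal AlgInt) (b : Set (IrrCharacter G)) (H : Subgroup G) :
    Set (IrrCharacter H) :=
  {ψ | ∃ β : Set (IrrCharacter H), ψ ∈ β ∧ IsInducedBlock M H β b}

/-- The sum of the `p`-regular ranks of the blocks of `L` that induce `b`. -/
noncomputable def Lam (p : ℕ) (M : Ideal AlgInt) (b : Set (IrrCharacter G)) (L : Subgroup G) : ℕ :=
  ∑ᶠ β ∈ {β : Set (IrrCharacter L) | IsInducedBlock M L β b}, blockRank p β

theorem mem_chainNorm_iff (s : Finset (Subgroup G)) (g : G) :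
    g ∈ chainNorm s ↔ ∀ Q ∈ s, g ∈ Subgroup.normalizer ((Q : Subgroup G) : Set G) := by
  unfold chainNorm
  simp only [Subgroup.mem_iInf]

end Cfsg.Agent.Lib.Helper24.KR
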