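import Mathlib
import Cfsg.Prelude.Def_ClassicalGeometry
import Cfsg.Prelude.Def_GeometricClasses
import Cfsg.Agent.Lib.Helper5.TSMax
import Cfsg.Agent.Lib.Helper19.OSubDefs
import Cfsg.Agent.Lib.Helper19.OSubBasic
import Cfsg.Agent.Lib.Helper19.OSubDescent

/-!
helper24: leaf RD of helper19's S5683 market: a vector all of whose polar products with rational
vectors are rational is rational.
-/

set_option autoImplicit false
set_option linter.unusedSectionVars false
set_option linter.unusedVariables false

namespace Cfsg.Agent.Lib.Helper24.OSubLeaf19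
open Cfsg Matrix QuadraticMap Module Cfsg.Agent.Lib.Helper25.Siegel Cfsg.Agent.Lib.Helper19.OSub

variable {ι : Type} [Fintype ι] [DecidableEq ι] {F : Type*} [Field F] [Fintype F]
  {F₀ : Subfield F} {Q : QuadraticForm F (ι → F)} {M : Subgroup (GL ι F)}

/-- RD: a vector all of whose products with rational vectors are rational is rational -/
theorem ratV_of_polar (h : QCtx F₀ Q) {r : ι → F} (hr : ∀ x, RatV F₀ x → polar Q x r ∈ F₀) :
    RatV F₀ r := by
  classical
  -- the functional u ↦ B(up u, r) over F₀
  let φ : Module.Dual F₀ (ι → F₀) :=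
    { toFun := fun u => ⟨polar Q (up F₀ u) r, hr _ (ratV_up u)⟩
      map_add' := fun u v => Subtype.ext (by
        show polar Q (up F₀ (u + v)) r = polar Q (up F₀ u) r + polar Q (up F₀ v) r
        rw [up_add, polar_add_left])
      map_smul' := fun c u => Subtype.ext (by
        show polar Q (up F₀ (c • u)) r = (c : F) * polar Q (up F₀ u) r
        rw [up_smul, polar_smul_left]
        rfl) }
  have hnd := Q0_nondeg h
  obtain ⟨w, hw⟩ : ∃ w : ι → F₀, ∀ u, polar (Q0 h) w u = φ u := by
    refine ⟨(LinearMap.BilinForm.toDual (polarBilin (Q0 h)) hnd).symm φ, fun u => ?_⟩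
    have := LinearMap.BilinForm.apply_toDual_symm_apply (B := polarBilin (Q0 h)) (hB := hnd) φ u
    rw [polarBilin_apply_apply] at this
    exact this
  -- r - up w is orthogonal to every rational vector
  have h1 : ∀ y, RatV F₀ y → polar Q (r - up F₀ w) y = 0 := by
    intro y hy
    obtain ⟨u, rfl⟩ := exists_up hy
    have h2 : ((polar (Q0 h) w u : F₀) : F) = polar Q (up F₀ u) r := by
      rw [hw u]
      rfl
    rw [polar_Q0] at h2
    rw [polar_sub_left, polar_comm Q r, ← h2, sub_self]
  have h3 : r - up F₀ w = 0 := by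
    apply h.nd.1
    intro y
    rw [polarBilin_apply_apply]
    exact polar_zero_of_rat (F₀ := F₀) h1 y
  have h4 : r = up F₀ w := sub_eq_zero.mp h3
  rw [h4]
  exact ratV_up w

end Cfsg.Agent.Lib.Helper24.OSubLeaf19
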