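/-
helper24: S2282, `n ≥ 5` endgame, two abstract lemmas on helper6's `SUApiA/B`.

* `Sg_full`: for isotropic `a ⊥ b` with `a, b, a + b ∈ Rt M` and ONE more point `a + l0 • b ∈ Rt M` of the
  totally isotropic line with `l0` not fixed by the Frobenius, EVERY Siegel element `Sg θ a b s`
  (`s : F` arbitrary) lies in `M`.
* `Rt_add_smul_of_Sg`: if all `Sg θ a b s` lie in `M`, `x ∈ Rt M`, `x ⊥ a`, `h(x,b) ≠ 0`, then
  `x + μ • a ∈ Rt M` for all `μ`.
-/
import Mathlib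
import Cfsg.Agent.Lib.Helper6.SUApiB
import Cfsg.Agent.Lib.Helper8.SUField

set_option autoImplicit false
set_option linter.unusedSectionVars false
set_option linter.unusedVariables false
set_option linter.unusedSimpArgs false

namespace Cfsg.Agent.Lib.Helper24.SUFullSg

open Cfsg Matrix Cfsg.Agent.Lib.Helper14 Cfsg.Agent.Lib.Helper5.SpMax
  Cfsg.Agent.Lib.Helper5.UForm Cfsg.Agent.Lib.Helper5.UEichler Cfsg.Agent.Lib.Helper5.HermBridge
  Cfsg.Agent.Lib.Helper5.SUGen Cfsg.Agent.Lib.Helper6.SUApi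

variable {F : Type*} [Field F] [Fintype F] {q n : ℕ} (hF : Fintype.card F = q ^ 2)
variable {M : Subgroup ↥(Cfsg.SU n F q)}

/-- the Siegel element does not depend on the auxiliary skew element -/
theorem Sg_indep {θ θ' : F} (hθ : frobQ hF θ = -θ) (hθ0 : θ ≠ 0) (hθ' : frobQ hF θ' = -θ')
    (hθ'0 : θ' ≠ 0) {a b : Fin n → F} (ha : Cfsg.hermForm n F q a a = 0)
    (hb : Cfsg.hermForm n F q b b = 0) (hab : Cfsg.hermForm n F q a b = 0) (s : F) :
    Sg hF θ a b s = Sg hF θ' a b s := by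
  apply av_ext
  intro x
  rw [av_Sg hF hθ hθ0 ha hb hab, av_Sg hF hθ' hθ'0 ha hb hab]

/-- membership with the one centre that is really used -/
theorem Sg_mem_one {θ : F} (hθ : frobQ hF θ = -θ) {a b : Fin n → F} (ha : a ∈ Rt hF M)
    (hb : b ∈ Rt hF M) (s : F) (hab : a + frobQ hF (s / θ) • b ∈ Rt hF M) :
    Sg hF θ a b s ∈ M := by
  have hf := herm_unitary (n := n) hF
  unfold Sg
  refine M.mul_mem (M.mul_mem (hab.2 θ hθ) (ha.2 (-θ) (by rw [map_neg, hθ]))) (hb.2 _ ?_)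
  rw [map_mul, map_neg, map_mul, hf.involutive, hθ]; ring

/-- **full Siegel group from two extra points of the totally isotropic line** -/
theorem Sg_full {θ : F} (hθ : frobQ hF θ = -θ) (hθ0 : θ ≠ 0) {a b : Fin n → F}
    (ha : a ∈ Rt hF M) (hb : b ∈ Rt hF M) (hab : Cfsg.hermForm n F q a b = 0)
    (h1 : a + b ∈ Rt hF M) {l0 : F} (hl0 : frobQ hF l0 ≠ l0) (hl : a + l0 • b ∈ Rt hF M) (s : F) :
    Sg hF θ a b s ∈ M := by
  have hf := herm_unitary (n := n) hF
  have hA : ∀ c : F, frobQ hF c = -c → Sg hF θ a b c ∈ M := by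
    intro c hc
    by_cases hc0 : c = 0
    · rw [hc0, Sg_zero hF hθ hθ0 ha.1 hb.1 hab]
      exact M.one_mem
    · rw [Sg_indep hF hθ hθ0 hc hc0 ha.1 hb.1 hab c]
      apply Sg_mem_one hF hc ha hb
      rw [div_self hc0, map_one, one_smul]
      exact h1
  have hB : ∀ c : F, frobQ hF c = -c → Sg hF θ a b (frobQ hF l0 * c) ∈ M := by
    intro c hc
    by_cases hc0 : c = 0
    · rw [hc0, mul_zero, Sg_zero hF hθ hθ0 ha.1 hb.1 hab]
      exact M.one_mem
    · rw [Sg_indep hF hθ hθ0 hc hc0 ha.1 hb.1 hab]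
      apply Sg_mem_one hF hc ha hb
      rw [mul_div_assoc, div_self hc0, mul_one, hf.involutive]
      exact hl
  have hind : ((frobQ hF l0 * θ) / θ) ^ q ≠ (frobQ hF l0 * θ) / θ := by
    rw [mul_div_assoc, div_self hθ0, mul_one, ← frobQ_apply hF, hf.involutive]
    exact fun h => hl0 h.symm
  obtain ⟨s1, t1, hs1, ht1, hs⟩ :=
    Cfsg.Agent.Lib.Helper8.SUField.exists_coords hF hθ0 hind s
  have hs1' : frobQ hF s1 = s1 := by rw [frobQ_apply]; exact hs1
  have ht1' : frobQ hF t1 = t1 := by rw [frobQ_apply]; exact ht1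
  have e1 : frobQ hF (s1 * θ) = -(s1 * θ) := by rw [map_mul, hs1', hθ]; ring
  have e2 : frobQ hF (t1 * θ) = -(t1 * θ) := by rw [map_mul, ht1', hθ]; ring
  have e3 : s = s1 * θ + frobQ hF l0 * (t1 * θ) := by rw [hs]; ring
  rw [e3, ← Sg_mul hF hθ hθ0 ha.1 hb.1 hab]
  exact M.mul_mem (hA _ e1) (hB _ e2)

/-- with the full Siegel group of `⟨a, b⟩` in `M`, a root vector `x ⊥ a` with `h(x,b) ≠ 0` can be moved
by any multiple of `a` -/
theorem Rt_add_smul_of_Sg {θ : F} (hθ : frobQ hF θ = -θ) (hθ0 : θ ≠ 0) {a b : Fin n → F}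
    (ha : Cfsg.hermForm n F q a a = 0) (hb : Cfsg.hermForm n F q b b = 0)
    (hab : Cfsg.hermForm n F q a b = 0) (hSg : ∀ s : F, Sg hF θ a b s ∈ M) {x : Fin n → F}
    (hx : x ∈ Rt hF M) (hxa : Cfsg.hermForm n F q x a = 0)
    (hxb : Cfsg.hermForm n F q x b ≠ 0) (μ : F) : x + μ • a ∈ Rt hF M := by
  have h := Rt_ap hF (hSg (μ / Cfsg.hermForm n F q x b)) hx
  rw [av_Sg hF hθ hθ0 ha hb hab, hxa, mul_zero, zero_smul, sub_zero, div_mul_cancel₀ _ hxb] at h
  exact h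

/-- **the whole totally isotropic line**: `b ⊥ z, z'` root vectors with `b + z, b + z' ∈ Rt M` and
`κ = h(z', z)` NOT skew.  Then every `z + μ • b` is a root vector and the full Siegel group of `⟨b, z⟩`
lies in `M`. -/
theorem line_full {θ : F} (hθ : frobQ hF θ = -θ) (hθ0 : θ ≠ 0) {b z z' : Fin n → F}
    (hb : b ∈ Rt hF M) (hz : z ∈ Rt hF M) (hz' : z' ∈ Rt hF M)
    (hbz : Cfsg.hermForm n F q b z = 0) (hbz' : Cfsg.hermForm n F q b z' = 0)
    (h1 : b + z ∈ Rt hF M) (h2 : b + z' ∈ Rt hF M)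
    (hκ : frobQ hF (Cfsg.hermForm n F q z' z) ≠ -Cfsg.hermForm n F q z' z) :
    (∀ μ : F, z + μ • b ∈ Rt hF M) ∧ (∀ s : F, Sg hF θ b z s ∈ M) := by
  have hf := herm_unitary (n := n) hF
  obtain ⟨κ, hκdef⟩ : ∃ κ, κ = Cfsg.hermForm n F q z' z := ⟨_, rfl⟩
  rw [← hκdef] at hκ
  have hκ0 : κ ≠ 0 := by
    intro h0
    rw [h0, map_zero, neg_zero] at hκ
    exact hκ rfl
  have hzb : Cfsg.hermForm n F q z b = 0 := by rw [hf.herm, hbz, map_zero]
  have hz'b : Cfsg.hermForm n F q z' b = 0 := by rw [hf.herm, hbz', map_zero]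
  have hzz' : Cfsg.hermForm n F q z z' = frobQ hF κ := by rw [hκdef]; exact hf.herm z z'
  -- step 1: the skew Siegel element of `⟨b, z⟩`
  have hS1 : Sg hF θ b z θ ∈ M := by
    apply Sg_mem_one hF hθ hb hz
    rw [div_self hθ0, map_one, one_smul]
    exact h1
  -- step 2: a point of `⟨b, z'⟩` with a parameter outside the fixed field
  have hp : z' + (θ * κ) • b ∈ Rt hF M := by
    have h := Rt_ap hF hS1 hz'
    rw [av_Sg hF hθ hθ0 hb.1 hz.1 hbz, hz'b, mul_zero, zero_smul, sub_zero, ← hκdef] at h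
    exact h
  have hθκ : θ * κ ≠ 0 := mul_ne_zero hθ0 hκ0
  have hp2 : b + (θ * κ)⁻¹ • z' ∈ Rt hF M := by
    have h := Rt_smul hF (θ * κ)⁻¹ hp
    rw [smul_add, smul_smul, inv_mul_cancel₀ hθκ, one_smul, add_comm] at h
    exact h
  have hl0 : frobQ hF (θ * κ)⁻¹ ≠ (θ * κ)⁻¹ := by
    intro h
    rw [map_inv₀, _root_.inv_inj, map_mul, hθ] at h
    apply hκ
    have : θ * (frobQ hF κ + κ) = 0 := by linear_combination -h
    rcases mul_eq_zero.mp this with h3 | h3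
    · exact absurd h3 hθ0
    · linear_combination h3
  -- step 3: the full Siegel group of `⟨b, z'⟩`
  have hS3 : ∀ s : F, Sg hF θ b z' s ∈ M := fun s => Sg_full hF hθ hθ0 hb hz' hbz' h2 hl0 hp2 s
  -- step 4: move `z`
  have hline : ∀ μ : F, z + μ • b ∈ Rt hF M := by
    intro μ
    apply Rt_add_smul_of_Sg hF hθ hθ0 hb.1 hz'.1 hbz' hS3 hz hzb
    rw [hzz']
    rwa [Ne, map_eq_zero]
  refine ⟨hline, fun s => ?_⟩
  apply Sg_mem hF hθ hb hz
  intro l
  by_cases hl : l = 0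
  · rw [hl, zero_smul, add_zero]
    exact hb
  · have h := Rt_smul hF l (hline l⁻¹)
    rw [smul_add, smul_smul, mul_inv_cancel₀ hl, one_smul, add_comm] at h
    exact h

end Cfsg.Agent.Lib.Helper24.SUFullSg
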