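/-
helper24: S2282, `n ≥ 5` endgame: the REDUCTION step (coordinate elimination), on helper6's `SUApiA`.

A Witt system `E i, Fv i (i : Fin m), D` of the standard Hermitian space; if `Rt hF M` contains the four
totally isotropic lines between consecutive hyperbolic pairs and every isotropic vector of the last
three-dimensional piece `⟨E l, D, Fv l⟩`, then it contains every isotropic vector.
-/
import Mathlib
import Cfsg.Agent.Lib.Helper6.SUApiA

set_option autoImplicit false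
set_option linter.unusedSectionVars false
set_option linter.unusedVariables false
set_option linter.unusedSimpArgs false

namespace Cfsg.Agent.Lib.Helper24.SUEnRed

open Cfsg Matrix Cfsg.Agent.Lib.Helper14 Cfsg.Agent.Lib.Helper5.SpMax
  Cfsg.Agent.Lib.Helper5.UForm Cfsg.Agent.Lib.Helper5.UEichler Cfsg.Agent.Lib.Helper5.HermBridge
  Cfsg.Agent.Lib.Helper5.SUGen Cfsg.Agent.Lib.Helper6.SUApi

variable {F : Type*} [Field F] [Fintype F] {q n : ℕ} (hF : Fintype.card F = q ^ 2)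
variable {M : Subgroup ↥(Cfsg.SU n F q)}

/-- two hyperbolic pairs `(e, f)`, `(e', f')`, perpendicular to each other, with the four connecting
totally isotropic lines inside `Rt hF M` -/
structure Loc (M : Subgroup ↥(Cfsg.SU n F q)) (e f e' f' : Fin n → F) : Prop where
  ee : Cfsg.hermForm n F q e e = 0
  ff : Cfsg.hermForm n F q f f = 0
  ef : Cfsg.hermForm n F q e f = 1
  fe : Cfsg.hermForm n F q f e = 1
  e'e' : Cfsg.hermForm n F q e' e' = 0
  f'f' : Cfsg.hermForm n F q f' f' = 0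
  e'f' : Cfsg.hermForm n F q e' f' = 1
  f'e' : Cfsg.hermForm n F q f' e' = 1
  ee' : Cfsg.hermForm n F q e e' = 0
  ef' : Cfsg.hermForm n F q e f' = 0
  fe' : Cfsg.hermForm n F q f e' = 0
  ff' : Cfsg.hermForm n F q f f' = 0
  e'e : Cfsg.hermForm n F q e' e = 0
  e'f : Cfsg.hermForm n F q e' f = 0
  f'e : Cfsg.hermForm n F q f' e = 0
  f'f : Cfsg.hermForm n F q f' f = 0
  lee : ∀ μ : F, e + μ • e' ∈ Rt hF M
  lef : ∀ μ : F, e + μ • f' ∈ Rt hF M
  lfe : ∀ μ : F, f + μ • e' ∈ Rt hF M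
  lff : ∀ μ : F, f + μ • f' ∈ Rt hF M

variable {hF}

/-- swapping `e'` and `f'` -/
theorem Loc.swap {e f e' f' : Fin n → F} (L : Loc hF M e f e' f') : Loc hF M e f f' e' :=
  ⟨L.ee, L.ff, L.ef, L.fe, L.f'f', L.e'e', L.f'e', L.e'f', L.ef', L.ee', L.ff', L.fe',
    L.f'e, L.f'f, L.e'e, L.e'f, L.lef, L.lee, L.lff, L.lfe⟩

variable (hF)

/-- one transvection with centre on a line `v1 + μ • v2 ⊆ Rt M` and pivot `h(x, v2) ≠ 0`: any multiple
`τ` of the centre can be added to `x` -/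
theorem step_line {θ : F} (hθ : frobQ hF θ = -θ) (hθ0 : θ ≠ 0) {v1 v2 x : Fin n → F}
    (hline : ∀ μ : F, v1 + μ • v2 ∈ Rt hF M) (hx2 : Cfsg.hermForm n F q x v2 ≠ 0) (τ : F) :
    ∃ μ : F, ∃ g ∈ M, av g x = x + τ • (v1 + μ • v2) := by
  have hf := herm_unitary (n := n) hF
  obtain ⟨ν, hν⟩ : ∃ ν : F, ν = (τ / θ - Cfsg.hermForm n F q x v1) / Cfsg.hermForm n F q x v2 :=
    ⟨_, rfl⟩
  refine ⟨frobQ hF ν, Tu hF (v1 + frobQ hF ν • v2) θ, (hline _).2 θ hθ, ?_⟩
  rw [av_Tu hF (hline _).1 hθ, u_add_right hf, u_smul_right hf, hf.involutive]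
  congr 2
  rw [hν]
  field_simp
  ring

/-- with a pivot `h(x, f') ≠ 0` in the second pair, the components of `x` in the first pair can be
killed; vectors perpendicular to both pairs keep their products with `x` -/
theorem pivot_kill {θ : F} (hθ : frobQ hF θ = -θ) (hθ0 : θ ≠ 0) {e f e' f' : Fin n → F}
    (L : Loc hF M e f e' f') (x : Fin n → F) (hp : Cfsg.hermForm n F q x f' ≠ 0) :
    ∃ g ∈ M, Cfsg.hermForm n F q (av g x) e = 0 ∧ Cfsg.hermForm n F q (av g x) f = 0 ∧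
      ∀ y : Fin n → F, Cfsg.hermForm n F q e y = 0 → Cfsg.hermForm n F q f y = 0 →
        Cfsg.hermForm n F q e' y = 0 → Cfsg.hermForm n F q f' y = 0 →
        Cfsg.hermForm n F q (av g x) y = Cfsg.hermForm n F q x y := by
  have hf := herm_unitary (n := n) hF
  obtain ⟨μ1, g1, hg1, h1⟩ := step_line hF hθ hθ0 L.lff hp (-(Cfsg.hermForm n F q x e))
  obtain ⟨x1, hx1⟩ : ∃ x1, x1 = av g1 x := ⟨_, rfl⟩
  rw [← hx1] at h1
  have a1 : Cfsg.hermForm n F q x1 e = 0 := by
    rw [h1, hf.add_left, hf.smul_left, hf.add_left, hf.smul_left, L.fe, L.f'e]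
    ring
  have a2 : Cfsg.hermForm n F q x1 f = Cfsg.hermForm n F q x f := by
    rw [h1, hf.add_left, hf.smul_left, hf.add_left, hf.smul_left, L.ff, L.f'f]
    ring
  have a3 : Cfsg.hermForm n F q x1 f' = Cfsg.hermForm n F q x f' := by
    rw [h1, hf.add_left, hf.smul_left, hf.add_left, hf.smul_left, L.ff', L.f'f']
    ring
  have hp1 : Cfsg.hermForm n F q x1 f' ≠ 0 := by rw [a3]; exact hp
  obtain ⟨μ2, g2, hg2, h2⟩ := step_line hF hθ hθ0 L.lef hp1 (-(Cfsg.hermForm n F q x1 f))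
  refine ⟨g2 * g1, M.mul_mem hg2 hg1, ?_, ?_, ?_⟩
  · rw [av_mul, ← hx1, h2, hf.add_left, hf.smul_left, hf.add_left, hf.smul_left, a1, L.ee, L.f'e]
    ring
  · rw [av_mul, ← hx1, h2, hf.add_left, hf.smul_left, hf.add_left, hf.smul_left, L.ef, L.f'f]
    ring
  · intro y y1 y2 y3 y4
    rw [av_mul, ← hx1, h2, hf.add_left, hf.smul_left, hf.add_left, hf.smul_left, y1, y4, h1,
      hf.add_left, hf.smul_left, hf.add_left, hf.smul_left, y2, y4]
    ring

/-- a single transvection with centre `v ∈ Rt M` -/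
theorem step_one {θ : F} (hθ : frobQ hF θ = -θ) {v : Fin n → F} (hv : v ∈ Rt hF M)
    (x : Fin n → F) :
    ∃ g ∈ M, av g x = x + (θ * Cfsg.hermForm n F q x v) • v :=
  ⟨Tu hF v θ, hv.2 θ hθ, av_Tu hF hv.1 hθ x⟩

/-- if the second pair carries no component of `x` but the first does, create a pivot -/
theorem make_pivot {θ : F} (hθ : frobQ hF θ = -θ) (hθ0 : θ ≠ 0) {e f e' f' : Fin n → F}
    (L : Loc hF M e f e' f') (x : Fin n → F) (h0 : Cfsg.hermForm n F q x e' = 0)
    (hne : Cfsg.hermForm n F q x e ≠ 0 ∨ Cfsg.hermForm n F q x f ≠ 0) :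
    ∃ g ∈ M, Cfsg.hermForm n F q (av g x) f' ≠ 0 ∧
      ∀ y : Fin n → F, Cfsg.hermForm n F q e y = 0 → Cfsg.hermForm n F q f y = 0 →
        Cfsg.hermForm n F q e' y = 0 → Cfsg.hermForm n F q f' y = 0 →
        Cfsg.hermForm n F q (av g x) y = Cfsg.hermForm n F q x y := by
  have hf := herm_unitary (n := n) hF
  by_cases hp : Cfsg.hermForm n F q x f' ≠ 0
  · exact ⟨1, M.one_mem, by rw [av_one]; exact hp, fun y _ _ _ _ => by rw [av_one]⟩
  rw [not_not] at hp
  by_cases he : Cfsg.hermForm n F q x e ≠ 0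
  · have hv := L.lee 1
    rw [one_smul] at hv
    obtain ⟨g, hg, h1⟩ := step_one hF hθ hv x
    have hxv : Cfsg.hermForm n F q x (e + e') = Cfsg.hermForm n F q x e := by
      rw [u_add_right hf, h0, add_zero]
    refine ⟨g, hg, ?_, ?_⟩
    · rw [h1, hf.add_left, hf.smul_left, hf.add_left, hp, L.ef', L.e'f', hxv]
      simpa using mul_ne_zero hθ0 he
    · intro y y1 y2 y3 y4
      rw [h1, hf.add_left, hf.smul_left, hf.add_left, y1, y3]
      ring
  · rw [not_not] at he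
    have hfx : Cfsg.hermForm n F q x f ≠ 0 := by
      rcases hne with h | h
      · exact absurd he h
      · exact h
    have hv := L.lfe 1
    rw [one_smul] at hv
    obtain ⟨g, hg, h1⟩ := step_one hF hθ hv x
    have hxv : Cfsg.hermForm n F q x (f + e') = Cfsg.hermForm n F q x f := by
      rw [u_add_right hf, h0, add_zero]
    refine ⟨g, hg, ?_, ?_⟩
    · rw [h1, hf.add_left, hf.smul_left, hf.add_left, hp, L.ff', L.e'f', hxv]
      simpa using mul_ne_zero hθ0 hfx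
    · intro y y1 y2 y3 y4
      rw [h1, hf.add_left, hf.smul_left, hf.add_left, y2, y3]
      ring

/-- **local elimination**: the components of `x` in the first pair can always be killed -/
theorem local_clean {θ : F} (hθ : frobQ hF θ = -θ) (hθ0 : θ ≠ 0) {e f e' f' : Fin n → F}
    (L : Loc hF M e f e' f') (x : Fin n → F) :
    ∃ g ∈ M, Cfsg.hermForm n F q (av g x) e = 0 ∧ Cfsg.hermForm n F q (av g x) f = 0 ∧
      ∀ y : Fin n → F, Cfsg.hermForm n F q e y = 0 → Cfsg.hermForm n F q f y = 0 →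
        Cfsg.hermForm n F q e' y = 0 → Cfsg.hermForm n F q f' y = 0 →
        Cfsg.hermForm n F q (av g x) y = Cfsg.hermForm n F q x y := by
  by_cases hdone : Cfsg.hermForm n F q x e = 0 ∧ Cfsg.hermForm n F q x f = 0
  · exact ⟨1, M.one_mem, by rw [av_one]; exact hdone.1, by rw [av_one]; exact hdone.2,
      fun y _ _ _ _ => by rw [av_one]⟩
  have hne : Cfsg.hermForm n F q x e ≠ 0 ∨ Cfsg.hermForm n F q x f ≠ 0 := by
    by_contra hcon
    push Not at hcon
    exact hdone hcon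
  by_cases hp : Cfsg.hermForm n F q x f' ≠ 0
  · exact pivot_kill hF hθ hθ0 L x hp
  by_cases hp' : Cfsg.hermForm n F q x e' ≠ 0
  · obtain ⟨g, hg, h1, h2, h3⟩ := pivot_kill hF hθ hθ0 L.swap x hp'
    exact ⟨g, hg, h1, h2, fun y y1 y2 y3 y4 => h3 y y1 y2 y4 y3⟩
  rw [not_not] at hp'
  obtain ⟨g1, hg1, k1, k2⟩ := make_pivot hF hθ hθ0 L x hp' hne
  obtain ⟨g2, hg2, h1, h2, h3⟩ := pivot_kill hF hθ hθ0 L (av g1 x) k1
  refine ⟨g2 * g1, M.mul_mem hg2 hg1, by rw [av_mul]; exact h1, by rw [av_mul]; exact h2, ?_⟩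
  intro y y1 y2 y3 y4
  rw [av_mul, h3 y y1 y2 y3 y4, k2 y y1 y2 y3 y4]

/-- a Witt system `E i, Fv i (i : Fin m), D` (odd dimension `2m + 1`) -/
structure WS (q : ℕ) {m : ℕ} (E Fv : Fin m → (Fin n → F)) (D : Fin n → F) : Prop where
  EE : ∀ i j, Cfsg.hermForm n F q (E i) (E j) = 0
  FF : ∀ i j, Cfsg.hermForm n F q (Fv i) (Fv j) = 0
  EF : ∀ i j, Cfsg.hermForm n F q (E i) (Fv j) = if i = j then 1 else 0
  ED : ∀ i, Cfsg.hermForm n F q (E i) D = 0
  FD : ∀ i, Cfsg.hermForm n F q (Fv i) D = 0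
  DD : Cfsg.hermForm n F q D D = 1
  perp : ∀ x : Fin n → F, (∀ i, Cfsg.hermForm n F q x (E i) = 0) →
    (∀ i, Cfsg.hermForm n F q x (Fv i) = 0) → Cfsg.hermForm n F q x D = 0 → x = 0

include hF in
theorem WS.FE {m : ℕ} {E Fv : Fin m → (Fin n → F)} {D : Fin n → F} (W : WS q E Fv D) (i j : Fin m) :
    Cfsg.hermForm n F q (Fv i) (E j) = if i = j then 1 else 0 := by
  have hf := herm_unitary (n := n) hF
  rw [hf.herm, W.EF]
  by_cases h : i = j
  · rw [if_pos h, if_pos h.symm, map_one]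
  · rw [if_neg h, if_neg (fun h' => h h'.symm), map_zero]

/-- the four connecting lines of consecutive pairs -/
structure Lines (M : Subgroup ↥(Cfsg.SU n F q)) {m : ℕ} (E Fv : Fin m → (Fin n → F)) : Prop where
  ee : ∀ i j : Fin m, j.val = i.val + 1 → ∀ μ : F, E i + μ • E j ∈ Rt hF M
  ef : ∀ i j : Fin m, j.val = i.val + 1 → ∀ μ : F, E i + μ • Fv j ∈ Rt hF M
  fe : ∀ i j : Fin m, j.val = i.val + 1 → ∀ μ : F, Fv i + μ • E j ∈ Rt hF M
  ff : ∀ i j : Fin m, j.val = i.val + 1 → ∀ μ : F, Fv i + μ • Fv j ∈ Rt hF M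

theorem loc_of {m : ℕ} {E Fv : Fin m → (Fin n → F)} {D : Fin n → F} (W : WS q E Fv D)
    (Ln : Lines hF M E Fv) (i j : Fin m) (hij : j.val = i.val + 1) :
    Loc hF M (E i) (Fv i) (E j) (Fv j) := by
  have hne : i ≠ j := by
    intro h
    rw [h] at hij
    omega
  have hne' : j ≠ i := fun h => hne h.symm
  refine ⟨W.EE i i, W.FF i i, ?_, ?_, W.EE j j, W.FF j j, ?_, ?_, W.EE i j, ?_, ?_, W.FF i j,
    W.EE j i, ?_, ?_, W.FF j i, Ln.ee i j hij, Ln.ef i j hij, Ln.fe i j hij, Ln.ff i j hij⟩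
  · rw [W.EF, if_pos rfl]
  · rw [W.FE hF, if_pos rfl]
  · rw [W.EF, if_pos rfl]
  · rw [W.FE hF, if_pos rfl]
  · rw [W.EF, if_neg hne]
  · rw [W.FE hF, if_neg hne]
  · rw [W.EF, if_neg hne']
  · rw [W.FE hF, if_neg hne']

/-- the elimination: all pairs below `k` can be cleaned -/
theorem clean {θ : F} (hθ : frobQ hF θ = -θ) (hθ0 : θ ≠ 0) {m : ℕ} {E Fv : Fin m → (Fin n → F)}
    {D : Fin n → F} (W : WS q E Fv D) (Ln : Lines hF M E Fv) :
    ∀ k : ℕ, k + 1 ≤ m → ∀ x : Fin n → F, ∃ g ∈ M, ∀ i : Fin m, i.val < k →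
      Cfsg.hermForm n F q (av g x) (E i) = 0 ∧ Cfsg.hermForm n F q (av g x) (Fv i) = 0 := by
  intro k
  induction k with
  | zero =>
    intro _ x
    exact ⟨1, M.one_mem, fun i hi => absurd hi (Nat.not_lt_zero _)⟩
  | succ k ih =>
    intro hk x
    obtain ⟨g0, hg0, h0⟩ := ih (by omega) x
    obtain ⟨i, hi⟩ : ∃ i : Fin m, i = ⟨k, by omega⟩ := ⟨_, rfl⟩
    obtain ⟨j, hj⟩ : ∃ j : Fin m, j = ⟨k + 1, by omega⟩ := ⟨_, rfl⟩
    have hiv : i.val = k := by rw [hi]
    have hjv : j.val = k + 1 := by rw [hj]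
    have L := loc_of hF W Ln i j (by rw [hiv, hjv])
    obtain ⟨g1, hg1, c1, c2, c3⟩ := local_clean hF hθ hθ0 L (av g0 x)
    refine ⟨g1 * g0, M.mul_mem hg1 hg0, ?_⟩
    intro l hl
    rw [av_mul]
    by_cases hlk : l.val = k
    · have : l = i := Fin.ext (by rw [hlk, hiv])
      rw [this]
      exact ⟨c1, c2⟩
    · have hl' : l.val < k := by omega
      have hli : i ≠ l := by
        intro h
        rw [← h, hiv] at hl'
        omega
      have hlj : j ≠ l := by
        intro h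
        rw [← h, hjv] at hl'
        omega
      constructor
      · rw [c3 (E l) (W.EE i l) (by rw [W.FE hF, if_neg hli]) (W.EE j l)
          (by rw [W.FE hF, if_neg hlj])]
        exact (h0 l hl').1
      · rw [c3 (Fv l) (by rw [W.EF, if_neg hli]) (W.FF i l) (by rw [W.EF, if_neg hlj])
          (W.FF j l)]
        exact (h0 l hl').2

/-- **the reduction**: the four connecting lines of consecutive pairs and all isotropic vectors of the
last three-dimensional piece in `Rt hF M` imply that every isotropic vector lies in `Rt hF M` -/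
theorem all_of_lines {θ : F} (hθ : frobQ hF θ = -θ) (hθ0 : θ ≠ 0) {m : ℕ} (hm : 0 < m)
    {E Fv : Fin m → (Fin n → F)} {D : Fin n → F} (W : WS q E Fv D) (Ln : Lines hF M E Fv)
    (hlast : ∀ x y z : F,
      Cfsg.hermForm n F q (x • E ⟨m - 1, by omega⟩ + y • D + z • Fv ⟨m - 1, by omega⟩)
        (x • E ⟨m - 1, by omega⟩ + y • D + z • Fv ⟨m - 1, by omega⟩) = 0 →
      x • E ⟨m - 1, by omega⟩ + y • D + z • Fv ⟨m - 1, by omega⟩ ∈ Rt hF M)
    (v : Fin n → F) (hv : Cfsg.hermForm n F q v v = 0) : v ∈ Rt hF M := by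
  have hf := herm_unitary (n := n) hF
  obtain ⟨g, hg, hc⟩ := clean hF hθ hθ0 W Ln (m - 1) (by omega) v
  obtain ⟨x', hx'⟩ : ∃ x', x' = av g v := ⟨_, rfl⟩
  rw [← hx'] at hc
  obtain ⟨l, hl⟩ : ∃ l : Fin m, l = ⟨m - 1, by omega⟩ := ⟨_, rfl⟩
  have hlv : l.val = m - 1 := by rw [hl]
  rw [← hl] at hlast
  have hDE : ∀ i, Cfsg.hermForm n F q D (E i) = 0 := fun i => u_symm_zero hf (W.ED i)
  have hDF : ∀ i, Cfsg.hermForm n F q D (Fv i) = 0 := fun i => u_symm_zero hf (W.FD i)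
  have hdec : x' = Cfsg.hermForm n F q x' (Fv l) • E l + Cfsg.hermForm n F q x' D • D +
      Cfsg.hermForm n F q x' (E l) • Fv l := by
    have h0 := W.perp (x' - (Cfsg.hermForm n F q x' (Fv l) • E l + Cfsg.hermForm n F q x' D • D +
      Cfsg.hermForm n F q x' (E l) • Fv l)) ?_ ?_ ?_
    · exact sub_eq_zero.mp h0
    · intro i
      rw [u_sub_left hf, hf.add_left, hf.add_left, hf.smul_left, hf.smul_left, hf.smul_left,
        W.EE, hDE, W.FE hF]
      by_cases hil : l = i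
      · rw [if_pos hil, hil]
        ring
      · rw [if_neg hil]
        have : i.val < m - 1 := by
          have h1 := i.2
          have h2 : i.val ≠ l.val := fun h => hil (Fin.ext h.symm)
          omega
        rw [(hc i this).1]
        ring
    · intro i
      rw [u_sub_left hf, hf.add_left, hf.add_left, hf.smul_left, hf.smul_left, hf.smul_left,
        W.EF, hDF, W.FF]
      by_cases hil : l = i
      · rw [if_pos hil, hil]
        ring
      · rw [if_neg hil]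
        have : i.val < m - 1 := by
          have h1 := i.2
          have h2 : i.val ≠ l.val := fun h => hil (Fin.ext h.symm)
          omega
        rw [(hc i this).2]
        ring
    · rw [u_sub_left hf, hf.add_left, hf.add_left, hf.smul_left, hf.smul_left, hf.smul_left,
        W.ED, W.FD, W.DD]
      ring
  have hiso : Cfsg.hermForm n F q x' x' = 0 := by rw [hx', av_iso]; exact hv
  have hmem : x' ∈ Rt hF M := by
    rw [hdec]
    apply hlast
    rw [← hdec]
    exact hiso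
  have h1 := Rt_ap hF (M.inv_mem hg) hmem
  rwa [hx', av_inv_av] at h1

/-- the group version -/
theorem eq_top_of_lines {θ : F} (hθ : frobQ hF θ = -θ) (hθ0 : θ ≠ 0) (hn : 3 ≤ n)
    (h32 : ¬ (n = 3 ∧ q = 2)) {m : ℕ} (hm : 0 < m)
    {E Fv : Fin m → (Fin n → F)} {D : Fin n → F} (W : WS q E Fv D) (Ln : Lines hF M E Fv)
    (hlast : ∀ x y z : F,
      Cfsg.hermForm n F q (x • E ⟨m - 1, by omega⟩ + y • D + z • Fv ⟨m - 1, by omega⟩)
        (x • E ⟨m - 1, by omega⟩ + y • D + z • Fv ⟨m - 1, by omega⟩) = 0 →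
      x • E ⟨m - 1, by omega⟩ + y • D + z • Fv ⟨m - 1, by omega⟩ ∈ Rt hF M) : M = ⊤ :=
  eq_top_of_Rt_all hF hn h32 (all_of_lines hF hθ hθ0 hm W Ln hlast)

end Cfsg.Agent.Lib.Helper24.SUEnRed
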