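/-
helper24: S2282, `n ≥ 5`: the endgame `E_n` assembled from `SUEnRed.eq_top_of_lines` (reduction) and
helper29's `SUWeyl.lines_of_ee` (Weyl elements):

`endgame_lines`: Witt system, all `E i, Fv i ∈ Rt M`, the `E`-`E` lines of consecutive pairs in `Rt M`,
all isotropic vectors of the last three-dimensional piece in `Rt M`  ⟹  `M = ⊤`.

`ee_chain`: the `E`-`E` lines of all consecutive pairs from the top one and an element `g ∈ M` with
`g (E i) = -E (i+1)`.
-/
import Mathlib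
import Cfsg.Agent.Lib.Helper24.SUEnRed
import Cfsg.Agent.Lib.Helper29.SUWeyl

set_option autoImplicit false
set_option linter.unusedSectionVars false
set_option linter.unusedVariables false
set_option linter.unusedSimpArgs false

namespace Cfsg.Agent.Lib.Helper24.SUEnRed

open Cfsg Matrix Cfsg.Agent.Lib.Helper14 Cfsg.Agent.Lib.Helper5.SpMax
  Cfsg.Agent.Lib.Helper5.UForm Cfsg.Agent.Lib.Helper5.UEichler Cfsg.Agent.Lib.Helper5.HermBridge
  Cfsg.Agent.Lib.Helper5.SUGen Cfsg.Agent.Lib.Helper6.SUApi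

variable {F : Type*} [Field F] [Fintype F] {q n : ℕ} (hF : Fintype.card F = q ^ 2)
variable {M : Subgroup ↥(Cfsg.SU n F q)}

/-- a Witt system from the Gram relations and the decomposition formula -/
theorem WS.of_span {m : ℕ} {E Fv : Fin m → (Fin n → F)} {D : Fin n → F}
    (EE : ∀ i j, Cfsg.hermForm n F q (E i) (E j) = 0)
    (FF : ∀ i j, Cfsg.hermForm n F q (Fv i) (Fv j) = 0)
    (EF : ∀ i j, Cfsg.hermForm n F q (E i) (Fv j) = if i = j then 1 else 0)
    (ED : ∀ i, Cfsg.hermForm n F q (E i) D = 0)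
    (FD : ∀ i, Cfsg.hermForm n F q (Fv i) D = 0)
    (DD : Cfsg.hermForm n F q D D = 1)
    (hspan : ∀ v : Fin n → F, v = ∑ i, Cfsg.hermForm n F q v (Fv i) • E i +
      Cfsg.hermForm n F q v D • D + ∑ i, Cfsg.hermForm n F q v (E i) • Fv i) :
    WS q E Fv D := by
  refine ⟨EE, FF, EF, ED, FD, DD, ?_⟩
  intro x h1 h2 h3
  rw [hspan x]
  simp only [h1, h2, h3, zero_smul, Finset.sum_const_zero, add_zero]

/-- **the endgame `E_n`** in the form "`E`-`E` lines of consecutive pairs" -/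
theorem endgame_lines (hn : 3 ≤ n) (h32 : ¬ (n = 3 ∧ q = 2)) {m : ℕ} (hm : 0 < m)
    {E Fv : Fin m → (Fin n → F)} {D : Fin n → F} (W : WS q E Fv D)
    (he : ∀ i, E i ∈ Rt hF M) (hf : ∀ i, Fv i ∈ Rt hF M)
    (hee : ∀ i j : Fin m, j.val = i.val + 1 → ∀ μ : F, E i + μ • E j ∈ Rt hF M)
    (hlast : ∀ x y z : F,
      Cfsg.hermForm n F q (x • E ⟨m - 1, by omega⟩ + y • D + z • Fv ⟨m - 1, by omega⟩)
        (x • E ⟨m - 1, by omega⟩ + y • D + z • Fv ⟨m - 1, by omega⟩) = 0 →
      x • E ⟨m - 1, by omega⟩ + y • D + z • Fv ⟨m - 1, by omega⟩ ∈ Rt hF M) : M = ⊤ := by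
  obtain ⟨θ, hθ0, hθ⟩ := Cfsg.Agent.Lib.Helper29.SUWeyl.exists_skew_ne hF
  have key : ∀ i j : Fin m, j.val = i.val + 1 →
      (∀ μ : F, E i + μ • Fv j ∈ Rt hF M) ∧ (∀ μ : F, Fv i + μ • E j ∈ Rt hF M) ∧
        (∀ μ : F, Fv i + μ • Fv j ∈ Rt hF M) := by
    intro i j hij
    have hne : i ≠ j := by
      intro h
      rw [h] at hij
      omega
    exact Cfsg.Agent.Lib.Helper29.SUWeyl.lines_of_ee hF (he i) (hf i) (he j) (hf j)
      (by rw [W.EF, if_pos rfl]) (by rw [W.EF, if_pos rfl]) (W.EE i j)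
      (by rw [W.EF, if_neg hne]) (by rw [W.FE hF, if_neg hne]) (W.FF i j) (hee i j hij)
  have Ln : Lines hF M E Fv :=
    ⟨hee, fun i j hij => (key i j hij).1, fun i j hij => (key i j hij).2.1,
      fun i j hij => (key i j hij).2.2⟩
  exact eq_top_of_lines hF hθ hθ0 hn h32 hm W Ln hlast

/-- the `E`-`E` lines of all consecutive pairs, from the top pair and an element `g ∈ M` with
`g (E i) = -E (i + 1)` -/
theorem ee_chain {m : ℕ} {E : Fin m → (Fin n → F)} {g : ↥(Cfsg.SU n F q)} (hg : g ∈ M)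
    (hgE : ∀ i j : Fin m, j.val = i.val + 1 → av g (E i) = -E j)
    (htop : ∀ i j : Fin m, j.val = i.val + 1 → j.val + 1 = m → ∀ μ : F, E i + μ • E j ∈ Rt hF M) :
    ∀ i j : Fin m, j.val = i.val + 1 → ∀ μ : F, E i + μ • E j ∈ Rt hF M := by
  have hinv : ∀ i j : Fin m, j.val = i.val + 1 → av g⁻¹ (E j) = -E i := by
    intro i j hij
    have h := hgE i j hij
    have h2 : av g⁻¹ (av g (E i)) = E i := av_inv_av g (E i)
    rw [h] at h2
    have h3 : av g⁻¹ (-E j) = -av g⁻¹ (E j) := by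
      rw [← neg_one_smul F (E j), av_smul, neg_one_smul]
    rw [h3] at h2
    rw [← h2, neg_neg]
  have main : ∀ t : ℕ, ∀ i j : Fin m, j.val = i.val + 1 → j.val + 1 + t = m →
      ∀ μ : F, E i + μ • E j ∈ Rt hF M := by
    intro t
    induction t with
    | zero =>
      intro i j hij hjm μ
      exact htop i j hij (by omega) μ
    | succ t ih =>
      intro i j hij hjm μ
      obtain ⟨k, hk⟩ : ∃ k : Fin m, k = ⟨j.val + 1, by omega⟩ := ⟨_, rfl⟩
      have hkv : k.val = j.val + 1 := by rw [hk]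
      have h1 := ih j k hkv (by omega) μ
      have h2 := Rt_ap hF (M.inv_mem hg) h1
      rw [av_add, av_smul, hinv i j hij, hinv j k hkv] at h2
      have h3 := Rt_smul hF (-1 : F) h2
      have e : (-1 : F) • (-E i + μ • -E j) = E i + μ • E j := by
        rw [smul_add, smul_neg, smul_neg, neg_one_smul, neg_one_smul, neg_neg, neg_neg]
      rwa [e] at h3
  intro i j hij μ
  have hj := j.2
  exact main (m - (j.val + 1)) i j hij (by omega) μ

end Cfsg.Agent.Lib.Helper24.SUEnRed
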