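import Mathlib
import Cfsg.Agent.Lib.Helper5.TWU.Defs
import Cfsg.Agent.Lib.Helper14.TWIIDefs
import Cfsg.Agent.Lib.Helper19.TWU3Defs
import Cfsg.Agent.Lib.Helper28.TWU2ADefs
import Cfsg.Agent.Lib.Helper23.TWUIIZ

/-!
# S5672 (C7 unitary) — STAGE II, CASE A (sub-planner helper28): leaf L1 `structure_u`

Exact signature of `notes/S5672_IIA_leaves.lean`.  `Ψ₀ = u - 1`: the columns lie in `W(i,y)` (column relation with `y`), and `Ψ₀` kills
`W(i,y)^⊥` (helper23's `InZ_unitary`), which gives the row relation with `y^q`.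
-/

set_option autoImplicit false
set_option linter.unusedSectionVars false
set_option linter.unusedVariables false

namespace Cfsg.Agent.Lib.Helper24.TWU2ALeaf
open Matrix Cfsg.Geo Cfsg.Agent.Lib.Helper18.AschA89 Cfsg.Agent.Lib.Helper8.TW
open Cfsg.Agent.Lib.Helper5.TWU Cfsg.Agent.Lib.Helper19.TWU3 Cfsg.Agent.Lib.Helper28.TWU2A
open Cfsg.Agent.Lib.Helper20.UT (hv)

variable {F : Type*} [Field F] [Fintype F] {t k q : ℕ}

/-- `hv` against a basis vector on the left -/
theorem hv_single_left24 {κ : Type} [Fintype κ] [DecidableEq κ] (a : κ) (w : κ → F) :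
    hv q (Pi.single a (1 : F)) w = (w a) ^ q := by
  unfold Cfsg.Agent.Lib.Helper20.UT.hv
  rw [Finset.sum_eq_single a]
  · rw [Pi.single_eq_same, one_mul]
  · intro b _ hb
    rw [Pi.single_eq_of_ne hb, zero_mul]
  · intro h; exact absurd (Finset.mem_univ a) h

/-- the column relation: the columns of `u - 1` lie in `W(i,y)` -/
theorem structure_col (i : Fin t) (y : Fin k → F)
    (u : GL (Idx t k) F) (hu1 : ∀ v, mv u v - v ∈ Wf i y) (x x' : Idx t k) (a c : Fin k) :
    ((u : Matrix (Idx t k) (Idx t k) F) - 1) (Function.update x i a) x' * y c =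
      ((u : Matrix (Idx t k) (Idx t k) F) - 1) (Function.update x i c) x' * y a := by
  classical
  set e' : Idx t k → F := Pi.single x' (1 : F) with he'
  have h1 := hu1 e'
  have h2 : ∀ z, (mv u e' - e') z =
      ((u : Matrix (Idx t k) (Idx t k) F) - 1) z x' := by
    intro z
    rw [he']
    unfold mv
    rw [Matrix.mulVec_single_one, Pi.sub_apply, Matrix.sub_apply, Matrix.col_apply, Matrix.one_apply,
      Pi.single_apply]
  have h3 := h1 x
  rw [Submodule.mem_span_singleton] at h3
  obtain ⟨e, he⟩ := h3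
  have ha := congrFun he a
  have hc := congrFun he c
  unfold slice at ha hc
  rw [h2] at ha hc
  rw [Pi.smul_apply, smul_eq_mul] at ha hc
  rw [← ha, ← hc]
  ring

/-- the row relation: `u - 1` kills `W(i,y)^⊥` -/
theorem structure_row (hF : Fintype.card F = q ^ 2) (i : Fin t) (y : Fin k → F) (hy0 : y ≠ 0) (hy : hv q y y = 0)
    (u : GL (Idx t k) F) (huD : u ∈ DUV t k q F) (hu1 : ∀ v, mv u v - v ∈ Wf i y) (hu2 : ∀ v ∈ Wf i y, mv u v = v)
    (x x' : Idx t k) (b d : Fin k) :
    ((u : Matrix (Idx t k) (Idx t k) F) - 1) x (Function.update x' i b) * (y d) ^ q =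
      ((u : Matrix (Idx t k) (Idx t k) F) - 1) x (Function.update x' i d) * (y b) ^ q := by
  classical
  have hfix := (Cfsg.Agent.Lib.Helper23.TWUII.InZ_unitary hF i y hy0 hy u huD ⟨hu1, hu2⟩).2
  set v : Idx t k → F := (y d) ^ q • Pi.single (Function.update x' i b) (1 : F) -
    (y b) ^ q • Pi.single (Function.update x' i d) (1 : F) with hv'
  have hvperp : v ∈ perpU q (Wf i y) := by
    rw [mem_perpU]
    intro w hw
    have h3 := hw x'
    rw [Submodule.mem_span_singleton] at h3
    obtain ⟨e, he⟩ := h3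
    have hb := congrFun he b
    have hd := congrFun he d
    unfold slice at hb hd
    rw [Pi.smul_apply, smul_eq_mul] at hb hd
    rw [hv', Cfsg.Agent.Lib.Helper20.UT.hv_sub_left, Cfsg.Agent.Lib.Helper20.UT.hv_smul_left,
      Cfsg.Agent.Lib.Helper20.UT.hv_smul_left, hv_single_left24, hv_single_left24, ← hb, ← hd]
    ring
  have h1 := hfix v hvperp
  have h2 : ((u : Matrix (Idx t k) (Idx t k) F) - 1) *ᵥ v = 0 := by
    rw [Matrix.sub_mulVec, Matrix.one_mulVec]
    unfold mv at h1
    rw [h1, sub_self]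
  have h3 := congrFun h2 x
  rw [hv', Matrix.mulVec_sub, Matrix.mulVec_smul, Matrix.mulVec_smul, Matrix.mulVec_single_one,
    Matrix.mulVec_single_one] at h3
  simp only [Pi.sub_apply, Pi.smul_apply, Matrix.col_apply, smul_eq_mul, Pi.zero_apply] at h3
  have h4 := sub_eq_zero.mp h3
  rw [mul_comm, h4, mul_comm]

/-- L1 (M) the structure of `u`: `u - 1` has weight `y y†` at position `i` -/
theorem structure_u (hF : Fintype.card F = q ^ 2) (hk : 2 ≤ k) (i : Fin t) (y : Fin k → F) (hy0 : y ≠ 0) (hy : hv q y y = 0)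
    (u : GL (Idx t k) F) (huD : u ∈ DUV t k q F) (hu1 : ∀ v, mv u v - v ∈ Wf i y) (hu2 : ∀ v ∈ Wf i y, mv u v = v) :
    WForm i (vv q y y) ((u : Matrix (Idx t k) (Idx t k) F) - 1) := by
  intro p p' a b
  rw [vv_apply, vv_apply]
  have hc := structure_col i y u hu1 p (Function.update p' i b) a (p i)
  rw [Function.update_eq_self] at hc
  have hr := structure_row hF i y hy0 hy u huD hu1 hu2 p p' b (p' i)
  rw [Function.update_eq_self] at hr
  calc ((u : Matrix (Idx t k) (Idx t k) F) - 1) (Function.update p i a) (Function.update p' i b) * (y (p i) * y (p' i) ^ q)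
      = (((u : Matrix (Idx t k) (Idx t k) F) - 1) (Function.update p i a) (Function.update p' i b) * y (p i)) * y (p' i) ^ q := by
        ring
    _ = (((u : Matrix (Idx t k) (Idx t k) F) - 1) p (Function.update p' i b) * y (p' i) ^ q) * y a := by rw [hc]; ring
    _ = _ := by rw [hr]; ring

end Cfsg.Agent.Lib.Helper24.TWU2ALeaf
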