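import Mathlib
import Cfsg.Prelude.Def_Characters
import Cfsg.Agent.Lib.Lead.CharMain
import Cfsg.Agent.Lib.Helper6.LinChar
import Cfsg.Agent.Lib.Helper24.IrrFacts
import Cfsg.Agent.Lib.Helper24.PerfectLemmas

/-!
# Characters multiplicative on coprime prime-power elements: character-theoretic lemmas (helper24)
-/

set_option autoImplicit false

namespace Cfsg.Agent.Lib.Helper24.Mult

open Cfsg Cfsg.Agent.CharLib Cfsg.Agent.Lib.Helper6 Cfsg.Agent.Lib.Helper24
open scoped ComplexConjugate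

universe u
variable {G : Type u} [Group G]

theorem irr_conj_apply (χ : IrrCharacter G) (g h : G) :
    (χ : G → ℂ) (h * g * h⁻¹) = (χ : G → ℂ) g :=
  (IsCharacter.isClassFunction (IsIrrCharacter.isCharacter χ.2)) g h

/-- if `χ` is multiplicative on all pairs of conjugates of `x`, `y` and `χ` is not linear, then
`χ x * χ y = 0` -/
theorem mul_eq_zero_of_mult [Finite G] (χ : IrrCharacter G) (hχ : (χ : G → ℂ) 1 ≠ 1) (x y : G)
    (h : ∀ a b : G, (χ : G → ℂ) (a * x * a⁻¹ * (b * y * b⁻¹)) =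
      (χ : G → ℂ) (a * x * a⁻¹) * (χ : G → ℂ) (b * y * b⁻¹)) :
    (χ : G → ℂ) x * (χ : G → ℂ) y = 0 := by
  classical
  have := Fintype.ofFinite G
  have h3 := irr_class_mul3 χ x y 1
  have h4 : ∑ a : G, ∑ b : G, (χ : G → ℂ) (a * x * a⁻¹ * (b * y * b⁻¹) * 1) =
      (Fintype.card G : ℂ) ^ 2 * ((χ : G → ℂ) x * (χ : G → ℂ) y) := by
    have : ∀ a b : G, (χ : G → ℂ) (a * x * a⁻¹ * (b * y * b⁻¹) * 1) =
        (χ : G → ℂ) x * (χ : G → ℂ) y := by
      intro a b
      rw [mul_one, h a b, irr_conj_apply, irr_conj_apply]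
    simp only [this, Finset.sum_const, Finset.card_univ, nsmul_eq_mul]
    ring
  rw [h4] at h3
  have hc : (Fintype.card G : ℂ) ≠ 0 := by
    have : 0 < Fintype.card G := Fintype.card_pos
    exact_mod_cast this.ne'
  have h1 : (χ : G → ℂ) 1 ≠ 0 := irr_apply_one_ne_zero χ
  have h5 : (Fintype.card G : ℂ) ^ 2 * (χ : G → ℂ) 1 * ((χ : G → ℂ) 1 - 1) *
      ((χ : G → ℂ) x * (χ : G → ℂ) y) = 0 := by
    linear_combination h3
  have h6 : (χ : G → ℂ) 1 - 1 ≠ 0 := sub_ne_zero.mpr hχ
  rcases mul_eq_zero.mp h5 with h7 | h7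
  · exfalso
    rcases mul_eq_zero.mp h7 with h8 | h8
    · rcases mul_eq_zero.mp h8 with h9 | h9
      · exact (pow_ne_zero 2 hc) h9
      · exact h1 h9
    · exact h6 h8
  · exact h7


/-- a linear irreducible character is multiplicative -/
theorem lin_mul (χ : IrrCharacter G) (hχ : (χ : G → ℂ) 1 = 1) (g h : G) :
    (χ : G → ℂ) (g * h) = (χ : G → ℂ) g * (χ : G → ℂ) h := by
  have e := linCharUnitsHom (IsIrrCharacter.isCharacter χ.2) hχ
  have h1 := linCharUnitsHom_apply (IsIrrCharacter.isCharacter χ.2) hχ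
  rw [← h1 (g * h), ← h1 g, ← h1 h, map_mul, Units.val_mul]

/-- a linear irreducible character has values of absolute value one -/
theorem lin_mul_conj [Finite G] (χ : IrrCharacter G) (hχ : (χ : G → ℂ) 1 = 1) (g : G) :
    (χ : G → ℂ) g * conj ((χ : G → ℂ) g) = 1 := by
  have h1 := linCharUnitsHom_apply (IsIrrCharacter.isCharacter χ.2) hχ
  have h2 : ((χ : G → ℂ) g) ^ (orderOf g) = 1 := by
    rw [← h1 g, ← Units.val_pow_eq_pow_val, ← map_pow, pow_orderOf_eq_one, map_one, Units.val_one]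
  have h3 : ‖(χ : G → ℂ) g‖ = 1 := by
    have h2' : ‖(χ : G → ℂ) g‖ ^ (orderOf g) = 1 := by rw [← norm_pow, h2, norm_one]
    exact (pow_eq_one_iff_of_nonneg (norm_nonneg _) (orderOf_pos g).ne').mp h2'
  rw [Complex.mul_conj, Complex.normSq_eq_norm_sq, h3]
  norm_num

/-- column orthogonality split into linear and nonlinear characters -/
theorem card_centralizer_eq [Finite G] [Fintype (IrrCharacter G)] [DecidablePred fun χ : IrrCharacter G => (χ : G → ℂ) 1 = 1] (g : G) :
    (Nat.card (Subgroup.centralizer ({g} : Set G)) : ℂ) = ((commutator G).index : ℂ) +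
      ∑ χ ∈ Finset.univ.filter (fun χ : IrrCharacter G => ¬ (χ : G → ℂ) 1 = 1),
        (χ : G → ℂ) g * conj ((χ : G → ℂ) g) := by
  classical
  have := Fintype.ofFinite G
  have h1 := sum_irr_mul_conj g g
  have h2 : classIndicator g g = 1 := by
    unfold classIndicator
    rw [if_pos (IsConj.refl g)]
  rw [h2, one_mul] at h1
  rw [← h1, ← Finset.sum_filter_add_sum_filter_not Finset.univ
    (fun χ : IrrCharacter G => (χ : G → ℂ) 1 = 1)]
  congr 1
  · rw [Finset.sum_congr rfl (fun χ hχ => lin_mul_conj χ (Finset.mem_filter.mp hχ).2 g)]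
    rw [Finset.sum_const, nsmul_eq_mul, mul_one, ← card_linear_irr, ← Fintype.card_subtype,
      Nat.card_eq_fintype_card]

/-- if the centralizer of `g` is no larger than `|G : G'|`, all nonlinear irreducible characters
vanish at `g` -/
theorem eq_zero_of_card_centralizer_le [Finite G] (g : G)
    (h : Nat.card (Subgroup.centralizer ({g} : Set G)) ≤ (commutator G).index)
    (χ : IrrCharacter G) (hχ : (χ : G → ℂ) 1 ≠ 1) : (χ : G → ℂ) g = 0 := by
  classical
  have := fintypeIrr G
  have h1 := card_centralizer_eq g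
  have hnn : ∀ ψ : IrrCharacter G, (0 : ℝ) ≤ Complex.normSq ((ψ : G → ℂ) g) := fun ψ => Complex.normSq_nonneg _
  have h2 : ((Nat.card (Subgroup.centralizer ({g} : Set G)) : ℝ) : ℂ) = (((commutator G).index : ℝ) +
      ∑ ψ ∈ Finset.univ.filter (fun ψ : IrrCharacter G => ¬ (ψ : G → ℂ) 1 = 1),
        Complex.normSq ((ψ : G → ℂ) g) : ℝ) := by
    push_cast
    rw [h1]
    congr 1
    apply Finset.sum_congr rfl
    intro ψ _
    rw [Complex.mul_conj]
  have h3 := Complex.ofReal_injective h2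
  have h4 : (Nat.card (Subgroup.centralizer ({g} : Set G)) : ℝ) ≤ ((commutator G).index : ℝ) := by
    exact_mod_cast h
  have h5 : ∑ ψ ∈ Finset.univ.filter (fun ψ : IrrCharacter G => ¬ (ψ : G → ℂ) 1 = 1),
        Complex.normSq ((ψ : G → ℂ) g) ≤ 0 := by linarith
  have h6 : ∑ ψ ∈ Finset.univ.filter (fun ψ : IrrCharacter G => ¬ (ψ : G → ℂ) 1 = 1),
        Complex.normSq ((ψ : G → ℂ) g) = 0 :=
    le_antisymm h5 (Finset.sum_nonneg (fun ψ _ => hnn ψ))
  have h7 := (Finset.sum_eq_zero_iff_of_nonneg (fun ψ _ => hnn ψ)).mp h6 χ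
    (Finset.mem_filter.mpr ⟨Finset.mem_univ _, hχ⟩)
  exact Complex.normSq_eq_zero.mp h7

/-- if all nonlinear irreducible characters vanish at `g`, the centralizer of `g` has order
`|G : G'|` -/
theorem card_centralizer_of_vanish [Finite G] (g : G)
    (h : ∀ χ : IrrCharacter G, (χ : G → ℂ) 1 ≠ 1 → (χ : G → ℂ) g = 0) :
    Nat.card (Subgroup.centralizer ({g} : Set G)) = (commutator G).index := by
  classical
  have := fintypeIrr G
  have h1 := card_centralizer_eq g
  rw [Finset.sum_eq_zero (fun χ hχ => by rw [h χ (Finset.mem_filter.mp hχ).2, zero_mul]), add_zero] at h1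
  exact_mod_cast h1

/-- if `χ` vanishes on the nonidentity elements of a subgroup `T`, then `|T|` divides `χ(1)` -/
theorem card_dvd_degree_of_vanish [Finite G] (χ : IrrCharacter G) (T : Subgroup G)
    (h : ∀ z ∈ T, z ≠ 1 → (χ : G → ℂ) z = 0) : Nat.card T ∣ charDegree (χ : G → ℂ) := by
  classical
  have := Fintype.ofFinite T
  obtain ⟨m, hm⟩ := irr_sum_subgroup χ T
  have h1 : ∑ z : T, (χ : G → ℂ) (z : G) = (χ : G → ℂ) 1 := by
    rw [Finset.sum_eq_single (1 : T)]
    · rfl
    · intro z _ hz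
      apply h z z.2
      intro hz1
      apply hz
      exact Subtype.ext hz1
    · intro h0
      exact absurd (Finset.mem_univ _) h0
  rw [h1, irr_apply_one] at hm
  refine ⟨m, ?_⟩
  exact_mod_cast hm

/-- the square of the degree of an irreducible character is at most `|G|`; two distinct ones: sum
of squares at most `|G|` -/
theorem degree_sq_add_le [Finite G] (χ ψ : IrrCharacter G) (hne : χ ≠ ψ) :
    charDegree (χ : G → ℂ) ^ 2 + charDegree (ψ : G → ℂ) ^ 2 ≤ Nat.card G := by
  classical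
  have := Fintype.ofFinite G
  have := fintypeIrr G
  have h := sum_charDegree_sq (G := G)
  rw [Nat.card_eq_fintype_card, ← h]
  have h2 : ({χ, ψ} : Finset (IrrCharacter G)) ⊆ Finset.univ := Finset.subset_univ _
  have h3 := Finset.sum_le_sum_of_subset (f := fun φ : IrrCharacter G => charDegree (φ : G → ℂ) ^ 2) h2
  rw [Finset.sum_pair hne] at h3
  exact h3

theorem degree_sq_le [Finite G] (χ : IrrCharacter G) :
    charDegree (χ : G → ℂ) ^ 2 ≤ Nat.card G := by
  classical
  have := Fintype.ofFinite G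
  have := fintypeIrr G
  have h := sum_charDegree_sq (G := G)
  rw [Nat.card_eq_fintype_card, ← h]
  exact Finset.single_le_sum (f := fun φ : IrrCharacter G => charDegree (φ : G → ℂ) ^ 2)
    (fun _ _ => Nat.zero_le _) (Finset.mem_univ χ)

end Cfsg.Agent.Lib.Helper24.Mult
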