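/-
helper24: transitivity of block induction through an intermediate subgroup (nested form), and
transport of induced blocks along conjugation.
-/
import Mathlib
import Cfsg.Agent.Lib.Helper6.InducedDefect
import Cfsg.Agent.Lib.Helper6.BrauerMap
import Cfsg.Agent.Lib.Helper6.BlockIso
import Cfsg.Agent.Lib.Helper6.FirstMain
import Cfsg.Agent.Lib.Helper24.PrincipalPairs

set_option autoImplicit false

namespace Cfsg.Agent.Lib.Helper24

open Cfsg Cfsg.Agent.CharLib Cfsg.Agent.Lib.Helper6
open scoped ComplexConjugate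

universe u

section trans

variable {X : Type u} [Group X] [Finite X] {M : Ideal AlgInt}

/-- Reindexing the central character functional along the identification of a nested subgroup. -/
theorem omegaFun_nested (H K : Subgroup X) (K' : Subgroup H) (κ : K' ≃* K)
    (hκ : ∀ k' : K', ((κ k' : K) : X) = ((k' : H) : X)) [Fintype K] [Fintype K']
    (ξ : K → ℂ) (a : X → ℂ) :
    omegaFun (ξ ∘ κ) (resFun K' (resFun H a)) = omegaFun ξ (resFun K a) := by
  unfold omegaFun
  rw [Function.comp_apply, map_one]
  congr 1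
  apply Fintype.sum_equiv κ.toEquiv
  intro k'
  rw [resFun_apply, resFun_apply, resFun_apply, Function.comp_apply]
  change a ((k' : H) : X) * ξ (κ k') = a ((κ k' : K) : X) * ξ (κ k')
  rw [hκ]

theorem isClassFunction_resFun (H : Subgroup X) {a : X → ℂ} (ha : IsClassFunction X a) :
    IsClassFunction H (resFun H a) := by
  intro g h
  rw [resFun_apply, resFun_apply]
  push_cast
  exact ha _ _

/-- **Transitivity of block induction**: `c^H = B'` and `B'^X = B` give `c^X = B`. -/
theorem isInducedBlock_trans [hprime : M.IsPrime] (H K : Subgroup X) (K' : Subgroup H) (κ : K' ≃* K)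
    (hκ : ∀ k' : K', ((κ k' : K) : X) = ((k' : H) : X)) (c : Set (IrrCharacter K))
    (B' : Set (IrrCharacter H)) (B : Set (IrrCharacter X))
    (h1 : IsInducedBlock M K' (BlockIso.pullBlock κ c) B') (h2 : IsInducedBlock M H B' B) :
    IsInducedBlock M K c B := by
  classical
  let _ : Fintype X := Fintype.ofFinite X
  let _ : Fintype H := Fintype.ofFinite H
  let _ : Fintype K := Fintype.ofFinite K
  let _ : Fintype K' := Fintype.ofFinite K'
  have hc : IsPBlock M c := by
    have := BlockIso.isPBlock_pullBlock κ.symm h1.1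
    rwa [BlockIso.pullBlock_symm_pullBlock] at this
  refine ⟨hc, h2.2.1, ?_⟩
  obtain ⟨χ'₀, hχ'₀⟩ := h1.2.1
  have hχ'₀B : χ'₀ ∈ B' := by rw [hχ'₀]; exact mem_blockOf_self χ'₀
  intro ξ hξ χ hχ g
  have e1 := memLocalIdeal_omegaFun_resFun_sub_of_induced K' h1
    (BlockIso.irrCompIso_mem_pullBlock κ hξ) hχ'₀B
    (isClassFunction_resFun H (classInd_isClassFunction g))
    (fun x => memLocalRing_classInd (M := M) g (x : X))
  have e2 := h2.2.2 χ'₀ hχ'₀B χ hχ g
  have e3 : omegaFun ((irrCompIso κ ξ : IrrCharacter K') : K' → ℂ)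
      (resFun K' (resFun H (classInd g))) = omegaFun (ξ : K → ℂ) (resFun K (classInd g)) :=
    omegaFun_nested H K K' κ hκ (ξ : K → ℂ) (classInd g)
  rw [e3, ← inducedCentralChar_eq_omegaFun, ← inducedCentralChar_eq_omegaFun] at e1
  have := memLocalIdeal_add e1 e2
  rwa [sub_add_sub_cancel] at this

/-- **Cancellation**: `c^H = B'` and `c^X = B` give `B'^X = B`. -/
theorem isInducedBlock_cancel [hprime : M.IsPrime] (H K : Subgroup X) (K' : Subgroup H)
    (κ : K' ≃* K)
    (hκ : ∀ k' : K', ((κ k' : K) : X) = ((k' : H) : X)) (c : Set (IrrCharacter K))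
    (B' : Set (IrrCharacter H)) (B : Set (IrrCharacter X))
    (h1 : IsInducedBlock M K' (BlockIso.pullBlock κ c) B') (h2 : IsInducedBlock M K c B) :
    IsInducedBlock M H B' B := by
  classical
  let _ : Fintype X := Fintype.ofFinite X
  let _ : Fintype H := Fintype.ofFinite H
  let _ : Fintype K := Fintype.ofFinite K
  let _ : Fintype K' := Fintype.ofFinite K'
  refine ⟨h1.2.1, h2.2.1, ?_⟩
  obtain ⟨ξ₀, hξ₀⟩ := h2.1
  have hξ₀c : ξ₀ ∈ c := by rw [hξ₀]; exact mem_blockOf_self ξ₀
  intro χ' hχ' χ hχ g
  have e1 := memLocalIdeal_omegaFun_resFun_sub_of_induced K' h1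
    (BlockIso.irrCompIso_mem_pullBlock κ hξ₀c) hχ'
    (isClassFunction_resFun H (classInd_isClassFunction g))
    (fun x => memLocalRing_classInd (M := M) g (x : X))
  have e2 := h2.2.2 ξ₀ hξ₀c χ hχ g
  have e3 : omegaFun ((irrCompIso κ ξ₀ : IrrCharacter K') : K' → ℂ)
      (resFun K' (resFun H (classInd g))) = omegaFun (ξ₀ : K → ℂ) (resFun K (classInd g)) :=
    omegaFun_nested H K K' κ hκ (ξ₀ : K → ℂ) (classInd g)
  rw [e3, ← inducedCentralChar_eq_omegaFun, ← inducedCentralChar_eq_omegaFun] at e1
  have := memLocalIdeal_add (memLocalIdeal_neg e1) e2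
  have e4 : -(inducedCentralChar K (ξ₀ : K → ℂ) g - inducedCentralChar H (χ' : H → ℂ) g) +
      (inducedCentralChar K (ξ₀ : K → ℂ) g - centralChar (χ : X → ℂ) g) =
      inducedCentralChar H (χ' : H → ℂ) g - centralChar (χ : X → ℂ) g := by ring
  rwa [e4] at this

end trans

section conjT

variable {X : Type u} [Group X] {M : Ideal AlgInt}

/-- The induced central character is invariant under transport along a conjugation. -/
theorem inducedCentralChar_conjTransport (H H' : Subgroup X) (c : H ≃* H') (g : X)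
    (hc : ∀ h : H, ((c h : H') : X) = g * (h : X) * g⁻¹) (ξ : H → ℂ) (x : X) :
    inducedCentralChar H' (ξ ∘ c.symm) x = inducedCentralChar H ξ x := by
  unfold inducedCentralChar
  symm
  apply finsum_mem_eq_of_bijOn (fun h : H => c h)
  · refine ⟨?_, ?_, ?_⟩
    · intro h hh
      have hh' : IsConj x (h : X) := hh
      change IsConj x ((c h : H') : X)
      rw [hc]
      exact hh'.trans (isConj_iff.mpr ⟨g, rfl⟩)
    · intro a _ b _ hab
      exact c.injective hab
    · intro h' hh'
      have hh'' : IsConj x (h' : X) := hh'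
      refine ⟨c.symm h', ?_, c.apply_symm_apply h'⟩
      change IsConj x ((c.symm h' : H) : X)
      have h1 := hc (c.symm h')
      rw [c.apply_symm_apply] at h1
      apply hh''.trans
      rw [h1]
      exact (isConj_iff.mpr ⟨g, rfl⟩).symm
  · intro h _
    simp only [Function.comp_apply, MulEquiv.symm_apply_apply, map_one]

/-- Transport of an induced block along a conjugation `H ≃ g H g⁻¹`. -/
theorem isInducedBlock_conjTransport (H H' : Subgroup X) (c : H ≃* H') (g : X)
    (hc : ∀ h : H, ((c h : H') : X) = g * (h : X) * g⁻¹) (b : Set (IrrCharacter H))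
    (B : Set (IrrCharacter X)) (h : IsInducedBlock M H b B) :
    IsInducedBlock M H' (BlockIso.pullBlock c.symm b) B := by
  refine ⟨BlockIso.isPBlock_pullBlock c.symm h.1, h.2.1, ?_⟩
  intro ξ' hξ' χ hχ x
  have h1 := h.2.2 (irrCompIso c ξ') ((BlockIso.mem_pullBlock_iff c.symm b ξ').mp hξ') χ hχ x
  rw [← inducedCentralChar_conjTransport H H' c g hc] at h1
  have e : ((irrCompIso c ξ' : IrrCharacter H) : H → ℂ) ∘ c.symm = (ξ' : H' → ℂ) := by
    funext k
    simp [irrCompIso_apply]
  rwa [e] at h1

end conjT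

end Cfsg.Agent.Lib.Helper24
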