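/-
helper24: the determinantal character of a Galois twist `g ↦ χ (g ^ k)` (`k` prime to `|G|`), and
the principal block over a normal subgroup of `p`-power index.
-/
import Mathlib
import Cfsg.Agent.Lib.Helper23.GaloisChar
import Cfsg.Agent.Lib.Helper6.DetChar
import Cfsg.Prelude.Def_CharExt

set_option autoImplicit false

namespace Cfsg.Agent.Lib.Helper24

open Cfsg Cfsg.Agent.CharLib Cfsg.Agent.Lib.Helper6 Cfsg.Agent.Lib.Helper23

universe u

section det
variable {G : Type u} [Group G] [Finite G]

/-- The determinantal character of the Galois twist `g ↦ χ (g ^ k)` is the `k`-th power of the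
determinantal character of `χ`. -/
theorem detChar_comp_pow {χ : G → ℂ} (hχ : IsCharacter G χ) (k : ℕ)
    (hk : k.Coprime (Nat.card G)) :
    detChar (fun g => χ (g ^ k)) = (detChar χ) ^ k := by
  obtain ⟨n, ρ, rfl⟩ := hχ
  haveI : NeZero (Nat.card G) := ⟨Nat.card_pos.ne'⟩
  obtain ⟨τ, hτ⟩ := exists_ringEquiv_complex_pow (Nat.card G) k hk
  have hchar : (fun g => ρ.character (g ^ k)) = (twistRep τ ρ).character := by
    funext g
    rw [twistRep_character]
    obtain ⟨ι, hι, μ, h1, h2, h3, h4⟩ := Cfsg.Agent.Lib.Helper24.exists_roots_char_pow ρ g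
    have h5 : ρ.character g = ∑ i, μ i := by
      have := h4 1
      simpa using this
    rw [h5, map_sum, h4 k]
    apply Finset.sum_congr rfl
    intro i _
    symm
    apply hτ
    obtain ⟨c, hc⟩ := orderOf_dvd_natCard g
    rw [hc, pow_mul, h1 i, one_pow]
  rw [hchar, detChar_eq_of_rep, detChar_eq_of_rep]
  funext g
  rw [Pi.pow_apply, twistRep_apply, LinearMap.det_toLin']
  have h1 : ((LinearMap.toMatrix' (ρ g)).map τ).det = τ ((LinearMap.toMatrix' (ρ g)).det) := by
    exact (RingHom.map_det (τ : ℂ →+* ℂ) (LinearMap.toMatrix' (ρ g))).symm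
  rw [h1, LinearMap.det_toMatrix']
  apply hτ
  rw [← map_pow, ← map_pow, pow_card_eq_one', map_one, map_one]

/-- Galois twists preserve coprimality of the determinantal order. -/
theorem coprime_detOrder_comp_pow {χ : G → ℂ} (hχ : IsCharacter G χ) (k : ℕ)
    (hk : k.Coprime (Nat.card G)) {p : ℕ} (h : (detOrder χ).Coprime p) :
    (detOrder (fun g => χ (g ^ k))).Coprime p := by
  unfold detOrder at h ⊢
  rw [detChar_comp_pow hχ k hk]
  exact Nat.Coprime.coprime_dvd_left (orderOf_pow_dvd k) h

end det

end Cfsg.Agent.Lib.Helper24
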