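import Mathlib
import Cfsg.Agent.Lib.Helper2.SOTDefs
import Cfsg.Agent.Lib.Helper2.SOTBEx
import Cfsg.Agent.Lib.Helper15.QuadClass

/-!
S5666 part (B) (helper28's market): leaves (E1) `exists_nonsing_perp` and (E2) `exists_sing_perp`
(orthogonal geometry of `B`), on helper2's `SOTBEx` toolkit.
-/

set_option autoImplicit false
set_option linter.unusedSectionVars false
set_option linter.unusedVariables false

namespace Cfsg.Agent.Lib.Helper24.SOTBLeaf
open Matrix Module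
open Cfsg.Agent.Lib.Helper2.SOT Cfsg.Agent.Lib.Helper2.SOTBLeaf

variable {F : Type*} [Field F] [Fintype F] {b : ℕ} {G : Matrix (Fin b) (Fin b) F}

/-- the common perpendicular space of three vectors -/
noncomputable def perp3 (G : Matrix (Fin b) (Fin b) F) (w₀ w₁ w₂ : Fin b → F) :
    Submodule F (Fin b → F) :=
  ((⊤ ⊓ LinearMap.ker (BfB G w₀)) ⊓ LinearMap.ker (BfB G w₁)) ⊓ LinearMap.ker (BfB G w₂)

lemma mem_perp3 (hG : Gᵀ = G) (w₀ w₁ w₂ v : Fin b → F) :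
    v ∈ perp3 G w₀ w₁ w₂ ↔ fB G v w₀ = 0 ∧ fB G v w₁ = 0 ∧ fB G v w₂ = 0 := by
  unfold perp3
  simp only [Submodule.mem_inf, Submodule.mem_top, true_and, LinearMap.mem_ker, BfB_apply]
  rw [fB_comm G hG w₀ v, fB_comm G hG w₁ v, fB_comm G hG w₂ v, and_assoc]

lemma finrank_perp3_ge (G : Matrix (Fin b) (Fin b) F) (w₀ w₁ w₂ : Fin b → F) :
    b ≤ finrank F ↥(perp3 G w₀ w₁ w₂) + 3 := by
  unfold perp3
  have h0 := finrank_inf_ker_ge G w₀ (⊤ : Submodule F (Fin b → F))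
  have h1 := finrank_inf_ker_ge G w₁ (⊤ ⊓ LinearMap.ker (BfB G w₀))
  have h2 := finrank_inf_ker_ge G w₂ ((⊤ ⊓ LinearMap.ker (BfB G w₀)) ⊓ LinearMap.ker (BfB G w₁))
  have ht : finrank F ↥(⊤ : Submodule F (Fin b → F)) = b := by
    rw [finrank_top, Module.finrank_fintype_fun_eq_card, Fintype.card_fin]
  omega

/-- (E1) the common perpendicular space of three vectors is not totally singular (`b ≥ 7`) -/
theorem exists_nonsing_perp {a : ℕ} (h : Ctx a b G) (hb : 7 ≤ b)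
    (w₀ w₁ w₂ : Fin b → F) :
    ∃ v : Fin b → F, fB G v v ≠ 0 ∧ fB G v w₀ = 0 ∧ fB G v w₁ = 0 ∧ fB G v w₂ = 0 := by
  by_contra hcon
  push Not at hcon
  have hs : ∀ u ∈ perp3 G w₀ w₁ w₂, fB G u u = 0 := by
    intro u hu
    by_contra hne
    obtain ⟨h0, h1, h2⟩ := (mem_perp3 h.symm w₀ w₁ w₂ u).1 hu
    exact hcon u hne h0 h1 (by simpa using h2)
  have h1 := two_mul_finrank_le_of_isotropic h.nd _
    (fB_eq_zero_of_all_sing h.symm h.two _ hs)
  have h2 := finrank_perp3_ge G w₀ w₁ w₂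
  omega

/-- (E2) the common perpendicular space of four vectors contains a non-zero singular vector
(`b ≥ 7`; Chevalley-Warning) -/
theorem exists_sing_perp {a : ℕ} (h : Ctx a b G) (hb : 7 ≤ b)
    (w₀ w₁ w₂ w₃ : Fin b → F) :
    ∃ z : Fin b → F, z ≠ 0 ∧ fB G z z = 0 ∧ fB G z w₀ = 0 ∧ fB G z w₁ = 0 ∧ fB G z w₂ = 0 ∧
      fB G z w₃ = 0 := by
  classical
  set W : Submodule F (Fin b → F) := perp3 G w₀ w₁ w₂ ⊓ LinearMap.ker (BfB G w₃) with hW
  have hWdim : 3 ≤ finrank F W := by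
    have h1 := finrank_inf_ker_ge G w₃ (perp3 G w₀ w₁ w₂)
    have h2 := finrank_perp3_ge G w₀ w₁ w₂
    rw [← hW] at h1
    omega
  let Q : QuadraticForm F W := ((BfB G).toQuadraticMap).comp W.subtype
  obtain ⟨w, hw0, hQw⟩ := Cfsg.Agent.Lib.Helper15.exists_singular_of_three_le Q hWdim
  obtain ⟨h0, h1, h2⟩ := (mem_perp3 h.symm w₀ w₁ w₂ (w : Fin b → F)).1 w.2.1
  refine ⟨(w : Fin b → F), ?_, ?_, h0, h1, h2, ?_⟩
  · intro h0
    exact hw0 (Subtype.ext h0)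
  · have : Q w = BfB G (w : Fin b → F) (w : Fin b → F) := by
      simp [Q]
    rw [← BfB_apply, ← this]
    exact hQw
  · have h3 : (w : Fin b → F) ∈ LinearMap.ker (BfB G w₃) := w.2.2
    rw [LinearMap.mem_ker, BfB_apply] at h3
    rw [fB_comm G h.symm]
    exact h3

end Cfsg.Agent.Lib.Helper24.SOTBLeaf
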