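import Mathlib
import Cfsg.Agent.Lib.Helper2.SOTDefs
import Cfsg.Agent.Lib.Helper2.SOTBEx
import Cfsg.Agent.Lib.Helper28.SOTBDefs
import Cfsg.Agent.Lib.Helper15.QuadClass
import Cfsg.Agent.Lib.Helper24.SOTGOT

/-!
S5666 part (B) (helper28's market): leaf (NF) `exists_normal_form`: a symmetric nondegenerate Gram matrix `G`
(odd characteristic, `b ≥ 3`) is congruent to one in normal form w.r.t. a prescribed index pair.
-/

set_option autoImplicit false
set_option linter.unusedSectionVars false
set_option linter.unusedVariables false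

namespace Cfsg.Agent.Lib.Helper24.SOTBLeaf
open Matrix Module
open Cfsg.Agent.Lib.Helper2.SOT Cfsg.Agent.Lib.Helper2.SOTBLeaf Cfsg.Agent.Lib.Helper28.SOTB
open Cfsg.Agent.Lib.Helper24.SOTGLeaf

variable {F : Type*} [Field F] [Fintype F] {b : ℕ} {G : Matrix (Fin b) (Fin b) F}

/-- the Gram matrix `Pᵀ G P` computes `fB G` on the images -/
theorem nf_fB_congr (G P : Matrix (Fin b) (Fin b) F) (y y' : Fin b → F) :
    fB (Pᵀ * G * P) y y' = fB G (P *ᵥ y) (P *ᵥ y') := by
  unfold fB
  rw [← Matrix.mulVec_mulVec, ← Matrix.mulVec_mulVec, Matrix.dotProduct_mulVec,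
    Matrix.vecMul_transpose]

/-- entries of the Gram matrix `Pᵀ G P` -/
theorem nf_gram_apply (G P : Matrix (Fin b) (Fin b) F) (k l : Fin b) :
    (Pᵀ * G * P) k l = fB G (P.col k) (P.col l) := by
  have h1 : (Pᵀ * G * P) k l = fB (Pᵀ * G * P) (Pi.single k 1) (Pi.single l 1) := by
    rw [fB_single_left, Matrix.mulVec_single_one, Matrix.col_apply]
  rw [h1, nf_fB_congr, Matrix.mulVec_single_one, Matrix.mulVec_single_one]

/-- a hyperbolic pair -/
theorem nf_exists_hyp {a : ℕ} (h : Ctx a b G) :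
    ∃ z zs : Fin b → F, fB G z z = 0 ∧ fB G zs zs = 0 ∧ fB G z zs = 1 := by
  classical
  have hdim : 3 ≤ finrank F (Fin b → F) := by
    rw [Module.finrank_fintype_fun_eq_card, Fintype.card_fin]
    exact h.hb
  obtain ⟨z, hz0, hQz⟩ := Cfsg.Agent.Lib.Helper15.exists_singular_of_three_le
    ((BfB G).toQuadraticMap) hdim
  have hzz : fB G z z = 0 := by
    rw [← BfB_apply]
    simpa using hQz
  obtain ⟨y₀, hy₀⟩ := ot_fB_nondeg h.nd hz0
  obtain ⟨y₁, hy₁⟩ : ∃ y₁ : Fin b → F, y₁ = (fB G z y₀)⁻¹ • y₀ := ⟨_, rfl⟩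
  have h1 : fB G z y₁ = 1 := by
    rw [hy₁, fB_smul_right, inv_mul_cancel₀ hy₀]
  have h1' : fB G y₁ z = 1 := by rw [fB_comm G h.symm, h1]
  have h2 : (2 : F) ≠ 0 := h.two
  refine ⟨z, y₁ - (fB G y₁ y₁ / 2) • z, hzz, ?_, ?_⟩
  · rw [ot_fB_sub_left, ot_fB_sub_right, ot_fB_sub_right, fB_smul_left, fB_smul_right,
      fB_smul_left, fB_smul_right, hzz, h1, h1']
    field_simp
    ring
  · rw [ot_fB_sub_right, fB_smul_right, hzz, h1]
    ring

/-- an equivalence with two prescribed values -/
theorem nf_exists_equiv {α β : Type*} [DecidableEq α] [DecidableEq β] (τ₀ : α ≃ β) {o o' : α}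
    (hne : o ≠ o') {s s' : β} (hs : s ≠ s') : ∃ τ : α ≃ β, τ o = s ∧ τ o' = s' := by
  set τ₁ : α ≃ β := τ₀.trans (Equiv.swap (τ₀ o) s) with hτ₁
  have h1 : τ₁ o = s := by
    rw [hτ₁, Equiv.trans_apply, Equiv.swap_apply_left]
  have h1' : τ₁ o' ≠ s := by
    intro hc
    exact hne (τ₁.injective (h1.trans hc.symm))
  refine ⟨τ₁.trans (Equiv.swap (τ₁ o') s'), ?_, ?_⟩
  · rw [Equiv.trans_apply, h1, Equiv.swap_apply_of_ne_of_ne (Ne.symm h1') hs]
  · rw [Equiv.trans_apply, Equiv.swap_apply_left]

/-- (NF) normal form -/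
theorem exists_normal_form {a : ℕ} (h : Ctx a b G) (o o' : Fin b) (hne : o ≠ o') :
    ∃ P : GL (Fin b) F, NormG (P.1ᵀ * G * P.1) o o' := by
  classical
  obtain ⟨z, zs, hzz, hss, hzs⟩ := nf_exists_hyp h
  have hsz : fB G zs z = 1 := by rw [fB_comm G h.symm, hzs]
  set B₀ : Submodule F (Fin b → F) :=
    ((⊤ : Submodule F (Fin b → F)) ⊓ LinearMap.ker (BfB G z)) ⊓ LinearMap.ker (BfB G zs) with hB₀
  have hmem : ∀ y : Fin b → F, y ∈ B₀ ↔ fB G z y = 0 ∧ fB G zs y = 0 := by
    intro y
    rw [hB₀]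
    simp only [Submodule.mem_inf, Submodule.mem_top, true_and, LinearMap.mem_ker, BfB_apply]
  set d : ℕ := finrank F B₀ with hd
  have hdle : b ≤ d + 2 := by
    have h0 := finrank_inf_ker_ge G z (⊤ : Submodule F (Fin b → F))
    have h1 := finrank_inf_ker_ge G zs ((⊤ : Submodule F (Fin b → F)) ⊓ LinearMap.ker (BfB G z))
    have ht : finrank F ↥(⊤ : Submodule F (Fin b → F)) = b := by
      rw [finrank_top, Module.finrank_fintype_fun_eq_card, Fintype.card_fin]
    rw [← hB₀] at h1
    omega
  let bas : Basis (Fin d) F B₀ := Module.finBasis F B₀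
  let v : Fin d → (Fin b → F) := fun i => ((bas i : B₀) : Fin b → F)
  have hv : LinearIndependent F v := by
    have := bas.linearIndependent.map' B₀.subtype (Submodule.ker_subtype B₀)
    exact this
  have hvB : ∀ i, v i ∈ B₀ := fun i => (bas i).2
  have hpair : LinearIndependent F ![z, zs] := by
    rw [LinearIndependent.pair_iff]
    intro s t hst
    have e1 : fB G z (s • z + t • zs) = t := by
      rw [fB_add_right, fB_smul_right, fB_smul_right, hzz, hzs]; ring
    have e2 : fB G zs (s • z + t • zs) = s := by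
      rw [fB_add_right, fB_smul_right, fB_smul_right, hss, hsz]; ring
    rw [hst, ot_fB_zero_right] at e1 e2
    exact ⟨e2.symm, e1.symm⟩
  have hdisj : Disjoint (Submodule.span F (Set.range ![z, zs])) (Submodule.span F (Set.range v)) := by
    rw [Submodule.disjoint_def]
    intro x hx1 hx2
    have hxB : x ∈ B₀ := by
      refine (Submodule.span_le.2 ?_) hx2
      rintro _ ⟨i, rfl⟩
      exact hvB i
    obtain ⟨hx0, hx0'⟩ := (hmem x).1 hxB
    have hr : Set.range ![z, zs] = {z, zs} := by
      ext w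
      simp only [Set.mem_range, Set.mem_insert_iff, Set.mem_singleton_iff]
      constructor
      · rintro ⟨i, rfl⟩
        fin_cases i
        · left; rfl
        · right; rfl
      · rintro (rfl | rfl)
        · exact ⟨0, rfl⟩
        · exact ⟨1, rfl⟩
    rw [hr, Submodule.mem_span_pair] at hx1
    obtain ⟨s, t, rfl⟩ := hx1
    have e1 : fB G z (s • z + t • zs) = t := by
      rw [fB_add_right, fB_smul_right, fB_smul_right, hzz, hzs]; ring
    have e2 : fB G zs (s • z + t • zs) = s := by
      rw [fB_add_right, fB_smul_right, fB_smul_right, hss, hsz]; ring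
    rw [hx0] at e1
    rw [hx0'] at e2
    rw [← e1, ← e2]
    simp
  have hc : LinearIndependent F (Sum.elim ![z, zs] v) := LinearIndependent.sum_type hpair hv hdisj
  have hcard : Fintype.card (Fin b) = Fintype.card (Fin 2 ⊕ Fin d) := by
    have h1 := hc.fintype_card_le_finrank
    rw [Module.finrank_fintype_fun_eq_card, Fintype.card_fin] at h1
    simp only [Fintype.card_sum, Fintype.card_fin] at h1 ⊢
    omega
  obtain ⟨τ, hτo, hτo'⟩ := nf_exists_equiv (Fintype.equivOfCardEq hcard) hne
    (show (Sum.inl 0 : Fin 2 ⊕ Fin d) ≠ Sum.inl 1 by simp)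
  set P₀ : Matrix (Fin b) (Fin b) F := Matrix.of (fun i j => Sum.elim ![z, zs] v (τ j) i) with hP₀
  have hcol : ∀ j, P₀.col j = Sum.elim ![z, zs] v (τ j) := by
    intro j
    funext i
    rfl
  have hunit : IsUnit P₀ := by
    rw [← Matrix.linearIndependent_cols_iff_isUnit]
    have : P₀.col = (Sum.elim ![z, zs] v) ∘ τ := by
      funext j
      exact hcol j
    rw [this]
    exact hc.comp τ τ.injective
  refine ⟨hunit.unit, ?_⟩
  have hval : (hunit.unit : GL (Fin b) F).1 = P₀ := rfl
  rw [hval]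
  have hco : P₀.col o = z := by rw [hcol, hτo]; rfl
  have hco' : P₀.col o' = zs := by rw [hcol, hτo']; rfl
  refine ⟨hne, ?_, ?_⟩
  · intro k
    rw [nf_gram_apply, hco]
    by_cases hk : k = o'
    · subst hk
      rw [hco', hzs, if_pos rfl]
    · rw [if_neg hk]
      by_cases hk2 : k = o
      · subst hk2
        rw [hco, hzz]
      · rw [hcol]
        rcases hτk : τ k with i | j
        · exfalso
          fin_cases i
          · exact hk2 (τ.injective (hτk.trans hτo.symm))
          · exact hk (τ.injective (hτk.trans hτo'.symm))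
        · exact ((hmem _).1 (hvB j)).1
  · intro k
    rw [nf_gram_apply, hco']
    by_cases hk : k = o
    · subst hk
      rw [hco, hsz, if_pos rfl]
    · rw [if_neg hk]
      by_cases hk2 : k = o'
      · subst hk2
        rw [hco', hss]
      · rw [hcol]
        rcases hτk : τ k with i | j
        · exfalso
          fin_cases i
          · exact hk (τ.injective (hτk.trans hτo.symm))
          · exact hk2 (τ.injective (hτk.trans hτo'.symm))
        · exact ((hmem _).1 (hvB j)).2

end Cfsg.Agent.Lib.Helper24.SOTBLeaf
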