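/-
helper24: the principal `p`-block of a finite `p`-solvable group consists of the irreducible
characters having `O_{p'}(G)` in the kernel (Fong).
-/
import Mathlib
import Cfsg.Agent.Lib.Helper6.QuotBlock
import Cfsg.Agent.Lib.Helper6.OneBlock
import Cfsg.Agent.Lib.Helper12.HallHigman
import Cfsg.Agent.Lib.Helper12.Cores
import Cfsg.Agent.Lib.Helper24.PSolvable
import Cfsg.Agent.Lib.Helper24.LocalRing

set_option autoImplicit false

namespace Cfsg.Agent.Lib.Helper24

open Cfsg Cfsg.Agent.CharLib Cfsg.Agent.Lib.Helper6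

universe u

section
variable {G : Type u} [Group G] [Finite G]

/-- A finite `p`-solvable group with `O_{p'} = 1` has a single `p`-block. -/
theorem sameBlock_of_isPSolvable_of_pPrimeCore_eq_bot {p : ℕ} [hp : Fact p.Prime]
    {M : Ideal AlgInt} (hM : IsPModular p M) (hsolv : IsPSolvable p G)
    (hO : pPrimeCore p G = ⊥) (χ ψ : IrrCharacter G) :
    SameBlock M (χ : G → ℂ) (ψ : G → ℂ) := by
  haveI : (pCore p G).Normal := pCore_normal' p
  exact sameBlock_of_centralizer_le hM (pCore p G) (Cfsg.Agent.Lib.Helper12.pCore_isPGroup' p)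
    (Cfsg.Agent.Lib.Helper12.centralizer_pCore_le_pCore p hsolv hO) χ ψ

/-- **Fong**: the principal block of a `p`-solvable group. -/
theorem mem_principalBlock_iff_of_isPSolvable {p : ℕ} [hp : Fact p.Prime]
    {M : Ideal AlgInt} (hM : IsPModular p M) (hsolv : IsPSolvable p G) (χ : IrrCharacter G) :
    χ ∈ principalBlock M G ↔ ∀ k ∈ pPrimeCore p G, (χ : G → ℂ) k = (χ : G → ℂ) 1 := by
  haveI hK : (pPrimeCore p G).Normal := pPrimeCore_normal' p
  have hprime : M.IsPrime := isPrime_of_isPModular hM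
  constructor
  · intro h
    apply le_ker_of_sameBlock_one hM (pPrimeCore p G) _ χ h
    intro hdvd
    have hc := Cfsg.Agent.Lib.Helper12.pPrimeCore_coprime (X := G) p
    have := Nat.Coprime.eq_one_of_dvd hc.symm hdvd
    exact hp.out.ne_one this
  · intro h
    obtain ⟨β, hβ⟩ := exists_deflation (pPrimeCore p G) χ h
    have hsolv' : IsPSolvable p (G ⧸ pPrimeCore p G) :=
      isPSolvable_of_surjective p (QuotientGroup.mk' (pPrimeCore p G))
        (QuotientGroup.mk'_surjective _) hsolv
    have h1 := sameBlock_of_isPSolvable_of_pPrimeCore_eq_bot hM hsolv'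
      (pPrimeCore_quotient_eq_bot' p)
      ⟨(1 : G ⧸ pPrimeCore p G → ℂ), isIrrCharacter_one (G ⧸ pPrimeCore p G)⟩ β
    have h2 := sameBlock_inflate (pPrimeCore p G) _ _ h1
    have h3 : (fun g : G => (β : G ⧸ pPrimeCore p G → ℂ) (g : G ⧸ pPrimeCore p G)) =
        (χ : G → ℂ) := funext hβ
    rw [h3] at h2
    exact h2

end

end Cfsg.Agent.Lib.Helper24
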