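/-
helper24: S4885/S4886 leaf (CD) for helper14's plan: if the normal `p`-subgroup `V` of `H` contains its
centralizer then `O_{p'}(H / V') = 1`.  (A `p'`-element acting trivially on `V/V'` acts trivially on
`V/Φ(V)`, hence on `V` by Burnside = helper17 `le_centralizer_of_commutator_le_frattini`.)
-/
import Mathlib
import Cfsg.Prelude.Def_Blocks
import Cfsg.Prelude.Def_Local
import Cfsg.Agent.Lib.Helper24.PSolvable
import Cfsg.Agent.Lib.Helper1.PGroup
import Cfsg.Agent.Lib.Helper17.WStable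

set_option autoImplicit false

namespace Cfsg.Agent.Lib.Helper24.TP

open Cfsg
open scoped commutatorElement

universe u

variable {H : Type u} [Group H] [Finite H]

/-- (CD) if the normal `p`-subgroup `V` contains its centralizer then `O_{p'}(H/V') = 1`. -/
theorem pPrimeCore_quotient_commutator_eq_bot (p : ℕ) [Fact p.Prime] (V : Subgroup H) [V.Normal]
    (hV : IsPGroup p V) (hcent : Subgroup.centralizer (V : Set H) ≤ V) :
    haveI : (⁅V, V⁆ : Subgroup H).Normal := Subgroup.commutator_normal V V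
    pPrimeCore p (H ⧸ (⁅V, V⁆ : Subgroup H)) = ⊥ := by
  have hDn : (⁅V, V⁆ : Subgroup H).Normal := Subgroup.commutator_normal V V
  set D : Subgroup H := ⁅V, V⁆ with hD
  set π : H →* H ⧸ D := QuotientGroup.mk' D with hπ
  have hπs : Function.Surjective π := QuotientGroup.mk'_surjective D
  set Wb : Subgroup (H ⧸ D) := pPrimeCore p (H ⧸ D) with hWb
  have hWn : Wb.Normal := Cfsg.Agent.Lib.Helper24.pPrimeCore_normal' p
  have hWc : (Nat.card Wb).Coprime p := Cfsg.Agent.Lib.Helper12.pPrimeCore_coprime p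
  have hDV : D ≤ V := Subgroup.commutator_le_right V V
  -- the image of `V`
  set Vb : Subgroup (H ⧸ D) := V.map π with hVb
  have hVbn : Vb.Normal := Subgroup.Normal.map inferInstance π hπs
  have hVbp : IsPGroup p Vb := hV.map π
  obtain ⟨kV, hkV⟩ := IsPGroup.iff_card.mp hV
  obtain ⟨kb, hkb⟩ := IsPGroup.iff_card.mp hVbp
  have hDp : IsPGroup p D := hV.to_le hDV
  obtain ⟨kD, hkD⟩ := IsPGroup.iff_card.mp hDp
  have hdisj : Vb ⊓ Wb = ⊥ := by
    apply disjoint_iff.mp
    apply Subgroup.disjoint_of_coprime_natCard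
    rw [hkb]
    exact Nat.Coprime.pow_left kb (Nat.Coprime.symm hWc)
  have hcomm : ∀ a ∈ Vb, ∀ b ∈ Wb, ⁅a, b⁆ = 1 := by
    intro a ha b hb
    have h1 : ⁅a, b⁆ ∈ ⁅Vb, Wb⁆ := Subgroup.commutator_mem_commutator ha hb
    have h2 : ⁅Vb, Wb⁆ ≤ Vb ⊓ Wb := Subgroup.commutator_le_inf Vb Wb
    have h3 := h2 h1
    rw [hdisj, Subgroup.mem_bot] at h3
    exact h3
  rw [eq_bot_iff]
  intro xb hxb
  rw [Subgroup.mem_bot]
  obtain ⟨w, rfl⟩ := hπs xb
  set n := orderOf (π w) with hn
  have hnW : n ∣ Nat.card Wb := Subgroup.orderOf_dvd_natCard Wb hxb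
  have hncop : n.Coprime p := Nat.Coprime.coprime_dvd_left hnW hWc
  -- the `p'`-element `t`
  set t : H := w ^ Nat.card D with ht
  have hwn : w ^ n ∈ D := by
    rw [← QuotientGroup.eq_one_iff, ← QuotientGroup.mk'_apply, ← hπ, map_pow, hn]
    exact pow_orderOf_eq_one _
  have htn : t ^ n = 1 := by
    rw [ht, ← pow_mul, mul_comm, pow_mul]
    have h1 : orderOf (w ^ n) ∣ Nat.card D := Subgroup.orderOf_dvd_natCard D hwn
    exact orderOf_dvd_iff_pow_eq_one.mp h1
  have hot : orderOf t ∣ n := orderOf_dvd_of_pow_eq_one htn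
  have hotcop : (orderOf t).Coprime p := Nat.Coprime.coprime_dvd_left hot hncop
  -- `A = ⟨t⟩` acts trivially on `V / V'`
  set A : Subgroup H := Subgroup.zpowers t with hA
  have hAW : ∀ a ∈ A, π a ∈ Wb := by
    intro a ha
    obtain ⟨k, rfl⟩ := Subgroup.mem_zpowers_iff.mp ha
    rw [map_zpow, ht, map_pow]
    exact Wb.zpow_mem (Wb.pow_mem hxb _) k
  have hAQ : A ≤ Subgroup.normalizer (V : Set H) := by
    rw [Subgroup.normalizer_eq_top_iff.mpr inferInstance]
    exact le_top
  have hcardA : Nat.card A = orderOf t := Nat.card_zpowers t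
  have hcop : (Nat.card A).Coprime (Nat.card V) := by
    rw [hcardA, hkV]
    exact Nat.Coprime.pow_right kV hotcop
  have hsolv : Group.IsSolvable A ∨ Group.IsSolvable V := by
    left
    exact Group.isSolvable_of_comm (fun a b => by
      obtain ⟨a, ha⟩ := a
      obtain ⟨b, hb⟩ := b
      obtain ⟨i, rfl⟩ := Subgroup.mem_zpowers_iff.mp ha
      obtain ⟨j, rfl⟩ := Subgroup.mem_zpowers_iff.mp hb
      apply Subtype.ext
      exact (Commute.zpow_zpow (Commute.refl t) i j).eq)
  have hVA : ⁅V, A⁆ ≤ D := by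
    rw [Subgroup.commutator_le]
    intro v hv a ha
    rw [← QuotientGroup.eq_one_iff, ← QuotientGroup.mk'_apply, ← hπ, map_commutatorElement]
    exact hcomm _ (Subgroup.mem_map_of_mem π hv) _ (hAW a ha)
  have hDfr : D ≤ (frattini ↥V).map V.subtype := by
    rw [hD, ← Subgroup.map_subtype_commutator]
    exact Subgroup.map_mono (Cfsg.Agent.Lib.Helper1.IsPGroup.commutator_le_frattini hV)
  have hcen : V ≤ Subgroup.centralizer (A : Set H) :=
    Cfsg.Agent.Lib.Helper17.le_centralizer_of_commutator_le_frattini V A hAQ hcop hsolv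
      (hVA.trans hDfr)
  have htA : t ∈ A := Subgroup.mem_zpowers t
  have htC : t ∈ Subgroup.centralizer (V : Set H) := by
    rw [Subgroup.mem_centralizer_iff]
    intro v hv
    have := (Subgroup.mem_centralizer_iff.mp (hcen hv)) t htA
    exact this.symm
  have htV : t ∈ V := hcent htC
  have ht1 : t = 1 := by
    obtain ⟨k, hk⟩ := hV ⟨t, htV⟩
    have hk' : t ^ p ^ k = 1 := by
      have := congrArg (fun z : V => (z : H)) hk
      simpa using this
    have h1 : orderOf t ∣ p ^ k := orderOf_dvd_of_pow_eq_one hk'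
    have h2 : orderOf t = 1 :=
      Nat.Coprime.eq_one_of_dvd (Nat.Coprime.pow_right k hotcop) h1
    exact orderOf_eq_one_iff.mp h2
  -- conclusion
  have h3 : (π w) ^ Nat.card D = 1 := by
    rw [← map_pow, ← ht, ht1, map_one]
  have h4 : n ∣ Nat.card D := orderOf_dvd_of_pow_eq_one h3
  have h5 : n = 1 := by
    rw [hkD] at h4
    exact Nat.Coprime.eq_one_of_dvd (Nat.Coprime.pow_right kD hncop) h4
  exact orderOf_eq_one_iff.mp h5

end Cfsg.Agent.Lib.Helper24.TP
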