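/-
helper24: S4885/S4886 leaf (FB) for helper14's plan: in a `p`-solvable group, if a Sylow `p`-subgroup and
a Sylow `q`-subgroup (`q ≠ p`) commute elementwise then `q ∤ |G / O_{p'}(G)|`.
-/
import Mathlib
import Cfsg.Prelude.Def_Blocks
import Cfsg.Prelude.Def_Local
import Cfsg.Agent.Lib.Helper24.PSolvable

set_option autoImplicit false

namespace Cfsg.Agent.Lib.Helper24.TP

open Cfsg

universe u

variable {G : Type u} [Group G] [Finite G]

/-- (FB) commuting Sylow subgroups: `Q ≤ O_{p'}(G)`. -/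
theorem not_dvd_card_quotient_of_commute (p q : ℕ) [Fact p.Prime] [Fact q.Prime] (hpq : p ≠ q)
    (hps : IsPSolvable p G) (P : Sylow p G) (Q : Sylow q G)
    (hc : ∀ x ∈ (P : Subgroup G), ∀ y ∈ (Q : Subgroup G), x * y = y * x) :
    haveI := Cfsg.Agent.Lib.Helper24.pPrimeCore_normal' (G := G) p
    ¬ q ∣ Nat.card (G ⧸ pPrimeCore p G) := by
  have := Cfsg.Agent.Lib.Helper24.pPrimeCore_normal' (G := G) p
  intro hdvd
  set O := pPrimeCore p G with hO
  have hf : Function.Surjective (QuotientGroup.mk' O) := QuotientGroup.mk'_surjective O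
  have hsolv : IsPSolvable p (G ⧸ O) :=
    Cfsg.Agent.Lib.Helper24.isPSolvable_of_surjective p (QuotientGroup.mk' O) hf hps
  have hO2 : pPrimeCore p (G ⧸ O) = ⊥ := Cfsg.Agent.Lib.Helper24.pPrimeCore_quotient_eq_bot' (G := G) p
  have hPQ : ((P.mapSurjective hf : Sylow p (G ⧸ O)) : Subgroup (G ⧸ O)) ≤
      Subgroup.normalizer (((Q.mapSurjective hf : Sylow q (G ⧸ O)) : Subgroup (G ⧸ O)) : Set _) := by
    rw [Sylow.coe_mapSurjective, Sylow.coe_mapSurjective]
    rintro _ ⟨x, hx, rfl⟩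
    rw [Subgroup.mem_normalizer_iff]
    intro z
    have key : ∀ y ∈ (Q : Subgroup G),
        (QuotientGroup.mk' O x) * (QuotientGroup.mk' O y) * (QuotientGroup.mk' O x)⁻¹ =
          QuotientGroup.mk' O y := by
      intro y hy
      rw [← map_mul, hc x hx y hy, map_mul, mul_inv_cancel_right]
    constructor
    · rintro ⟨y, hy, rfl⟩
      rw [key y hy]
      exact ⟨y, hy, rfl⟩
    · rintro ⟨y, hy, hyz⟩
      refine ⟨y, hy, ?_⟩
      have h1 := key y hy
      have h2 : z = (QuotientGroup.mk' O x)⁻¹ * (QuotientGroup.mk' O y) * (QuotientGroup.mk' O x) := by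
        rw [hyz]; group
      have h3 : (QuotientGroup.mk' O x)⁻¹ * (QuotientGroup.mk' O y) * (QuotientGroup.mk' O x) =
          QuotientGroup.mk' O y := by
        conv_lhs => rw [← h1]
        group
      rw [h2, h3]
  have hbot := Cfsg.Agent.Lib.Helper24.sylow_eq_bot_of_le_normalizer p q hpq _ (G ⧸ O) rfl hsolv hO2
    (P.mapSurjective hf) (Q.mapSurjective hf) hPQ
  exact Sylow.ne_bot_of_dvd_card (Q.mapSurjective hf) hdvd hbot

end Cfsg.Agent.Lib.Helper24.TP
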