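import Mathlib
import Cfsg.Agent.Lib.Helper5.TWU.Defs
import Cfsg.Agent.Lib.Helper14.TWIIDefs
import Cfsg.Agent.Lib.Helper19.TWU3Defs
import Cfsg.Agent.Lib.Helper28.TWU2ADefs

/-!
# S5672 (C7 unitary) — STAGE II, CASE A (sub-planner helper28): leaves S3 `vv_ne_zero`, L5 `final_form`

Exact signatures of `notes/S5672_IIA_leaves.lean`.
-/

set_option autoImplicit false
set_option linter.unusedSectionVars false
set_option linter.unusedVariables false

namespace Cfsg.Agent.Lib.Helper24.TWU2ALeaf
open Matrix Cfsg.Geo Cfsg.Agent.Lib.Helper18.AschA89 Cfsg.Agent.Lib.Helper8.TW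
open Cfsg.Agent.Lib.Helper5.TWU Cfsg.Agent.Lib.Helper19.TWU3 Cfsg.Agent.Lib.Helper28.TWU2A
open Cfsg.Agent.Lib.Helper20.UT (hv)

variable {F : Type*} [Field F] [Fintype F] {t k q : ℕ}

/-- S3 (S) [`z a ≠ 0` for some `a`: entry `(a,a)` is `z a * (z a)^q ≠ 0`] -/
theorem vv_ne_zero (z : Fin k → F) (hz : z ≠ 0) : vv q z z ≠ 0 := by
  intro h
  apply hz
  funext a
  have h1 := congrFun (congrFun h a) a
  rw [vv_apply] at h1
  simp only [Matrix.zero_apply] at h1
  rcases mul_eq_zero.mp h1 with h2 | h2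
  · exact h2
  · exact eq_zero_of_pow_eq_zero h2

/-- the walk: replacing the coordinates in `S` by the base point -/
theorem final_walk (W : Fin t → Matrix (Fin k) (Fin k) F) (Ψ : Matrix (Idx t k) (Idx t k) F)
    (h : ∀ l, WForm l (W l) Ψ) (a₀ b₀ : Idx t k) (S : Finset (Fin t)) :
    ∀ p p' : Idx t k, Ψ p p' * ∏ l ∈ S, W l (a₀ l) (b₀ l) =
      Ψ (fun l => if l ∈ S then a₀ l else p l) (fun l => if l ∈ S then b₀ l else p' l) *
        ∏ l ∈ S, W l (p l) (p' l) := by
  classical
  induction S using Finset.induction_on with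
  | empty =>
    intro p p'
    simp
  | insert l S hlS ih =>
    intro p p'
    rw [Finset.prod_insert hlS, Finset.prod_insert hlS]
    have e1 : (fun j => if j ∈ insert l S then a₀ j else p j) =
        Function.update (fun j => if j ∈ S then a₀ j else p j) l (a₀ l) := by
      funext j
      by_cases hj : j = l
      · subst hj
        rw [Function.update_self, if_pos (Finset.mem_insert_self _ _)]
      · rw [Function.update_of_ne hj]
        by_cases hjS : j ∈ S
        · rw [if_pos (Finset.mem_insert_of_mem hjS), if_pos hjS]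
        · rw [if_neg hjS, if_neg (by rw [Finset.mem_insert]; exact fun h => h.elim hj hjS)]
    have e2 : (fun j => if j ∈ insert l S then b₀ j else p' j) =
        Function.update (fun j => if j ∈ S then b₀ j else p' j) l (b₀ l) := by
      funext j
      by_cases hj : j = l
      · subst hj
        rw [Function.update_self, if_pos (Finset.mem_insert_self _ _)]
      · rw [Function.update_of_ne hj]
        by_cases hjS : j ∈ S
        · rw [if_pos (Finset.mem_insert_of_mem hjS), if_pos hjS]
        · rw [if_neg hjS, if_neg (by rw [Finset.mem_insert]; exact fun h => h.elim hj hjS)]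
    rw [e1, e2]
    have h1 := h l (fun j => if j ∈ S then a₀ j else p j) (fun j => if j ∈ S then b₀ j else p' j) (a₀ l) (b₀ l)
    simp only [if_neg hlS] at h1
    have h2 := ih p p'
    calc Ψ p p' * (W l (a₀ l) (b₀ l) * ∏ x ∈ S, W x (a₀ x) (b₀ x))
        = (Ψ p p' * ∏ x ∈ S, W x (a₀ x) (b₀ x)) * W l (a₀ l) (b₀ l) := by ring
      _ = (Ψ (fun j => if j ∈ S then a₀ j else p j) (fun j => if j ∈ S then b₀ j else p' j) *
            W l (a₀ l) (b₀ l)) * ∏ x ∈ S, W x (p x) (p' x) := by rw [h2]; ring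
      _ = _ := by rw [← h1]; ring

/-- L5 (M) a matrix with a non-zero weight at EVERY position is a multiple of the pure tensor of the weights -/
theorem final_form (W : Fin t → Matrix (Fin k) (Fin k) F) (hW0 : ∀ l, W l ≠ 0) (Ψ : Matrix (Idx t k) (Idx t k) F)
    (h : ∀ l, WForm l (W l) Ψ) : ∃ c : F, Ψ = c • ptens k t W := by
  classical
  have hex : ∀ l, ∃ ab : Fin k × Fin k, W l ab.1 ab.2 ≠ 0 := by
    intro l
    by_contra hcon
    apply hW0 l
    ext a b
    by_contra hne
    exact hcon ⟨(a, b), hne⟩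
  choose ab hab using hex
  set a₀ : Idx t k := fun l => (ab l).1 with ha₀
  set b₀ : Idx t k := fun l => (ab l).2 with hb₀
  have hP : ∏ l, W l (a₀ l) (b₀ l) ≠ 0 := Finset.prod_ne_zero_iff.mpr fun l _ => hab l
  refine ⟨Ψ a₀ b₀ / ∏ l, W l (a₀ l) (b₀ l), ?_⟩
  ext p p'
  have h1 := final_walk W Ψ h a₀ b₀ Finset.univ p p'
  simp only [Finset.mem_univ, if_true] at h1
  rw [Matrix.smul_apply, ptens_apply, smul_eq_mul]
  field_simp
  exact h1

end Cfsg.Agent.Lib.Helper24.TWU2ALeaf
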