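import Mathlib
import Cfsg.Prelude.Def_ClassicalGeometry
import Cfsg.Prelude.Def_GeometricClasses
import Cfsg.Agent.Lib.Helper11.T23UDefs

/-!
S5801 (8), q = 3 glue (GC): from a pair `(R, gR)` of fibre images meeting in dimension one to a pair meeting in
dimension two.  `meet_two_core` is the pure dimension count; it takes the output of helper28's model lemma
`exists_h_meet_two` (Step C of notes/S5801_C4_q3_route_helper18.md) as hypotheses.
-/

set_option autoImplicit false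
set_option linter.unusedSectionVars false
set_option linter.unusedVariables false

namespace Cfsg.Agent.Lib.Helper24.U23GC
open Matrix Module
open Cfsg.Agent.Lib.Helper25.Tens Cfsg.Agent.Lib.Helper25.TensLeaf
open Cfsg.Agent.Lib.Helper20.UT Cfsg.Agent.Lib.Helper11.T23U

variable {F : Type*} [Field F]

lemma ptR_injective {a b : ℕ} {x : Fin a → F} (hx0 : x ≠ 0) :
    Function.Injective (ptR (b := b) x) := by
  intro y y' h
  have h' : pt x y = pt x y' := h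
  obtain ⟨i, hi⟩ : ∃ i, x i ≠ 0 := by
    by_contra hcon
    push Not at hcon
    exact hx0 (funext hcon)
  funext l
  have := congrFun h' (i, l)
  simp only [pt] at this
  exact mul_left_cancel₀ hi this

lemma finrank_FibA {a b : ℕ} {x : Fin a → F} (hx0 : x ≠ 0) :
    finrank F ↥(FibA (b := b) x) = b := by
  unfold FibA
  rw [LinearMap.finrank_range_of_inj (ptR_injective hx0), Module.finrank_fin_fun]

lemma mvS_eq_map {ι : Type} [Fintype ι] [DecidableEq ι] (g : GL ι F) (W : Submodule F (ι → F)) :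
    mvS g W = W.map (Matrix.toLin' (g : Matrix ι ι F)) := rfl

lemma toLin'_injective {ι : Type} [Fintype ι] [DecidableEq ι] (g : GL ι F) :
    Function.Injective (Matrix.toLin' (g : Matrix ι ι F)) := by
  intro v w h
  have h' : mv g v = mv g w := by simpa [mv, Matrix.toLin'_apply] using h
  exact mv_injective g h'

lemma finrank_mvS {ι : Type} [Fintype ι] [DecidableEq ι] (g : GL ι F) (W : Submodule F (ι → F)) :
    finrank F ↥(mvS g W) = finrank F ↥W := by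
  rw [mvS_eq_map]
  exact (Submodule.equivMapOfInjective _ (toLin'_injective g) W).finrank_eq.symm

lemma mem_mvS_of_mem {ι : Type} [Fintype ι] [DecidableEq ι] {g : GL ι F} {W : Submodule F (ι → F)}
    {w : ι → F} (hw : w ∈ W) : mv g w ∈ mvS g W := mem_mvS.mpr ⟨w, hw, rfl⟩

lemma mem_mvS_inv {ι : Type} [Fintype ι] [DecidableEq ι] {g : GL ι F} {W : Submodule F (ι → F)}
    {v : ι → F} : v ∈ mvS g⁻¹ W ↔ mv g v ∈ W := by
  rw [mem_mvS]
  constructor
  · rintro ⟨w, hw, rfl⟩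
    rwa [mv_mv_inv]
  · intro h
    exact ⟨mv g v, h, mv_inv_mv g v⟩

/-- the image of an isotropic fibre under an isometry is totally isotropic -/
lemma isotropic_mvS {q : ℕ} {a b : ℕ} {x : Fin a → F} (hx : hv q x x = 0) {g : GL (Idx a b) F}
    (hg : g ∈ GUI a b q F) :
    ∀ u ∈ mvS g (FibA (b := b) x), ∀ v ∈ mvS g (FibA (b := b) x), hv q u v = 0 := by
  intro u hu v hv'
  obtain ⟨u₀, hu₀, rfl⟩ := mem_mvS.mp hu
  obtain ⟨v₀, hv₀, rfl⟩ := mem_mvS.mp hv'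
  obtain ⟨y, rfl⟩ := mem_FibA.mp hu₀
  obtain ⟨y', rfl⟩ := mem_FibA.mp hv₀
  rw [mem_GUI.mp hg, hv_pt, hx, zero_mul]

/-- **GC, pure dimension count.**  If `v₁, v₂, v₃ ∈ R'' := g R`, `v₁, v₂` independent, `h v₁, h v₂ ∈ R''`, `h v₃ ∉ R''`,
then `R ∩ (g⁻¹ h⁻¹ g) R` has dimension exactly two. -/
theorem meet_two_core {x : Fin 2 → F} (hx0 : x ≠ 0) (g h : GL (Idx 2 3) F)
    (v₁ v₂ v₃ : Idx 2 3 → F)
    (h1 : v₁ ∈ mvS g (FibA (b := 3) x)) (h2 : v₂ ∈ mvS g (FibA (b := 3) x))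
    (h3 : v₃ ∈ mvS g (FibA (b := 3) x)) (hli : LinearIndependent F ![v₁, v₂])
    (hh1 : mv h v₁ ∈ mvS g (FibA (b := 3) x)) (hh2 : mv h v₂ ∈ mvS g (FibA (b := 3) x))
    (hh3 : mv h v₃ ∉ mvS g (FibA (b := 3) x)) :
    finrank F ↥(FibA (b := 3) x ⊓ mvS (g⁻¹ * h⁻¹ * g) (FibA (b := 3) x)) = 2 := by
  set R : Submodule F (Idx 2 3 → F) := FibA (b := 3) x with hR
  set R2 : Submodule F (Idx 2 3 → F) := mvS g R with hR2
  set S : Submodule F (Idx 2 3 → F) := R2 ⊓ mvS h⁻¹ R2 with hS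
  -- the intersection is the image of `S` under `g⁻¹`
  have hEq : R ⊓ mvS (g⁻¹ * h⁻¹ * g) R = mvS g⁻¹ S := by
    ext v
    rw [Submodule.mem_inf, mem_mvS_inv, hS, Submodule.mem_inf, mem_mvS_inv]
    constructor
    · rintro ⟨hvR, hv2⟩
      obtain ⟨r, hr, rfl⟩ := mem_mvS.mp hv2
      refine ⟨mem_mvS_of_mem hvR, ?_⟩
      rw [mv_mul, mv_mul, mv_mv_inv, mv_mv_inv]
      exact mem_mvS_of_mem hr
    · rintro ⟨hv1, hv2⟩
      obtain ⟨r₀, hr₀, hr₀v⟩ := mem_mvS.mp hv1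
      have hv : v = r₀ := by
        apply mv_injective g
        exact hr₀v.symm
      obtain ⟨r₁, hr₁, hr₁v⟩ := mem_mvS.mp hv2
      refine ⟨hv ▸ hr₀, mem_mvS.mpr ⟨r₁, hr₁, ?_⟩⟩
      rw [mv_mul, mv_mul, hr₁v, mv_inv_mv, mv_inv_mv]
  rw [hEq, finrank_mvS]
  -- `2 ≤ dim S`
  have hv1S : v₁ ∈ S := Submodule.mem_inf.mpr ⟨h1, mem_mvS_inv.mpr hh1⟩
  have hv2S : v₂ ∈ S := Submodule.mem_inf.mpr ⟨h2, mem_mvS_inv.mpr hh2⟩
  have hge : 2 ≤ finrank F ↥S := by
    have hspan : Submodule.span F (Set.range ![v₁, v₂]) ≤ S := by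
      rw [Submodule.span_le]
      rintro _ ⟨i, rfl⟩
      fin_cases i
      · exact hv1S
      · exact hv2S
    have h2' : finrank F ↥(Submodule.span F (Set.range ![v₁, v₂])) = 2 := by
      rw [finrank_span_eq_card hli]; simp
    have := Submodule.finrank_mono hspan
    omega
  -- `dim S < 3`
  have hlt : finrank F ↥S < 3 := by
    have hSle : S ≤ R2 := inf_le_left
    have hne : S ≠ R2 := by
      intro hcon
      have : v₃ ∈ S := hcon ▸ h3
      exact hh3 (mem_mvS_inv.mp (Submodule.mem_inf.mp this).2)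
    have hlt' : S < R2 := lt_of_le_of_ne hSle hne
    have h3' : finrank F ↥R2 = 3 := by rw [hR2, finrank_mvS, hR, finrank_FibA hx0]
    have := Submodule.finrank_lt_finrank_of_lt hlt'
    omega
  omega

/-- **GC** from the output of helper28's `exists_h_meet_two` (passed as `hQ4`, for `R2 := mvS g (FibA x)`) to an
element `h` of the tensor group such that `R ∩ (g⁻¹ h g) R` has dimension two. -/
theorem meet_two_of_meet_one' {q : ℕ} {x : Fin 2 → F} (hx0 : x ≠ 0) (g : GL (Idx 2 3) F)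
    (hQ4 : ∃ h ∈ KG 2 3 F ⊓ GS 2 3 q F, ∃ v₁ v₂ v₃ : Idx 2 3 → F,
      v₁ ∈ mvS g (FibA (b := 3) x) ∧ v₂ ∈ mvS g (FibA (b := 3) x) ∧ v₃ ∈ mvS g (FibA (b := 3) x) ∧
      LinearIndependent F ![v₁, v₂] ∧ mv h v₁ ∈ mvS g (FibA (b := 3) x) ∧
      mv h v₂ ∈ mvS g (FibA (b := 3) x) ∧ mv h v₃ ∉ mvS g (FibA (b := 3) x)) :
    ∃ h ∈ KG 2 3 F ⊓ GS 2 3 q F,
      finrank F ↥(FibA (b := 3) x ⊓ mvS (g⁻¹ * h * g) (FibA (b := 3) x)) = 2 := by
  obtain ⟨h, hh, v₁, v₂, v₃, h1, h2, h3, hli, hh1, hh2, hh3⟩ := hQ4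
  refine ⟨h⁻¹, inv_mem hh, ?_⟩
  exact meet_two_core hx0 g h v₁ v₂ v₃ h1 h2 h3 hli hh1 hh2 hh3

/-- the functional `y ↦ h(y, d)` -/
def hvL {n : ℕ} (q : ℕ) (d : Fin n → F) : (Fin n → F) →ₗ[F] F where
  toFun y := hv q y d
  map_add' y y' := hv_add_left q y y' d
  map_smul' c y := by simpa using hv_smul_left q c y d

lemma finrank_ker_hvL {n : ℕ} {q : ℕ} {d : Fin n → F} (hd : hv q d d ≠ 0) :
    finrank F ↥(LinearMap.ker (hvL q d)) + 1 = n := by
  have h1 := LinearMap.finrank_range_add_finrank_ker (hvL q d)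
  rw [Module.finrank_fin_fun] at h1
  have h2 : LinearMap.range (hvL q d) = ⊤ := by
    apply LinearMap.range_eq_top.mpr
    intro c
    refine ⟨(c / hv q d d) • d, ?_⟩
    show hv q ((c / hv q d d) • d) d = c
    rw [hv_smul_left, div_mul_cancel₀ _ hd]
  rw [h2, finrank_top, Module.finrank_self] at h1
  omega

/-- if `R ∩ R''` is `x ⊗ d^⊥` (`d` nonsingular) it has dimension two -/
theorem finrank_meet_of_perp {q : ℕ} {x : Fin 2 → F} (hx0 : x ≠ 0) {R2 : Submodule F (Idx 2 3 → F)}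
    {d : Fin 3 → F} (hd : hv q d d ≠ 0) (hK : ∀ y : Fin 3 → F, pt x y ∈ R2 ↔ hv q y d = 0) :
    finrank F ↥(FibA (b := 3) x ⊓ R2) = 2 := by
  have hEq : FibA (b := 3) x ⊓ R2 = (LinearMap.ker (hvL q d)).map (ptR (b := 3) x) := by
    ext v
    rw [Submodule.mem_inf, Submodule.mem_map]
    constructor
    · rintro ⟨hv1, hv2⟩
      obtain ⟨y, rfl⟩ := mem_FibA.mp hv1
      exact ⟨y, LinearMap.mem_ker.mpr ((hK y).mp hv2), rfl⟩
    · rintro ⟨y, hy, rfl⟩
      exact ⟨mem_FibA.mpr ⟨y, rfl⟩, (hK y).mpr (LinearMap.mem_ker.mp hy)⟩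
  rw [hEq, ← (Submodule.equivMapOfInjective _ (ptR_injective hx0) _).finrank_eq]
  have := finrank_ker_hvL (n := 3) hd
  omega

/-- if `R ∩ R''` is `x ⊗ <w>` (`w ≠ 0`) it has dimension one -/
theorem finrank_meet_of_line {x : Fin 2 → F} (hx0 : x ≠ 0) {R2 : Submodule F (Idx 2 3 → F)}
    {w : Fin 3 → F} (hw0 : w ≠ 0) (hK : ∀ y : Fin 3 → F, pt x y ∈ R2 ↔ ∃ c : F, y = c • w) :
    finrank F ↥(FibA (b := 3) x ⊓ R2) = 1 := by
  have hEq : FibA (b := 3) x ⊓ R2 = Submodule.span F {pt x w} := by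
    ext v
    rw [Submodule.mem_inf, Submodule.mem_span_singleton]
    constructor
    · rintro ⟨hv1, hv2⟩
      obtain ⟨y, rfl⟩ := mem_FibA.mp hv1
      obtain ⟨c, rfl⟩ := (hK y).mp hv2
      exact ⟨c, (pt_smul_right c x w).symm⟩
    · rintro ⟨c, rfl⟩
      rw [← pt_smul_right]
      exact ⟨mem_FibA.mpr ⟨_, rfl⟩, (hK _).mpr ⟨c, rfl⟩⟩
  rw [hEq]
  apply finrank_span_singleton
  intro h0
  rcases (pt_eq_zero_iff x w).mp h0 with h | h
  · exact hx0 h
  · exact hw0 h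

end Cfsg.Agent.Lib.Helper24.U23GC
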