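import Mathlib
import Cfsg.Prelude.Def_ClassicalGeometry
import Cfsg.Prelude.Def_GeometricClasses
import Cfsg.Agent.Lib.Helper20.UTDefs
import Cfsg.Agent.Lib.Helper5.UForm

/-!
S5801 (8), q = 3 glue (helper14's wrapper Q2d, stated for every `q`): in the hermitian space `F^3`
(`|F| = q^2`, form `hv q`) the orthogonal complement of a nonsingular vector `d` contains a hyperbolic pair.
-/

set_option autoImplicit false
set_option linter.unusedSectionVars false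
set_option linter.unusedVariables false

namespace Cfsg.Agent.Lib.Helper24.U23Q2d
open Matrix
open Cfsg.Agent.Lib.Helper20.UT

variable {F : Type*} [Field F] [Fintype F] {q : ℕ}

/-- a hyperbolic pair orthogonal to a nonsingular vector of `F^n`, `3 ≤ n` -/
theorem exists_hyp_pair_perp_gen {n : ℕ} (hn : 3 ≤ n) (hF : Fintype.card F = q ^ 2) (d : Fin n → F)
    (hd : hv q d d ≠ 0) :
    ∃ z₁ z₂ : Fin n → F, hv q z₁ z₁ = 0 ∧ hv q z₂ z₂ = 0 ∧ hv q z₁ d = 0 ∧ hv q z₂ d = 0 ∧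
      hv q z₁ z₂ = 1 := by
  have hf := hv_unitary (n := n) hF
  have hND := Cfsg.Agent.Lib.Helper5.UForm.ND_noniso hf (Cfsg.Agent.Lib.Helper5.UForm.ND_top hf)
    (Submodule.mem_top : d ∈ (⊤ : Submodule F (Fin n → F))) hd
  have hrk := Cfsg.Agent.Lib.Helper5.UForm.finrank_inf_pp hf (⊤ : Submodule F (Fin n → F)) d
  have htop : Module.finrank F (⊤ : Submodule F (Fin n → F)) = n := by
    rw [finrank_top, Module.finrank_fin_fun]
  obtain ⟨e, heU, e', he'U, hee, he'e', h1⟩ :=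
    Cfsg.Agent.Lib.Helper5.UForm.exists_hyp hf hND (by omega)
  obtain ⟨-, hed⟩ := Submodule.mem_inf.mp heU
  obtain ⟨-, he'd⟩ := Submodule.mem_inf.mp he'U
  rw [Cfsg.Agent.Lib.Helper5.UForm.mem_pp] at hed he'd
  exact ⟨e, e', hee, he'e', hed, he'd, h1⟩

/-- **Q2d** a hyperbolic pair in `d^⊥ ⊆ F^3`. -/
theorem exists_hyp_pair_perp (hF : Fintype.card F = q ^ 2) (d : Fin 3 → F) (hd : hv q d d ≠ 0) :
    ∃ z₁ z₂ : Fin 3 → F, hv q z₁ z₁ = 0 ∧ hv q z₂ z₂ = 0 ∧ hv q z₁ d = 0 ∧ hv q z₂ d = 0 ∧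
      hv q z₁ z₂ = 1 :=
  exists_hyp_pair_perp_gen (le_refl 3) hF d hd

end Cfsg.Agent.Lib.Helper24.U23Q2d
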