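import Mathlib
import Cfsg.Prelude.Def_Spor_HN

/-!
S2082 (Out(HN) = 2, owner helper15), LEAF S `exists_sigma` of `notes/S2082_leaves.lean`:
`x ↦ x, y ↦ y, z ↦ z x², t ↦ t²` extends to an automorphism of `Spor.HN`.
-/

set_option autoImplicit false
set_option linter.unusedSimpArgs false

namespace Cfsg.Agent.Lib.Helper24.HnO

open Cfsg Cfsg.Spor

/-- the relators of `Spor.HN` as a set -/
abbrev hnRels : Set (FreeGroup HN.Gen) := coxRelators HN.edges ∪ {r | r ∈ HN.extra}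

/-- the images of the generators -/
def sigGen (gx gy gz gt : Spor.HN) : HN.Gen → Spor.HN
  | HN.Gen.x => gx
  | HN.Gen.y => gy
  | HN.Gen.z => gz * (gx * gx)
  | HN.Gen.t => gt ^ 2

@[simp] lemma sigGen_x (gx gy gz gt : Spor.HN) : sigGen gx gy gz gt HN.Gen.x = gx := rfl
@[simp] lemma sigGen_y (gx gy gz gt : Spor.HN) : sigGen gx gy gz gt HN.Gen.y = gy := rfl
@[simp] lemma sigGen_z (gx gy gz gt : Spor.HN) : sigGen gx gy gz gt HN.Gen.z = gz * (gx * gx) := rfl
@[simp] lemma sigGen_t (gx gy gz gt : Spor.HN) : sigGen gx gy gz gt HN.Gen.t = gt ^ 2 := rfl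

lemma mk_extra_eq_one {r : FreeGroup HN.Gen} (hr : r ∈ HN.extra) : PresentedGroup.mk hnRels r = 1 :=
  PresentedGroup.one_of_mem (Or.inr hr)


/-- the 14 relations of `Spor.HN`, in terms of the generators -/
structure HNRel (gx gy gz gt : Spor.HN) : Prop where
  h1 : gy ^ 6 = 1
  h2 : gx ^ 2 * gy * gx ^ 2 * gy⁻¹ = 1
  h3 : (gx⁻¹ * gy⁻¹ * gx * gy) ^ 3 = 1
  h4 : (gx⁻¹ * gy ^ 2 * gx * gy ^ 3) ^ 3 = 1
  h5 : (gx * gy) ^ 8 = 1
  h6 : (gx * gy * gx * gy ^ 3) ^ 4 = 1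
  h7 : gz ^ 2 = 1
  h8 : (gz * gx) ^ 2 = 1
  h9 : (gz⁻¹ * (gy * gx * gy * gx * gy ^ 2 * gx * gy⁻¹)⁻¹ * gz * (gy * gx * gy * gx * gy ^ 2 * gx * gy⁻¹)) * (gx ^ 2)⁻¹ = 1
  h10 : gz * (((gy ^ 3 * gx * gy * gx * gy)⁻¹ * gz * (gy ^ 3 * gx * gy * gx * gy)) * gx) ^ 3 = 1
  h11 : gt ^ 5 = 1
  h12 : (gx⁻¹ * gt * gx) * gt ^ 2 = 1
  h13 : gt⁻¹ * gy⁻¹ * gt * gy = 1
  h14 : (gz * gt) ^ 3 = 1

lemma hnRel (gx gy gz gt : Spor.HN) (hgx : gx = PresentedGroup.mk hnRels HN.x)
    (hgy : gy = PresentedGroup.mk hnRels HN.y) (hgz : gz = PresentedGroup.mk hnRels HN.z)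
    (hgt : gt = PresentedGroup.mk hnRels HN.t) : HNRel gx gy gz gt := by
  refine ⟨?_, ?_, ?_, ?_, ?_, ?_, ?_, ?_, ?_, ?_, ?_, ?_, ?_, ?_⟩
  · have := mk_extra_eq_one (r := HN.y ^ 6) (by simp [HN.extra])
    simpa only [map_pow, map_mul, map_inv, ← hgx, ← hgy, ← hgz, ← hgt] using this
  · have := mk_extra_eq_one (r := (HN.x ^ 2) * HN.y * (HN.x ^ 2) * (HN.y⁻¹)) (by simp [HN.extra])
    simpa only [map_pow, map_mul, map_inv, ← hgx, ← hgy, ← hgz, ← hgt] using this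
  · have := mk_extra_eq_one (r := (HN.x⁻¹ * HN.y⁻¹ * HN.x * HN.y) ^ 3) (by simp [HN.extra])
    simpa only [map_pow, map_mul, map_inv, ← hgx, ← hgy, ← hgz, ← hgt] using this
  · have := mk_extra_eq_one (r := ((HN.x⁻¹) * (HN.y ^ 2) * HN.x * (HN.y ^ 3)) ^ 3) (by simp [HN.extra])
    simpa only [map_pow, map_mul, map_inv, ← hgx, ← hgy, ← hgz, ← hgt] using this
  · have := mk_extra_eq_one (r := (HN.x * HN.y) ^ 8) (by simp [HN.extra])
    simpa only [map_pow, map_mul, map_inv, ← hgx, ← hgy, ← hgz, ← hgt] using this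
  · have := mk_extra_eq_one (r := (HN.x * HN.y * HN.x * (HN.y ^ 3)) ^ 4) (by simp [HN.extra])
    simpa only [map_pow, map_mul, map_inv, ← hgx, ← hgy, ← hgz, ← hgt] using this
  · have := mk_extra_eq_one (r := HN.z ^ 2) (by simp [HN.extra])
    simpa only [map_pow, map_mul, map_inv, ← hgx, ← hgy, ← hgz, ← hgt] using this
  · have := mk_extra_eq_one (r := (HN.z * HN.x) ^ 2) (by simp [HN.extra])
    simpa only [map_pow, map_mul, map_inv, ← hgx, ← hgy, ← hgz, ← hgt] using this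
  · have := mk_extra_eq_one (r := (HN.z⁻¹ * (HN.y * HN.x * HN.y * HN.x * (HN.y ^ 2) * HN.x * (HN.y⁻¹))⁻¹ * HN.z * (HN.y * HN.x * HN.y * HN.x * (HN.y ^ 2) * HN.x * (HN.y⁻¹))) * ((HN.x ^ 2)⁻¹)) (by simp [HN.extra])
    simpa only [map_pow, map_mul, map_inv, ← hgx, ← hgy, ← hgz, ← hgt] using this
  · have := mk_extra_eq_one (r := HN.z * (((((HN.y ^ 3) * HN.x * HN.y * HN.x * HN.y)⁻¹ * HN.z * ((HN.y ^ 3) * HN.x * HN.y * HN.x * HN.y)) * HN.x) ^ 3)) (by simp [HN.extra])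
    simpa only [map_pow, map_mul, map_inv, ← hgx, ← hgy, ← hgz, ← hgt] using this
  · have := mk_extra_eq_one (r := HN.t ^ 5) (by simp [HN.extra])
    simpa only [map_pow, map_mul, map_inv, ← hgx, ← hgy, ← hgz, ← hgt] using this
  · have := mk_extra_eq_one (r := (HN.x⁻¹ * HN.t * HN.x) * (HN.t ^ 2)) (by simp [HN.extra])
    simpa only [map_pow, map_mul, map_inv, ← hgx, ← hgy, ← hgz, ← hgt] using this
  · have := mk_extra_eq_one (r := HN.t⁻¹ * HN.y⁻¹ * HN.t * HN.y) (by simp [HN.extra])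
    simpa only [map_pow, map_mul, map_inv, ← hgx, ← hgy, ← hgz, ← hgt] using this
  · have := mk_extra_eq_one (r := (HN.z * HN.t) ^ 3) (by simp [HN.extra])
    simpa only [map_pow, map_mul, map_inv, ← hgx, ← hgy, ← hgz, ← hgt] using this

section Words
variable {G : Type*} [Group G]

lemma cm_left {a u : G} (h : a * u = u * a) (w : G) : u * (a * w) = a * (u * w) := by
  rw [← mul_assoc, ← h, mul_assoc]

lemma cm_inv {a u : G} (h : a * u = u * a) : a * u⁻¹ = u⁻¹ * a := by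
  have : Commute a u := h
  exact this.inv_right.eq

lemma g7 (z a : G) (haz : a * z = z * a) (ha2 : a * a = 1) (h : z ^ 2 = 1) : (z * a) ^ 2 = 1 := by
  have hai : a⁻¹ = a := inv_eq_of_mul_eq_one_right ha2
  have ha2' : ∀ w : G, a * (a * w) = w := fun w => by rw [← mul_assoc, ha2, one_mul]
  simp only [pow_succ, pow_zero, one_mul, mul_inv_rev, mul_assoc, inv_inv] at h ⊢
  simp only [haz.symm, cm_left haz, ha2, ha2', mul_one]
  exact h

lemma g8 (x z a : G) (hax : a * x = x * a) (haz : a * z = z * a) (ha2 : a * a = 1) (h : (z * x) ^ 2 = 1) :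
    (z * a * x) ^ 2 = 1 := by
  have hai : a⁻¹ = a := inv_eq_of_mul_eq_one_right ha2
  have ha2' : ∀ w : G, a * (a * w) = w := fun w => by rw [← mul_assoc, ha2, one_mul]
  simp only [pow_succ, pow_zero, one_mul, mul_inv_rev, mul_assoc, inv_inv] at h ⊢
  simp only [haz.symm, hax.symm, cm_left haz, cm_left hax, ha2, ha2', mul_one]
  exact h

lemma g9 (x y z a : G) (hax : a * x = x * a) (hay : a * y = y * a) (haz : a * z = z * a) (ha2 : a * a = 1)
    (h : (z⁻¹ * (y * x * y * x * y ^ 2 * x * y⁻¹)⁻¹ * z * (y * x * y * x * y ^ 2 * x * y⁻¹)) * (x ^ 2)⁻¹ = 1) :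
    ((z * a)⁻¹ * (y * x * y * x * y ^ 2 * x * y⁻¹)⁻¹ * (z * a) * (y * x * y * x * y ^ 2 * x * y⁻¹)) * (x ^ 2)⁻¹ = 1 := by
  have hai : a⁻¹ = a := inv_eq_of_mul_eq_one_right ha2
  have ha2' : ∀ w : G, a * (a * w) = w := fun w => by rw [← mul_assoc, ha2, one_mul]
  have haxi := cm_inv hax
  have hayi := cm_inv hay
  have hazi := cm_inv haz
  simp only [pow_succ, pow_zero, one_mul, mul_inv_rev, mul_assoc, inv_inv] at h ⊢
  simp only [hai, haz.symm, hax.symm, hay.symm, hazi.symm, haxi.symm, hayi.symm, cm_left haz, cm_left hax, cm_left hay,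
    cm_left hazi, cm_left haxi, cm_left hayi, ha2, ha2', mul_one]
  exact h

lemma g10 (x y z a : G) (hax : a * x = x * a) (hay : a * y = y * a) (haz : a * z = z * a) (ha2 : a * a = 1)
    (h : z * (((y ^ 3 * x * y * x * y)⁻¹ * z * (y ^ 3 * x * y * x * y)) * x) ^ 3 = 1) :
    (z * a) * (((y ^ 3 * x * y * x * y)⁻¹ * (z * a) * (y ^ 3 * x * y * x * y)) * x) ^ 3 = 1 := by
  have hai : a⁻¹ = a := inv_eq_of_mul_eq_one_right ha2
  have ha2' : ∀ w : G, a * (a * w) = w := fun w => by rw [← mul_assoc, ha2, one_mul]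
  have haxi := cm_inv hax
  have hayi := cm_inv hay
  have hazi := cm_inv haz
  simp only [pow_succ, pow_zero, one_mul, mul_inv_rev, mul_assoc, inv_inv] at h ⊢
  simp only [hai, haz.symm, hax.symm, hay.symm, hazi.symm, haxi.symm, hayi.symm, cm_left haz, cm_left hax, cm_left hay,
    cm_left hazi, cm_left haxi, cm_left hayi, ha2, ha2', mul_one]
  exact h


lemma g11 (t : G) (h : t ^ 5 = 1) : (t ^ 2) ^ 5 = 1 := by
  rw [← pow_mul, show 2 * 5 = 5 * 2 from rfl, pow_mul, h, one_pow]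

lemma g12 (x t : G) (h : (x⁻¹ * t * x) * t ^ 2 = 1) : (x⁻¹ * t ^ 2 * x) * (t ^ 2) ^ 2 = 1 := by
  have e : x⁻¹ * t * x = (t ^ 2)⁻¹ := eq_inv_of_mul_eq_one_left h
  have e2 : x⁻¹ * t ^ 2 * x = (x⁻¹ * t * x) * (x⁻¹ * t * x) := by
    rw [pow_two]; group
  rw [e2, e, pow_two (t ^ 2)]
  group

lemma g13 (y t : G) (h : t⁻¹ * y⁻¹ * t * y = 1) : (t ^ 2)⁻¹ * y⁻¹ * t ^ 2 * y = 1 := by
  have e : t * y = y * t := by
    have h1 : y * t * (t⁻¹ * y⁻¹ * t * y) = y * t := by rw [h, mul_one]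
    rw [← h1]; group
  have c : Commute (t ^ 2) y := (show Commute t y from e).pow_left 2
  have e2 : (t ^ 2)⁻¹ * y⁻¹ * t ^ 2 * y = (t ^ 2)⁻¹ * y⁻¹ * (t ^ 2 * y) := by group
  rw [e2, c.eq]; group

end Words

/-- the assignment `x ↦ x, y ↦ y, z ↦ z x², t ↦ t²` kills all relators -/
lemma sig_rels (gx gy gz gt : Spor.HN) (R : HNRel gx gy gz gt)
    (hay : gx * gx * gy = gy * (gx * gx)) (haz : gx * gx * gz = gz * (gx * gx))
    (ha2 : gx * gx * (gx * gx) = 1) (hrel : (gz * (gx * gx) * gt ^ 2) ^ 3 = 1) :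
    ∀ r ∈ hnRels, FreeGroup.lift (sigGen gx gy gz gt) r = 1 := by
  have hax : gx * gx * gx = gx * (gx * gx) := mul_assoc gx gx gx
  intro r hr
  rcases hr with hr | hr
  · obtain ⟨x₀, hx₀, -⟩ := hr
    simp [coxNodes, HN.edges] at hx₀
  · have hr' : r ∈ HN.extra := hr
    simp only [HN.extra, List.mem_cons, List.mem_nil_iff, or_false] at hr'
    rcases hr' with rfl | rfl | rfl | rfl | rfl | rfl | rfl | rfl | rfl | rfl | rfl | rfl | rfl | rfl
    · simp only [map_pow, map_mul, map_inv, FreeGroup.lift_apply_of, sigGen_x, sigGen_y, sigGen_z, sigGen_t]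
      exact R.h1
    · simp only [map_pow, map_mul, map_inv, FreeGroup.lift_apply_of, sigGen_x, sigGen_y, sigGen_z, sigGen_t]
      exact R.h2
    · simp only [map_pow, map_mul, map_inv, FreeGroup.lift_apply_of, sigGen_x, sigGen_y, sigGen_z, sigGen_t]
      exact R.h3
    · simp only [map_pow, map_mul, map_inv, FreeGroup.lift_apply_of, sigGen_x, sigGen_y, sigGen_z, sigGen_t]
      exact R.h4
    · simp only [map_pow, map_mul, map_inv, FreeGroup.lift_apply_of, sigGen_x, sigGen_y, sigGen_z, sigGen_t]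
      exact R.h5
    · simp only [map_pow, map_mul, map_inv, FreeGroup.lift_apply_of, sigGen_x, sigGen_y, sigGen_z, sigGen_t]
      exact R.h6
    · simp only [map_pow, map_mul, map_inv, FreeGroup.lift_apply_of, sigGen_x, sigGen_y, sigGen_z, sigGen_t]
      exact g7 gz (gx * gx) haz ha2 R.h7
    · simp only [map_pow, map_mul, map_inv, FreeGroup.lift_apply_of, sigGen_x, sigGen_y, sigGen_z, sigGen_t]
      exact g8 gx gz (gx * gx) hax haz ha2 R.h8
    · simp only [map_pow, map_mul, map_inv, FreeGroup.lift_apply_of, sigGen_x, sigGen_y, sigGen_z, sigGen_t]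
      exact g9 gx gy gz (gx * gx) hax hay haz ha2 R.h9
    · simp only [map_pow, map_mul, map_inv, FreeGroup.lift_apply_of, sigGen_x, sigGen_y, sigGen_z, sigGen_t]
      exact g10 gx gy gz (gx * gx) hax hay haz ha2 R.h10
    · simp only [map_pow, map_mul, map_inv, FreeGroup.lift_apply_of, sigGen_x, sigGen_y, sigGen_z, sigGen_t]
      exact g11 gt R.h11
    · simp only [map_pow, map_mul, map_inv, FreeGroup.lift_apply_of, sigGen_x, sigGen_y, sigGen_z, sigGen_t]
      exact g12 gx gt R.h12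
    · simp only [map_pow, map_mul, map_inv, FreeGroup.lift_apply_of, sigGen_x, sigGen_y, sigGen_z, sigGen_t]
      exact g13 gy gt R.h13
    · simp only [map_pow, map_mul, map_inv, FreeGroup.lift_apply_of, sigGen_x, sigGen_y, sigGen_z, sigGen_t]
      exact hrel


/-- **LEAF S** (`σ` exists): `x ↦ x, y ↦ y, z ↦ z x², t ↦ t²` extends to an automorphism of `Spor.HN`. -/
theorem exists_sigma [Finite Spor.HN]
    (gx gy gz gt : Spor.HN) (hgx : gx = PresentedGroup.mk hnRels HN.x)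
    (hgy : gy = PresentedGroup.mk hnRels HN.y) (hgz : gz = PresentedGroup.mk hnRels HN.z)
    (hgt : gt = PresentedGroup.mk hnRels HN.t)
    (hay : gx * gx * gy = gy * (gx * gx)) (haz : gx * gx * gz = gz * (gx * gx))
    (ha2 : gx * gx * (gx * gx) = 1)
    (hrel : (gz * (gx * gx) * gt ^ 2) ^ 3 = 1) :
    ∃ σ : MulAut Spor.HN, σ gx = gx ∧ σ gy = gy ∧ σ gz = gz * (gx * gx) ∧ σ gt = gt ^ 2 := by
  have R := hnRel gx gy gz gt hgx hgy hgz hgt
  have hrels := sig_rels gx gy gz gt R hay haz ha2 hrel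
  set σ₀ : Spor.HN →* Spor.HN := PresentedGroup.toGroup hrels with hσ₀
  have sx : σ₀ gx = gx := by
    have : σ₀ (PresentedGroup.mk hnRels HN.x) = sigGen gx gy gz gt HN.Gen.x := PresentedGroup.toGroup.of hrels
    rw [← hgx] at this
    exact this
  have sy : σ₀ gy = gy := by
    have : σ₀ (PresentedGroup.mk hnRels HN.y) = sigGen gx gy gz gt HN.Gen.y := PresentedGroup.toGroup.of hrels
    rw [← hgy] at this
    exact this
  have sz : σ₀ gz = gz * (gx * gx) := by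
    have : σ₀ (PresentedGroup.mk hnRels HN.z) = sigGen gx gy gz gt HN.Gen.z := PresentedGroup.toGroup.of hrels
    rw [← hgz] at this
    exact this
  have st : σ₀ gt = gt ^ 2 := by
    have : σ₀ (PresentedGroup.mk hnRels HN.t) = sigGen gx gy gz gt HN.Gen.t := PresentedGroup.toGroup.of hrels
    rw [← hgt] at this
    exact this
  -- surjectivity
  have hsurj : Function.Surjective σ₀ := by
    rw [← MonoidHom.range_eq_top, eq_top_iff, ← PresentedGroup.closure_range_of hnRels, Subgroup.closure_le]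
    rintro _ ⟨g, rfl⟩
    cases g with
    | x => exact ⟨gx, by rw [sx, hgx]; rfl⟩
    | y => exact ⟨gy, by rw [sy, hgy]; rfl⟩
    | z =>
      refine ⟨gz * (gx * gx), ?_⟩
      rw [map_mul, map_mul, sz, sx, mul_assoc, ha2, mul_one, hgz]; rfl
    | t =>
      refine ⟨gt ^ 3, ?_⟩
      rw [map_pow, st, ← pow_mul, show 2 * 3 = 5 + 1 from rfl, pow_add, R.h11, one_mul, pow_one, hgt]; rfl
  have hinj : Function.Injective σ₀ := Finite.injective_iff_surjective.2 hsurj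
  refine ⟨MulEquiv.ofBijective σ₀ ⟨hinj, hsurj⟩, ?_, ?_, ?_, ?_⟩
  · exact sx
  · exact sy
  · exact sz
  · exact st

end Cfsg.Agent.Lib.Helper24.HnO
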