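import Mathlib
import Cfsg.Prelude.Def_Solvable
import Cfsg.Agent.Lib.Helper4.CoprimeIndex

set_option autoImplicit false

namespace Cfsg.Agent.Lib.Helper24.QBLeaf

variable {G : Type*} [Group G] [Finite G]

/-- A subgroup `H` of `G`, a Sylow `q`-subgroup of `H`, and `|G : H|` prime to `q`: the image is
Sylow in `G`. -/
theorem not_dvd_index_map_subtype (q : ℕ) [Fact q.Prime] (H : Subgroup G)
    (hH : H.index.Coprime q) (P : Sylow q H) :
    ¬ q ∣ ((P : Subgroup H).map H.subtype).index := by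
  rw [Subgroup.index_map_subtype]
  intro hdvd
  rcases (Nat.Prime.dvd_mul (Fact.out : q.Prime)).1 hdvd with h | h
  · exact P.not_dvd_index h
  · have h1 : q ∣ Nat.gcd H.index q := Nat.dvd_gcd h dvd_rfl
    rw [hH] at h1
    exact (Fact.out : q.Prime).one_lt.ne' (Nat.dvd_one.1 h1)

/-- QBS. -/
theorem exists_sylow_le_centralizer (q : ℕ) [Fact q.Prime] (x : G) (hx : ∃ k : ℕ, orderOf x = q ^ k)
    (hidx : (Subgroup.centralizer ({x} : Set G)).index.Coprime q) :
    ∃ S : Sylow q G, (S : Subgroup G) ≤ Subgroup.centralizer ({x} : Set G) ∧ x ∈ S := by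
  set H : Subgroup G := Subgroup.centralizer ({x} : Set G) with hHdef
  have hxH : x ∈ H := by
    rw [hHdef, Subgroup.mem_centralizer_singleton_iff]
  obtain ⟨k, hk⟩ := hx
  have hpg : IsPGroup q (Subgroup.zpowers (⟨x, hxH⟩ : H)) := by
    apply IsPGroup.of_card (n := k)
    rw [Nat.card_zpowers, ← hk]
    exact Subgroup.orderOf_mk x hxH
  obtain ⟨P, hP⟩ := hpg.exists_le_sylow
  have hpgm : IsPGroup q ((P : Subgroup H).map H.subtype) := P.2.map H.subtype
  refine ⟨hpgm.toSylow (not_dvd_index_map_subtype q H hidx P), ?_, ?_⟩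
  · rw [IsPGroup.toSylow_coe]
    exact Subgroup.map_subtype_le _
  · rw [IsPGroup.mem_toSylow]
    exact ⟨⟨x, hxH⟩, hP (Subgroup.mem_zpowers _), rfl⟩

end Cfsg.Agent.Lib.Helper24.QBLeaf
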