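import Mathlib
import Cfsg.Prelude.Def_Solvable
import Cfsg.Agent.Lib.Helper4.CoprimeIndex
import Cfsg.Agent.Lib.Helper24.QBS

set_option autoImplicit false

namespace Cfsg.Agent.Lib.Helper24.QBLeaf

variable {G : Type*} [Group G] [Finite G]

/-- Membership in a conjugate Sylow subgroup. -/
theorem mem_smul_sylow_iff (q : ℕ) (S : Sylow q G) (g z : G) :
    z ∈ g • S ↔ g⁻¹ * z * g ∈ S := by
  change z ∈ ((g • S : Sylow q G) : Subgroup G) ↔ _
  rw [Sylow.coe_subgroup_smul, Subgroup.mem_pointwise_smul_iff_inv_smul_mem]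
  simp only [MulAut.smul_def, map_inv, MulAut.inv_apply, MulAut.conj_symm_apply]
  exact Iff.rfl

/-- QBA1. -/
theorem commute_of_coprime_index (q : ℕ) [Fact q.Prime] (x y : G)
    (hx : ∃ k : ℕ, orderOf x = q ^ k) (hy : ∃ k : ℕ, orderOf y = q ^ k)
    (hxq : (Subgroup.centralizer ({x} : Set G)).index.Coprime q)
    (hyq : (Subgroup.centralizer ({y} : Set G)).index.Coprime q)
    (hxy : (Subgroup.centralizer ({x} : Set G)).index.Coprime
      (Subgroup.centralizer ({y} : Set G)).index) : Commute x y := by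
  obtain ⟨Sx, hSx, -⟩ := exists_sylow_le_centralizer q x hx hxq
  obtain ⟨Sy, -, hySy⟩ := exists_sylow_le_centralizer q y hy hyq
  obtain ⟨g, hg⟩ := MulAction.exists_smul_eq G Sy Sx
  -- g = cx * cy, cx ∈ C(x), cy ∈ C(y)
  obtain ⟨cx, hcx, cy, hcy, hgc⟩ :=
    Cfsg.Agent.Lib.Helper4.forall_mul_of_coprime_index _ _ hxy g
  rw [Subgroup.mem_centralizer_singleton_iff] at hcx hcy
  -- y ∈ cy • Sy
  have h1 : y ∈ cy • Sy := by
    rw [mem_smul_sylow_iff]
    have : cy⁻¹ * y * cy = cy⁻¹ * (y * cy) := by group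
    rw [this, ← hcy]
    simpa using hySy
  -- cx • (cy • Sy) = Sx
  have h2 : cx • (cy • Sy) = Sx := by
    rw [← mul_smul, ← hgc, hg]
  -- so cx y cx⁻¹ ∈ Sx ≤ C(x)
  have h3 : cx * y * cx⁻¹ ∈ Sx := by
    rw [← h2, mem_smul_sylow_iff]
    have : cx⁻¹ * (cx * y * cx⁻¹) * cx = y := by group
    rw [this]
    exact h1
  have h4 := hSx h3
  rw [Subgroup.mem_centralizer_singleton_iff] at h4
  -- (cx y cx⁻¹) x = x (cx y cx⁻¹), and cx commutes with x
  have hcx' : cx⁻¹ * x = x * cx⁻¹ := by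
    have : cx⁻¹ * x = cx⁻¹ * (x * cx) * cx⁻¹ := by group
    rw [this, ← hcx]; group
  show x * y = y * x
  have e1 : y * x = cx⁻¹ * ((cx * y * cx⁻¹) * x) * cx := by
    calc y * x = cx⁻¹ * (cx * y) * x := by group
      _ = cx⁻¹ * (cx * y) * (cx⁻¹ * (cx * x)) := by group
      _ = cx⁻¹ * (cx * y) * (cx⁻¹ * (x * cx)) := by rw [hcx]
      _ = cx⁻¹ * ((cx * y * cx⁻¹) * x) * cx := by group
  have e2 : x * y = cx⁻¹ * (x * (cx * y * cx⁻¹)) * cx := by
    calc x * y = (x * cx⁻¹) * (cx * y) := by group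
      _ = (cx⁻¹ * x) * (cx * y) := by rw [hcx']
      _ = cx⁻¹ * (x * (cx * y * cx⁻¹)) * cx := by group
  rw [e1, e2, h4]

end Cfsg.Agent.Lib.Helper24.QBLeaf
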