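import Mathlib
import Cfsg.Prelude.Def_Solvable
import Cfsg.Agent.Lib.Helper4.CoprimeIndex

set_option autoImplicit false

namespace Cfsg.Agent.Lib.Helper24.QBLeaf

variable {G : Type*} [Group G] [Finite G]

/-- QBA2. -/
theorem exists_conj_eq_mul (x y : G)
    (hcop : (Subgroup.centralizer ({x * y} : Set G)).index.Coprime
      (Subgroup.centralizer ({y} : Set G)).index) (g : G) :
    ∃ t : G, t * x * t⁻¹ = x * (y * (g * y * g⁻¹)⁻¹) := by
  obtain ⟨t, ht, s, hs, hg⟩ :=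
    Cfsg.Agent.Lib.Helper4.forall_mul_of_coprime_index _ _ hcop g
  rw [Subgroup.mem_centralizer_singleton_iff] at ht hs
  refine ⟨t, ?_⟩
  have h1 : g * y * g⁻¹ = t * y * t⁻¹ := by
    rw [hg]
    have : t * s * y * (t * s)⁻¹ = t * (s * y) * s⁻¹ * t⁻¹ := by group
    rw [this, hs]
    group
  have h2 : t * (x * y) * t⁻¹ = x * y := by
    rw [ht]; group
  rw [h1]
  calc t * x * t⁻¹ = (t * (x * y) * t⁻¹) * (t * y * t⁻¹)⁻¹ := by group
    _ = x * y * (t * y * t⁻¹)⁻¹ := by rw [h2]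
    _ = x * (y * (t * y * t⁻¹)⁻¹) := by group

end Cfsg.Agent.Lib.Helper24.QBLeaf
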