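import Mathlib
import Cfsg.Prelude.Def_Solvable
import Cfsg.Agent.Lib.Helper4.CoprimeIndex

set_option autoImplicit false

namespace Cfsg.Agent.Lib.Helper24.QBLeaf

variable {G : Type*} [Group G] [Finite G]

/-- QBA4. -/
theorem exists_pgroup_le_centralizer_transitive (r b : ℕ) [Fact r.Prime] (x y : G)
    (hxy : (Subgroup.centralizer ({x} : Set G)).index.Coprime
      (Subgroup.centralizer ({y} : Set G)).index)
    (hyi : (Subgroup.centralizer ({y} : Set G)).index = r ^ b) :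
    ∃ R : Subgroup G, IsPGroup r R ∧ R ≤ Subgroup.centralizer ({x} : Set G) ∧
      ∀ g : G, ∃ ρ ∈ R, ρ * y * ρ⁻¹ = g * y * g⁻¹ := by
  set H : Subgroup G := Subgroup.centralizer ({x} : Set G) with hHdef
  set Cy : Subgroup G := Subgroup.centralizer ({y} : Set G) with hCydef
  have hfac := Cfsg.Agent.Lib.Helper4.forall_mul_of_coprime_index H Cy hxy
  have hrel : Cy.index = Cy.relIndex H :=
    Cfsg.Agent.Lib.Helper4.index_eq_relIndex_of_forall_mul H Cy hfac
  -- a Sylow r-subgroup of H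
  obtain ⟨P⟩ : Nonempty (Sylow r H) := inferInstance
  have hPidx : ¬ r ∣ (P : Subgroup H).index := P.not_dvd_index
  have hKidx : (Cy.subgroupOf H).index = r ^ b := by
    rw [← hyi, hrel]; rfl
  have hcop : ((P : Subgroup H).index).Coprime (Cy.subgroupOf H).index := by
    rw [hKidx]
    apply Nat.Coprime.pow_right
    exact ((Nat.Prime.coprime_iff_not_dvd (Fact.out : r.Prime)).2 hPidx).symm
  have hfacH := Cfsg.Agent.Lib.Helper4.forall_mul_of_coprime_index
    (P : Subgroup H) (Cy.subgroupOf H) hcop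
  refine ⟨(P : Subgroup H).map H.subtype, P.2.map H.subtype, Subgroup.map_subtype_le _, ?_⟩
  intro g
  obtain ⟨c, hc, s, hs, hg⟩ := hfac g
  obtain ⟨ρ, hρ, k, hk, hck⟩ := hfacH ⟨c, hc⟩
  rw [Subgroup.mem_subgroupOf, hCydef, Subgroup.mem_centralizer_singleton_iff] at hk
  rw [hCydef, Subgroup.mem_centralizer_singleton_iff] at hs
  refine ⟨(ρ : G), ⟨ρ, hρ, rfl⟩, ?_⟩
  have hc' : c = (ρ : G) * (k : G) := by
    have := congrArg (Subtype.val) hck
    simpa using this
  rw [hg, hc']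
  have e1 : (ρ : G) * (k : G) * s * y * ((ρ : G) * (k : G) * s)⁻¹
      = (ρ : G) * ((k : G) * (s * y) * s⁻¹ * (k : G)⁻¹) * (ρ : G)⁻¹ := by group
  rw [e1, hs]
  have e2 : (k : G) * (y * s) * s⁻¹ * (k : G)⁻¹ = ((k : G) * y) * (k : G)⁻¹ := by group
  rw [e2, hk]
  group

end Cfsg.Agent.Lib.Helper24.QBLeaf
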