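/- helper24: Theorem T2 of notes/bg14/NOTES_h20.md sec.13, part A: in Case II of type (P) (no faithful pair) the conclusions of S1430 hold for (M, E). Structure TypeP = helper17 CaseII + tau1 subset kappa + fixed points of E1 + prime-order elements of E1 centralize E3. -/
import Mathlib
import Cfsg.Agent.Lib.Helper17.BGC2B
import Cfsg.Agent.Lib.Helper24.BGC2CB
import Cfsg.Agent.Lib.Helper2.BGCorN

set_option autoImplicit false
set_option linter.style.haveILetI false
set_option linter.unusedSectionVars false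
open scoped commutatorElement

namespace Cfsg.Agent.Lib.Helper24.BGC2T

open Cfsg.Agent.Lib.Helper17.BGC2 (CaseII)
open Cfsg.Agent.Lib.Helper2.BGCor (sigmaCore_le primes_card_sigmaCore T142 relIndex_compl
  conj_mem_sigmaCore)
open Cfsg.Agent.Lib.Helper24.BGC2C (exists_generator_of_prime_card)

universe u

variable {G : Type u} [Group G] [Finite G] {M E E1 E3 : Subgroup G}

/-- **Type (P)** of Case II (notes sec.12/13): `τ₁(M) ⊆ κ(M)`, every non-identity element of `E₁`
has fixed points `T₃` on `M_σ`, and the elements of prime order of `E₁` centralize `E₃`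
(no faithful pair). -/
structure TypeP (M E E1 E3 : Subgroup G) : Prop where
  c : CaseII M E E1 E3
  tau1_kappa : ∀ r : ℕ, r ∈ Cfsg.tau1 M → r ∈ Cfsg.kappa M
  cent_E1 : ∀ y ∈ E1, y ≠ 1 → Cfsg.sigmaCore M ⊓ Subgroup.centralizer ({y} : Set G) =
    Cfsg.sigmaCore M ⊓ Subgroup.centralizer (E3 : Set G)
  comm_prime : ∀ y ∈ E1, (orderOf y).Prime → ∀ a ∈ E3, y * a = a * y

/-- powers of `a * b` with `b` normalizing `E₃ ∋ a`. -/
theorem exists_mul_pow {E3 : Subgroup G} {a b : G} (ha : a ∈ E3)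
    (hb : b ∈ Subgroup.normalizer (E3 : Set G)) (n : ℕ) :
    ∃ a' ∈ E3, (a * b) ^ n = a' * b ^ n := by
  induction n with
  | zero => exact ⟨1, E3.one_mem, by simp⟩
  | succ n ih =>
    obtain ⟨a', ha', h⟩ := ih
    have hbn : b ^ n ∈ Subgroup.normalizer (E3 : Set G) := Subgroup.pow_mem _ hb n
    have h1 : b ^ n * a * (b ^ n)⁻¹ ∈ E3 := (Subgroup.mem_normalizer_iff.mp hbn a).mp ha
    refine ⟨a' * (b ^ n * a * (b ^ n)⁻¹), E3.mul_mem ha' h1, ?_⟩
    rw [pow_succ, h, pow_succ]
    group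

namespace TypeP

/-- an element of prime order of `E` lies in `E₃` or in `E₁`. -/
theorem mem_E3_or_E1 (t : TypeP M E E1 E3) {e : G} (he : e ∈ E) (hep : (orderOf e).Prime) :
    e ∈ E3 ∨ e ∈ E1 := by
  obtain ⟨a, ha, b, hb, rfl⟩ := t.c.mem_E he
  set s := orderOf (a * b) with hs
  have hbN : b ∈ Subgroup.normalizer (E3 : Set G) := t.c.E_le_normE3 (t.c.hE1E hb)
  obtain ⟨a', ha', h⟩ := exists_mul_pow ha hbN s
  rw [hs, pow_orderOf_eq_one] at h
  have hbs : b ^ s = a'⁻¹ := by
    have : a'⁻¹ * 1 = a'⁻¹ * (a' * b ^ orderOf (a * b)) := by rw [h]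
    rw [mul_one, inv_mul_cancel_left] at this
    rw [hs]; exact this.symm
  have hbs1 : b ^ s = 1 := by
    have h1 : b ^ s ∈ E3 ⊓ E1 :=
      Subgroup.mem_inf.mpr ⟨hbs ▸ E3.inv_mem ha', E1.pow_mem hb s⟩
    rw [t.c.E3_inf_E1, Subgroup.mem_bot] at h1
    exact h1
  have hob : orderOf b ∣ s := orderOf_dvd_of_pow_eq_one hbs1
  rcases (Nat.dvd_prime hep).mp hob with hb1 | hbs'
  · left
    rw [orderOf_eq_one_iff.mp hb1, mul_one]
    exact ha
  · right
    have hbp : (orderOf b).Prime := hbs' ▸ hep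
    have hcomm : Commute a b := (t.comm_prime b hb hbp a ha).symm
    have h2 : (a * b) ^ s = a ^ s * b ^ s := hcomm.mul_pow s
    rw [hs, pow_orderOf_eq_one, ← hs, hbs1, mul_one] at h2
    have hoa : orderOf a ∣ s := orderOf_dvd_of_pow_eq_one h2.symm
    have hoa3 : orderOf a ∣ Nat.card E3 := by
      have := orderOf_dvd_natCard (⟨a, ha⟩ : ↥E3)
      rwa [Subgroup.orderOf_mk] at this
    have hsE1 : s ∣ Nat.card E1 := by
      have := orderOf_dvd_natCard (⟨b, hb⟩ : ↥E1)
      rwa [Subgroup.orderOf_mk, hbs'] at this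
    have h3 : orderOf a = 1 :=
      Nat.eq_one_of_dvd_coprimes t.c.coprime_E3_E1 hoa3 (hoa.trans hsE1)
    rw [orderOf_eq_one_iff.mp h3, one_mul]
    exact hb

/-- `T₃` is centralized by `E`. -/
theorem comm_T (t : TypeP M E E1 E3) {x : G}
    (hx : x ∈ Cfsg.sigmaCore M ⊓ Subgroup.centralizer (E3 : Set G)) {e : G} (he : e ∈ E) :
    e * x = x * e := by
  obtain ⟨a, ha, b, hb, rfl⟩ := t.c.mem_E he
  have h1 : a * x = x * a := Subgroup.mem_centralizer_iff.mp hx.2 a ha
  have h2 : b * x = x * b := by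
    by_cases hb1 : b = 1
    · rw [hb1, one_mul, mul_one]
    · have := hx
      rw [← t.cent_E1 b hb hb1] at this
      have h3 : x ∈ Subgroup.centralizer ({b} : Set G) := this.2
      exact (Subgroup.mem_centralizer_singleton_iff.mp h3).symm
  calc a * b * x = a * (b * x) := mul_assoc _ _ _
    _ = a * (x * b) := by rw [h2]
    _ = a * x * b := (mul_assoc _ _ _).symm
    _ = x * a * b := by rw [h1]
    _ = x * (a * b) := mul_assoc _ _ _

/-- `K* = C_{M_σ}(E) = T₃`. -/
theorem cent_E (t : TypeP M E E1 E3) :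
    Cfsg.sigmaCore M ⊓ Subgroup.centralizer (E : Set G) =
      Cfsg.sigmaCore M ⊓ Subgroup.centralizer (E3 : Set G) := by
  apply le_antisymm
  · exact inf_le_inf_left _ (Subgroup.centralizer_le t.c.hE3E)
  · intro x hx
    refine Subgroup.mem_inf.mpr ⟨hx.1, ?_⟩
    rw [Subgroup.mem_centralizer_iff]
    intro e he
    exact t.comm_T hx he

/-- **prime action of `E`**: `C_{M_σ}(e) = T₃` for every `e ∈ E^#`. -/
theorem cent_elem (t : TypeP M E E1 E3) {e : G} (he : e ∈ E) (he1 : e ≠ 1) :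
    Cfsg.sigmaCore M ⊓ Subgroup.centralizer ({e} : Set G) =
      Cfsg.sigmaCore M ⊓ Subgroup.centralizer (E3 : Set G) := by
  apply le_antisymm
  · obtain ⟨j, hj⟩ := Cfsg.Agent.Lib.Helper2.BGCor.exists_pow_prime_order he1
    rw [Nat.card_zpowers] at hj
    have hej : e ^ j ∈ E := E.pow_mem he j
    have hej1 : e ^ j ≠ 1 := by
      intro h
      rw [h, orderOf_one] at hj
      exact Nat.not_prime_one hj
    have hle : Cfsg.sigmaCore M ⊓ Subgroup.centralizer ({e} : Set G) ≤
        Cfsg.sigmaCore M ⊓ Subgroup.centralizer ({e ^ j} : Set G) := by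
      intro x hx
      refine Subgroup.mem_inf.mpr ⟨hx.1, ?_⟩
      rw [Subgroup.mem_centralizer_singleton_iff]
      have h3 : x ∈ Subgroup.centralizer ({e} : Set G) := hx.2
      have : Commute x e := Subgroup.mem_centralizer_singleton_iff.mp h3
      exact (this.pow_right j).eq
    rcases t.mem_E3_or_E1 hej hj with h3 | h1
    · exact hle.trans (t.c.cent_E3 h3 hej1).le
    · exact hle.trans (t.cent_E1 _ h1 hej1).le
  · intro x hx
    refine Subgroup.mem_inf.mpr ⟨hx.1, ?_⟩
    rw [Subgroup.mem_centralizer_singleton_iff]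
    exact (t.comm_T hx he).symm

/-- every subgroup of prime order of `E` is normal in `E`. -/
theorem le_normalizer_prime (t : TypeP M E E1 E3) {X : Subgroup G} (hXE : X ≤ E)
    (hXp : (Nat.card X).Prime) : E ≤ Subgroup.normalizer (X : Set G) := by
  obtain ⟨y, hyX, hy1, hyo, hyz⟩ := exists_generator_of_prime_card hXp rfl
  rcases t.mem_E3_or_E1 (hXE hyX) (hyo ▸ hXp) with h3 | h1
  · apply t.c.E_le_normalizer
    rw [← hyz]
    exact Subgroup.zpowers_le.mpr h3
  · refine le_trans ?_ (Subgroup.centralizer_le_normalizer _)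
    intro e he
    rw [Subgroup.mem_centralizer_iff]
    intro x hx
    rw [← hyz] at hx
    obtain ⟨k, rfl⟩ := Subgroup.mem_zpowers_iff.mp hx
    obtain ⟨a, ha, b, hb, rfl⟩ := t.c.mem_E he
    have hya : Commute y a := t.comm_prime y h1 (hyo ▸ hXp) a ha
    have hyb : Commute y b := t.c.E1_comm y h1 b hb
    exact ((hya.mul_right hyb).zpow_left k).eq

/-- every prime divisor of `|E|` lies in `κ(M)`. -/
theorem kappa_of_dvd (t : TypeP M E E1 E3) {p : ℕ} (hp : p.Prime) (hd : p ∣ Nat.card E) :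
    p ∈ Cfsg.kappa M := by
  rcases t.c.tau1_or_tau3 hp hd with h | h
  · exact t.tau1_kappa p h
  · exact t.c.tau3_subset_kappa h

/-- `E` is a Hall `κ(M)`-subgroup of `M`. -/
theorem isPiHallOf_kappa (t : TypeP M E E1 E3) : Cfsg.IsPiHallOf (Cfsg.kappa M) E M := by
  refine ⟨t.c.hEM, fun p hp hd => t.kappa_of_dvd hp hd, ?_⟩
  intro p hp hpκ hd
  rw [relIndex_compl t.c.hE] at hd
  exact hpκ.2.2.1 (primes_card_sigmaCore M p hp hd)

/-- a Hall `κ(M)`-subgroup of `M` inside `E` is `E`. -/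
theorem eq_of_hall_le (t : TypeP M E E1 E3) {K : Subgroup G}
    (hK : Cfsg.IsPiHallOf (Cfsg.kappa M) K M) (hKE : K ≤ E) : K = E := by
  apply le_antisymm hKE
  rw [← Subgroup.relIndex_eq_one]
  by_contra hne
  obtain ⟨p, hp, hpd⟩ := Nat.exists_prime_and_dvd hne
  have h1 : K.relIndex E ∣ K.relIndex M := by
    rw [← Subgroup.relIndex_mul_relIndex K E M hKE t.c.hEM]
    exact dvd_mul_right _ _
  have h2 : p ∣ Nat.card E := hpd.trans (Subgroup.relIndex_dvd_card K E)
  exact hK.2.2 p hp (t.kappa_of_dvd hp h2) (hpd.trans h1)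

end TypeP

/-! ### normalizers in `M` of subgroups of a complement -/

/-- `E` a complement of `M_σ`, `X ≤ E`: `N_M(X) ≤ E C_{M_σ}(X)` as soon as `E ≤ N(X)`. -/
theorem inf_normalizer_le {M E X : Subgroup G} (hE : Cfsg.IsComplIn E (Cfsg.sigmaCore M) M)
    (hXE : X ≤ E) (hEN : E ≤ Subgroup.normalizer (X : Set G)) :
    M ⊓ Subgroup.normalizer (X : Set G) ≤
      E ⊔ (Cfsg.sigmaCore M ⊓ Subgroup.centralizer (X : Set G)) := by
  intro n hn
  obtain ⟨a, ha, b, hb, rfl⟩ := hE.2.2.2 n hn.1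
  have hbN : b ∈ Subgroup.normalizer (X : Set G) := by
    have : b = a⁻¹ * (a * b) := by group
    rw [this]
    exact Subgroup.mul_mem _ (Subgroup.inv_mem _ (hEN ha)) hn.2
  have hbC : b ∈ Subgroup.centralizer (X : Set G) := by
    rw [Subgroup.mem_centralizer_iff]
    intro x hx
    have h1 : b * x * b⁻¹ * x⁻¹ ∈ X :=
      X.mul_mem ((Subgroup.mem_normalizer_iff.mp hbN x).mp hx) (X.inv_mem hx)
    have h2 : b * x * b⁻¹ * x⁻¹ ∈ Cfsg.sigmaCore M := by
      have h3 : x * b⁻¹ * x⁻¹ ∈ Cfsg.sigmaCore M :=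
        conj_mem_sigmaCore (hE.1 (hXE hx)) (Subgroup.inv_mem _ hb)
      have e : b * x * b⁻¹ * x⁻¹ = b * (x * b⁻¹ * x⁻¹) := by group
      rw [e]
      exact Subgroup.mul_mem _ hb h3
    have h4 : b * x * b⁻¹ * x⁻¹ ∈ E ⊓ Cfsg.sigmaCore M := Subgroup.mem_inf.mpr ⟨hXE h1, h2⟩
    rw [hE.2.2.1, Subgroup.mem_bot] at h4
    calc x * b = (b * x * b⁻¹ * x⁻¹)⁻¹ * (b * x) := by group
      _ = b * x := by rw [h4, inv_one, one_mul]
  exact Subgroup.mul_mem _ (Subgroup.mem_sup_left ha)
    (Subgroup.mem_sup_right (Subgroup.mem_inf.mpr ⟨hb, hbC⟩))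

/-- **Theorem T2, part S1430**: in Case II of type (P) the conclusions of S1430 hold for `(M, E)`. -/
theorem t142_of_typeP (t : TypeP M E E1 E3) : T142 M E := by
  have hG := t.c.hG
  have hM := t.c.hM
  have hE := t.c.hE
  refine ⟨?_, ?_, ?_⟩
  · intro k hk hk1
    rw [t.cent_elem hk hk1, t.cent_E]
  · refine ⟨⊥, ?_, ⟨bot_le, ?_, ?_⟩, ?_, ?_⟩
    · exact ⟨⟨fun a b => by
        have ha : a = 1 := Subsingleton.elim _ _
        have hb : b = 1 := Subsingleton.elim _ _
        rw [ha, hb]⟩⟩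
    · intro p hp hd
      rw [Subgroup.card_bot] at hd
      exact absurd (Nat.dvd_one.mp hd) hp.ne_one
    · intro p hp hpπ hd
      rw [Subgroup.relIndex_bot_left] at hd
      have hpE : p ∣ Nat.card E :=
        Cfsg.Agent.Lib.Helper2.BGCor.dvd_card_compl hE hp hd hpπ.2.2
      exact hpπ.2.1 (t.kappa_of_dvd hp hpE)
    · intro k _
      rw [Subgroup.mem_normalizer_iff]
      intro x
      simp only [Subgroup.mem_bot]
      constructor
      · rintro rfl; group
      · intro h
        have : x = k⁻¹ * (k * x * k⁻¹) * k := by group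
        rw [this, h]; group
    · intro k _ _
      exact bot_inf_eq _
  · intro X hXE hXp
    have hKst : Cfsg.sigmaCore M ⊓ Subgroup.centralizer (E : Set G) ≤ M :=
      inf_le_left.trans (sigmaCore_le M)
    obtain ⟨y, hyX, hy1, hyo, hyz⟩ := exists_generator_of_prime_card hXp rfl
    have hcX : Cfsg.sigmaCore M ⊓ Subgroup.centralizer (X : Set G) =
        Cfsg.sigmaCore M ⊓ Subgroup.centralizer (E : Set G) := by
      rw [← Cfsg.Agent.Lib.Helper24.BG36Nab.centralizer_singleton_eq_of_prime_card hXp hyX hy1,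
        t.cent_elem (hXE hyX) hy1, t.cent_E]
    refine ⟨?_, ?_, ?_⟩
    · apply le_antisymm
      · rw [← hcX]
        exact inf_normalizer_le hE hXE (t.le_normalizer_prime hXE hXp)
      · apply sup_le
        · exact le_inf t.c.hEM (t.le_normalizer_prime hXE hXp)
        · refine le_inf hKst ?_
          exact (inf_le_right.trans (Subgroup.centralizer_le hXE)).trans
            (Subgroup.centralizer_le_normalizer _)
    · apply le_antisymm
      · exact inf_normalizer_le hE le_rfl Subgroup.le_normalizer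
      · apply sup_le
        · exact le_inf t.c.hEM Subgroup.le_normalizer
        · exact le_inf hKst (inf_le_right.trans (Subgroup.centralizer_le_normalizer _))
    · intro Mstar hMstar hN
      apply Cfsg.Agent.Lib.Helper17.BGC2.corG1 hG t.c.h28 hM X (hXE.trans t.c.hEM) _ Mstar hMstar hN
      exact t.kappa_of_dvd hXp (Subgroup.card_dvd_of_le hXE)

end Cfsg.Agent.Lib.Helper24.BGC2T
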