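/- helper24: Theorem T2 of notes/bg14/NOTES_h20.md sec.13, part B: in Case II of type (P) the conclusions of S1431 hold for (M, E) (C1431 = verbatim conclusion of frozen S1431). -/
import Mathlib
import Cfsg.Agent.Lib.Helper24.BGC2TA
import Cfsg.Agent.S1425

set_option autoImplicit false
set_option linter.style.haveILetI false
set_option linter.unusedSectionVars false
open scoped commutatorElement

namespace Cfsg.Agent.Lib.Helper24.BGC2T

open Cfsg.Agent.Lib.Helper17.BGC2 (CaseII)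
open Cfsg.Agent.Lib.Helper2.BGCor (sigmaCore_le primes_card_sigmaCore T142 relIndex_compl
  conj_mem_sigmaCore)
open Cfsg.Agent.Lib.Helper24.BGC2C (exists_generator_of_prime_card)
open Cfsg.Agent.Lib.Helper8 (mem_map_conj conj_mem_map_conj map_conj_map_conj map_conj_one
  map_conj_le_iff map_conj_eq_iff card_map_conj mem_normalizer_iff_map_conj)

universe u

variable {G : Type u} [Group G] [Finite G] {M E E1 E3 : Subgroup G}

/-- the conclusion of S1431 for `(M, K)`. -/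
def C1431 (M K : Subgroup G) : Prop :=
  (∀ g : G, g ∉ M → (Cfsg.sigmaCore M ⊓ Subgroup.centralizer (K : Set G)) ⊓
      M.map (MulAut.conj g).toMonoidHom = ⊥) ∧
    (∀ g ∈ M, g ∉ K ⊔ (Cfsg.sigmaCore M ⊓ Subgroup.centralizer (K : Set G)) →
      K ⊓ K.map (MulAut.conj g).toMonoidHom = ⊥) ∧
    (∀ (p : ℕ), p.Prime →
      p ∣ Nat.card ↥(Cfsg.sigmaCore M ⊓ Subgroup.centralizer (K : Set G)) →
      ∀ S : Sylow p ↥(Cfsg.sigmaCore M),
        Cfsg.InUniqueMaximal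
          ((S : Subgroup ↥(Cfsg.sigmaCore M)).map (Cfsg.sigmaCore M).subtype) ∧
        (S : Subgroup ↥(Cfsg.sigmaCore M)).map (Cfsg.sigmaCore M).subtype ≤ M ∧
        ¬ (S : Subgroup ↥(Cfsg.sigmaCore M)).map (Cfsg.sigmaCore M).subtype ≤
          (Cfsg.sigmaCore M ⊓ Subgroup.centralizer (K : Set G))) ∧
    ∀ Y : Subgroup G, (∀ p : ℕ, p.Prime → p ∣ Nat.card Y → p ∈ Cfsg.sigma M) →
      Y ⊓ (Cfsg.sigmaCore M ⊓ Subgroup.centralizer (K : Set G)) ≠ ⊥ → Y ≤ Cfsg.sigmaCore M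

/-- S1431(a) for a complement `E`: `C_{M_σ}(E) ∩ M^g = 1` for `g ∉ M` (S1426). -/
theorem kstar_inf_conj (hG : Cfsg.IsMinSimpleOddOrder G) (hM : IsCoatom M)
    (hE : Cfsg.IsComplIn E (Cfsg.sigmaCore M) M) {g : G} (hg : g ∉ M) :
    (Cfsg.sigmaCore M ⊓ Subgroup.centralizer (E : Set G)) ⊓
      M.map (MulAut.conj g).toMonoidHom = ⊥ := by
  obtain ⟨h1, -, h3⟩ := Cfsg.Agent.S1426.result hG M hM E hE
  rw [eq_bot_iff, ← (h3 g hg).2.2]
  intro x hx
  exact Subgroup.mem_inf.mpr ⟨Subgroup.mem_inf.mpr ⟨hx.1.1, hx.2⟩, h1 hx.1⟩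

/-- S1431(d) from (a) and S1425. -/
theorem le_sigmaCore_of_inf_kstar (hG : Cfsg.IsMinSimpleOddOrder G) (hM : IsCoatom M)
    {Kst : Subgroup G}
    (ha : ∀ g : G, g ∉ M → Kst ⊓ M.map (MulAut.conj g).toMonoidHom = ⊥)
    {Y : Subgroup G} (hY : ∀ p : ℕ, p.Prime → p ∣ Nat.card Y → p ∈ Cfsg.sigma M)
    (hYK : Y ⊓ Kst ≠ ⊥) : Y ≤ Cfsg.sigmaCore M := by
  have hY1 : Y ≠ ⊥ := by
    rintro rfl
    exact hYK (bot_inf_eq _)
  obtain ⟨g, hg⟩ := Cfsg.Agent.S1425.result hG M hM Y hY1 hY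
  obtain ⟨z, hz, hz1⟩ := (Subgroup.bot_or_exists_ne_one _).resolve_left hYK
  have hgM : g⁻¹ ∈ M := by
    by_contra hgM
    have h1 := ha g⁻¹ hgM
    have h2 : z ∈ Kst ⊓ M.map (MulAut.conj g⁻¹).toMonoidHom := by
      refine Subgroup.mem_inf.mpr ⟨hz.2, ?_⟩
      rw [mem_map_conj]
      have h3 : g * z * g⁻¹ ∈ Cfsg.sigmaCore M := hg ⟨z, hz.1, by simp⟩
      simpa using sigmaCore_le M h3
    rw [h1, Subgroup.mem_bot] at h2
    exact hz1 h2
  intro y hy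
  have h3 : g * y * g⁻¹ ∈ Cfsg.sigmaCore M := hg ⟨y, hy, by simp⟩
  have h4 := conj_mem_sigmaCore hgM h3
  have e : g⁻¹ * (g * y * g⁻¹) * g⁻¹⁻¹ = y := by group
  rwa [e] at h4

/-- a Sylow `q`-subgroup of `M_σ`, `q ∈ α(M)`, is not centralized by an `α(M)'`-subgroup `X` of `M`
whose centralizer in `M` lies in two maximal subgroups (S1406). -/
theorem not_sylow_le_centralizer (hG : Cfsg.IsMinSimpleOddOrder G) (hM : IsCoatom M) {q : ℕ}
    [Fact q.Prime] (hqα : q ∈ Cfsg.alpha M) (Q : Sylow q ↥(Cfsg.sigmaCore M)) {X : Subgroup G}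
    (hXM : X ≤ M) (hXα : ∀ p : ℕ, p.Prime → p ∣ Nat.card X → p ∉ Cfsg.alpha M)
    (hnu : ¬ Cfsg.InUniqueMaximal (M ⊓ Subgroup.centralizer (X : Set G))) :
    ¬ (Q : Subgroup ↥(Cfsg.sigmaCore M)).map (Cfsg.sigmaCore M).subtype ≤
      Subgroup.centralizer (X : Set G) := by
  intro hQX
  have hqp : q.Prime := Fact.out
  have hU : Cfsg.Agent.Lib.Helper1.BGX.UT G :=
    fun K hK h2 h3 => Cfsg.Agent.S1403.result hG K hK h2 h3
  have hqσ : q ∈ Cfsg.sigma M := Cfsg.Agent.Lib.Helper1.BGX.alpha_subset_sigma hG hU hM hqα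
  have hrk : Cfsg.RankLE 1 ↥(Cfsg.alphaCore M ⊓ Subgroup.centralizer (X : Set G)) := by
    by_contra hr
    exact hnu (Cfsg.Agent.S1406.result hG M hM X hXM hXα hr)
  obtain ⟨A, hAM, hAc, hAe, hAcard⟩ := Cfsg.Agent.Lib.Helper17.BGU.exists_elemAb_of_not_pRankLE hqα.2
  have hAp : IsPGroup q A := by
    intro a
    refine ⟨1, ?_⟩
    rw [pow_one]
    exact Subtype.ext (by simpa using hAe a.1 a.2)
  have hAσ : A ≤ Cfsg.sigmaCore M :=
    Cfsg.Agent.Lib.Helper16.BGPrim.le_sigmaCore_of_isPGroup hG hM hqσ hAp hAM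
  have hnr : ¬ Cfsg.PRankLE q 2 ↥(Cfsg.sigmaCore M) :=
    Cfsg.Agent.Lib.Helper17.BGU.not_pRankLE_of_elemAb hAσ hAc hAe hAcard
  have hex : ∃ B : Subgroup ↥(Cfsg.sigmaCore M), B ≤ (Q : Subgroup ↥(Cfsg.sigmaCore M)) ∧
      IsMulCommutative B ∧ (∀ a ∈ B, a ^ q = 1) ∧ q ^ 2 < Nat.card B := by
    by_contra hno
    push Not at hno
    exact hnr (Cfsg.Agent.Lib.Helper17.BGU.pRankLE_of_sylow Q
      (fun B hBQ hBc hBe => hno B hBQ hBc hBe))
  obtain ⟨B, hBQ, hBc, hBe, hBcard⟩ := hex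
  set B' : Subgroup G := B.map (Cfsg.sigmaCore M).subtype with hB'
  have hB'σ : B' ≤ Cfsg.sigmaCore M := Subgroup.map_subtype_le _
  have hB'p : IsPGroup q B' := (Q.isPGroup'.to_le hBQ).map _
  have hB'α : B' ≤ Cfsg.alphaCore M :=
    Cfsg.Agent.Lib.Helper27.BG134.le_alphaCore_of_isPGroup hG hM hqα (hB'σ.trans (sigmaCore_le M))
      hB'p
  have hB'X : B' ≤ Subgroup.centralizer (X : Set G) :=
    (Subgroup.map_mono hBQ).trans hQX
  have hB'c : ∀ a ∈ B', ∀ b ∈ B', a * b = b * a := by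
    rintro _ ⟨a, ha, rfl⟩ _ ⟨b, hb, rfl⟩
    have := hBc.is_comm.comm (⟨a, ha⟩ : B) ⟨b, hb⟩
    have h2 := congrArg (fun z : B => ((z : ↥(Cfsg.sigmaCore M)) : G)) this
    simpa using h2
  have hB'e : ∀ a ∈ B', a ^ q = 1 := by
    rintro _ ⟨a, ha, rfl⟩
    have := hBe a ha
    have h2 := congrArg (fun z : ↥(Cfsg.sigmaCore M) => (z : G)) this
    simpa using h2
  have hB'card : q < Nat.card B' := by
    rw [hB', Subgroup.card_subtype]
    calc q = q ^ 1 := (pow_one q).symm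
      _ < q ^ 2 := Nat.pow_lt_pow_right hqp.one_lt (by norm_num)
      _ < Nat.card B := hBcard
  exact Cfsg.Agent.Lib.Helper17.BGU.not_rankLE_one_of_elemAb hqp (le_inf hB'α hB'X) hB'c hB'e
    hB'card hrk

namespace TypeP

/-- S1431(b): `E ∩ E^g = 1` for `g ∈ M` outside `E K*`. -/
theorem compl_inf_conj (t : TypeP M E E1 E3) {g : G} (hgM : g ∈ M)
    (hg : g ∉ E ⊔ (Cfsg.sigmaCore M ⊓ Subgroup.centralizer (E : Set G))) :
    E ⊓ E.map (MulAut.conj g).toMonoidHom = ⊥ := by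
  rw [eq_bot_iff]
  intro z hz
  rw [Subgroup.mem_bot]
  by_contra hz1
  apply hg
  obtain ⟨a, ha, m, hm, rfl⟩ := t.c.hE.2.2.2 g hgM
  obtain ⟨w, hw, hwz⟩ := hz.2
  have hwz' : a * m * w * (a * m)⁻¹ = z := hwz
  have hw1 : w ≠ 1 := by
    rintro rfl
    apply hz1
    rw [← hwz']; group
  -- `z' = m w m⁻¹ ∈ E`
  have hz' : m * w * m⁻¹ ∈ E := by
    have e : m * w * m⁻¹ = a⁻¹ * z * a := by rw [← hwz']; group
    rw [e]
    exact E.mul_mem (E.mul_mem (E.inv_mem ha) hz.1) ha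
  have h1 : m * w * m⁻¹ * w⁻¹ ∈ E := E.mul_mem hz' (E.inv_mem hw)
  have h2 : m * w * m⁻¹ * w⁻¹ ∈ Cfsg.sigmaCore M := by
    have h3 : w * m⁻¹ * w⁻¹ ∈ Cfsg.sigmaCore M :=
      conj_mem_sigmaCore (t.c.hEM hw) (Subgroup.inv_mem _ hm)
    have e : m * w * m⁻¹ * w⁻¹ = m * (w * m⁻¹ * w⁻¹) := by group
    rw [e]
    exact Subgroup.mul_mem _ hm h3
  have h4 : m * w * m⁻¹ * w⁻¹ ∈ E ⊓ Cfsg.sigmaCore M := Subgroup.mem_inf.mpr ⟨h1, h2⟩
  rw [t.c.hE.2.2.1, Subgroup.mem_bot] at h4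
  have hmw : m * w = w * m := by
    calc m * w = (m * w * m⁻¹ * w⁻¹) * (w * m) := by group
      _ = w * m := by rw [h4, one_mul]
  have hmT : m ∈ Cfsg.sigmaCore M ⊓ Subgroup.centralizer (E : Set G) := by
    rw [t.cent_E, ← t.cent_elem hw hw1]
    refine Subgroup.mem_inf.mpr ⟨hm, ?_⟩
    rw [Subgroup.mem_centralizer_singleton_iff]
    exact hmw
  exact Subgroup.mul_mem _ (Subgroup.mem_sup_left ha) (Subgroup.mem_sup_right hmT)

/-- `σ(M) = β(M)` in type (P). -/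
theorem sigma_subset_beta (t : TypeP M E E1 E3) : ∀ q : ℕ, q ∈ Cfsg.sigma M → q ∈ Cfsg.beta M := by
  apply Cfsg.Agent.Lib.Helper24.BGC2C.sigma_subset_beta t.c.hG t.c.hM t.c.hE t.c.E3_le_commutator
  rw [← t.cent_E]
  exact (Cfsg.Agent.S1426.result t.c.hG M t.c.hM E t.c.hE).1

/-- **Theorem T2, part S1431**: in Case II of type (P) the conclusions of S1431 hold for
`(M, E)`. -/
theorem c1431 (t : TypeP M E E1 E3) : C1431 M E := by
  have hG := t.c.hG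
  have hM := t.c.hM
  have hE := t.c.hE
  haveI : IsSimpleGroup G := hG.2.1
  refine ⟨fun g hg => kstar_inf_conj hG hM hE hg, fun g hgM hg => t.compl_inf_conj hgM hg, ?_, ?_⟩
  · intro p hp hpd S
    haveI : Fact p.Prime := ⟨hp⟩
    have hpσ : p ∈ Cfsg.sigma M :=
      primes_card_sigmaCore M p hp (hpd.trans (Subgroup.card_dvd_of_le inf_le_left))
    have hpβ : p ∈ Cfsg.beta M := t.sigma_subset_beta p hpσ
    obtain ⟨x, hxo⟩ := exists_prime_orderOf_dvd_card' p hpd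
    have hxM : (x : G) ∈ M := sigmaCore_le M x.2.1
    have hXc : Nat.card (Subgroup.zpowers (x : G)) = p := by
      rw [Nat.card_zpowers, Subgroup.orderOf_coe, hxo]
    obtain ⟨-, h2, h3⟩ := Cfsg.Agent.S1423.result hG M hM p hpσ (Subgroup.zpowers (x : G))
      (Subgroup.zpowers_le.mpr hxM) hXc S (Or.inl hpβ)
    refine ⟨h2, h3, ?_⟩
    intro hSK
    -- a subgroup `X₃ ≤ E₃` of prime order and a maximal subgroup `H ⊇ N_G(X₃)`
    obtain ⟨k, hk, hkp, hkτ⟩ := t.c.exists_prime_order_E3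
    haveI : Fact (orderOf k).Prime := ⟨hkp⟩
    have hX3 : Subgroup.zpowers k ≤ E3 := Subgroup.zpowers_le.mpr hk
    have hX3c : Nat.card (Subgroup.zpowers k) = orderOf k := Nat.card_zpowers k
    have hX3M : Subgroup.zpowers k ≤ M := (hX3.trans t.c.hE3E).trans t.c.hEM
    have hX31 : Subgroup.zpowers k ≠ ⊥ := Cfsg.Agent.Lib.Helper17.BGC2.CaseII.X_ne_bot hX3c
    have hX3top : Subgroup.zpowers k ≠ ⊤ := fun h => hM.1 (top_le_iff.mp (h ▸ hX3M))
    obtain ⟨H, hH, hNH⟩ := Cfsg.Agent.Lib.Helper17.BGU.exists_coatom_ge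
      (Cfsg.Agent.Lib.Helper17.BGU.normalizer_ne_top hX31 hX3top)
    have hnc := t.c.nonconj_H hX3 hX3c hH hNH
    have hHM : H ≠ M := by
      intro h
      apply hnc 1
      rw [map_conj_one, h]
    have hnu : ¬ Cfsg.InUniqueMaximal (M ⊓ Subgroup.centralizer ((Subgroup.zpowers k : Subgroup G) :
        Set G)) := by
      rintro ⟨N, -, hN⟩
      have h1 := hN M ⟨hM, inf_le_left⟩
      have h2 := hN H ⟨hH, inf_le_right.trans ((Subgroup.centralizer_le_normalizer _).trans hNH)⟩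
      exact hHM (h2.trans h1.symm)
    have hU : Cfsg.Agent.Lib.Helper1.BGX.UT G :=
      fun K hK h2 h3 => Cfsg.Agent.S1403.result hG K hK h2 h3
    have hXα : ∀ r : ℕ, r.Prime → r ∣ Nat.card (Subgroup.zpowers k) → r ∉ Cfsg.alpha M := by
      intro r hr hd hrα
      rw [hX3c] at hd
      rw [(Nat.prime_dvd_prime_iff_eq hr hkp).mp hd] at hrα
      exact hkτ.2.1 (Cfsg.Agent.Lib.Helper1.BGX.alpha_subset_sigma hG hU hM hrα)
    apply not_sylow_le_centralizer hG hM hpβ.1 S hX3M hXα hnu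
    refine hSK.trans (inf_le_right.trans ?_)
    exact Subgroup.centralizer_le (hX3.trans t.c.hE3E)
  · intro Y hY hYK
    exact le_sigmaCore_of_inf_kstar hG hM (fun g hg => kstar_inf_conj hG hM hE hg) hY hYK

end TypeP

end Cfsg.Agent.Lib.Helper24.BGC2T
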