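/- helper24: Theorem T2 of notes/bg14/NOTES_h20.md sec.13, part C: glue. typeP_of_not_faithful (helper17 CaseII without FaithfulPair is TypeP), caseII_of_compl, and t2: S1430 and S1431 conclusions for every Hall kappa(M)-subgroup K when M has a prime in kappa cap tau3 and type (F) is impossible. -/
import Mathlib
import Cfsg.Agent.Lib.Helper24.BGC2TB
import Cfsg.Agent.Lib.Helper17.BGC2E
import Cfsg.Agent.Lib.Helper2.BGCorK

set_option autoImplicit false
set_option linter.style.haveILetI false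
set_option linter.unusedSectionVars false
open scoped commutatorElement

namespace Cfsg.Agent.Lib.Helper24.BGC2T

open Cfsg.Agent.Lib.Helper17.BGC2 (CaseII FaithfulPair forall_comm_of_not_faithfulPair)
open Cfsg.Agent.Lib.Helper17.BGR2 (H1428)
open Cfsg.Agent.Lib.Helper2.BGCor (T142)

universe u

variable {G : Type u} [Group G] [Finite G] {M E E1 E3 : Subgroup G}

/-- Case II without a faithful pair is of type (P). -/
theorem typeP_of_not_faithful (h : CaseII M E E1 E3) (hnf : ¬ FaithfulPair E1 E3) :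
    TypeP M E E1 E3 where
  c := h
  tau1_kappa := fun _ hr => h.tau1_subset_kappa hr
  cent_E1 := fun y hy hy1 => by rw [h.cent_E1 hy hy1, h.T1_eq_T3_of_no_faithful hnf]
  comm_prime := fun y hy hyo a ha =>
    h.central_of_no_faithful (forall_comm_of_not_faithfulPair hnf) hy hyo a (h.hE3E ha)

/-- Case II for a prescribed complement `E` and prescribed Hall subgroups `E₁`, `E₃`
(same proof as helper17's `exists_caseII`). -/
theorem caseII_of_compl (hG : Cfsg.IsMinSimpleOddOrder G) (h28 : H1428 G) (hM : IsCoatom M)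
    {s : ℕ} (hsκ : s ∈ Cfsg.kappa M) (hs3 : s ∈ Cfsg.tau3 M)
    (hE : Cfsg.IsComplIn E (Cfsg.sigmaCore M) M) (hE1 : Cfsg.IsPiHallOf (Cfsg.tau1 M) E1 E)
    (hE3 : Cfsg.IsPiHallOf (Cfsg.tau3 M) E3 E) : CaseII M E E1 E3 := by
  have hsp : s.Prime := hsκ.1
  haveI : Fact s.Prime := ⟨hsp⟩
  have hsE : s ∣ Nat.card E :=
    Cfsg.Agent.Lib.Helper2.BGCor.dvd_card_compl hE hsp hsκ.2.1 hsκ.2.2.1
  have hsE3 : s ∣ Nat.card E3 := by
    have h2 : Nat.card E3 * E3.relIndex E = Nat.card E := by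
      have := (E3.subgroupOf E).card_mul_index
      rwa [Cfsg.Agent.Lib.Helper1.card_subgroupOf_of_le hE3.1] at this
    rw [← h2] at hsE
    exact ((Nat.Prime.dvd_mul hsp).mp hsE).resolve_right (hE3.2.2 s hsp hs3)
  obtain ⟨z, hz⟩ := exists_prime_orderOf_dvd_card' s hsE3
  have hzo : orderOf (z : G) = s := by rw [Subgroup.orderOf_coe, hz]
  have hz1 : (z : G) ≠ 1 := by
    intro h1
    rw [h1, orderOf_one] at hzo
    exact hsp.one_lt.ne hzo
  have hE3ne : E3 ≠ ⊥ := by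
    intro h0
    have h1 : (z : G) ∈ (⊥ : Subgroup G) := h0 ▸ z.2
    exact hz1 (Subgroup.mem_bot.mp h1)
  obtain ⟨y, hy, hy1, hzy⟩ :=
    Cfsg.Agent.Lib.Helper2.BGCor.kappa_cent hsκ (hE.1 (hE3.1 z.2)) hzo
  have h3b := Cfsg.Agent.Lib.Helper16.BGPrim.thm13_3_b hG
    (Cfsg.Agent.Lib.Helper24.BGReg.h17n hG) (Cfsg.Agent.Lib.Helper24.BGReg.h18a hG)
    (Cfsg.Agent.Lib.Helper24.BGReg.h23 hG) (Cfsg.Agent.Lib.Helper24.BGReg.h24 hG)
    hM hE hE3 (z : G) z.2 hz1
  refine ⟨hG, h28, hM, hE, hE1, hE3, hE3ne, ?_⟩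
  intro h0
  apply hy1
  have : y ∈ Cfsg.sigmaCore M ⊓ Subgroup.centralizer ({(z : G)} : Set G) := by
    refine Subgroup.mem_inf.mpr ⟨hy, ?_⟩
    rw [Subgroup.mem_centralizer_singleton_iff]
    exact hzy.symm
  rw [h3b, h0, Subgroup.mem_bot] at this
  exact this

/-- **Theorem T2** (final form): let `M` have a prime in `κ(M) ∩ τ₃(M)` and suppose that no Case II
configuration of `M` has a faithful pair (type (F) is impossible).  Then the conclusions of S1430
and S1431 hold for every Hall `κ(M)`-subgroup `K` of `M`. -/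
theorem t2 (hG : Cfsg.IsMinSimpleOddOrder G) (h28 : H1428 G) (hM : IsCoatom M)
    {s : ℕ} (hsκ : s ∈ Cfsg.kappa M) (hs3 : s ∈ Cfsg.tau3 M)
    (hF : ∀ E E1 E3 : Subgroup G, CaseII M E E1 E3 → FaithfulPair E1 E3 → False)
    {K : Subgroup G} (hK : Cfsg.IsPiHallOf (Cfsg.kappa M) K M) : T142 M K ∧ C1431 M K := by
  obtain ⟨E, hE, hKE⟩ := Cfsg.Agent.Lib.Helper2.BGCor.exists_compl_ge_kappa hG hM hK
  haveI : Group.IsSolvable ↥M := hG.2.2.2 M hM.1
  haveI : Group.IsSolvable ↥E :=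
    Group.isSolvable_of_isSolvable_injective (Subgroup.inclusion_injective hE.1)
  have hbot : ∀ π : Set ℕ, ∀ p : ℕ, p.Prime → p ∣ Nat.card (⊥ : Subgroup G) → p ∈ π := by
    intro π p hp hd
    rw [Subgroup.card_bot] at hd
    exact absurd (Nat.dvd_one.mp hd) hp.one_lt.ne'
  obtain ⟨E1, hE1, -⟩ := Cfsg.Agent.Lib.Helper16.BGPrim.exists_hall_ge' (Cfsg.tau1 M)
    (bot_le : (⊥ : Subgroup G) ≤ E) (hbot _)
  obtain ⟨E3, hE3, -⟩ := Cfsg.Agent.Lib.Helper16.BGPrim.exists_hall_ge' (Cfsg.tau3 M)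
    (bot_le : (⊥ : Subgroup G) ≤ E) (hbot _)
  have c := caseII_of_compl hG h28 hM hsκ hs3 hE hE1 hE3
  have hnf : ¬ FaithfulPair E1 E3 := fun hf => hF E E1 E3 c hf
  have t := typeP_of_not_faithful c hnf
  have hKeq : K = E := t.eq_of_hall_le hK hKE
  rw [hKeq]
  exact ⟨t142_of_typeP t, t.c1431⟩

end Cfsg.Agent.Lib.Helper24.BGC2T
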