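/- helper24: unit [C] of the MAIN CLAIM, part C: C6 = type (F-alpha) is impossible (helper2 lemmaF_alpha + S1406 + C2): in Case II no faithful pair (X, x) has x centralizing T3. -/
import Mathlib
import Cfsg.Agent.Lib.Helper24.BGC2TB
import Cfsg.Agent.Lib.Helper17.BGC2E
import Cfsg.Agent.Lib.Helper2.BGCorV

set_option autoImplicit false
set_option linter.style.haveILetI false
set_option linter.unusedSectionVars false
open scoped commutatorElement

namespace Cfsg.Agent.Lib.Helper24.BGC2C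

open Cfsg.Agent.Lib.Helper17.BGC2 (CaseII FaithfulPair)
open Cfsg.Agent.Lib.Helper2.BGCor (sigmaCore_le primes_card_sigmaCore)
open Cfsg.Agent.Lib.Helper8 (mem_map_conj conj_mem_map_conj map_conj_map_conj map_conj_one
  map_conj_le_iff map_conj_eq_iff card_map_conj mem_normalizer_iff_map_conj)

universe u

variable {G : Type u} [Group G] [Finite G] {M E E1 E3 : Subgroup G}

/-- S1406, contrapositive, in the form used for Lemma F: an `α(M)'`-subgroup `X` of `M` whose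
normalizer lies in a maximal subgroup `L ≠ M` has `r(C_{M_α}(X)) ≤ 1`. -/
theorem rankLE_one_of_normalizer_le (hG : Cfsg.IsMinSimpleOddOrder G) (hM : IsCoatom M)
    {X L : Subgroup G} (hXM : X ≤ M)
    (hXα : ∀ p : ℕ, p.Prime → p ∣ Nat.card X → p ∉ Cfsg.alpha M) (hL : IsCoatom L) (hLM : L ≠ M)
    (hNL : Subgroup.normalizer (X : Set G) ≤ L) :
    Cfsg.RankLE 1 ↥(Cfsg.alphaCore M ⊓ Subgroup.centralizer (X : Set G)) := by
  by_contra hr
  obtain ⟨N, -, hN⟩ := Cfsg.Agent.S1406.result hG M hM X hXM hXα hr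
  have h1 := hN M ⟨hM, inf_le_left⟩
  have h2 := hN L ⟨hL, inf_le_right.trans ((Subgroup.centralizer_le_normalizer _).trans hNL)⟩
  exact hLM (h2.trans h1.symm)

/-- **C6**: type (F-alpha) is impossible: in Case II, a faithful pair `(X, x)` such that `x`
centralizes `T₃ = C_{M_σ}(E₃)` does not exist (Lemma F). -/
theorem typeFalpha_false (h : CaseII M E E1 E3) {X : Subgroup G} (hXE3 : X ≤ E3)
    (hXp : (Nat.card X).Prime) {x : G} (hxE1 : x ∈ E1) (hxo : (orderOf x).Prime)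
    (hxX : ∃ a ∈ X, x * a ≠ a * x)
    (hc : Cfsg.sigmaCore M ⊓ Subgroup.centralizer (E3 : Set G) ≤
      Subgroup.centralizer ({x} : Set G)) : False := by
  have hG := h.hG
  have hM := h.hM
  have hE := h.hE
  haveI : IsSimpleGroup G := hG.2.1
  haveI : Fact (Nat.card X).Prime := ⟨hXp⟩
  haveI : Fact (orderOf x).Prime := ⟨hxo⟩
  have hU : Cfsg.Agent.Lib.Helper1.BGX.UT G :=
    fun K hK h2 h3 => Cfsg.Agent.S1403.result hG K hK h2 h3
  have hxE : x ∈ E := h.hE1E hxE1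
  have hxM : x ∈ M := h.hEM hxE
  have hXM : X ≤ M := (hXE3.trans h.hE3E).trans h.hEM
  have hx1 : x ≠ 1 := by
    rintro rfl
    rw [orderOf_one] at hxo
    exact Nat.not_prime_one hxo
  set T3 : Subgroup G := Cfsg.sigmaCore M ⊓ Subgroup.centralizer (E3 : Set G) with hT3def
  -- `T₃ ≤ T₁`, hence `T₃ = C_{M_σ}(E) ≤ M_σ'` and `σ(M) = β(M)`
  have hT31 : T3 ≤ Cfsg.sigmaCore M ⊓ Subgroup.centralizer (E1 : Set G) := by
    rw [← h.cent_E1 hxE1 hx1]
    exact le_inf inf_le_left hc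
  have hT3E : T3 ≤ Cfsg.sigmaCore M ⊓ Subgroup.centralizer (E : Set G) := by
    rw [h.cent_E_eq]
    exact le_inf hT31 le_rfl
  have hT3' : T3 ≤ ⁅Cfsg.sigmaCore M, Cfsg.sigmaCore M⁆ :=
    hT3E.trans (Cfsg.Agent.S1426.result hG M hM E hE).1
  have hσβ := sigma_subset_beta hG hM hE h.E3_le_commutator hT3'
  have hασ : Cfsg.alpha M = Cfsg.sigma M := by
    ext q
    exact ⟨fun hq => Cfsg.Agent.Lib.Helper1.BGX.alpha_subset_sigma hG hU hM hq,
      fun hq => (hσβ q hq).1⟩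
  have hαcore : Cfsg.alphaCore M = Cfsg.sigmaCore M := by
    unfold Cfsg.alphaCore Cfsg.sigmaCore
    rw [hασ]
  -- the two rank conditions
  have hτ3 : Nat.card X ∈ Cfsg.tau3 M := h.p_tau3 hXE3 rfl
  have hτ1 : orderOf x ∈ Cfsg.tau1 M := h.orderOf_mem_tau1 hxE1 hxo
  have hXα : ∀ p : ℕ, p.Prime → p ∣ Nat.card X → p ∉ Cfsg.alpha M := by
    intro p hp hd hpα
    rw [(Nat.prime_dvd_prime_iff_eq hp hXp).mp hd, hασ] at hpα
    exact hτ3.2.1 hpα
  have hX1 : X ≠ ⊥ := Cfsg.Agent.Lib.Helper17.BGC2.CaseII.X_ne_bot (rfl : Nat.card X = Nat.card X)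
  have hXtop : X ≠ ⊤ := fun h0 => hM.1 (top_le_iff.mp (h0 ▸ hXM))
  obtain ⟨H, hH, hNH⟩ := Cfsg.Agent.Lib.Helper17.BGU.exists_coatom_ge
    (Cfsg.Agent.Lib.Helper17.BGU.normalizer_ne_top hX1 hXtop)
  have hHM : H ≠ M := by
    intro h0
    apply h.nonconj_H hXE3 rfl hH hNH 1
    rw [map_conj_one, h0]
  have hrkQ := rankLE_one_of_normalizer_le hG hM hXM hXα hH hHM hNH
  -- the same for `P = ⟨x⟩`
  set P : Subgroup G := Subgroup.zpowers x with hPdef
  have hPc : Nat.card P = orderOf x := Nat.card_zpowers x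
  have hPM : P ≤ M := Subgroup.zpowers_le.mpr hxM
  have hPα : ∀ p : ℕ, p.Prime → p ∣ Nat.card P → p ∉ Cfsg.alpha M := by
    intro p hp hd hpα
    rw [hPc] at hd
    rw [(Nat.prime_dvd_prime_iff_eq hp hxo).mp hd, hασ] at hpα
    exact hτ1.2.1 hpα
  have hP1 : P ≠ ⊥ := by
    intro h0
    rw [h0, Subgroup.card_bot] at hPc
    exact hxo.ne_one hPc.symm
  have hPtop : P ≠ ⊤ := fun h0 => hM.1 (top_le_iff.mp (h0 ▸ hPM))
  obtain ⟨L, hL, hNL⟩ := Cfsg.Agent.Lib.Helper17.BGU.exists_coatom_ge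
    (Cfsg.Agent.Lib.Helper17.BGU.normalizer_ne_top hP1 hPtop)
  have hLM : L ≠ M := by
    intro h0
    have hPp : IsPGroup (orderOf x) P := IsPGroup.of_card (n := 1) (by rw [hPc, pow_one])
    obtain ⟨hnc, -, -⟩ := Cfsg.Agent.Lib.Helper16.BGPrim.thm13_2_zero hG hL hτ1.2.1 hτ1.2.2.2.2 hPp
      hP1 hNL
    apply hnc 1
    rw [map_conj_one, h0]
  have hrkP := rankLE_one_of_normalizer_le hG hM hPM hPα hL hLM hNL
  -- Lemma F
  have hPX : P ≤ Subgroup.normalizer (X : Set G) :=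
    Subgroup.zpowers_le.mpr (h.E_le_normalizer hXE3 hxE)
  have hfpf : X ⊓ Subgroup.centralizer (P : Set G) = ⊥ := by
    rw [eq_bot_iff]
    intro z hz
    rw [Subgroup.mem_bot]
    by_contra hz1
    obtain ⟨a, ha, hxa⟩ := hxX
    apply hxa
    have hzx : x * z = z * x :=
      (Subgroup.mem_centralizer_iff.mp hz.2 x (Subgroup.mem_zpowers x))
    exact Cfsg.Agent.Lib.Helper17.BGC2.comm_of_comm_one hXp rfl hz.1 hz1 hzx a ha
  have hF := Cfsg.Agent.Lib.Helper2.BGCor.lemmaF_alpha hG hM hxo hXp hXM hPM hPc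
    (IsPGroup.of_card (n := 1) (by rw [pow_one])) hX1 hPX hfpf
    (fun hq => hXα _ hXp dvd_rfl hq) (fun hq => hPα _ hxo (hPc ▸ dvd_rfl) hq) hrkQ hrkP
  apply h.hT3
  rw [eq_bot_iff, ← hF]
  intro t ht
  refine Subgroup.mem_inf.mpr ⟨Subgroup.mem_inf.mpr ⟨?_, ?_⟩, ?_⟩
  · rw [hαcore]; exact ht.1
  · exact Subgroup.centralizer_le hXE3 ht.2
  · rw [Subgroup.mem_centralizer_iff]
    intro y hy
    obtain ⟨k, rfl⟩ := Subgroup.mem_zpowers_iff.mp hy
    have h1 : t ∈ Subgroup.centralizer ({x} : Set G) := hc ht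
    have h2 : Commute t x := Subgroup.mem_centralizer_singleton_iff.mp h1
    exact ((h2.zpow_right k).eq).symm

/-- **C6**, `FaithfulPair` form: in Case II with a faithful pair, some element `x ∈ E₁` of prime
order belonging to a faithful pair does not centralize `T₃`; more precisely NO faithful pair
`(X, x)` has `T₃ ≤ C(x)`. -/
theorem not_le_centralizer_of_faithful (h : CaseII M E E1 E3) {X : Subgroup G} (hXE3 : X ≤ E3)
    (hXp : (Nat.card X).Prime) {x : G} (hxE1 : x ∈ E1) (hxo : (orderOf x).Prime)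
    (hxX : ∃ a ∈ X, x * a ≠ a * x) :
    ¬ Cfsg.sigmaCore M ⊓ Subgroup.centralizer (E3 : Set G) ≤
      Subgroup.centralizer ({x} : Set G) :=
  fun hc => typeFalpha_false h hXE3 hXp hxE1 hxo hxX hc

end Cfsg.Agent.Lib.Helper24.BGC2C
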