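/-
S2345 (minimal degree of `Ω⁺_{2n}(q)`; planner helper27), the WS block of leaves (helper24):
weights of the Siegel radical.

* WA `isAltM_of_wt_ne_bot` : only alternating weights occur.
* WL `map_wt_levi` : the Levi factor moves the weight `V = gᵀ V' g` to `V'`.
* WT `map_wt_tor` : the same for the torus elements.
* WN `exists_wt_ne_bot` : if the radical generates `H` as a normal subgroup and `ρ` is not trivial,
  a non-zero weight occurs.
-/
import Mathlib
import Cfsg.Agent.Lib.Helper27.OPMinDefs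
import Cfsg.Agent.Lib.Helper13.SLMinW

set_option autoImplicit false
set_option linter.unusedSectionVars false

namespace Cfsg.Agent.Lib.Helper24.OPMin

open Matrix Module Cfsg.Agent.Lib.Helper27.OPMin Cfsg.Agent.Lib.Helper16.SLMin
  Cfsg.Agent.Lib.Helper13.SLMin

section pairing

variable {F : Type*} [Field F] {n : ℕ}

/-- the pairing of weights with root parameters is the trace form -/
theorem dotProduct_eq_trace (v r : Fin n × Fin n → F) :
    v ⬝ᵥ r = Matrix.trace ((toM v)ᵀ * toM r) := by
  simp only [dotProduct, Matrix.trace, Matrix.diag_apply, Matrix.mul_apply, Matrix.transpose_apply,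
    toM_apply]
  rw [Finset.sum_comm, ← Finset.sum_product']
  rfl

/-- the pairing with a matrix unit -/
theorem dotProduct_ofM_single (v : Fin n × Fin n → F) (i j : Fin n) (t : F) :
    v ⬝ᵥ ofM (Matrix.single i j t) = v (i, j) * t := by
  unfold dotProduct
  rw [Finset.sum_eq_single (i, j)]
  · simp [ofM_apply]
  · rintro ⟨a, b⟩ _ hab
    have : ¬ (i = a ∧ j = b) := by
      rintro ⟨rfl, rfl⟩
      exact hab rfl
    simp [ofM_apply, this]
  · intro h
    exact absurd (Finset.mem_univ _) h

/-- transport of the pairing under `R ↦ A R B` -/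
theorem dotProduct_conj (A B : Matrix (Fin n) (Fin n) F) (v v' r : Fin n × Fin n → F)
    (hv : toM v = Aᵀ * toM v' * Bᵀ) :
    v ⬝ᵥ r = v' ⬝ᵥ ofM (A * toM r * B) := by
  rw [dotProduct_eq_trace, dotProduct_eq_trace, toM_ofM, hv, Matrix.transpose_mul,
    Matrix.transpose_mul, Matrix.transpose_transpose, Matrix.transpose_transpose]
  -- tr (B V'ᵀ A R) = tr (V'ᵀ A R B)
  rw [Matrix.mul_assoc B, Matrix.trace_mul_comm B]
  simp only [Matrix.mul_assoc]

end pairing

section WS

variable {F : Type*} [Field F] [Fintype F] [DecidableEq F] {n : ℕ} {H : Type*} [Group H]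
  {M : Type*} [AddCommGroup M] [Module ℂ M] [FiniteDimensional ℂ M]
  (D : Siegel F n H) (ρ : Representation ℂ H M)

/-- the additive character `eps` is trivial on `a * ·` only for `a = 0` -/
theorem eq_zero_of_eps_mul_eq_one (a : F) (h : ∀ t : F, eps F (a * t) = 1) : a = 0 := by
  by_contra ha
  have hp := eps_prim F ha
  apply hp
  ext t
  rw [AddChar.mulShift_apply, AddChar.one_apply]
  exact h t

/-- WA: only alternating weights occur. -/
theorem isAltM_of_wt_ne_bot (v : Fin n × Fin n → F) (hv : wt ρ D.radv v ≠ ⊥) : IsAltM (toM v) := by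
  obtain ⟨m, hm, hm0⟩ := (Submodule.ne_bot_iff _).mp hv
  -- `eps (v ⬝ᵥ ofM R) = 1` for symmetric `R`
  have key : ∀ R : Matrix (Fin n) (Fin n) F, Rᵀ = R → eps F (v ⬝ᵥ ofM R) = 1 := by
    intro R hR
    have h1 := hm (ofM R)
    have h2 : D.radv (ofM R) = 1 := by
      unfold Siegel.radv
      rw [toM_ofM]
      exact D.rad_of_symm R hR
    rw [h2, map_one, Module.End.one_apply] at h1
    by_contra hne
    have h3 : ((eps F (v ⬝ᵥ ofM R) : ℂ) - 1) • m = 0 := by
      rw [sub_smul, one_smul, ← h1, sub_self]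
    rcases smul_eq_zero.mp h3 with h4 | h4
    · exact hne (sub_eq_zero.mp h4)
    · exact hm0 h4
  refine ⟨fun i => ?_, fun i j => ?_⟩
  · -- diagonal
    show v (i, i) = 0
    apply eq_zero_of_eps_mul_eq_one
    intro t
    rw [← dotProduct_ofM_single]
    apply key
    rw [Matrix.transpose_single]
  · show v (j, i) = - v (i, j)
    have h0 : v (i, j) + v (j, i) = 0 := by
      apply eq_zero_of_eps_mul_eq_one
      intro t
      have h1 : (v (i, j) + v (j, i)) * t
          = v ⬝ᵥ ofM (Matrix.single i j t + Matrix.single j i t) := by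
        rw [ofM_add, dotProduct_add, dotProduct_ofM_single, dotProduct_ofM_single]
        ring
      rw [h1]
      apply key
      rw [Matrix.transpose_add, Matrix.transpose_single, Matrix.transpose_single, add_comm]
    exact eq_neg_of_add_eq_zero_right h0

/-- the common core of WL and WT -/
theorem map_wt_of_rad_conj (h : H) (A B A' B' : Matrix (Fin n) (Fin n) F)
    (hA : A * A' = 1) (hB : B' * B = 1)
    (hconj : ∀ R, h * D.rad R * h⁻¹ = D.rad (A * R * B))
    (v v' : Fin n × Fin n → F) (hv : toM v = Aᵀ * toM v' * Bᵀ) :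
    Submodule.map (ρ h) (wt ρ D.radv v) = wt ρ D.radv v' := by
  apply map_wt_of_conj ρ D.radv D.radv h (fun r => ofM (A * toM r * B))
  · intro r'
    refine ⟨ofM (A' * toM r' * B'), ?_⟩
    show ofM (A * toM (ofM (A' * toM r' * B')) * B) = r'
    rw [toM_ofM]
    have : A * (A' * toM r' * B') * B = toM r' := by
      rw [← Matrix.mul_assoc, ← Matrix.mul_assoc, hA, Matrix.one_mul, Matrix.mul_assoc, hB,
        Matrix.mul_one]
    rw [this, ofM_toM]
  · intro r
    show h * D.rad (toM r) * h⁻¹ = D.rad (toM (ofM (A * toM r * B)))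
    rw [toM_ofM]
    exact hconj _
  · intro r
    exact dotProduct_conj A B v v' r hv

/-- WL: the Levi factor moves the weight `V = gᵀ V' g` to `V'`. -/
theorem map_wt_levi (g : SpecialLinearGroup (Fin n) F) (v v' : Fin n × Fin n → F)
    (hv : toM v = (g : Matrix (Fin n) (Fin n) F)ᵀ * toM v' * (g : Matrix (Fin n) (Fin n) F)) :
    Submodule.map (ρ (D.levi g)) (wt ρ D.radv v) = wt ρ D.radv v' := by
  have h1 : (g : Matrix (Fin n) (Fin n) F) * ((g⁻¹ : SpecialLinearGroup (Fin n) F) : Matrix _ _ F)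
      = 1 := by
    rw [← Matrix.SpecialLinearGroup.coe_mul, mul_inv_cancel]
    rfl
  apply map_wt_of_rad_conj D ρ (D.levi g) (g : Matrix (Fin n) (Fin n) F)
    (g : Matrix (Fin n) (Fin n) F)ᵀ ((g⁻¹ : SpecialLinearGroup (Fin n) F) : Matrix _ _ F)
    ((g⁻¹ : SpecialLinearGroup (Fin n) F) : Matrix _ _ F)ᵀ h1
  · rw [← Matrix.transpose_mul, h1, Matrix.transpose_one]
  · intro R
    exact D.levi_rad g R
  · rw [Matrix.transpose_transpose]
    exact hv

/-- `dsq a s` is invertible, with inverse `dsq a s⁻¹` -/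
theorem dsq_mul_dsq_inv (a : Fin n) (s : Fˣ) : dsq a s * dsq a s⁻¹ = (1 : Matrix (Fin n) (Fin n) F) := by
  unfold dsq
  rw [Matrix.diagonal_mul_diagonal, ← Matrix.diagonal_one]
  congr 1
  funext i
  by_cases hi : i = a
  · simp only [hi, if_true]
    rw [← mul_pow, ← Units.val_mul, mul_inv_cancel, Units.val_one, one_pow]
  · simp only [hi, if_false, mul_one]

theorem dsq_transpose (a : Fin n) (s : Fˣ) : (dsq a s : Matrix (Fin n) (Fin n) F)ᵀ = dsq a s := by
  unfold dsq
  rw [Matrix.diagonal_transpose]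

theorem dsq_inv_mul_dsq (a : Fin n) (s : Fˣ) : dsq a s⁻¹ * dsq a s = (1 : Matrix (Fin n) (Fin n) F) := by
  have := dsq_mul_dsq_inv (F := F) a s⁻¹
  rwa [inv_inv] at this

/-- WT: the same for the torus elements. -/
theorem map_wt_tor (a : Fin n) (s : Fˣ) (v v' : Fin n × Fin n → F)
    (hv : toM v = dsq a s * toM v' * dsq a s) :
    Submodule.map (ρ (D.tor a s)) (wt ρ D.radv v) = wt ρ D.radv v' := by
  apply map_wt_of_rad_conj D ρ (D.tor a s) (dsq a s) (dsq a s) (dsq a s⁻¹) (dsq a s⁻¹)
    (dsq_mul_dsq_inv a s) (dsq_inv_mul_dsq a s)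
  · intro R
    exact D.tor_rad a s R
  · rw [dsq_transpose]
    exact hv

/-- WN: if the radical generates `H` as a normal subgroup and `ρ` is not trivial, a non-zero
weight occurs. -/
theorem exists_wt_ne_bot (hcl : Subgroup.normalClosure (Set.range D.rad) = ⊤) (h : ∃ g, ρ g ≠ 1) :
    ∃ v : Fin n × Fin n → F, v ≠ 0 ∧ wt ρ D.radv v ≠ ⊥ := by
  classical
  by_contra hcon
  have hbot : ∀ v : Fin n × Fin n → F, v ≠ 0 → wt ρ D.radv v = ⊥ := by
    intro v hv
    by_contra hne
    exact hcon ⟨v, hv, hne⟩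
  -- W1 with `N = ⊤`
  have hW1 := finrank_eq_sum_inf_wt ρ D.radv D.radv_add (⊤ : Submodule ℂ M)
    (fun _ _ _ => Submodule.mem_top)
  have hsum : ∑ v : Fin n × Fin n → F, finrank ℂ ↥((⊤ : Submodule ℂ M) ⊓ wt ρ D.radv v)
      = finrank ℂ ↥(wt ρ D.radv 0) := by
    rw [Finset.sum_eq_single (0 : Fin n × Fin n → F)]
    · rw [top_inf_eq]
    · intro v _ hv
      rw [top_inf_eq, hbot v hv, finrank_bot]
    · intro h0
      exact absurd (Finset.mem_univ _) h0
  rw [hsum, finrank_top] at hW1
  have htop : wt ρ D.radv 0 = ⊤ := Submodule.eq_top_of_finrank_eq hW1.symm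
  -- the radical acts trivially
  have hrad : ∀ R, ρ (D.rad R) = 1 := by
    intro R
    apply LinearMap.ext
    intro m
    have hm : m ∈ wt ρ D.radv 0 := by rw [htop]; exact Submodule.mem_top
    have h1 := hm (ofM R)
    rw [zero_dotProduct, AddChar.map_zero_eq_one, one_smul] at h1
    have h2 : D.radv (ofM R) = D.rad R := by
      unfold Siegel.radv
      rw [toM_ofM]
    rw [h2] at h1
    rw [h1, Module.End.one_apply]
  -- the kernel of `ρ` is a normal subgroup
  let K : Subgroup H :=
    { carrier := {g | ρ g = 1}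
      one_mem' := map_one ρ
      mul_mem' := by
        intro a b ha hb
        show ρ (a * b) = 1
        rw [map_mul, ha, hb, one_mul]
      inv_mem' := by
        intro a ha
        show ρ a⁻¹ = 1
        have h1 : ρ a⁻¹ * ρ a = 1 := by rw [← map_mul, inv_mul_cancel, map_one]
        rw [ha, mul_one] at h1
        exact h1 }
  have hKn : K.Normal := by
    constructor
    intro a ha g
    show ρ (g * a * g⁻¹) = 1
    have ha' : ρ a = 1 := ha
    rw [map_mul, map_mul, ha', mul_one, ← map_mul, mul_inv_cancel, map_one]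
  have hle : Subgroup.normalClosure (Set.range D.rad) ≤ K := by
    apply Subgroup.normalClosure_le_normal
    rintro x ⟨R, rfl⟩
    exact hrad R
  rw [hcl] at hle
  obtain ⟨g, hg⟩ := h
  exact hg (hle (Subgroup.mem_top g))

end WS

end Cfsg.Agent.Lib.Helper24.OPMin
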