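/-
S2345 (helper27's plan), two sub-leaves that need no group definitions (helper24).

* (ORB) the rank-2 alternating matrices `u ∧ v` (helper10's `OPMinCnt.rk2`) form ONE orbit of
  `SL_n(F)`, `n ≥ 3`, under `Y ↦ g Y gᵀ` (and under `Y ↦ g⁻ᵀ Y g⁻¹`).
* (TL) a root group acting on a line by a character that is normalised by a "torus" element
  acting on the root group by `s ↦ φ s` is trivial on every `φ s' - s'`.
-/
import Mathlib
import Cfsg.Agent.Lib.Helper10.OPMinCnt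
import Cfsg.Agent.Lib.Helper1.SLMTools

set_option autoImplicit false

namespace Cfsg.Agent.Lib.Helper24.OPMinOrb

open Matrix Module Cfsg.Agent.Lib.Helper10.OPMinCnt

/-! ### (ORB) -/

section orb

variable {F : Type*} [Field F] {ι : Type*} [Fintype ι] [DecidableEq ι]

omit [DecidableEq ι] in
/-- `g u ∧ g v = g (u ∧ v) gᵀ`. -/
theorem wedge_mulVec (g : Matrix ι ι F) (u v : ι → F) :
    wedge (g *ᵥ u) (g *ᵥ v) = g * wedge u v * gᵀ := by
  rw [wedge_eq, wedge_eq, Matrix.mul_sub, Matrix.sub_mul, Matrix.mul_vecMulVec,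
    Matrix.mul_vecMulVec, Matrix.vecMulVec_mul, Matrix.vecMulVec_mul, Matrix.vecMul_transpose,
    Matrix.vecMul_transpose]

/-- an invertible matrix maps independent pairs to independent pairs -/
theorem indep_mulVec (g : Matrix ι ι F) (hg : IsUnit g.det) (u v : ι → F)
    (h : LinearIndependent F ![u, v]) : LinearIndependent F ![g *ᵥ u, g *ᵥ v] := by
  have hinj : Function.Injective (Matrix.mulVecLin g) := by
    intro a b hab
    have h1 : g⁻¹ *ᵥ (g *ᵥ a) = g⁻¹ *ᵥ (g *ᵥ b) := by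
      have : g *ᵥ a = g *ᵥ b := hab
      rw [this]
    rwa [Matrix.mulVec_mulVec, Matrix.mulVec_mulVec, Matrix.nonsing_inv_mul _ hg,
      Matrix.one_mulVec, Matrix.one_mulVec] at h1
  have h2 := h.map' (Matrix.mulVecLin g) (LinearMap.ker_eq_bot.mpr hinj)
  have h3 : (Matrix.mulVecLin g) ∘ ![u, v] = ![g *ᵥ u, g *ᵥ v] := by
    funext i
    fin_cases i <;> rfl
  rw [h3] at h2
  exact h2

/-- the set of rank-2 alternating matrices is stable under `Y ↦ g Y gᵀ`, `g` invertible -/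
theorem mem_rk2_conj (g : Matrix ι ι F) (hg : IsUnit g.det) {Y : Matrix ι ι F}
    (hY : Y ∈ rk2 F ι) : g * Y * gᵀ ∈ rk2 F ι := by
  obtain ⟨u, v, h, rfl⟩ := hY
  exact ⟨g *ᵥ u, g *ᵥ v, indep_mulVec g hg u v h, (wedge_mulVec g u v).symm⟩

theorem mem_rk2_conj_SL (g : Matrix.SpecialLinearGroup ι F) {Y : Matrix ι ι F}
    (hY : Y ∈ rk2 F ι) : (g : Matrix ι ι F) * Y * (g : Matrix ι ι F)ᵀ ∈ rk2 F ι := by
  apply mem_rk2_conj _ _ hY
  rw [g.2]
  exact isUnit_one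

end orb

section orbFin

variable {F : Type*} [Field F]

/-- `SL_n(F)`, `n ≥ 3`, is transitive on linearly independent pairs (helper1's
`exists_sl_std_pair` twice). -/
theorem exists_sl_map_pair {n : ℕ} (hn : 3 ≤ n) {u v u' v' : Fin n → F}
    (h : LinearIndependent F ![u, v]) (h' : LinearIndependent F ![u', v']) :
    ∃ g : Matrix.SpecialLinearGroup (Fin n) F,
      (g : Matrix (Fin n) (Fin n) F) *ᵥ u = u' ∧ (g : Matrix (Fin n) (Fin n) F) *ᵥ v = v' := by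
  obtain ⟨k, rfl⟩ : ∃ k, n = k + 3 := ⟨n - 3, by omega⟩
  obtain ⟨x, hx0, hx1⟩ := Cfsg.Agent.Lib.Helper1.SLMLeaf.exists_sl_std_pair h
  obtain ⟨y, hy0, hy1⟩ := Cfsg.Agent.Lib.Helper1.SLMLeaf.exists_sl_std_pair h'
  have hxinv : ∀ w : Fin (k + 3) → F, (x⁻¹ : Matrix.SpecialLinearGroup _ F).1 *ᵥ (x.1 *ᵥ w) = w := by
    intro w
    rw [Matrix.mulVec_mulVec]
    have : (x⁻¹ : Matrix.SpecialLinearGroup _ F).1 * x.1 = 1 := by
      rw [← Matrix.SpecialLinearGroup.coe_mul, inv_mul_cancel]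
      rfl
    rw [this, Matrix.one_mulVec]
  refine ⟨y * x⁻¹, ?_, ?_⟩
  · rw [Matrix.SpecialLinearGroup.coe_mul, ← Matrix.mulVec_mulVec, ← hx0]
    show y.1 *ᵥ ((x⁻¹ : Matrix.SpecialLinearGroup _ F).1 *ᵥ (x.1 *ᵥ _)) = u'
    rw [hxinv, hy0]
  · rw [Matrix.SpecialLinearGroup.coe_mul, ← Matrix.mulVec_mulVec, ← hx1]
    show y.1 *ᵥ ((x⁻¹ : Matrix.SpecialLinearGroup _ F).1 *ᵥ (x.1 *ᵥ _)) = v'
    rw [hxinv, hy1]

/-- (ORB) the rank-2 alternating `n × n` matrices form one `SL_n`-orbit under `Y ↦ g Y gᵀ`,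
`n ≥ 3`. -/
theorem rk2_orbit {n : ℕ} (hn : 3 ≤ n) {Y Y' : Matrix (Fin n) (Fin n) F}
    (hY : Y ∈ rk2 F (Fin n)) (hY' : Y' ∈ rk2 F (Fin n)) :
    ∃ g : Matrix.SpecialLinearGroup (Fin n) F,
      (g : Matrix (Fin n) (Fin n) F) * Y * (g : Matrix (Fin n) (Fin n) F)ᵀ = Y' := by
  obtain ⟨u, v, h, rfl⟩ := hY
  obtain ⟨u', v', h', rfl⟩ := hY'
  obtain ⟨g, hg1, hg2⟩ := exists_sl_map_pair hn h h'
  exact ⟨g, by rw [← wedge_mulVec, hg1, hg2]⟩

/-- (ORB), dual shape: one orbit under `Y ↦ g⁻ᵀ Y g⁻¹`. -/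
theorem rk2_orbit' {n : ℕ} (hn : 3 ≤ n) {Y Y' : Matrix (Fin n) (Fin n) F}
    (hY : Y ∈ rk2 F (Fin n)) (hY' : Y' ∈ rk2 F (Fin n)) :
    ∃ g : Matrix.SpecialLinearGroup (Fin n) F,
      ((g⁻¹ : Matrix.SpecialLinearGroup (Fin n) F) : Matrix (Fin n) (Fin n) F)ᵀ * Y *
        ((g⁻¹ : Matrix.SpecialLinearGroup (Fin n) F) : Matrix (Fin n) (Fin n) F) = Y' := by
  obtain ⟨h, hh⟩ := rk2_orbit hn hY hY'
  -- take `g` with `g⁻¹ = hᵀ`
  refine ⟨(Matrix.SpecialLinearGroup.transpose h)⁻¹, ?_⟩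
  rw [inv_inv]
  show (h.1ᵀ)ᵀ * Y * h.1ᵀ = Y'
  rw [Matrix.transpose_transpose]
  exact hh

end orbFin

/-! ### (TL) -/

section torusLine

variable {G A M : Type*} [Group G] [AddCommGroup A] [AddCommGroup M] [Module ℂ M]

/-- (TL) Let the additive "root group" `u : A → G` stabilise the line `L`, let `t` stabilise `L`
and normalise the root group, `t u(s) t⁻¹ = u(φ s)`.  Then `u (φ s' - s')` fixes `L` pointwise. -/
theorem fixed_of_torus (ρ : Representation ℂ G M) (u : A → G)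
    (hu : ∀ s t, u (s + t) = u s * u t) (L : Submodule ℂ M) (hL : finrank ℂ L = 1)
    (huL : ∀ s, ∀ m ∈ L, ρ (u s) m ∈ L) (t : G) (htL : ∀ m ∈ L, ρ t m ∈ L)
    (φ : A → A) (hconj : ∀ s, t * u s * t⁻¹ = u (φ s)) (s s' : A) (hs : s = φ s' - s') :
    ∀ m ∈ L, ρ (u s) m = m := by
  -- a generator of the line
  obtain ⟨⟨m₀, hm₀L⟩, hm₀⟩ := finrank_eq_one_iff'.mp hL
  have hm₀0 : m₀ ≠ 0 := fun h => hm₀.1 (Subtype.ext h)
  have hgen : ∀ m ∈ L, ∃ c : ℂ, c • m₀ = m := by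
    intro m hm
    obtain ⟨c, hc⟩ := hm₀.2 ⟨m, hm⟩
    exact ⟨c, congrArg Subtype.val hc⟩
  -- scalars
  obtain ⟨lam, hlam⟩ := hgen _ (huL s' m₀ hm₀L)
  obtain ⟨tau, htau⟩ := hgen _ (htL m₀ hm₀L)
  have hρinv : ∀ g : G, ∀ m : M, ρ g⁻¹ (ρ g m) = m := by
    intro g m
    rw [← Module.End.mul_apply, ← map_mul, inv_mul_cancel, map_one, Module.End.one_apply]
  have hρinv' : ∀ g : G, ∀ m : M, ρ g (ρ g⁻¹ m) = m := by
    intro g m
    rw [← Module.End.mul_apply, ← map_mul, mul_inv_cancel, map_one, Module.End.one_apply]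
  have htau0 : tau ≠ 0 := by
    intro h0
    rw [h0, zero_smul] at htau
    have := hρinv t m₀
    rw [← htau, map_zero] at this
    exact hm₀0 this.symm
  have htinv : ρ t⁻¹ m₀ = tau⁻¹ • m₀ := by
    have h1 : ρ t⁻¹ (tau • m₀) = m₀ := by rw [htau]; exact hρinv t m₀
    rw [map_smul] at h1
    have h2 := congrArg (fun x => tau⁻¹ • x) h1
    simp only [smul_smul, inv_mul_cancel₀ htau0, one_smul] at h2
    exact h2
  -- `u (φ s')` acts on `m₀` like `u s'`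
  have h1 : ρ (u (φ s')) m₀ = lam • m₀ := by
    rw [← hconj s', map_mul, map_mul, Module.End.mul_apply, Module.End.mul_apply, htinv, map_smul,
      ← hlam, map_smul, map_smul, ← htau, smul_smul, smul_smul]
    congr 1
    field_simp
  -- `φ s' = s + s'`
  have h2 : φ s' = s + s' := by rw [hs]; abel
  rw [h2, hu, map_mul, Module.End.mul_apply, ← hlam, map_smul] at h1
  have hlam0 : lam ≠ 0 := by
    intro h0
    rw [h0, zero_smul] at hlam
    have := hρinv (u s') m₀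
    rw [← hlam, map_zero] at this
    exact hm₀0 this.symm
  have h3 : ρ (u s) m₀ = m₀ := by
    have := congrArg (fun x => lam⁻¹ • x) h1
    simpa [smul_smul, inv_mul_cancel₀ hlam0] using this
  intro m hm
  obtain ⟨c, rfl⟩ := hgen m hm
  rw [map_smul, h3]

/-- (TL), field form: if `t u(s) t⁻¹ = u(a s)` with `a ≠ 1`, the whole root group fixes the
line pointwise. -/
theorem fixed_of_torus_field {F : Type*} [Field F] (ρ : Representation ℂ G M) (u : F → G)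
    (hu : ∀ s t, u (s + t) = u s * u t) (L : Submodule ℂ M) (hL : finrank ℂ L = 1)
    (huL : ∀ s, ∀ m ∈ L, ρ (u s) m ∈ L) (t : G) (htL : ∀ m ∈ L, ρ t m ∈ L)
    (a : F) (ha : a ≠ 1) (hconj : ∀ s, t * u s * t⁻¹ = u (a * s)) (s : F) :
    ∀ m ∈ L, ρ (u s) m = m := by
  have ha1 : a - 1 ≠ 0 := sub_ne_zero.mpr ha
  apply fixed_of_torus ρ u hu L hL huL t htL (fun s => a * s) hconj s (s / (a - 1))
  field_simp

/-- (TL), vector form: the root group is `u : (I → F) → G`, the torus element scales the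
coordinate `i` by `a i ≠ 1`. -/
theorem fixed_of_torus_pi {F : Type*} [Field F] {I : Type*} (ρ : Representation ℂ G M)
    (u : (I → F) → G)
    (hu : ∀ s t, u (s + t) = u s * u t) (L : Submodule ℂ M) (hL : finrank ℂ L = 1)
    (huL : ∀ s, ∀ m ∈ L, ρ (u s) m ∈ L) (t : G) (htL : ∀ m ∈ L, ρ t m ∈ L)
    (a : I → F) (ha : ∀ i, a i ≠ 1) (hconj : ∀ s, t * u s * t⁻¹ = u (fun i => a i * s i))
    (s : I → F) : ∀ m ∈ L, ρ (u s) m = m := by
  apply fixed_of_torus ρ u hu L hL huL t htL (fun s => fun i => a i * s i) hconj s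
    (fun i => s i / (a i - 1))
  funext i
  have ha1 : a i - 1 ≠ 0 := sub_ne_zero.mpr (ha i)
  simp only [Pi.sub_apply]
  field_simp

end torusLine

end Cfsg.Agent.Lib.Helper24.OPMinOrb
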