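/-
helper24: climbing from a block of `Q C_G(Q)` to a block of `Q' C_G(Q')` for a larger `p`-subgroup
`Q'` through the normalizer `N_G(Q)` (Brauer), with the relative ("In") form of block induction,
and transfer of kernels along it.
-/
import Mathlib
import Cfsg.Agent.Lib.Helper24.KernelInduced
import Cfsg.Agent.Lib.Helper24.InducedTrans
import Cfsg.Agent.Lib.Helper6.ExtFirstMain
import Cfsg.Agent.Lib.Helper23.BrauerInduced

set_option autoImplicit false

namespace Cfsg.Agent.Lib.Helper24

open Cfsg Cfsg.Agent.CharLib Cfsg.Agent.Lib.Helper6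
open scoped ComplexConjugate

universe u

section dict

variable {G : Type u} [Group G] {M : Ideal AlgInt}

/-- `inducedCentralCharIn` computed in `G` is `inducedCentralChar` computed in the group `H`. -/
theorem inducedCentralCharIn_eq_nested (H K : Subgroup G) (K' : Subgroup H) (κ : K' ≃* K)
    (hκ : ∀ k' : K', ((κ k' : K) : G) = ((k' : H) : G)) (ξ : K → ℂ) (h : H) :
    inducedCentralCharIn H K ξ (h : G) = inducedCentralChar K' (ξ ∘ κ) h := by
  unfold inducedCentralCharIn inducedCentralChar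
  symm
  apply finsum_mem_eq_of_bijOn (fun k' : K' => κ k')
  · refine ⟨?_, ?_, ?_⟩
    · intro k' hk'
      obtain ⟨c, hc⟩ := isConj_iff.mp hk'
      refine ⟨c⁻¹, ?_⟩
      rw [hκ]
      have := congrArg (Subtype.val : H → G) hc
      push_cast at this
      rw [← this]
      push_cast
      group
    · intro a _ b _ hab
      exact κ.injective hab
    · intro k hk
      obtain ⟨x, hx⟩ := hk
      refine ⟨κ.symm k, ?_, κ.apply_symm_apply k⟩
      apply isConj_iff.mpr
      refine ⟨x⁻¹, ?_⟩
      apply Subtype.ext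
      push_cast
      have h1 := hκ (κ.symm k)
      rw [κ.apply_symm_apply] at h1
      rw [← h1, ← hx]
      group
  · intro k' _
    simp only [Function.comp_apply, map_one]

/-- Relative induction of blocks is induction in the group `H` from the nested subgroup. -/
theorem isInducedBlockIn_iff_nested (H K : Subgroup G) (K' : Subgroup H) (κ : K' ≃* K)
    (hκ : ∀ k' : K', ((κ k' : K) : G) = ((k' : H) : G)) (c : Set (IrrCharacter K))
    (f : Set (IrrCharacter H)) :
    IsInducedBlockIn M H K c f ↔ IsInducedBlock M K' (BlockIso.pullBlock κ c) f := by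
  constructor
  · rintro ⟨hc, hf, h⟩
    refine ⟨BlockIso.isPBlock_pullBlock κ hc, hf, ?_⟩
    intro ξ' hξ' χ hχ x
    have h1 := h (irrCompIso κ.symm ξ') ((BlockIso.mem_pullBlock_iff κ c ξ').mp hξ') χ hχ x
    rw [inducedCentralCharIn_eq_nested H K K' κ hκ] at h1
    have e : ((irrCompIso κ.symm ξ' : IrrCharacter K) : K → ℂ) ∘ κ = (ξ' : K' → ℂ) := by
      funext k'
      simp [irrCompIso_apply]
    rwa [e] at h1
  · rintro ⟨hc', hf, h⟩
    have hc : IsPBlock M c := by
      have := BlockIso.isPBlock_pullBlock κ.symm hc'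
      rwa [BlockIso.pullBlock_symm_pullBlock] at this
    refine ⟨hc, hf, ?_⟩
    intro ξ hξ χ hχ x
    have h1 := h (irrCompIso κ ξ) (BlockIso.irrCompIso_mem_pullBlock κ hξ) χ hχ x
    rw [inducedCentralCharIn_eq_nested H K K' κ hκ]
    exact h1

/-- The identification of a nested subgroup `K' ≤ N` with a subgroup `K ≤ G`. -/
def nestedEquiv (N : Subgroup G) (K' : Subgroup N) (K : Subgroup G)
    (h : ∀ x : N, x ∈ K' ↔ (x : G) ∈ K) (hKN : K ≤ N) : K' ≃* K where
  toFun x := ⟨((x : N) : G), (h x).mp x.2⟩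
  invFun y := ⟨⟨(y : G), hKN y.2⟩, (h _).mpr y.2⟩
  left_inv _ := rfl
  right_inv _ := rfl
  map_mul' _ _ := rfl

theorem nestedEquiv_coe (N : Subgroup G) (K' : Subgroup N) (K : Subgroup G)
    (h : ∀ x : N, x ∈ K' ↔ (x : G) ∈ K) (hKN : K ≤ N) (x : K') :
    ((nestedEquiv N K' K h hKN x : K) : G) = ((x : N) : G) := rfl

theorem nestedEquiv_symm_coe (N : Subgroup G) (K' : Subgroup N) (K : Subgroup G)
    (h : ∀ x : N, x ∈ K' ↔ (x : G) ∈ K) (hKN : K ≤ N) (y : K) :
    ((((nestedEquiv N K' K h hKN).symm y : K') : N) : G) = (y : G) := rfl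

/-- The elements of `Y` lying in `H` are in the kernel of every member of `f`. -/
def KerLE (Y H : Subgroup G) (f : Set (IrrCharacter H)) : Prop :=
  ∀ y (hy : y ∈ H), y ∈ Y → ∀ χ ∈ f, (χ : H → ℂ) ⟨y, hy⟩ = (χ : H → ℂ) 1

theorem KerLE.mono {Y Y' H : Subgroup G} {f : Set (IrrCharacter H)} (h : KerLE Y H f)
    (hYY : Y' ≤ Y) : KerLE Y' H f :=
  fun y hy hyY χ hχ => h y hy (hYY hyY) χ hχ

/-- Transport of `KerLE` along a pullback by an identification compatible with the inclusions. -/
theorem kerLE_pullBlock_iff (Y : Subgroup G) (H : Subgroup G) {A : Type u} [Group A] (κ : A ≃* H)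
    (f : Set (IrrCharacter H)) :
    KerLE Y H f ↔ ∀ a : A, ((κ a : H) : G) ∈ Y → ∀ ξ ∈ BlockIso.pullBlock κ f,
      (ξ : A → ℂ) a = (ξ : A → ℂ) 1 := by
  constructor
  · intro h a ha ξ hξ
    have h1 := h ((κ a : H) : G) (κ a).2 ha (irrCompIso κ.symm ξ)
      ((BlockIso.mem_pullBlock_iff κ f ξ).mp hξ)
    rw [irrCompIso_apply, irrCompIso_apply] at h1
    simpa using h1
  · intro h y hy hyY χ hχ
    have h1 := h (κ.symm ⟨y, hy⟩) (by rw [κ.apply_symm_apply]; exact hyY) (irrCompIso κ χ)
      (BlockIso.irrCompIso_mem_pullBlock κ hχ)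
    rw [irrCompIso_apply, irrCompIso_apply, κ.apply_symm_apply, map_one] at h1
    exact h1

end dict

section kerIn

variable {G : Type u} [Group G] [Finite G] {M : Ideal AlgInt}

/-- **Kernels and relative induction**: if `e` (a block of `K`) induces `f` (a block of `H`) inside
`H`, and `Y ≤ H` is a `p'`-subgroup normalized by `H`, then `Y` is in the kernel of `f` iff `Y ∩ K`
is in the kernel of `e`. -/
theorem kerLE_iff_of_inducedIn {p : ℕ} [hpp : Fact p.Prime] (hM : IsPModular p M)
    (H K : Subgroup G) (hKH : K ≤ H) (e : Set (IrrCharacter K)) (f : Set (IrrCharacter H))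
    (hind : IsInducedBlockIn M H K e f) (Y : Subgroup G)
    (hnorm : H ≤ Subgroup.normalizer (Y : Set G)) (hYp : ¬ p ∣ Nat.card Y) :
    KerLE Y H f ↔ KerLE Y K e := by
  have hn : (Y.subgroupOf H).Normal := Subgroup.normal_subgroupOf_of_le_normalizer hnorm
  have hY'p : ¬ p ∣ Nat.card (Y.subgroupOf H) := by
    intro h
    apply hYp
    have h1 : Nat.card (Y.subgroupOf H) = Nat.card ((Y.subgroupOf H).map H.subtype) :=
      (Subgroup.card_map_of_injective H.subtype_injective).symm
    rw [h1, Subgroup.subgroupOf_map_subtype] at h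
    exact h.trans (Subgroup.card_dvd_of_le inf_le_left)
  set κ := Subgroup.subgroupOfEquivOfLe hKH with hκdef
  have hκ : ∀ k' : K.subgroupOf H, ((κ k' : K) : G) = ((k' : H) : G) := fun _ => rfl
  have h1 := (isInducedBlockIn_iff_nested H K (K.subgroupOf H) κ hκ e f).mp hind
  have h2 := ker_iff_of_induced hM (K.subgroupOf H) (BlockIso.pullBlock κ e) f h1
    (Y.subgroupOf H) hY'p
  rw [kerLE_pullBlock_iff Y K κ e]
  constructor
  · intro h a ha ξ hξ
    apply h2.mp _ a _ ξ hξ
    · intro y hy χ hχ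
      exact h (y : G) y.2 (Subgroup.mem_subgroupOf.mp hy) χ hχ
    · rw [Subgroup.mem_subgroupOf]
      exact ha
  · intro h y hy hyY χ hχ
    apply h2.mpr _ ⟨y, hy⟩ (Subgroup.mem_subgroupOf.mpr hyY) χ hχ
    intro a ha ξ hξ
    exact h a (Subgroup.mem_subgroupOf.mp ha) ξ hξ

end kerIn

section nestedCent

variable {G : Type u} [Group G]

theorem mem_centralizer_nested_iff (N : Subgroup G) (D : Subgroup N) (x : N) :
    x ∈ Subgroup.centralizer (D : Set N) ↔
      (x : G) ∈ Subgroup.centralizer ((D.map N.subtype : Subgroup G) : Set G) := by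
  rw [Subgroup.mem_centralizer_iff, Subgroup.mem_centralizer_iff]
  constructor
  · intro h y hy
    obtain ⟨d, hd, rfl⟩ := hy
    have := congrArg (Subtype.val : N → G) (h d hd)
    exact this
  · intro h d hd
    apply Subtype.ext
    exact h (d : G) ⟨d, hd, rfl⟩

theorem map_sup_centralizer_nested (N : Subgroup G) (D : Subgroup N)
    (hC : Subgroup.centralizer ((D.map N.subtype : Subgroup G) : Set G) ≤ N) :
    (D ⊔ Subgroup.centralizer (D : Set N)).map N.subtype =
      D.map N.subtype ⊔ Subgroup.centralizer ((D.map N.subtype : Subgroup G) : Set G) := by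
  rw [Subgroup.map_sup]
  congr 1
  ext y
  constructor
  · rintro ⟨x, hx, rfl⟩
    exact (mem_centralizer_nested_iff N D x).mp hx
  · intro hy
    exact ⟨⟨y, hC hy⟩, (mem_centralizer_nested_iff N D ⟨y, hC hy⟩).mpr hy, rfl⟩

theorem mem_sup_centralizer_nested_iff (N : Subgroup G) (D : Subgroup N)
    (hC : Subgroup.centralizer ((D.map N.subtype : Subgroup G) : Set G) ≤ N) (x : N) :
    x ∈ D ⊔ Subgroup.centralizer (D : Set N) ↔
      (x : G) ∈ D.map N.subtype ⊔ Subgroup.centralizer ((D.map N.subtype : Subgroup G) : Set G) := by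
  rw [← map_sup_centralizer_nested N D hC]
  constructor
  · intro hx
    exact ⟨x, hx, rfl⟩
  · rintro ⟨x', hx', hxx⟩
    have : x' = x := Subtype.ext hxx
    rwa [← this]

end nestedCent

section climb

variable {G : Type u} [Group G] [Finite G] {M : Ideal AlgInt}

/-- Auxiliary form of the climbing step, with the subgroups `Q C_G(Q)` as variables. -/
theorem climb_aux {p : ℕ} [hpp : Fact p.Prime] (hM : IsPModular p M) (B : Set (IrrCharacter G))
    (Q : Subgroup G) (hQ : IsPGroup p Q) (L : Subgroup G)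
    (hL : L = Q ⊔ Subgroup.centralizer (Q : Set G))
    (b : Set (IrrCharacter L)) (hb : IsInducedBlock M L b B) :
    ∃ Bt : Set (IrrCharacter ↥(Subgroup.normalizer (Q : Set G))),
      IsInducedBlockIn M (Subgroup.normalizer (Q : Set G)) L b Bt ∧
      IsInducedBlock M (Subgroup.normalizer (Q : Set G)) Bt B ∧
      ((IsDefectGroup p M B Q ∧
          IsDefectGroup p M Bt (Q.subgroupOf (Subgroup.normalizer (Q : Set G)))) ∨
        ∃ Q' : Subgroup G, IsPGroup p Q' ∧ Q < Q' ∧ Q' ≤ Subgroup.normalizer (Q : Set G) ∧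
          IsDefectGroup p M Bt (Q'.subgroupOf (Subgroup.normalizer (Q : Set G))) ∧
          ∃ (L' : Subgroup G) (_ : L' = Q' ⊔ Subgroup.centralizer (Q' : Set G))
            (b' : Set (IrrCharacter L')),
            IsInducedBlock M L' b' B ∧
            IsInducedBlockIn M (Subgroup.normalizer (Q : Set G)) L' b' Bt ∧
            IsDefectGroup p M b' (Q'.subgroupOf L')) := by
  classical
  have hprime : M.IsPrime := isPrime_of_isPModular hM
  set N := Subgroup.normalizer (Q : Set G) with hN
  have hQN : Q ≤ N := Subgroup.le_normalizer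
  have hCN : Subgroup.centralizer (Q : Set G) ≤ N := Subgroup.centralizer_le_normalizer _
  have hLN : L ≤ N := by
    rw [hL]
    exact sup_le hQN hCN
  have hQLG : Q ≤ L := by
    rw [hL]
    exact le_sup_left
  have hCLG : Subgroup.centralizer (Q : Set G) ≤ L := by
    rw [hL]
    exact le_sup_right
  -- the nested data
  set QX : Subgroup N := Q.subgroupOf N with hQX
  have hQXn : QX.Normal := Subgroup.normal_in_normalizer
  have hQXp : IsPGroup p QX := hQ.comap_subtype
  have hκ : ∀ k' : L.subgroupOf N,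
      ((Subgroup.subgroupOfEquivOfLe hLN k' : L) : G) = ((k' : N) : G) := fun _ => rfl
  have hQL : QX ≤ L.subgroupOf N := by
    intro x hx
    rw [Subgroup.mem_subgroupOf]
    rw [hQX, Subgroup.mem_subgroupOf] at hx
    exact hQLG hx
  have hCL : Subgroup.centralizer (QX : Set N) ≤ L.subgroupOf N := by
    intro x hx
    rw [Subgroup.mem_subgroupOf]
    apply hCLG
    rw [Subgroup.mem_centralizer_iff] at hx ⊢
    intro q hq
    have := hx ⟨q, hQN hq⟩ (by rw [hQX]; exact Subgroup.mem_subgroupOf.mpr hq)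
    exact congrArg (Subtype.val : N → G) this
  have hLtop : L.subgroupOf N ≤ Subgroup.normalizer (QX : Set N) := by
    rw [Subgroup.normalizer_eq_top]
    exact le_top
  -- step 1: the induced block in `N`
  obtain ⟨Bt, hBt⟩ := inducedBlockDefined_of_le_normalizer hM QX (L.subgroupOf N) hQXp hQL hCL
    hLtop (BlockIso.pullBlock (Subgroup.subgroupOfEquivOfLe hLN) b)
    (BlockIso.isPBlock_pullBlock (Subgroup.subgroupOfEquivOfLe hLN) hb.1)
  have hIn : IsInducedBlockIn M N L b Bt :=
    (isInducedBlockIn_iff_nested N L (L.subgroupOf N) (Subgroup.subgroupOfEquivOfLe hLN) hκ b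
      Bt).mpr hBt
  have hBtB : IsInducedBlock M N Bt B :=
    isInducedBlock_cancel N L (L.subgroupOf N) (Subgroup.subgroupOfEquivOfLe hLN) hκ b Bt B hBt hb
  refine ⟨Bt, hIn, hBtB, ?_⟩
  -- a defect group of `Bt`
  obtain ⟨Dt, hDt⟩ := Cfsg.Agent.Lib.Helper23.exists_isDefectGroup (p := p) hM Bt hBt.2.1
  have hQD : QX ≤ Dt := le_of_isDefectGroup_of_normal hM QX hQXp hBt.2.1 hDt
  by_cases hcase : Dt = QX
  · left
    rw [hcase] at hDt
    exact ⟨isDefectGroup_of_induced_normalizer hM Q hQ Bt B hBtB hDt, hDt⟩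
  · right
    have hDtp : IsPGroup p Dt := ExtFirstMain.isPGroup_of_isDefectGroup hDt
    set Q' : Subgroup G := Dt.map N.subtype with hQ'
    have hQ'N : Q' ≤ N := Subgroup.map_subtype_le Dt
    have hQQ' : Q ≤ Q' := by
      have := Subgroup.map_mono (f := N.subtype) hQD
      rwa [hQX, Subgroup.map_subgroupOf_eq_of_le hQN] at this
    have hne : Q ≠ Q' := by
      intro h
      apply hcase
      apply Subgroup.map_injective N.subtype_injective
      rw [← hQ', ← h, hQX, Subgroup.map_subgroupOf_eq_of_le hQN]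
    have hDt' : Dt = Q'.subgroupOf N := by
      rw [hQ', Subgroup.subgroupOf, Subgroup.comap_map_eq_self_of_injective N.subtype_injective]
    have hC' : Subgroup.centralizer ((Dt.map N.subtype : Subgroup G) : Set G) ≤ N :=
      (Subgroup.centralizer_le hQQ').trans hCN
    obtain ⟨b'X, hb'D, hb'I⟩ := ExtFirstMain.exists_block_PC hM Bt hBt.2.1 Dt hDt
    have hL'N : Q' ⊔ Subgroup.centralizer (Q' : Set G) ≤ N := sup_le hQ'N hC'
    have hmem : ∀ x : N, x ∈ Dt ⊔ Subgroup.centralizer (Dt : Set N) ↔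
        (x : G) ∈ Q' ⊔ Subgroup.centralizer (Q' : Set G) :=
      mem_sup_centralizer_nested_iff N Dt hC'
    have hκ' : ∀ k' : ↥(Dt ⊔ Subgroup.centralizer (Dt : Set N)),
        ((nestedEquiv N _ _ hmem hL'N k' : ↥(Q' ⊔ Subgroup.centralizer (Q' : Set G))) : G) =
          ((k' : N) : G) := fun _ => rfl
    have hpb : BlockIso.pullBlock (nestedEquiv N _ _ hmem hL'N)
        (BlockIso.pullBlock (nestedEquiv N _ _ hmem hL'N).symm b'X) = b'X := by
      have := BlockIso.pullBlock_symm_pullBlock (nestedEquiv N _ _ hmem hL'N).symm b'X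
      rwa [MulEquiv.symm_symm] at this
    have h1 : IsInducedBlock M (Dt ⊔ Subgroup.centralizer (Dt : Set N))
        (BlockIso.pullBlock (nestedEquiv N _ _ hmem hL'N)
          (BlockIso.pullBlock (nestedEquiv N _ _ hmem hL'N).symm b'X)) Bt := by
      rw [hpb]
      exact hb'I
    refine ⟨Q', hDtp.map _, lt_of_le_of_ne hQQ' hne, hQ'N, hDt' ▸ hDt,
      Q' ⊔ Subgroup.centralizer (Q' : Set G), rfl,
      BlockIso.pullBlock (nestedEquiv N _ _ hmem hL'N).symm b'X,
      isInducedBlock_trans N _ _ (nestedEquiv N _ _ hmem hL'N) hκ' _ Bt B h1 hBtB,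
      (isInducedBlockIn_iff_nested N _ _ (nestedEquiv N _ _ hmem hL'N) hκ' _ Bt).mpr h1, ?_⟩
    have h2 := BlockIso.isDefectGroup_pullBlock (M := M) (p := p)
      (nestedEquiv N _ _ hmem hL'N).symm hb'D
    have h3 : (Dt.subgroupOf (Dt ⊔ Subgroup.centralizer (Dt : Set N))).comap
        (nestedEquiv N _ _ hmem hL'N).symm.toMonoidHom =
        Q'.subgroupOf (Q' ⊔ Subgroup.centralizer (Q' : Set G)) := by
      ext y
      rw [Subgroup.mem_comap, Subgroup.mem_subgroupOf, Subgroup.mem_subgroupOf]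
      constructor
      · intro hy
        exact ⟨_, hy, rfl⟩
      · rintro ⟨d, hd, hdy⟩
        have : d = ((((nestedEquiv N _ _ hmem hL'N).symm y :
            ↥(Dt ⊔ Subgroup.centralizer (Dt : Set N))) : N)) := Subtype.ext hdy
        change ((((nestedEquiv N _ _ hmem hL'N).symm y :
            ↥(Dt ⊔ Subgroup.centralizer (Dt : Set N))) : N)) ∈ Dt
        rw [← this]
        exact hd
    rw [h3] at h2
    exact h2

/-- **Climbing step** (Brauer): a block `b` of `Q C_G(Q)` inducing `B` induces a block `Bt` of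
`N_G(Q)` which induces `B`; either `Q` is a defect group of `B` (and of `Bt`), or there is a strictly
larger `p`-subgroup `Q' ≤ N_G(Q)`, a defect group of `Bt`, and a block `b'` of `Q' C_G(Q')` with defect
group `Q'` inducing both `Bt` (inside `N_G(Q)`) and `B`. -/
theorem climb {p : ℕ} [hpp : Fact p.Prime] (hM : IsPModular p M) (B : Set (IrrCharacter G))
    (Q : Subgroup G) (hQ : IsPGroup p Q)
    (b : Set (IrrCharacter ↥(Q ⊔ Subgroup.centralizer (Q : Set G))))
    (hb : IsInducedBlock M (Q ⊔ Subgroup.centralizer (Q : Set G)) b B) :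
    ∃ Bt : Set (IrrCharacter ↥(Subgroup.normalizer (Q : Set G))),
      IsInducedBlockIn M (Subgroup.normalizer (Q : Set G))
        (Q ⊔ Subgroup.centralizer (Q : Set G)) b Bt ∧
      IsInducedBlock M (Subgroup.normalizer (Q : Set G)) Bt B ∧
      ((IsDefectGroup p M B Q ∧
          IsDefectGroup p M Bt (Q.subgroupOf (Subgroup.normalizer (Q : Set G)))) ∨
        ∃ Q' : Subgroup G, IsPGroup p Q' ∧ Q < Q' ∧ Q' ≤ Subgroup.normalizer (Q : Set G) ∧
          IsDefectGroup p M Bt (Q'.subgroupOf (Subgroup.normalizer (Q : Set G))) ∧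
          ∃ b' : Set (IrrCharacter ↥(Q' ⊔ Subgroup.centralizer (Q' : Set G))),
            IsInducedBlock M (Q' ⊔ Subgroup.centralizer (Q' : Set G)) b' B ∧
            IsInducedBlockIn M (Subgroup.normalizer (Q : Set G))
              (Q' ⊔ Subgroup.centralizer (Q' : Set G)) b' Bt ∧
            IsDefectGroup p M b' (Q'.subgroupOf (Q' ⊔ Subgroup.centralizer (Q' : Set G)))) := by
  obtain ⟨Bt, h1, h2, h3⟩ := climb_aux hM B Q hQ _ rfl b hb
  refine ⟨Bt, h1, h2, ?_⟩
  rcases h3 with h3 | ⟨Q', hQ'p, hlt, hQ'N, hQ'D, L', hL', b', h4, h5, h6⟩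
  · exact Or.inl h3
  · subst hL'
    exact Or.inr ⟨Q', hQ'p, hlt, hQ'N, hQ'D, b', h4, h5, h6⟩

end climb

end Cfsg.Agent.Lib.Helper24
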