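import Cfsg.Agent.Lib.Helper24.SLMinC1Rel
import Cfsg.Agent.Lib.Helper13.SLMinW
import Cfsg.Agent.Lib.Helper10.SLMinStage
import Cfsg.Agent.Lib.Helper25.SLMinSym3

/-!
# S2332, leaf C1, sub-leaf (S2): the symmetry input of the rank-two exclusion for `q ≥ 4`

`h = 1 + (c - 1) v φᵀ` (`φ·v = 1`, `φ·w = 0`, so `h v = c v`, `h w = w`, `det h = c`) and
`g = levi (bd c⁻² h)` map the pair of weights `(v, w₀)` to `(v, c² • h w₀)`; together with the
`rx`-invariance `d(v, w) = d(v, w - t v)` this gives `q + 1` vectors `w'` with `d(v, w') = d(v, w)`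
as soon as `c² ≠ 1`.
-/

set_option autoImplicit false
set_option linter.unusedSectionVars false

namespace Cfsg.Agent.Lib.Helper24.SLMin

open Matrix Module Cfsg.Agent.Lib.Helper16.SLMin

section dil

variable {F : Type*} [Field F] {J : Type*} [Fintype J] [DecidableEq J]

/-- the dilation `1 + (c - 1) v φᵀ` as a matrix -/
def dilM (c : F) (v φ : J → F) : Matrix J J F := 1 + vecMulVec ((c - 1) • v) φ

theorem dilM_mulVec (c : F) (v φ u : J → F) :
    dilM c v φ *ᵥ u = u + (φ ⬝ᵥ u) • ((c - 1) • v) := by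
  unfold dilM
  rw [add_mulVec, one_mulVec, vecMulVec_mulVec, op_smul_eq_smul]

theorem det_dilM (c : F) (v φ : J → F) (h : φ ⬝ᵥ v = 1) : (dilM c v φ).det = c := by
  unfold dilM
  rw [vecMulVec_eq Unit, det_one_add_replicateCol_mul_replicateRow, dotProduct_smul, h,
    smul_eq_mul, mul_one, add_sub_cancel]

/-- the dilation as an element of `GL J F` -/
noncomputable def dil (c : Fˣ) (v φ : J → F) (h : φ ⬝ᵥ v = 1) : GL J F :=
  Matrix.GeneralLinearGroup.mkOfDetNeZero (dilM (c : F) v φ) (by rw [det_dilM _ _ _ h]; exact c.ne_zero)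

theorem dil_coe (c : Fˣ) (v φ : J → F) (h : φ ⬝ᵥ v = 1) :
    ((dil c v φ h : GL J F) : Matrix J J F) = dilM (c : F) v φ := rfl

theorem det_dil (c : Fˣ) (v φ : J → F) (h : φ ⬝ᵥ v = 1) :
    ((dil c v φ h : GL J F) : Matrix J J F).det = (c : F) := by
  rw [dil_coe, det_dilM _ _ _ h]

/-- the pairing identity for `GL`: `(h u) ⬝ (r h⁻¹) = u ⬝ r` -/
theorem gl_mulVec_dot_vecMul_inv (h : GL J F) (u r : J → F) :
    ((h : Matrix J J F) *ᵥ u) ⬝ᵥ (r ᵥ* ((h⁻¹ : GL J F) : Matrix J J F)) = u ⬝ᵥ r := by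
  rw [dotProduct_comm, ← dotProduct_mulVec, mulVec_mulVec]
  have : ((h⁻¹ : GL J F) : Matrix J J F) * (h : Matrix J J F) = 1 := by
    rw [← Units.val_mul, inv_mul_cancel, Units.val_one]
  rw [this, one_mulVec, dotProduct_comm]

theorem vecMul_inv_surjective (h : GL J F) (k : F) (hk : k ≠ 0) :
    Function.Surjective (fun r : J → F => k • (r ᵥ* ((h⁻¹ : GL J F) : Matrix J J F))) := by
  intro r
  refine ⟨k⁻¹ • (r ᵥ* (h : Matrix J J F)), ?_⟩
  have : (h : Matrix J J F) * ((h⁻¹ : GL J F) : Matrix J J F) = 1 := by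
    rw [← Units.val_mul, mul_inv_cancel, Units.val_one]
  show k • ((k⁻¹ • (r ᵥ* (h : Matrix J J F))) ᵥ* ((h⁻¹ : GL J F) : Matrix J J F)) = r
  rw [smul_vecMul, vecMul_vecMul, this, vecMul_one, smul_smul, mul_inv_cancel₀ hk, one_smul]

/-- for `q ≥ 4` some unit has `c² ≠ 1` -/
theorem exists_sq_ne_one [Fintype F] (hq : 4 ≤ Fintype.card F) :
    ∃ c : Fˣ, (c : F) * (c : F) ≠ 1 := by
  classical
  by_contra hcon
  push Not at hcon
  obtain ⟨g, hg⟩ := IsCyclic.exists_generator (α := Fˣ)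
  have hord : orderOf g = Fintype.card Fˣ := by
    rw [orderOf_eq_card_of_forall_mem_zpowers hg, Nat.card_eq_fintype_card]
  have h2 : g ^ 2 = 1 := by
    apply Units.ext
    rw [Units.val_pow_eq_pow_val, Units.val_one, pow_two]
    exact hcon g
  have hdvd : orderOf g ∣ 2 := orderOf_dvd_of_pow_eq_one h2
  rw [hord, Fintype.card_units] at hdvd
  have hle : Fintype.card F - 1 ≤ 2 := Nat.le_of_dvd (by norm_num) hdvd
  omega

end dil

section S2

variable {F : Type*} [Field F] [Fintype F] [DecidableEq F] {M : Type*} [AddCommGroup M]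
  [Module ℂ M] [FiniteDimensional ℂ M] {J : Type*} [Fintype J] [DecidableEq J]
  (ρ : Representation ℂ (SpecialLinearGroup (Unit ⊕ (Unit ⊕ J)) F) M)

/-- the torus element `levi (bd c⁻² h)` moves the pair of weights `(v₀, w₀)` to
`(c⁻¹ • h v₀, c² • h w₀)` -/
theorem map_torus_wt (c : Fˣ) (h : GL J F) (hdet : (h : Matrix J J F).det = (c : F))
    (v₀ w₀ : J → F) :
    Submodule.map (ρ (levi (bd (c⁻¹ * c⁻¹) h)))
        (wt ρ (ra (F := F) (J := J)) v₀ ⊓ wt ρ (rb (F := F) (J := J)) w₀) =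
      wt ρ (ra (F := F) (J := J)) (((c⁻¹ : Fˣ) : F) • ((h : Matrix J J F) *ᵥ v₀)) ⊓
        wt ρ (rb (F := F) (J := J)) (((c : F) * (c : F)) • ((h : Matrix J J F) *ᵥ w₀)) := by
  have hc : (c : F) ≠ 0 := c.ne_zero
  have hk : (((c⁻¹ * c⁻¹ : Fˣ) : F) * (h : Matrix J J F).det)⁻¹ = (c : F) := by
    rw [hdet]
    push_cast
    field_simp
  have ha : Submodule.map (ρ (levi (bd (c⁻¹ * c⁻¹) h))) (wt ρ (ra (F := F) (J := J)) v₀) =
      wt ρ (ra (F := F) (J := J)) (((c⁻¹ : Fˣ) : F) • ((h : Matrix J J F) *ᵥ v₀)) := by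
    apply Cfsg.Agent.Lib.Helper13.SLMin.map_wt_of_conj ρ ra ra (levi (bd (c⁻¹ * c⁻¹) h))
      (fun r => (c : F) • (r ᵥ* ((h⁻¹ : GL J F) : Matrix J J F)))
      (vecMul_inv_surjective h _ hc)
    · intro r
      unfold ra
      rw [levi_bd_rad, hk, smul_zero]
    · intro r
      rw [smul_dotProduct, dotProduct_smul, smul_smul, gl_mulVec_dot_vecMul_inv]
      push_cast
      rw [inv_mul_cancel₀ hc, one_smul]
  have hb : Submodule.map (ρ (levi (bd (c⁻¹ * c⁻¹) h))) (wt ρ (rb (F := F) (J := J)) w₀) =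
      wt ρ (rb (F := F) (J := J)) (((c : F) * (c : F)) • ((h : Matrix J J F) *ᵥ w₀)) := by
    apply Cfsg.Agent.Lib.Helper13.SLMin.map_wt_of_conj ρ rb rb (levi (bd (c⁻¹ * c⁻¹) h))
      (fun r => ((c⁻¹ * c⁻¹ : Fˣ) : F) • (r ᵥ* ((h⁻¹ : GL J F) : Matrix J J F)))
      (vecMul_inv_surjective h _ (Units.ne_zero _))
    · intro r
      rw [levi_bd_rb]
    · intro r
      rw [smul_dotProduct, dotProduct_smul, smul_smul, gl_mulVec_dot_vecMul_inv]
      have : (c : F) * (c : F) * ((c⁻¹ * c⁻¹ : Fˣ) : F) = 1 := by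
        push_cast
        field_simp
      rw [this, one_smul]
  rw [Cfsg.Agent.Lib.Helper13.SLMin.map_rho_inf, ha, hb]

/-- (S2): the symmetry input of A1 for `q ≥ 4` (stated for `|J| = 2`, where it is needed). -/
theorem stage0_hSym_eq2 (h2 : Fintype.card J = 2) (hq : 4 ≤ Fintype.card F)
    (hm1 : ∀ u : Unit ⊕ J → F, u ≠ 0 →
      finrank ℂ ↥(wt ρ (rad (F := F) (ι' := Unit ⊕ J)) u) = 1) :
    ∀ v w : J → F, LinearIndependent F ![v, w] → ∃ S : Finset (J → F),
      Fintype.card F < S.card ∧ ∀ w' ∈ S,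
        finrank ℂ ↥((⊤ : Submodule ℂ M) ⊓ wt ρ (ra (F := F) (J := J)) v ⊓
          wt ρ (rb (F := F) (J := J)) w') =
        finrank ℂ ↥((⊤ : Submodule ℂ M) ⊓ wt ρ (ra (F := F) (J := J)) v ⊓
          wt ρ (rb (F := F) (J := J)) w) := by
  classical
  intro v w hvw
  have hpair := LinearIndependent.pair_iff.mp hvw
  have hv : v ≠ 0 := by
    rintro rfl
    have := hpair 1 0 (by simp)
    exact one_ne_zero this.1
  -- the functional
  have hwv : LinearIndependent F ![w, v] := by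
    rw [LinearIndependent.pair_iff]
    intro s t hst
    have := hpair t s (by rw [add_comm]; exact hst)
    exact ⟨this.2, this.1⟩
  obtain ⟨φ, hφw, hφv⟩ := Cfsg.Agent.Lib.Helper25.SLMin.exists_dot_functional w v hwv
  obtain ⟨c, hc⟩ := exists_sq_ne_one (F := F) hq
  have hc0 : (c : F) ≠ 0 := c.ne_zero
  set h : GL J F := dil c v φ hφv with hh
  have hdet : (h : Matrix J J F).det = (c : F) := det_dil c v φ hφv
  have hhv : (h : Matrix J J F) *ᵥ v = (c : F) • v := by
    rw [hh, dil_coe, dilM_mulVec, hφv, one_smul, sub_smul, one_smul, add_sub_cancel]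
  have hhw : (h : Matrix J J F) *ᵥ w = w := by
    rw [hh, dil_coe, dilM_mulVec, hφw, zero_smul, add_zero]
  -- the torus symmetry
  have htor : finrank ℂ ↥((⊤ : Submodule ℂ M) ⊓ wt ρ (ra (F := F) (J := J)) v ⊓
        wt ρ (rb (F := F) (J := J)) (((c : F) * (c : F)) • w)) =
      finrank ℂ ↥((⊤ : Submodule ℂ M) ⊓ wt ρ (ra (F := F) (J := J)) v ⊓
        wt ρ (rb (F := F) (J := J)) w) := by
    have h1 := map_torus_wt ρ c h hdet v w
    rw [hhv, hhw, smul_smul] at h1
    have e : ((c⁻¹ : Fˣ) : F) * (c : F) = 1 := by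
      push_cast
      exact inv_mul_cancel₀ hc0
    rw [e, one_smul] at h1
    rw [top_inf_eq, ← h1, Cfsg.Agent.Lib.Helper13.SLMin.finrank_map_rho]
  -- the `rx`-invariance
  have hN : ∀ t, ∀ m ∈ (⊤ : Submodule ℂ M), ρ (rx (F := F) (J := J) t) m ∈ (⊤ : Submodule ℂ M) :=
    fun _ _ _ => Submodule.mem_top
  have hshift : ∀ t : F, finrank ℂ ↥((⊤ : Submodule ℂ M) ⊓ wt ρ (ra (F := F) (J := J)) v ⊓
        wt ρ (rb (F := F) (J := J)) (w - t • v)) =
      finrank ℂ ↥((⊤ : Submodule ℂ M) ⊓ wt ρ (ra (F := F) (J := J)) v ⊓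
        wt ρ (rb (F := F) (J := J)) w) := by
    intro t
    exact (Cfsg.Agent.Lib.Helper10.SLMin.finrank_shift ρ (rx (F := F) (J := J)) ra rb
      rx_ra_comm rx_rb_conj ⊤ hN t v w).symm
  -- the set `S`
  have hinj : Function.Injective (fun t : F => w - t • v) := by
    intro s t hst
    have h1 : (s - t) • v = 0 := by
      rw [sub_smul]
      have : w - s • v = w - t • v := hst
      have h2 : s • v = t • v := by
        have := congrArg (fun x => w - x) this
        simpa using this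
      rw [h2, sub_self]
    rcases smul_eq_zero.mp h1 with h3 | h3
    · exact sub_eq_zero.mp h3
    · exact absurd h3 hv
  have hnot : ((c : F) * (c : F)) • w ∉ Finset.image (fun t : F => w - t • v) Finset.univ := by
    intro hmem
    obtain ⟨t, _, ht⟩ := Finset.mem_image.mp hmem
    have h1 : (-t) • v + (1 - (c : F) * (c : F)) • w = 0 := by
      have : w - t • v = ((c : F) * (c : F)) • w := ht
      rw [sub_smul, one_smul, ← this]
      simp [neg_smul]
    have := hpair (-t) (1 - (c : F) * (c : F)) h1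
    exact hc (sub_eq_zero.mp this.2).symm
  refine ⟨insert (((c : F) * (c : F)) • w) (Finset.image (fun t : F => w - t • v) Finset.univ),
    ?_, ?_⟩
  · rw [Finset.card_insert_of_notMem hnot, Finset.card_image_of_injective _ hinj,
      Finset.card_univ]
    exact Nat.lt_succ_self _
  · intro w' hw'
    rcases Finset.mem_insert.mp hw' with rfl | hw'
    · exact htor
    · obtain ⟨t, _, rfl⟩ := Finset.mem_image.mp hw'
      exact hshift t

end S2

end Cfsg.Agent.Lib.Helper24.SLMin
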