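import Cfsg.Agent.Lib.Helper24.SLMinC1Rel
import Cfsg.Agent.Lib.Helper13.SLMinW

/-!
# S2332, leaf C1, sub-leaf (X1): the mixing element for `|J| = 1`, `q ∉ {2, 4}`

`g = levi (bd c (c⁻² • 1)) = diag(c; c; c⁻²)` with `c³ ≠ 1`: it centralises `rx`, and scales `ra`,
`rb` by `c³`.
-/

set_option autoImplicit false
set_option linter.unusedSectionVars false

namespace Cfsg.Agent.Lib.Helper24.SLMin

open Matrix Module Cfsg.Agent.Lib.Helper16.SLMin

section scalar

variable {F : Type*} [Field F] {J : Type*} [Fintype J] [DecidableEq J]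

/-- the scalar matrix `d • 1` as an element of `GL J F` -/
def scal (d : Fˣ) : GL J F where
  val := (d : F) • (1 : Matrix J J F)
  inv := ((d⁻¹ : Fˣ) : F) • (1 : Matrix J J F)
  val_inv := by
    rw [smul_mul_smul_comm, mul_one, ← Units.val_mul, mul_inv_cancel, Units.val_one, one_smul]
  inv_val := by
    rw [smul_mul_smul_comm, mul_one, ← Units.val_mul, inv_mul_cancel, Units.val_one, one_smul]

theorem scal_coe (d : Fˣ) : ((scal d : GL J F) : Matrix J J F) = (d : F) • (1 : Matrix J J F) := rfl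

theorem scal_inv_coe (d : Fˣ) :
    (((scal d : GL J F)⁻¹ : GL J F) : Matrix J J F) = ((d⁻¹ : Fˣ) : F) • (1 : Matrix J J F) := rfl

theorem det_scal (d : Fˣ) : ((scal d : GL J F) : Matrix J J F).det = (d : F) ^ Fintype.card J := by
  rw [scal_coe, det_smul, det_one, mul_one]

/-- the mixing torus element `diag(c; c; c⁻²)` (for `|J| = 1`) -/
noncomputable def mixT (c : Fˣ) : SpecialLinearGroup (Unit ⊕ (Unit ⊕ J)) F :=
  levi (bd c (scal (c⁻¹ * c⁻¹)))

theorem mixT_rad (h1 : Fintype.card J = 1) (c : Fˣ) (a : Unit → F) (v : J → F) :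
    mixT c * rad (Sum.elim a v) * (mixT c)⁻¹ =
      rad (Sum.elim a (((c : F) * (c : F) * (c : F)) • v)) := by
  unfold mixT
  rw [levi_bd_rad, det_scal, h1, pow_one, scal_inv_coe, vecMul_smul, vecMul_one]
  have hc : (c : F) ≠ 0 := c.ne_zero
  congr 2
  · have e : ((c : F) * ((c⁻¹ * c⁻¹ : Fˣ) : F))⁻¹ * ((c⁻¹ : Fˣ) : F) = 1 := by
      push_cast
      field_simp
    rw [e, one_smul]
  · rw [smul_smul]
    congr 1
    push_cast
    field_simp

theorem mixT_rx (h1 : Fintype.card J = 1) (c : Fˣ) (t : Unit → F) :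
    mixT (J := J) c * rx t * (mixT c)⁻¹ = rx t := by
  unfold rx
  rw [mixT_rad h1, smul_zero]

theorem mixT_ra (h1 : Fintype.card J = 1) (c : Fˣ) (v : J → F) :
    mixT c * ra v * (mixT c)⁻¹ = ra (((c : F) * (c : F) * (c : F)) • v) := by
  unfold ra
  rw [mixT_rad h1]

theorem mixT_rb (c : Fˣ) (w : J → F) :
    mixT c * rb w * (mixT c)⁻¹ = rb (((c : F) * (c : F) * (c : F)) • w) := by
  unfold mixT
  rw [levi_bd_rb, scal_inv_coe, vecMul_smul, vecMul_one, smul_smul]
  congr 2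
  have hc : (c : F) ≠ 0 := c.ne_zero
  push_cast
  field_simp

/-- outside `q ∈ {2, 4}` some unit has `c³ ≠ 1` -/
theorem exists_cube_ne_one [Fintype F] (hq2 : Fintype.card F ≠ 2) (hq4 : Fintype.card F ≠ 4) :
    ∃ c : Fˣ, (c : F) * (c : F) * (c : F) ≠ 1 := by
  classical
  by_contra hcon
  push Not at hcon
  obtain ⟨g, hg⟩ := IsCyclic.exists_generator (α := Fˣ)
  have hord : orderOf g = Fintype.card Fˣ := by
    rw [orderOf_eq_card_of_forall_mem_zpowers hg, Nat.card_eq_fintype_card]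
  have h3 : g ^ 3 = 1 := by
    apply Units.ext
    rw [Units.val_pow_eq_pow_val, Units.val_one, pow_succ, pow_two]
    exact hcon g
  have hdvd : orderOf g ∣ 3 := orderOf_dvd_of_pow_eq_one h3
  rw [hord, Fintype.card_units] at hdvd
  have hle : Fintype.card F - 1 ≤ 3 := Nat.le_of_dvd (by norm_num) hdvd
  have hpos : 1 < Fintype.card F := Fintype.one_lt_card
  have : Fintype.card F - 1 = 1 ∨ Fintype.card F - 1 = 3 := by
    have h13 : (Fintype.card F - 1) ∈ Nat.divisors 3 := Nat.mem_divisors.mpr ⟨hdvd, by norm_num⟩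
    have : Nat.divisors 3 = {1, 3} := by decide
    rw [this] at h13
    simpa using h13
  rcases this with h | h
  · exact hq2 (by omega)
  · exact hq4 (by omega)

end scalar

section X1

variable {F : Type*} [Field F] [Fintype F] [DecidableEq F] {M : Type*} [AddCommGroup M]
  [Module ℂ M] [FiniteDimensional ℂ M] {J : Type*} [Fintype J] [DecidableEq J]
  (ρ : Representation ℂ (SpecialLinearGroup (Unit ⊕ (Unit ⊕ J)) F) M)

/-- (X1): the mixing element for `|J| = 1`, `q ∉ {2, 4}`. -/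
theorem stage0_hMix_eq1 (h1 : Fintype.card J = 1) (hq2 : Fintype.card F ≠ 2)
    (hq4 : Fintype.card F ≠ 4) :
    ∀ a : Unit → F, a ≠ 0 → ∀ w : J → F, w ≠ 0 →
      ∃ (g : SpecialLinearGroup (Unit ⊕ (Unit ⊕ J)) F) (w' : J → F), w' ≠ w ∧
        Submodule.map (ρ g) ((⊤ : Submodule ℂ M) ⊓ wt ρ (rx (F := F) (J := J)) a ⊓
          wt ρ (ra (F := F) (J := J)) 0) =
          (⊤ : Submodule ℂ M) ⊓ wt ρ (rx (F := F) (J := J)) a ⊓ wt ρ (ra (F := F) (J := J)) 0 ∧
        Submodule.map (ρ g) ((⊤ : Submodule ℂ M) ⊓ wt ρ (ra (F := F) (J := J)) 0 ⊓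
          wt ρ (rb (F := F) (J := J)) w) =
          (⊤ : Submodule ℂ M) ⊓ wt ρ (ra (F := F) (J := J)) 0 ⊓
            wt ρ (rb (F := F) (J := J)) w' := by
  intro a _ w hw
  obtain ⟨c, hc⟩ := exists_cube_ne_one (F := F) hq2 hq4
  set k : F := (c : F) * (c : F) * (c : F) with hk
  have hk0 : k ≠ 0 := by
    rw [hk]
    exact mul_ne_zero (mul_ne_zero c.ne_zero c.ne_zero) c.ne_zero
  have hsurj : Function.Surjective (fun r : J → F => k • r) := by
    intro r
    exact ⟨k⁻¹ • r, by simp [smul_smul, mul_inv_cancel₀ hk0]⟩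
  -- the three weight-space maps
  have hx : Submodule.map (ρ (mixT c)) (wt ρ (rx (F := F) (J := J)) a) =
      wt ρ (rx (F := F) (J := J)) a :=
    Cfsg.Agent.Lib.Helper13.SLMin.map_wt_of_conj ρ rx rx (mixT c) id Function.surjective_id
      (fun r => mixT_rx h1 c r) a a (fun _ => rfl)
  have ha : Submodule.map (ρ (mixT c)) (wt ρ (ra (F := F) (J := J)) 0) =
      wt ρ (ra (F := F) (J := J)) 0 :=
    Cfsg.Agent.Lib.Helper13.SLMin.map_wt_of_conj ρ ra ra (mixT c) (fun r => k • r) hsurj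
      (fun r => mixT_ra h1 c r) 0 0 (fun r => by rw [zero_dotProduct, zero_dotProduct])
  have hb : Submodule.map (ρ (mixT c)) (wt ρ (rb (F := F) (J := J)) w) =
      wt ρ (rb (F := F) (J := J)) (k⁻¹ • w) :=
    Cfsg.Agent.Lib.Helper13.SLMin.map_wt_of_conj ρ rb rb (mixT c) (fun r => k • r) hsurj
      (fun r => mixT_rb c r) w (k⁻¹ • w) (fun r => by
        rw [smul_dotProduct, dotProduct_smul, smul_smul, inv_mul_cancel₀ hk0, one_smul])
  refine ⟨mixT c, k⁻¹ • w, ?_, ?_, ?_⟩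
  · intro h
    apply hc
    have h2 : (k⁻¹ - 1) • w = 0 := by rw [sub_smul, one_smul, h, sub_self]
    rcases smul_eq_zero.mp h2 with h3 | h3
    · have : k⁻¹ = 1 := sub_eq_zero.mp h3
      exact inv_eq_one.mp this
    · exact absurd h3 hw
  · rw [top_inf_eq, Cfsg.Agent.Lib.Helper13.SLMin.map_rho_inf, hx, ha]
  · rw [top_inf_eq, Cfsg.Agent.Lib.Helper13.SLMin.map_rho_inf, ha, hb]

end X1

end Cfsg.Agent.Lib.Helper24.SLMin
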