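import Cfsg.Agent.Lib.Helper24.SLMinC1
import Cfsg.Agent.Lib.Helper24.SLMinC1X1
import Cfsg.Agent.Lib.Helper24.SLMinC1S2

/-!
# S2332, leaf C1: `stage0` (helper16's exact name and binders)
-/

set_option autoImplicit false

namespace Cfsg.Agent.Lib.Helper24.SLMin

open Matrix Module Cfsg.Agent.Lib.Helper16.SLMin

variable {F : Type*} [Field F] [Fintype F] [DecidableEq F] {M : Type*} [AddCommGroup M]
  [Module ℂ M] [FiniteDimensional ℂ M]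

/-- C1: stage 0. -/
theorem stage0 {J : Type*} [Fintype J] [DecidableEq J]
    (ρ : Representation ℂ (SpecialLinearGroup (Unit ⊕ (Unit ⊕ J)) F) M)
    (hm1 : ∀ u : Unit ⊕ J → F, u ≠ 0 →
      finrank ℂ ↥(wt ρ (rad (F := F) (ι' := Unit ⊕ J)) u) = 1)
    (hgen : 3 ≤ Fintype.card J ∨ (Fintype.card J = 2 ∧ 4 ≤ Fintype.card F) ∨
      (Fintype.card J = 1 ∧ Fintype.card F ≠ 2 ∧ Fintype.card F ≠ 4)) :
    ∀ w : J → F, w ≠ 0 →
      finrank ℂ ↥(wt ρ (rad (F := F) (ι' := Unit ⊕ J)) 0 ⊓ wt ρ (rb (F := F) (J := J)) w) = 1 :=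
  stage0_core ρ hm1 hgen (fun h2 hq => stage0_hSym_eq2 ρ h2 hq hm1)
    (fun h1 hq2 hq4 => stage0_hMix_eq1 ρ h1 hq2 hq4)

end Cfsg.Agent.Lib.Helper24.SLMin
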