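/- helper24: STRUCTURE part of the (P)-kill (helper27 n-ary counting), phase 1: M of type (P) (TypeP M E E1 E3), X le E of prime order, H a maximal subgroup over N_G(X): E, T le H, X le H_sigma (G1), M_sigma inf H = T, M inf H = E T, primes of T in kappa(H), H_sigma inf M = C_{H_sigma}(Y) = H_sigma inf E, C_G(a) le M for a in T. -/
import Mathlib
import Cfsg.Agent.Lib.Helper24.BGC2TC

set_option autoImplicit false
set_option linter.style.haveILetI false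
set_option linter.unusedSectionVars false
open scoped commutatorElement

namespace Cfsg.Agent.Lib.Helper24.BGPStr

open Cfsg.Agent.Lib.Helper17.BGC2 (CaseII FaithfulPair)
open Cfsg.Agent.Lib.Helper17.BGR2 (H1428)
open Cfsg.Agent.Lib.Helper2.BGCor (sigmaCore_le primes_card_sigmaCore conj_mem_sigmaCore)
open Cfsg.Agent.Lib.Helper24.BGC2T (TypeP)
open Cfsg.Agent.Lib.Helper24.BGC2C (exists_generator_of_prime_card)
open Cfsg.Agent.Lib.Helper24.BGReg (h17n h18a h23 h24)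
open Cfsg.Agent.Lib.Helper8 (mem_map_conj conj_mem_map_conj map_conj_map_conj map_conj_one
  map_conj_le_iff map_conj_eq_iff card_map_conj mem_normalizer_iff_map_conj)

universe u

variable {G : Type u} [Group G] [Finite G] {M E E1 E3 : Subgroup G}

/-! ### Phase 1: the partner `H ⊇ N_G(X)` of a subgroup `X ≤ E` of prime order, `M` of type (P)

`T := sigmaCore M ⊓ centralizer E3` (`= C_{M_σ}(E)`), `Z := E ⊔ T`. -/

section partner

variable (t : TypeP M E E1 E3) {X H : Subgroup G} (hXE : X ≤ E) (hXp : (Nat.card X).Prime)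
  (hH : IsCoatom H) (hNH : Subgroup.normalizer (X : Set G) ≤ H)

include t hXE hXp

theorem X_ne_bot : X ≠ ⊥ := by
  intro h
  rw [h, Subgroup.card_bot] at hXp
  exact Nat.not_prime_one hXp

theorem isPGroup_X : IsPGroup (Nat.card X) X :=
  IsPGroup.of_card (n := 1) (by rw [pow_one])

theorem X_le_M : X ≤ M := hXE.trans t.c.hEM

theorem card_mem_kappa : Nat.card X ∈ Cfsg.kappa M :=
  t.kappa_of_dvd hXp (Subgroup.card_dvd_of_le hXE)

theorem card_not_mem_sigma : Nat.card X ∉ Cfsg.sigma M := (card_mem_kappa t hXE hXp).2.2.1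

theorem rank_one : Cfsg.PRankLE (Nat.card X) 1 ↥M :=
  Cfsg.Agent.Lib.Helper2.BGCor.pRankLE_one_of_kappa (card_mem_kappa t hXE hXp)

/-- `C_{M_σ}(X) = T`. -/
theorem cent_X : Cfsg.sigmaCore M ⊓ Subgroup.centralizer (X : Set G) =
    Cfsg.sigmaCore M ⊓ Subgroup.centralizer (E3 : Set G) := by
  obtain ⟨y, hyX, hy1, -, -⟩ := exists_generator_of_prime_card hXp rfl
  rw [← Cfsg.Agent.Lib.Helper24.BG36Nab.centralizer_singleton_eq_of_prime_card hXp hyX hy1,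
    t.cent_elem (hXE hyX) hy1]

include hNH

theorem E_le_H : E ≤ H := (t.le_normalizer_prime hXE hXp).trans hNH

theorem T_le_H : Cfsg.sigmaCore M ⊓ Subgroup.centralizer (E3 : Set G) ≤ H := by
  rw [← cent_X t hXE hXp]
  exact inf_le_right.trans ((Subgroup.centralizer_le_normalizer _).trans hNH)

include hH

theorem zero_H : (∀ g : G, H ≠ M.map (MulAut.conj g).toMonoidHom) ∧
    (Nat.card X ∈ Cfsg.sigma H ∨ Nat.card X ∈ Cfsg.tau2 H) ∧ Nat.card X ∉ Cfsg.tau1 H := by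
  haveI : Fact (Nat.card X).Prime := ⟨hXp⟩
  exact Cfsg.Agent.Lib.Helper16.BGPrim.thm13_2_zero t.c.hG hH (card_not_mem_sigma t hXE hXp)
    (rank_one t hXE hXp) (isPGroup_X t hXE hXp) (X_ne_bot t hXE hXp) hNH

theorem nonconj_H : ∀ g : G, H ≠ M.map (MulAut.conj g).toMonoidHom :=
  (zero_H t hXE hXp hH hNH).1

theorem H_ne_M : H ≠ M := by
  intro h
  apply nonconj_H t hXE hXp hH hNH 1
  rw [map_conj_one, h]

/-- **G1**: `X ≤ H_σ`. -/
theorem X_le_sigmaCore_H : X ≤ Cfsg.sigmaCore H :=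
  Cfsg.Agent.Lib.Helper17.BGC2.corG1 t.c.hG t.c.h28 t.c.hM X (X_le_M t hXE hXp)
    (card_mem_kappa t hXE hXp) H hH hNH

theorem card_mem_sigma_H : Nat.card X ∈ Cfsg.sigma H :=
  primes_card_sigmaCore H _ hXp (Subgroup.card_dvd_of_le (X_le_sigmaCore_H t hXE hXp hH hNH))

/-- `M_σ ∩ H = T`. -/
theorem sigmaCore_inf_H : Cfsg.sigmaCore M ⊓ H =
    Cfsg.sigmaCore M ⊓ Subgroup.centralizer (E3 : Set G) := by
  haveI : Fact (Nat.card X).Prime := ⟨hXp⟩
  rw [← cent_X t hXE hXp]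
  exact Cfsg.Agent.Lib.Helper16.BGPrim.thm13_2_c t.c.hG (h17n t.c.hG) (h18a t.c.hG) (h23 t.c.hG)
    (h24 t.c.hG) t.c.hM hH (card_not_mem_sigma t hXE hXp) (rank_one t hXE hXp)
    (isPGroup_X t hXE hXp) (X_ne_bot t hXE hXp) (X_le_M t hXE hXp) hNH

/-- `M ∩ H = E T`. -/
theorem M_inf_H : M ⊓ H = E ⊔ (Cfsg.sigmaCore M ⊓ Subgroup.centralizer (E3 : Set G)) := by
  apply le_antisymm
  · intro m hm
    obtain ⟨a, ha, b, hb, rfl⟩ := t.c.hE.2.2.2 m hm.1
    have haH : a ∈ H := E_le_H t hXE hXp hNH ha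
    have hbH : b ∈ H := by
      have : b = a⁻¹ * (a * b) := by group
      rw [this]
      exact H.mul_mem (H.inv_mem haH) hm.2
    have hbT : b ∈ Cfsg.sigmaCore M ⊓ Subgroup.centralizer (E3 : Set G) := by
      rw [← sigmaCore_inf_H t hXE hXp hH hNH]
      exact Subgroup.mem_inf.mpr ⟨hb, hbH⟩
    exact Subgroup.mul_mem _ (Subgroup.mem_sup_left ha) (Subgroup.mem_sup_right hbT)
  · apply sup_le
    · exact le_inf t.c.hEM (E_le_H t hXE hXp hNH)
    · exact le_inf (inf_le_left.trans (sigmaCore_le M)) (T_le_H t hXE hXp hNH)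

/-- `T ≤ M_σ'`. -/
theorem T_le_commutator : Cfsg.sigmaCore M ⊓ Subgroup.centralizer (E3 : Set G) ≤
    ⁅Cfsg.sigmaCore M, Cfsg.sigmaCore M⁆ := by
  rw [← t.cent_E]
  exact (Cfsg.Agent.S1426.result t.c.hG M t.c.hM E t.c.hE).1

/-- the primes of `T` lie in `κ(H)`, outside `σ(H) ∪ τ₂(H)`. -/
theorem mem_kappa_H {Y : Subgroup G} {q : ℕ} (hq : q.Prime) (hYc : Nat.card Y = q)
    (hYT : Y ≤ Cfsg.sigmaCore M ⊓ Subgroup.centralizer (E3 : Set G)) :
    q ∉ Cfsg.sigma H ∧ q ∉ Cfsg.tau2 H ∧ q ∈ Cfsg.kappa H := by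
  obtain ⟨x, hxX, hx1, -, -⟩ := exists_generator_of_prime_card hXp rfl
  refine Cfsg.Agent.Lib.Helper24.BGC2C.mem_kappa_of_le_commutator t.c.hG t.c.hM hH
    (nonconj_H t hXE hXp hH hNH) hq hYc (hYT.trans (T_le_commutator t hXE hXp hH hNH))
    (hYT.trans (T_le_H t hXE hXp hNH)) (X_le_sigmaCore_H t hXE hXp hH hNH hxX) hx1 ?_
  intro y hy
  exact (t.comm_T (hYT hy) (hXE hxX)).symm

/-- `H_σ ∩ M = C_{H_σ}(Y)` for every subgroup `Y ≤ T` of prime order. -/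
theorem sigmaCore_H_inf_M {Y : Subgroup G} {q : ℕ} (hq : q.Prime) (hYc : Nat.card Y = q)
    (hYT : Y ≤ Cfsg.sigmaCore M ⊓ Subgroup.centralizer (E3 : Set G)) :
    Cfsg.sigmaCore H ⊓ M = Cfsg.sigmaCore H ⊓ Subgroup.centralizer (Y : Set G) := by
  obtain ⟨x, hxX, hx1, -, -⟩ := exists_generator_of_prime_card hXp rfl
  refine Cfsg.Agent.Lib.Helper24.BGC2C.sigmaCore_inf_eq_centralizer t.c.hG t.c.hM hH
    (nonconj_H t hXE hXp hH hNH) hq hYc (hYT.trans (T_le_commutator t hXE hXp hH hNH))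
    (hYT.trans (T_le_H t hXE hXp hNH)) (X_le_sigmaCore_H t hXE hXp hH hNH hxX) hx1 ?_
  intro y hy
  exact (t.comm_T (hYT hy) (hXE hxX)).symm

/-- `T ∩ H_σ = 1`. -/
theorem T_inf_sigmaCore_H :
    (Cfsg.sigmaCore M ⊓ Subgroup.centralizer (E3 : Set G)) ⊓ Cfsg.sigmaCore H = ⊥ := by
  rw [eq_bot_iff]
  intro z hz
  rw [Subgroup.mem_bot]
  by_contra hz1
  obtain ⟨j, hj⟩ := Cfsg.Agent.Lib.Helper2.BGCor.exists_pow_prime_order hz1
  have hY1 : Subgroup.zpowers (z ^ j) ≤ Cfsg.sigmaCore M ⊓ Subgroup.centralizer (E3 : Set G) :=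
    Subgroup.zpowers_le.mpr (Subgroup.pow_mem _ hz.1 j)
  have hY2 : Subgroup.zpowers (z ^ j) ≤ Cfsg.sigmaCore H :=
    Subgroup.zpowers_le.mpr (Subgroup.pow_mem _ hz.2 j)
  have h1 := (mem_kappa_H t hXE hXp hH hNH hj rfl hY1).1
  exact h1 (primes_card_sigmaCore H _ hj (Subgroup.card_dvd_of_le hY2))

/-- `H_σ ∩ M = H_σ ∩ E`. -/
theorem sigmaCore_H_inf_M_eq : Cfsg.sigmaCore H ⊓ M = Cfsg.sigmaCore H ⊓ E := by
  apply le_antisymm
  · intro h hh
    refine Subgroup.mem_inf.mpr ⟨hh.1, ?_⟩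
    have hhH : h ∈ H := sigmaCore_le H hh.1
    have h1 : h ∈ M ⊓ H := Subgroup.mem_inf.mpr ⟨hh.2, hhH⟩
    -- write `h = a * b` with `a ∈ E`, `b ∈ T`
    obtain ⟨a, ha, b, hb, rfl⟩ := t.c.hE.2.2.2 h hh.2
    have haH : a ∈ H := E_le_H t hXE hXp hNH ha
    have hbH : b ∈ H := by
      have : b = a⁻¹ * (a * b) := by group
      rw [this]
      exact H.mul_mem (H.inv_mem haH) hhH
    have hbT : b ∈ Cfsg.sigmaCore M ⊓ Subgroup.centralizer (E3 : Set G) := by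
      rw [← sigmaCore_inf_H t hXE hXp hH hNH]
      exact Subgroup.mem_inf.mpr ⟨hb, hbH⟩
    have hcomm : Commute a b := t.comm_T hbT ha
    -- `b ^ |E| ∈ T ∩ H_σ = 1`
    have h2 : (a * b) ^ Nat.card E = b ^ Nat.card E := by
      rw [hcomm.mul_pow]
      have : a ^ Nat.card E = 1 := by
        have := pow_card_eq_one' (G := ↥E) (x := ⟨a, ha⟩)
        exact congrArg Subtype.val this
      rw [this, one_mul]
    have h3 : b ^ Nat.card E ∈
        (Cfsg.sigmaCore M ⊓ Subgroup.centralizer (E3 : Set G)) ⊓ Cfsg.sigmaCore H := by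
      refine Subgroup.mem_inf.mpr ⟨Subgroup.pow_mem _ hbT _, ?_⟩
      rw [← h2]
      exact Subgroup.pow_mem _ hh.1 _
    rw [T_inf_sigmaCore_H t hXE hXp hH hNH, Subgroup.mem_bot] at h3
    have h4 : b ^ Nat.card (Cfsg.sigmaCore M) = 1 := by
      have := pow_card_eq_one' (G := ↥(Cfsg.sigmaCore M)) (x := ⟨b, hb⟩)
      exact congrArg Subtype.val this
    have hb1 : b = 1 := Cfsg.Agent.Lib.Helper24.BGReg.eq_one_of_pow_coprime
      (Cfsg.Agent.Lib.Helper17.BGC2.coprime_compl t.c.hG t.c.hM t.c.hE) h3 h4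
    rw [hb1, mul_one]
    exact ha
  · exact inf_le_inf_left _ t.c.hEM

end partner

/-! ### centralizers of elements of `T` -/

/-- `C_G(a) ≤ M` for `a ∈ T^#` (S1423, `T ≤ M_σ'`). -/
theorem centralizer_le_M (t : TypeP M E E1 E3) {a : G}
    (ha : a ∈ Cfsg.sigmaCore M ⊓ Subgroup.centralizer (E3 : Set G)) (ha1 : a ≠ 1) :
    Subgroup.centralizer ({a} : Set G) ≤ M := by
  have hG := t.c.hG
  have hM := t.c.hM
  obtain ⟨j, hj⟩ := Cfsg.Agent.Lib.Helper2.BGCor.exists_pow_prime_order ha1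
  set Y : Subgroup G := Subgroup.zpowers (a ^ j) with hY
  haveI : Fact (Nat.card Y).Prime := ⟨hj⟩
  have hYT : Y ≤ Cfsg.sigmaCore M ⊓ Subgroup.centralizer (E3 : Set G) :=
    Subgroup.zpowers_le.mpr (Subgroup.pow_mem _ ha j)
  have hT' : Cfsg.sigmaCore M ⊓ Subgroup.centralizer (E3 : Set G) ≤
      ⁅Cfsg.sigmaCore M, Cfsg.sigmaCore M⁆ := by
    rw [← t.cent_E]
    exact (Cfsg.Agent.S1426.result hG M hM E t.c.hE).1
  have hYσ : Y ≤ Cfsg.sigmaCore M := hYT.trans inf_le_left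
  have hqM : Nat.card Y ∈ Cfsg.sigma M :=
    primes_card_sigmaCore M _ hj (Subgroup.card_dvd_of_le hYσ)
  obtain ⟨P⟩ : Nonempty (Sylow (Nat.card Y) ↥(Cfsg.sigmaCore M)) := inferInstance
  have h23' := (Cfsg.Agent.S1423.result hG M hM _ hqM Y (hYσ.trans (sigmaCore_le M)) rfl P
    (Or.inr (hYT.trans hT'))).1.1
  refine le_trans ?_ h23'
  intro x hx
  rw [Subgroup.mem_centralizer_iff]
  intro y hy
  obtain ⟨k, rfl⟩ := Subgroup.mem_zpowers_iff.mp hy
  have h1 : Commute x a := Subgroup.mem_centralizer_singleton_iff.mp hx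
  exact ((h1.pow_right j).zpow_right k).eq.symm

/-- `T ≠ M_σ`. -/
theorem T_ne_sigmaCore (t : TypeP M E E1 E3) :
    Cfsg.sigmaCore M ⊓ Subgroup.centralizer (E3 : Set G) ≠ Cfsg.sigmaCore M := by
  intro h
  have hG := t.c.hG
  have hM := t.c.hM
  haveI : IsSimpleGroup G := hG.2.1
  obtain ⟨k, hk, hkp, -⟩ := t.c.exists_prime_order_E3
  have hXE : Subgroup.zpowers k ≤ E := Subgroup.zpowers_le.mpr (t.c.hE3E hk)
  have hXp : (Nat.card (Subgroup.zpowers k)).Prime := by rw [Nat.card_zpowers]; exact hkp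
  have hX1 := X_ne_bot t hXE hXp
  have hXtop : Subgroup.zpowers k ≠ ⊤ :=
    fun h0 => hM.1 (top_le_iff.mp (h0 ▸ X_le_M t hXE hXp))
  obtain ⟨H, hH, hNH⟩ := Cfsg.Agent.Lib.Helper17.BGU.exists_coatom_ge
    (Cfsg.Agent.Lib.Helper17.BGU.normalizer_ne_top hX1 hXtop)
  -- `M = M_σ E ≤ H`
  have hMH : M ≤ H := by
    intro m hm
    obtain ⟨a, ha, b, hb, rfl⟩ := t.c.hE.2.2.2 m hm
    have hbT : b ∈ Cfsg.sigmaCore M ⊓ Subgroup.centralizer (E3 : Set G) := by rw [h]; exact hb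
    exact H.mul_mem (E_le_H t hXE hXp hNH ha) (T_le_H t hXE hXp hNH hbT)
  exact H_ne_M t hXE hXp hH hNH (Cfsg.Agent.Lib.Helper17.BGU.coatom_eq_of_le hM hH hMH).symm

end Cfsg.Agent.Lib.Helper24.BGPStr
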