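/- helper24: B&G 15.2 (K ≠ 1, U ≠ 1): F(M) is a TI-subset containing M_σ (second and third conjuncts of S1372).
Generalised (alpha)-lemma `card_eq_pow_of_invariant` (S1446 on M-invariant subgroups of M_σ), then for x in F(M) of
prime order r: r in σ(M) -> Ω₁(Z(O_r(M))) has rank ≥ 3 and S1403 applies; r not in σ(M) -> S1439 + S1420(d). -/
import Mathlib
import Cfsg.Agent.Lib.Helper20.BGAlpha
import Cfsg.Agent.Lib.Helper16.BGLemN
import Cfsg.Agent.Lib.Helper17.BGFitA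
import Cfsg.Agent.Lib.Helper1.BGX4
import Cfsg.Agent.Lib.Helper23.NilHallA
import Cfsg.Agent.Lib.Helper2.BGCorD
import Cfsg.Agent.S1403
import Cfsg.Agent.S1420
import Cfsg.Agent.S1439

set_option autoImplicit false
set_option linter.unusedSectionVars false
set_option linter.unusedVariables false
set_option linter.style.haveILetI false

namespace Cfsg.Agent.Lib.Helper24.BG15T

open Cfsg.Agent.Lib.Helper2.BGCor (primes_card_sigmaCore sigmaCore_le conj_mem_sigmaCore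
  le_normalizer_sigmaCore exists_compl_sigmaCore coatom_ne_bot)
open Cfsg.Agent.Lib.Helper21.BG147 (coprime_kappa_sigma card_sup_of_inf_eq_bot)
open Cfsg.Agent.Lib.Helper8 (mem_map_conj mem_normalizer_iff_map_conj)
open Cfsg.Agent.Lib.Helper16.BGLemN (omegaZ omegaZ_le omegaZ_comm omegaZ_ne_bot
  normalizer_le_normalizer_omegaZ)
open Cfsg.Agent.Lib.Helper17 (PrimeAct.pCoreOf_le PrimeAct.pCoreOf_isPGroup PrimeAct.fittingOf_le
  PrimeAct.le_fittingOf PrimeAct.pCoreOf_le_fittingOf)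
open Cfsg.Agent.Lib.Helper17.BGU (le_normalizer_pCoreOf le_normalizer_fittingOf
  mem_pCoreOf_of_mem_fittingOf not_pRankLE_of_elemAb not_rankLE_one_of_elemAb exists_coatom_ge
  normalizer_eq_of_coatom isCoatom_map_conj)

universe u

variable {G : Type u} [Group G] [Finite G]

/-- Generalised "(alpha)": in a standard factorisation `M = K U M_σ` with `K ≠ 1`, `U ≠ 1`, every
nontrivial nilpotent `M`-invariant subgroup `Z` of `M_σ` has order `|C_Z(K)| ^ |K|` (S1446 for the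
Frobenius group `U ⋊ K` acting on `Z`). -/
theorem card_eq_pow_of_invariant (hG : Cfsg.IsMinSimpleOddOrder G) {M K U : Subgroup G}
    (hM : IsCoatom M) (hKU : Cfsg.IsSigmaDecomposition M K U) (hK1 : K ≠ ⊥) (hU1 : U ≠ ⊥)
    {Z : Subgroup G} (hZσ : Z ≤ Cfsg.sigmaCore M) (hZ1 : Z ≠ ⊥) (hZn : Group.IsNilpotent Z)
    (hMZ : M ≤ Subgroup.normalizer (Z : Set G)) :
    Nat.card Z = Nat.card ↥(Z ⊓ Subgroup.centralizer (K : Set G)) ^ Nat.card K := by
  have hHall := (Cfsg.Agent.S1350.result hG M hM).1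
  obtain ⟨hCU, hnil⟩ := Cfsg.Agent.Lib.Helper20.BGAlpha.cent_U_eq_bot hG hM hKU hU1
  have hUM : U ≤ M := hKU.compl.1
  have hKM : K ≤ M := hKU.hall.1
  have hUK : U ⊓ K = ⊥ := by
    apply le_antisymm _ bot_le
    rw [← hKU.compl.2.2.1]
    exact inf_le_inf_left _ le_sup_left
  haveI : Group.IsSolvable ↥M := hG.2.2.2 M hM.1
  have hle : U ⊔ K ≤ M := sup_le hUM hKM
  have hsolv : Group.IsSolvable ↥(U ⊔ K) :=
    Group.isSolvable_of_isSolvable_injective (Subgroup.inclusion_injective hle)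
  have hodd : Odd (Nat.card ↥(U ⊔ K)) :=
    Odd.of_dvd_nat hG.1 (Subgroup.card_subgroup_dvd_card _)
  have hcard : Nat.card ↥(U ⊔ K) = Nat.card K * Nat.card U := by
    rw [sup_comm]
    apply card_sup_of_inf_eq_bot K U hKU.normal
    rw [inf_comm]; exact hUK
  have hcop : (Nat.card ↥(U ⊔ K)).Coprime (Nat.card (Cfsg.sigmaCore M)) := by
    rw [hcard]
    apply Nat.Coprime.mul_left
    · exact coprime_kappa_sigma hKU.hall.2.1 le_rfl
    · apply Nat.coprime_of_dvd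
      intro q hq hqU hqσ
      exact (Cfsg.Agent.Lib.Helper1.BGKap.not_kappa_sigma_of_dvd_card_U hHall hKU hq hqU).2
        (primes_card_sigmaCore M q hq hqσ)
  have hcopZ : (Nat.card ↥(U ⊔ K)).Coprime (Nat.card Z) :=
    Nat.Coprime.coprime_dvd_right (Subgroup.card_dvd_of_le hZσ) hcop
  have hCUZ : Z ⊓ Subgroup.centralizer (U : Set G) = ⊥ := by
    apply le_antisymm _ bot_le
    rw [← hCU]
    exact inf_le_inf_right _ hZσ
  have h1430 := (Cfsg.Agent.S1430.result hG M hM K hKU.hall hK1).1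
  have hpr : ∀ x ∈ K, x ≠ 1 → Z ⊓ Subgroup.centralizer ({x} : Set G) =
      Z ⊓ Subgroup.centralizer (K : Set G) := by
    intro x hx hx1
    have h := h1430 x hx hx1
    calc Z ⊓ Subgroup.centralizer ({x} : Set G)
        = Z ⊓ (Cfsg.sigmaCore M ⊓ Subgroup.centralizer ({x} : Set G)) := by
          rw [← inf_assoc, inf_of_le_left hZσ]
      _ = Z ⊓ (Cfsg.sigmaCore M ⊓ Subgroup.centralizer (K : Set G)) := by rw [h]
      _ = Z ⊓ Subgroup.centralizer (K : Set G) := by rw [← inf_assoc, inf_of_le_left hZσ]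
  exact (Cfsg.Agent.S1446.result (X := G) U K Z hU1 hK1 hUK hKU.normal
    (Cfsg.Agent.S1353.result hG M hM K U hKU) hsolv hodd hZ1 hZn
    (hUM.trans hMZ) (hKM.trans hMZ) hcopZ hCUZ hpr).2.1

/-- `|K| ≥ 3`. -/
theorem three_le_card_K (hG : Cfsg.IsMinSimpleOddOrder G) {M K U : Subgroup G}
    (hM : IsCoatom M) (hKU : Cfsg.IsSigmaDecomposition M K U) (hK1 : K ≠ ⊥) (hU1 : U ≠ ⊥) :
    3 ≤ Nat.card K := by
  have hp := Cfsg.Agent.Lib.Helper20.BGAlpha.card_prime_of_U_ne_bot hG hM hKU hK1 hU1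
  have hodd : Odd (Nat.card K) := Odd.of_dvd_nat hG.1 (Subgroup.card_subgroup_dvd_card _)
  have h2 := hp.two_le
  rcases hodd with ⟨k, hk⟩
  omega

/-- an `M`-invariant nontrivial `r`-subgroup of `M_σ` has order at least `r ^ 3`. -/
theorem cube_le_card_of_invariant (hG : Cfsg.IsMinSimpleOddOrder G) {M K U : Subgroup G}
    (hM : IsCoatom M) (hKU : Cfsg.IsSigmaDecomposition M K U) (hK1 : K ≠ ⊥) (hU1 : U ≠ ⊥)
    {r : ℕ} [Fact r.Prime] {Z : Subgroup G} (hZσ : Z ≤ Cfsg.sigmaCore M) (hZ1 : Z ≠ ⊥)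
    (hZp : IsPGroup r Z) (hMZ : M ≤ Subgroup.normalizer (Z : Set G)) :
    r ^ 3 ≤ Nat.card Z := by
  have hrp : r.Prime := Fact.out
  have h := card_eq_pow_of_invariant hG hM hKU hK1 hU1 hZσ hZ1 hZp.isNilpotent hMZ
  have h3 := three_le_card_K hG hM hKU hK1 hU1
  set c := Nat.card ↥(Z ⊓ Subgroup.centralizer (K : Set G)) with hc
  have hc1 : c ≠ 1 := by
    intro h1
    rw [h1, one_pow] at h
    exact hZ1 (Subgroup.card_eq_one.mp h)
  have hcp : IsPGroup r ↥(Z ⊓ Subgroup.centralizer (K : Set G)) := hZp.to_le inf_le_left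
  obtain ⟨n, hn⟩ := IsPGroup.iff_card.mp hcp
  have hn0 : n ≠ 0 := by
    rintro rfl
    rw [pow_zero] at hn
    exact hc1 hn
  have hrc : r ≤ c := by
    rw [hc, hn]
    calc r = r ^ 1 := (pow_one r).symm
      _ ≤ r ^ n := Nat.pow_le_pow_right hrp.pos (Nat.one_le_iff_ne_zero.mpr hn0)
  have hcpos : 0 < c := lt_of_lt_of_le hrp.pos hrc
  rw [h]
  calc r ^ 3 ≤ c ^ 3 := Nat.pow_le_pow_left hrc 3
    _ ≤ c ^ Nat.card K := Nat.pow_le_pow_right hcpos h3

/-- Key lemma, `σ(M)`-case: for `x ∈ F(M)` of prime order `r ∈ σ(M)`, `M` is the only maximal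
subgroup containing `C_G(x)`. -/
theorem unique_max_of_sigma (hG : Cfsg.IsMinSimpleOddOrder G) {M K U : Subgroup G}
    (hM : IsCoatom M) (hKU : Cfsg.IsSigmaDecomposition M K U) (hK1 : K ≠ ⊥) (hU1 : U ≠ ⊥)
    {r : ℕ} [Fact r.Prime] (hr : r ∈ Cfsg.sigma M) {x : G} (hxF : x ∈ Cfsg.fittingOf M)
    (hxo : orderOf x = r) (L : Subgroup G) (hL : IsCoatom L)
    (hxL : Subgroup.centralizer ({x} : Set G) ≤ L) : L = M := by
  have hrp : r.Prime := Fact.out
  set R : Subgroup G := Cfsg.pCoreOf r M with hR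
  have hxR : x ∈ R :=
    mem_pCoreOf_of_mem_fittingOf hxF (k := 1) (by rw [pow_one, ← hxo]; exact pow_orderOf_eq_one x)
  have hRp : IsPGroup r R := PrimeAct.pCoreOf_isPGroup r M
  have hRM : R ≤ M := PrimeAct.pCoreOf_le r M
  have hMR : M ≤ Subgroup.normalizer (R : Set G) := le_normalizer_pCoreOf r M
  have hx1 : x ≠ 1 := by
    intro h
    rw [h, orderOf_one] at hxo
    exact hrp.one_lt.ne hxo
  have hR1 : R ≠ ⊥ := fun h => hx1 (by rw [h] at hxR; exact Subgroup.mem_bot.mp hxR)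
  have hRσ : R ≤ Cfsg.sigmaCore M := by
    apply Cfsg.Agent.Lib.Helper17.le_piCoreOf (π := Cfsg.sigma M) hRM hMR
    intro p hp hpd
    have := Cfsg.Agent.Lib.Helper17.primes_of_isPGroup hrp hRp p hp hpd
    rw [Set.mem_singleton_iff] at this
    rw [this]; exact hr
  set Z : Subgroup G := omegaZ r R with hZ
  have hZ1 : Z ≠ ⊥ := omegaZ_ne_bot hRp hR1
  have hZR : Z ≤ R := omegaZ_le r R
  have hMZ : M ≤ Subgroup.normalizer (Z : Set G) :=
    hMR.trans (normalizer_le_normalizer_omegaZ r R)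
  have hZp : IsPGroup r Z := hRp.to_le hZR
  have h3 := cube_le_card_of_invariant hG hM hKU hK1 hU1 (hZR.trans hRσ) hZ1 hZp hMZ
  have hZtop : Z ≠ ⊤ := fun h => hM.1 (top_le_iff.mp (h ▸ (hZR.trans hRM)))
  have hcomm : ∀ a ∈ Z, ∀ b ∈ Z, a * b = b * a := omegaZ_comm
  have hexp : ∀ a ∈ Z, a ^ r = 1 := fun a ha => ha.2.2
  have hr2 : r ^ 2 < r ^ 3 := Nat.pow_lt_pow_right hrp.one_lt (by norm_num)
  have hr1 : r < r ^ 3 := by
    calc r = r ^ 1 := (pow_one r).symm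
      _ < r ^ 3 := Nat.pow_lt_pow_right hrp.one_lt (by norm_num)
  have h2 : ¬ Cfsg.RankLE 1 Z :=
    not_rankLE_one_of_elemAb hrp le_rfl hcomm hexp (lt_of_lt_of_le hr1 h3)
  have h3' : ¬ Cfsg.RankLE 2 Z := fun h =>
    not_pRankLE_of_elemAb le_rfl hcomm hexp (lt_of_lt_of_le hr2 h3) (h r hrp)
  have hU := Cfsg.Agent.S1403.result hG Z hZtop h2 (Or.inl h3')
  have hZx : Z ≤ Subgroup.centralizer ({x} : Set G) := by
    intro z hz
    rw [Subgroup.mem_centralizer_singleton_iff]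
    exact (Subgroup.mem_centralizer_iff.mp hz.2.1 x hxR).symm
  exact hU.unique ⟨hL, hZx.trans hxL⟩ ⟨hM, hZR.trans hRM⟩

/-- Key lemma, `σ(M)'`-case: if `M_σ ≠ 1` is nilpotent then for `x ∈ F(M)` of prime order
`r ∉ σ(M)`, `M` is the only maximal subgroup containing `C_G(x)` (S1439 and S1420(d)). -/
theorem unique_max_of_not_sigma (hG : Cfsg.IsMinSimpleOddOrder G) {M : Subgroup G}
    (hM : IsCoatom M) (hσ1 : Cfsg.sigmaCore M ≠ ⊥) (hnil : Group.IsNilpotent (Cfsg.sigmaCore M))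
    {r : ℕ} [Fact r.Prime] (hr : r ∉ Cfsg.sigma M) {x : G} (hxF : x ∈ Cfsg.fittingOf M)
    (hxo : orderOf x = r) (L : Subgroup G) (hL : IsCoatom L)
    (hxL : Subgroup.centralizer ({x} : Set G) ≤ L) : L = M := by
  have hrp : r.Prime := Fact.out
  have hHall := (Cfsg.Agent.S1350.result hG M hM).1
  set F : Subgroup G := Cfsg.fittingOf M with hF
  set R : Subgroup G := Cfsg.pCoreOf r M with hR
  have hxR : x ∈ R :=
    mem_pCoreOf_of_mem_fittingOf hxF (k := 1) (by rw [pow_one, ← hxo]; exact pow_orderOf_eq_one x)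
  have hRp : IsPGroup r R := PrimeAct.pCoreOf_isPGroup r M
  have hx1 : x ≠ 1 := by
    intro h
    rw [h, orderOf_one] at hxo
    exact hrp.one_lt.ne hxo
  have hRF : R ≤ F := PrimeAct.pCoreOf_le_fittingOf M r
  have hFM : F ≤ M := PrimeAct.fittingOf_le M
  have hFR : F ≤ Subgroup.normalizer (R : Set G) := hFM.trans (le_normalizer_pCoreOf r M)
  have hRY : R ≤ Cfsg.piCoreOf {q | q.Prime ∧ q ∉ Cfsg.sigma M} F := by
    apply Cfsg.Agent.Lib.Helper17.le_piCoreOf hRF hFR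
    intro p hp hpd
    have := Cfsg.Agent.Lib.Helper17.primes_of_isPGroup hrp hRp p hp hpd
    rw [Set.mem_singleton_iff] at this
    rw [this]; exact ⟨hrp, hr⟩
  have hdvd : r ∣ Nat.card ↥(Cfsg.piCoreOf {q | q.Prime ∧ q ∉ Cfsg.sigma M} F) := by
    rw [← hxo]
    exact Subgroup.orderOf_dvd_natCard _ (hRY hxR)
  have hτ : r ∈ Cfsg.tau2 M := (Cfsg.Agent.S1439.result hG M hM).2.1 r hrp hdvd
  obtain ⟨y, hy, hy1⟩ : ∃ y ∈ Cfsg.sigmaCore M, y ≠ 1 := by
    obtain ⟨y, hy1⟩ := (Subgroup.ne_bot_iff_exists_ne_one).mp hσ1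
    exact ⟨y.1, y.2, fun h => hy1 (Subtype.ext h)⟩
  have hσF : Cfsg.sigmaCore M ≤ F :=
    PrimeAct.le_fittingOf (Cfsg.sigmaCore M) M (sigmaCore_le M) (le_normalizer_sigmaCore M) hnil
  have hcomm : x * y = y * x := by
    haveI : Group.IsNilpotent ↥F := Cfsg.Agent.Lib.Helper9.fittingOf_isNilpotent M
    have hcop : (orderOf x).Coprime (orderOf y) := by
      rw [hxo]
      apply (Nat.Prime.coprime_iff_not_dvd hrp).mpr
      intro hd
      exact hr (primes_card_sigmaCore M r hrp (hd.trans (Subgroup.orderOf_dvd_natCard _ hy)))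
    have h := Cfsg.Agent.Lib.Helper23.NilHall.commute_of_coprime_of_nilpotent ↥F
      ⟨x, hxF⟩ ⟨y, hσF hy⟩ (by rw [Subgroup.orderOf_mk, Subgroup.orderOf_mk]; exact hcop)
    exact congrArg Subtype.val h
  have hxHat : x ∈ Cfsg.sigmaHat M := ⟨hFM hxF, y, hy, hy1, hcomm⟩
  obtain ⟨E, hE⟩ := exists_compl_sigmaCore hHall
  have h := (Cfsg.Agent.S1420.result hG M hM E hE).2.2.2 x (hFM hxF) hx1 (fun p hp hpd => by
    rw [hxo] at hpd
    rw [(Nat.prime_dvd_prime_iff_eq hp hrp).mp hpd]; exact hτ) hxHat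
  exact h.2 L hL hxL

/-- **B&G 15.2(e)/(f)**: with `K ≠ 1` and `U ≠ 1`, `F(M)` is a TI-subset of `G`. -/
theorem fittingOf_isTISubset (hG : Cfsg.IsMinSimpleOddOrder G) {M K U : Subgroup G}
    (hM : IsCoatom M) (hKU : Cfsg.IsSigmaDecomposition M K U) (hK1 : K ≠ ⊥) (hU1 : U ≠ ⊥) :
    Cfsg.IsTISubset (Cfsg.fittingOf M : Set G) := by
  intro g hg x hxF hgx
  by_contra hx1
  apply hg
  have hxF' : x ∈ Cfsg.fittingOf M := hxF
  have hgx' : g * x * g⁻¹ ∈ Cfsg.fittingOf M := hgx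
  obtain ⟨r, hrp, hrd⟩ := Nat.exists_prime_and_dvd (fun h => hx1 (orderOf_eq_one_iff.mp h))
  haveI : Fact r.Prime := ⟨hrp⟩
  set y : G := x ^ (orderOf x / r) with hy
  have hyo : orderOf y = r := orderOf_pow_orderOf_div (orderOf_pos x).ne' hrd
  have hyF : y ∈ Cfsg.fittingOf M := Subgroup.pow_mem _ hxF' _
  have hgy : g * y * g⁻¹ ∈ Cfsg.fittingOf M := by
    rw [hy, ← conj_pow]; exact Subgroup.pow_mem _ hgx' _
  have hgyo : orderOf (g * y * g⁻¹) = r := by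
    rw [← hyo]
    exact (MulAut.conj g).orderOf_eq y
  obtain ⟨hCU, hnil⟩ := Cfsg.Agent.Lib.Helper20.BGAlpha.cent_U_eq_bot hG hM hKU hU1
  have hKs1 := (Cfsg.Agent.S1354.result hG M hM K hKU.cyclic hKU.hall).1
  have hσ1 : Cfsg.sigmaCore M ≠ ⊥ := by
    intro h0
    apply hKs1
    rw [h0, bot_inf_eq]
  have KL : ∀ z ∈ Cfsg.fittingOf M, orderOf z = r → ∀ L : Subgroup G, IsCoatom L →
      Subgroup.centralizer ({z} : Set G) ≤ L → L = M := by
    intro z hz hzo L hL hzL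
    by_cases hr : r ∈ Cfsg.sigma M
    · exact unique_max_of_sigma hG hM hKU hK1 hU1 hr hz hzo L hL hzL
    · exact unique_max_of_not_sigma hG hM hσ1 hnil hr hz hzo L hL hzL
  have hy1 : y ≠ 1 := by
    intro h
    rw [h, orderOf_one] at hyo
    exact hrp.one_lt.ne hyo
  obtain ⟨L, hL, hyL⟩ := exists_coatom_ge
    (Cfsg.Agent.Lib.Helper1.BGX.centralizer_singleton_ne_top hG hy1)
  have hLM := KL y hyF hyo L hL hyL
  rw [hLM] at hyL
  have hconj : Subgroup.centralizer ({g * y * g⁻¹} : Set G) ≤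
      M.map (MulAut.conj g).toMonoidHom := by
    intro c hc
    rw [mem_map_conj]
    apply hyL
    rw [Subgroup.mem_centralizer_singleton_iff] at hc ⊢
    calc g⁻¹ * c * g * y = g⁻¹ * (c * (g * y * g⁻¹)) * g := by group
      _ = g⁻¹ * ((g * y * g⁻¹) * c) * g := by rw [hc]
      _ = y * (g⁻¹ * c * g) := by group
  have hMg := KL (g * y * g⁻¹) hgy hgyo _ (isCoatom_map_conj g hM) hconj
  have hgN : g ∈ Subgroup.normalizer (M : Set G) := mem_normalizer_iff_map_conj.mpr hMg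
  haveI := hG.2.1
  have hNM : Subgroup.normalizer (M : Set G) = M :=
    normalizer_eq_of_coatom hM le_rfl (coatom_ne_bot hG hM) Subgroup.le_normalizer
  rw [hNM] at hgN
  exact le_normalizer_fittingOf M hgN

/-- `M_σ ≤ F(M)` when `U ≠ 1`. -/
theorem sigmaCore_le_fittingOf (hG : Cfsg.IsMinSimpleOddOrder G) {M K U : Subgroup G}
    (hM : IsCoatom M) (hKU : Cfsg.IsSigmaDecomposition M K U) (hU1 : U ≠ ⊥) :
    Cfsg.sigmaCore M ≤ Cfsg.fittingOf M := by
  obtain ⟨-, hnil⟩ := Cfsg.Agent.Lib.Helper20.BGAlpha.cent_U_eq_bot hG hM hKU hU1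
  exact PrimeAct.le_fittingOf (Cfsg.sigmaCore M) M (sigmaCore_le M) (le_normalizer_sigmaCore M) hnil

end Cfsg.Agent.Lib.Helper24.BG15T
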