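/-
helper24: BR core: the principal block in the form `BRC.B0X` (= helper6's `BRHMain.exists_B0` + the clauses `regY`, `relY` of DO-FULL).
-/
import Mathlib
import Cfsg.Prelude.Def_BlockRank
import Cfsg.Agent.Lib.Helper24.BRCDefs
import Cfsg.Agent.Lib.Helper6.BRHMain

set_option autoImplicit false

namespace Cfsg.Agent.Lib.Helper24.BRC

open Cfsg Cfsg.Agent.Lib.Helper8.DOM Cfsg.Agent.Lib.Helper27.DO Cfsg.Agent.CharLib
open Cfsg.Agent.Lib.Helper6.BRH Cfsg.Agent.Lib.Helper7.DOS4441
open Cfsg.Agent.Lib.Helper16.BRHVALS Cfsg.Agent.Lib.Helper16.BRHTRIVX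
open Cfsg.Agent.Lib.Helper7.BRHSUMY Cfsg.Agent.Lib.Helper7.BRHPSUMY Cfsg.Agent.Lib.Helper6.BRHDEGREL
open scoped ComplexConjugate

universe u

variable {G : Type u} [Group G] [Finite G] {p : ℕ} [Fact p.Prime] {M : Ideal AlgInt}

/-- the principal block in the form `B0X` (assembly over DO-FULL, VALS, TRIVX, SUMY, PSUMY, DEGREL, as helper6's `exists_B0`). -/
theorem exists_B0X (hM : IsPModular p M) (P : Subgroup G) (hP : Nat.card P = p)
    (hSyl : ¬ p ∣ P.index) (hf : (Cz P).relIndex (Nz P) < p - 1) :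
    ∃ (X Y : Set (IrrCharacter G)) (v : IrrCharacter G → ℤ) (ε : ℤ), B0X p P X Y v ε := by
  classical
  let _ : Fintype G := Fintype.ofFinite G
  let _ : Fintype (IrrCharacter G) := Fintype.ofFinite _
  have : M.IsMaximal := hM.2.1
  have hpp : p.Prime := Fact.out
  have hidx : ¬ p ∣ P.relIndex (Nz P) :=
    fun h => hSyl (dvd_trans h (Subgroup.relIndex_dvd_index_of_le Subgroup.le_normalizer))
  have hfinal := Cfsg.Agent.Lib.Helper8.DOMFinal.card_conjClasses_le_sum_blockRank M hM P hP hidx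
  have hdvd : p ∣ Nat.card G := by
    rw [← hP]
    exact Subgroup.card_subgroup_dvd_card P
  have hd := blockDefect_principal_pos M hM hdvd
  have hB := isPBlock_principal (G := G) M
  have hBP := Cfsg.Agent.Lib.Helper26.DODEFP.isDefectGroup_of_pos hM P hP hSyl
    (principalBlock M G) hB hd
  obtain ⟨x0, hx0⟩ := exists_gen P hP
  obtain ⟨hfd, -, X, Y, v, ε, hXY, hdisj, hcX, hcY, hsX, hsε, hYreg, hrel, -, -, hvX, -, hgal⟩ :=
    Cfsg.Agent.Lib.Helper8.DOFULL.struct_full_of hM P hP hSyl hfinal (principalBlock M G) hB hBP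
      (triv P) (pTriv_triv P) (isInducedBlock_triv M hM P hP x0 hx0) (Nz P) (isInertia_triv P)
  have hvalX : ∀ η ∈ X, ∀ g : G, p ∣ orderOf g → (η : G → ℂ) g = (v η : ℂ) :=
    fun η hη => valX_singular P hP hSyl η (v η) (hvX η hη)
  have hYne : Y.Nonempty := by
    have h1 : 0 < Nat.card Y := by
      rw [hcY]
      apply Nat.div_pos
      · exact Nat.le_of_dvd (Nat.sub_pos_of_lt hpp.one_lt) hfd
      · apply Nat.pos_of_ne_zero
        intro h0
        rw [h0, zero_dvd_iff] at hfd
        have := hpp.one_lt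
        omega
    have : Nonempty Y := (Nat.card_pos_iff.mp h1).1
    exact Set.nonempty_coe_sort.mp this
  have hsumY := sumY_singular hM X Y v ε hXY hdisj hsε hYne hvalX hYreg hrel
  exact ⟨X, Y, v, ε,
    { b0 :=
      { dvd := hfd
        disj := hdisj
        cardX := hcX
        cardY := hcY
        sgnX := hsX
        sgn := hsε
        trivX := triv_mem_X hM P hP hSyl hf X Y hXY hfd hcY hYreg hgal
        valX := hvalX
        sumY := hsumY
        psumY := psumY_eq P hP Y ε hfd hcY hsumY hgal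
        degY := degY_rel (p := p) X Y v ε hrel }
      regY := hYreg
      relY := hrel }⟩

end Cfsg.Agent.Lib.Helper24.BRC
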