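/-
helper24: BR core: the SPINE over the leaves of `notes/S0999_leaves.lean` (41 leaves, proved by helpers 1, 2, 4, 5, 6, 7, 10, 11, 12, 16, 17, 22):
assemblies `linData_of`, `Special.stepA`, `Special.stepC`; `Special.stepB`, `Special.stepC_br`, `Special.stepD`, `Special.stepE`;
`Special.concl_of_n_eq_one`, `Special.concl_of_pos`, `Special.concl_of_neg`; the core theorem `br_core`.
-/
import Mathlib
import Cfsg.Prelude.Def_BlockRank
import Cfsg.Prelude.Def_Perm
import Cfsg.Agent.Lib.Helper24.BRCDefs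
import Cfsg.Agent.Lib.Helper5.BRCSPEC
import Cfsg.Agent.Lib.Helper5.BRCCOL
import Cfsg.Agent.Lib.Helper5.BRCINVOL
import Cfsg.Agent.Lib.Helper5.BRCINVGE
import Cfsg.Agent.Lib.Helper5.BRCCNTRIV
import Cfsg.Agent.Lib.Helper10.BRCLINA
import Cfsg.Agent.Lib.Helper10.BRCLINV
import Cfsg.Agent.Lib.Helper10.BRCLINC
import Cfsg.Agent.Lib.Helper1.BRCSUMCN
import Cfsg.Agent.Lib.Helper22.BRCDEGCN
import Cfsg.Agent.Lib.Helper1.BRCVALCN
import Cfsg.Agent.Lib.Helper1.BRCRESN
import Cfsg.Agent.Lib.Helper6.BRCAPX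
import Cfsg.Agent.Lib.Helper6.BRCOUT
import Cfsg.Agent.Lib.Helper6.BRCSUMSQ
import Cfsg.Agent.Lib.Helper1.BRCOWN
import Cfsg.Agent.Lib.Helper12.BRCFREE
import Cfsg.Agent.Lib.Helper12.BRCCOUNTS
import Cfsg.Agent.Lib.Helper12.BRCSTEPB
import Cfsg.Agent.Lib.Helper12.BRCFREEDEG
import Cfsg.Agent.Lib.Helper2.BRCEVENF
import Cfsg.Agent.Lib.Helper4.BRCEXINV
import Cfsg.Agent.Lib.Helper2.BRCCENTLE
import Cfsg.Agent.Lib.Helper7.BRCSUMDEG
import Cfsg.Agent.Lib.Helper16.BRCARITHB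
import Cfsg.Agent.Lib.Helper16.BRCARITHC
import Cfsg.Agent.Lib.Helper16.BRCARITHD
import Cfsg.Agent.Lib.Helper2.BRCVALY0
import Cfsg.Agent.Lib.Helper2.BRCSUMZ
import Cfsg.Agent.Lib.Helper4.BRCEXP2
import Cfsg.Agent.Lib.Helper17.BRCREC
import Cfsg.Agent.Lib.Helper4.BRCPGL
import Cfsg.Agent.Lib.Helper17.BRCSEMI
import Cfsg.Agent.Lib.Helper16.BRCPSLN1
import Cfsg.Agent.Lib.Helper4.BRCSETUP
import Cfsg.Agent.Lib.Helper22.BRCFDVD
import Cfsg.Agent.Lib.Helper17.BRCARITHX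
import Cfsg.Agent.Lib.Helper7.BRCVCONG
import Cfsg.Agent.Lib.Helper23.BRWOMEGAS
import Cfsg.Agent.Lib.Helper23.BRWOMEGA
import Cfsg.Agent.Lib.Helper7.BRWSPOS
import Cfsg.Agent.Lib.Helper7.BRWCZ
import Cfsg.Agent.Lib.Helper7.BRWTYPEB
import Cfsg.Agent.Lib.Helper8.BRWBURN
import Cfsg.Agent.Lib.Helper6.Knoerr
import Cfsg.Agent.Lib.Helper24.BRCB0X

set_option autoImplicit false

namespace Cfsg.Agent.Lib.Helper24.BRC

open Cfsg Cfsg.Agent.Lib.Helper8.DOM Cfsg.Agent.Lib.Helper27.DO Cfsg.Agent.CharLib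
open Cfsg.Agent.Lib.Helper6.BRH
open Cfsg.Agent.Lib.Helper5.BRCSPEC Cfsg.Agent.Lib.Helper5.BRCCOL Cfsg.Agent.Lib.Helper5.BRCINVOL
open Cfsg.Agent.Lib.Helper5.BRCINVGE Cfsg.Agent.Lib.Helper5.BRCCNTRIV Cfsg.Agent.Lib.Helper10.BRCLINA
open Cfsg.Agent.Lib.Helper10.BRCLINV Cfsg.Agent.Lib.Helper10.BRCLINC Cfsg.Agent.Lib.Helper1.BRCSUMCN
open Cfsg.Agent.Lib.Helper22.BRCDEGCN Cfsg.Agent.Lib.Helper1.BRCVALCN Cfsg.Agent.Lib.Helper1.BRCRESN
open Cfsg.Agent.Lib.Helper6.BRCAPX Cfsg.Agent.Lib.Helper6.BRCOUT Cfsg.Agent.Lib.Helper6.BRCSUMSQ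
open Cfsg.Agent.Lib.Helper1.BRCOWN Cfsg.Agent.Lib.Helper12.BRCFREE Cfsg.Agent.Lib.Helper12.BRCCOUNTS
open Cfsg.Agent.Lib.Helper12.BRCSTEPB Cfsg.Agent.Lib.Helper12.BRCFREEDEG Cfsg.Agent.Lib.Helper2.BRCEVENF
open Cfsg.Agent.Lib.Helper4.BRCEXINV Cfsg.Agent.Lib.Helper2.BRCCENTLE Cfsg.Agent.Lib.Helper7.BRCSUMDEG
open Cfsg.Agent.Lib.Helper16.BRCARITHB Cfsg.Agent.Lib.Helper16.BRCARITHC Cfsg.Agent.Lib.Helper16.BRCARITHD
open Cfsg.Agent.Lib.Helper2.BRCVALY0 Cfsg.Agent.Lib.Helper2.BRCSUMZ Cfsg.Agent.Lib.Helper4.BRCEXP2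
open Cfsg.Agent.Lib.Helper17.BRCREC Cfsg.Agent.Lib.Helper4.BRCPGL Cfsg.Agent.Lib.Helper17.BRCSEMI
open Cfsg.Agent.Lib.Helper16.BRCPSLN1 Cfsg.Agent.Lib.Helper4.BRCSETUP Cfsg.Agent.Lib.Helper22.BRCFDVD
open Cfsg.Agent.Lib.Helper17.BRCARITHX Cfsg.Agent.Lib.Helper7.BRCVCONG
open scoped ComplexConjugate

universe u

variable {G : Type u} [Group G] [Finite G] {p : ℕ} [Fact p.Prime]
variable {P : Subgroup G} {n w : ℕ} {X Y : Set (IrrCharacter G)} {v : IrrCharacter G → ℤ} {ε : ℤ}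

/-- the conclusion of S4701 -/
def Concl (G : Type u) [Group G] (p : ℕ) : Prop :=
  (∃ (F : Type) (_ : Field F) (_ : Fintype F), Fintype.card F = p ∧ 3 < p ∧
    Nonempty (G ≃* Matrix.ProjectiveSpecialLinearGroup (Fin 2) F)) ∨
  (∃ (m : ℕ) (F : Type) (_ : Field F) (_ : Fintype F), Fintype.card F = 2 ^ m ∧ p = 2 ^ m + 1 ∧ 3 < p ∧
    Nonempty (G ≃* Matrix.SpecialLinearGroup (Fin 2) F))

/-- LAYER 0 assembled -/
theorem linData_of (P : Subgroup G) (hP : Nat.card P = p) (hC : Cz P = P) : LinData P :=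
  { card_eq := card_Lin P hP hC
    sum_mem := sum_Lin_mem P hP hC
    sum_not_mem := sum_Lin_not_mem P hP hC
    norm_eq := Lin_normSq P hP hC
    vanish := Lin_vanish P hP hC (card_Lin P hP hC) (Lin_normSq P hP hC)
    conj_mem := Lin_conj P
    even_of_real := Lin_even_of_real P hP hC (Lin_normSq P hP hC) }

theorem Special.linData (hS : Special p P n w X Y v ε) : LinData P := linData_of P hS.hP hS.hC

/-- LAYER 1 assembled -/
theorem Special.stepA (hS : Special p P n w X Y v ε) : StepA p P n w X Y v ε :=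
  have hL := hS.linData
  have hnY := normY hS
  have hout := out_zero hS hnY
  { cN_triv := cN_triv P
    cN_conj := cN_conj P
    sum_cN := sum_cN hS hL
    deg_cN := deg_cN hS hL
    val_cN := val_cN hS
    resN := resN P hL.vanish
    aP_triv := aP_triv hS
    aP_A := aP_A hS
    aP_B := aP_B hS
    aP_Y := aP_Y hS
    normY := hnY
    out_zero := hout
    aP_out := aP_out hS hout
    sum_aP_sq := sum_aP_sq hS }

/-- LAYER 2 assembled -/
theorem Special.stepC (hS : Special p P n w X Y v ε) : StepC p P n w X Y v ε :=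
  have hL := hS.linData
  have hA := hS.stepA
  have hown := own hS hL hA
  have htriv := cN_Y_triv hS hL hA hown
  have hfree := free_spec hS hL hA
  have hc := counts hS hL hA hown htriv hfree
  { own := hown
    cN_Y_triv := htriv
    free_spec := hfree
    cardX := hc.1
    cardLin := hc.2.1
    cardFree := hc.2.2.1
    sgn_w := hc.2.2.2 }


/-! ## arithmetic of the special case -/

theorem Special.f_dvd (hS : Special p P n w X Y v ε) : fI P ∣ p - 1 := hS.bx.b0.dvd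

theorem Special.p_eq (hS : Special p P n w X Y v ε) : p = 1 + tI p P * fI P := by
  have hpp : p.Prime := Fact.out
  have h1 := Nat.div_mul_cancel hS.f_dvd
  have := hpp.one_lt
  show p = 1 + (p - 1) / fI P * fI P
  omega

theorem Special.t_pos (hS : Special p P n w X Y v ε) : 1 ≤ tI p P := by
  have hpp : p.Prime := Fact.out
  have h2 := hS.hf2
  have h1 := hS.p_eq
  rcases Nat.eq_zero_or_pos (tI p P) with h | h
  · rw [h] at h1
    have := hpp.one_lt
    omega
  · exact h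

theorem Special.t_ge_two (hS : Special p P n w X Y v ε) (hft : fI P < p - 1) : 2 ≤ tI p P := by
  have h1 := hS.p_eq
  have h2 := hS.t_pos
  by_contra hlt
  have h3 : tI p P = 1 := by omega
  rw [h3] at h1
  omega

theorem Special.cz_le (hS : Special p P n w X Y v ε) : Cz P ≤ Nz P := by
  rw [hS.hC]
  exact Subgroup.le_normalizer

theorem Special.cz_index (hS : Special p P n w X Y v ε) : (Cz P).index = fI P * (1 + n * p) := by
  rw [← Subgroup.relIndex_mul_index hS.cz_le, hS.hidx]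

theorem Special.card_G (hS : Special p P n w X Y v ε) : Nat.card G = p * (fI P * (1 + n * p)) := by
  rw [← hS.cz_index, ← Subgroup.card_mul_index (Cz P), hS.hC, hS.hP]

theorem Special.card_N (hS : Special p P n w X Y v ε) : Nat.card (Nz P) = p * fI P := by
  have h1 := Subgroup.card_mul_index (Nz P)
  rw [hS.hidx, hS.card_G] at h1
  have hpos : 0 < 1 + n * p := by positivity
  have h2 : Nat.card (Nz P) * (1 + n * p) = (p * fI P) * (1 + n * p) := by rw [h1]; ring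
  exact Nat.eq_of_mul_eq_mul_right hpos h2

theorem Special.exists_Y (hS : Special p P n w X Y v ε) : ∃ ψ, ψ ∈ Y := by
  have h1 : 0 < Nat.card Y := by
    rw [hS.bx.b0.cardY]
    exact hS.t_pos
  have : Nonempty Y := (Nat.card_pos_iff.mp h1).1
  obtain ⟨⟨ψ, hψ⟩⟩ := this
  exact ⟨ψ, hψ⟩

/-- `ε = -1`: `ψ(1) = w p - f` and `1 ≤ w` -/
theorem Special.degY_neg (hS : Special p P n w X Y v ε) (hε : ε = -1) :
    1 ≤ w ∧ ∀ ψ ∈ Y, charDegree (ψ : G → ℂ) = w * p - fI P := by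
  have hpp : p.Prime := Fact.out
  have hfp : fI P < p := by
    have h0 := Nat.le_of_dvd (Nat.sub_pos_of_lt hpp.one_lt) hS.f_dvd
    have h1 := hpp.one_lt
    have h2 : fI P ≤ p - 1 := h0
    omega
  obtain ⟨ψ0, hψ0⟩ := hS.exists_Y
  have hw1 : 1 ≤ w := by
    by_contra h0
    have hw0 : w = 0 := by omega
    have h1 := hS.hw ψ0 hψ0
    rw [hw0, hε] at h1
    have h2 := charDegree_pos ψ0
    have h3 : (0 : ℤ) < (charDegree (ψ0 : G → ℂ) : ℤ) := by exact_mod_cast h2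
    have h4 : (0 : ℤ) ≤ ((Cz P).relIndex (Nz P) : ℤ) := by positivity
    push_cast at h1
    linarith
  refine ⟨hw1, fun ψ hψ => ?_⟩
  have h1 := hS.hw ψ hψ
  rw [hε] at h1
  have h5 : fI P ≤ w * p := by
    calc fI P ≤ p := hfp.le
      _ = 1 * p := (one_mul p).symm
      _ ≤ w * p := Nat.mul_le_mul_right p hw1
  zify [h5]
  rw [h1]
  ring


/-! ## Steps B, C, D -/

/-- STEP B : `ε = +1` forces `n = 1`, `t = 2`. -/
theorem Special.stepB (hS : Special p P n w X Y v ε) (hft : fI P < p - 1) (hε : ε = 1) :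
    n = 1 ∧ tI p P = 2 := by
  have hL := hS.linData
  have hA := hS.stepA
  have hC2 := hS.stepC
  have hw0 := hC2.sgn_w hε
  have h1 := stepB_ineq hS hL hA hC2 hε
  have h2 := hC2.cardLin
  rw [hw0] at h2
  exact arithB p (fI P) (tI p P) n (Nat.card (typeA X v)) hS.p_eq (hS.t_ge_two hft) hS.hf2 hS.hn
    (by omega) h1

/-- STEP C in the Brauer-Reynolds regime `n ≤ t` : `ε = -1` forces `w = 1`, `n + 1 = t`. -/
theorem Special.stepC_br (hS : Special p P n w X Y v ε) (hft : fI P < p - 1) (hε : ε = -1)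
    (hnt : n ≤ tI p P) : w = 1 ∧ n + 1 = tI p P := by
  have hL := hS.linData
  have hA := hS.stepA
  have hC2 := hS.stepC
  obtain ⟨hw1, hdeg⟩ := hS.degY_neg hε
  have hfree := free_deg hS hL hA hC2 hε hw1
  refine arithC p (fI P) (tI p P) n w hS.p_eq (hS.t_ge_two hft) hS.hf2 hS.hn hnt hw1 hfree ?_
  intro hw
  obtain ⟨ψ, hψ⟩ := hS.exists_Y
  have hps := hS.bx.b0.psumY ψ hψ
  have h1 := Cfsg.Agent.Lib.Helper23.BRWOMEGAS.degree_dvd_psum P hS.hP ψ (fI P : ℤ) (by
    rw [hps, hε]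
    push_cast
    ring)
  rw [hS.hidx, hdeg ψ hψ, hw, one_mul] at h1
  exact_mod_cast h1

/-- STEP D : `ε = -1`, `w = 1`, `n + 1 = t` force `t = 2` or `f = 2` (counting involutions). -/
theorem Special.stepD (hS : Special p P n w X Y v ε) (hft : fI P < p - 1) (hε : ε = -1) (hw : w = 1)
    (hnt : n + 1 = tI p P) : tI p P = 2 ∨ fI P = 2 := by
  classical
  have hL := hS.linData
  have hA := hS.stepA
  have hC2 := hS.stepC
  obtain ⟨-, hdeg⟩ := hS.degY_neg hε
  have hev := even_f hS hL hA hC2 hε hw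
  obtain ⟨y0, hyN, hyP, hy2⟩ := exists_invol hS hev
  have hcent := card_centralizer_le hL hA y0 hyN hyP
  have hinv := card_le_invol_mul y0 hy2
  have hI := one_add_card_invol_le (G := G)
  have hZ := sum_out_sq hS hA
  have hsd := sum_degree hS hA
  have hfin : ((X ∪ Y)ᶜ : Set (IrrCharacter G)).Finite := Set.toFinite _
  have hZa : ∑ᶠ χ ∈ ((X ∪ Y)ᶜ : Set (IrrCharacter G)), aP P χ ≤
      ∑ᶠ χ ∈ ((X ∪ Y)ᶜ : Set (IrrCharacter G)), (aP P χ) ^ 2 := by
    rw [finsum_mem_eq_finite_toFinset_sum _ hfin, finsum_mem_eq_finite_toFinset_sum _ hfin]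
    apply Finset.sum_le_sum
    intro χ _
    exact Nat.le_self_pow two_ne_zero _
  have hYsum : ∑ᶠ ψ ∈ Y, charDegree (ψ : G → ℂ) = tI p P * (p - fI P) := by
    have hYfin : Y.Finite := Set.toFinite _
    rw [finsum_mem_eq_finite_toFinset_sum _ hYfin]
    rw [Finset.sum_congr rfl (fun ψ hψ => hdeg ψ (hYfin.mem_toFinset.mp hψ))]
    rw [Finset.sum_const, smul_eq_mul, hw, one_mul]
    congr 1
    have hcY : Nat.card Y = tI p P := hS.bx.b0.cardY
    rw [← hcY, Nat.card_coe_set_eq, Set.ncard_eq_toFinset_card Y hYfin]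
  rw [hYsum] at hsd
  rw [hw, hnt] at hZ
  have hr := hC2.cardLin
  rw [hw, hnt] at hr
  have hG := hS.card_G
  refine arithD p (fI P) (tI p P) n (Nat.card (typeA X v)) (Nat.card (typeB X v))
    (Nat.card {g : G // orderOf g = 2})
    (∑ᶠ χ ∈ ((X ∪ Y)ᶜ : Set (IrrCharacter G)), (aP P χ) ^ 2)
    (∑ᶠ χ ∈ ((X ∪ Y)ᶜ : Set (IrrCharacter G)), aP P χ)
    hS.p_eq (hS.t_ge_two hft) hS.hf2 hnt (by omega) hC2.cardX (by
      rw [← hZ]
      ring) hZa ?_ (by
      rw [← hsd]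
      exact hI)
  · calc p * fI P * (1 + n * p) = Nat.card G := by rw [hG]; ring
      _ ≤ Nat.card {g : G // orderOf g = 2} * Nat.card (Subgroup.centralizer ({y0} : Set G)) := hinv
      _ ≤ Nat.card {g : G // orderOf g = 2} * (fI P * tI p P) := by
          apply Nat.mul_le_mul_left
          rw [← hnt]
          exact hcent


/-! ## Step E : `f = 2` -/

/-- the arithmetic of the equality case -/
theorem arithE (t I c Za : ℕ) (ht : 2 ≤ t) (hc : c ≤ 2 * t)
    (hG : 2 * (2 * t + 1) * (t * (2 * t - 1)) ≤ I * c) (hZa : Za ≤ t - 1)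
    (hdeg : 1 + I ≤ (2 * t + 1) + t * (2 * t - 1) + (2 * t + 1) * Za) :
    I = (2 * t + 1) * (2 * t - 1) ∧ c = 2 * t ∧ Za = t - 1 := by
  obtain ⟨u, rfl⟩ : ∃ u, t = u + 2 := ⟨t - 2, by omega⟩
  have h1 : 2 * (u + 2) - 1 = 2 * u + 3 := by omega
  have h2 : u + 2 - 1 = u + 1 := by omega
  rw [h1] at hG hdeg ⊢
  rw [h2] at hZa ⊢
  have hIc : I * c ≤ I * (2 * (u + 2)) := Nat.mul_le_mul_left I hc
  have hI1 : (2 * (u + 2) + 1) * (2 * u + 3) ≤ I := by
    have h3 : (2 * (u + 2)) * ((2 * (u + 2) + 1) * (2 * u + 3)) ≤ (2 * (u + 2)) * I := by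
      calc (2 * (u + 2)) * ((2 * (u + 2) + 1) * (2 * u + 3))
          = 2 * (2 * (u + 2) + 1) * ((u + 2) * (2 * u + 3)) := by ring
        _ ≤ I * c := hG
        _ ≤ I * (2 * (u + 2)) := hIc
        _ = (2 * (u + 2)) * I := by ring
    exact Nat.le_of_mul_le_mul_left h3 (by omega)
  have hI2 : 1 + I ≤ (2 * (u + 2) + 1) + (u + 2) * (2 * u + 3) + (2 * (u + 2) + 1) * (u + 1) := by
    calc 1 + I ≤ (2 * (u + 2) + 1) + (u + 2) * (2 * u + 3) + (2 * (u + 2) + 1) * Za := hdeg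
      _ ≤ _ := by
        apply Nat.add_le_add_left
        exact Nat.mul_le_mul_left _ hZa
  have hIeq : I = (2 * (u + 2) + 1) * (2 * u + 3) := by nlinarith
  refine ⟨hIeq, ?_, ?_⟩
  · have hIpos : 0 < I := by rw [hIeq]; positivity
    have h4 : I * (2 * (u + 2)) ≤ I * c := by
      calc I * (2 * (u + 2)) = 2 * (2 * (u + 2) + 1) * ((u + 2) * (2 * u + 3)) := by rw [hIeq]; ring
        _ ≤ I * c := hG
    have := Nat.le_of_mul_le_mul_left h4 hIpos
    omega
  · by_contra hne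
    have hlt : Za + 1 ≤ u + 1 := by omega
    have h5 : (2 * (u + 2) + 1) * (Za + 1) ≤ (2 * (u + 2) + 1) * (u + 1) := Nat.mul_le_mul_left _ hlt
    nlinarith


/-- the arithmetic of the equality case, from the raw data -/
theorem arithE' (p f t n w r s I c Zs Za D Gc : ℕ)
    (hf : f = 2) (hw : w = 1) (hp : p = 1 + t * f) (ht : 2 ≤ t) (hnt : n + 1 = t)
    (hr : r * (n + 1) + w + 1 = f) (hs : r + s + 1 = f)
    (hcent : c ≤ f * (n + 1)) (hinv : Gc ≤ I * c) (hG : Gc = p * (f * (1 + n * p)))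
    (hZ : Zs + 1 + r * (n + 1) ^ 2 + t * w ^ 2 = f * (n + 1)) (hZa : Za ≤ Zs)
    (hsd : D = 1 + r * (1 + n * p) + s * (p - 1) + t * (p - f) + p * Za) (hI : 1 + I ≤ D) :
    Gc = I * c ∧ c = p - 1 ∧ Za = n ∧ Za = Zs ∧ 1 + I = D ∧ Gc = p * (p - 1) * (p - 2) ∧ 3 < p := by
  subst hf hw
  have hr0 : r = 0 := by
    rcases Nat.eq_zero_or_pos r with h | h
    · exact h
    · have : 1 ≤ r * (n + 1) := Nat.mul_pos h (Nat.succ_pos n)
      omega
  subst hr0
  have hs1 : s = 1 := by omega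
  subst hs1
  obtain ⟨u, rfl⟩ : ∃ u, t = u + 2 := ⟨t - 2, by omega⟩
  have hn : n = u + 1 := by omega
  subst hn
  subst hp
  have e1 : 1 + (u + 2) * 2 - 1 = 2 * u + 4 := by omega
  have e2 : 1 + (u + 2) * 2 - 2 = 2 * u + 3 := by omega
  rw [e1, e2] at hsd ⊢
  have hZs : Zs = u + 1 := by
    have : Zs + 1 + 0 * (u + 1 + 1) ^ 2 + (u + 2) * 1 ^ 2 = Zs + 1 + (u + 2) := by ring
    omega
  have h3 := arithE (u + 2) I c Za (by omega) (by omega)
    (by
      have e3 : 2 * (u + 2) - 1 = 2 * u + 3 := by omega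
      rw [e3]
      calc 2 * (2 * (u + 2) + 1) * ((u + 2) * (2 * u + 3)) = Gc := by rw [hG]; ring
        _ ≤ I * c := hinv)
    (by omega)
    (by
      have e3 : 2 * (u + 2) - 1 = 2 * u + 3 := by omega
      rw [e3]
      calc 1 + I ≤ D := hI
        _ = (2 * (u + 2) + 1) + (u + 2) * (2 * u + 3) + (2 * (u + 2) + 1) * Za := by rw [hsd]; ring)
  have e3 : 2 * (u + 2) - 1 = 2 * u + 3 := by omega
  have e4 : u + 2 - 1 = u + 1 := by omega
  rw [e3, e4] at h3
  obtain ⟨hIeq, hceq, hZaeq⟩ := h3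
  refine ⟨?_, ?_, hZaeq, ?_, ?_, ?_, by omega⟩
  · rw [hG, hIeq, hceq]; ring
  · omega
  · omega
  · rw [hsd, hIeq, hZaeq]; ring
  · rw [hG]; ring

/-- STEP E : `f = 2` gives `SL₂(2^m)`, `p = 2^m + 1`. -/
theorem Special.stepE (hS : Special p P n w X Y v ε) (hft : fI P < p - 1) (hε : ε = -1) (hw : w = 1)
    (hnt : n + 1 = tI p P) (hf : fI P = 2) :
    ∃ (m : ℕ) (F : Type) (_ : Field F) (_ : Fintype F), Fintype.card F = 2 ^ m ∧ p = 2 ^ m + 1 ∧ 3 < p ∧
      Nonempty (G ≃* Matrix.SpecialLinearGroup (Fin 2) F) := by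
  classical
  have hL := hS.linData
  have hA := hS.stepA
  have hC2 := hS.stepC
  obtain ⟨-, hdeg⟩ := hS.degY_neg hε
  have ht2 := hS.t_ge_two hft
  have hev : Even (fI P) := by rw [hf]; exact even_two
  obtain ⟨y0, hyN, hyP, hy2⟩ := exists_invol hS hev
  have hcent := card_centralizer_le hL hA y0 hyN hyP
  have hinv := card_le_invol_mul y0 hy2
  have hI := one_add_card_invol_le (G := G)
  have hZ := sum_out_sq hS hA
  have hsd := sum_degree hS hA
  have hfin : ((X ∪ Y)ᶜ : Set (IrrCharacter G)).Finite := Set.toFinite _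
  have hZa : ∑ᶠ χ ∈ ((X ∪ Y)ᶜ : Set (IrrCharacter G)), aP P χ ≤
      ∑ᶠ χ ∈ ((X ∪ Y)ᶜ : Set (IrrCharacter G)), (aP P χ) ^ 2 := by
    rw [finsum_mem_eq_finite_toFinset_sum _ hfin, finsum_mem_eq_finite_toFinset_sum _ hfin]
    apply Finset.sum_le_sum
    intro χ _
    exact Nat.le_self_pow two_ne_zero _
  have hYsum : ∑ᶠ ψ ∈ Y, charDegree (ψ : G → ℂ) = tI p P * (p - fI P) := by
    have hYfin : Y.Finite := Set.toFinite _
    rw [finsum_mem_eq_finite_toFinset_sum _ hYfin]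
    rw [Finset.sum_congr rfl (fun ψ hψ => hdeg ψ (hYfin.mem_toFinset.mp hψ))]
    rw [Finset.sum_const, smul_eq_mul, hw, one_mul]
    congr 1
    have hcY : Nat.card Y = tI p P := hS.bx.b0.cardY
    rw [← hcY, Nat.card_coe_set_eq, Set.ncard_eq_toFinset_card Y hYfin]
  rw [hYsum] at hsd
  obtain ⟨hGIc, hcent', hZan, hZeq, hinvEq, hGcard, hp3⟩ :=
    arithE' p (fI P) (tI p P) n w (Nat.card (typeA X v)) (Nat.card (typeB X v))
      (Nat.card {g : G // orderOf g = 2}) (Nat.card (Subgroup.centralizer ({y0} : Set G)))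
      (∑ᶠ χ ∈ ((X ∪ Y)ᶜ : Set (IrrCharacter G)), (aP P χ) ^ 2)
      (∑ᶠ χ ∈ ((X ∪ Y)ᶜ : Set (IrrCharacter G)), aP P χ)
      (∑ᶠ χ : IrrCharacter G, charDegree (χ : G → ℂ)) (Nat.card G)
      hf hw hS.p_eq ht2 hnt hC2.cardLin hC2.cardX hcent hinv hS.card_G hZ hZa hsd hI
  -- every character outside `B_0` has `aP = 1`
  have hout1 : ∀ χ : IrrCharacter G, χ ∉ X ∪ Y → aP P χ = 1 := by
    intro χ hχ
    have hmem : χ ∈ hfin.toFinset := hfin.mem_toFinset.mpr hχ
    have hsum : ∑ χ ∈ hfin.toFinset, ((aP P χ) ^ 2 - aP P χ) = 0 := by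
      have h5 : ∑ χ ∈ hfin.toFinset, aP P χ + ∑ χ ∈ hfin.toFinset, ((aP P χ) ^ 2 - aP P χ) =
          ∑ χ ∈ hfin.toFinset, (aP P χ) ^ 2 := by
        rw [← Finset.sum_add_distrib]
        apply Finset.sum_congr rfl
        intro χ' _
        have := Nat.le_self_pow two_ne_zero (aP P χ')
        omega
      have e1 : ∑ᶠ χ ∈ ((X ∪ Y)ᶜ : Set (IrrCharacter G)), aP P χ = ∑ χ ∈ hfin.toFinset, aP P χ :=
        finsum_mem_eq_finite_toFinset_sum _ hfin
      have e2 : ∑ᶠ χ ∈ ((X ∪ Y)ᶜ : Set (IrrCharacter G)), (aP P χ) ^ 2 =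
          ∑ χ ∈ hfin.toFinset, (aP P χ) ^ 2 := finsum_mem_eq_finite_toFinset_sum _ hfin
      rw [← e1, ← e2, hZeq] at h5
      exact Nat.add_left_cancel (h5.trans (Nat.add_zero _).symm)
    have h6 := (Finset.sum_eq_zero_iff.mp hsum) χ hmem
    have h7 := hA.aP_out χ hχ
    have h8 := charDegree_pos χ
    have h9 : aP P χ ≠ 0 := by
      intro h0
      rw [h0, mul_zero] at h7
      omega
    have h10 : (aP P χ) ^ 2 = aP P χ := by
      have := Nat.le_self_pow two_ne_zero (aP P χ)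
      omega
    have h11 : aP P χ * aP P χ = aP P χ * 1 := by rw [mul_one, ← pow_two]; exact h10
    exact Nat.eq_of_mul_eq_mul_left (Nat.pos_of_ne_zero h9) h11
  have hcout : Nat.card ((X ∪ Y)ᶜ : Set (IrrCharacter G)) = n := by
    have h5 : ∑ᶠ χ ∈ ((X ∪ Y)ᶜ : Set (IrrCharacter G)), aP P χ = ∑ χ ∈ hfin.toFinset, 1 := by
      rw [finsum_mem_eq_finite_toFinset_sum _ hfin]
      apply Finset.sum_congr rfl
      intro χ hχ
      exact hout1 χ (hfin.mem_toFinset.mp hχ)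
    rw [Finset.sum_const, smul_eq_mul, mul_one] at h5
    rw [Nat.card_coe_set_eq, Set.ncard_eq_toFinset_card _ hfin, ← h5]
    exact hZan
  have hconj := isConj_of_card_eq y0 hy2 hGIc
  have hsqrt := card_sqrt_of_invol_eq hinvEq
  obtain ⟨hvB, hvY, hvout, hsum0⟩ := val_y0 hS hL hA hC2 hε hw hnt hf y0 hyN hyP hout1 hcout
  have hsumz : ∀ z : G, ¬ p ∣ orderOf z → z ≠ 1 → z ^ 2 ≠ 1 →
      ∑ᶠ χ : IrrCharacter G, (χ : G → ℂ) z = 1 :=
    fun z hzp hz1 hz2 => sum_z hS hL hA hC2 hε hw hnt hf y0 hy2 hvB hvY hvout hout1 z hzp hz1 hz2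
  have hexp := exp_two y0 hy2 hsqrt hconj hcent' hsum0 hsumz
  exact rec_sl2 hp3 hGcard hS.core y0 hy2 hconj hcent' hexp


/-! ## the conclusions in the special case -/

/-- `n = 1` in the special case: `PSL₂(p)`. -/
theorem Special.concl_of_n_eq_one (hS : Special p P n w X Y v ε) (hn1 : n = 1) : Concl G p := by
  have hidx := hS.hidx
  rw [hn1, one_mul] at hidx
  have hpp : p.Prime := Fact.out
  have hfp : fI P < p := by
    have h0 := Nat.le_of_dvd (Nat.sub_pos_of_lt hpp.one_lt) hS.f_dvd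
    have h1 := hpp.one_lt
    have h2 : fI P ≤ p - 1 := h0
    omega
  have hd : Nat.card (Nz P) < p * p := by
    rw [hS.card_N]
    exact Nat.mul_lt_mul_of_pos_left hfp hpp.pos
  obtain ⟨h3, ⟨e⟩⟩ := psl_of_index hS.perf hS.core P hS.hP hidx hS.hf2 hS.f_dvd hd
    (fun h2 => not_perfect_pgl h2)
    (fun H hH hperf => eq_bot_of_perfect_semiaffine H hH hperf)
  exact Or.inl ⟨ZMod p, inferInstance, inferInstance, ZMod.card p, h3, ⟨e⟩⟩

/-- `ε = +1` in the special case: `PSL₂(p)`. -/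
theorem Special.concl_of_pos (hS : Special p P n w X Y v ε) (hft : fI P < p - 1) (hε : ε = 1) :
    Concl G p :=
  hS.concl_of_n_eq_one (hS.stepB hft hε).1

/-- `ε = -1`, `w = 1`, `n + 1 = t` in the special case: `PSL₂(p)` or `SL₂(2^m)`. -/
theorem Special.concl_of_neg (hS : Special p P n w X Y v ε) (hft : fI P < p - 1) (hε : ε = -1)
    (hw : w = 1) (hnt : n + 1 = tI p P) : Concl G p := by
  rcases hS.stepD hft hε hw hnt with ht | hf
  · exact hS.concl_of_n_eq_one (by omega)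
  · exact Or.inr (hS.stepE hft hε hw hnt hf)


/-! ## the core theorem in the Brauer-Reynolds regime -/

/-- elements of `P \ 1` have order `p` -/
theorem orderOf_eq_of_mem (P : Subgroup G) (hP : Nat.card P = p) {x : G} (hx : x ∈ P) (hx1 : x ≠ 1) :
    orderOf x = p := by
  have hpp : p.Prime := Fact.out
  have h1 : orderOf (⟨x, hx⟩ : P) ∣ p := hP ▸ orderOf_dvd_natCard (⟨x, hx⟩ : P)
  rw [Subgroup.orderOf_mk] at h1
  rcases (Nat.dvd_prime hpp).mp h1 with h | h
  · exact absurd (orderOf_eq_one_iff.mp h) hx1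
  · exact h

theorem cz_le_nz (P : Subgroup G) : Cz P ≤ Nz P := by
  intro c hc
  rw [Subgroup.mem_normalizer_iff]
  intro x
  have hc' := Subgroup.mem_centralizer_iff.mp hc
  constructor
  · intro hx
    have : c * x * c⁻¹ = x := by rw [← hc' x hx]; group
    rw [this]; exact hx
  · intro hx
    have h1 : c⁻¹ * (c * x * c⁻¹) * c = x := by group
    have h2 := hc' _ hx
    have h3 : c * x * c⁻¹ = x := by
      have : c * (c * x * c⁻¹) * c⁻¹ = c * x * c⁻¹ := by rw [← h2]; group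
      have h4 : c * x * c⁻¹ * c = c * (c * x * c⁻¹) := h2
      calc c * x * c⁻¹ = c⁻¹ * (c * (c * x * c⁻¹)) := by group
        _ = c⁻¹ * (c * x * c⁻¹ * c) := by rw [h4]
        _ = x := by group
    rw [← h3]; exact hx

theorem le_cz_of_prime (P : Subgroup G) (hP : Nat.card P = p) : P ≤ Cz P := by
  have hpp : p.Prime := Fact.out
  haveI : Fact (Nat.card P).Prime := ⟨by rw [hP]; exact hpp⟩
  have hcyc : IsCyclic P := isCyclic_of_prime_card (p := Nat.card P) rfl
  intro x hx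
  rw [Subgroup.mem_centralizer_iff]
  intro y hy
  letI := IsCyclic.commGroup (α := P)
  have := mul_comm (⟨y, hy⟩ : P) ⟨x, hx⟩
  exact congrArg Subtype.val this

/-- THE CORE THEOREM (Brauer-Reynolds): a perfect group `G` with `O_{p'}(G) = 1`, `p ∣ |G| < p³` and non-normal Sylow `p`-subgroup is `PSL₂(p)`
(`p > 3`) or `SL₂(2^m)` (`p = 2^m + 1 > 3`). -/
theorem br_core (hperf : commutator G = ⊤) (hdvd : p ∣ Nat.card G) (hbig : Nat.card G < p ^ 3)
    (hcore : ∀ K : Subgroup G, K.Normal → (Nat.card K).Coprime p → K = ⊥)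
    (S : Sylow p G) (hSn : ¬ (S : Subgroup G).Normal) : Concl G p := by
  classical
  have hpp : p.Prime := Fact.out
  obtain ⟨hP, n, hn, hidx⟩ := br_setup hdvd hbig S hSn
  set P : Subgroup G := (S : Subgroup G) with hPdef
  have hSyl : ¬ p ∣ P.index := S.not_dvd_index
  have hf2 : 2 ≤ fI P := Cfsg.Agent.Lib.Helper8.BRWBURN.two_le_relIndex hperf P hP hSyl
  have hfd := fI_dvd P hP
  have hfle : fI P ≤ p - 1 := Nat.le_of_dvd (Nat.sub_pos_of_lt hpp.one_lt) hfd
  -- the size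
  have hczidx : (Cz P).index = fI P * (1 + n * p) := by
    rw [← Subgroup.relIndex_mul_index (cz_le_nz P), hidx]
  have hpC : p ≤ Nat.card (Cz P) := by
    rw [← hP]
    exact Nat.le_of_dvd Nat.card_pos (Subgroup.card_dvd_of_le (le_cz_of_prime P hP))
  have hGle : p * (fI P * (1 + n * p)) ≤ Nat.card G := by
    rw [← Subgroup.card_mul_index (Cz P), hczidx]
    exact Nat.mul_le_mul_right _ hpC
  have hnf : n * fI P < p := by
    have h1 : p * (fI P * (1 + n * p)) < p * (p * p) := by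
      calc p * (fI P * (1 + n * p)) ≤ Nat.card G := hGle
        _ < p ^ 3 := hbig
        _ = p * (p * p) := by ring
    have h2 : fI P * (1 + n * p) < p * p := Nat.lt_of_mul_lt_mul_left h1
    have h3 : (n * fI P) * p < p * p := by
      calc (n * fI P) * p ≤ fI P * (1 + n * p) := by nlinarith
        _ < p * p := h2
    exact Nat.lt_of_mul_lt_mul_right h3
  have hcore' : pPrimeCore p G = ⊥ := by
    unfold pPrimeCore
    rw [sSup_eq_bot]
    intro K hK
    exact hcore K hK.1 hK.2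
  by_cases hn1 : n = 1
  · -- the branch `n = 1`
    rw [hn1, one_mul] at hidx
    have hd : Nat.card (Nz P) < p * p := by
      have h1 := Subgroup.card_mul_index (Nz P)
      rw [hidx] at h1
      have h2 : Nat.card (Nz P) * (1 + p) < p ^ 3 := by rw [h1]; exact hbig
      by_contra hcon
      push Not at hcon
      have h3 : p * p * (1 + p) ≤ Nat.card (Nz P) * (1 + p) := Nat.mul_le_mul_right _ hcon
      nlinarith
    obtain ⟨h3, ⟨e⟩⟩ := psl_of_index hperf hcore P hP hidx hf2 hfd hd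
      (fun h2 => not_perfect_pgl h2)
      (fun H hH hperf => eq_bot_of_perfect_semiaffine H hH hperf)
    exact Or.inl ⟨ZMod p, inferInstance, inferInstance, ZMod.card p, h3, ⟨e⟩⟩
  -- `n ≥ 2`
  have hn2 : 2 ≤ n := by omega
  have hft : fI P < p - 1 := by
    have h1 : 2 * fI P ≤ n * fI P := Nat.mul_le_mul_right _ hn2
    omega
  obtain ⟨M, hM⟩ := Cfsg.Agent.Lib.Helper6.exists_isPModular p
  obtain ⟨X, Y, v, ε, hbx⟩ := exists_B0X hM P hP hSyl hft
  have hb := hbx.b0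
  have hvalP : ∀ η ∈ X, ∀ x ∈ P, x ≠ 1 → (η : G → ℂ) x = (v η : ℂ) := by
    intro η hη x hx hx1
    apply hb.valX η hη x
    rw [orderOf_eq_of_mem P hP hx hx1]
  -- the types
  have hXf := X_facts hb hP hperf
  have htyp : ∀ η ∈ X, η ≠ trivIrr G →
      (v η = 1 ∧ charDegree (η : G → ℂ) = 1 + n * p) ∨
      (v η = -1 ∧ charDegree (η : G → ℂ) = p - 1) := by
    intro η hη hne
    obtain ⟨hc, hD1, hDsq⟩ := hXf η hη hne
    have hdv := Cfsg.Agent.Lib.Helper23.BRWOMEGA.degree_dvd_class P hP η (v η) (hvalP η hη)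
    have hD : charDegree (η : G → ℂ) ∣ fI P * (1 + n * p) := by
      rw [← hczidx]
      rcases hb.sgnX η hη with h | h
      · rw [h, one_mul] at hdv
        exact_mod_cast hdv
      · rw [h, neg_one_mul, dvd_neg] at hdv
        exact_mod_cast hdv
    exact arithX p (fI P) n (charDegree (η : G → ℂ)) (v η) hpp hfd hf2 hn hnf hD (hb.sgnX η hη) hc hD1
      (lt_trans hDsq hbig)
  -- a character of type B, and `C_G(P) = P`
  obtain ⟨η0, hη0, hv0⟩ := Cfsg.Agent.Lib.Helper7.BRWSPOS.exists_typeB P hP hSyl n hn hidx hf2 X Y v ε hb htyp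
  obtain ⟨x0, hx0P, hx01⟩ : ∃ x ∈ P, x ≠ 1 := by
    by_contra hcon
    push Not at hcon
    have : P = ⊥ := by
      rw [Subgroup.eq_bot_iff_forall]
      exact hcon
    rw [this, Subgroup.card_bot] at hP
    exact hpp.one_lt.ne' hP.symm
  have hne0 : η0 ≠ trivIrr G := by
    intro h
    have h1 := hvalP η0 hη0 x0 hx0P hx01
    rw [hv0, h] at h1
    have h2 : ((trivIrr G : IrrCharacter G) : G → ℂ) x0 = 1 := rfl
    rw [h2] at h1
    norm_num at h1
  have hdeg0 : charDegree (η0 : G → ℂ) = p - 1 := by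
    rcases htyp η0 hη0 hne0 with h | h
    · rw [hv0] at h
      exact absurd h.1 (by norm_num)
    · exact h.2
  have hC : Cz P = P := by
    have hker := Cfsg.Agent.Lib.Helper7.BRWTYPEB.apply_eq_degree_of_typeB P hP hSyl η0 hdeg0 (by
      intro x hx hx1 y hy hyp
      have h1 : p ∣ orderOf (x * y) := by
        have hcomm : Commute x y := by
          have := Subgroup.mem_centralizer_iff.mp hy x hx
          exact this
        have hcop : (orderOf x).Coprime (orderOf y) := by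
          rw [orderOf_eq_of_mem P hP hx hx1]
          exact (Nat.Prime.coprime_iff_not_dvd hpp).mpr hyp
        rw [hcomm.orderOf_mul_eq_mul_orderOf_of_coprime hcop, orderOf_eq_of_mem P hP hx hx1]
        exact dvd_mul_right _ _
      rw [hb.valX η0 hη0 _ h1, hv0]
      push_cast
      rfl)
    refine Cfsg.Agent.Lib.Helper7.BRWCZ.Cz_eq_of_typeB hcore' P hP hSyl η0 hker ⟨x0, hx0P, ?_⟩
    rw [hvalP η0 hη0 x0 hx0P hx01, hv0, apply_one_eq, hdeg0]
    have h2 := hpp.two_le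
    intro h
    have h3 : ((p - 1 : ℕ) : ℂ) = ((p : ℂ) - 1) := by
      rw [Nat.cast_sub hpp.one_lt.le, Nat.cast_one]
    rw [h3] at h
    have h4 : (p : ℂ) = 0 := by
      have : ((-1 : ℤ) : ℂ) = -1 := by norm_num
      rw [this] at h
      linear_combination -h
    exact (Nat.cast_ne_zero.mpr hpp.ne_zero) h4
  -- the degree of the exceptional characters
  have hYne : ∃ ψ, ψ ∈ Y := by
    have h1 : 0 < Nat.card Y := by
      rw [hb.cardY]
      apply Nat.div_pos hfle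
      omega
    have : Nonempty Y := (Nat.card_pos_iff.mp h1).1
    obtain ⟨⟨ψ, hψ⟩⟩ := this
    exact ⟨ψ, hψ⟩
  have hsumX : (∑ᶠ η ∈ X, v η * (charDegree (η : G → ℂ) : ℤ)) ≡ (fI P : ℤ) [ZMOD p] := by
    have hXfin : X.Finite := Set.toFinite _
    rw [finsum_mem_eq_finite_toFinset_sum _ hXfin]
    have hcard : (fI P : ℤ) = ∑ η ∈ hXfin.toFinset, (1 : ℤ) := by
      rw [Finset.sum_const, nsmul_eq_mul, mul_one]
      have hcX : Nat.card X = fI P := hb.cardX
      rw [← hcX, Nat.card_coe_set_eq, Set.ncard_eq_toFinset_card X hXfin]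
    rw [hcard]
    apply Int.ModEq.sum
    intro η hη
    have hηX : η ∈ X := hXfin.mem_toFinset.mp hη
    by_cases hne : η = trivIrr G
    · have h1 : v η = 1 := by
        have h1 := hvalP η hηX x0 hx0P hx01
        rw [hne] at h1
        have h2 : ((trivIrr G : IrrCharacter G) : G → ℂ) x0 = 1 := rfl
        rw [h2] at h1
        rw [hne]
        exact_mod_cast h1.symm
      have h2 : charDegree (η : G → ℂ) = 1 := by
        rw [hne]
        apply charDegree_eq_of_apply_one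
        show ((trivIrr G : IrrCharacter G) : G → ℂ) 1 = ((1 : ℕ) : ℂ)
        rw [Nat.cast_one]
        rfl
      rw [h1, h2]
      rfl
    · obtain ⟨hc, -, -⟩ := hXf η hηX hne
      rcases hb.sgnX η hηX with h | h
      · rw [h] at hc ⊢
        rw [one_mul]
        exact hc
      · rw [h] at hc ⊢
        have := hc.neg
        simpa using this
  have hwex : ∃ w : ℕ, ∀ ψ ∈ Y, (charDegree (ψ : G → ℂ) : ℤ) = (w : ℤ) * p + ε * (fI P : ℤ) := by
    obtain ⟨ψ0, hψ0⟩ := hYne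
    have hsame : ∀ ψ ∈ Y, (charDegree (ψ : G → ℂ) : ℤ) = (charDegree (ψ0 : G → ℂ) : ℤ) := by
      intro ψ hψ
      have h1 := hb.degY ψ hψ
      have h2 := hb.degY ψ0 hψ0
      rcases hb.sgn with h | h
      · rw [h, one_mul] at h1 h2
        rw [h1, h2]
      · rw [h, neg_one_mul] at h1 h2
        have : -(charDegree (ψ : G → ℂ) : ℤ) = -(charDegree (ψ0 : G → ℂ) : ℤ) := by rw [h1, h2]
        exact neg_injective this
    have h0 : ε * (charDegree (ψ0 : G → ℂ) : ℤ) ≡ (fI P : ℤ) [ZMOD p] := by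
      rw [hb.degY ψ0 hψ0]
      exact hsumX
    have hDpos : (0 : ℤ) < (charDegree (ψ0 : G → ℂ) : ℤ) := by exact_mod_cast charDegree_pos ψ0
    have hfpos : (0 : ℤ) < (fI P : ℤ) := by exact_mod_cast (by omega : 0 < fI P)
    have hflt : (fI P : ℤ) < (p : ℤ) := by
      have : fI P < p := by omega
      exact_mod_cast this
    have hppos : (0 : ℤ) < (p : ℤ) := by exact_mod_cast hpp.pos
    rcases hb.sgn with h | h
    · rw [h, one_mul] at h0
      obtain ⟨k, hk⟩ := h0.symm.dvd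
      have hk0 : 0 ≤ k := by
        by_contra hneg
        push Not at hneg
        have : (p : ℤ) * k ≤ -(p : ℤ) := by nlinarith
        linarith
      refine ⟨k.toNat, fun ψ hψ => ?_⟩
      rw [hsame ψ hψ, h, one_mul, Int.toNat_of_nonneg hk0]
      linarith
    · rw [h, neg_one_mul] at h0
      obtain ⟨k, hk⟩ := h0.symm.dvd
      have hk0 : 0 ≤ -k := by
        by_contra hneg
        push Not at hneg
        have : (p : ℤ) * k ≥ 0 := by nlinarith
        linarith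
      refine ⟨(-k).toNat, fun ψ hψ => ?_⟩
      rw [hsame ψ hψ, h, neg_one_mul, Int.toNat_of_nonneg hk0]
      linarith
  obtain ⟨w, hw⟩ := hwex
  have hSp : Special p P n w X Y v ε :=
    { bx := hbx
      hP := hP
      hSyl := hSyl
      hC := hC
      hidx := hidx
      hn := hn
      hf2 := hf2
      perf := hperf
      core := hcore
      typ := htyp
      hw := hw }
  have htf : n ≤ tI p P := by
    have h1 := hSp.p_eq
    have h2 : n * fI P ≤ tI p P * fI P := by omega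
    exact Nat.le_of_mul_le_mul_right h2 (by omega)
  rcases hb.sgn with hε | hε
  · exact absurd (hSp.stepB hft hε).1 hn1
  · obtain ⟨hw1, hnt⟩ := hSp.stepC_br hft hε htf
    exact hSp.concl_of_neg hft hε hw1 hnt

end Cfsg.Agent.Lib.Helper24.BRC
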