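import Cfsg.Agent.Lib.Helper17.FrCDefs

/-!
# CORE13 (S5679 + S5696; helper17's market): the GROW step G3 `all_rt_of_win3` in core form
(`hrte` = leaf S1 `rt_e`, `hconj` = leaf S2 `rt_conj` as hypotheses).
-/

set_option autoImplicit false
set_option linter.unusedSectionVars false
set_option linter.unusedVariables false

namespace Cfsg.Agent.Lib.Helper24.FrCLeaf

open Module QuadraticMap Matrix Cfsg.Agent.Lib.Helper25.CD Cfsg.Agent.Lib.Helper25.Spin
  Cfsg.Agent.Lib.Helper5.NSMax Cfsg.Agent.Lib.Helper5.PairMax Cfsg.Agent.Lib.Helper17.OC2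
  Cfsg.Agent.Lib.Helper29.FrStd Cfsg.Agent.Lib.Helper11.Mono Cfsg.Agent.Lib.Helper17.FrC

variable {κ : Type} [Fintype κ] [DecidableEq κ] {F : Type*} [Field F] [Fintype F]
  {c : F} {M : Subgroup ↥(Cfsg.isometryGroup F ⇑(stdQ κ F c))}

/-- a field of prime cardinality has that characteristic -/
theorem gr_charP (hp : (Fintype.card F).Prime) : CharP F (Fintype.card F) := by
  obtain ⟨p', hchar⟩ := CharP.exists F
  haveI := hchar
  obtain ⟨n, hp', hcard⟩ := FiniteField.card F p'
  have h1 : p' ^ (n : ℕ) = Fintype.card F := hcard.symm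
  have h2 := (Nat.Prime.pow_eq_iff hp).1 h1
  rw [← h2.1]
  exact hchar

/-- small naturals are non-zero in a prime field of larger cardinality -/
theorem gr_natCast_ne_zero (hp : (Fintype.card F).Prime) {n : ℕ} (hn0 : 0 < n)
    (hn : n < Fintype.card F) : (n : F) ≠ 0 := by
  haveI := gr_charP hp
  intro h0
  have := (CharP.cast_eq_zero_iff F (Fintype.card F) n).1 h0
  have := Nat.le_of_dvd hn0 this
  omega

/-- every element of a finite field of odd order is a sum of two squares -/
theorem gr_two_squares (hodd : Fintype.card F % 2 = 1) (ν : F) : ∃ y₁ y₂ : F, y₁ ^ 2 + y₂ ^ 2 = ν := by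
  classical
  obtain ⟨a, b, hab⟩ := FiniteField.exists_root_sum_quadratic (R := F)
    (f := Polynomial.X ^ 2) (g := Polynomial.X ^ 2 - Polynomial.C ν)
    (Polynomial.degree_X_pow 2) (Polynomial.degree_X_pow_sub_C (by decide) _) hodd
  refine ⟨a, b, ?_⟩
  simp only [Polynomial.eval_pow, Polynomial.eval_X, Polynomial.eval_sub, Polynomial.eval_C] at hab
  linear_combination hab

theorem gr_toOG_inv (g : ↥(Cfsg.isometryGroup F ⇑(stdQ κ F c))) (x : κ → F) :
    toOG (stdQ κ F c) g⁻¹ (toOG (stdQ κ F c) g x) = x := by
  rw [← LinearEquiv.mul_apply, ← map_mul, inv_mul_cancel, map_one]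
  rfl

/-- G1 in core form -/
theorem gr_rt_of_transU
    (hconj : ∀ g : ↥(Cfsg.isometryGroup F ⇑(stdQ κ F c)), g ∈ M → ∀ a : κ → F, Rt c M a →
      Rt c M (toOG (stdQ κ F c) g a))
    {U : Submodule F (κ → F)} (hU : TransU c M U) {u v : κ → F} (hu : u ∈ U)
    (hv : v ∈ U) (hru : Rt c M u) (hv1 : v ⬝ᵥ v = 1) : Rt c M v := by
  obtain ⟨g, hg, hguv, -⟩ := hU u hu v hv (by rw [hru.1, hv1]) (by rw [hru.1]; exact one_ne_zero)
  rw [← hguv]
  exact hconj g hg u hru

theorem gr_e_apply (i l : κ) : (e i : κ → F) l = if l = i then 1 else 0 := by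
  unfold e
  rw [Pi.single_apply]

theorem gr_dot_split (T : Finset κ) (x : κ → F) :
    x ⬝ᵥ x = ∑ l ∈ T, x l ^ 2 + (fun l => if l ∈ T then 0 else x l) ⬝ᵥ (fun l => if l ∈ T then 0 else x l) := by
  classical
  unfold dotProduct
  rw [← Finset.sum_filter_add_sum_filter_not Finset.univ (fun l => l ∈ T)]
  congr 1
  · rw [Finset.filter_mem_eq_inter, Finset.univ_inter]
    apply Finset.sum_congr rfl
    intro l _
    ring
  · rw [← Finset.sum_filter_add_sum_filter_not Finset.univ (fun l => l ∈ T)
      (fun l => (if l ∈ T then (0 : F) else x l) * (if l ∈ T then (0 : F) else x l))]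
    have h1 : ∑ l ∈ Finset.univ.filter (fun l => l ∈ T),
        (if l ∈ T then (0 : F) else x l) * (if l ∈ T then (0 : F) else x l) = 0 := by
      apply Finset.sum_eq_zero
      intro l hl
      rw [Finset.mem_filter] at hl
      rw [if_pos hl.2, mul_zero]
    rw [h1, zero_add]
    apply Finset.sum_congr rfl
    intro l hl
    rw [Finset.mem_filter] at hl
    rw [if_neg hl.2]

/-- G3 in core form: `Win3` makes every unit vector a root -/
theorem all_rt_of_win3_core (h : Ctx c M) (h5 : 5 ≤ Fintype.card F) (hw : Win3 c M)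
    (hrte : ∀ i : κ, Rt c M (e i))
    (hconj : ∀ g : ↥(Cfsg.isometryGroup F ⇑(stdQ κ F c)), g ∈ M → ∀ a : κ → F, Rt c M a →
      Rt c M (toOG (stdQ κ F c) g a)) :
    ∀ x : κ → F, x ⬝ᵥ x = 1 → Rt c M x := by
  classical
  have hp := h.prime
  have h3ne : (3 : F) ≠ 0 := by
    have := gr_natCast_ne_zero hp (n := 3) (by norm_num) (by omega)
    exact_mod_cast this
  have hodd : Fintype.card F % 2 = 1 := by
    rcases hp.eq_two_or_odd with h2 | h2
    · omega
    · exact h2
  have key : ∀ n : ℕ, ∀ x : κ → F, (supp x).card = n → x ⬝ᵥ x = 1 → Rt c M x := by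
    intro n
    induction n using Nat.strong_induction_on with
    | _ n ih =>
    intro x hn hx1
    by_cases hsmall : (supp x).card ≤ 3
    · -- small support
      obtain ⟨T, hT1, hT3⟩ := Finset.exists_superset_card_eq hsmall (by rw [h.card]; norm_num)
      have hxT : x ∈ VT T := by
        intro l hl
        by_contra hne
        exact hl (hT1 (mem_supp.2 hne))
      obtain ⟨i, hi⟩ : T.Nonempty := by
        rw [← Finset.card_pos, hT3]; norm_num
      have heT : (e i : κ → F) ∈ VT T := by
        intro l hl
        rw [gr_e_apply, if_neg]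
        rintro rfl
        exact hl hi
      exact gr_rt_of_transU hconj (hw T hT3) heT hxT (hrte i) hx1
    · -- large support
      push Not at hsmall
      -- a 3-subset with non-zero partial norm
      have hex : ∃ T : Finset κ, T ⊆ supp x ∧ T.card = 3 ∧ ∑ l ∈ T, x l ^ 2 ≠ 0 := by
        by_contra hcon
        push Not at hcon
        obtain ⟨T₀, hT₀, hT₀3⟩ := Finset.exists_subset_card_eq (s := supp x) (n := 3) (by omega)
        obtain ⟨a, b, d, hab, had, hbd, rfl⟩ := Finset.card_eq_three.1 hT₀3
        have hlt : ({a, b, d} : Finset κ).card < (supp x).card := by rw [hT₀3]; omega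
        obtain ⟨f, hf, hfn⟩ := Finset.exists_mem_notMem_of_card_lt_card hlt
        have hfa : f ≠ a := by
          rintro rfl; exact hfn (by simp)
        have hfb : f ≠ b := by
          rintro rfl; exact hfn (by simp)
        have hfd : f ≠ d := by
          rintro rfl; exact hfn (by simp)
        have ha : a ∈ supp x := hT₀ (by simp)
        have hb : b ∈ supp x := hT₀ (by simp)
        have hd : d ∈ supp x := hT₀ (by simp)
        have s1 := hcon {a, b, d} hT₀ hT₀3
        have mk3 : ∀ p q r : κ, p ≠ q → p ≠ r → q ≠ r → p ∈ supp x → q ∈ supp x → r ∈ supp x →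
            x p ^ 2 + x q ^ 2 + x r ^ 2 = 0 := by
          intro p q r hpq hpr hqr hp' hq' hr'
          have hc3 : ({p, q, r} : Finset κ).card = 3 := Finset.card_eq_three.2 ⟨p, q, r, hpq, hpr, hqr, rfl⟩
          have hsub : ({p, q, r} : Finset κ) ⊆ supp x := by
            intro l hl
            simp only [Finset.mem_insert, Finset.mem_singleton] at hl
            rcases hl with rfl | rfl | rfl <;> assumption
          have := hcon {p, q, r} hsub hc3
          rw [Finset.sum_insert (by simp [hpq, hpr]), Finset.sum_insert (by simp [hqr]),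
            Finset.sum_singleton] at this
          linear_combination this
        have e1 := mk3 a b d hab had hbd ha hb hd
        have e2 := mk3 a b f hab hfa.symm hfb.symm ha hb hf
        have e3 := mk3 a d f had hfa.symm hfd.symm ha hd hf
        have e4 := mk3 b d f hbd hfb.symm hfd.symm hb hd hf
        have hsum : (3 : F) * (x a ^ 2 + x b ^ 2 + x d ^ 2 + x f ^ 2) = 0 := by
          linear_combination e1 + e2 + e3 + e4
        have hsum' : x a ^ 2 + x b ^ 2 + x d ^ 2 + x f ^ 2 = 0 :=
          (mul_eq_zero.1 hsum).resolve_left h3ne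
        have hf0 : x f ^ 2 = 0 := by linear_combination hsum' - e1
        exact (mem_supp.1 hf) (pow_eq_zero_iff (by norm_num) |>.1 hf0)
      obtain ⟨T, hTs, hT3, hν⟩ := hex
      obtain ⟨t₁, t₂, t₃, h12, h13, h23, hTeq⟩ := Finset.card_eq_three.1 hT3
      obtain ⟨y₁, y₂, hy⟩ := gr_two_squares hodd (∑ l ∈ T, x l ^ 2)
      -- the pieces
      obtain ⟨xT, hxT⟩ : ∃ xT : κ → F, xT = fun l => if l ∈ T then x l else 0 := ⟨_, rfl⟩
      obtain ⟨x', hx'⟩ : ∃ x' : κ → F, x' = fun l => if l ∈ T then 0 else x l := ⟨_, rfl⟩
      obtain ⟨v, hv⟩ : ∃ v : κ → F, v = y₁ • e t₁ + y₂ • e t₂ := ⟨_, rfl⟩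
      have hsplit : x = xT + x' := by
        funext l
        rw [Pi.add_apply, hxT, hx']
        by_cases hl : l ∈ T
        · simp [hl]
        · simp [hl]
      have ht₁ : t₁ ∈ T := by rw [hTeq]; simp
      have ht₂ : t₂ ∈ T := by rw [hTeq]; simp
      have hxTmem : xT ∈ VT T := by
        intro l hl
        rw [hxT]
        simp [hl]
      have hvmem : v ∈ VT T := by
        intro l hl
        rw [hv]
        simp only [Pi.add_apply, Pi.smul_apply, gr_e_apply, smul_eq_mul]
        rw [if_neg, if_neg]
        · ring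
        · rintro rfl; exact hl ht₂
        · rintro rfl; exact hl ht₁
      have hxTn : xT ⬝ᵥ xT = ∑ l ∈ T, x l ^ 2 := by
        have := gr_dot_split T xT
        rw [this]
        have h0 : (fun l => if l ∈ T then (0 : F) else xT l) = 0 := by
          funext l
          by_cases hl : l ∈ T
          · simp [hl]
          · simp [hl, hxT]
        rw [h0, dotProduct_zero, add_zero]
        apply Finset.sum_congr rfl
        intro l hl
        rw [hxT]
        simp [hl]
      have hvn : v ⬝ᵥ v = ∑ l ∈ T, x l ^ 2 := by
        rw [← hy, hv]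
        simp only [dotProduct, Pi.add_apply, Pi.smul_apply, gr_e_apply, smul_eq_mul]
        rw [Finset.sum_eq_add t₁ t₂ h12]
        · simp [h12, h12.symm]
          ring
        · intro l _ hl
          rw [if_neg hl.1, if_neg hl.2]
          ring
        · intro hc'; exact absurd (Finset.mem_univ _) hc'
        · intro hc'; exact absurd (Finset.mem_univ _) hc'
      obtain ⟨g, hgM, hgx, hgfix⟩ := hw T hT3 xT hxTmem v hvmem (by rw [hxTn, hvn]) (by rw [hxTn]; exact hν)
      have hx'perp : ∀ u ∈ VT T, x' ⬝ᵥ u = 0 := by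
        intro u hu
        unfold dotProduct
        apply Finset.sum_eq_zero
        intro l _
        by_cases hl : l ∈ T
        · rw [hx']; simp [hl]
        · rw [hu l hl, mul_zero]
      have hgx' : toOG (stdQ κ F c) g x' = x' := hgfix x' hx'perp
      have hgxx : toOG (stdQ κ F c) g x = v + x' := by
        rw [hsplit, map_add, hgx, hgx']
      -- the norm of the image
      have hnorm : (v + x') ⬝ᵥ (v + x') = 1 := by
        have hvx' : v ⬝ᵥ x' = 0 := by
          rw [dotProduct_comm]; exact hx'perp v hvmem
        have hx'v : x' ⬝ᵥ v = 0 := hx'perp v hvmem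
        have hx'n : x' ⬝ᵥ x' = 1 - ∑ l ∈ T, x l ^ 2 := by
          have := gr_dot_split T x
          rw [hx1] at this
          rw [hx']
          linear_combination -this
        rw [add_dotProduct, dotProduct_add, dotProduct_add, hvn, hvx', hx'v, hx'n]
        ring
      -- the support of the image
      have hsupp : (supp (v + x')).card < n := by
        have hsub : supp (v + x') ⊆ (supp x \ T) ∪ {t₁, t₂} := by
          intro l hl
          rw [mem_supp] at hl
          rw [Finset.mem_union, Finset.mem_sdiff, mem_supp]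
          by_cases hlT : l ∈ T
          · right
            by_contra hne
            simp only [Finset.mem_insert, Finset.mem_singleton, not_or] at hne
            apply hl
            rw [Pi.add_apply, hx', hv]
            simp only [Pi.add_apply, Pi.smul_apply, gr_e_apply, smul_eq_mul, if_pos hlT, if_neg hne.1,
              if_neg hne.2]
            ring
          · left
            refine ⟨?_, hlT⟩
            intro h0
            apply hl
            rw [Pi.add_apply, hvmem l hlT, hx']
            simp [hlT, h0]
        have h1 := Finset.card_le_card hsub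
        have h2 := Finset.card_union_le (supp x \ T) {t₁, t₂}
        have h3 : (supp x \ T).card = (supp x).card - T.card := Finset.card_sdiff_of_subset hTs
        have h4 : ({t₁, t₂} : Finset κ).card ≤ 2 := Finset.card_le_two
        omega
      have hrt := ih _ hsupp (v + x') rfl hnorm
      have := hconj g⁻¹ (M.inv_mem hgM) (v + x') hrt
      rw [← hgxx, gr_toOG_inv] at this
      exact this
  intro x hx
  exact key _ x rfl hx

end Cfsg.Agent.Lib.Helper24.FrCLeaf
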