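import Mathlib
import Cfsg.Agent.Lib.Helper17.OSubDefs
import Cfsg.Agent.Lib.Helper15.QuadClass

/-!
S5659 leaf B1 (helper24): a rational isotropic vector orthogonal to five given vectors
(Chevalley-Warning on the `F₀`-kernel of `u ↦ (h (P u) (y i))ᵢ`, of dimension at least `n - 10`).
-/

set_option autoImplicit false
set_option linter.unusedSectionVars false
set_option linter.unusedVariables false

namespace Cfsg.Agent.Lib.Helper24.OSubLeaf
open Cfsg Matrix Cfsg.Agent.Lib.Helper5.SpMax
  Cfsg.Agent.Lib.Helper5.UForm Cfsg.Agent.Lib.Helper5.HermBridge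
  Cfsg.Agent.Lib.Helper5.SUGen Cfsg.Agent.Lib.Helper5.SUMax Cfsg.Agent.Lib.Helper5.USub
  Cfsg.Agent.Lib.Helper17.OSub

variable {F : Type*} [Field F] [Fintype F] {q n : ℕ}

/-- The `F₀`-linear parametrisation of the rational vectors. -/
noncomputable def pm (F₀ : Subfield F) (P : GL (Fin n) F) : (Fin n → F₀) →ₗ[F₀] (Fin n → F) where
  toFun u := (P : Matrix (Fin n) (Fin n) F) *ᵥ (fun i => (u i : F))
  map_add' u v := by
    rw [← Matrix.mulVec_add]
    congr 1
  map_smul' c u := by
    have : (fun i => (((c • u) i : F₀) : F)) = (c : F) • (fun i => (u i : F)) := by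
      funext i
      simp
    rw [this, Matrix.mulVec_smul]
    rfl

theorem pm_apply (F₀ : Subfield F) (P : GL (Fin n) F) (u : Fin n → F₀) :
    pm F₀ P u = (P : Matrix (Fin n) (Fin n) F) *ᵥ (fun i => (u i : F)) := rfl

theorem isRat_pm (F₀ : Subfield F) (P : GL (Fin n) F) (u : Fin n → F₀) : IsRat F₀ P (pm F₀ P u) :=
  isRat_mulVec (fun i => (u i).2)

theorem pm_injective (F₀ : Subfield F) (P : GL (Fin n) F) : Function.Injective (pm F₀ P) := by
  intro u v huv
  have h := congrArg (fun x => ((P⁻¹ : GL (Fin n) F) : Matrix (Fin n) (Fin n) F) *ᵥ x) huv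
  simp only [pm_apply, inv_mul_mulVec] at h
  funext i
  exact Subtype.ext (congrFun h i)

theorem finrank_eq_two (hF : Fintype.card F = q ^ 2) (F₀ : Subfield F) (hq : Nat.card F₀ = q) :
    Module.finrank F₀ F = 2 := by
  classical
  haveI : Fintype F₀ := Fintype.ofFinite F₀
  have h1 : Fintype.card F = Fintype.card F₀ ^ Module.finrank F₀ F := Module.card_eq_pow_finrank
  rw [hF, ← Nat.card_eq_fintype_card, hq] at h1
  have hq1 : 1 < q := by
    rw [← hq, Nat.card_eq_fintype_card]
    exact Fintype.one_lt_card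
  exact (Nat.pow_right_injective hq1 h1).symm

/-- The `F₀`-linear map `u ↦ (h (P u) (y i))ᵢ`. -/
noncomputable def Lmap (hF : Fintype.card F = q ^ 2) (F₀ : Subfield F) (P : GL (Fin n) F)
    (y : Fin 5 → (Fin n → F)) : (Fin n → F₀) →ₗ[F₀] (Fin 5 → F) where
  toFun u := fun i => Cfsg.hermForm n F q (pm F₀ P u) (y i)
  map_add' u v := by
    funext i
    have hf := herm_unitary (n := n) hF
    simp only [map_add, hf.add_left, Pi.add_apply]
  map_smul' c u := by
    funext i
    have hf := herm_unitary (n := n) hF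
    simp only [map_smul, RingHom.id_apply, Pi.smul_apply]
    exact hf.smul_left (c : F) _ _

section Rat
variable {hF : Fintype.card F = q ^ 2} {F₀ : Subfield F} {P : GL (Fin n) F}
  (S : Setup hF F₀ P)
include S

/-- The rational symmetric bilinear form `(u, v) ↦ h (P u) (P v)` with values in `F₀`. -/
noncomputable def ratForm : LinearMap.BilinForm F₀ (Fin n → F₀) :=
  LinearMap.mk₂ F₀
    (fun u v => (⟨Cfsg.hermForm n F q (pm F₀ P u) (pm F₀ P v),
      S.form _ _ (isRat_pm _ _ u) (isRat_pm _ _ v)⟩ : F₀))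
    (by
      intro u u' v
      apply Subtype.ext
      have hf := herm_unitary (n := n) hF
      simp only [map_add, hf.add_left, Subfield.coe_add])
    (by
      intro c u v
      apply Subtype.ext
      have hf := herm_unitary (n := n) hF
      simp only [map_smul, smul_eq_mul, Subfield.coe_mul]
      exact hf.smul_left (c : F) _ _)
    (by
      intro u v v'
      apply Subtype.ext
      have hf := herm_unitary (n := n) hF
      simp only [map_add, u_add_right hf, Subfield.coe_add])
    (by
      intro c u v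
      apply Subtype.ext
      have hf := herm_unitary (n := n) hF
      simp only [map_smul, smul_eq_mul, Subfield.coe_mul]
      have h1 := u_smul_right hf (c : F) (pm F₀ P u) (pm F₀ P v)
      rw [(S.fix_iff (c : F)).1 c.2] at h1
      exact h1)

theorem ratForm_apply (u v : Fin n → F₀) :
    ((ratForm S u v : F₀) : F) = Cfsg.hermForm n F q (pm F₀ P u) (pm F₀ P v) := rfl

theorem exists_sing_perp (hn : 13 ≤ n) (y : Fin 5 → (Fin n → F)) :
    ∃ z, RS q F₀ P z ∧ ∀ i, Cfsg.hermForm n F q z (y i) = 0 := by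
  have h2 : Module.finrank F₀ F = 2 := finrank_eq_two hF F₀ S.card
  have h10 : Module.finrank F₀ (Fin 5 → F) = 10 := by
    rw [Module.finrank_pi_fintype]
    simp [h2]
  have hrn := LinearMap.finrank_range_add_finrank_ker (Lmap hF F₀ P y)
  rw [Module.finrank_fin_fun] at hrn
  have hle : Module.finrank F₀ (LinearMap.range (Lmap hF F₀ P y)) ≤ 10 := by
    rw [← h10]
    exact Submodule.finrank_le _
  have h3 : 3 ≤ Module.finrank F₀ (LinearMap.ker (Lmap hF F₀ P y)) := by omega
  obtain ⟨e, heK, he0, hQe⟩ := Cfsg.Agent.Lib.Helper15.exists_singular_in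
    (LinearMap.BilinMap.toQuadraticMap (ratForm S)) (LinearMap.ker (Lmap hF F₀ P y)) h3
  refine ⟨pm F₀ P e, ⟨isRat_pm _ _ e, ?_, ?_⟩, ?_⟩
  · intro h0
    apply he0
    apply pm_injective F₀ P
    rw [h0, map_zero]
  · rw [LinearMap.BilinMap.toQuadraticMap_apply] at hQe
    have := congrArg (fun t : F₀ => (t : F)) hQe
    simpa [ratForm_apply] using this
  · intro i
    have := LinearMap.mem_ker.1 heK
    exact congrFun this i

end Rat

end Cfsg.Agent.Lib.Helper24.OSubLeaf
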