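import Cfsg.Agent.Lib.Helper24.SLMQ8Defs
import Cfsg.Agent.Lib.Helper14.SLMLines
import Cfsg.Agent.Lib.Helper22.SLMQ8G
import Cfsg.Agent.Lib.Helper9.SLMQ8M
import Cfsg.Agent.Lib.Helper9.SLMQ8E
import Cfsg.Agent.Lib.Helper12.SLMQ8N

/-!
# SLnMax stage 2, leaf Q8 `lines4_five` (S5781, `q = 5`): assembly (helper24)

The monomial group of four lines of `F_5^4`, intersected with `SL_4(5)`, normalises the symplectic-type group
`R = B (4 ∘ 2^{1+4}) B⁻¹` (`B` = matrix of a basis of the lines), and `R` satisfies `IsLinearSymplecticTypeData 2 R`.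
Leaves: block G (helper22), blocks M, E (helper9), block N (helper12); notes/SLnMax_Q8_leaves.lean.
-/

set_option autoImplicit false
set_option linter.unusedSectionVars false
set_option linter.unusedVariables false

namespace Cfsg.Agent.Lib.Helper24.SLMLeaf

open Cfsg.Geo Matrix Module Cfsg.Agent.Lib.Helper17.SLM Cfsg.Agent.Lib.Helper24.SLMQ8

variable {F : Type*} [Field F]

/-! ## Assemblies (helper24) -/

/-- E2. -/
theorem symplType_of_injective {H : Type*} [Group H] (ρ : G64 →* H) (hinj : Function.Injective ρ) :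
    IsPGroup 2 ρ.range ∧ (∀ A : Subgroup ρ.range, A.Characteristic → IsMulCommutative A → IsCyclic A) ∧
      Monoid.exponent ρ.range = 4 ∧ Nat.card ρ.range = 64 ∧ Nat.card (Subgroup.center ρ.range) = 4 := by
  let e : G64 ≃* ρ.range := MonoidHom.ofInjective hinj
  have hcard : Nat.card ρ.range = 64 := by rw [← Nat.card_congr e.toEquiv, Cfsg.Agent.Lib.Helper22.SLMQ8Leaf.card_G64]
  refine ⟨?_, ?_, ?_, hcard, ?_⟩
  · have : Fact (Nat.Prime 2) := ⟨Nat.prime_two⟩
    exact IsPGroup.of_card (n := 6) (by rw [hcard]; norm_num)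
  · apply Cfsg.Agent.Lib.Helper9.SLMQ8Leaf.charAbelianCyclic_of_mulEquiv e
    intro A hA hc
    have hle := Cfsg.Agent.Lib.Helper22.SLMQ8Leaf.char_le_center_G64 A hA hc
    have := Cfsg.Agent.Lib.Helper22.SLMQ8Leaf.isCyclic_center_G64
    exact isCyclic_of_injective (Subgroup.inclusion hle) (Subgroup.inclusion_injective hle)
  · rw [← Cfsg.Agent.Lib.Helper22.SLMQ8Leaf.exponent_G64]; exact (Monoid.exponent_eq_of_mulEquiv e).symm
  · rw [← Cfsg.Agent.Lib.Helper22.SLMQ8Leaf.card_center_G64]; exact Nat.card_congr (Subgroup.centerCongr e).symm.toEquiv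

/-- E4. -/
theorem symplData_of_hom [Fintype F] (hq : Fintype.card F = 5) (ρ : G64 →* GL (Fin 4) F)
    (hinj : Function.Injective ρ) (hirr : ActsAbsolutelyIrreducibly (matrixSet ρ.range)) :
    IsLinearSymplecticTypeData 2 ρ.range := by
  obtain ⟨hp, hch, hexp, hcard, hcen⟩ := symplType_of_injective ρ hinj
  refine ⟨⟨Nat.prime_two, hp, hch, by rw [hexp]; rfl⟩, hirr, 5, 1, by norm_num, ?_,
    Or.inr (Or.inl ⟨rfl, rfl, hcen, by simp, 2, by rw [hcard]; norm_num⟩)⟩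
  rw [hcen]; exact Cfsg.Agent.Lib.Helper9.SLMQ8Leaf.minimalField_five hq



/-- translation by `a` as a permutation -/
def vxEquiv (a : Fin 4) : Equiv.Perm (Fin 4) :=
  ⟨fun y => vx y a, fun y => vx y a, fun y => vx_vx_cancel y a, fun y => vx_vx_cancel y a⟩

theorem inv_mono (g : GL (Fin 4) F) (σ : Equiv.Perm (Fin 4)) (c : Fin 4 → F) (hc : ∀ y, c y ≠ 0)
    (hg : (g : Matrix (Fin 4) (Fin 4) F) = mono σ c) :
    ((g⁻¹ : GL (Fin 4) F) : Matrix (Fin 4) (Fin 4) F) = mono σ.symm (fun z => (c (σ.symm z))⁻¹) := by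
  apply Units.inv_eq_of_mul_eq_one_right
  rw [hg, mono_mul, ← mono_id_one]
  congr 1
  · funext z; simp
  · funext z; simp [hc]

theorem conj_mem_R0 [Fintype F] (hq : Fintype.card F = 5) (i : F) (hi : i * i = -1) (g : GL (Fin 4) F)
    (σ : Equiv.Perm (Fin 4)) (c : Fin 4 → F) (hc : ∀ y, c y ≠ 0)
    (hg : (g : Matrix (Fin 4) (Fin 4) F) = mono σ c)
    (hdet : (g : Matrix (Fin 4) (Fin 4) F).det = 1) (h : GL (Fin 4) F) (hh : h ∈ R0 i hi) :
    g * h * g⁻¹ ∈ R0 i hi := by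
  obtain ⟨-, -, h4⟩ := Cfsg.Agent.Lib.Helper9.SLMQ8Leaf.five_facts (F := F) hq
  obtain ⟨p, rfl⟩ := hh
  obtain ⟨a', ha'⟩ := Cfsg.Agent.Lib.Helper12.SLMQ8Leaf.klein_normal σ p.a
  obtain ⟨hW1, hW2, hW3⟩ := Cfsg.Agent.Lib.Helper12.SLMQ8Leaf.Wc_props i hi p
  set d : Fin 4 → F := fun z => c (vx (σ.symm z) p.a) * Wc i p (σ.symm z) * (c (σ.symm z))⁻¹ with hd
  have hmat : ((g * WGL i hi p * g⁻¹ : GL (Fin 4) F) : Matrix (Fin 4) (Fin 4) F) =
      mono (fun z => vx z a') d := by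
    rw [Units.val_mul, Units.val_mul, inv_mono g σ c hc hg, hg, WGL_val]
    unfold Wm
    rw [mono_mul, mono_mul]
    congr 1
    funext z
    exact ha' z
  have hs : ∀ y, (c y * c y) * (c y * c y) = 1 := fun y => by
    have := h4 (c y) (hc y); rw [← this]; ring
  have hprod : ∏ y, (c y * c y) = 1 := by
    rw [Finset.prod_mul_distrib, ← Cfsg.Agent.Lib.Helper12.SLMQ8Leaf.det_mono_sq σ c, ← hg, hdet, mul_one]
  have hcos := Cfsg.Agent.Lib.Helper12.SLMQ8Leaf.coset_prod (fun y => c y * c y) hs hprod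
  have key : ∀ z, d z * d z = (c p.a * c p.a) * (c 0 * c 0) * (Wc i p 0 * Wc i p 0) := by
    intro z
    have e1 := hcos p.a (σ.symm z)
    have e2 := hs (σ.symm z)
    have e3 := hW1 (σ.symm z)
    have hne := hc (σ.symm z)
    have e4 : (c (σ.symm z))⁻¹ * (c (σ.symm z))⁻¹ = c (σ.symm z) * c (σ.symm z) := by
      field_simp
      linear_combination (-1 : F) * e2
    simp only [hd]
    calc c (vx (σ.symm z) p.a) * Wc i p (σ.symm z) * (c (σ.symm z))⁻¹ *
          (c (vx (σ.symm z) p.a) * Wc i p (σ.symm z) * (c (σ.symm z))⁻¹)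
        = (c (vx (σ.symm z) p.a) * c (vx (σ.symm z) p.a)) * ((c (σ.symm z))⁻¹ * (c (σ.symm z))⁻¹) *
          (Wc i p (σ.symm z) * Wc i p (σ.symm z)) := by ring
      _ = _ := by
        rw [e4, e3, e1]
  have h1 : ∀ z, d z * d z = d 0 * d 0 := fun z => by rw [key z, key 0]
  have h2 : ∏ z, d z = 1 := by
    rw [← Equiv.prod_comp σ d]
    simp only [hd, Equiv.symm_apply_apply]
    rw [Finset.prod_mul_distrib, Finset.prod_mul_distrib, hW2, mul_one, Finset.prod_inv_distrib]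
    have : ∏ y, c (vx y p.a) = ∏ y, c y := Equiv.prod_comp (vxEquiv p.a) c
    rw [this]
    exact mul_inv_cancel₀ (Finset.prod_ne_zero_iff.mpr fun y _ => hc y)
  have hW4 : ∀ y, Wc i p y ^ 4 = 1 := by
    intro y
    have : Wc i p y ^ 4 = (Wc i p y * Wc i p y) * (Wc i p y * Wc i p y) := by ring
    rw [this, hW1 y, ← hW3]; ring
  have h3 : d 0 ^ 4 = 1 := by
    simp only [hd]
    rw [mul_pow, mul_pow, inv_pow, h4 _ (hc _), h4 _ (hc _), hW4]; simp
  obtain ⟨k, b, hkb⟩ := Cfsg.Agent.Lib.Helper12.SLMQ8Leaf.exists_Wc_eq i hi d h1 h2 h3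
  refine ⟨⟨k, a', b⟩, Units.ext ?_⟩
  rw [hmat, WGL_val]
  unfold Wm
  rw [hkb a']

/-- N6. -/
theorem mono_mem_normalizer [Fintype F] (hq : Fintype.card F = 5) (i : F) (hi : i * i = -1) (g : GL (Fin 4) F)
    (σ : Equiv.Perm (Fin 4)) (c : Fin 4 → F) (hc : ∀ y, c y ≠ 0)
    (hg : (g : Matrix (Fin 4) (Fin 4) F) = mono σ c)
    (hdet : (g : Matrix (Fin 4) (Fin 4) F).det = 1) :
    g ∈ Subgroup.normalizer ((R0 i hi : Subgroup (GL (Fin 4) F)) : Set (GL (Fin 4) F)) := by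
  rw [Subgroup.mem_normalizer_iff]
  intro h
  constructor
  · exact conj_mem_R0 hq i hi g σ c hc hg hdet h
  · intro hh
    have hginv := inv_mono g σ c hc hg
    have hdet' : ((g⁻¹ : GL (Fin 4) F) : Matrix (Fin 4) (Fin 4) F).det = 1 := by
      have h1 : ((g⁻¹ : GL (Fin 4) F) : Matrix (Fin 4) (Fin 4) F).det * (g : Matrix (Fin 4) (Fin 4) F).det = 1 := by
        rw [← Matrix.det_mul, ← Units.val_mul, inv_mul_cancel, Units.val_one, Matrix.det_one]
      rwa [hdet, mul_one] at h1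
    have := conj_mem_R0 hq i hi g⁻¹ σ.symm _ (fun z => inv_ne_zero (hc _)) hginv hdet' _ hh
    simpa [mul_assoc] using this



/-- conjugation `X ↦ B X B⁻¹` maps a spanning set to a spanning set -/
theorem span_conj_eq_top {n : ℕ} (B : GL (Fin n) F) (S : Set (Matrix (Fin n) (Fin n) F))
    (h : Submodule.span F S = ⊤) :
    Submodule.span F ((fun X => (B : Matrix (Fin n) (Fin n) F) * X * ((B⁻¹ : GL (Fin n) F) : Matrix (Fin n) (Fin n) F)) '' S) = ⊤ := by
  rw [eq_top_iff]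
  intro X _
  have hX : ((B⁻¹ : GL (Fin n) F) : Matrix (Fin n) (Fin n) F) * X * (B : Matrix (Fin n) (Fin n) F) ∈ Submodule.span F S := by
    rw [h]; trivial
  have key : ∀ Y ∈ Submodule.span F S, (B : Matrix (Fin n) (Fin n) F) * Y * ((B⁻¹ : GL (Fin n) F) : Matrix (Fin n) (Fin n) F) ∈
      Submodule.span F ((fun X => (B : Matrix (Fin n) (Fin n) F) * X * ((B⁻¹ : GL (Fin n) F) : Matrix (Fin n) (Fin n) F)) '' S) := by
    intro Y hY
    induction hY using Submodule.span_induction with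
    | mem Y hY => exact Submodule.subset_span ⟨Y, hY, rfl⟩
    | zero => simp
    | add Y Z _ _ hY hZ => rw [Matrix.mul_add, Matrix.add_mul]; exact Submodule.add_mem _ hY hZ
    | smul c Y _ hY => rw [Matrix.mul_smul, Matrix.smul_mul]; exact Submodule.smul_mem _ c hY
  have := key _ hX
  have e : (B : Matrix (Fin n) (Fin n) F) * (((B⁻¹ : GL (Fin n) F) : Matrix (Fin n) (Fin n) F) * X * (B : Matrix (Fin n) (Fin n) F)) *
      ((B⁻¹ : GL (Fin n) F) : Matrix (Fin n) (Fin n) F) = X := by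
    have h1 : (B : Matrix (Fin n) (Fin n) F) * ((B⁻¹ : GL (Fin n) F) : Matrix (Fin n) (Fin n) F) = 1 := by
      rw [← Units.val_mul, mul_inv_cancel, Units.val_one]
    rw [← Matrix.mul_assoc, ← Matrix.mul_assoc, h1, Matrix.one_mul, Matrix.mul_assoc, h1, Matrix.mul_one]
  rwa [e] at this

/-- FINAL: Q8. -/
theorem lines4_five [Fintype F] (hq : Fintype.card F = 5) {t : ℕ} {D : Fin t → Submodule F (Fin 4 → F)}
    (hD : IsMDecomposition 1 D) :
    ∃ R : Subgroup (GL (Fin 4) F), IsLinearSymplecticTypeData 2 R ∧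
      decompositionStabilizer D ⊓ specialLinear (Fin 4) F ≤ subgroupNormalizer R := by
  classical
  obtain ⟨b, hb⟩ := Cfsg.Agent.Lib.Helper14.SLMLeaf.exists_lines_basis hD
  obtain rfl : t = 4 := Cfsg.Agent.Lib.Helper14.SLMLeaf.lines_card b
  obtain ⟨hi, h2, h4⟩ := Cfsg.Agent.Lib.Helper9.SLMQ8Leaf.five_facts (F := F) hq
  -- the matrix of the basis
  have hinvB : Invertible ((Pi.basisFun F (Fin 4)).toMatrix b) := (Pi.basisFun F (Fin 4)).invertibleToMatrix b
  let B : GL (Fin 4) F := unitOfInvertible ((Pi.basisFun F (Fin 4)).toMatrix b)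
  have hBcol : ∀ y, (B : Matrix (Fin 4) (Fin 4) F) *ᵥ Pi.single y 1 = b y := by
    intro y
    ext x
    rw [Matrix.mulVec_single_one]
    show (Pi.basisFun F (Fin 4)).toMatrix b x y = b y x
    rw [Basis.toMatrix_apply, Pi.basisFun_repr]
  let ρ : G64 →* GL (Fin 4) F := (MulAut.conj B).toMonoidHom.comp (WGL 2 hi)
  have hρ : ∀ p, ρ p = B * WGL 2 hi p * B⁻¹ := fun p => rfl
  have hinj : Function.Injective ρ := by
    intro p q hpq
    have h1 : WGL 2 hi p = WGL 2 hi q := (MulAut.conj B).injective hpq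
    exact Cfsg.Agent.Lib.Helper9.SLMQ8Leaf.Wm_injective 2 hi h2 (congrArg Units.val h1)
  have hset : matrixSet ρ.range =
      (fun X => (B : Matrix (Fin 4) (Fin 4) F) * X * ((B⁻¹ : GL (Fin 4) F) : Matrix (Fin 4) (Fin 4) F)) ''
        Set.range (Wm (2 : F)) := by
    ext X
    constructor
    · rintro ⟨g, ⟨p, rfl⟩, rfl⟩
      exact ⟨Wm 2 p, ⟨p, rfl⟩, rfl⟩
    · rintro ⟨_, ⟨p, rfl⟩, rfl⟩
      exact ⟨ρ p, ⟨p, rfl⟩, rfl⟩
  have hirr : ActsAbsolutelyIrreducibly (matrixSet ρ.range) := by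
    apply Cfsg.Agent.Lib.Helper9.SLMQ8Leaf.absIrred_of_span
    rw [hset]
    exact span_conj_eq_top B _ (Cfsg.Agent.Lib.Helper9.SLMQ8Leaf.span_Wm 2 hi h2)
  refine ⟨ρ.range, symplData_of_hom hq ρ hinj hirr, ?_⟩
  rintro g ⟨hgD, hgS⟩
  obtain ⟨σ, c, hc, hgb⟩ := Cfsg.Agent.Lib.Helper14.SLMLeaf.stab_monomial b hb hgD
  -- g₀ = B⁻¹ g B is monomial
  have hg0 : ((B⁻¹ * g * B : GL (Fin 4) F) : Matrix (Fin 4) (Fin 4) F) = mono σ c := by
    ext x y
    have h1 : ((B⁻¹ * g * B : GL (Fin 4) F) : Matrix (Fin 4) (Fin 4) F) *ᵥ Pi.single y 1 = c y • Pi.single (σ y) 1 := by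
      rw [Units.val_mul, Units.val_mul, ← Matrix.mulVec_mulVec, ← Matrix.mulVec_mulVec, hBcol, hgb, Matrix.mulVec_smul,
        ← hBcol (σ y), Matrix.mulVec_mulVec, ← Units.val_mul, inv_mul_cancel, Units.val_one, Matrix.one_mulVec]
    have h2' := congrFun h1 x
    rw [Matrix.mulVec_single_one] at h2'
    rw [mono_apply]
    simpa [Pi.single_apply, eq_comm] using h2'
  have hdet : ((B⁻¹ * g * B : GL (Fin 4) F) : Matrix (Fin 4) (Fin 4) F).det = 1 := by
    have hg1 : (g : Matrix (Fin 4) (Fin 4) F).det = 1 := by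
      have h' : Matrix.GeneralLinearGroup.det g = 1 := hgS
      simpa using congrArg Units.val h'
    rw [Units.val_mul, Units.val_mul, Matrix.det_units_conj', hg1]
  have hnorm := mono_mem_normalizer hq 2 hi (B⁻¹ * g * B) σ c hc hg0 hdet
  -- transport to `ρ.range = (R0).map (conj B)`
  have hrange : ρ.range = (R0 (2 : F) hi).map (MulAut.conj B).toMonoidHom := by
    rw [R0, MonoidHom.map_range]
  have hmem : g ∈ (Subgroup.normalizer ((R0 (2 : F) hi : Subgroup (GL (Fin 4) F)) : Set (GL (Fin 4) F))).map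
      (MulAut.conj B).toMonoidHom := by
    refine ⟨B⁻¹ * g * B, hnorm, ?_⟩
    show B * (B⁻¹ * g * B) * B⁻¹ = g
    group
  have := Subgroup.le_normalizer_map (MulAut.conj B).toMonoidHom hmem
  rw [subgroupNormalizer, hrange]
  exact this

end Cfsg.Agent.Lib.Helper24.SLMLeaf
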