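import Mathlib
import Cfsg.Agent.Lib.Helper27.GGDefs
import Cfsg.Agent.Lib.Helper6.BNRedB
import Cfsg.Agent.Lib.Helper6.ChevStX1

/-!
S2318, leaf C1 (helper27's plan `notes/S2318_leaves.lean`): `U = U_{s_i} X_{α_i}`.
-/

set_option autoImplicit false

namespace Cfsg.Agent.Lib.Helper24.GG

open Cfsg Cfsg.Agent.Lib.Helper3.BN Cfsg.Agent.Lib.Helper3.WordLen Cfsg.Agent.Lib.Helper6.BNSt
open Cfsg.Agent.Lib.Helper6.CoxRed Cfsg.Agent.Lib.Helper27.GG
open scoped Pointwise

section C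
open Cfsg.Lie Cfsg.Agent.Lib.Helper7 Cfsg.Agent.Lib.Helper6.ChevSt Cfsg.Agent.Lib.Helper6.ChevStX1

variable (D : ChevalleyDatum) (hD : D ∈ [chevG2, chevB2, chevD4, chevF4, chevE6, chevE7, chevE8])
variable (F : Type*) [Field F]

/-- the root subgroup of the `i`-th fundamental root inside `D.group F` -/
abbrev Xc1 (i : ℕ) : Subgroup ↥(D.group F) := (D.rootSubgroup F (D.simple i)).subgroupOf (D.group F)

/-- `U_{s_i} = ⟨X_r : r > 0, r ≠ α_i⟩` inside `D.group F` -/
abbrev Usc1 (i : ℕ) : Subgroup ↥(D.group F) := (upSubgroup D F i).subgroupOf (D.group F)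

variable [Fintype F]
include hD

/-- **C1** (`up_sup_rootSubgroup`, `rootSubgroup_le_normalizer_up`) -/
theorem chev_hXU (i : Fin D.rank) : ∀ u ∈ Uc D F, ∃ y ∈ Usc1 D F i, ∃ x ∈ Xc1 D F i, u = y * x := by
  intro u hu
  have hi : (i : ℕ) < D.rank := i.2
  rw [Subgroup.mem_subgroupOf] at hu
  have hXn : D.rootSubgroup F (D.simple i) ≤
      Subgroup.normalizer (upSubgroup D F i : Set (GL D.Idx F)) :=
    le_trans le_sup_left (rootSubgroup_le_normalizer_up D hD F i hi)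
  have hset := Subgroup.coe_mul_of_right_le_normalizer_left (upSubgroup D F i)
    (D.rootSubgroup F (D.simple i)) hXn
  rw [up_sup_rootSubgroup D hD F i hi] at hset
  have hu' : (u : GL D.Idx F) ∈ ((D.posUnipotent F : Subgroup (GL D.Idx F)) : Set (GL D.Idx F)) := hu
  rw [hset] at hu'
  obtain ⟨y, hy, x, hx, hyx⟩ := hu'
  have hyU : y ∈ D.posUnipotent F := by
    rw [← up_sup_rootSubgroup D hD F i hi]; exact Subgroup.mem_sup_left hy
  have hxU : x ∈ D.posUnipotent F := by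
    rw [← up_sup_rootSubgroup D hD F i hi]; exact Subgroup.mem_sup_right hx
  have hyG : y ∈ D.group F := posUnipotent_le_group D hD F hyU
  have hxG : x ∈ D.group F := posUnipotent_le_group D hD F hxU
  refine ⟨⟨y, hyG⟩, ?_, ⟨x, hxG⟩, ?_, ?_⟩
  · rw [Subgroup.mem_subgroupOf]; exact hy
  · rw [Subgroup.mem_subgroupOf]; exact hx
  · apply Subtype.ext
    rw [Subgroup.coe_mul]
    exact hyx.symm

end C

end Cfsg.Agent.Lib.Helper24.GG
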