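import Mathlib
import Cfsg.Agent.Lib.Helper27.GGDefs
import Cfsg.Agent.Lib.Helper6.BNRedB
import Cfsg.Agent.Lib.Helper6.ChevStX1
import Cfsg.Agent.Lib.Helper7.ChevCanon
import Cfsg.Agent.Lib.Helper7.ChevFund

/-!
S2318, leaf C2 (helper27's plan `notes/S2318_leaves.lean`): `X_{α_i} ∩ U_{s_i} = 1`.  Conjugation by `n_i` sends `X_{α_i}` into
`X_{-α_i} ≤ V` and keeps `U_{s_i} ≤ U`, and `U ∩ V = 1`.
-/

set_option autoImplicit false

namespace Cfsg.Agent.Lib.Helper24.GG

open Cfsg Cfsg.Agent.Lib.Helper3.BN Cfsg.Agent.Lib.Helper3.WordLen Cfsg.Agent.Lib.Helper6.BNSt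
open Cfsg.Agent.Lib.Helper6.CoxRed Cfsg.Agent.Lib.Helper27.GG

section C
open Cfsg.Lie Cfsg.Agent.Lib.Helper7 Cfsg.Agent.Lib.Helper6.ChevSt Cfsg.Agent.Lib.Helper6.ChevStX1

variable (D : ChevalleyDatum) (hD : D ∈ [chevG2, chevB2, chevD4, chevF4, chevE6, chevE7, chevE8])
variable (F : Type*) [Field F]

/-- the root subgroup of the `i`-th fundamental root inside `D.group F` -/
abbrev Xc2 (i : ℕ) : Subgroup ↥(D.group F) := (D.rootSubgroup F (D.simple i)).subgroupOf (D.group F)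

/-- `U_{s_i} = ⟨X_r : r > 0, r ≠ α_i⟩` inside `D.group F` -/
abbrev Usc2 (i : ℕ) : Subgroup ↥(D.group F) := (upSubgroup D F i).subgroupOf (D.group F)

include hD in
/-- the GL version -/
theorem rootSubgroup_inf_up (i : ℕ) (hi : i < D.rank) :
    D.rootSubgroup F (D.simple i) ⊓ upSubgroup D F i = ⊥ := by
  rw [Subgroup.eq_bot_iff_forall]
  intro g hg
  rw [Subgroup.mem_inf] at hg
  obtain ⟨hX, hU⟩ := hg
  obtain ⟨t, rfl⟩ := (mem_rootSubgroup_iff D hD F _ _).mp hX
  have hs : D.simple i < D.nroots := (fundFacts_of_mem D hD i hi).hp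
  have hconj := nFund_conj_xGL D hD F i hi (D.simple i) hs t
  rw [reflectRoot_simple] at hconj
  have hneg : D.IsNegRoot (D.neg (D.simple i)) := (upFacts_of_mem D hD i hi).negSimple
  have h1 : nFund D hD F i * xGL D hD F (D.simple i) t * (nFund D hD F i)⁻¹ ∈ D.negUnipotent F := by
    rw [hconj]; exact xGL_neg_mem D hD F _ hneg _
  have h2 : nFund D hD F i * xGL D hD F (D.simple i) t * (nFund D hD F i)⁻¹ ∈ D.posUnipotent F := by
    apply up_le_posUnipotent D hD F i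
    exact (Subgroup.mem_normalizer_iff.mp (nFund_mem_normalizer_up D hD F i hi) _).mp hU
  have h3 : nFund D hD F i * xGL D hD F (D.simple i) t * (nFund D hD F i)⁻¹ ∈
      D.posUnipotent F ⊓ D.negUnipotent F := Subgroup.mem_inf.mpr ⟨h2, h1⟩
  rw [posUnipotent_inf_negUnipotent D hD F, Subgroup.mem_bot] at h3
  have h4 : xGL D hD F (D.simple i) t =
      (nFund D hD F i)⁻¹ * (nFund D hD F i * xGL D hD F (D.simple i) t * (nFund D hD F i)⁻¹) *
        nFund D hD F i := by group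
  rw [h4, h3]; group

variable [Fintype F]
include hD

/-- **C2** (unique factorisation in `U`) -/
theorem chev_hXUs (i : Fin D.rank) : Xc2 D F i ⊓ Usc2 D F i = ⊥ := by
  rw [Subgroup.eq_bot_iff_forall]
  intro g hg
  rw [Subgroup.mem_inf, Subgroup.mem_subgroupOf, Subgroup.mem_subgroupOf] at hg
  have h1 : (g : GL D.Idx F) ∈ D.rootSubgroup F (D.simple i) ⊓ upSubgroup D F i :=
    Subgroup.mem_inf.mpr hg
  rw [rootSubgroup_inf_up D hD F i i.2, Subgroup.mem_bot] at h1
  exact Subtype.ext h1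

end C

end Cfsg.Agent.Lib.Helper24.GG
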