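import Mathlib
import Cfsg.Agent.Lib.Helper27.GGDefs
import Cfsg.Agent.Lib.Helper6.BNRedB
import Cfsg.Agent.Lib.Helper6.ChevStX1

/-!
S2318, leaf C4 (helper27's plan `notes/S2318_leaves.lean`): the fundamental reflection `n_i` conjugates `U_{s_i}` into `U`.
-/

set_option autoImplicit false

namespace Cfsg.Agent.Lib.Helper24.GG

open Cfsg Cfsg.Agent.Lib.Helper3.BN Cfsg.Agent.Lib.Helper3.WordLen Cfsg.Agent.Lib.Helper6.BNSt
open Cfsg.Agent.Lib.Helper6.CoxRed Cfsg.Agent.Lib.Helper27.GG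

section C
open Cfsg.Lie Cfsg.Agent.Lib.Helper7 Cfsg.Agent.Lib.Helper6.ChevSt Cfsg.Agent.Lib.Helper6.ChevStX1

variable (D : ChevalleyDatum) (hD : D ∈ [chevG2, chevB2, chevD4, chevF4, chevE6, chevE7, chevE8])
variable (F : Type*) [Field F]

/-- the root subgroup of the `i`-th fundamental root inside `D.group F` -/
abbrev Xc (i : ℕ) : Subgroup ↥(D.group F) := (D.rootSubgroup F (D.simple i)).subgroupOf (D.group F)

/-- `U_{s_i} = ⟨X_r : r > 0, r ≠ α_i⟩` inside `D.group F` -/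
abbrev Usc (i : ℕ) : Subgroup ↥(D.group F) := (upSubgroup D F i).subgroupOf (D.group F)

variable [Fintype F]
include hD

/-- **C4** (`nFund_mem_normalizer_up`) -/
theorem chev_hsUs (i : Fin D.rank) : ∀ y ∈ Usc D F i,
    sEl D hD F i * y * (sEl D hD F i)⁻¹ ∈ Uc D F := by
  intro y hy
  have hi : (i : ℕ) < D.rank := i.2
  rw [Subgroup.mem_subgroupOf] at hy ⊢
  have hn := nFund_mem_normalizer_up D hD F i hi
  have h1 : nFund D hD F i * (y : GL D.Idx F) * (nFund D hD F i)⁻¹ ∈ upSubgroup D F i :=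
    (Subgroup.mem_normalizer_iff.mp hn _).mp hy
  have h2 : upSubgroup D F i ≤ D.posUnipotent F := by
    rw [← up_sup_rootSubgroup D hD F i hi]
    exact le_sup_left
  have e : ((sEl D hD F i * y * (sEl D hD F i)⁻¹ : ↥(D.group F)) : GL D.Idx F) =
      nFund D hD F i * (y : GL D.Idx F) * (nFund D hD F i)⁻¹ := by
    rw [Subgroup.coe_mul, Subgroup.coe_mul, Subgroup.coe_inv, sEl_coe D hD F i hi]
  rw [e]
  exact h2 h1

end C

end Cfsg.Agent.Lib.Helper24.GG
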