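import Mathlib
import Cfsg.Agent.Lib.Helper24.AschA7Main

/-!
# The symplectic-type case [NIL] when all scalars of `N` have square one (orthogonal / symplectic isometry groups), helper24

Generic core for S5673 (`Ω_(2m+1)(q)`, planner helper18) and S5662: `N` minimal non-scalar `H`-normal with `[N,N] ≤ Z`, `QP H`, and
every scalar of `N` of square one.  Then `|Z(N)| = 2`, `N` is a `2`-group, `|N| = 2^(1+2k)`, `n = 2^k`, `x⁴ = 1`, `p` odd.
In particular `n` odd (`n > 1`) is impossible.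
-/

set_option autoImplicit false
set_option linter.unusedSectionVars false
set_option linter.unusedVariables false

namespace Cfsg.Agent.Lib.Helper24.AschOLeaf
open Matrix Cfsg Cfsg.Geo Cfsg.Agent.Lib.Helper20.Asch Cfsg.Agent.Lib.Helper24.AschA7
open scoped Kronecker commutatorElement
open Cfsg.Agent.Lib.Helper24.AschA7Leaf Cfsg.Agent.Lib.Helper12.AschLeaf Cfsg.Agent.Lib.Helper4.AschLeaf
  Cfsg.Agent.Lib.Helper4.AschA7Leaf Cfsg.Agent.Lib.Helper15.AschA7Leaf
  Cfsg.Agent.Lib.Helper27.AschA7Leaf Cfsg.Agent.Lib.Helper14.AschA7Leaf Cfsg.Agent.Lib.Helper24.AschLeaf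

variable {F : Type*} [Field F] [Fintype F] {n : ℕ} {H N : Subgroup (GL (Fin n) F)}

/-- the centre has order two when all scalars of `N` have square one -/
theorem card_center_eq_two_of_sq (hsq : ∀ x ∈ N, x ∈ scalars (Fin n) F → x * x = 1) (habs : AbsIrr N) (hcm : CM N) :
    Nat.card (Subgroup.center N) = 2 := by
  have hsq' : ∀ z : Subgroup.center N, z * z = 1 := by
    intro z
    have hzs : ((z : N) : GL (Fin n) F) ∈ scalars (Fin n) F := (mem_center_iff_scalar habs (z : N)).1 z.2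
    have h1 := hsq _ (z : N).2 hzs
    apply Subtype.ext
    apply Subtype.ext
    exact h1
  have := hcm.center_cyclic
  obtain ⟨g, hg⟩ := IsCyclic.exists_generator (α := Subgroup.center N)
  have hcard : orderOf g = Nat.card (Subgroup.center N) := orderOf_eq_card_of_forall_mem_zpowers hg
  have hdvd : orderOf g ∣ 2 := orderOf_dvd_of_pow_eq_one (by rw [pow_two]; exact hsq' g)
  rcases (Nat.dvd_prime Nat.prime_two).1 hdvd with h1 | h2
  · exfalso
    obtain ⟨x, y, hxy⟩ := hcm.nonab
    have hmem : (⟨⁅x, y⁆, hcm.comm_central x y⟩ : Subgroup.center N) ∈ Subgroup.zpowers g := hg _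
    rw [orderOf_eq_one_iff] at h1
    rw [h1, Subgroup.zpowers_one_eq_bot, Subgroup.mem_bot] at hmem
    exact hxy (congrArg Subtype.val hmem)
  · rw [← hcard, h2]

/-- the structure of `N` when all its scalars have square one: `N` is absolutely irreducible, of symplectic type for the prime
`2`, `|Z(N)| = 2`, `|N| = 2^(1+2k)`, `n = 2^k`, and the characteristic is odd -/
theorem structure_of_nilpotent_sq (hn : 0 < n) (hsq : ∀ x ∈ N, x ∈ scalars (Fin n) F → x * x = 1)
    (hqp : QP H) (hN : N ≤ H)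
    (hnorm : NormBy H N) (hns : ¬ N ≤ scalars (Fin n) F)
    (hmin : ∀ M : Subgroup (GL (Fin n) F), M ≤ N → NormBy H M → M = N ∨ M ≤ scalars (Fin n) F)
    (hcomm : ⁅N, N⁆ ≤ scalars (Fin n) F) :
    AbsIrr N ∧ IsSymplecticTypeGroup 2 N ∧ Nat.card (Subgroup.center N) = 2 ∧ (2 : F) ≠ 0 ∧
      ∃ k : ℕ, 1 ≤ k ∧ Nat.card N = 2 ^ (1 + 2 * k) ∧ n = 2 ^ k := by
  have habs : AbsIrr N := (hqp N hN hnorm).resolve_left hns
  have hcm : CM N := cm_of_ctx habs hN hnorm hns hmin hcomm
  obtain ⟨r, hr, hpg⟩ := cm_exists_prime hcm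
  obtain ⟨p, hchar⟩ := CharP.exists F
  obtain ⟨e, hp, hcardF⟩ := FiniteField.card F p
  have hrp : r ≠ p := prime_ne_char habs.1 hns hr hchar hpg
  have hpow := cm_pow_mem_center hcm hr hpg
  have hcp := cm_comm_pow hcm.comm_central hpow
  have hZ2 := card_center_eq_two_of_sq hsq habs hcm
  have hexp : ∀ x : N, x ^ (r * Nat.gcd 2 r) = 1 := by
    intro x
    by_cases h2 : r = 2
    · subst h2
      exact cm_pow_four hcm hpg hpow hcp x
    · have hg : Nat.gcd 2 r = 1 := by
        rcases Nat.Prime.eq_one_or_self_of_dvd Nat.prime_two (Nat.gcd 2 r) (Nat.gcd_dvd_left 2 r) with h | h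
        · exact h
        · exfalso
          have h3 : 2 ∣ r := h ▸ Nat.gcd_dvd_right 2 r
          exact h2 ((Nat.prime_dvd_prime_iff_eq Nat.prime_two hr).1 h3).symm
      rw [hg, mul_one]
      exact cm_pow_eq_one_odd hcm hr h2 hpg hpow hcp x
  obtain ⟨hzo, -⟩ := cm_card_center hcm hr hpg hexp
  have hr2 : r = 2 := by
    by_contra hne
    exact hne ((hzo hne).symm.trans hZ2)
  subst hr2
  obtain ⟨k, hk1, hcardN⟩ := cm_card hcm hr hpg hcp
  have hsqm := card_eq_sq_mul hn habs (burnside habs) hcomm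
  have hst := symplecticType_of_cm hcm hr hpg hexp
  have hnn : n * n = 2 ^ (2 * k) := by
    have h1 : n * n * Nat.card (Subgroup.center N) = 2 ^ (2 * k) * Nat.card (Subgroup.center N) := by
      rw [← hsqm, hcardN]
    exact Nat.eq_of_mul_eq_mul_right Nat.card_pos h1
  have hnk : n = 2 ^ k := by
    have h1 : n * n = 2 ^ k * 2 ^ k := by rw [hnn, two_mul, pow_add]
    exact Nat.mul_self_inj.1 h1
  have h2F : (2 : F) ≠ 0 := by
    intro h0
    have : ((2 : ℕ) : F) = 0 := by exact_mod_cast h0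
    rw [CharP.cast_eq_zero_iff F p] at this
    exact hrp ((Nat.prime_dvd_prime_iff_eq hp Nat.prime_two).1 this).symm
  refine ⟨habs, hst, hZ2, h2F, k, hk1, ?_, hnk⟩
  rw [hcardN, hZ2, pow_add, pow_one, mul_comm]

/-- in odd dimension `n > 1` the symplectic-type case does not occur when all scalars of `N` have square one -/
theorem false_of_nilpotent_odd (hodd : Odd n) (hsq : ∀ x ∈ N, x ∈ scalars (Fin n) F → x * x = 1)
    (hqp : QP H) (hN : N ≤ H)
    (hnorm : NormBy H N) (hns : ¬ N ≤ scalars (Fin n) F)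
    (hmin : ∀ M : Subgroup (GL (Fin n) F), M ≤ N → NormBy H M → M = N ∨ M ≤ scalars (Fin n) F)
    (hcomm : ⁅N, N⁆ ≤ scalars (Fin n) F) : False := by
  have hn : 0 < n := hodd.pos
  obtain ⟨-, -, -, -, k, hk1, -, hnk⟩ := structure_of_nilpotent_sq hn hsq hqp hN hnorm hns hmin hcomm
  rw [hnk] at hodd
  have : Even (2 ^ k) := (Nat.even_pow' (by omega)).2 even_two
  exact (Nat.not_even_iff_odd.2 hodd) this

end Cfsg.Agent.Lib.Helper24.AschOLeaf
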