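import Mathlib
import Cfsg.Prelude.Def_GeometricClasses
import Cfsg.Agent.Lib.Helper20.AschDefs
import Cfsg.Agent.Lib.Helper29.SpAschDefs
import Cfsg.Agent.Lib.Helper29.SpAschTools
import Cfsg.Agent.Lib.Helper18.OAschDefs
import Cfsg.Agent.Lib.Helper18.OAschG
import Cfsg.Agent.Lib.Helper18.ReidxDefs
import Cfsg.Agent.Lib.Helper18.AschA89Defs
import Cfsg.Agent.Lib.Helper27.AschTW2
import Cfsg.Agent.Lib.Helper20.FCMain
import Cfsg.Agent.Lib.Helper25.GraphInv3
import Cfsg.Agent.Lib.Helper6.TWQ1

/-!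
S5673 (Aschbacher for `Ω_{2m+1}(q)`, planner helper18), packet **O-B33** (helper24): the exceptional case `(q, k) = (3, 3)` of the
tensor power class.  Exact signatures of notes/S5673_leaves.lean.
-/

set_option autoImplicit false
set_option linter.unusedSectionVars false
set_option linter.unusedVariables false

namespace Cfsg.Agent.Lib.Helper24.OAschLeaf
open Matrix Cfsg Cfsg.Geo Cfsg.Agent.Lib.Helper20.Asch Cfsg.Agent.Lib.Helper29.SpAsch Cfsg.Agent.Lib.Helper18.OAsch
  Cfsg.Agent.Lib.Helper18.Reidx Cfsg.Agent.Lib.Helper18.AschA89 Cfsg.Agent.Lib.Helper27.AschLeaf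
open scoped Kronecker

variable {F : Type*} [Field F] [Fintype F] {n : ℕ} {G : Matrix (Fin n) (Fin n) F} {H N : Subgroup (GL (Fin n) F)}

/-! ### the field with three elements -/

theorem f3_cases (h3 : Fintype.card F = 3) (x : F) : x = 0 ∨ x = 1 ∨ x = -1 := by
  have e : ZMod 3 ≃+* F := ZMod.ringEquivOfPrime F Nat.prime_three h3
  obtain ⟨y, rfl⟩ := e.surjective x
  have : y = 0 ∨ y = 1 ∨ y = -1 := by
    revert y; decide
  rcases this with h | h | h
  · left; rw [h, map_zero]
  · right; left; rw [h, map_one]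
  · right; right; rw [h, map_neg, map_one]

theorem f3_three (h3 : Fintype.card F = 3) : (1 : F) + 1 + 1 = 0 := by
  have e : ZMod 3 ≃+* F := ZMod.ringEquivOfPrime F Nat.prime_three h3
  have : (1 : ZMod 3) + 1 + 1 = 0 := by decide
  have h := congrArg e this
  simpa using h

theorem f3_sq (h3 : Fintype.card F = 3) (x : F) : x = 0 ∨ x * x = 1 := by
  rcases f3_cases h3 x with h | h | h
  · left; exact h
  · right; rw [h, mul_one]
  · right; rw [h]; ring

theorem f3_two_ne_zero (h3 : Fintype.card F = 3) : (2 : F) ≠ 0 := by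
  intro h
  have h1 := f3_three h3
  have : (1 : F) = 0 := by linear_combination h1 - h
  exact one_ne_zero this

/-- B33g: `reindex e e M = c • 1 ↔ M = c • 1` -/
theorem reindex_eq_smul_one {κ : Type} [Fintype κ] [DecidableEq κ] (e : Fin n ≃ κ) (M : Matrix (Fin n) (Fin n) F) (c : F)
    (h : Matrix.reindex e e M = c • (1 : Matrix κ κ F)) : M = c • (1 : Matrix (Fin n) (Fin n) F) := by
  ext i j
  have h1 := congrFun (congrFun h (e i)) (e j)
  simp only [Matrix.reindex_apply, Matrix.submatrix_apply, Equiv.symm_apply_apply, Matrix.smul_apply, Matrix.one_apply,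
    EmbeddingLike.apply_eq_iff_eq] at h1
  rw [h1, Matrix.smul_apply, Matrix.one_apply]

/-- B33a: over `F_3` a non-degenerate symmetric form in dimension `3` has an orthogonal basis of vectors of one norm `c ≠ 0`
(`exists_congr_of_disc` with `M₂ = G₁`, `M₁ = c • 1`, `c = det G₁`: `det (c • 1) det G₁ = c⁴`) -/
theorem b33_basis (h3 : Fintype.card F = 3) (G₁ : Matrix (Fin 3) (Fin 3) F) (hs : G₁ᵀ = G₁) (hd : G₁.det ≠ 0) :
    ∃ (b : GL (Fin 3) F) (c : F), c ≠ 0 ∧ (b : Matrix (Fin 3) (Fin 3) F)ᵀ * G₁ * (b : Matrix (Fin 3) (Fin 3) F) = c • 1 := by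
  have h2 := f3_two_ne_zero h3
  set c := G₁.det with hc
  have hdet : (c • (1 : Matrix (Fin 3) (Fin 3) F)).det = c ^ 3 := by
    rw [Matrix.det_smul, Matrix.det_one, mul_one, Fintype.card_fin]
  obtain ⟨k, hk⟩ := Cfsg.Agent.Lib.Helper25.GraphInv.exists_congr_of_disc h2 (c • (1 : Matrix (Fin 3) (Fin 3) F)) G₁
    (by rw [Matrix.transpose_smul, Matrix.transpose_one]) hs (by rw [hdet]; exact pow_ne_zero _ hd) hd
    ⟨c * c, by rw [hdet]; ring⟩
  exact ⟨k, c, hd, hk⟩

/-- B33b: over `F_3` a similitude of the dot product on `F^3` is a monomial matrix. -/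
theorem b33_monomial (h3 : Fintype.card F = 3) (a : Matrix (Fin 3) (Fin 3) F) (μ : F) (hμ : μ ≠ 0)
    (ha : aᵀ * a = μ • 1) : ∃ (σ : Equiv.Perm (Fin 3)) (ε : Fin 3 → F), (∀ j, ε j ≠ 0) ∧
      a = Matrix.of fun i j => if i = σ j then ε j else 0 := by
  classical
  have h111 := f3_three h3
  -- `μ = 1`
  have hμ1 : μ = 1 := by
    have hdet : a.det * a.det = μ ^ 3 := by
      have := congrArg Matrix.det ha
      rw [Matrix.det_mul, Matrix.det_transpose, Matrix.det_smul, Matrix.det_one, mul_one, Fintype.card_fin] at this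
      exact this
    rcases f3_cases h3 μ with h | h | h
    · exact absurd h hμ
    · exact h
    · exfalso
      rw [h] at hdet
      rcases f3_sq h3 a.det with h0 | h1
      · rw [h0] at hdet; norm_num at hdet
      · rw [h1] at hdet
        have : (1 : F) + 1 = 0 := by linear_combination hdet
        have : (1 : F) = 0 := by linear_combination h111 - this
        exact one_ne_zero this
  subst hμ1
  rw [one_smul] at ha
  -- entries of `aᵀ a`
  have hent : ∀ j k : Fin 3, a 0 j * a 0 k + a 1 j * a 1 k + a 2 j * a 2 k = if j = k then 1 else 0 := by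
    intro j k
    have := congrFun (congrFun ha j) k
    rw [Matrix.mul_apply, Fin.sum_univ_three, Matrix.one_apply] at this
    simpa [Matrix.transpose_apply] using this
  -- each column has exactly one non-zero entry
  have hcol : ∀ j : Fin 3, ∃ i : Fin 3, a i j ≠ 0 ∧ ∀ i', i' ≠ i → a i' j = 0 := by
    intro j
    have h := hent j j
    rw [if_pos rfl] at h
    rcases f3_sq h3 (a 0 j) with h0 | h0 <;> rcases f3_sq h3 (a 1 j) with h1 | h1 <;>
      rcases f3_sq h3 (a 2 j) with h2 | h2
    · exfalso; rw [h0, h1, h2] at h; norm_num at h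
    · refine ⟨2, fun h' => by rw [h'] at h2; norm_num at h2, fun i' hi' => ?_⟩
      fin_cases i' <;> simp_all
    · refine ⟨1, fun h' => by rw [h'] at h1; norm_num at h1, fun i' hi' => ?_⟩
      fin_cases i' <;> simp_all
    · exfalso
      rw [h0, h1, h2] at h
      have : (1 : F) = 0 := by linear_combination h
      exact one_ne_zero this
    · refine ⟨0, fun h' => by rw [h'] at h0; norm_num at h0, fun i' hi' => ?_⟩
      fin_cases i' <;> simp_all
    · exfalso
      rw [h0, h1, h2] at h
      have : (1 : F) = 0 := by linear_combination h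
      exact one_ne_zero this
    · exfalso
      rw [h0, h1, h2] at h
      have : (1 : F) = 0 := by linear_combination h
      exact one_ne_zero this
    · exfalso
      rw [h0, h1, h2] at h
      have : (1 : F) = 0 := by linear_combination h111 - h
      exact one_ne_zero this
  choose σ hσ1 hσ2 using hcol
  have hinj : Function.Injective σ := by
    intro j k hjk
    by_contra hne
    have h := hent j k
    rw [if_neg hne] at h
    -- only the row `σ j = σ k` contributes
    have hz : ∀ i : Fin 3, a i j * a i k = if i = σ j then a (σ j) j * a (σ j) k else 0 := by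
      intro i
      by_cases hi : i = σ j
      · rw [if_pos hi, hi]
      · rw [if_neg hi, hσ2 j i hi, zero_mul]
    rw [hz 0, hz 1, hz 2] at h
    have hnz : a (σ j) j * a (σ j) k ≠ 0 := mul_ne_zero (hσ1 j) (by rw [hjk]; exact hσ1 k)
    have h3' : ∀ i : Fin 3, i = 0 ∨ i = 1 ∨ i = 2 := by decide
    rcases h3' (σ j) with h' | h' | h' <;> rw [h'] at h hnz <;> simp at h <;> exact hnz (by simpa using h)
  have hbij : Function.Bijective σ := Finite.injective_iff_bijective.mp hinj
  refine ⟨Equiv.ofBijective σ hbij, fun j => a (σ j) j, hσ1, ?_⟩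
  ext i j
  simp only [Matrix.of_apply, Equiv.ofBijective_apply]
  by_cases hi : i = σ j
  · rw [if_pos hi, hi]
  · rw [if_neg hi, hσ2 j i hi]


/-! ### the wreath normal form and monomial matrices -/

theorem fperm_transpose (m t : ℕ) (σ : Equiv.Perm (Fin t)) :
    (fperm (F := F) m t σ)ᵀ = fperm m t σ⁻¹ := by
  ext x y
  rw [Matrix.transpose_apply, fperm_apply, fperm_apply]
  have : (x = y ∘ σ) ↔ (y = x ∘ ((σ⁻¹ : Equiv.Perm (Fin t)) : Fin t → Fin t)) := by
    constructor
    · rintro rfl; funext j; simp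
    · rintro rfl; funext j; simp
  simp only [this]

/-- a pure tensor which is the identity has scalar factors -/
theorem scalar_of_ptens_eq_one {m t : ℕ} (a₀ : Fin m) (B : Fin t → Matrix (Fin m) (Fin m) F)
    (h : ptens m t B = 1) (i : Fin t) : ∃ μ : F, μ ≠ 0 ∧ B i = μ • 1 := by
  classical
  have hent : ∀ x y : Fin t → Fin m, ∏ j, B j (x j) (y j) = if x = y then 1 else 0 := by
    intro x y
    have := congrFun (congrFun h x) y
    rwa [ptens_apply, Matrix.one_apply] at this
  have hdiag : ∀ j, B j a₀ a₀ ≠ 0 := by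
    intro j hz
    have h1 := hent (fun _ => a₀) (fun _ => a₀)
    rw [if_pos rfl, Finset.prod_eq_zero (Finset.mem_univ j) hz] at h1
    exact zero_ne_one h1
  set P : F := ∏ j ∈ Finset.univ.erase i, B j a₀ a₀ with hP
  have hP0 : P ≠ 0 := Finset.prod_ne_zero_iff.mpr fun j _ => hdiag j
  have hkey : ∀ a b : Fin m, B i a b * P = if a = b then 1 else 0 := by
    intro a b
    have h1 := hent (Function.update (fun _ => a₀) i a) (Function.update (fun _ => a₀) i b)
    rw [← Finset.mul_prod_erase Finset.univ _ (Finset.mem_univ i), Function.update_self, Function.update_self] at h1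
    have h2 : ∏ j ∈ Finset.univ.erase i, B j (Function.update (fun _ => a₀) i a j)
        (Function.update (fun _ => a₀) i b j) = P := by
      refine Finset.prod_congr rfl fun j hj => ?_
      have hji : j ≠ i := Finset.ne_of_mem_erase hj
      rw [Function.update_of_ne hji, Function.update_of_ne hji]
    rw [h2] at h1
    rw [h1]
    by_cases hab : a = b
    · rw [if_pos hab, if_pos (by rw [hab])]
    · rw [if_neg hab, if_neg]
      intro h3
      apply hab
      have := congrFun h3 i
      rwa [Function.update_self, Function.update_self] at this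
  refine ⟨P⁻¹, inv_ne_zero hP0, ?_⟩
  ext a b
  rw [Matrix.smul_apply, Matrix.one_apply, smul_eq_mul]
  have := hkey a b
  field_simp
  rw [this]

/-- B33c -/
theorem b33_wreath_monomial (h3 : Fintype.card F = 3) {t : ℕ} (g : GL (Fin t → Fin 3) F)
    (hg : g ∈ tensorWreathStandard 3 t F)
    (hiso : (g : Matrix (Fin t → Fin 3) (Fin t → Fin 3) F)ᵀ * (g : Matrix (Fin t → Fin 3) (Fin t → Fin 3) F) = 1) :
    ∃ (π : Equiv.Perm (Fin t → Fin 3)) (ε : (Fin t → Fin 3) → F), (∀ x, ε x ≠ 0) ∧
      ∀ x, (g : Matrix (Fin t → Fin 3) (Fin t → Fin 3) F) *ᵥ Pi.single x 1 = ε x • Pi.single (π x) 1 := by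
  classical
  obtain ⟨σ, gs, hgs⟩ := Cfsg.Agent.Lib.Helper6.TWQ.exists_fperm_ptens g hg
  set A : Fin t → Matrix (Fin 3) (Fin 3) F := fun i => ((gs i : GL (Fin 3) F) : Matrix (Fin 3) (Fin 3) F) with hA
  have h1 : ptens 3 t (fun i => (A i)ᵀ * A i) = 1 := by
    rw [hgs, Matrix.transpose_mul, fperm_transpose, Cfsg.Agent.Lib.Helper20.AschLeaf.ptens_transpose] at hiso
    rw [← Cfsg.Agent.Lib.Helper20.AschLeaf.ptens_mul]
    calc ptens 3 t (fun i => (A i)ᵀ) * ptens 3 t A
        = ptens 3 t (fun i => (A i)ᵀ) * (fperm 3 t σ⁻¹ * fperm 3 t σ) * ptens 3 t A := by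
          rw [Cfsg.Agent.Lib.Helper20.AschLeaf.wr_fperm_inv_mul, Matrix.mul_one]
      _ = 1 := by
          rw [← hiso]
          simp only [Matrix.mul_assoc]
  have hmono : ∀ i, ∃ (τ : Equiv.Perm (Fin 3)) (ε : Fin 3 → F), (∀ j, ε j ≠ 0) ∧
      A i = Matrix.of fun a b => if a = τ b then ε b else 0 := by
    intro i
    obtain ⟨μ, hμ, hB⟩ := scalar_of_ptens_eq_one (0 : Fin 3) _ h1 i
    exact b33_monomial h3 (A i) μ hμ hB
  choose τ ε hε hAτ using hmono
  -- the permutation of the coordinate lines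
  let T : Equiv.Perm (Fin t → Fin 3) := Equiv.piCongrRight τ
  let S : Equiv.Perm (Fin t → Fin 3) := Equiv.arrowCongr σ (Equiv.refl (Fin 3))
  refine ⟨T.trans S, fun y => ∏ i, ε i (y i), fun y => Finset.prod_ne_zero_iff.mpr fun i _ => hε i (y i), ?_⟩
  intro y
  funext x
  rw [Matrix.mulVec_single_one, Matrix.col_apply, hgs, Cfsg.Agent.Lib.Helper20.AschLeaf.wr_fperm_mul_apply, ptens_apply,
    Pi.smul_apply, smul_eq_mul, Pi.single_apply]
  have hAent : ∀ i, A i ((x ∘ σ) i) (y i) = if (x ∘ σ) i = τ i (y i) then ε i (y i) else 0 := by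
    intro i
    rw [hAτ i]
    rfl
  simp only [hAent]
  have hx : x = (T.trans S) y ↔ ∀ i, (x ∘ σ) i = τ i (y i) := by
    constructor
    · intro hx i
      rw [hx]
      simp [T, S, Equiv.arrowCongr, Equiv.piCongrRight]
    · intro hx
      funext j
      have := hx (σ.symm j)
      simp only [Function.comp_apply, Equiv.apply_symm_apply] at this
      rw [this]
      simp [T, S, Equiv.arrowCongr, Equiv.piCongrRight]
  by_cases hxy : x = (T.trans S) y
  · rw [if_pos hxy, mul_one]
    refine Finset.prod_congr rfl fun i _ => ?_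
    rw [if_pos (hx.mp hxy i)]
  · rw [if_neg hxy, mul_zero]
    have : ¬ ∀ i, (x ∘ σ) i = τ i (y i) := fun h => hxy (hx.mpr h)
    push Not at this
    obtain ⟨i, hi⟩ := this
    exact Finset.prod_eq_zero (Finset.mem_univ i) (if_neg hi)


/-! ### the frame of the columns -/

theorem polar_qf_apply {κ : Type} [Fintype κ] [DecidableEq κ] {G : Matrix κ κ F} (h2 : (2 : F) ≠ 0) (hs : Gᵀ = G)
    (u v : κ → F) : QuadraticMap.polar (qf G) u v = bfm G u v := by
  have hsym : bfm G v u = bfm G u v := by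
    unfold bfm
    rw [Matrix.dotProduct_mulVec, ← hs, Matrix.vecMul_transpose, hs, dotProduct_comm]
  unfold QuadraticMap.polar qf
  rw [Cfsg.Agent.Lib.Helper29.SpAsch.bfm_add_left, Cfsg.Agent.Lib.Helper29.SpAsch.bfm_add_right,
    Cfsg.Agent.Lib.Helper29.SpAsch.bfm_add_right, hsym]
  field_simp
  ring

/-- the Gram matrix entries in the basis of the columns -/
theorem bfm_cols (G P : Matrix (Fin n) (Fin n) F) (i j : Fin n) :
    bfm G (P *ᵥ Pi.single i 1) (P *ᵥ Pi.single j 1) = (Pᵀ * G * P) i j := by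
  rw [bfm_mulVec, bfm_entry]


theorem two_ne_zero_of_odd_card (hodd : Odd (Fintype.card F)) : (2 : F) ≠ 0 := by
  intro h2
  have : CharP F 2 := CharTwo.of_one_ne_zero_of_two_eq_zero one_ne_zero h2
  have : Fact (Nat.Prime 2) := ⟨Nat.prime_two⟩
  obtain ⟨k, -, hk⟩ := FiniteField.card F 2
  rw [hk] at hodd
  have : Even (2 ^ (k : ℕ)) := (Nat.even_pow' k.ne_zero).2 even_two
  exact (Nat.not_even_iff_odd.2 hodd) this

/-- the columns of an invertible matrix form a basis -/
noncomputable def colBasis (P : GL (Fin n) F) : Module.Basis (Fin n) F (Fin n → F) :=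
  (Pi.basisFun F (Fin n)).map
    (Matrix.toLin'OfInv (M := ((P⁻¹ : GL (Fin n) F) : Matrix (Fin n) (Fin n) F)) (M' := (P : Matrix (Fin n) (Fin n) F))
      (by rw [← Units.val_mul, inv_mul_cancel, Units.val_one]) (by rw [← Units.val_mul, mul_inv_cancel, Units.val_one]))

theorem colBasis_apply (P : GL (Fin n) F) (j : Fin n) :
    colBasis P j = (P : Matrix (Fin n) (Fin n) F) *ᵥ Pi.single j (1 : F) := by
  unfold colBasis
  rw [Module.Basis.map_apply, Pi.basisFun_apply]
  rfl

/-- B33e -/
theorem frame_of_scalar_gram (hg : OG G) (P' : GL (Fin n) F) (c' : F) (hc' : c' ≠ 0)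
    (h : (P' : Matrix (Fin n) (Fin n) F)ᵀ * G * (P' : Matrix (Fin n) (Fin n) F) = c' • 1) :
    IsOrthogonalMDecomposition (qf G) 1
      (fun j : Fin n => Submodule.span F {(P' : Matrix (Fin n) (Fin n) F) *ᵥ Pi.single j (1 : F)}) := by
  classical
  have h2 : (2 : F) ≠ 0 := two_ne_zero_of_odd_card hg.oddq
  have hpol : QuadraticMap.polar (qf G) = bfm G := by
    funext u v
    exact polar_qf_apply h2 hg.symm u v
  set v : Fin n → (Fin n → F) := fun j => (P' : Matrix (Fin n) (Fin n) F) *ᵥ Pi.single j (1 : F) with hv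
  have hvb : ∀ j, v j = colBasis P' j := fun j => (colBasis_apply P' j).symm
  have hvv : ∀ i j, bfm G (v i) (v j) = if i = j then c' else 0 := by
    intro i j
    simp only [hv]
    rw [bfm_cols, h, Matrix.smul_apply, Matrix.one_apply, smul_eq_mul, mul_ite, mul_one, mul_zero]
  have hv0 : ∀ i, v i ≠ 0 := by
    intro i h0
    have := hvv i i
    rw [h0, if_pos rfl, bfm_zero_left] at this
    exact hc' this.symm
  have hmem : ∀ i (w : Fin n → F), w ∈ Submodule.span F {v i} → ∃ a : F, w = a • v i := by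
    intro i w hw
    obtain ⟨a, ha⟩ := Submodule.mem_span_singleton.mp hw
    exact ⟨a, ha.symm⟩
  have hD : IsMDecomposition 1 (fun j : Fin n => Submodule.span F {v j}) := by
    refine ⟨by have := hg.three; omega, Nat.one_pos, fun i => finrank_span_singleton (hv0 i), ?_, ?_⟩
    · have hli : LinearIndependent F v := by
        have : v = colBasis P' := funext hvb
        rw [this]
        exact (colBasis P').linearIndependent
      exact hli.iSupIndep_span_singleton
    · rw [← Submodule.span_range_eq_iSup]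
      have : v = colBasis P' := funext hvb
      rw [this]
      exact (colBasis P').span_eq
  refine ⟨⟨hD, ?_, ?_⟩, ?_⟩
  · intro i w hw hw0
    obtain ⟨a, rfl⟩ := hmem i w hw
    have ha : a ≠ 0 := by
      rintro rfl
      exact hw0 (zero_smul _ _)
    have hvi : v i ∈ Submodule.span F {v i} := Submodule.mem_span_singleton_self _
    rw [hpol]
    refine ⟨⟨v i, hvi, ?_⟩, ⟨v i, hvi, ?_⟩⟩
    · rw [Cfsg.Agent.Lib.Helper29.SpAsch.bfm_smul_right, hvv, if_pos rfl]
      exact mul_ne_zero ha hc'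
    · rw [Cfsg.Agent.Lib.Helper29.SpAsch.bfm_smul_left, hvv, if_pos rfl]
      exact mul_ne_zero ha hc'
  · intro i j hij u hu w hw
    obtain ⟨a, rfl⟩ := hmem i u hu
    obtain ⟨b, rfl⟩ := hmem j w hw
    rw [hpol, Cfsg.Agent.Lib.Helper29.SpAsch.bfm_smul_right, Cfsg.Agent.Lib.Helper29.SpAsch.bfm_smul_left, hvv,
      if_neg hij, mul_zero, mul_zero]
  · intro i j
    refine ⟨(LinearEquiv.toSpanNonzeroSingleton F (Fin n → F) (v i) (hv0 i)).symm.trans
      (LinearEquiv.toSpanNonzeroSingleton F (Fin n → F) (v j) (hv0 j)), ?_⟩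
    intro w
    set a : F := (LinearEquiv.toSpanNonzeroSingleton F (Fin n → F) (v i) (hv0 i)).symm w with ha
    have hw : (w : Fin n → F) = a • v i := by
      have := (LinearEquiv.toSpanNonzeroSingleton F (Fin n → F) (v i) (hv0 i)).apply_symm_apply w
      rw [← ha] at this
      rw [← this]
      rfl
    have hew : (((LinearEquiv.toSpanNonzeroSingleton F (Fin n → F) (v i) (hv0 i)).symm.trans
      (LinearEquiv.toSpanNonzeroSingleton F (Fin n → F) (v j) (hv0 j))) w : Fin n → F) = a • v j := by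
      rw [LinearEquiv.trans_apply, ← ha]
      rfl
    rw [hew, hw]
    unfold qf
    rw [Cfsg.Agent.Lib.Helper29.SpAsch.bfm_smul_right, Cfsg.Agent.Lib.Helper29.SpAsch.bfm_smul_left,
      Cfsg.Agent.Lib.Helper29.SpAsch.bfm_smul_right, Cfsg.Agent.Lib.Helper29.SpAsch.bfm_smul_left, hvv, hvv, if_pos rfl,
      if_pos rfl]


/-- B33f -/
theorem wreath33_le_stabilizer (h3 : Fintype.card F = 3) {t : ℕ} (e : Fin n ≃ (Fin t → Fin 3)) (P' : GL (Fin n) F)
    (c' : F) (hc' : c' ≠ 0)
    (h : (P' : Matrix (Fin n) (Fin n) F)ᵀ * G * (P' : Matrix (Fin n) (Fin n) F) = c' • 1)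
    (hI : H ≤ isoG G) (hH : H ≤ tensorWreathSubgroup 3 t e P') :
    H ≤ decompositionStabilizer
      (fun j : Fin n => Submodule.span F {(P' : Matrix (Fin n) (Fin n) F) *ᵥ Pi.single j (1 : F)}) := by
  classical
  intro x hx
  have hxI := (mem_isoG_iff x).mp (hI hx)
  have hxW := hH hx
  unfold tensorWreathSubgroup at hxW
  rw [Subgroup.mem_map] at hxW
  obtain ⟨y, hy, hyx⟩ := hxW
  rw [Subgroup.mem_map] at hy
  obtain ⟨g, hg, hgy⟩ := hy
  have hxP : (x : Matrix (Fin n) (Fin n) F) * (P' : Matrix (Fin n) (Fin n) F) =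
      (P' : Matrix (Fin n) (Fin n) F) * (y : Matrix (Fin n) (Fin n) F) := by
    rw [← hyx]
    change ((P' * y * P'⁻¹ : GL (Fin n) F) : Matrix (Fin n) (Fin n) F) * _ = _
    rw [← Units.val_mul, ← Units.val_mul]
    congr 1
    group
  have hyy : (y : Matrix (Fin n) (Fin n) F)ᵀ * (y : Matrix (Fin n) (Fin n) F) = 1 := by
    have h1 : ((x : Matrix (Fin n) (Fin n) F) * (P' : Matrix (Fin n) (Fin n) F))ᵀ * G *
        ((x : Matrix (Fin n) (Fin n) F) * (P' : Matrix (Fin n) (Fin n) F)) = c' • 1 := by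
      rw [Matrix.transpose_mul]
      calc (P' : Matrix (Fin n) (Fin n) F)ᵀ * (x : Matrix (Fin n) (Fin n) F)ᵀ * G *
            ((x : Matrix (Fin n) (Fin n) F) * (P' : Matrix (Fin n) (Fin n) F))
          = (P' : Matrix (Fin n) (Fin n) F)ᵀ * ((x : Matrix (Fin n) (Fin n) F)ᵀ * G * (x : Matrix (Fin n) (Fin n) F)) *
            (P' : Matrix (Fin n) (Fin n) F) := by simp only [Matrix.mul_assoc]
        _ = c' • 1 := by rw [hxI, h]
    rw [hxP, Matrix.transpose_mul] at h1
    have h2' : (y : Matrix (Fin n) (Fin n) F)ᵀ * ((P' : Matrix (Fin n) (Fin n) F)ᵀ * G * (P' : Matrix (Fin n) (Fin n) F)) *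
        (y : Matrix (Fin n) (Fin n) F) = c' • 1 := by
      rw [← h1]
      simp only [Matrix.mul_assoc]
    rw [h, Matrix.mul_smul, Matrix.smul_mul, Matrix.mul_one] at h2'
    exact smul_right_injective _ hc' h2'
  have hyg : ∀ i j, (y : Matrix (Fin n) (Fin n) F) i j = (g : Matrix (Fin t → Fin 3) (Fin t → Fin 3) F) (e i) (e j) := by
    intro i j
    rw [← hgy]
    rfl
  have hgg : (g : Matrix (Fin t → Fin 3) (Fin t → Fin 3) F)ᵀ * (g : Matrix (Fin t → Fin 3) (Fin t → Fin 3) F) = 1 := by
    ext a b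
    have h1 := congrFun (congrFun hyy (e.symm a)) (e.symm b)
    rw [Matrix.mul_apply, Matrix.one_apply] at h1
    rw [Matrix.mul_apply, Matrix.one_apply]
    simp only [Matrix.transpose_apply, hyg, Equiv.apply_symm_apply, EmbeddingLike.apply_eq_iff_eq] at h1
    simp only [Matrix.transpose_apply]
    rw [← h1]
    exact (Equiv.sum_comp e fun z => (g : Matrix (Fin t → Fin 3) (Fin t → Fin 3) F) z a *
      (g : Matrix (Fin t → Fin 3) (Fin t → Fin 3) F) z b).symm
  obtain ⟨π, ε, hε, hπ⟩ := b33_wreath_monomial h3 g hg hgg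
  let σ : Equiv.Perm (Fin n) := e.trans (π.trans e.symm)
  have hycol : ∀ j, (y : Matrix (Fin n) (Fin n) F) *ᵥ Pi.single j (1 : F) = ε (e j) • Pi.single (σ j) (1 : F) := by
    intro j
    funext i
    rw [Matrix.mulVec_single_one, Matrix.col_apply, hyg]
    have h1 := congrFun (hπ (e j)) (e i)
    rw [Matrix.mulVec_single_one, Matrix.col_apply] at h1
    rw [h1, Pi.smul_apply, Pi.smul_apply, Pi.single_apply, Pi.single_apply]
    have : (e i = π (e j)) ↔ (i = σ j) := by
      simp only [σ, Equiv.trans_apply]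
      constructor
      · intro h'
        rw [← h', Equiv.symm_apply_apply]
      · intro h'
        rw [h', Equiv.apply_symm_apply]
    simp only [this]
  have hact : ∀ j, (x : Matrix (Fin n) (Fin n) F) *ᵥ ((P' : Matrix (Fin n) (Fin n) F) *ᵥ Pi.single j (1 : F)) =
      ε (e j) • ((P' : Matrix (Fin n) (Fin n) F) *ᵥ Pi.single (σ j) (1 : F)) := by
    intro j
    rw [Matrix.mulVec_mulVec, hxP, ← Matrix.mulVec_mulVec, hycol, Matrix.mulVec_smul]
  refine ⟨σ, fun j => ?_⟩
  simp only
  rw [Submodule.map_span, Set.image_singleton, Matrix.toLin'_apply, hact,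
    Submodule.span_singleton_smul_eq (IsUnit.mk0 _ (hε (e j)))]

end Cfsg.Agent.Lib.Helper24.OAschLeaf
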