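import Mathlib
import Cfsg.Agent.Lib.Helper12.NseA

/-!
S3996, leaf C1 (helper22's plan `notes/S3996_leaves.lean`): for an odd `N`, three distinct primes dividing `N`
carry the same same-order count.  Pure arithmetic over helper12's `NseSys`.
-/

set_option autoImplicit false

namespace Cfsg.Agent.Lib.Helper24.SOT
open Cfsg.Agent.Lib.Helper12.Nse

theorem sum_divisors_mul_c1 {a b : ℕ} (hab : a.Coprime b) (f : ℕ → ℕ) :
    ∑ d ∈ (a * b).divisors, f d = ∑ x ∈ a.divisors, ∑ y ∈ b.divisors, f (x * y) := by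
  rw [hab.divisors_mul, Finset.sum_map]
  show ∑ x ∈ (a.divisors ×ˢ b.divisors).attach, f (x.1.1 * x.1.2) = _
  rw [Finset.sum_attach (a.divisors ×ˢ b.divisors) (fun p => f (p.1 * p.2)), Finset.sum_product]

/-- Frobenius at a prime -/
theorem frob_prime_c1 {N : ℕ} {s : ℕ → ℕ} (h : NseSys N s) {a : ℕ} (ha : a.Prime) (haN : a ∣ N) :
    a ∣ 1 + s a := by
  have := h.frob a haN
  rw [Nat.Prime.sum_divisors ha, h.m_one, add_comm] at this
  exact this

/-- Frobenius at a product of two distinct primes -/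
theorem frob_two_c1 {N : ℕ} {s : ℕ → ℕ} (h : NseSys N s) {a b : ℕ} (ha : a.Prime) (hb : b.Prime)
    (hab : a ≠ b) (hN : a * b ∣ N) :
    a * b ∣ 1 + s a + s b + s (a * b) := by
  have := h.frob (a * b) hN
  rw [sum_divisors_mul_c1 ((Nat.coprime_primes ha hb).mpr hab), Nat.Prime.sum_divisors ha] at this
  simp only [Nat.Prime.sum_divisors hb, one_mul, mul_one, h.m_one] at this
  have e : s (a * b) + s a + (s b + 1) = 1 + s a + s b + s (a * b) := by ring
  rwa [e] at this

/-- Frobenius at a product of three distinct primes -/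
theorem frob_three_c1 {N : ℕ} {s : ℕ → ℕ} (h : NseSys N s) {a b c : ℕ} (ha : a.Prime) (hb : b.Prime)
    (hc : c.Prime) (hab : a ≠ b) (hac : a ≠ c) (hbc : b ≠ c) (hN : a * b * c ∣ N) :
    a * b * c ∣ 1 + s a + s b + s c + s (a * b) + s (a * c) + s (b * c) + s (a * b * c) := by
  have := h.frob (a * b * c) hN
  have hcop : (a * b).Coprime c :=
    Nat.Coprime.mul_left ((Nat.coprime_primes ha hc).mpr hac) ((Nat.coprime_primes hb hc).mpr hbc)
  rw [sum_divisors_mul_c1 hcop,
    sum_divisors_mul_c1 ((Nat.coprime_primes ha hb).mpr hab), Nat.Prime.sum_divisors ha] at this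
  simp only [Nat.Prime.sum_divisors hb, Nat.Prime.sum_divisors hc, one_mul, mul_one, h.m_one] at this
  have e : s (a * b * c) + s (a * b) + (s (a * c) + s a) + (s (b * c) + s b + (s c + 1)) =
      1 + s a + s b + s c + s (a * b) + s (a * c) + s (b * c) + s (a * b * c) := by ring
  rwa [e] at this

theorem two_ne_zero_c1 {a : ℕ} (ha : a.Prime) (ha2 : a ≠ 2) : (2 : ZMod a) ≠ 0 := by
  intro h0
  have h1 : ((2 : ℕ) : ZMod a) = 0 := by exact_mod_cast h0
  rw [ZMod.natCast_eq_zero_iff] at h1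
  exact ha2 ((Nat.prime_dvd_prime_iff_eq ha Nat.prime_two).mp h1)

theorem one_ne_zero_c1 {a : ℕ} (ha : a.Prime) : (1 : ZMod a) ≠ 0 := by
  have : Fact a.Prime := ⟨ha⟩
  exact one_ne_zero

/-- the core: two primes with count `v`, a third one with another count `v'` -/
theorem core_c1 {N : ℕ} {s : ℕ → ℕ} (h : NseSys N s) (v v' : ℕ)
    (hV : ∀ d, 3 ≤ d → s d = 0 ∨ s d = v ∨ s d = v')
    (a b c : ℕ) (ha : a.Prime) (hb : b.Prime) (hc : c.Prime) (ha2 : a ≠ 2) (hb2 : b ≠ 2) (hc2 : c ≠ 2)
    (hab : a ≠ b) (hac : a ≠ c) (hbc : b ≠ c)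
    (haN : a ∣ N) (hbN : b ∣ N) (hcN : c ∣ N) (hsa : s a = v) (hsb : s b = v) (hsc : s c = v') :
    False := by
  have : Fact a.Prime := ⟨ha⟩
  have : Fact b.Prime := ⟨hb⟩
  have : Fact c.Prime := ⟨hc⟩
  have habN : a * b ∣ N := Nat.Coprime.mul_dvd_of_dvd_of_dvd ((Nat.coprime_primes ha hb).mpr hab) haN hbN
  have hcaN : c * a ∣ N :=
    Nat.Coprime.mul_dvd_of_dvd_of_dvd ((Nat.coprime_primes hc ha).mpr (Ne.symm hac)) hcN haN
  have hcbN : c * b ∣ N :=
    Nat.Coprime.mul_dvd_of_dvd_of_dvd ((Nat.coprime_primes hc hb).mpr (Ne.symm hbc)) hcN hbN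
  have habcN : a * b * c ∣ N :=
    Nat.Coprime.mul_dvd_of_dvd_of_dvd
      (Nat.Coprime.mul_left ((Nat.coprime_primes ha hc).mpr hac) ((Nat.coprime_primes hb hc).mpr hbc))
      habN hcN
  have h2le : ∀ x : ℕ, x.Prime → 2 ≤ x := fun x hx => hx.two_le
  -- residues of v, v'
  have hva : (v : ZMod a) = -1 := by
    have h1 := frob_prime_c1 h ha haN
    rw [hsa, ← ZMod.natCast_eq_zero_iff] at h1
    push_cast at h1
    linear_combination h1
  have hvb : (v : ZMod b) = -1 := by
    have h1 := frob_prime_c1 h hb hbN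
    rw [hsb, ← ZMod.natCast_eq_zero_iff] at h1
    push_cast at h1
    linear_combination h1
  have hv'c : (v' : ZMod c) = -1 := by
    have h1 := frob_prime_c1 h hc hcN
    rw [hsc, ← ZMod.natCast_eq_zero_iff] at h1
    push_cast at h1
    linear_combination h1
  -- Frobenius at a b
  have hFab := frob_two_c1 h ha hb hab habN
  rw [hsa, hsb] at hFab
  have hFab_a : ((1 + v + v + s (a * b) : ℕ) : ZMod a) = 0 := by
    rw [ZMod.natCast_eq_zero_iff]; exact (Dvd.intro _ rfl : a ∣ a * b).trans hFab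
  push_cast at hFab_a
  have htab : (s (a * b) : ZMod a) = 1 := by linear_combination hFab_a - 2 * hva
  have h3ab : 3 ≤ a * b := by nlinarith [h2le a ha, h2le b hb]
  have hsab : s (a * b) = v' := by
    rcases hV (a * b) h3ab with h0 | h0 | h0
    · rw [h0] at htab
      exact absurd (by exact_mod_cast htab.symm) (one_ne_zero_c1 ha)
    · rw [h0, hva] at htab
      exfalso
      apply two_ne_zero_c1 ha ha2
      linear_combination -htab
    · exact h0
  have hv'a : (v' : ZMod a) = 1 := by rw [← hsab]; exact htab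
  -- Frobenius at c a
  have hFca := frob_two_c1 h hc ha (Ne.symm hac) hcaN
  rw [hsa, hsc] at hFca
  have hFca_a : ((1 + v' + v + s (c * a) : ℕ) : ZMod a) = 0 := by
    rw [ZMod.natCast_eq_zero_iff]; exact (Dvd.intro_left _ rfl : a ∣ c * a).trans hFca
  push_cast at hFca_a
  have htca : (s (c * a) : ZMod a) = -1 := by linear_combination hFca_a - hva - hv'a
  have h3ca : 3 ≤ c * a := by nlinarith [h2le a ha, h2le c hc]
  have hsca : s (c * a) = v := by
    rcases hV (c * a) h3ca with h0 | h0 | h0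
    · rw [h0] at htca
      exfalso
      apply one_ne_zero_c1 ha
      have : ((0 : ℕ) : ZMod a) = -1 := htca
      push_cast at this
      linear_combination this
    · exact h0
    · rw [h0, hv'a] at htca
      exfalso
      apply two_ne_zero_c1 ha ha2
      linear_combination htca
  have hFca_c : ((1 + v' + v + s (c * a) : ℕ) : ZMod c) = 0 := by
    rw [ZMod.natCast_eq_zero_iff]; exact (Dvd.intro _ rfl : c ∣ c * a).trans hFca
  rw [hsca] at hFca_c
  push_cast at hFca_c
  have hvc : (v : ZMod c) = 0 := by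
    have h2v : (2 : ZMod c) * (v : ZMod c) = 0 := by linear_combination hFca_c - hv'c
    rcases mul_eq_zero.mp h2v with h0 | h0
    · exact absurd h0 (two_ne_zero_c1 hc hc2)
    · exact h0
  -- Frobenius at c b
  have hv'b : (v' : ZMod b) = 1 := by
    have hFab_b : ((1 + v + v + s (a * b) : ℕ) : ZMod b) = 0 := by
      rw [ZMod.natCast_eq_zero_iff]; exact (Dvd.intro_left _ rfl : b ∣ a * b).trans hFab
    rw [hsab] at hFab_b
    push_cast at hFab_b
    linear_combination hFab_b - 2 * hvb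
  have hFcb := frob_two_c1 h hc hb (Ne.symm hbc) hcbN
  rw [hsb, hsc] at hFcb
  have hFcb_b : ((1 + v' + v + s (c * b) : ℕ) : ZMod b) = 0 := by
    rw [ZMod.natCast_eq_zero_iff]; exact (Dvd.intro_left _ rfl : b ∣ c * b).trans hFcb
  push_cast at hFcb_b
  have htcb : (s (c * b) : ZMod b) = -1 := by linear_combination hFcb_b - hvb - hv'b
  have h3cb : 3 ≤ c * b := by nlinarith [h2le b hb, h2le c hc]
  have hscb : s (c * b) = v := by
    rcases hV (c * b) h3cb with h0 | h0 | h0
    · rw [h0] at htcb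
      exfalso
      apply one_ne_zero_c1 hb
      have : ((0 : ℕ) : ZMod b) = -1 := htcb
      push_cast at this
      linear_combination this
    · exact h0
    · rw [h0, hv'b] at htcb
      exfalso
      apply two_ne_zero_c1 hb hb2
      linear_combination htcb
  -- Frobenius at a b c
  have hF3 := frob_three_c1 h ha hb hc hab hac hbc habcN
  have e1 : a * c = c * a := mul_comm _ _
  have e2 : b * c = c * b := mul_comm _ _
  rw [hsa, hsb, hsc, hsab, e1, e2, hsca, hscb] at hF3
  have hF3_c : ((1 + v + v + v' + v' + v + v + s (a * b * c) : ℕ) : ZMod c) = 0 := by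
    rw [ZMod.natCast_eq_zero_iff]; exact (Dvd.intro_left _ rfl : c ∣ a * b * c).trans hF3
  push_cast at hF3_c
  have ht3 : (s (a * b * c) : ZMod c) = 1 := by linear_combination hF3_c - 4 * hvc - 2 * hv'c
  have h3abc : 3 ≤ a * b * c := by nlinarith [h2le a ha, h2le b hb, h2le c hc, h3ab]
  rcases hV (a * b * c) h3abc with h0 | h0 | h0
  · rw [h0] at ht3
    exact absurd (by exact_mod_cast ht3.symm) (one_ne_zero_c1 hc)
  · rw [h0, hvc] at ht3
    exact absurd ht3.symm (one_ne_zero_c1 hc)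
  · rw [h0, hv'c] at ht3
    apply two_ne_zero_c1 hc hc2
    linear_combination -ht3

/-- **C1** (helper22's plan of S3996): `N` odd: three distinct primes have the same count -/
theorem C1_uniform {N : ℕ} {s : ℕ → ℕ} (h : NseSys N s) (hodd : Odd N) (m n : ℕ)
    (hV : ∀ d, 3 ≤ d → s d = 0 ∨ s d = m ∨ s d = n)
    (p q r : ℕ) (hp : p.Prime) (hq : q.Prime) (hr : r.Prime) (hpq : p ≠ q) (hpr : p ≠ r) (hqr : q ≠ r)
    (hpN : p ∣ N) (hqN : q ∣ N) (hrN : r ∣ N) : s p = s q ∧ s q = s r := by
  have hne2 : ∀ x : ℕ, x ∣ N → x ≠ 2 := by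
    rintro x hx rfl
    exact (Nat.not_even_iff_odd.mpr hodd) (even_iff_two_dvd.mpr hx)
  have hp2 := hne2 p hpN
  have hq2 := hne2 q hqN
  have hr2 := hne2 r hrN
  have h3 : ∀ x : ℕ, x.Prime → x ≠ 2 → 3 ≤ x := by
    intro x hx hx2
    have := hx.two_le
    omega
  have hval : ∀ x : ℕ, x.Prime → x ∣ N → s x = m ∨ s x = n := by
    intro x hx hxN
    rcases hV x (h3 x hx (hne2 x hxN)) with h0 | h0 | h0
    · exact absurd h0 (h.cauchy x hx hxN)
    · exact Or.inl h0
    · exact Or.inr h0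
  -- the reformulated value hypothesis for a pair of distinct values
  have hV' : ∀ v v' : ℕ, (v = m ∨ v = n) → (v' = m ∨ v' = n) → v ≠ v' →
      ∀ d, 3 ≤ d → s d = 0 ∨ s d = v ∨ s d = v' := by
    intro v v' hv hv' hne d hd
    rcases hV d hd with h0 | h0 | h0
    · exact Or.inl h0
    · rcases hv with rfl | rfl
      · exact Or.inr (Or.inl h0)
      · rcases hv' with rfl | rfl
        · exact Or.inr (Or.inr h0)
        · exact absurd rfl hne
    · rcases hv with rfl | rfl
      · rcases hv' with rfl | rfl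
        · exact absurd rfl hne
        · exact Or.inr (Or.inr h0)
      · exact Or.inr (Or.inl h0)
  by_cases h1 : s p = s q
  · by_cases h2 : s q = s r
    · exact ⟨h1, h2⟩
    · exfalso
      exact core_c1 h (s p) (s r)
        (hV' _ _ (hval p hp hpN) (hval r hr hrN) (by rw [h1]; exact h2))
        p q r hp hq hr hp2 hq2 hr2 hpq hpr hqr hpN hqN hrN rfl h1.symm rfl
  · exfalso
    by_cases h2 : s r = s p
    · exact core_c1 h (s p) (s q)
        (hV' _ _ (hval p hp hpN) (hval q hq hqN) h1)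
        p r q hp hr hq hp2 hr2 hq2 hpr hpq (Ne.symm hqr) hpN hrN hqN rfl h2 rfl
    · have h3' : s r = s q := by
        rcases hval p hp hpN with e1 | e1 <;> rcases hval q hq hqN with e2 | e2 <;>
          rcases hval r hr hrN with e3 | e3 <;> simp_all
      exact core_c1 h (s q) (s p)
        (hV' _ _ (hval q hq hqN) (hval p hp hpN) (Ne.symm h1))
        q r p hq hr hp hq2 hr2 hp2 hqr (Ne.symm hpq) (Ne.symm hpr) hqN hrN hpN rfl h3' rfl

end Cfsg.Agent.Lib.Helper24.SOT
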