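import Mathlib
import Cfsg.Agent.Lib.Helper12.NseA
import Cfsg.Agent.Lib.Helper24.SOTC1

/-!
S4004, leaf E1 (helper18's plan `notes/S4004_leaves.lean`): over an `NseSys` of odd `N = p^a q^b` with three values and the two
group-theoretic inputs `H1`, `H2`, every order that occurs is `1`, `p` or `q`.  Pure arithmetic.
-/

set_option autoImplicit false

namespace Cfsg.Agent.Lib.Helper24.SOT4
open Cfsg.Agent.Lib.Helper12.Nse Cfsg.Agent.Lib.Helper24.SOT

/-- `s (a ^ 2) = 0` in the situation of E1 (case `s (a b) = 0`) -/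
theorem sq_zero_e1 {N : ℕ} {s : ℕ → ℕ} (h : NseSys N s)
    (a b : ℕ) (ha : a.Prime) (hb : b.Prime) (hab : a ≠ b) (haN : a ∣ N) (hbN : b ∣ N)
    (hV : ∀ d, 3 ≤ d → s d = 0 ∨ s d = s a ∨ s d = s b)
    (H2 : ∀ r d : ℕ, r.Prime → r ∣ N → Nat.Coprime r d → ¬ r ∣ s d → s (r * d) ≠ 0)
    (ht : s (a * b) = 0) : s (a ^ 2) = 0 := by
  by_contra hne0
  have haa : a ^ 2 ∣ N := h.dvd _ hne0
  have h1 : a ∣ 1 + s a := frob_prime_c1 h ha haN
  have h1b : b ∣ 1 + s b := frob_prime_c1 h hb hbN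
  have hF := h.frob (a ^ 2) haa
  rw [Nat.sum_divisors_prime_pow ha] at hF
  simp only [Finset.sum_range_succ, Finset.sum_range_zero, pow_zero, pow_one, zero_add, h.m_one] at hF
  have h2 : a ∣ 1 + s a + s (a ^ 2) := (Dvd.intro _ (pow_two a).symm : a ∣ a ^ 2).trans hF
  have h3 : a ∣ s (a ^ 2) := (Nat.dvd_add_right h1).mp h2
  have h3le : 3 ≤ a ^ 2 := by nlinarith [ha.two_le]
  rcases hV (a ^ 2) h3le with h0 | h0 | h0
  · exact hne0 h0
  · rw [h0] at h3
    have : a ∣ 1 := (Nat.dvd_add_left h3).mp h1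
    exact ha.one_lt.ne' (Nat.dvd_one.mp this)
  · -- s (a^2) = s b, b does not divide it
    have hnb : ¬ b ∣ s (a ^ 2) := by
      rw [h0]
      intro hd
      have : b ∣ 1 := (Nat.dvd_add_left hd).mp h1b
      exact hb.one_lt.ne' (Nat.dvd_one.mp this)
    have hcop : Nat.Coprime b (a ^ 2) :=
      Nat.Coprime.pow_right 2 ((Nat.coprime_primes hb ha).mpr (Ne.symm hab))
    have h4 := H2 b (a ^ 2) hb hbN hcop hnb
    have h5 : s (a * b) ≠ 0 := by
      apply h.closed (b * a ^ 2) (a * b) h4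
      exact ⟨a, by ring⟩
    exact h5 ht

/-- **E1** (helper18's plan of S4004) -/
theorem E1_orders {N : ℕ} {s : ℕ → ℕ} (h : NseSys N s) (hodd : Odd N)
    (p q : ℕ) (hp : p.Prime) (hq : q.Prime) (hpq : p ≠ q) (hN : N.primeFactors = {p, q})
    (hV : ∀ d, 3 ≤ d → s d = 0 ∨ s d = s p ∨ s d = s q) (hne : s p ≠ s q)
    (H1 : ∀ a b : ℕ, a.Prime → b.Prime → a ≠ b → 3 ≤ b → ¬ a ∣ s b → 2 * s a ≤ s (a * b))
    (H2 : ∀ r d : ℕ, r.Prime → r ∣ N → Nat.Coprime r d → ¬ r ∣ s d → s (r * d) ≠ 0) :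
    ∀ d, s d ≠ 0 → d = 1 ∨ d = p ∨ d = q := by
  have hpN : p ∣ N := by
    have : p ∈ N.primeFactors := by rw [hN]; simp
    exact Nat.dvd_of_mem_primeFactors this
  have hqN : q ∣ N := by
    have : q ∈ N.primeFactors := by rw [hN]; simp
    exact Nat.dvd_of_mem_primeFactors this
  have hne2 : ∀ x : ℕ, x ∣ N → x ≠ 2 := by
    rintro x hx rfl
    exact (Nat.not_even_iff_odd.mpr hodd) (even_iff_two_dvd.mpr hx)
  have hp3 : 3 ≤ p := by
    have := hp.two_le; have := hne2 p hpN; omega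
  have hq3 : 3 ≤ q := by
    have := hq.two_le; have := hne2 q hqN; omega
  have hm0 : s p ≠ 0 := h.cauchy p hp hpN
  have hn0 : s q ≠ 0 := h.cauchy q hq hqN
  have h1p : p ∣ 1 + s p := frob_prime_c1 h hp hpN
  have h1q : q ∣ 1 + s q := frob_prime_c1 h hq hqN
  have hpqN : p * q ∣ N :=
    Nat.Coprime.mul_dvd_of_dvd_of_dvd ((Nat.coprime_primes hp hq).mpr hpq) hpN hqN
  have hF := frob_two_c1 h hp hq hpq hpqN
  -- p ∣ s q + s (p q),  q ∣ s p + s (p q)
  have hFp : p ∣ s q + s (p * q) := by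
    have h2 : p ∣ (1 + s p) + (s q + s (p * q)) := by
      have e : (1 + s p) + (s q + s (p * q)) = 1 + s p + s q + s (p * q) := by ring
      rw [e]; exact (Dvd.intro _ rfl : p ∣ p * q).trans hF
    exact (Nat.dvd_add_right h1p).mp h2
  have hFq : q ∣ s p + s (p * q) := by
    have h2 : q ∣ (1 + s q) + (s p + s (p * q)) := by
      have e : (1 + s q) + (s p + s (p * q)) = 1 + s p + s q + s (p * q) := by ring
      rw [e]; exact (Dvd.intro_left _ rfl : q ∣ p * q).trans hF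
    exact (Nat.dvd_add_right h1q).mp h2
  have h3pq : 3 ≤ p * q := by nlinarith
  have ht : s (p * q) = 0 := by
    rcases hV (p * q) h3pq with h0 | h0 | h0
    · exact h0
    · -- s (p q) = s p
      exfalso
      rw [h0] at hFp
      have hnd : ¬ p ∣ s q := by
        intro hd
        have h4 : p ∣ s p := (Nat.dvd_add_right hd).mp hFp
        have : p ∣ 1 := (Nat.dvd_add_left h4).mp h1p
        exact hp.one_lt.ne' (Nat.dvd_one.mp this)
      have h5 := H1 p q hp hq hpq hq3 hnd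
      rw [h0] at h5
      omega
    · -- s (p q) = s q
      exfalso
      rw [h0] at hFq
      have hnd : ¬ q ∣ s p := by
        intro hd
        have h4 : q ∣ s q := (Nat.dvd_add_right hd).mp hFq
        have : q ∣ 1 := (Nat.dvd_add_left h4).mp h1q
        exact hq.one_lt.ne' (Nat.dvd_one.mp this)
      have h5 := H1 q p hq hp (Ne.symm hpq) hp3 hnd
      rw [mul_comm q p, h0] at h5
      omega
  have hpp : s (p ^ 2) = 0 := sq_zero_e1 h p q hp hq hpq hpN hqN hV H2 ht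
  have hqq : s (q ^ 2) = 0 := by
    apply sq_zero_e1 h q p hq hp (Ne.symm hpq) hqN hpN _ H2 (by rw [mul_comm]; exact ht)
    intro d hd
    rcases hV d hd with h0 | h0 | h0
    · exact Or.inl h0
    · exact Or.inr (Or.inr h0)
    · exact Or.inr (Or.inl h0)
  -- the final classification of d
  intro d hd
  have hdN : d ∣ N := h.dvd d hd
  have hnpq : ¬ p * q ∣ d := fun hdv => h.closed d (p * q) hd hdv ht
  have hnpp : ¬ p ^ 2 ∣ d := fun hdv => h.closed d (p ^ 2) hd hdv hpp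
  have hnqq : ¬ q ^ 2 ∣ d := fun hdv => h.closed d (q ^ 2) hd hdv hqq
  have hprime : ∀ x : ℕ, x.Prime → x ∣ N → x = p ∨ x = q := by
    intro x hx hxN
    have : x ∈ N.primeFactors := Nat.mem_primeFactors.mpr ⟨hx, hxN, h.Npos.ne'⟩
    rw [hN] at this
    simpa using this
  by_cases hd1 : d = 1
  · exact Or.inl hd1
  obtain ⟨x, hx, hxd⟩ := Nat.exists_prime_and_dvd hd1
  obtain ⟨e, rfl⟩ := hxd
  have hxN : x ∣ N := (Dvd.intro _ rfl : x ∣ x * e).trans hdN
  have heN : e ∣ N := (Dvd.intro_left _ rfl : e ∣ x * e).trans hdN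
  by_cases he1 : e = 1
  · subst he1
    rw [mul_one]
    rcases hprime x hx hxN with rfl | rfl
    · exact Or.inr (Or.inl rfl)
    · exact Or.inr (Or.inr rfl)
  · exfalso
    obtain ⟨y, hy, hye⟩ := Nat.exists_prime_and_dvd he1
    obtain ⟨e', rfl⟩ := hye
    have hyN : y ∣ N := (Dvd.intro _ rfl : y ∣ y * e').trans heN
    rcases hprime x hx hxN with rfl | rfl <;> rcases hprime y hy hyN with rfl | rfl
    · exact hnpp ⟨e', by ring⟩
    · exact hnpq ⟨e', by ring⟩
    · exact hnpq ⟨e', by ring⟩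
    · exact hnqq ⟨e', by ring⟩

end Cfsg.Agent.Lib.Helper24.SOT4
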