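import Mathlib
import Cfsg.Agent.Lib.Helper18.UNdDefs
import Cfsg.Agent.Lib.Helper18.UDenseMain
import Cfsg.Agent.Lib.Helper14.Unitary2

/-!
S5655 (SU_n C2), k = 1, q ≥ 3, non-dense chain, leaf FILL (`mem_Sset_of_tv`, helper18's market): one
unitary transvection with centre `z` in `M` (+ the monomial torus) gives the full root group of `z`.
-/

set_option autoImplicit false
set_option linter.unusedSectionVars false
set_option linter.unusedVariables false

namespace Cfsg.Agent.Lib.Helper24.UNdLeaf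
open Cfsg Matrix Cfsg.Agent.Lib.Helper11.Mono Cfsg.Agent.Lib.Helper15.MonoLeaf
  Cfsg.Agent.Lib.Helper2.MonoLeaf Cfsg.Agent.Lib.Helper5.SUMax Cfsg.Agent.Lib.Helper5.HermBridge
  Cfsg.Agent.Lib.Helper5.UForm Cfsg.Agent.Lib.Helper18.UNd Cfsg.Agent.Lib.Helper5.SpMax

variable {F : Type*} [Field F] [Fintype F] {n q : ℕ}

/-- `M` contains the unitary transvection with centre `s` and parameter `c` -/
def TM (n q : ℕ) (M : Subgroup (GL (Fin n) F)) (s : Fin n → F) (c : F) : Prop :=
  ∀ g : GL (Fin n) F,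
    (∀ x, (g : Matrix (Fin n) (Fin n) F) *ᵥ x = x + (c * Cfsg.hermForm n F q x s) • s) → g ∈ M

lemma TM_of_mem {M : Subgroup (GL (Fin n) F)} {s : Fin n → F} {c : F} {g : GL (Fin n) F}
    (hg : g ∈ M)
    (hgx : ∀ x, (g : Matrix (Fin n) (Fin n) F) *ᵥ x = x + (c * Cfsg.hermForm n F q x s) • s) :
    TM n q M s c := by
  intro g' hg'
  have : g' = g := Units.ext (Cfsg.Agent.Lib.Helper5.SpMax.mat_eq_of_mulVec (fun x => by rw [hg', hgx]))
  rw [this]
  exact hg

/-- transport by an element of `M ⊓ GU` -/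
lemma TM_mulVec {M : Subgroup (GL (Fin n) F)} {h : GL (Fin n) F} (hhM : h ∈ M)
    (hhU : h ∈ Cfsg.GU n F q) {s : Fin n → F} {c : F} (hs : TM n q M s c) :
    TM n q M ((h : Matrix (Fin n) (Fin n) F) *ᵥ s) c := by
  intro t ht
  have h1 : h⁻¹ * t * h ∈ M := hs _ (fun x => by
    rw [Units.val_mul, Units.val_mul, ← Matrix.mulVec_mulVec, ← Matrix.mulVec_mulVec, ht,
      Matrix.mulVec_add, Matrix.mulVec_smul, inv_mul_mulVec, inv_mul_mulVec, mem_GU.mp hhU])
  have h2 : t = h * (h⁻¹ * t * h) * h⁻¹ := by group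
  rw [h2]
  exact M.mul_mem (M.mul_mem hhM h1) (M.inv_mem hhM)

/-- scaling the centre -/
lemma TM_of_smul (hF : Fintype.card F = q ^ 2) {M : Subgroup (GL (Fin n) F)} {s : Fin n → F}
    {c κ : F} (hs : TM n q M (κ • s) c) : TM n q M s (c * (κ * κ ^ q)) := by
  have hf := herm_unitary (n := n) hF
  intro t ht
  apply hs t
  intro x
  rw [ht, u_smul_right hf, smul_smul, frobQ_apply]
  congr 1
  ring

/-- sums of parameters -/
lemma TM_add (hF : Fintype.card F = q ^ 2) {M : Subgroup (GL (Fin n) F)} {s : Fin n → F}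
    (hss : Cfsg.hermForm n F q s s = 0) {c c' : F} (hc : frobQ hF c = -c)
    (hc' : frobQ hF c' = -c') (h1 : TM n q M s c) (h2 : TM n q M s c') : TM n q M s (c + c') := by
  have hf := herm_unitary (n := n) hF
  obtain ⟨g₁, -, hg₁⟩ := exists_tvg hF hss hc
  obtain ⟨g₂, -, hg₂⟩ := exists_tvg hF hss hc'
  apply TM_of_mem (M.mul_mem (h1 g₁ hg₁) (h2 g₂ hg₂))
  intro x
  rw [Units.val_mul, ← Matrix.mulVec_mulVec, hg₂, hg₁, hf.add_left, hf.smul_left, hss, mul_zero,
    add_zero, add_assoc, ← add_smul]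
  congr 2
  ring

lemma TM_neg (hF : Fintype.card F = q ^ 2) {M : Subgroup (GL (Fin n) F)} {s : Fin n → F}
    (hss : Cfsg.hermForm n F q s s = 0) {c : F} (hc : frobQ hF c = -c)
    (h1 : TM n q M s c) : TM n q M s (-c) := by
  have hf := herm_unitary (n := n) hF
  obtain ⟨g₁, -, hg₁⟩ := exists_tvg hF hss hc
  apply TM_of_mem (M.inv_mem (h1 g₁ hg₁))
  intro x
  have h3 : (g₁ : Matrix (Fin n) (Fin n) F) *ᵥ (x + (-c * Cfsg.hermForm n F q x s) • s) = x := by
    rw [hg₁, hf.add_left, hf.smul_left, hss, mul_zero, add_zero, add_assoc, ← add_smul]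
    have : -c * Cfsg.hermForm n F q x s + c * Cfsg.hermForm n F q x s = 0 := by ring
    rw [this, zero_smul, add_zero]
  have h4 := congrArg (fun v => ((g₁⁻¹ : GL (Fin n) F) : Matrix (Fin n) (Fin n) F) *ᵥ v) h3
  simp only [inv_mul_mulVec] at h4
  exact h4.symm

lemma TM_zero {M : Subgroup (GL (Fin n) F)} (s : Fin n → F) : TM n q M s 0 := by
  apply TM_of_mem M.one_mem
  intro x
  rw [Units.val_one, Matrix.one_mulVec, zero_mul, zero_smul, add_zero]

/-- the form of `z` and `z` with one coordinate changed -/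
lemma herm_update (z : Fin n → F) (l : Fin n) (y : Fin n → F) (hy : ∀ j, j ≠ l → y j = z j) :
    Cfsg.hermForm n F q z y = Cfsg.hermForm n F q z z + z l * (y l ^ q - z l ^ q) := by
  unfold Cfsg.hermForm
  have : ∀ j, z j * y j ^ q = z j * z j ^ q + (if j = l then z l * (y l ^ q - z l ^ q) else 0) := by
    intro j
    by_cases hj : j = l
    · rw [if_pos hj, hj]
      ring
    · rw [if_neg hj, hy j hj, add_zero]
  rw [Finset.sum_congr rfl (fun j _ => this j), Finset.sum_add_distrib, Finset.sum_ite_eq']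
  simp

lemma frobQ_norm (hF : Fintype.card F = q ^ 2) (a : F) : frobQ hF (a ^ (q + 1)) = a ^ (q + 1) := by
  rw [frobQ_apply, ← pow_mul]
  have : (q + 1) * q = q ^ 2 + q := by ring
  rw [this, pow_add, ← hF, FiniteField.pow_card, pow_succ]
  ring

lemma frobQ_inv_of_normOne (hF : Fintype.card F = q ^ 2) {ξ : Fˣ} (hξ : ξ ^ (q + 1) = 1) :
    frobQ hF ((ξ⁻¹ : Fˣ) : F) = (ξ : F) := by
  have h1 : (ξ : F) ^ (q + 1) = 1 := by
    have := congrArg Units.val hξ
    rwa [Units.val_pow_eq_pow_val, Units.val_one] at this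
  rw [frobQ_apply, Units.val_inv_eq_inv_val, inv_pow]
  have hξ0 : (ξ : F) ≠ 0 := ξ.ne_zero
  rw [inv_eq_iff_eq_inv]
  have h2 : (ξ : F) ^ q * ξ = 1 := by rw [← pow_succ]; exact h1
  exact eq_inv_of_mul_eq_one_left h2


/-- the multiplier `κ_ξ = 1 + c₀ x (ξ⁻¹ - 1)` -/
def kap (c₀ x : F) (ξ : Fˣ) : F := 1 + c₀ * x * (((ξ⁻¹ : Fˣ) : F) - 1)

lemma frobQ_kap (hF : Fintype.card F = q ^ 2) {c₀ : F} (hc₀ : frobQ hF c₀ = -c₀) (a : F) {ξ : Fˣ}
    (hξ : ξ ^ (q + 1) = 1) :
    frobQ hF (kap c₀ (a ^ (q + 1)) ξ) = 1 - c₀ * a ^ (q + 1) * ((ξ : F) - 1) := by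
  unfold kap
  rw [map_add, map_mul, map_mul, map_sub, map_one, hc₀, frobQ_norm, frobQ_inv_of_normOne hF hξ]
  ring

/-- the main step: the set of parameters is stable under multiplication by `N(κ_ξ)` -/
lemma TM_mul_norm (hF : Fintype.card F = q ^ 2) (M : Subgroup (GL (Fin n) F))
    (hH : ContainsMonoU n q M)
    (i l : Fin n) (hli : l ≠ i) (z : Fin n → F) (hzi : z i = 0) (hzl : z l ≠ 0)
    (hzz : Cfsg.hermForm n F q z z = 0) {c₀ : F} (hc₀ : frobQ hF c₀ = -c₀)
    (h₀ : TM n q M z c₀) {ξ : Fˣ} (hξ : ξ ^ (q + 1) = 1) {c : F} (hc : TM n q M z c) :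
    TM n q M z (c * (kap c₀ (z l ^ (q + 1)) ξ * kap c₀ (z l ^ (q + 1)) ξ ^ q)) := by
  have hf := herm_unitary (n := n) hF
  set x := z l ^ (q + 1) with hx
  set κ := kap c₀ x ξ with hκ
  have hκq : κ ^ q = 1 - c₀ * x * ((ξ : F) - 1) := by
    rw [← frobQ_apply hF, hκ, hx, frobQ_kap hF hc₀ (z l) hξ]
  -- the torus element
  set d := (dg (tcc l i ξ) : GL (Fin n) F) with hd
  have hdM : d ∈ M := dg_tcc_mem_M hH hli hξ
  have hdU : d ∈ Cfsg.GU n F q := (dg_tcc_mem hli hξ).1
  set zξ := (d : Matrix (Fin n) (Fin n) F) *ᵥ z with hzξ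
  have hzξ_apply : ∀ j, zξ j = if j = l then (ξ : F) * z j else z j := by
    intro j
    rw [hzξ, hd, dg_tcc_mulVec hli]
    beta_reduce
    by_cases hjl : j = l
    · rw [if_pos hjl, if_pos hjl]
    · rw [if_neg hjl, if_neg hjl]
      by_cases hji : j = i
      · rw [if_pos hji, hji, hzi, mul_zero]
      · rw [if_neg hji]
  have hzξzξ : Cfsg.hermForm n F q zξ zξ = 0 := by
    rw [hzξ, mem_GU.mp hdU, hzz]
  have h1 : TM n q M zξ c₀ := TM_mulVec hdM hdU h₀
  obtain ⟨t, htG, ht⟩ := exists_tvg hF hzξzξ hc₀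
  have htM : t ∈ M := h1 t ht
  have h2 : TM n q M ((t : Matrix (Fin n) (Fin n) F) *ᵥ z) c := TM_mulVec htM htG.1 hc
  -- the form
  have hform : Cfsg.hermForm n F q z zξ = x * (((ξ⁻¹ : Fˣ) : F) - 1) := by
    rw [herm_update z l zξ (fun j hj => by rw [hzξ_apply, if_neg hj]), hzz, zero_add, hzξ_apply,
      if_pos rfl, mul_pow, ← frobQ_apply hF (ξ : F)]
    have : frobQ hF (ξ : F) = ((ξ⁻¹ : Fˣ) : F) := by
      have h3 := frobQ_inv_of_normOne hF hξ
      have h4 := congrArg (frobQ hF) h3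
      rw [hf.involutive] at h4
      exact h4.symm
    rw [this, hx, pow_succ]
    ring
  -- `κ ≠ 0`
  have hw : ∀ j, ((t : Matrix (Fin n) (Fin n) F) *ᵥ z) j
      = if j = l then κ ^ q * z j else κ * z j := by
    intro j
    rw [ht, hform, Pi.add_apply, Pi.smul_apply, smul_eq_mul, hzξ_apply]
    by_cases hjl : j = l
    · rw [if_pos hjl, if_pos hjl, hκq]
      have hξinv : ((ξ⁻¹ : Fˣ) : F) * (ξ : F) = 1 := by
        rw [← Units.val_mul, inv_mul_cancel, Units.val_one]
      linear_combination (c₀ * x * z j) * hξinv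
    · rw [if_neg hjl, if_neg hjl, hκ]
      unfold kap
      ring
  have hκ0 : κ ≠ 0 := by
    intro h0
    have h3 : (t : Matrix (Fin n) (Fin n) F) *ᵥ z = 0 := by
      funext j
      rw [hw j, h0]
      have hq0 : q ≠ 0 := by
        rintro rfl
        have := Fintype.card_pos (α := F)
        rw [hF] at this
        simp at this
      rw [zero_pow hq0]
      split_ifs <;> simp
    have h4 : z = 0 := by
      rw [← inv_mul_mulVec t z, h3, Matrix.mulVec_zero]
    apply hzl
    rw [h4]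
    rfl
  -- the second torus element
  have hκq0 : κ ^ q ≠ 0 := pow_ne_zero _ hκ0
  set ξ' : Fˣ := Units.mk0 (κ ^ q / κ) (div_ne_zero hκq0 hκ0) with hξ'
  have hξ'n : ξ' ^ (q + 1) = 1 := by
    apply Units.ext
    rw [Units.val_pow_eq_pow_val, Units.val_one, hξ', Units.val_mk0, div_pow, ← pow_mul]
    have : q * (q + 1) = q ^ 2 + q := by ring
    rw [this, pow_add, ← hF, FiniteField.pow_card, pow_succ]
    field_simp
  set d' := (dg (tcc l i ξ') : GL (Fin n) F) with hd'
  have hd'M : d' ∈ M := dg_tcc_mem_M hH hli hξ'n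
  have hd'U : d' ∈ Cfsg.GU n F q := (dg_tcc_mem hli hξ'n).1
  have h5 : (t : Matrix (Fin n) (Fin n) F) *ᵥ z = κ • ((d' : Matrix (Fin n) (Fin n) F) *ᵥ z) := by
    funext j
    rw [hw j, Pi.smul_apply, smul_eq_mul, hd', dg_tcc_mulVec hli]
    beta_reduce
    by_cases hjl : j = l
    · rw [if_pos hjl, if_pos hjl, hξ', Units.val_mk0]
      field_simp
    · rw [if_neg hjl, if_neg hjl]
      by_cases hji : j = i
      · rw [if_pos hji, hji, hzi, mul_zero, mul_zero, mul_zero]
      · rw [if_neg hji]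
  rw [h5] at h2
  have h6 := TM_of_smul hF h2
  have h7 := TM_mulVec (M.inv_mem hd'M) ((Cfsg.GU n F q).inv_mem hd'U) h6
  rwa [inv_mul_mulVec] at h7


/-! ### counting -/

/-- the additive group of skew elements -/
def skewGrp (hF : Fintype.card F = q ^ 2) : AddSubgroup F where
  carrier := {c | frobQ hF c = -c}
  add_mem' := by
    intro a b ha hb
    change frobQ hF (a + b) = -(a + b)
    rw [map_add, ha, hb]
    ring
  zero_mem' := by
    change frobQ hF 0 = -0
    rw [map_zero, neg_zero]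
  neg_mem' := by
    intro a ha
    change frobQ hF (-a) = - -a
    rw [map_neg, ha]

lemma two_le_q (hF : Fintype.card F = q ^ 2) : 2 ≤ q := by
  have h1 := Fintype.one_lt_card (α := F)
  rw [hF] at h1
  by_contra hcon
  push Not at hcon
  interval_cases q <;> simp at h1

/-- there are at most `q` skew elements -/
lemma card_skewGrp_le (hF : Fintype.card F = q ^ 2) : Nat.card (skewGrp hF) ≤ q := by
  classical
  have hq := two_le_q hF
  set P : Polynomial F := Polynomial.X ^ q + Polynomial.X with hP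
  have hmon : P.Monic := by
    apply Polynomial.monic_X_pow_add
    rw [Polynomial.degree_X]
    exact_mod_cast (by omega : 1 < q)
  have hP0 : P ≠ 0 := hmon.ne_zero
  have hdeg : P.natDegree ≤ q := by
    refine le_trans (Polynomial.natDegree_add_le _ _) ?_
    rw [Polynomial.natDegree_X_pow, Polynomial.natDegree_X]
    omega
  have hsub : ((skewGrp hF : AddSubgroup F) : Set F) ⊆ (P.roots.toFinset : Set F) := by
    intro c hc
    have hc' : frobQ hF c = -c := hc
    rw [Finset.mem_coe, Multiset.mem_toFinset, Polynomial.mem_roots hP0, Polynomial.IsRoot, hP]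
    simp only [Polynomial.eval_add, Polynomial.eval_pow, Polynomial.eval_X]
    rw [← frobQ_apply hF, hc']
    ring
  calc Nat.card (skewGrp hF) = Set.ncard ((skewGrp hF : AddSubgroup F) : Set F) :=
        (Nat.card_coe_set_eq _)
    _ ≤ Set.ncard (P.roots.toFinset : Set F) := Set.ncard_le_ncard hsub (Finset.finite_toSet _)
    _ = P.roots.toFinset.card := Set.ncard_coe_finset _
    _ ≤ Multiset.card P.roots := Multiset.toFinset_card_le _
    _ ≤ P.natDegree := Polynomial.card_roots' P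
    _ ≤ q := hdeg

/-- the multiplier `m_ξ = N(κ_ξ)` as a function of `w = c₀ x` -/
lemma kap_norm (hF : Fintype.card F = q ^ 2) {c₀ : F} (hc₀ : frobQ hF c₀ = -c₀) (a : F) {ξ : Fˣ}
    (hξ : ξ ^ (q + 1) = 1) :
    kap c₀ (a ^ (q + 1)) ξ * kap c₀ (a ^ (q + 1)) ξ ^ q
      = (1 + c₀ * a ^ (q + 1) * (((ξ⁻¹ : Fˣ) : F) - 1)) * (1 - c₀ * a ^ (q + 1) * ((ξ : F) - 1)) := by
  rw [← frobQ_apply hF, frobQ_kap hF hc₀ a hξ]
  rfl

open scoped Classical in
/-- the fibres of `ξ ↦ m_ξ` have at most two elements -/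
lemma fibre_le_two (w : F) (hw0 : w ≠ 0) (hw1 : w ≠ 1) (S : Finset Fˣ) (m : F) :
    (S.filter (fun ξ : Fˣ =>
      (1 + w * (((ξ⁻¹ : Fˣ) : F) - 1)) * (1 - w * ((ξ : F) - 1)) = m)).card ≤ 2 := by
  classical
  set P : Polynomial F := Polynomial.C (w ^ 2 - w) * Polynomial.X ^ 2
    + Polynomial.C (1 - 2 * w ^ 2 - m) * Polynomial.X + Polynomial.C (w ^ 2 + w) with hP
  have hP0 : P ≠ 0 := by
    intro h0
    have h2 : P.coeff 2 = w ^ 2 - w := by
      rw [hP]
      simp only [Polynomial.coeff_add, Polynomial.coeff_C_mul_X_pow, Polynomial.coeff_C_mul_X,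
        Polynomial.coeff_C]
      norm_num
    have h0' : P.coeff 0 = w ^ 2 + w := by
      rw [hP]
      simp only [Polynomial.coeff_add, Polynomial.coeff_C_mul_X_pow, Polynomial.coeff_C_mul_X,
        Polynomial.coeff_C]
      norm_num
    rw [h0, Polynomial.coeff_zero] at h2 h0'
    have e1 : w * (w - 1) = 0 := by linear_combination -h2
    have e2 : w * (w + 1) = 0 := by linear_combination -h0'
    rcases mul_eq_zero.mp e1 with h | h
    · exact hw0 h
    · exact hw1 (sub_eq_zero.mp h)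
  have hdeg : P.natDegree ≤ 2 := Polynomial.natDegree_quadratic_le
  have hsub : ((S.filter (fun ξ : Fˣ =>
      (1 + w * (((ξ⁻¹ : Fˣ) : F) - 1)) * (1 - w * ((ξ : F) - 1)) = m)).image
        (fun ξ : Fˣ => (ξ : F))) ⊆ P.roots.toFinset := by
    intro y hy
    obtain ⟨ξ, hξ, rfl⟩ := Finset.mem_image.mp hy
    have hm := (Finset.mem_filter.mp hξ).2
    rw [Multiset.mem_toFinset, Polynomial.mem_roots hP0, Polynomial.IsRoot, hP]
    simp only [Polynomial.eval_add, Polynomial.eval_mul, Polynomial.eval_C, Polynomial.eval_pow,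
      Polynomial.eval_X]
    have hξinv : ((ξ⁻¹ : Fˣ) : F) * (ξ : F) = 1 := by
      rw [← Units.val_mul, inv_mul_cancel, Units.val_one]
    linear_combination (ξ : F) * hm - (w * (1 - w * ((ξ : F) - 1))) * hξinv
  have hinj : Function.Injective (fun ξ : Fˣ => (ξ : F)) := Units.val_injective
  rw [← Finset.card_image_of_injective _ hinj]
  calc _ ≤ P.roots.toFinset.card := Finset.card_le_card hsub
    _ ≤ Multiset.card P.roots := Multiset.toFinset_card_le _
    _ ≤ P.natDegree := Polynomial.card_roots' P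
    _ ≤ 2 := hdeg


lemma frobQ_mul_pow (hF : Fintype.card F = q ^ 2) (a : F) : frobQ hF (a * a ^ q) = a * a ^ q := by
  have := frobQ_norm hF a
  rwa [pow_succ', ] at this

/-- FILL: one transvection gives the full root group -/
theorem mem_Sset_of_tv (hF : Fintype.card F = q ^ 2) (M : Subgroup (GL (Fin n) F))
    (hM : M ≤ Cfsg.GU n F q ⊓ Cfsg.Geo.specialLinear (Fin n) F) (hH : ContainsMonoU n q M)
    (i l : Fin n) (hli : l ≠ i) (z : Fin n → F) (hzi : z i = 0) (hzl : z l ≠ 0)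
    (hzz : Cfsg.hermForm n F q z z = 0) (c : F) (hc0 : c ≠ 0) (hc : frobQ hF c = -c)
    (g : GL (Fin n) F) (hg : g ∈ M)
    (hgx : ∀ x : Fin n → F, (g : Matrix (Fin n) (Fin n) F) *ᵥ x = x + (c * Cfsg.hermForm n F q x z) • z)
    (hcl : c * z l ^ (q + 1) ≠ 1) : z ∈ Sset hF M := by
  classical
  have h₀ : TM n q M z c := TM_of_mem hg hgx
  -- the additive group of parameters
  let CC : AddSubgroup F :=
    { carrier := {c' | frobQ hF c' = -c' ∧ TM n q M z c'}
      add_mem' := by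
        intro a b ha hb
        refine ⟨?_, TM_add hF hzz ha.1 hb.1 ha.2 hb.2⟩
        rw [map_add, ha.1, hb.1]
        ring
      zero_mem' := ⟨by rw [map_zero, neg_zero], TM_zero z⟩
      neg_mem' := by
        intro a ha
        refine ⟨?_, TM_neg hF hzz ha.1 ha.2⟩
        rw [map_neg, ha.1] }
  have hCle : CC ≤ skewGrp hF := fun c' h => h.1
  set w := c * z l ^ (q + 1) with hw
  have hw0 : w ≠ 0 := mul_ne_zero hc0 (pow_ne_zero _ hzl)
  set mfun : Fˣ → F := fun ξ => (1 + w * (((ξ⁻¹ : Fˣ) : F) - 1)) * (1 - w * ((ξ : F) - 1)) with hmfun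
  set S : Finset Fˣ := Finset.univ.filter (fun ξ : Fˣ => ξ ^ (q + 1) = 1) with hS
  have hScard : S.card = q + 1 := by
    rw [← Cfsg.Agent.Lib.Helper14.card_normOne hF, hS, ← Fintype.card_subtype, ← Nat.card_eq_fintype_card]
    exact Nat.card_congr (Equiv.subtypeEquivRight (fun ξ => (Cfsg.Agent.Lib.Helper14.mem_normOne ξ).symm))
  have h1 : S.card ≤ 2 * (S.image mfun).card :=
    Finset.card_le_mul_card_image S 2 (fun b _ => fibre_le_two w hw0 hcl S b)
  have h2 : ∀ ξ ∈ S, c * mfun ξ ∈ CC := by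
    intro ξ hξ
    have hξ' : ξ ^ (q + 1) = 1 := (Finset.mem_filter.mp hξ).2
    have hk := kap_norm hF hc (z l) hξ'
    have hm : mfun ξ = kap c (z l ^ (q + 1)) ξ * kap c (z l ^ (q + 1)) ξ ^ q := by
      rw [hk]
    constructor
    · rw [map_mul, hc, hm, frobQ_mul_pow]
      ring
    · rw [hm]
      exact TM_mul_norm hF M hH i l hli z hzi hzl hzz hc h₀ hξ' h₀
  have h3 : (S.image mfun).card ≤ Nat.card CC := by
    have hsub : (fun b => c * b) '' ((S.image mfun : Finset F) : Set F) ⊆ (CC : Set F) := by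
      rintro _ ⟨b, hb, rfl⟩
      obtain ⟨ξ, hξ, rfl⟩ := Finset.mem_image.mp (Finset.mem_coe.mp hb)
      exact h2 ξ hξ
    have hinj : Function.Injective (fun b : F => c * b) := mul_right_injective₀ hc0
    calc (S.image mfun).card = Set.ncard ((S.image mfun : Finset F) : Set F) :=
          (Set.ncard_coe_finset _).symm
      _ = Set.ncard ((fun b => c * b) '' ((S.image mfun : Finset F) : Set F)) :=
          (Set.ncard_image_of_injective _ hinj).symm
      _ ≤ Set.ncard (CC : Set F) := Set.ncard_le_ncard hsub (Set.toFinite _)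
      _ = Nat.card CC := (Nat.card_coe_set_eq _).symm
  have h4 := card_skewGrp_le hF
  have h5 : Nat.card CC ∣ Nat.card (skewGrp hF) := AddSubgroup.card_dvd_of_le hCle
  have h6 : 0 < Nat.card (skewGrp hF) := Nat.card_pos
  have hCC : CC = skewGrp hF := by
    apply AddSubgroup.eq_of_le_of_card_ge hCle
    obtain ⟨k, hk⟩ := h5
    have hk1 : k = 1 := by
      rcases Nat.lt_or_ge k 2 with hk2 | hk2
      · interval_cases k
        · omega
        · rfl
      · exfalso
        have : 2 * Nat.card CC ≤ Nat.card CC * k := by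
          rw [mul_comm]
          exact Nat.mul_le_mul_left _ hk2
        omega
    rw [hk, hk1, mul_one]
  intro c' hc' g' hg'
  have hmem : c' ∈ skewGrp hF := hc'
  rw [← hCC] at hmem
  exact hmem.2 g' hg'

end Cfsg.Agent.Lib.Helper24.UNdLeaf
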