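/-
The degree of an irreducible character is at most the index of any abelian subgroup (helper24).
-/
import Mathlib
import Cfsg.Agent.Lib.Helper24.IrrFacts
import Cfsg.Agent.Lib.Lead.CharMore

set_option autoImplicit false

namespace Cfsg.Agent.Lib.Helper24

open Cfsg Cfsg.Agent.CharLib
open scoped ComplexConjugate

universe u

variable {G : Type u} [Group G]

/-- the norm of a character with multiplicities `m` is `∑ m²` -/
theorem classInner_self_of_decomp [Fintype G] [Fintype (IrrCharacter G)] (m : IrrCharacter G → ℕ) :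
    classInner (∑ ψ : IrrCharacter G, m ψ • (ψ : G → ℂ)) (∑ ψ : IrrCharacter G, m ψ • (ψ : G → ℂ)) =
      ((∑ ψ : IrrCharacter G, m ψ ^ 2 : ℕ) : ℂ) := by
  classical
  rw [classInner_sum_left]
  push_cast
  apply Finset.sum_congr rfl
  intro φ _
  rw [classInner_sum_right, Finset.sum_eq_single φ]
  · rw [← Nat.cast_smul_eq_nsmul ℂ, classInner_smul_left, classInner_smul_right, classInner_irr']
    simp
    ring
  · intro b _ hb
    rw [← Nat.cast_smul_eq_nsmul ℂ, ← Nat.cast_smul_eq_nsmul ℂ, classInner_smul_left, classInner_smul_right,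
      classInner_irr']
    simp [Ne.symm hb]
  · intro h; exact absurd (Finset.mem_univ _) h

/-- For a character `θ` of a finite abelian group, `⟨θ, θ⟩ ≥ θ(1)`: stated as `θ(1) ≤ n` where `⟨θ,θ⟩ = n`. -/
theorem exists_classInner_self_ge_of_comm [Fintype G] (hcomm : ∀ a b : G, a * b = b * a) {θ : G → ℂ}
    (hθ : IsCharacter G θ) : ∃ n d : ℕ, classInner θ θ = n ∧ θ 1 = d ∧ d ≤ n := by
  classical
  let _ := fintypeIrr G
  obtain ⟨m, hm⟩ := IsCharacter.exists_decomp hθ
  rw [finsum_eq_sum_of_fintype] at hm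
  have hlin := (comm_iff_forall_irr_apply_one (G := G)).mp hcomm
  refine ⟨∑ ψ : IrrCharacter G, m ψ ^ 2, ∑ ψ : IrrCharacter G, m ψ, ?_, ?_, ?_⟩
  · rw [hm]
    exact classInner_self_of_decomp m
  · rw [hm]
    simp only [Finset.sum_apply, Pi.smul_apply, hlin]
    simp
  · apply Finset.sum_le_sum
    intro ψ _
    nlinarith [Nat.zero_le (m ψ)]

/-- **Degree bound**: for an abelian subgroup `A` and an irreducible character `χ`, `|A| χ(1) ≤ |G|`. -/
theorem card_mul_charDegree_le_of_comm [Finite G] (A : Subgroup G) (hA : ∀ a ∈ A, ∀ b ∈ A, a * b = b * a)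
    (χ : IrrCharacter G) : Nat.card A * charDegree (χ : G → ℂ) ≤ Nat.card G := by
  classical
  let _ := Fintype.ofFinite G
  let _ : Fintype A := Fintype.ofFinite A
  have hres : IsCharacter A (fun a : A => (χ : G → ℂ) a) :=
    IsCharacter.restrict (IsIrrCharacter.isCharacter χ.2) A
  have hcommA : ∀ a b : A, a * b = b * a := fun a b => Subtype.ext (hA a a.2 b b.2)
  obtain ⟨n, d, hn, hd, hdn⟩ := exists_classInner_self_ge_of_comm hcommA hres
  have hd' : d = charDegree (χ : G → ℂ) := by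
    have h1 : (χ : G → ℂ) ((1 : A) : G) = d := hd
    rw [Subgroup.coe_one, irr_apply_one χ] at h1
    exact_mod_cast h1.symm
  -- compare norms
  have hG : classInner (χ : G → ℂ) (χ : G → ℂ) = 1 := by rw [classInner_irr' χ χ, if_pos rfl]
  have hsumG : ∑ g : G, Complex.normSq ((χ : G → ℂ) g) = (Nat.card G : ℝ) := by
    have h1 : (Nat.card G : ℂ)⁻¹ * ∑ g : G, (χ : G → ℂ) g * conj ((χ : G → ℂ) g) = 1 := hG
    have hne : (Nat.card G : ℂ) ≠ 0 := card_ne_zero_complex_of_finite
    have h2 : ∑ g : G, (χ : G → ℂ) g * conj ((χ : G → ℂ) g) = (Nat.card G : ℂ) := by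
      field_simp at h1
      exact h1
    have h3 : ((∑ g : G, Complex.normSq ((χ : G → ℂ) g) : ℝ) : ℂ) = ((Nat.card G : ℝ) : ℂ) := by
      push_cast
      rw [← h2]
      apply Finset.sum_congr rfl
      intro g _
      rw [Complex.mul_conj]
    exact_mod_cast h3
  have hsumA : ∑ a : A, Complex.normSq ((χ : G → ℂ) (a : G)) = (Nat.card A : ℝ) * (n : ℝ) := by
    have h1 : (Nat.card A : ℂ)⁻¹ * ∑ a : A, (χ : G → ℂ) (a : G) * conj ((χ : G → ℂ) (a : G)) = n := hn
    have hne : (Nat.card A : ℂ) ≠ 0 := card_ne_zero_complex_of_finite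
    have h2 : ∑ a : A, (χ : G → ℂ) (a : G) * conj ((χ : G → ℂ) (a : G)) = (Nat.card A : ℂ) * (n : ℂ) := by
      field_simp at h1
      rw [h1]
    have h3 : ((∑ a : A, Complex.normSq ((χ : G → ℂ) (a : G)) : ℝ) : ℂ) = (((Nat.card A : ℝ) * (n : ℝ) : ℝ) : ℂ) := by
      push_cast
      rw [← h2]
      apply Finset.sum_congr rfl
      intro g _
      rw [Complex.mul_conj]
    exact_mod_cast h3
  have hle : ∑ a : A, Complex.normSq ((χ : G → ℂ) (a : G)) ≤ ∑ g : G, Complex.normSq ((χ : G → ℂ) g) := by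
    have h1 : ∑ a : A, Complex.normSq ((χ : G → ℂ) (a : G)) =
        ∑ g ∈ Finset.univ.filter (fun g : G => g ∈ A), Complex.normSq ((χ : G → ℂ) g) := by
      rw [← Finset.sum_subtype (Finset.univ.filter (fun g : G => g ∈ A)) (p := fun g => g ∈ A)
        (fun g => by simp) (fun g => Complex.normSq ((χ : G → ℂ) g))]
    rw [h1]
    apply Finset.sum_le_sum_of_subset_of_nonneg (Finset.filter_subset _ _)
    intro g _ _
    exact Complex.normSq_nonneg _
  rw [hsumA, hsumG] at hle
  have h5 : (Nat.card A : ℝ) * (d : ℝ) ≤ (Nat.card G : ℝ) := by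
    have : (d : ℝ) ≤ (n : ℝ) := by exact_mod_cast hdn
    have hpos : (0 : ℝ) ≤ (Nat.card A : ℝ) := by positivity
    nlinarith
  rw [← hd']
  exact_mod_cast h5

end Cfsg.Agent.Lib.Helper24
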