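/-
helper24: S4637-SC sub-leaf (SCB): a block of a subgroup `H = ⊤` inducing `B` has the same
`p`-regular rank as `B` (twin of helper16's).
-/
import Mathlib
import Cfsg.Agent.S4650
import Cfsg.Agent.S4682
import Cfsg.Agent.Lib.Helper6.SubsectionCount
import Cfsg.Agent.Lib.Helper16.KleinSCA

set_option autoImplicit false

namespace Cfsg.Agent.Lib.Helper24.KleinSCB

open Cfsg Cfsg.Agent.CharLib Cfsg.Agent.Lib.Helper24 Cfsg.Agent.Lib.Helper6
open Cfsg.Agent.Lib.Helper16.KleinSCA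

universe u

theorem blockRank_eq_of_induced_top {G : Type u} [Group G] [Fintype G] {M : Ideal AlgInt} {p : ℕ}
    [hpp : Fact p.Prime] (hM : IsPModular p M) (H : Subgroup G) (hH : H = ⊤)
    (b : Set (IrrCharacter H)) (B : Set (IrrCharacter G)) (h : IsInducedBlock M H b B) :
    blockRank p b = blockRank p B := by
  classical
  subst hH
  have hprime : M.IsPrime := isPrime_of_isPModular hM
  let _ : Fintype (⊤ : Subgroup G) := Fintype.ofFinite _
  set ψ : (⊤ : Subgroup G) ≃* G := Subgroup.topEquiv with hψ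
  have hb := h.1
  have hB := h.2.1
  have hb' : IsPBlock M (BlockIso.pullBlock ψ B) := BlockIso.isPBlock_pullBlock ψ hB
  obtain ⟨ξ, hξ⟩ : ∃ ξ, ξ ∈ b := by
    obtain ⟨ξ₀, h0⟩ := hb
    exact ⟨ξ₀, by rw [h0]; exact mem_blockOf_self ξ₀⟩
  obtain ⟨χ₀, hχ₀⟩ : ∃ χ₀, χ₀ ∈ B := by
    obtain ⟨χ₁, h0⟩ := hB
    exact ⟨χ₁, by rw [h0]; exact mem_blockOf_self χ₁⟩
  have hmem : ξ ∈ BlockIso.pullBlock ψ B := by
    rw [BlockIso.mem_pullBlock_iff]
    have hBχ : B = blockOf M (χ₀ : G → ℂ) := isPBlock_eq_of_mem hB ⟨χ₀, rfl⟩ hχ₀ (mem_blockOf_self χ₀)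
    rw [hBχ]
    intro g
    have h1 := h.2.2 ξ hξ χ₀ hχ₀ g
    have h2 : inducedCentralChar (⊤ : Subgroup G) (ξ : (⊤ : Subgroup G) → ℂ) g =
        centralChar ((irrCompIso ψ.symm ξ : IrrCharacter G) : G → ℂ) g := by
      rw [inducedCentralChar_eq_omegaFun, ← omegaFun_classInd]
      unfold omegaFun
      have e1 : ((irrCompIso ψ.symm ξ : IrrCharacter G) : G → ℂ) 1 = (ξ : (⊤ : Subgroup G) → ℂ) 1 := by
        rw [irrCompIso_apply, map_one]
      rw [e1]
      congr 1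
      rw [← Equiv.sum_comp ψ.toEquiv]
      apply Finset.sum_congr rfl
      intro x _
      rw [resFun_apply, irrCompIso_apply]
      simp only [MulEquiv.toEquiv_eq_coe, EquivLike.coe_coe, MulEquiv.symm_apply_apply]
      rfl
    rw [h2] at h1
    have h3 := memLocalIdeal_neg h1
    rwa [neg_sub] at h3
  have e : b = BlockIso.pullBlock ψ B := isPBlock_eq_of_mem hb hb' hξ hmem
  rw [e, blockRank_pullBlock]

end Cfsg.Agent.Lib.Helper24.KleinSCB
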