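/-
helper24: S4637 leaf (SC) (planner helper27): Brauer's count of the characters of a block with an
abelian defect group `P` by the orbits of the inertial group `T = N_G(P, c)` on `P`:
`k(B) = l(B) + ∑_{u ∈ R, u ≠ 1} l(f_u)`.
-/
import Mathlib
import Cfsg.Agent.S4650
import Cfsg.Agent.S4682
import Cfsg.Agent.S4511
import Cfsg.Agent.Lib.Helper6.SubsectionCount
import Cfsg.Agent.Lib.Helper16.KleinSCA
import Cfsg.Agent.Lib.Helper16.KleinSCC
import Cfsg.Agent.Lib.Helper24.KleinSCB

set_option autoImplicit false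

namespace Cfsg.Agent.Lib.Helper24.KleinSC

open Cfsg Cfsg.Agent.CharLib Cfsg.Agent.Lib.Helper24 Cfsg.Agent.Lib.Helper6
open Cfsg.Agent.Lib.Helper16.KleinSCA Cfsg.Agent.Lib.Helper16.KleinSCC Cfsg.Agent.Lib.Helper24.KleinSCB

universe u

/-! ### transport along an equality of subgroups -/
section cast
variable {G : Type u} [Group G]

/-- transport of a set of irreducible characters along an equality of subgroups -/
def castBlock {H H' : Subgroup G} (h : H = H') (b : Set (IrrCharacter H)) :
    Set (IrrCharacter H') := h ▸ b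

theorem castBlock_castBlock {H H' : Subgroup G} (h : H = H') (b : Set (IrrCharacter H)) :
    castBlock h.symm (castBlock h b) = b := by
  subst h; rfl

theorem castBlock_castBlock' {H H' : Subgroup G} (h : H = H') (b : Set (IrrCharacter H')) :
    castBlock h (castBlock h.symm b) = b := by
  subst h; rfl

theorem castBlock_injective {H H' : Subgroup G} (h : H = H') {b b' : Set (IrrCharacter H)}
    (hb : castBlock h b = castBlock h b') : b = b' := by
  subst h; exact hb

theorem isPBlock_castBlock {M : Ideal AlgInt} {H H' : Subgroup G} (h : H = H')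
    (b : Set (IrrCharacter H)) : IsPBlock M (castBlock h b) ↔ IsPBlock M b := by
  subst h; rfl

theorem isInducedBlock_castBlock {M : Ideal AlgInt} {H H' : Subgroup G} (h : H = H')
    (b : Set (IrrCharacter H)) (B : Set (IrrCharacter G)) :
    IsInducedBlock M H' (castBlock h b) B ↔ IsInducedBlock M H b B := by
  subst h; rfl

theorem blockRank_castBlock (p : ℕ) {H H' : Subgroup G} (h : H = H')
    (b : Set (IrrCharacter H)) : blockRank p (castBlock h b) = blockRank p b := by
  subst h; rfl

theorem isDefectGroup_castBlock (p : ℕ) {M : Ideal AlgInt} {H H' : Subgroup G} (h : H = H')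
    (b : Set (IrrCharacter H)) (P : Subgroup G) :
    IsDefectGroup p M (castBlock h b) (P.subgroupOf H') ↔ IsDefectGroup p M b (P.subgroupOf H) := by
  subst h; rfl

theorem centralizer_zpowers_eq (u : G) :
    Subgroup.centralizer ((Subgroup.zpowers u : Subgroup G) : Set G) =
      Subgroup.centralizer ({u} : Set G) := by
  ext g
  rw [Subgroup.mem_centralizer_iff, Subgroup.mem_centralizer_singleton_iff]
  constructor
  · intro h
    exact (h u (Subgroup.mem_zpowers u)).symm
  · intro h y hy
    obtain ⟨k, rfl⟩ := Subgroup.mem_zpowers_iff.mp hy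
    have hc : Commute u g := h.symm
    exact (hc.zpow_left k).eq

theorem zpowers_le_centralizer_zpowers (u : G) :
    Subgroup.zpowers u ≤ Subgroup.centralizer ((Subgroup.zpowers u : Subgroup G) : Set G) := by
  intro x hx
  rw [Subgroup.mem_centralizer_iff]
  intro y hy
  obtain ⟨k, rfl⟩ := Subgroup.mem_zpowers_iff.mp hx
  obtain ⟨l, rfl⟩ := Subgroup.mem_zpowers_iff.mp hy
  exact (Commute.zpow_zpow_self u l k).eq

theorem map_conj_zpowers (g u : G) :
    (Subgroup.zpowers u).map (MulAut.conj g).toMonoidHom = Subgroup.zpowers (g * u * g⁻¹) := by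
  rw [MonoidHom.map_zpowers]
  rfl

end cast

/-! ### the maximal pair and the blocks `f_u` -/
section pairs
variable {G : Type u} [Group G] [Fintype G] {M : Ideal AlgInt} {p : ℕ} [hpp : Fact p.Prime]

/-- `(P, c)` is a maximal `B`-pair when `P` is a defect group of `B` and `c` induces `B` -/
theorem isMaximalBrauerPair_of_defect (hM : IsPModular p M) (B : Set (IrrCharacter G))
    (hB : IsPBlock M B) (P : Subgroup G) (hPD : IsDefectGroup p M B P)
    (c : Set (IrrCharacter (Subgroup.centralizer (P : Set G))))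
    (hc : IsInducedBlock M (Subgroup.centralizer (P : Set G)) c B) :
    IsMaximalBrauerPair p M B P c := by
  have hPp : IsPGroup p P := ExtFirstMain.isPGroup_of_isDefectGroup hPD
  have hpair : IsBrauerPairOf p M B P c := Cfsg.Agent.S4650.isBrauerPairOf_of_induced hM B P hPp c hc
  refine ⟨hpair, ?_⟩
  intro R g hRg hle
  have hPR : P ≤ R := Cfsg.Agent.S4681.le_of_subpairLE p M P c R g hle
  have hcard : Nat.card R ≤ Nat.card P := Cfsg.Agent.S4650.card_le_of_pair hM B hB P hPD R g hRg
  exact (Subgroup.eq_of_le_of_card_ge hPR hcard).symm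

/-- the data of the block `f'_u` of `C_G(⟨u⟩)` below `(P, c)`, for `u ∈ P`, `P` abelian -/
theorem exists_block_below (hM : IsPModular p M) (B : Set (IrrCharacter G))
    (P : Subgroup G) (c : Set (IrrCharacter (Subgroup.centralizer (P : Set G))))
    (hmax : IsMaximalBrauerPair p M B P c) (hab : ∀ x ∈ P, ∀ y ∈ P, x * y = y * x)
    (u : G) (hu : u ∈ P) :
    ∃ f : Set (IrrCharacter (Subgroup.centralizer ((Subgroup.zpowers u : Subgroup G) : Set G))),
      SubpairLE p M (Subgroup.zpowers u) f P c ∧ IsBrauerPairOf p M B (Subgroup.zpowers u) f ∧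
      IsInducedBlock M (Subgroup.centralizer ((Subgroup.zpowers u : Subgroup G) : Set G)) f B ∧
      IsDefectGroup p M f (P.subgroupOf
        (Subgroup.centralizer ((Subgroup.zpowers u : Subgroup G) : Set G))) := by
  classical
  have hPc : IsBrauerPair p M P c := hmax.1.1
  have hB : IsPBlock M B := hmax.1.2.1
  have hQP : Subgroup.zpowers u ≤ P := by rw [Subgroup.zpowers_le]; exact hu
  have hQ : IsPGroup p (Subgroup.zpowers u) := hPc.1.to_le hQP
  obtain ⟨f, hfblk, hle⟩ := exists_subpairLE hM P c hPc (Subgroup.zpowers u) hQP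
  have hPH : P ≤ Subgroup.centralizer ((Subgroup.zpowers u : Subgroup G) : Set G) :=
    Cfsg.Agent.S4650.le_centralizer_of_abelian P _ hab hQP
  have hnorm : IsNormalSubpair p M (Subgroup.zpowers u) f P c :=
    Cfsg.Agent.S4682.isNormalSubpair_of_le_normal p M hM P _ c f hPc hQP
      (hPH.trans (Subgroup.centralizer_le_normalizer _)) hle
  have hpairB : IsBrauerPairOf p M B (Subgroup.zpowers u) f :=
    (Cfsg.Agent.S4658.result p M hM P _ c f hPc ⟨hQ, hfblk⟩ hle B hB).mp hmax.1
  have hind := isInducedBlock_of_isBrauerPairOf hM B (Subgroup.zpowers u) f hpairB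
  have hR := Cfsg.Agent.S4650.eq_sup_map P (Subgroup.zpowers u) hQP hPH
  have hmaxH := Cfsg.Agent.S4682.maximal_in_centralizer p M hM B P _ c f hmax hnorm hPH hR
  let _ : Fintype (Subgroup.centralizer ((Subgroup.zpowers u : Subgroup G) : Set G)) :=
    Fintype.ofFinite _
  have hdef := Cfsg.Agent.S4659.result' p M hM f _ _ hmaxH
  exact ⟨f, hle, hpairB, hind, hdef⟩

/-- control of fusion for two subpairs of `(P, e)`, `P` abelian: an element carrying `(Q, f)` to
`(Q', f')` can be moved into `N_G(P, e)` by an element of `C_G(Q')` -/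
theorem exists_centralizer_mul_mem₂ (hM : IsPModular p M) (B : Set (IrrCharacter G))
    (P : Subgroup G) (e : Set (IrrCharacter (Subgroup.centralizer (P : Set G))))
    (hmax : IsMaximalBrauerPair p M B P e) (hab : ∀ x ∈ P, ∀ y ∈ P, x * y = y * x)
    (Q Q' : Subgroup G) (f : Set (IrrCharacter (Subgroup.centralizer (Q : Set G))))
    (f' : Set (IrrCharacter (Subgroup.centralizer (Q' : Set G))))
    (hle : SubpairLE p M Q f P e) (hle' : SubpairLE p M Q' f' P e) (x : G)
    (hx : cjPair x (⟨Q, f⟩ : BrauerPairIdx G) = ⟨Q', f'⟩) :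
    ∃ c ∈ Subgroup.centralizer (Q' : Set G), c * x ∈ Subgroup.normalizer (P : Set G) ∧
      StabilizesBlock (Subgroup.centralizer (P : Set G)) e (c * x) := by
  classical
  have hprime : M.IsPrime := isPrime_of_isPModular hM
  have hPe : IsBrauerPair p M P e := hmax.1.1
  have hQP : Q ≤ P := Cfsg.Agent.S4681.le_of_subpairLE p M Q f P e hle
  have hQ'P : Q' ≤ P := Cfsg.Agent.S4681.le_of_subpairLE p M Q' f' P e hle'
  have hQ' : IsPGroup p Q' := hPe.1.to_le hQ'P
  have hPH0 : P ≤ Subgroup.centralizer (Q : Set G) :=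
    Cfsg.Agent.S4650.le_centralizer_of_abelian P Q hab hQP
  have hPH : P ≤ Subgroup.centralizer (Q' : Set G) :=
    Cfsg.Agent.S4650.le_centralizer_of_abelian P Q' hab hQ'P
  have hnorm0 : IsNormalSubpair p M Q f P e :=
    Cfsg.Agent.S4682.isNormalSubpair_of_le_normal p M hM P Q e f hPe hQP
      (hPH0.trans (Subgroup.centralizer_le_normalizer _)) hle
  have hnorm : IsNormalSubpair p M Q' f' P e :=
    Cfsg.Agent.S4682.isNormalSubpair_of_le_normal p M hM P Q' e f' hPe hQ'P
      (hPH.trans (Subgroup.centralizer_le_normalizer _)) hle'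
  have hnormx : NormalSubpairRel p M (cjPair x ⟨Q, f⟩) (cjPair x ⟨P, e⟩) :=
    isNormalSubpair_conj (M := M) p x Q P f e hnorm0
  rw [hx] at hnormx
  have hnormx' : IsNormalSubpair p M Q' f' (P.map (MulAut.conj x).toMonoidHom)
      (conjBlock P x e) := hnormx
  have hQP₁ : Q' ≤ P.map (MulAut.conj x).toMonoidHom := hnormx'.2.2.1
  have hP₁H : P.map (MulAut.conj x).toMonoidHom ≤ Subgroup.centralizer (Q' : Set G) := by
    rintro _ ⟨a, ha, rfl⟩
    rw [Subgroup.mem_centralizer_iff]
    intro q hq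
    obtain ⟨b, hb, rfl⟩ := hQP₁ hq
    change x * b * x⁻¹ * (x * a * x⁻¹) = x * a * x⁻¹ * (x * b * x⁻¹)
    have := hab b hb a ha
    calc x * b * x⁻¹ * (x * a * x⁻¹) = x * (b * a) * x⁻¹ := by group
      _ = x * (a * b) * x⁻¹ := by rw [this]
      _ = x * a * x⁻¹ * (x * b * x⁻¹) := by group
  have hR₁ : P = Q' ⊔ (P.subgroupOf (Subgroup.centralizer (Q' : Set G))).map
      (Subgroup.centralizer (Q' : Set G)).subtype := by
    rw [Subgroup.map_subgroupOf_eq_of_le hPH, sup_eq_right.mpr hQ'P]
  have hR₂ : P.map (MulAut.conj x).toMonoidHom =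
      Q' ⊔ ((P.map (MulAut.conj x).toMonoidHom).subgroupOf
        (Subgroup.centralizer (Q' : Set G))).map (Subgroup.centralizer (Q' : Set G)).subtype := by
    rw [Subgroup.map_subgroupOf_eq_of_le hP₁H, sup_eq_right.mpr hQP₁]
  have hmaxH := Cfsg.Agent.S4682.maximal_in_centralizer p M hM B P Q' e f' hmax hnorm hPH hR₁
  have hpair₂ := (isNormalSubpair_iff_isBrauerPairOf (M := M) Q' _ _ hQ' hR₂ f' _).mp hnormx'
  let _ : Fintype (Subgroup.centralizer (Q' : Set G)) := Fintype.ofFinite _
  obtain ⟨c, hc⟩ := Cfsg.Agent.S4660.result p M hM f' _ _ _ _ hmaxH hpair₂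
  have hcle := Cfsg.Agent.S4681.le_of_subpairLE p M _ _ _ _ hc
  have hcard : Nat.card (P.subgroupOf (Subgroup.centralizer (Q' : Set G))) ≤
      Nat.card ((((P.map (MulAut.conj x).toMonoidHom).subgroupOf
        (Subgroup.centralizer (Q' : Set G))).map (MulAut.conj c).toMonoidHom :
          Subgroup (Subgroup.centralizer (Q' : Set G)))) := by
    have h1 : Nat.card ((((P.map (MulAut.conj x).toMonoidHom).subgroupOf
        (Subgroup.centralizer (Q' : Set G))).map (MulAut.conj c).toMonoidHom :
          Subgroup (Subgroup.centralizer (Q' : Set G)))) =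
        Nat.card ((P.map (MulAut.conj x).toMonoidHom).subgroupOf
        (Subgroup.centralizer (Q' : Set G))) :=
      Subgroup.card_map_of_injective (MulAut.conj c).injective
    have h2 : Nat.card (P.map (MulAut.conj x).toMonoidHom) = Nat.card P :=
      Subgroup.card_map_of_injective (MulAut.conj x).injective
    rw [h1, card_subgroupOf_eq_card_inf, card_subgroupOf_eq_card_inf, inf_eq_left.mpr hP₁H,
      inf_eq_left.mpr hPH, h2]
  have hfst := Subgroup.eq_of_le_of_card_ge hcle hcard
  have hsig := eq_of_reflTransGen_of_fst_eq hM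
    (cjPair c ⟨_, BlockIso.pullBlock (centEquivQ Q' _ _ hR₂) (conjBlock P x e)⟩)
    ⟨_, BlockIso.pullBlock (centEquivQ Q' P _ hR₁) e⟩ hc hfst
  have hG := conj_transfer (M := M) Q' c _ _ P (P.map (MulAut.conj x).toMonoidHom) hR₁ hR₂ e
    (conjBlock P x e) hPe.2 (isPBlock_conjBlock P x hPe.2) hsig
  have hG' : cjPair (c : G) (cjPair x (⟨P, e⟩ : BrauerPairIdx G)) = ⟨P, e⟩ := hG
  rw [cjPair_mul (M := M) (c : G) x P e hPe.2] at hG'
  exact ⟨(c : G), c.2, mem_stab_of_cjPair_eq _ P e hG'⟩

end pairs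

/-! ### conjugation of pointed cyclic pairs `(x, f)`, `f` a block of `C_G(⟨x⟩)` -/
section pconj
variable {G : Type u} [Group G] [Fintype G] {M : Ideal AlgInt}

/-- `g` carries the pointed pair `(x, f)` to `(x', f')` -/
def PConj (g x : G)
    (f : Set (IrrCharacter (Subgroup.centralizer ((Subgroup.zpowers x : Subgroup G) : Set G))))
    (x' : G)
    (f' : Set (IrrCharacter (Subgroup.centralizer ((Subgroup.zpowers x' : Subgroup G) : Set G)))) :
    Prop :=
  g * x * g⁻¹ = x' ∧
    cjPair g (⟨Subgroup.zpowers x, f⟩ : BrauerPairIdx G) = ⟨Subgroup.zpowers x', f'⟩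

theorem PConj.exists (g x : G)
    (f : Set (IrrCharacter (Subgroup.centralizer ((Subgroup.zpowers x : Subgroup G) : Set G)))) :
    ∃ f', PConj g x f (g * x * g⁻¹) f' := by
  obtain ⟨f', hf'⟩ := exists_snd_of_fst_eq (cjPair g (⟨Subgroup.zpowers x, f⟩ : BrauerPairIdx G))
    (Subgroup.zpowers (g * x * g⁻¹)) (map_conj_zpowers g x)
  exact ⟨f', rfl, hf'⟩

theorem PConj.unique {g x : G}
    {f : Set (IrrCharacter (Subgroup.centralizer ((Subgroup.zpowers x : Subgroup G) : Set G)))}
    {x' : G}
    {f' f'' : Set (IrrCharacter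
      (Subgroup.centralizer ((Subgroup.zpowers x' : Subgroup G) : Set G)))}
    (h : PConj g x f x' f') (h' : PConj g x f x' f'') : f' = f'' := by
  have := h.2.symm.trans h'.2
  exact eq_of_heq (Sigma.mk.inj this).2

theorem cjPair_one [hprime : M.IsPrime] (Q : Subgroup G)
    (f : Set (IrrCharacter (Subgroup.centralizer (Q : Set G)))) (hf : IsPBlock M f) :
    cjPair 1 (⟨Q, f⟩ : BrauerPairIdx G) = ⟨Q, f⟩ := by
  apply cjPair_eq_self_of_stab (M := M) 1 Q f hf (Subgroup.one_mem _)
  refine ⟨Subgroup.one_mem _, fun χ hχ => ⟨χ, hχ, ?_⟩⟩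
  intro k k' hk
  have : k' = k := by
    apply Subtype.ext
    rw [hk]; simp
  rw [this]

theorem stab_of_mem_centralizer (Q : Subgroup G)
    (f : Set (IrrCharacter (Subgroup.centralizer (Q : Set G)))) (c : G)
    (hc : c ∈ Subgroup.centralizer (Q : Set G)) :
    c ∈ Subgroup.normalizer (Q : Set G) ∧
      StabilizesBlock (Subgroup.centralizer (Q : Set G)) f c := by
  refine ⟨Subgroup.centralizer_le_normalizer _ hc,
    Subgroup.le_normalizer hc, fun χ hχ => ⟨χ, hχ, ?_⟩⟩
  intro k k' hk
  have hcls := IsCharacter.isClassFunction (IsIrrCharacter.isCharacter χ.2)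
  have : k' = ⟨c, hc⟩ * k * ⟨c, hc⟩⁻¹ := Subtype.ext hk
  rw [this]
  exact hcls k ⟨c, hc⟩

theorem PConj.of_centralizer [hprime : M.IsPrime] {g x : G}
    (hg : g ∈ Subgroup.centralizer ({x} : Set G))
    (f : Set (IrrCharacter (Subgroup.centralizer ((Subgroup.zpowers x : Subgroup G) : Set G))))
    (hf : IsPBlock M f) : PConj g x f x f := by
  have hgx : g * x * g⁻¹ = x := by
    have := Subgroup.mem_centralizer_singleton_iff.mp hg
    rw [this]; group
  have hg' : g ∈ Subgroup.centralizer ((Subgroup.zpowers x : Subgroup G) : Set G) := by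
    rw [centralizer_zpowers_eq]; exact hg
  obtain ⟨h1, h2⟩ := stab_of_mem_centralizer (Subgroup.zpowers x) f g hg'
  exact ⟨hgx, cjPair_eq_self_of_stab (M := M) g _ f hf h1 h2⟩

theorem PConj.trans [hprime : M.IsPrime] {g h x x' x'' : G}
    {f : Set (IrrCharacter (Subgroup.centralizer ((Subgroup.zpowers x : Subgroup G) : Set G)))}
    {f' : Set (IrrCharacter (Subgroup.centralizer ((Subgroup.zpowers x' : Subgroup G) : Set G)))}
    {f'' : Set (IrrCharacter
      (Subgroup.centralizer ((Subgroup.zpowers x'' : Subgroup G) : Set G)))}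
    (hf : IsPBlock M f) (h1 : PConj g x f x' f') (h2 : PConj h x' f' x'' f'') :
    PConj (h * g) x f x'' f'' := by
  refine ⟨?_, ?_⟩
  · rw [← h2.1, ← h1.1]; group
  · rw [← cjPair_mul (M := M) h g _ f hf, h1.2, h2.2]

theorem PConj.symm [hprime : M.IsPrime] {g x x' : G}
    {f : Set (IrrCharacter (Subgroup.centralizer ((Subgroup.zpowers x : Subgroup G) : Set G)))}
    {f' : Set (IrrCharacter (Subgroup.centralizer ((Subgroup.zpowers x' : Subgroup G) : Set G)))}
    (hf : IsPBlock M f) (h1 : PConj g x f x' f') : PConj g⁻¹ x' f' x f := by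
  refine ⟨?_, ?_⟩
  · rw [← h1.1]; group
  · rw [← h1.2, cjPair_mul (M := M) g⁻¹ g _ f hf, inv_mul_cancel, cjPair_one _ f hf]

theorem PConj.isPBlock {g x x' : G}
    {f : Set (IrrCharacter (Subgroup.centralizer ((Subgroup.zpowers x : Subgroup G) : Set G)))}
    {f' : Set (IrrCharacter (Subgroup.centralizer ((Subgroup.zpowers x' : Subgroup G) : Set G)))}
    (hf : IsPBlock M f) (h1 : PConj g x f x' f') : IsPBlock M f' := by
  have h2 : IsPBlock M (cjPair g (⟨Subgroup.zpowers x, f⟩ : BrauerPairIdx G)).2 :=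
    isPBlock_conjBlock _ g hf
  rw [h1.2] at h2
  exact h2

theorem PConj.isBrauerPairOf {p : ℕ} {g x x' : G}
    {f : Set (IrrCharacter (Subgroup.centralizer ((Subgroup.zpowers x : Subgroup G) : Set G)))}
    {f' : Set (IrrCharacter (Subgroup.centralizer ((Subgroup.zpowers x' : Subgroup G) : Set G)))}
    (B : Set (IrrCharacter G)) (hf : IsBrauerPairOf p M B (Subgroup.zpowers x) f)
    (h1 : PConj g x f x' f') : IsBrauerPairOf p M B (Subgroup.zpowers x') f' := by
  have h2 : IsBrauerPairOf p M B (cjPair g (⟨Subgroup.zpowers x, f⟩ : BrauerPairIdx G)).1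
      (cjPair g (⟨Subgroup.zpowers x, f⟩ : BrauerPairIdx G)).2 :=
    isBrauerPairOf_conj (M := M) p g B _ f hf
  rw [h1.2] at h2
  exact h2

theorem PConj.blockRank_eq (p : ℕ) {g x x' : G}
    {f : Set (IrrCharacter (Subgroup.centralizer ((Subgroup.zpowers x : Subgroup G) : Set G)))}
    {f' : Set (IrrCharacter (Subgroup.centralizer ((Subgroup.zpowers x' : Subgroup G) : Set G)))}
    (h1 : PConj g x f x' f') : blockRank p f' = blockRank p f := by
  have h2 : blockRank p (cjPair g (⟨Subgroup.zpowers x, f⟩ : BrauerPairIdx G)).2 = blockRank p f := by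
    change blockRank p (conjBlock _ g f) = _
    rw [conjBlock_eq_pullBlock, blockRank_pullBlock]
  rw [h1.2] at h2
  exact h2

theorem PConj.exists' (g x x' : G) (hg : g * x * g⁻¹ = x')
    (f : Set (IrrCharacter (Subgroup.centralizer ((Subgroup.zpowers x : Subgroup G) : Set G)))) :
    ∃ f', PConj g x f x' f' := by
  subst hg
  exact PConj.exists g x f

end pconj

/-! ### the fibre over one class of `p`-elements -/
section fibre
variable {G : Type u} [Group G] [Fintype G] {M : Ideal AlgInt} {p : ℕ} [hpp : Fact p.Prime]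

/-- the hypotheses on the family of blocks `f' u` below `(P, c)` -/
def Below (p : ℕ) (M : Ideal AlgInt) (B : Set (IrrCharacter G)) (P : Subgroup G)
    (c : Set (IrrCharacter (Subgroup.centralizer (P : Set G))))
    (f' : ∀ u : G, Set (IrrCharacter
      (Subgroup.centralizer ((Subgroup.zpowers u : Subgroup G) : Set G)))) : Prop :=
  ∀ u ∈ P, SubpairLE p M (Subgroup.zpowers u) (f' u) P c ∧
    IsBrauerPairOf p M B (Subgroup.zpowers u) (f' u)

/-- every pointed `B`-pair is conjugate to `(u, f' u)` for some `u ∈ R` -/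
theorem exists_conj_rep (hM : IsPModular p M) (B : Set (IrrCharacter G))
    (P : Subgroup G) (c : Set (IrrCharacter (Subgroup.centralizer (P : Set G))))
    (hmax : IsMaximalBrauerPair p M B P c) (T : Subgroup G)
    (hT : ∀ g : G, g ∈ T ↔ (g ∈ Subgroup.normalizer (P : Set G) ∧
      StabilizesBlock (Subgroup.centralizer (P : Set G)) c g))
    (R : Finset G)
    (hR : ∀ v ∈ P, ∃! u, u ∈ R ∧ ∃ t ∈ T, t * u * t⁻¹ = v)
    (f' : ∀ u : G, Set (IrrCharacter
      (Subgroup.centralizer ((Subgroup.zpowers u : Subgroup G) : Set G))))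
    (hf' : Below p M B P c f') (hRP : ∀ u ∈ R, u ∈ P) (x : G)
    (b' : Set (IrrCharacter (Subgroup.centralizer ((Subgroup.zpowers x : Subgroup G) : Set G))))
    (hb' : IsBrauerPairOf p M B (Subgroup.zpowers x) b') :
    ∃ u ∈ R, ∃ g : G, PConj g u (f' u) x b' := by
  classical
  have hprime : M.IsPrime := isPrime_of_isPModular hM
  have hPc : IsBrauerPair p M P c := hmax.1.1
  obtain ⟨z, hz⟩ := Cfsg.Agent.S4660.result p M hM B P (Subgroup.zpowers x) c b' hmax hb'
  obtain ⟨f₂, hf₂⟩ := PConj.exists z x b'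
  have hz' : Relation.ReflTransGen (NormalSubpairRel p M)
      (cjPair z (⟨Subgroup.zpowers x, b'⟩ : BrauerPairIdx G)) ⟨P, c⟩ := hz
  rw [hf₂.2] at hz'
  have hle₂ : SubpairLE p M (Subgroup.zpowers (z * x * z⁻¹)) f₂ P c := hz'
  have hvP : z * x * z⁻¹ ∈ P :=
    Cfsg.Agent.S4681.le_of_subpairLE p M _ f₂ P c hle₂ (Subgroup.mem_zpowers _)
  obtain ⟨u, ⟨huR, t, ht, htu⟩, -⟩ := hR _ hvP
  refine ⟨u, huR, z⁻¹ * t, ?_⟩
  obtain ⟨f₃, hf₃⟩ := PConj.exists' t u _ htu (f' u)
  have hle_u := (hf' u (hRP u huR)).1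
  have hchain := reflTransGen_cjPair (M := M) p t ⟨Subgroup.zpowers u, f' u⟩ ⟨P, c⟩ hle_u
  have htT := (hT t).mp ht
  rw [cjPair_eq_self_of_stab (M := M) t P c hPc.2 htT.1 htT.2, hf₃.2] at hchain
  have e32 : f₃ = f₂ := subpairLE_unique hM _ P c _ f₃ f₂ rfl hchain hle₂
  rw [e32] at hf₃
  have hblk : IsPBlock M (f' u) := (hf' u (hRP u huR)).2.1.2
  exact PConj.trans hblk hf₃ (PConj.symm hb'.1.2 hf₂)

/-- two members of `R` whose pointed pairs are conjugate coincide -/
theorem eq_of_conj (hM : IsPModular p M) (B : Set (IrrCharacter G))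
    (P : Subgroup G) (c : Set (IrrCharacter (Subgroup.centralizer (P : Set G))))
    (hmax : IsMaximalBrauerPair p M B P c) (hab : ∀ x ∈ P, ∀ y ∈ P, x * y = y * x)
    (T : Subgroup G)
    (hT : ∀ g : G, g ∈ T ↔ (g ∈ Subgroup.normalizer (P : Set G) ∧
      StabilizesBlock (Subgroup.centralizer (P : Set G)) c g))
    (R : Finset G)
    (hR : ∀ v ∈ P, ∃! u, u ∈ R ∧ ∃ t ∈ T, t * u * t⁻¹ = v)
    (f' : ∀ u : G, Set (IrrCharacter
      (Subgroup.centralizer ((Subgroup.zpowers u : Subgroup G) : Set G))))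
    (hf' : Below p M B P c f') (hRP : ∀ u ∈ R, u ∈ P) (u u' : G) (hu : u ∈ R) (hu' : u' ∈ R)
    (g : G) (hg : PConj g u (f' u) u' (f' u')) : u = u' := by
  classical
  obtain ⟨c0, hc0, hN, hS⟩ := exists_centralizer_mul_mem₂ hM B P c hmax hab _ _ (f' u) (f' u')
    (hf' u (hRP u hu)).1 (hf' u' (hRP u' hu')).1 g hg.2
  have htT : c0 * g ∈ T := (hT _).mpr ⟨hN, hS⟩
  have hconj : (c0 * g) * u * (c0 * g)⁻¹ = u' := by
    have h1 : (c0 * g) * u * (c0 * g)⁻¹ = c0 * (g * u * g⁻¹) * c0⁻¹ := by group
    rw [h1, hg.1]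
    have h2 := Subgroup.mem_centralizer_iff.mp hc0 u' (Subgroup.mem_zpowers u')
    rw [← h2]; group
  obtain ⟨w, -, hw⟩ := hR u' (hRP u' hu')
  have e1 : u = w := hw u ⟨hu, c0 * g, htT, hconj⟩
  have e2 : u' = w := hw u' ⟨hu', 1, T.one_mem, by group⟩
  rw [e1, e2]

/-- the contribution of one class of `p`-elements -/
theorem fibre_sum [DecidableEq G] (hM : IsPModular p M) (B : Set (IrrCharacter G))
    (P : Subgroup G) (c : Set (IrrCharacter (Subgroup.centralizer (P : Set G))))
    (hmax : IsMaximalBrauerPair p M B P c) (hab : ∀ x ∈ P, ∀ y ∈ P, x * y = y * x)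
    (T : Subgroup G)
    (hT : ∀ g : G, g ∈ T ↔ (g ∈ Subgroup.normalizer (P : Set G) ∧
      StabilizesBlock (Subgroup.centralizer (P : Set G)) c g))
    (R : Finset G)
    (hR : ∀ v ∈ P, ∃! u, u ∈ R ∧ ∃ t ∈ T, t * u * t⁻¹ = v)
    (f' : ∀ u : G, Set (IrrCharacter
      (Subgroup.centralizer ((Subgroup.zpowers u : Subgroup G) : Set G))))
    (hf' : Below p M B P c f') (hRP : ∀ u ∈ R, u ∈ P) (x : G)
    (hx : ∃ k : ℕ, orderOf x = p ^ k) :
    ∑ᶠ b ∈ {b : Set (IrrCharacter (Subgroup.centralizer ({x} : Set G))) |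
        IsInducedBlock M (Subgroup.centralizer ({x} : Set G)) b B}, blockRank p b =
      ∑ u ∈ R.filter (fun u => IsConj u x),
        blockRank p (castBlock (centralizer_zpowers_eq u) (f' u)) := by
  classical
  have hprime : M.IsPrime := isPrime_of_isPModular hM
  have hxp : IsPGroup p (Subgroup.zpowers x) := by
    obtain ⟨k, hk⟩ := hx
    apply IsPGroup.of_card (n := k)
    rw [Nat.card_zpowers, hk]
  -- the conjugating elements and the conjugate blocks
  have hex : ∀ u : G, ∃ (g : G) (b' : Set (IrrCharacter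
      (Subgroup.centralizer ((Subgroup.zpowers x : Subgroup G) : Set G)))),
      IsConj u x → PConj g u (f' u) x b' := by
    intro u
    by_cases hux : IsConj u x
    · obtain ⟨g, hg⟩ := isConj_iff.mp hux
      obtain ⟨b', hb'⟩ := PConj.exists' g u x hg (f' u)
      exact ⟨g, b', fun _ => hb'⟩
    · exact ⟨1, ∅, fun h => absurd h hux⟩
  choose gf bf hbf using hex
  set β : G → Set (IrrCharacter (Subgroup.centralizer ({x} : Set G))) :=
    fun u => castBlock (centralizer_zpowers_eq x) (bf u) with hβ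
  have hbij : Set.BijOn β (↑(R.filter (fun u => IsConj u x)) : Set G)
      {b : Set (IrrCharacter (Subgroup.centralizer ({x} : Set G))) |
        IsInducedBlock M (Subgroup.centralizer ({x} : Set G)) b B} := by
    refine ⟨?_, ?_, ?_⟩
    · -- maps to
      intro u hu
      rw [Finset.mem_coe, Finset.mem_filter] at hu
      have hpc := hbf u hu.2
      have hpair := PConj.isBrauerPairOf B (hf' u (hRP u hu.1)).2 hpc
      have hind := isInducedBlock_of_isBrauerPairOf hM B (Subgroup.zpowers x) (bf u) hpair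
      exact (isInducedBlock_castBlock _ _ _).mpr hind
    · -- injective
      intro u hu u' hu' hbb
      rw [Finset.mem_coe, Finset.mem_filter] at hu hu'
      have hb : bf u = bf u' := castBlock_injective _ hbb
      have h1 := hbf u hu.2
      have h2 := hbf u' hu'.2
      rw [← hb] at h2
      have hblk : IsPBlock M (f' u) := (hf' u (hRP u hu.1)).2.1.2
      have hblk' : IsPBlock M (f' u') := (hf' u' (hRP u' hu'.1)).2.1.2
      have h3 := PConj.trans hblk h1 (PConj.symm hblk' h2)
      exact eq_of_conj hM B P c hmax hab T hT R hR f' hf' hRP u u' hu.1 hu'.1 _ h3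
    · -- surjective
      intro b hb
      have hb1 : IsInducedBlock M
          (Subgroup.centralizer ((Subgroup.zpowers x : Subgroup G) : Set G))
          (castBlock (centralizer_zpowers_eq x).symm b) B :=
        (isInducedBlock_castBlock _ _ _).mpr hb
      have hpair : IsBrauerPairOf p M B (Subgroup.zpowers x)
          (castBlock (centralizer_zpowers_eq x).symm b) :=
        Cfsg.Agent.S4650.isBrauerPairOf_of_induced hM B (Subgroup.zpowers x) hxp _ hb1
      obtain ⟨u, huR, g, hg⟩ := exists_conj_rep hM B P c hmax T hT R hR f' hf' hRP x _ hpair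
      have hux : IsConj u x := isConj_iff.mpr ⟨g, hg.1⟩
      refine ⟨u, ?_, ?_⟩
      · rw [Finset.mem_coe, Finset.mem_filter]
        exact ⟨huR, hux⟩
      · have h1 := hbf u hux
        have hblk : IsPBlock M (f' u) := (hf' u (hRP u huR)).2.1.2
        have h3 := PConj.trans hpair.1.2 (PConj.symm hblk hg) h1
        have hcent : gf u * g⁻¹ ∈ Subgroup.centralizer ({x} : Set G) := by
          rw [Subgroup.mem_centralizer_singleton_iff]
          have := h3.1
          calc gf u * g⁻¹ * x = (gf u * g⁻¹ * x * (gf u * g⁻¹)⁻¹) * (gf u * g⁻¹) := by group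
            _ = x * (gf u * g⁻¹) := by rw [this]
        have h4 := PConj.of_centralizer hcent _ hpair.1.2
        have e : bf u = castBlock (centralizer_zpowers_eq x).symm b := PConj.unique h3 h4
        change castBlock (centralizer_zpowers_eq x) (bf u) = b
        rw [e, castBlock_castBlock']
  have hval : ∀ u ∈ (↑(R.filter (fun u => IsConj u x)) : Set G),
      blockRank p (castBlock (centralizer_zpowers_eq u) (f' u)) = blockRank p (β u) := by
    intro u hu
    rw [Finset.mem_coe, Finset.mem_filter] at hu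
    rw [hβ]
    simp only
    rw [blockRank_castBlock, blockRank_castBlock]
    exact (PConj.blockRank_eq p (hbf u hu.2)).symm
  rw [← finsum_mem_eq_of_bijOn β hbij hval, finsum_mem_coe_finset]

end fibre

/-! ### the leaf (SC) -/
section main
variable {G : Type u} [Group G] [Fintype G] {M : Ideal AlgInt}

/-- (SC) Brauer's count of the characters of a block with an abelian defect group by the orbits of
the inertial group on the defect group. -/
theorem card_block_eq_sum_orbits [DecidableEq G] {p : ℕ} [hpp : Fact p.Prime] (hM : IsPModular p M)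
    (B : Set (IrrCharacter G)) (hB : IsPBlock M B)
    (P : Subgroup G) (hPD : IsDefectGroup p M B P) (hab : ∀ x ∈ P, ∀ y ∈ P, x * y = y * x)
    (c : Set (IrrCharacter (Subgroup.centralizer (P : Set G))))
    (hc : IsInducedBlock M (Subgroup.centralizer (P : Set G)) c B) (T : Subgroup G)
    (hT : ∀ g : G, g ∈ T ↔ (g ∈ Subgroup.normalizer (P : Set G) ∧
      StabilizesBlock (Subgroup.centralizer (P : Set G)) c g))
    (R : Finset G) (hRP : ∀ u ∈ R, u ∈ P)
    (hR : ∀ v ∈ P, ∃! u, u ∈ R ∧ ∃ t ∈ T, t * u * t⁻¹ = v) :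
    ∃ f : ∀ u : G, Set (IrrCharacter (Subgroup.centralizer ({u} : Set G))),
      (∀ u ∈ R, IsInducedBlock M (Subgroup.centralizer ({u} : Set G)) (f u) B ∧
        IsDefectGroup p M (f u) (P.subgroupOf (Subgroup.centralizer ({u} : Set G)))) ∧
      Nat.card B = blockRank p B + ∑ u ∈ R.erase 1, blockRank p (f u) := by
  classical
  have hprime : M.IsPrime := isPrime_of_isPModular hM
  have hPp : IsPGroup p P := ExtFirstMain.isPGroup_of_isDefectGroup hPD
  have hmax := isMaximalBrauerPair_of_defect hM B hB P hPD c hc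
  -- the blocks below `(P, c)`
  have hex : ∀ u : G, ∃ f : Set (IrrCharacter
      (Subgroup.centralizer ((Subgroup.zpowers u : Subgroup G) : Set G))), u ∈ P →
      (SubpairLE p M (Subgroup.zpowers u) f P c ∧ IsBrauerPairOf p M B (Subgroup.zpowers u) f ∧
      IsInducedBlock M (Subgroup.centralizer ((Subgroup.zpowers u : Subgroup G) : Set G)) f B ∧
      IsDefectGroup p M f (P.subgroupOf
        (Subgroup.centralizer ((Subgroup.zpowers u : Subgroup G) : Set G)))) := by
    intro u
    by_cases hu : u ∈ P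
    · obtain ⟨f, hf⟩ := exists_block_below hM B P c hmax hab u hu
      exact ⟨f, fun _ => hf⟩
    · exact ⟨∅, fun h => absurd h hu⟩
  choose f' hf' using hex
  have hbelow : Below p M B P c f' := fun u hu => ⟨(hf' u hu).1, (hf' u hu).2.1⟩
  refine ⟨fun u => castBlock (centralizer_zpowers_eq u) (f' u), ?_, ?_⟩
  · intro u hu
    obtain ⟨-, -, hind, hdef⟩ := hf' u (hRP u hu)
    exact ⟨(isInducedBlock_castBlock _ _ _).mpr hind, (isDefectGroup_castBlock p _ _ P).mpr hdef⟩
  · obtain ⟨X, hX, hXrep⟩ := exists_pElement_reps (G := G) p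
    rw [Cfsg.Agent.S4511.result p M hM B hB X hX hXrep]
    have h1 : ∀ x ∈ X, ∑ᶠ b ∈ {b : Set (IrrCharacter (Subgroup.centralizer ({x} : Set G))) |
        IsInducedBlock M (Subgroup.centralizer ({x} : Set G)) b B}, blockRank p b =
        ∑ u ∈ R, if IsConj u x then
          blockRank p (castBlock (centralizer_zpowers_eq u) (f' u)) else 0 := by
      intro x hx
      rw [fibre_sum hM B P c hmax hab T hT R hR f' hbelow hRP x (hX x hx), Finset.sum_filter]
    rw [Finset.sum_congr rfl h1, Finset.sum_comm]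
    -- each `u ∈ R` is conjugate to exactly one member of `X`
    have h2 : ∀ u ∈ R, ∑ x ∈ X, (if IsConj u x then
        blockRank p (castBlock (centralizer_zpowers_eq u) (f' u)) else 0) =
        blockRank p (castBlock (centralizer_zpowers_eq u) (f' u)) := by
      intro u hu
      have hup : ∃ k : ℕ, orderOf u = p ^ k := by
        obtain ⟨k, hk⟩ := IsPGroup.iff_orderOf.mp hPp ⟨u, hRP u hu⟩
        exact ⟨k, by rw [← hk, Subgroup.orderOf_mk]⟩
      obtain ⟨x₀, ⟨hx₀, hc₀⟩, huniq⟩ := hXrep u hup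
      rw [Finset.sum_eq_single_of_mem x₀ hx₀, if_pos hc₀]
      intro x hx hne
      rw [if_neg]
      intro hcx
      exact hne (huniq x ⟨hx, hcx⟩)
    rw [Finset.sum_congr rfl h2]
    -- split off `u = 1`
    have h1R : (1 : G) ∈ R := by
      obtain ⟨u, ⟨huR, t, -, htu⟩, -⟩ := hR 1 P.one_mem
      have : u = 1 := by
        have h3 : u = t⁻¹ * (t * u * t⁻¹) * t := by group
        rw [h3, htu]; group
      rw [← this]; exact huR
    rw [← Finset.add_sum_erase R _ h1R]
    congr 1
    have hH : Subgroup.centralizer ({(1 : G)} : Set G) = ⊤ := by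
      rw [eq_top_iff]
      intro g _
      rw [Subgroup.mem_centralizer_singleton_iff]
      simp
    obtain ⟨-, -, hind, -⟩ := hf' 1 P.one_mem
    exact blockRank_eq_of_induced_top hM _ hH _ B ((isInducedBlock_castBlock _ _ _).mpr hind)

end main

end Cfsg.Agent.Lib.Helper24.KleinSC
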