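/-
helper24: S4539 leaf (LF) `exists_gdec_lift` (planner helper27): cyclotomic lift of the generalized
decomposition numbers, modelled on helper23's `Subsec.exists_lift`.
-/
import Cfsg.Agent.Lib.Helper27.MajSubDefs
import Cfsg.Agent.Lib.Helper6.DefectOrder

set_option autoImplicit false

namespace Cfsg.Agent.Lib.Helper24.MajSubLF

open Cfsg Cfsg.Agent.CharLib Cfsg.Agent.Lib.Helper24 Cfsg.Agent.Lib.Helper6 Cfsg.Agent.Lib.Helper23
open Cfsg.Agent.Lib.Helper23.Subsec Cfsg.Agent.Lib.Helper27.MajSub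
open scoped ComplexConjugate

universe u w

section GC

variable {G : Type u} [Group G] [Fintype G]

/-- The coefficient of `ζ` in `c ↦ χ (w c)` for a central element `w` of `C`. -/
theorem classInner_central_shift (C : Subgroup G) [Fintype C] [Fintype (IrrCharacter C)]
    (w : Subgroup.center C) (χ : IrrCharacter G) (ψ : IrrCharacter C) :
    classInner (fun c : C => (χ : G → ℂ) (((w : C) : G) * (c : G))) (ψ : C → ℂ) =
      (resMult C χ ψ : ℂ) * centHom C ψ w := by
  classical
  set ϑ : C → ℂ := fun c : C => (χ : G → ℂ) (((w : C) : G) * (c : G)) with hϑdef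
  have hϑ : ϑ = ∑ ξ : IrrCharacter C, ((resMult C χ ξ : ℂ) * centHom C ξ w) • (ξ : C → ℂ) := by
    funext c
    have h1 : ϑ c = resFun C (χ : G → ℂ) ((w : C) * c) := rfl
    rw [h1, res_eq_sum, Finset.sum_apply, Finset.sum_apply]
    apply Finset.sum_congr rfl
    intro ξ _
    simp only [Pi.smul_apply, smul_eq_mul, nsmul_eq_mul]
    rw [centHom_spec]
    ring
  rw [hϑ, classInner_sum_left]
  simp only [classInner_smul_left, classInner_irr']
  rw [Finset.sum_eq_single ψ]
  · rw [if_pos rfl, mul_one]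
  · intro ξ _ hne
    rw [if_neg hne, mul_zero]
  · intro h
    exact absurd (Finset.mem_univ ψ) h

/-- (LF) cyclotomic lift of the generalized decomposition numbers (as `exists_lift`). -/
theorem exists_gdec_lift (N : ℕ) [NeZero N] (K : Type w) [Field K] [Algebra ℚ K]
    [IsCyclotomicExtension {N} ℚ K] (φ : K →+* ℂ) (z : G) (hzN : z ^ N = 1)
    (C : Subgroup G) [Fintype C] [Fintype (IrrCharacter C)] (hzC : z ∈ C)
    (hcomm : ∀ c ∈ C, c * z = z * c) (e : Set (IrrCharacter C)) (d : IrrCharacter C → ℤ)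
    (χ : IrrCharacter G) :
    ∃ y : K, IsIntegral ℤ y ∧ ∀ σ : K ≃ₐ[ℚ] K,
      φ (σ y) = ∑ ζ : IrrCharacter C, zCoeff C e (z ^ galExp N K σ) χ ζ * (d ζ : ℂ) := by
  classical
  set ζK := IsCyclotomicExtension.zeta N ℚ K with hζKdef
  have hζ : IsPrimitiveRoot ζK N := IsCyclotomicExtension.zeta_spec N ℚ K
  have hζc : IsPrimitiveRoot (φ ζK) N := hζ.map_of_injective φ.injective
  have hNpos : 0 < N := NeZero.pos N
  -- the central element
  set zC : C := ⟨z, hzC⟩ with hzCdef
  have hcen : zC ∈ Subgroup.center C := by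
    rw [Subgroup.mem_center_iff]
    intro g
    apply Subtype.ext
    exact hcomm g g.2
  set w : Subgroup.center C := ⟨zC, hcen⟩ with hw
  have hwcoe : ∀ k : ℕ, ((((w ^ k : Subgroup.center C) : C) : G)) = z ^ k := by
    intro k
    simp [hw, hzCdef]
  have hwN : w ^ N = 1 := by
    apply Subtype.ext
    apply Subtype.ext
    rw [hwcoe]
    simp only [OneMemClass.coe_one]
    exact hzN
  have hcN : ∀ ξ : IrrCharacter C, centHom C ξ w ^ N = 1 := by
    intro ξ
    rw [← map_pow, hwN, map_one]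
  have hex : ∀ ξ : IrrCharacter C, ∃ j, j < N ∧ (φ ζK) ^ j = centHom C ξ w :=
    fun ξ => hζc.eq_pow_of_pow_eq_one (hcN ξ)
  choose j hj1 hj2 using hex
  set A : IrrCharacter C → ℤ := fun ζ =>
    (if ζ ∈ e then (resMult C χ ζ : ℤ) else 0) * d ζ with hA
  refine ⟨∑ ζ : IrrCharacter C, ((A ζ : ℤ) : K) * ζK ^ (j ζ), ?_, ?_⟩
  · apply IsIntegral.sum
    intro ζ _
    apply IsIntegral.mul
    · exact isIntegral_algebraMap (R := ℤ) (A := K) (x := A ζ) |> fun h => by simpa using h
    · exact (hζ.isIntegral hNpos).pow _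
  · intro σ
    set k := galExp N K σ with hk
    have hσζ : σ ζK = ζK ^ k := galExp_spec N K σ
    rw [map_sum, map_sum]
    apply Finset.sum_congr rfl
    intro ζ _
    simp only [map_mul, map_pow, map_intCast, hσζ]
    have hck : ∀ ξ : IrrCharacter C, (φ ζK ^ k) ^ j ξ = centHom C ξ (w ^ k) := by
      intro ξ
      rw [← pow_mul, mul_comm, pow_mul, hj2, map_pow]
    rw [hck ζ]
    unfold zCoeff
    rw [hA]
    simp only []
    by_cases hζe : ζ ∈ e
    · rw [if_pos hζe, if_pos hζe]
      have h1 := classInner_central_shift C (w ^ k) χ ζ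
      rw [hwcoe] at h1
      rw [h1]
      push_cast
      ring
    · rw [if_neg hζe, if_neg hζe]
      simp

end GC

end Cfsg.Agent.Lib.Helper24.MajSubLF
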