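/- helper24: generic lemmas for the 3-local analysis of a simple group of order 5616 (piece D2 of target T) -/
import Mathlib

set_option autoImplicit false

namespace Cfsg.Agent.Lib.Helper24.L33Loc

variable {G : Type*} [Group G]

/-- an involution normalizing a finite subgroup and fixing no non-trivial element of it inverts
the subgroup -/
theorem inverts_of_fixed_point_free [Finite G] (S : Subgroup G) (u : G) (hu : u * u = 1)
    (hN : ∀ x ∈ S, u * x * u⁻¹ ∈ S) (hfpf : ∀ x ∈ S, u * x = x * u → x = 1) :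
    ∀ x ∈ S, u * x * u⁻¹ = x⁻¹ := by
  have hui : u⁻¹ = u := inv_eq_of_mul_eq_one_left hu
  let f : ↥S → ↥S := fun x => ⟨(x : G)⁻¹ * (u * x * u⁻¹), S.mul_mem (S.inv_mem x.2) (hN x x.2)⟩
  have hinj : Function.Injective f := by
    intro x y hxy
    have h1 : (x : G)⁻¹ * (u * x * u⁻¹) = (y : G)⁻¹ * (u * y * u⁻¹) := congrArg Subtype.val hxy
    have h2 : u * ((y : G) * (x : G)⁻¹) = ((y : G) * (x : G)⁻¹) * u := by
      have h3 : (x : G)⁻¹ * u * x = (y : G)⁻¹ * u * y := by
        have := congrArg (· * u) h1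
        simpa [mul_assoc] using this
      calc u * ((y : G) * (x : G)⁻¹) = y * ((y : G)⁻¹ * u * y) * (x : G)⁻¹ := by group
        _ = y * ((x : G)⁻¹ * u * x) * (x : G)⁻¹ := by rw [h3]
        _ = ((y : G) * (x : G)⁻¹) * u := by group
    have h4 := hfpf _ (S.mul_mem y.2 (S.inv_mem x.2)) h2
    ext
    have : (y : G) = x := by
      calc (y : G) = (y * (x : G)⁻¹) * x := by group
        _ = x := by rw [h4, one_mul]
    exact this.symm
  have hsurj := Finite.injective_iff_surjective.mp hinj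
  intro s hs
  obtain ⟨x, hx⟩ := hsurj ⟨s, hs⟩
  have hx' : (x : G)⁻¹ * (u * x * u⁻¹) = s := congrArg Subtype.val hx
  rw [← hx']
  simp only [hui]
  have e1 : u * ((x : G)⁻¹ * (u * x * u)) * u = u * (x : G)⁻¹ * u * x * (u * u) := by group
  have e2 : ((x : G)⁻¹ * (u * x * u))⁻¹ = u⁻¹ * (x : G)⁻¹ * u⁻¹ * x := by group
  rw [e1, e2, hu, hui, mul_one]

/-- the elements of `zpowers u` for `u` of order three -/
theorem mem_zpowers_order_three {u x : G} (hu : orderOf u = 3) (hx : x ∈ Subgroup.zpowers u) :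
    x = 1 ∨ x = u ∨ x = u⁻¹ := by
  obtain ⟨k, rfl⟩ := Subgroup.mem_zpowers_iff.mp hx
  have h3 : u ^ 3 = 1 := by rw [← hu]; exact pow_orderOf_eq_one u
  have hk : u ^ k = u ^ (k % 3) := by
    have := zpow_mod_orderOf u k
    rw [hu] at this
    exact_mod_cast this.symm
  have h0 : 0 ≤ k % 3 := Int.emod_nonneg _ (by norm_num)
  have h1 : k % 3 < 3 := Int.emod_lt_of_pos _ (by norm_num)
  obtain h | h | h : k % 3 = 0 ∨ k % 3 = 1 ∨ k % 3 = 2 := by omega
  · left; rw [hk, h, zpow_zero]
  · right; left; rw [hk, h, zpow_one]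
  · right; right
    rw [hk, h]
    have : u ^ (2 : ℤ) * u = 1 := by
      have : u ^ (2 : ℤ) * u = u ^ 3 := by group
      rw [this, h3]
    exact eq_inv_of_mul_eq_one_left this

/-- an element with trivial cube and trivial square is trivial -/
theorem eq_one_of_sq_of_cube {x : G} (h2 : x * x = 1) (h3 : x ^ 3 = 1) : x = 1 := by
  have : x ^ 3 = x * x * x := by rw [pow_succ, pow_two]
  rw [this, h2, one_mul] at h3
  exact h3

/-- commutators of a group of order `27` with a central subgroup of order `3` lie in it -/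
theorem comm_mem_zpowers [Finite G] (U : Subgroup G) (hU : Nat.card ↥U = 27) (z : G)
    (hzU : z ∈ U) (hz : orderOf z = 3) (hzc : ∀ u ∈ U, u * z = z * u) (a b : G) (ha : a ∈ U)
    (hb : b ∈ U) : a * b * a⁻¹ * b⁻¹ ∈ Subgroup.zpowers z := by
  have : Fact (Nat.Prime 3) := ⟨Nat.prime_three⟩
  have hZU : Subgroup.zpowers z ≤ U := Subgroup.zpowers_le.mpr hzU
  set N := (Subgroup.zpowers z).subgroupOf U with hN
  have : N.Normal := by
    constructor
    intro n hn g
    have hn' : (n : G) ∈ Subgroup.zpowers z := Subgroup.mem_subgroupOf.mp hn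
    obtain ⟨k, hk⟩ := Subgroup.mem_zpowers_iff.mp hn'
    have hc : Commute (g : G) (n : G) := by
      rw [← hk]
      exact (show Commute (g : G) z from hzc g g.2).zpow_right k
    have : g * n * g⁻¹ = n := by
      ext
      push_cast
      rw [hc.eq, mul_assoc, mul_inv_cancel, mul_one]
    rw [this]; exact hn
  have hcN : Nat.card ↥N = 3 := by
    rw [Nat.card_congr (Subgroup.subgroupOfEquivOfLe hZU).toEquiv, Nat.card_zpowers, hz]
  have hq : Nat.card (↥U ⧸ N) = 3 ^ 2 := by
    have := Subgroup.card_eq_card_quotient_mul_card_subgroup N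
    rw [hU, hcN] at this
    omega
  have hcomm := isMulCommutative_iff.mp (IsPGroup.isMulCommutative_of_card_eq_prime_sq hq)
  have key : (((⟨a, ha⟩ * ⟨b, hb⟩ * ⟨a, ha⟩⁻¹ * ⟨b, hb⟩⁻¹ : ↥U) : ↥U) : ↥U ⧸ N) = 1 := by
    rw [QuotientGroup.mk_mul, QuotientGroup.mk_mul, QuotientGroup.mk_mul, QuotientGroup.mk_inv,
      QuotientGroup.mk_inv, hcomm (↑(⟨a, ha⟩ : ↥U)) (↑(⟨b, hb⟩ : ↥U))]
    group
  rw [QuotientGroup.eq_one_iff] at key
  exact Subgroup.mem_subgroupOf.mp key

/-- conjugate elements have centralizers of the same order -/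
theorem card_centralizer_conj (g x : G) :
    Nat.card ↥(Subgroup.centralizer ({g * x * g⁻¹} : Set G)) =
      Nat.card ↥(Subgroup.centralizer ({x} : Set G)) := by
  apply Nat.card_congr
  refine ⟨fun y => ⟨g⁻¹ * y * g, ?_⟩, fun y => ⟨g * y * g⁻¹, ?_⟩, ?_, ?_⟩
  · have hy := Subgroup.mem_centralizer_singleton_iff.mp y.2
    rw [Subgroup.mem_centralizer_singleton_iff]
    calc g⁻¹ * y * g * x = g⁻¹ * (y * (g * x * g⁻¹)) * g := by group
      _ = g⁻¹ * ((g * x * g⁻¹) * y) * g := by rw [hy]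
      _ = x * (g⁻¹ * y * g) := by group
  · have hy := Subgroup.mem_centralizer_singleton_iff.mp y.2
    rw [Subgroup.mem_centralizer_singleton_iff]
    calc g * y * g⁻¹ * (g * x * g⁻¹) = g * (y * x) * g⁻¹ := by group
      _ = g * (x * y) * g⁻¹ := by rw [hy]
      _ = g * x * g⁻¹ * (g * y * g⁻¹) := by group
  · intro y; ext; simp [mul_assoc]
  · intro y; ext; simp [mul_assoc]

/-- an element and its inverse have the same centralizer -/
theorem centralizer_inv (x : G) :
    Subgroup.centralizer ({x⁻¹} : Set G) = Subgroup.centralizer ({x} : Set G) := by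
  ext y
  rw [Subgroup.mem_centralizer_singleton_iff, Subgroup.mem_centralizer_singleton_iff]
  constructor
  · intro h
    calc y * x = x * (x⁻¹ * y) * x := by group
      _ = x * (y * x⁻¹) * x := by rw [h]
      _ = x * y := by group
  · intro h
    calc y * x⁻¹ = x⁻¹ * (x * y) * x⁻¹ := by group
      _ = x⁻¹ * (y * x) * x⁻¹ := by rw [h]
      _ = x⁻¹ * y := by group

/-- membership in the normalizer from the two one-sided conditions -/
theorem mem_normalizer_of_forall (E : Subgroup G) (g : G) (h1 : ∀ e ∈ E, g * e * g⁻¹ ∈ E)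
    (h2 : ∀ e ∈ E, g⁻¹ * e * g ∈ E) : g ∈ Subgroup.normalizer (E : Set G) := by
  rw [Subgroup.mem_normalizer_iff]
  intro h
  constructor
  · exact h1 h
  · intro hh
    have := h2 _ hh
    have e : g⁻¹ * (g * h * g⁻¹) * g = h := by group
    rwa [e] at this

end Cfsg.Agent.Lib.Helper24.L33Loc
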