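/- helper24: centralizers inside a nonabelian group of order 27 (piece D2 of target T) -/
import Cfsg.Agent.Lib.Helper24.L33LocA

set_option autoImplicit false

namespace Cfsg.Agent.Lib.Helper24.L33Loc

variable {G : Type*} [Group G] [Finite G]

/-- the centralizer in `U` (of order `27`, central `z` of order `3`) of a non-central element
outside `⟨z⟩` has order `9` -/
theorem card_inf_centralizer (U : Subgroup G) (hU : Nat.card ↥U = 27) (z : G)
    (hzU : z ∈ U) (hz : orderOf z = 3) (hzc : ∀ u ∈ U, u * z = z * u) (u : G) (huU : u ∈ U)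
    (huZ : u ∉ Subgroup.zpowers z) (hunc : ∃ y ∈ U, y * u ≠ u * y) :
    Nat.card ↥(U ⊓ Subgroup.centralizer ({u} : Set G)) = 9 := by
  set C := U ⊓ Subgroup.centralizer ({u} : Set G) with hC
  have hdvd : Nat.card ↥C ∣ 27 := hU ▸ Subgroup.card_dvd_of_le inf_le_left
  have hzC : Subgroup.zpowers z ≤ C := by
    rw [Subgroup.zpowers_le]
    exact Subgroup.mem_inf.mpr ⟨hzU, Subgroup.mem_centralizer_singleton_iff.mpr (hzc u huU).symm⟩
  have huC : u ∈ C :=
    Subgroup.mem_inf.mpr ⟨huU, Subgroup.mem_centralizer_singleton_iff.mpr rfl⟩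
  have h3 : 3 ∣ Nat.card ↥C := by
    have := Subgroup.card_dvd_of_le hzC
    rwa [Nat.card_zpowers, hz] at this
  have hne27 : Nat.card ↥C ≠ 27 := by
    intro h
    have : C = U := Subgroup.eq_of_le_of_card_ge inf_le_left (by rw [h, hU])
    obtain ⟨y, hyU, hy⟩ := hunc
    have hyC : y ∈ C := this ▸ hyU
    exact hy (Subgroup.mem_centralizer_singleton_iff.mp (Subgroup.mem_inf.mp hyC).2)
  have hne3 : Nat.card ↥C ≠ 3 := by
    intro h
    have : Subgroup.zpowers z = C :=
      Subgroup.eq_of_le_of_card_ge hzC (by rw [h, Nat.card_zpowers, hz])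
    exact huZ (this ▸ huC)
  have hle : Nat.card ↥C ≤ 27 := Nat.le_of_dvd (by norm_num) hdvd
  generalize Nat.card ↥C = n at *
  interval_cases n <;> omega

/-- every element of `U` commuting with `u` is a product of a power of `u` and a power of `z` -/
theorem exists_mul_of_commute (U : Subgroup G) (hU : Nat.card ↥U = 27) (z : G)
    (hzU : z ∈ U) (hz : orderOf z = 3) (hzc : ∀ u ∈ U, u * z = z * u) (u : G) (huU : u ∈ U)
    (hu3 : orderOf u = 3)
    (huZ : u ∉ Subgroup.zpowers z) (hunc : ∃ y ∈ U, y * u ≠ u * y) (x : G) (hxU : x ∈ U)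
    (hxu : x * u = u * x) :
    ∃ h ∈ Subgroup.zpowers u, ∃ k ∈ Subgroup.zpowers z, x = h * k := by
  set C := U ⊓ Subgroup.centralizer ({u} : Set G) with hC
  have hcard : Nat.card ↥C = 9 := card_inf_centralizer U hU z hzU hz hzc u huU huZ hunc
  have hzC : Subgroup.zpowers z ≤ C := by
    rw [Subgroup.zpowers_le]
    exact Subgroup.mem_inf.mpr ⟨hzU, Subgroup.mem_centralizer_singleton_iff.mpr (hzc u huU).symm⟩
  have huC : Subgroup.zpowers u ≤ C := by
    rw [Subgroup.zpowers_le]
    exact Subgroup.mem_inf.mpr ⟨huU, Subgroup.mem_centralizer_singleton_iff.mpr rfl⟩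
  have hxC : x ∈ C :=
    Subgroup.mem_inf.mpr ⟨hxU, Subgroup.mem_centralizer_singleton_iff.mpr hxu⟩
  set H' := (Subgroup.zpowers u).subgroupOf C with hH'
  set K' := (Subgroup.zpowers z).subgroupOf C with hK'
  have hcH : Nat.card ↥H' = 3 := by
    rw [Nat.card_congr (Subgroup.subgroupOfEquivOfLe huC).toEquiv, Nat.card_zpowers, hu3]
  have hcK : Nat.card ↥K' = 3 := by
    rw [Nat.card_congr (Subgroup.subgroupOfEquivOfLe hzC).toEquiv, Nat.card_zpowers, hz]
  have hdisj : Disjoint H' K' := by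
    rw [Subgroup.disjoint_def]
    intro y hyH hyK
    have h1 : (y : G) ∈ Subgroup.zpowers u := Subgroup.mem_subgroupOf.mp hyH
    have h2 : (y : G) ∈ Subgroup.zpowers z := Subgroup.mem_subgroupOf.mp hyK
    rcases mem_zpowers_order_three hu3 h1 with h | h | h
    · ext; exact h
    · exact absurd (h ▸ h2) huZ
    · exfalso
      apply huZ
      have := (Subgroup.zpowers z).inv_mem h2
      rwa [h, inv_inv] at this
  have hcompl : H'.IsComplement' K' :=
    Subgroup.isComplement'_of_card_mul_and_disjoint (by rw [hcH, hcK, hcard]) hdisj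
  obtain ⟨⟨h, k⟩, hhk, -⟩ := hcompl.existsUnique ⟨x, hxC⟩
  refine ⟨(h : ↥C), Subgroup.mem_subgroupOf.mp h.2, (k : ↥C), Subgroup.mem_subgroupOf.mp k.2, ?_⟩
  have := congrArg Subtype.val hhk
  simpa using this.symm

end Cfsg.Agent.Lib.Helper24.L33Loc
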