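/- helper24: the normalizer of a Sylow 3-subgroup in the 5616 setting has order 108 (piece D2 of target T) -/
import Cfsg.Agent.Lib.Helper24.L33LocB

set_option autoImplicit false

namespace Cfsg.Agent.Lib.Helper24.L33Loc

open Subgroup

/-- the local data: a Sylow `3`-subgroup `U` of order `27` and exponent `3` with centre `⟨z⟩`,
`|C(z)| = 54`, and the centralizer-order information coming from the characters -/
structure Setup (G : Type*) [Group G] where
  P : Sylow 3 G
  z : G
  hU : Nat.card ↥(P : Subgroup G) = 27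
  hexp : ∀ u ∈ (P : Subgroup G), u ^ 3 = 1
  hzU : z ∈ (P : Subgroup G)
  hz : orderOf z = 3
  hzc : ∀ u ∈ (P : Subgroup G), u * z = z * u
  hZ : ∀ x ∈ (P : Subgroup G), (∀ y ∈ (P : Subgroup G), x * y = y * x) → x ∈ zpowers z
  hCz : Nat.card ↥(centralizer ({z} : Set G)) = 54
  h3 : ∀ x : G, orderOf x = 3 → Nat.card ↥(centralizer ({x} : Set G)) = 54 ∨
    Nat.card ↥(centralizer ({x} : Set G)) ∣ 9
  h6 : ∀ w : G, 6 ∣ orderOf w → Nat.card ↥(centralizer ({w} : Set G)) = 6

namespace Setup

variable {G : Type*} [Group G] (S : Setup G)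

/-- the Sylow subgroup as a subgroup -/
abbrev U : Subgroup G := (S.P : Subgroup G)

/-- the centralizer of `z` -/
abbrev Cz : Subgroup G := centralizer ({S.z} : Set G)

theorem U_le_Cz : S.U ≤ S.Cz := fun u hu =>
  mem_centralizer_singleton_iff.mpr (S.hzc u hu)

theorem z_ne_one : S.z ≠ 1 := by
  intro h
  have := S.hz
  rw [h, orderOf_one] at this
  omega

theorem Cz_le_normalizer [Finite G] : S.Cz ≤ normalizer (S.U : Set G) := by
  have hle := S.U_le_Cz
  rw [← normal_subgroupOf_iff_le_normalizer hle]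
  apply normal_of_index_eq_two
  have h1 := card_mul_index (S.U.subgroupOf S.Cz)
  rw [Nat.card_congr (subgroupOfEquivOfLe hle).toEquiv, S.hU, S.hCz] at h1
  omega

theorem conj_mem_U {g : G} (hg : g ∈ normalizer (S.U : Set G)) {x : G} (hx : x ∈ S.U) :
    g * x * g⁻¹ ∈ S.U := (mem_normalizer_iff.mp hg x).mp hx

theorem conj_mem_U' {g : G} (hg : g ∈ normalizer (S.U : Set G)) {x : G} (hx : x ∈ S.U) :
    g⁻¹ * x * g ∈ S.U := by
  have := (mem_normalizer_iff.mp (inv_mem hg) x).mp hx
  rwa [inv_inv] at this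

theorem conj_z {g : G} (hg : g ∈ normalizer (S.U : Set G)) :
    g * S.z * g⁻¹ = S.z ∨ g * S.z * g⁻¹ = S.z⁻¹ := by
  have hw : g * S.z * g⁻¹ ∈ S.U := S.conj_mem_U hg S.hzU
  have hcen : ∀ y ∈ S.U, g * S.z * g⁻¹ * y = y * (g * S.z * g⁻¹) := by
    intro y hy
    have hy' := S.conj_mem_U' hg hy
    have hc := S.hzc _ hy'
    calc g * S.z * g⁻¹ * y = g * (S.z * (g⁻¹ * y * g)) * g⁻¹ := by group
      _ = g * ((g⁻¹ * y * g) * S.z) * g⁻¹ := by rw [hc]
      _ = y * (g * S.z * g⁻¹) := by group
  rcases mem_zpowers_order_three S.hz (S.hZ _ hw hcen) with h | h | h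
  · exfalso
    apply S.z_ne_one
    have : S.z = g⁻¹ * (g * S.z * g⁻¹) * g := by group
    rw [this, h]; group
  · exact Or.inl h
  · exact Or.inr h

theorem card_normalizer_le [Finite G] : Nat.card ↥(normalizer (S.U : Set G)) ≤ 108 := by
  classical
  by_cases h : ∃ g0 ∈ normalizer (S.U : Set G), g0 ∉ S.Cz
  · obtain ⟨g0, hg0, hg0C⟩ := h
    have hg0z : g0 * S.z * g0⁻¹ = S.z⁻¹ := by
      rcases S.conj_z hg0 with h | h
      · exfalso
        apply hg0C
        rw [mem_centralizer_singleton_iff]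
        calc g0 * S.z = g0 * S.z * g0⁻¹ * g0 := by group
          _ = S.z * g0 := by rw [h]
      · exact h
    have hsub : ((normalizer (S.U : Set G) : Subgroup G) : Set G) ⊆
        (S.Cz : Set G) ∪ (fun x => g0 * x) '' (S.Cz : Set G) := by
      intro g hg
      by_cases hgC : g ∈ S.Cz
      · exact Or.inl hgC
      · right
        have hgz : g * S.z * g⁻¹ = S.z⁻¹ := by
          rcases S.conj_z hg with h | h
          · exfalso
            apply hgC
            rw [mem_centralizer_singleton_iff]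
            calc g * S.z = g * S.z * g⁻¹ * g := by group
              _ = S.z * g := by rw [h]
          · exact h
        refine ⟨g0⁻¹ * g, ?_, by group⟩
        show g0⁻¹ * g ∈ S.Cz
        rw [mem_centralizer_singleton_iff]
        have h1 : g0⁻¹ * S.z⁻¹ * g0 = S.z := by
          rw [← hg0z]; group
        calc g0⁻¹ * g * S.z = g0⁻¹ * (g * S.z * g⁻¹) * g := by group
          _ = g0⁻¹ * S.z⁻¹ * g0 * (g0⁻¹ * g) := by rw [hgz]; group
          _ = S.z * (g0⁻¹ * g) := by rw [h1]
    calc Nat.card ↥(normalizer (S.U : Set G))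
        = ((normalizer (S.U : Set G) : Subgroup G) : Set G).ncard := (Nat.card_coe_set_eq _)
      _ ≤ ((S.Cz : Set G) ∪ (fun x => g0 * x) '' (S.Cz : Set G)).ncard :=
          Set.ncard_le_ncard hsub
      _ ≤ (S.Cz : Set G).ncard + ((fun x => g0 * x) '' (S.Cz : Set G)).ncard :=
          Set.ncard_union_le _ _
      _ ≤ (S.Cz : Set G).ncard + (S.Cz : Set G).ncard :=
          Nat.add_le_add_left (Set.ncard_image_le) _
      _ = 108 := by
          have : (S.Cz : Set G).ncard = 54 := by
            rw [← S.hCz]; exact (Nat.card_coe_set_eq _).symm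
          rw [this]
  · push Not at h
    have hle : normalizer (S.U : Set G) ≤ S.Cz := fun g hg => h g hg
    have := card_le_of_le hle
    rw [S.hCz] at this
    omega

theorem card_normalizer [Finite G] (hG : Nat.card G = 5616) :
    Nat.card ↥(normalizer (S.U : Set G)) = 108 := by
  have : Fact (Nat.Prime 3) := ⟨Nat.prime_three⟩
  have h1 : 54 ∣ Nat.card ↥(normalizer (S.U : Set G)) := by
    rw [← S.hCz]; exact card_dvd_of_le S.Cz_le_normalizer
  have h2 := S.card_normalizer_le
  have h3 := card_mul_index (normalizer (S.U : Set G))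
  rw [hG] at h3
  have h4 : Nat.card (Sylow 3 G) = (normalizer (S.U : Set G)).index :=
    Sylow.card_eq_index_normalizer S.P
  have h5 : Nat.card (Sylow 3 G) ≡ 1 [MOD 3] := card_sylow_modEq_one 3 G
  rw [h4] at h5
  obtain ⟨k, hk⟩ := h1
  have hpos : 0 < Nat.card ↥(normalizer (S.U : Set G)) := Nat.card_pos
  have hk12 : k = 1 ∨ k = 2 := by omega
  rcases hk12 with rfl | rfl
  · exfalso
    rw [hk] at h3
    have : (normalizer (S.U : Set G)).index = 104 := by omega
    rw [this] at h5
    exact absurd h5 (by decide)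
  · omega

end Setup

end Cfsg.Agent.Lib.Helper24.L33Loc
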