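/- helper24: the involution of C(z) inverts the Sylow 3-subgroup modulo its centre (piece D2 of target T) -/
import Cfsg.Agent.Lib.Helper24.L33LocC

set_option autoImplicit false

namespace Cfsg.Agent.Lib.Helper24.L33Loc

open Subgroup

namespace Setup

variable {G : Type*} [Group G] (S : Setup G)

theorem exists_r0 [Finite G] : ∃ r0 : G, orderOf r0 = 2 ∧ r0 * S.z = S.z * r0 := by
  have : Fact (Nat.Prime 2) := ⟨Nat.prime_two⟩
  have h2 : 2 ∣ Nat.card ↥S.Cz := by rw [S.hCz]; norm_num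
  obtain ⟨x, hx⟩ := exists_prime_orderOf_dvd_card' 2 h2
  refine ⟨(x : G), ?_, mem_centralizer_singleton_iff.mp x.2⟩
  rw [Subgroup.orderOf_coe]; exact hx

theorem sq_of_order_two {r : G} (hr : orderOf r = 2) : r * r = 1 := by
  have := pow_orderOf_eq_one r
  rwa [hr, pow_two] at this

theorem inv_of_order_two {r : G} (hr : orderOf r = 2) : r⁻¹ = r :=
  inv_eq_of_mul_eq_one_left (sq_of_order_two hr)

theorem mem_zpowers_commute {x : G} (hx : x ∈ zpowers S.z) {y : G} (hy : y * S.z = S.z * y) :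
    y * x = x * y := by
  obtain ⟨k, rfl⟩ := mem_zpowers_iff.mp hx
  exact ((show Commute y S.z from hy).zpow_right k).eq

theorem zpowers_le_U : zpowers S.z ≤ S.U := zpowers_le.mpr S.hzU

theorem fix_r0 [Finite G] (r0 : G) (hr0 : orderOf r0 = 2) (hr0z : r0 * S.z = S.z * r0) (x : G)
    (hx : x ∈ S.U) (hxr : r0 * x = x * r0) : x ∈ zpowers S.z := by
  have hcomm : Commute r0 S.z := hr0z
  have hw : orderOf (r0 * S.z) = 6 := by
    rw [hcomm.orderOf_mul_eq_mul_orderOf_of_coprime (by rw [hr0, S.hz]; norm_num), hr0, S.hz]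
  have h6 := S.h6 (r0 * S.z) (by rw [hw])
  set K := S.U ⊓ centralizer ({r0 * S.z} : Set G) with hK
  have hzK : zpowers S.z ≤ K := by
    rw [zpowers_le]
    refine mem_inf.mpr ⟨S.hzU, mem_centralizer_singleton_iff.mpr ?_⟩
    rw [← mul_assoc, ← hr0z]
  have hxK : x ∈ K := by
    refine mem_inf.mpr ⟨hx, mem_centralizer_singleton_iff.mpr ?_⟩
    rw [← mul_assoc, ← hxr, mul_assoc, S.hzc x hx, ← mul_assoc]
  have hd1 : Nat.card ↥K ∣ 27 := S.hU ▸ card_dvd_of_le inf_le_left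
  have hd2 : Nat.card ↥K ∣ 6 := h6 ▸ card_dvd_of_le inf_le_right
  have hd3 : Nat.card ↥K ∣ 3 := by
    have := Nat.dvd_gcd hd1 hd2
    norm_num at this
    exact this
  have hle : Nat.card ↥K ≤ 3 := Nat.le_of_dvd (by norm_num) hd3
  have : zpowers S.z = K := eq_of_le_of_card_ge hzK (by rw [Nat.card_zpowers, S.hz]; exact hle)
  rw [this]; exact hxK

theorem mul_conj_r0 [Finite G] (r0 : G) (hr0 : orderOf r0 = 2) (hr0z : r0 * S.z = S.z * r0)
    (v : G) (hv : v ∈ S.U) : v * (r0 * v * r0⁻¹) ∈ zpowers S.z := by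
  have hr0N : r0 ∈ normalizer (S.U : Set G) :=
    S.Cz_le_normalizer (mem_centralizer_singleton_iff.mpr hr0z)
  have hsq := sq_of_order_two hr0
  have hinv := inv_of_order_two hr0
  set v' := r0 * v * r0⁻¹ with hv'
  have hv'U : v' ∈ S.U := S.conj_mem_U hr0N hv
  set c := v'⁻¹ * v⁻¹ * v'⁻¹⁻¹ * v⁻¹⁻¹ with hc
  have hcZ : c ∈ zpowers S.z :=
    comm_mem_zpowers S.U S.hU S.z S.hzU S.hz S.hzc _ _ (inv_mem hv'U) (inv_mem hv)
  have hcU : c ∈ S.U := S.zpowers_le_U hcZ
  have hc3 : c ^ 3 = 1 := S.hexp c hcU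
  have hyU : v * v' ∈ S.U := mul_mem hv hv'U
  -- `r0` maps `y = v v'` to `y c`
  have h1 : r0 * (v * v') * r0⁻¹ = (v * v') * c := by
    have e1 : r0 * v' * r0⁻¹ = v := by
      rw [hv', hinv]
      calc r0 * (r0 * v * r0) * r0 = (r0 * r0) * v * (r0 * r0) := by group
        _ = v := by rw [hsq, one_mul, mul_one]
    calc r0 * (v * v') * r0⁻¹ = (r0 * v * r0⁻¹) * (r0 * v' * r0⁻¹) := by group
      _ = v' * v := by rw [e1]
      _ = (v * v') * c := by rw [hc]; group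
  have hcr : r0 * c = c * r0 := S.mem_zpowers_commute hcZ hr0z
  have h2 : r0 * (r0 * (v * v') * r0⁻¹) * r0⁻¹ = v * v' := by
    rw [hinv]
    calc r0 * (r0 * (v * v') * r0) * r0 = (r0 * r0) * (v * v') * (r0 * r0) := by group
      _ = v * v' := by rw [hsq, one_mul, mul_one]
  have h3 : r0 * ((v * v') * c) * r0⁻¹ = (v * v') * c * c := by
    calc r0 * ((v * v') * c) * r0⁻¹ = (r0 * (v * v') * r0⁻¹) * (r0 * c * r0⁻¹) := by group
      _ = (v * v') * c * c := by rw [h1, hcr]; group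
  rw [h1, h3] at h2
  have hcc : c * c = 1 := by
    have : (v * v') * (c * c) = (v * v') * 1 := by rw [mul_one, ← mul_assoc]; exact h2
    exact mul_left_cancel this
  have hc1 : c = 1 := eq_one_of_sq_of_cube hcc hc3
  rw [hc1, mul_one] at h1
  apply S.fix_r0 r0 hr0 hr0z _ hyU
  calc r0 * (v * v') = r0 * (v * v') * r0⁻¹ * r0 := by group
    _ = (v * v') * r0 := by rw [h1]

end Setup

end Cfsg.Agent.Lib.Helper24.L33Loc
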