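/- helper24: a subgroup of order 4 of N(U) and an element of it inverting z (piece D2 of target T) -/
import Cfsg.Agent.Lib.Helper24.L33LocD

set_option autoImplicit false

namespace Cfsg.Agent.Lib.Helper24.L33Loc

open Subgroup

/-- the elements of `zpowers r` for `r` of order two -/
theorem mem_zpowers_order_two {G : Type*} [Group G] {r x : G} (hr : orderOf r = 2)
    (hx : x ∈ zpowers r) : x = 1 ∨ x = r := by
  obtain ⟨k, rfl⟩ := mem_zpowers_iff.mp hx
  have hk : r ^ k = r ^ (k % 2) := by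
    have := zpow_mod_orderOf r k
    rw [hr] at this
    exact_mod_cast this.symm
  obtain h | h : k % 2 = 0 ∨ k % 2 = 1 := by omega
  · left; rw [hk, h, zpow_zero]
  · right; rw [hk, h, zpow_one]

namespace Setup

variable {G : Type*} [Group G] (S : Setup G)

theorem exists_d [Finite G] (hG : Nat.card G = 5616) (r0 : G) (hr0 : orderOf r0 = 2)
    (hr0z : r0 * S.z = S.z * r0) :
    ∃ d : G, d ∈ normalizer (S.U : Set G) ∧ d * S.z * d⁻¹ = S.z⁻¹ ∧ (d * d = 1 ∨ d * d = r0) ∧
      ∃ T : Subgroup G, Nat.card ↥T = 4 ∧ r0 ∈ T ∧ d ∈ T ∧ T ≤ normalizer (S.U : Set G) := by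
  have : Fact (Nat.Prime 2) := ⟨Nat.prime_two⟩
  have hr0C : r0 ∈ S.Cz := mem_centralizer_singleton_iff.mpr hr0z
  have hr0N : r0 ∈ normalizer (S.U : Set G) := S.Cz_le_normalizer hr0C
  have hN := S.card_normalizer hG
  set N := normalizer (S.U : Set G) with hNdef
  have hH : Nat.card ↥(zpowers (⟨r0, hr0N⟩ : ↥N)) = 2 ^ 1 := by
    rw [Nat.card_zpowers, Subgroup.orderOf_mk, hr0, pow_one]
  obtain ⟨K, hK, hHK⟩ := Sylow.exists_subgroup_card_pow_prime_le 2 (m := 2)
    (by rw [hN]; norm_num) _ hH (by norm_num)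
  set T := K.map N.subtype with hT
  have hcT : Nat.card ↥T = 4 := by
    rw [hT, Subgroup.card_map_of_injective N.subtype_injective, hK]; norm_num
  have hTN : T ≤ N := by
    rw [hT]; exact map_subtype_le K
  have hr0T : r0 ∈ T := ⟨⟨r0, hr0N⟩, hHK (mem_zpowers _), rfl⟩
  -- an element outside `C(z)`
  have hex : ∃ d ∈ T, d ∉ S.Cz := by
    by_contra hcon
    push Not at hcon
    have hle : T ≤ S.Cz := hcon
    have := card_dvd_of_le hle
    rw [hcT, S.hCz] at this
    omega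
  obtain ⟨d, hdT, hdC⟩ := hex
  have hdN : d ∈ N := hTN hdT
  have hdz : d * S.z * d⁻¹ = S.z⁻¹ := by
    rcases S.conj_z hdN with h | h
    · exfalso
      apply hdC
      rw [mem_centralizer_singleton_iff]
      calc d * S.z = d * S.z * d⁻¹ * d := by group
        _ = S.z * d := by rw [h]
    · exact h
  have hddC : d * d ∈ S.Cz := by
    rw [mem_centralizer_singleton_iff]
    have h1 : d * S.z⁻¹ * d⁻¹ = S.z := by
      have : d * S.z⁻¹ * d⁻¹ = (d * S.z * d⁻¹)⁻¹ := by group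
      rw [this, hdz, inv_inv]
    calc d * d * S.z = d * (d * S.z * d⁻¹) * d⁻¹ * (d * d) := by group
      _ = S.z * (d * d) := by rw [hdz, h1]
  set J := T ⊓ S.Cz with hJ
  have hddJ : d * d ∈ J := mem_inf.mpr ⟨mul_mem hdT hdT, hddC⟩
  have hr0J : zpowers r0 ≤ J := by
    rw [zpowers_le]; exact mem_inf.mpr ⟨hr0T, hr0C⟩
  have hJ4 : Nat.card ↥J ∣ 4 := hcT ▸ card_dvd_of_le inf_le_left
  have hJne : Nat.card ↥J ≠ 4 := by
    intro h
    have : J = T := eq_of_le_of_card_ge inf_le_left (by rw [h, hcT])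
    exact hdC (mem_inf.mp (this ▸ hdT)).2
  have hJ2 : 2 ∣ Nat.card ↥J := by
    have := card_dvd_of_le hr0J
    rwa [Nat.card_zpowers, hr0] at this
  have hJle : Nat.card ↥J ≤ 2 := by
    have hle : Nat.card ↥J ≤ 4 := Nat.le_of_dvd (by norm_num) hJ4
    generalize Nat.card ↥J = n at *
    interval_cases n <;> omega
  have hJeq : zpowers r0 = J :=
    eq_of_le_of_card_ge hr0J (by rw [Nat.card_zpowers, hr0]; exact hJle)
  have hdd : d * d = 1 ∨ d * d = r0 := mem_zpowers_order_two hr0 (hJeq ▸ hddJ)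
  exact ⟨d, hdN, hdz, hdd, T, hcT, hr0T, hdT, hTN⟩

end Setup

end Cfsg.Agent.Lib.Helper24.L33Loc
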