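/- helper24: the Sylow 2-subgroup of N(U) is not cyclic (piece D2 of target T) -/
import Cfsg.Agent.Lib.Helper24.L33LocE

set_option autoImplicit false

namespace Cfsg.Agent.Lib.Helper24.L33Loc

open Subgroup

namespace Setup

variable {G : Type*} [Group G] (S : Setup G)

/-- conjugation by an element inverting `z` inverts `⟨z⟩` -/
theorem conj_inv_of_mem_zpowers {d : G} (hdz : d * S.z * d⁻¹ = S.z⁻¹) {c : G}
    (hc : c ∈ zpowers S.z) : d * c * d⁻¹ = c⁻¹ := by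
  obtain ⟨k, rfl⟩ := mem_zpowers_iff.mp hc
  rw [← conj_zpow, hdz, inv_zpow]

/-- conjugation by an element inverting `u` inverts `⟨u⟩` -/
theorem conj_inv_of_mem_zpowers' {r u : G} (hru : r * u * r⁻¹ = u⁻¹) {c : G}
    (hc : c ∈ zpowers u) : r * c * r⁻¹ = c⁻¹ := by
  obtain ⟨k, rfl⟩ := mem_zpowers_iff.mp hc
  rw [← conj_zpow, hru, inv_zpow]

theorem exists_not_mem_zpowers [Finite G] : ∃ u0 ∈ S.U, u0 ∉ zpowers S.z := by
  by_contra hcon
  push Not at hcon
  have hle : S.U ≤ zpowers S.z := hcon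
  have := card_le_of_le hle
  rw [S.hU, Nat.card_zpowers, S.hz] at this
  omega

theorem exists_not_commute {u : G} (hu : u ∈ S.U) (huZ : u ∉ zpowers S.z) :
    ∃ y ∈ S.U, y * u ≠ u * y := by
  by_contra hcon
  push Not at hcon
  exact huZ (S.hZ u hu (fun y hy => (hcon y hy).symm))

theorem orderOf_eq_three {u : G} (hu : u ∈ S.U) (hu1 : u ≠ 1) : orderOf u = 3 := by
  have : Fact (Nat.Prime 3) := ⟨Nat.prime_three⟩
  exact orderOf_eq_prime (S.hexp u hu) hu1

theorem one_mem_zpowers_z : (1 : G) ∈ zpowers S.z := one_mem _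

/-- the cyclic case is impossible -/
theorem not_cyclic [Finite G] (r0 : G) (hr0 : orderOf r0 = 2) (hr0z : r0 * S.z = S.z * r0)
    (d : G) (hdN : d ∈ normalizer (S.U : Set G)) (hdz : d * S.z * d⁻¹ = S.z⁻¹)
    (hdd : d * d = r0) : False := by
  obtain ⟨u0, hu0U, hu0Z⟩ := S.exists_not_mem_zpowers
  have hsq := sq_of_order_two hr0
  have hinv := inv_of_order_two hr0
  have hr0N : r0 ∈ normalizer (S.U : Set G) :=
    S.Cz_le_normalizer (mem_centralizer_singleton_iff.mpr hr0z)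
  -- normalize `u0` to an element inverted by `r0`
  set ζ := u0 * (r0 * u0 * r0⁻¹) with hζ
  have hζZ : ζ ∈ zpowers S.z := S.mul_conj_r0 r0 hr0 hr0z u0 hu0U
  have hζU : ζ ∈ S.U := S.zpowers_le_U hζZ
  have hζ3 : ζ ^ 3 = 1 := S.hexp ζ hζU
  have hζr : r0 * ζ = ζ * r0 := S.mem_zpowers_commute hζZ hr0z
  have hζu0 : u0 * ζ = ζ * u0 := S.mem_zpowers_commute hζZ (S.hzc u0 hu0U)
  set u := u0 * ζ with hu
  have huU : u ∈ S.U := mul_mem hu0U hζU
  have huZ : u ∉ zpowers S.z := by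
    intro h
    apply hu0Z
    have : u0 = u * ζ⁻¹ := by rw [hu]; group
    rw [this]
    exact mul_mem h (inv_mem hζZ)
  have hu1 : u ≠ 1 := fun h => huZ (h ▸ one_mem _)
  have hu3 : orderOf u = 3 := S.orderOf_eq_three huU hu1
  have hru : r0 * u * r0⁻¹ = u⁻¹ := by
    have e1 : r0 * u0 * r0⁻¹ = u0⁻¹ * ζ := by rw [hζ]; group
    have e2 : r0 * ζ * r0⁻¹ = ζ := by rw [hζr]; group
    have e3 : ζ * ζ = ζ⁻¹ := by
      have : ζ * ζ * ζ = 1 := by rw [← hζ3, pow_succ, pow_two]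
      exact eq_inv_of_mul_eq_one_left this
    calc r0 * u * r0⁻¹ = (r0 * u0 * r0⁻¹) * (r0 * ζ * r0⁻¹) := by rw [hu]; group
      _ = u0⁻¹ * (ζ * ζ) := by rw [e1, e2]; group
      _ = u0⁻¹ * ζ⁻¹ := by rw [e3]
      _ = (ζ * u0)⁻¹ := by group
      _ = u⁻¹ := by rw [← hζu0]
  -- the conjugate `v = d u d⁻¹`
  set v := d * u * d⁻¹ with hv
  have hvU : v ∈ S.U := S.conj_mem_U hdN huU
  have hdv : d * v * d⁻¹ = u⁻¹ := by
    calc d * v * d⁻¹ = (d * d) * u * (d * d)⁻¹ := by rw [hv]; group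
      _ = u⁻¹ := by rw [hdd, hru]
  -- `u` and `v` commute
  have huv : u * v = v * u := by
    set c := u * v * u⁻¹ * v⁻¹ with hc
    have hcZ : c ∈ zpowers S.z :=
      comm_mem_zpowers S.U S.hU S.z S.hzU S.hz S.hzc u v huU hvU
    have hcU : c ∈ S.U := S.zpowers_le_U hcZ
    have hcu : u * c = c * u := S.mem_zpowers_commute hcZ (S.hzc u huU)
    have h1 : d * c * d⁻¹ = c := by
      calc d * c * d⁻¹ = (d * u * d⁻¹) * (d * v * d⁻¹) * (d * u * d⁻¹)⁻¹ * (d * v * d⁻¹)⁻¹ := by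
            rw [hc]; group
        _ = v * u⁻¹ * v⁻¹ * u := by rw [hdv, ← hv, inv_inv]
        _ = u⁻¹ * (c * u) := by rw [hc]; group
        _ = u⁻¹ * (u * c) := by rw [hcu]
        _ = c := by group
    have h2 : d * c * d⁻¹ = c⁻¹ := S.conj_inv_of_mem_zpowers hdz hcZ
    have hcc : c * c = 1 := by
      have : c = c⁻¹ := h1.symm.trans h2
      calc c * c = c * c⁻¹ := by rw [← this]
        _ = 1 := mul_inv_cancel c
    have hc1 : c = 1 := eq_one_of_sq_of_cube hcc (S.hexp c hcU)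
    have : u * v * u⁻¹ * v⁻¹ = 1 := hc1
    calc u * v = (u * v * u⁻¹ * v⁻¹) * (v * u) := by group
      _ = v * u := by rw [this, one_mul]
  -- decompose `v`
  obtain ⟨h, hh, k, hk, hvhk⟩ := exists_mul_of_commute S.U S.hU S.z S.hzU S.hz S.hzc u huU hu3 huZ
    (S.exists_not_commute huU huZ) v hvU huv.symm
  have hrv : r0 * v * r0⁻¹ = v⁻¹ := by
    calc r0 * v * r0⁻¹ = d * (d * v * d⁻¹) * d⁻¹ := by rw [← hdd]; group
      _ = (d * u * d⁻¹)⁻¹ := by rw [hdv]; group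
      _ = v⁻¹ := by rw [hv]
  have hrh : r0 * h * r0⁻¹ = h⁻¹ := conj_inv_of_mem_zpowers' hru hh
  have hrk : r0 * k * r0⁻¹ = k := by
    rw [S.mem_zpowers_commute hk hr0z]; group
  have hhU : h ∈ S.U := (zpowers_le.mpr huU) hh
  have hkU : k ∈ S.U := S.zpowers_le_U hk
  have hhk : h * k = k * h := S.mem_zpowers_commute hk (S.hzc h hhU)
  have hk1 : k = 1 := by
    have e1 : r0 * v * r0⁻¹ = h⁻¹ * k := by
      calc r0 * v * r0⁻¹ = (r0 * h * r0⁻¹) * (r0 * k * r0⁻¹) := by rw [hvhk]; group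
        _ = h⁻¹ * k := by rw [hrh, hrk]
    have e2 : v⁻¹ = h⁻¹ * k⁻¹ := by
      rw [hvhk, hhk]; group
    have e3 : h⁻¹ * k = h⁻¹ * k⁻¹ := by rw [← e1, hrv, e2]
    have e4 : k = k⁻¹ := mul_left_cancel e3
    have hkk : k * k = 1 := by
      calc k * k = k * k⁻¹ := by rw [← e4]
        _ = 1 := mul_inv_cancel k
    exact eq_one_of_sq_of_cube hkk (S.hexp k hkU)
  rw [hk1, mul_one] at hvhk
  rw [← hvhk] at hh
  have huu : u = u⁻¹ → False := by
    intro h
    apply hu1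
    have huu' : u * u = 1 := by
      calc u * u = u * u⁻¹ := by rw [← h]
        _ = 1 := mul_inv_cancel u
    exact eq_one_of_sq_of_cube huu' (S.hexp u huU)
  rcases mem_zpowers_order_three hu3 hh with h1 | h1 | h1
  · apply hu1
    have : u = d⁻¹ * v * d := by rw [hv]; group
    rw [this, h1]; group
  · -- `v = u`
    apply huu
    calc u = v := h1.symm
      _ = d * u * d⁻¹ := hv
      _ = d * v * d⁻¹ := by rw [h1]
      _ = u⁻¹ := hdv
  · -- `v = u⁻¹`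
    apply huu
    have e : d * u * d⁻¹ = u⁻¹ := hv.symm.trans h1
    calc u = (u⁻¹)⁻¹ := (inv_inv u).symm
      _ = (d * u * d⁻¹)⁻¹ := by rw [e]
      _ = d * u⁻¹ * d⁻¹ := by group
      _ = d * v * d⁻¹ := by rw [h1]
      _ = u⁻¹ := hdv

end Setup

end Cfsg.Agent.Lib.Helper24.L33Loc
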