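/- helper24: fixed points of the inverting involution and U-classes (piece D2 of target T) -/
import Cfsg.Agent.Lib.Helper24.L33LocF

set_option autoImplicit false

namespace Cfsg.Agent.Lib.Helper24.L33Loc

open Subgroup

namespace Setup

variable {G : Type*} [Group G] (S : Setup G)

/-- an involution normalizing `U` and inverting `z` centralizes an element of `U` outside
`⟨z⟩` -/
theorem exists_fixed [Finite G] (d : G) (hdN : d ∈ normalizer (S.U : Set G))
    (hdz : d * S.z * d⁻¹ = S.z⁻¹) (hdd : d * d = 1) :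
    ∃ u ∈ S.U, u ∉ zpowers S.z ∧ d * u = u * d := by
  have hex : ∃ u ∈ S.U, u ≠ 1 ∧ d * u = u * d := by
    by_contra hcon
    push Not at hcon
    have hfpf : ∀ x ∈ S.U, d * x = x * d → x = 1 := by
      intro x hx hxd
      by_contra hx1
      exact hcon x hx hx1 hxd
    have hinv := inverts_of_fixed_point_free S.U d hdd (fun x hx => S.conj_mem_U hdN hx) hfpf
    -- `U` is abelian
    have hab : ∀ x ∈ S.U, ∀ y ∈ S.U, x * y = y * x := by
      intro x hx y hy
      have h1 := hinv (x * y) (mul_mem hx hy)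
      have h2 : d * (x * y) * d⁻¹ = (d * x * d⁻¹) * (d * y * d⁻¹) := by group
      rw [h2, hinv x hx, hinv y hy] at h1
      have h3 : (x⁻¹ * y⁻¹)⁻¹ = ((x * y)⁻¹)⁻¹ := by rw [h1]
      rw [inv_inv] at h3
      rw [← h3]; group
    obtain ⟨u0, hu0U, hu0Z⟩ := S.exists_not_mem_zpowers
    exact hu0Z (S.hZ u0 hu0U (fun y hy => hab u0 hu0U y hy))
  obtain ⟨u, huU, hu1, hud⟩ := hex
  refine ⟨u, huU, ?_, hud⟩
  intro huZ
  have h1 : d * u * d⁻¹ = u⁻¹ := S.conj_inv_of_mem_zpowers hdz huZ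
  have h2 : d * u * d⁻¹ = u := by rw [hud]; group
  have h3 : u = u⁻¹ := h2.symm.trans h1
  have huu : u * u = 1 := by
    calc u * u = u * u⁻¹ := by rw [← h3]
      _ = 1 := mul_inv_cancel u
  exact hu1 (eq_one_of_sq_of_cube huu (S.hexp u huU))

/-- the `U`-class of a non-central element is its coset modulo `⟨z⟩` -/
theorem exists_conj_eq_mul [Finite G] {u : G} (huU : u ∈ S.U) (huZ : u ∉ zpowers S.z) {k : G}
    (hk : k ∈ zpowers S.z) : ∃ g ∈ S.U, g * u * g⁻¹ = u * k := by
  obtain ⟨y, hyU, hyu⟩ := S.exists_not_commute huU huZ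
  set c := y * u * y⁻¹ * u⁻¹ with hc
  have hcZ : c ∈ zpowers S.z := comm_mem_zpowers S.U S.hU S.z S.hzU S.hz S.hzc y u hyU huU
  have hc1 : c ≠ 1 := by
    intro h
    apply hyu
    calc y * u = (y * u * y⁻¹ * u⁻¹) * (u * y) := by group
      _ = u * y := by rw [← hc, h, one_mul]
  have hcu : u * c = c * u := S.mem_zpowers_commute hcZ (S.hzc u huU)
  have hcy : y * c = c * y := S.mem_zpowers_commute hcZ (S.hzc y hyU)
  have e1 : y * u * y⁻¹ = u * c := by
    rw [hcu, hc]; group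
  have e2 : y⁻¹ * u * y⁻¹⁻¹ = u * c⁻¹ := by
    have : u = y⁻¹ * (u * c) * y := by rw [← e1]; group
    calc y⁻¹ * u * y⁻¹⁻¹ = y⁻¹ * u * y := by rw [inv_inv]
      _ = (y⁻¹ * (u * c) * y) * c⁻¹ := by
          have : y⁻¹ * (u * c) * y = y⁻¹ * u * (c * y) := by group
          rw [this, ← hcy]; group
      _ = u * c⁻¹ := by rw [← this]
  have hcases : c = S.z ∨ c = S.z⁻¹ := by
    rcases mem_zpowers_order_three S.hz hcZ with h | h | h
    · exact absurd h hc1
    · exact Or.inl h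
    · exact Or.inr h
  rcases mem_zpowers_order_three S.hz hk with h | h | h
  · exact ⟨1, one_mem _, by rw [h]; group⟩
  · rcases hcases with h' | h'
    · exact ⟨y, hyU, by rw [e1, h', h]⟩
    · exact ⟨y⁻¹, inv_mem hyU, by rw [e2, h', h, inv_inv]⟩
  · rcases hcases with h' | h'
    · exact ⟨y⁻¹, inv_mem hyU, by rw [e2, h', h]⟩
    · exact ⟨y, hyU, by rw [e1, h', h]⟩

end Setup

end Cfsg.Agent.Lib.Helper24.L33Loc
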