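/- helper24: piece D2 of target T: a pure subgroup E of order 9 with N(U) <= N(E), |N(U)| = 108 -/
import Cfsg.Agent.Lib.Helper24.L33LocG

set_option autoImplicit false

namespace Cfsg.Agent.Lib.Helper24.L33Loc

open Subgroup

namespace Setup

variable {G : Type*} [Group G] (S : Setup G)

/-- the pure subgroup `E = C_U(u)` and its properties -/
theorem pure_of_fixed [Finite G] (hG : Nat.card G = 5616) (r0 : G) (hr0 : orderOf r0 = 2)
    (hr0z : r0 * S.z = S.z * r0) (d : G) (hdN : d ∈ normalizer (S.U : Set G))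
    (hdz : d * S.z * d⁻¹ = S.z⁻¹) (hdd : d * d = 1) (T : Subgroup G) (hcT : Nat.card ↥T = 4)
    (hr0T : r0 ∈ T) (hdT : d ∈ T) (u : G) (huU : u ∈ S.U) (huZ : u ∉ zpowers S.z)
    (hud : d * u = u * d) :
    ∃ E : Subgroup G, E ≤ S.U ∧ Nat.card ↥E = 9 ∧
      (∀ e ∈ E, e ≠ 1 → orderOf e = 3 ∧ Nat.card ↥(centralizer ({e} : Set G)) = 54) ∧
      normalizer (S.U : Set G) ≤ normalizer (E : Set G) := by
  have hu1 : u ≠ 1 := fun h => huZ (h ▸ one_mem _)
  have hu3 : orderOf u = 3 := S.orderOf_eq_three huU hu1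
  have hunc := S.exists_not_commute huU huZ
  have hd1 : d ≠ 1 := by
    intro h
    rw [h, one_mul, inv_one, mul_one] at hdz
    have hzz : S.z * S.z = 1 := by
      calc S.z * S.z = S.z * S.z⁻¹ := by rw [← hdz]
        _ = 1 := mul_inv_cancel _
    exact S.z_ne_one (eq_one_of_sq_of_cube hzz (S.hexp S.z S.hzU))
  have hd2 : orderOf d = 2 := by
    have : Fact (Nat.Prime 2) := ⟨Nat.prime_two⟩
    exact orderOf_eq_prime (by rw [pow_two]; exact hdd) hd1
  have hdinv : d⁻¹ = d := inv_eq_of_mul_eq_one_left hdd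
  have hr0inv := inv_of_order_two hr0
  have hr0C : r0 ∈ S.Cz := mem_centralizer_singleton_iff.mpr hr0z
  have hr0N : r0 ∈ normalizer (S.U : Set G) := S.Cz_le_normalizer hr0C
  -- `|C(u)| = 54`
  have hCu : Nat.card ↥(centralizer ({u} : Set G)) = 54 := by
    have hdC : d ∈ centralizer ({u} : Set G) := mem_centralizer_singleton_iff.mpr hud
    have h2 : 2 ∣ Nat.card ↥(centralizer ({u} : Set G)) := by
      have := orderOf_dvd_natCard (⟨d, hdC⟩ : ↥(centralizer ({u} : Set G)))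
      rwa [Subgroup.orderOf_mk, hd2] at this
    rcases S.h3 u hu3 with h | h
    · exact h
    · exfalso
      have := h2.trans h
      omega
  set E := S.U ⊓ centralizer ({u} : Set G) with hE
  have hcE : Nat.card ↥E = 9 := card_inf_centralizer S.U S.hU S.z S.hzU S.hz S.hzc u huU huZ hunc
  have hzE : zpowers S.z ≤ E := by
    rw [zpowers_le]
    exact mem_inf.mpr ⟨S.hzU, mem_centralizer_singleton_iff.mpr (S.hzc u huU).symm⟩
  have hmemE : ∀ {x : G}, x ∈ S.U → x * u = u * x → x ∈ E := fun hx hxu =>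
    mem_inf.mpr ⟨hx, mem_centralizer_singleton_iff.mpr hxu⟩
  have hEu : ∀ {x : G}, x ∈ E → x * u = u * x := fun hx =>
    mem_centralizer_singleton_iff.mp (mem_inf.mp hx).2
  have hEU : E ≤ S.U := inf_le_left
  -- purity
  have hpure : ∀ e ∈ E, e ≠ 1 → orderOf e = 3 ∧ Nat.card ↥(centralizer ({e} : Set G)) = 54 := by
    intro e he he1
    refine ⟨S.orderOf_eq_three (hEU he) he1, ?_⟩
    obtain ⟨h, hh, k, hk, hehk⟩ := exists_mul_of_commute S.U S.hU S.z S.hzU S.hz S.hzc u huU hu3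
      huZ hunc e (hEU he) (hEu he)
    rcases mem_zpowers_order_three hu3 hh with h1 | h1 | h1
    · -- `e = k`
      rw [h1, one_mul] at hehk
      rw [hehk] at he1 ⊢
      rcases mem_zpowers_order_three S.hz hk with h2 | h2 | h2
      · exact absurd h2 he1
      · rw [h2]; exact S.hCz
      · rw [h2, centralizer_inv]; exact S.hCz
    · -- `e = u k`
      obtain ⟨g, -, hg⟩ := S.exists_conj_eq_mul huU huZ hk
      rw [hehk, h1, ← hg, card_centralizer_conj]; exact hCu
    · -- `e = u⁻¹ k`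
      obtain ⟨g, -, hg⟩ := S.exists_conj_eq_mul huU huZ (inv_mem hk)
      have hku : u * k⁻¹ = k⁻¹ * u := (S.mem_zpowers_commute (inv_mem hk) (S.hzc u huU))
      have : e = (g * u * g⁻¹)⁻¹ := by
        rw [hg, hehk, h1, hku]; group
      rw [this, centralizer_inv, card_centralizer_conj]; exact hCu
  -- normalizing elements
  have hUN : ∀ g ∈ S.U, ∀ e ∈ E, g * e * g⁻¹ ∈ E := by
    intro g hg e he
    have hc : g * e * g⁻¹ * e⁻¹ ∈ zpowers S.z :=
      comm_mem_zpowers S.U S.hU S.z S.hzU S.hz S.hzc g e hg (hEU he)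
    have : g * e * g⁻¹ = (g * e * g⁻¹ * e⁻¹) * e := by group
    rw [this]
    exact mul_mem (hzE hc) he
  have hrN : ∀ e ∈ E, r0 * e * r0⁻¹ ∈ E := by
    intro e he
    have hc : e * (r0 * e * r0⁻¹) ∈ zpowers S.z := S.mul_conj_r0 r0 hr0 hr0z e (hEU he)
    have : r0 * e * r0⁻¹ = e⁻¹ * (e * (r0 * e * r0⁻¹)) := by group
    rw [this]
    exact mul_mem (inv_mem he) (hzE hc)
  have hdNE : ∀ e ∈ E, d * e * d⁻¹ ∈ E := by
    intro e he
    apply hmemE (S.conj_mem_U hdN (hEU he))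
    have h1 : d⁻¹ * u * d = u := by rw [mul_assoc, ← hud]; group
    calc d * e * d⁻¹ * u = d * (e * (d⁻¹ * u * d)) * d⁻¹ := by group
      _ = d * (u * e) * d⁻¹ := by rw [h1, hEu he]
      _ = (d * u) * e * d⁻¹ := by group
      _ = u * (d * e * d⁻¹) := by rw [hud]; group
  have hUle : S.U ≤ normalizer (E : Set G) := by
    intro g hg
    apply mem_normalizer_of_forall E g (hUN g hg)
    intro e he
    have := hUN g⁻¹ (inv_mem hg) e he
    rwa [inv_inv] at this
  have hr0NE : r0 ∈ normalizer (E : Set G) := by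
    apply mem_normalizer_of_forall E r0 hrN
    intro e he
    have := hrN e he
    rwa [hr0inv] at this ⊢
  have hdNE' : d ∈ normalizer (E : Set G) := by
    apply mem_normalizer_of_forall E d hdNE
    intro e he
    have := hdNE e he
    rwa [hdinv] at this ⊢
  refine ⟨E, hEU, hcE, hpure, ?_⟩
  -- `N(U) ≤ N(E)` by counting
  have hNcard := S.card_normalizer hG
  set NE := normalizer (S.U : Set G) ⊓ normalizer (E : Set G) with hNE
  have hU_NE : S.U ≤ NE := le_inf le_normalizer hUle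
  have h27 : 27 ∣ Nat.card ↥NE := S.hU ▸ card_dvd_of_le hU_NE
  have hr0NE2 : r0 ∈ NE := mem_inf.mpr ⟨hr0N, hr0NE⟩
  have hdNE2 : d ∈ NE := mem_inf.mpr ⟨hdN, hdNE'⟩
  have h4 : 4 ∣ Nat.card ↥NE := by
    set J := T ⊓ NE with hJ
    have hJ4 : Nat.card ↥J ∣ 4 := hcT ▸ card_dvd_of_le inf_le_left
    have hr0J : zpowers r0 ≤ J := by
      rw [zpowers_le]; exact mem_inf.mpr ⟨hr0T, hr0NE2⟩
    have hdJ : d ∈ J := mem_inf.mpr ⟨hdT, hdNE2⟩
    have hJ2 : 2 ∣ Nat.card ↥J := by
      have := card_dvd_of_le hr0J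
      rwa [Nat.card_zpowers, hr0] at this
    have hJne2 : Nat.card ↥J ≠ 2 := by
      intro h
      have : zpowers r0 = J := eq_of_le_of_card_ge hr0J (by rw [Nat.card_zpowers, hr0, h])
      rcases mem_zpowers_order_two hr0 (this ▸ hdJ) with h' | h'
      · exact hd1 h'
      · -- `d = r0` centralizes `z`
        rw [h'] at hdz
        have hzz : S.z = S.z⁻¹ := by
          rw [← hdz, hr0z]; group
        have hzz' : S.z * S.z = 1 := by
          calc S.z * S.z = S.z * S.z⁻¹ := by rw [← hzz]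
            _ = 1 := mul_inv_cancel _
        exact S.z_ne_one (eq_one_of_sq_of_cube hzz' (S.hexp S.z S.hzU))
    have hJeq : Nat.card ↥J = 4 := by
      have hle : Nat.card ↥J ≤ 4 := Nat.le_of_dvd (by norm_num) hJ4
      generalize Nat.card ↥J = n at *
      interval_cases n <;> omega
    rw [← hJeq]
    exact card_dvd_of_le inf_le_right
  have h108 : 108 ∣ Nat.card ↥NE := by
    have : Nat.Coprime 27 4 := by norm_num
    exact this.mul_dvd_of_dvd_of_dvd h27 h4
  have hle : Nat.card ↥(normalizer (S.U : Set G)) ≤ Nat.card ↥NE := by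
    rw [hNcard]
    exact Nat.le_of_dvd Nat.card_pos h108
  have heq : NE = normalizer (S.U : Set G) := eq_of_le_of_card_ge inf_le_left hle
  intro g hg
  have : g ∈ NE := heq ▸ hg
  exact (mem_inf.mp this).2

/-- **piece D2**: a pure subgroup `E` of order `9` of `U` with `N(U) ≤ N(E)`, `|N(U)| = 108` -/
theorem exists_pure [Finite G] (hG : Nat.card G = 5616) :
    ∃ E : Subgroup G, E ≤ S.U ∧ Nat.card ↥E = 9 ∧
      (∀ e ∈ E, e ≠ 1 → orderOf e = 3 ∧ Nat.card ↥(centralizer ({e} : Set G)) = 54) ∧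
      normalizer (S.U : Set G) ≤ normalizer (E : Set G) ∧
      Nat.card ↥(normalizer (S.U : Set G)) = 108 := by
  obtain ⟨r0, hr0, hr0z⟩ := S.exists_r0
  obtain ⟨d, hdN, hdz, hdd, T, hcT, hr0T, hdT, -⟩ := S.exists_d hG r0 hr0 hr0z
  rcases hdd with hdd | hdd
  · obtain ⟨u, huU, huZ, hud⟩ := S.exists_fixed d hdN hdz hdd
    obtain ⟨E, h1, h2, h3, h4⟩ :=
      S.pure_of_fixed hG r0 hr0 hr0z d hdN hdz hdd T hcT hr0T hdT u huU huZ hud
    exact ⟨E, h1, h2, h3, h4, S.card_normalizer hG⟩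
  · exact (S.not_cyclic r0 hr0 hr0z d hdN hdz hdd).elim

end Setup

/-- **piece D2 of target (T)** in the interface agreed with helper1 / helper5 -/
theorem exists_pure_sub {G : Type*} [Group G] [Finite G] (hG : Nat.card G = 5616)
    (h3 : ∀ x : G, orderOf x = 3 → Nat.card ↥(centralizer ({x} : Set G)) = 54 ∨
      Nat.card ↥(centralizer ({x} : Set G)) ∣ 9)
    (h6 : ∀ w : G, 6 ∣ orderOf w → Nat.card ↥(centralizer ({w} : Set G)) = 6)
    (U : Sylow 3 G) (hU27 : Nat.card ↥(U : Subgroup G) = 27)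
    (hexp : ∀ u ∈ (U : Subgroup G), u ^ 3 = 1) (z : G) (hzU : z ∈ (U : Subgroup G))
    (hz3 : orderOf z = 3) (hzc : ∀ u ∈ (U : Subgroup G), u * z = z * u)
    (hZ : ∀ x ∈ (U : Subgroup G), (∀ y ∈ (U : Subgroup G), x * y = y * x) → x ∈ zpowers z)
    (hCz : Nat.card ↥(centralizer ({z} : Set G)) = 54) :
    ∃ E : Subgroup G, E ≤ (U : Subgroup G) ∧ Nat.card ↥E = 9 ∧
      (∀ e ∈ E, e ≠ 1 → orderOf e = 3 ∧ Nat.card ↥(centralizer ({e} : Set G)) = 54) ∧
      normalizer ((U : Subgroup G) : Set G) ≤ normalizer (E : Set G) ∧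
      Nat.card ↥(normalizer ((U : Subgroup G) : Set G)) = 108 :=
  Setup.exists_pure ⟨U, z, hU27, hexp, hzU, hz3, hzc, hZ, hCz, h3, h6⟩ hG

end Cfsg.Agent.Lib.Helper24.L33Loc
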