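/- helper24: glue of pieces B-E of target T (simple of order 5616): pure normalizer of order 432 and the Steiner system on 13 points -/
import Cfsg.Agent.Lib.Helper1.L33LocC
import Cfsg.Agent.Lib.Helper24.L33LocH
import Cfsg.Agent.Lib.Helper5.L33H
import Cfsg.Agent.Lib.Helper5.L33G
import Cfsg.Agent.Lib.Helper2.L33DesignD

set_option autoImplicit false

namespace Cfsg.Agent.Lib.Helper24.L33Loc

open Subgroup

universe u

variable {G : Type u} [Group G] [Finite G]

/-- **piece [D] of target (T)**: glue of D1 (helper1), D2 (helper24), D3 (helper5) -/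
theorem exists_pure_normalizer [IsSimpleGroup G] (hG : Nat.card G = 5616)
    (h3 : ∀ x : G, orderOf x = 3 → Nat.card ↥(centralizer ({x} : Set G)) = 54 ∨
      Nat.card ↥(centralizer ({x} : Set G)) ∣ 9)
    (h6 : ∀ w : G, 6 ∣ orderOf w → Nat.card ↥(centralizer ({w} : Set G)) = 6)
    (hU : ∀ U : Subgroup G, Nat.card ↥U = 27 → (∀ u ∈ U, u ^ 3 = 1) →
      Nat.card {x : G // x ∈ U ∧ Nat.card ↥(centralizer ({x} : Set G)) = 54} = 5 ∨
      Nat.card {x : G // x ∈ U ∧ Nat.card ↥(centralizer ({x} : Set G)) = 54} = 14) :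
    ∃ E : Subgroup G, Nat.card ↥E = 9 ∧
      (∀ z ∈ E, z ≠ 1 → orderOf z = 3 ∧ Nat.card ↥(centralizer ({z} : Set G)) = 54) ∧
      Nat.card ↥(normalizer (E : Set G)) = 432 := by
  have : Fact (Nat.Prime 3) := ⟨Nat.prime_three⟩
  let U : Sylow 3 G := default
  obtain ⟨hU27, hexp, z, hzU, hz3, hzc, hZ, hCz⟩ :=
    Cfsg.Agent.Lib.Helper1.L33Loc.sylow_data hG h3 h6 hU U
  obtain ⟨E, hEU, hE9, hpure, hNU, hN108⟩ :=
    exists_pure_sub hG h3 h6 U hU27 hexp z hzU hz3 hzc hZ hCz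
  have hnab : ∃ a ∈ (U : Subgroup G), ∃ b ∈ (U : Subgroup G), a * b ≠ b * a := by
    by_contra hcon
    push Not at hcon
    have hle : (U : Subgroup G) ≤ zpowers z := fun x hx => hZ x hx (fun y hy => hcon x hx y hy)
    have := card_le_of_le hle
    rw [hU27, Nat.card_zpowers, hz3] at this
    omega
  exact ⟨E, hE9, hpure, Cfsg.Agent.Lib.Helper5.L33.card_normalizer_pure hG U hnab E hEU hE9
    (fun z hz hz1 => (hpure z hz hz1).2) hNU hN108⟩

open Cfsg Cfsg.Agent.CharLib in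
/-- **pieces [B]–[E] of target (T)**: a simple group of order `5616` has a subgroup of index `13`
on whose cosets it acts `2`-transitively preserving a Steiner system `S(2,4,13)` -/
theorem exists_steiner [IsSimpleGroup G] (hG : Nat.card G = 5616) :
    ∃ H : Subgroup G, H.index = 13 ∧ ∀ [Fintype (G ⧸ H)] [DecidableEq (G ⧸ H)],
      MulAction.IsMultiplyPretransitive G (G ⧸ H) 2 ∧
      ∃ B : Set (Finset (G ⧸ H)), IsSteinerSystem 2 4 B ∧
        ∀ g : G, ∀ b ∈ B, b.image (fun ω => g • ω) ∈ B := by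
  obtain ⟨χ, ha, hb, hc, h3, h6, hU, -⟩ := Cfsg.Agent.Lib.Helper5.L33.char_data hG
  obtain ⟨E, hE9, hpure, hN⟩ := exists_pure_normalizer hG h3 h6 hU
  exact Cfsg.Agent.Lib.Helper2.L33Design.steiner_of_data hG χ ha hb hc E hE9 hpure hN

end Cfsg.Agent.Lib.Helper24.L33Loc
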