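import Mathlib
import Cfsg.Prelude.Def_CaseTheorems
import Cfsg.Prelude.Def_OddOrderLocal

set_option autoImplicit false

namespace Cfsg.Agent.Lib.Helper24.R5Leaf

section comm

variable {W : Type*} [CommGroup W] {p : ℕ} [Fact p.Prime]

/-- Power by an element of `ZMod p`. -/
def zp (w : W) (x : ZMod p) : W := w ^ x.val

theorem zp_zero (w : W) : zp w (0 : ZMod p) = 1 := by
  simp [zp]

theorem zp_one_left (x : ZMod p) : zp (1 : W) x = 1 := by
  simp [zp]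

theorem zp_mul_left (v w : W) (x : ZMod p) : zp (v * w) x = zp v x * zp w x := by
  simp [zp, mul_pow]

theorem map_zp (f : MulAut W) (w : W) (x : ZMod p) : f (zp w x) = zp (f w) x := by
  simp [zp]

theorem zp_mem_zpowers (w : W) (x : ZMod p) : zp w x ∈ Subgroup.zpowers w :=
  Subgroup.pow_mem _ (Subgroup.mem_zpowers w) _

variable (hexp : ∀ w : W, w ^ p = 1)
include hexp

theorem zp_one (w : W) : zp w (1 : ZMod p) = w := by
  simp [zp, ZMod.val_one]

theorem zp_add (w : W) (x y : ZMod p) : zp w (x + y) = zp w x * zp w y := by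
  unfold zp
  rw [← pow_add, ZMod.val_add, ← pow_eq_pow_mod _ (hexp w)]

theorem zp_mul (w : W) (x y : ZMod p) : zp w (x * y) = zp (zp w x) y := by
  unfold zp
  rw [← pow_mul, ZMod.val_mul, ← pow_eq_pow_mod _ (hexp w)]

theorem zp_natCast (w : W) (n : ℕ) : zp w (n : ZMod p) = w ^ n := by
  unfold zp
  rw [ZMod.val_natCast, ← pow_eq_pow_mod _ (hexp w)]

theorem zp_neg (w : W) (x : ZMod p) : zp w (-x) = (zp w x)⁻¹ := by
  apply eq_inv_of_mul_eq_one_left
  rw [← zp_add hexp, neg_add_cancel, zp_zero]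

theorem zp_eq_one {w : W} (hw : w ≠ 1) {x : ZMod p} (h : zp w x = 1) : x = 0 := by
  by_contra hx
  have h1 : w = zp (zp w x) x⁻¹ := by
    rw [← zp_mul hexp, mul_inv_cancel₀ hx, zp_one hexp]
  rw [h, zp_one_left] at h1
  exact hw h1

theorem exists_zp_of_mem_zpowers {v w : W} (h : v ∈ Subgroup.zpowers w) :
    ∃ x : ZMod p, v = zp w x := by
  obtain ⟨k, rfl⟩ := Subgroup.mem_zpowers_iff.1 h
  have hp0 : (0 : ℤ) < (p : ℤ) := by exact_mod_cast (Fact.out : p.Prime).pos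
  have h1 : w ^ k = w ^ (k % (p : ℤ)) := by
    apply zpow_eq_zpow_emod
    rw [zpow_natCast]; exact hexp w
  have h2 : ((k % (p : ℤ)).toNat : ℤ) = k % (p : ℤ) :=
    Int.toNat_of_nonneg (Int.emod_nonneg _ hp0.ne')
  refine ⟨((k % (p : ℤ)).toNat : ZMod p), ?_⟩
  rw [zp_natCast hexp, h1, ← h2, zpow_natCast, h2]

/-- Coordinates are unique. -/
theorem coord_inj {w₁ w₂ : W} (hw₁ : w₁ ≠ 1) (hw₂ : w₂ ∉ Subgroup.zpowers w₁)
    {x y x' y' : ZMod p} (h : zp w₁ x * zp w₂ y = zp w₁ x' * zp w₂ y') : x = x' ∧ y = y' := by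
  have h1 : zp w₂ (y - y') = zp w₁ (x' - x) := by
    rw [sub_eq_add_neg, sub_eq_add_neg, zp_add hexp, zp_add hexp, zp_neg hexp, zp_neg hexp]
    calc zp w₂ y * (zp w₂ y')⁻¹
        = (zp w₁ x)⁻¹ * (zp w₁ x * zp w₂ y) * (zp w₂ y')⁻¹ := by group
      _ = (zp w₁ x)⁻¹ * (zp w₁ x' * zp w₂ y') * (zp w₂ y')⁻¹ := by rw [h]
      _ = (zp w₁ x)⁻¹ * zp w₁ x' := by group
      _ = zp w₁ x' * (zp w₁ x)⁻¹ := mul_comm _ _
  have hy : y = y' := by
    by_contra hne
    have hne' : y - y' ≠ 0 := sub_ne_zero.2 hne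
    apply hw₂
    have h2 : w₂ = zp (zp w₂ (y - y')) (y - y')⁻¹ := by
      rw [← zp_mul hexp, mul_inv_cancel₀ hne', zp_one hexp]
    rw [h2, h1, ← zp_mul hexp]
    exact zp_mem_zpowers _ _
  refine ⟨?_, hy⟩
  rw [hy, sub_self, zp_zero] at h1
  have := zp_eq_one hexp hw₁ h1.symm
  exact (sub_eq_zero.1 this).symm

variable [Finite W] (hcard : Nat.card W = p ^ 2)
include hcard

/-- Coordinates exist. -/
theorem coord_surj {w₁ w₂ : W} (hw₁ : w₁ ≠ 1) (hw₂ : w₂ ∉ Subgroup.zpowers w₁) (w : W) :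
    ∃ x y : ZMod p, w = zp w₁ x * zp w₂ y := by
  have hinj : Function.Injective (fun z : ZMod p × ZMod p => zp w₁ z.1 * zp w₂ z.2) := by
    rintro ⟨x, y⟩ ⟨x', y'⟩ h
    obtain ⟨h1, h2⟩ := coord_inj hexp hw₁ hw₂ h
    exact Prod.ext h1 h2
  have hbij := hinj.bijective_of_nat_card_le (by
    rw [hcard, Nat.card_prod, Nat.card_zmod, sq])
  obtain ⟨⟨x, y⟩, hxy⟩ := hbij.2 w
  exact ⟨x, y, hxy.symm⟩

/-- There is an element outside any cyclic subgroup. -/
theorem exists_not_mem_zpowers (w₁ : W) : ∃ w₂ : W, w₂ ∉ Subgroup.zpowers w₁ := by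
  by_contra h
  push_neg at h
  have hsurj : Function.Surjective (fun x : ZMod p => zp w₁ x) := by
    intro w
    obtain ⟨x, hx⟩ := exists_zp_of_mem_zpowers hexp (h w)
    exact ⟨x, hx.symm⟩
  have h1 := Nat.card_le_card_of_surjective _ hsurj
  rw [hcard, Nat.card_zmod] at h1
  have hp2 : 2 ≤ p := (Fact.out : p.Prime).two_le
  nlinarith

end comm


section acts

variable {W : Type*} [CommGroup W] {p : ℕ} [Fact p.Prime]

/-- `f` acts on the pair `w₁, w₂` by the matrix `[[α, β], [γ, δ]]` (columns are the images). -/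
def Acts (w₁ w₂ : W) (f : MulAut W) (α β γ δ : ZMod p) : Prop :=
  f w₁ = zp w₁ α * zp w₂ γ ∧ f w₂ = zp w₁ β * zp w₂ δ

theorem Acts.congr {w₁ w₂ : W} {f : MulAut W} {α β γ δ α' β' γ' δ' : ZMod p}
    (h : Acts w₁ w₂ f α β γ δ) (h1 : α = α') (h2 : β = β') (h3 : γ = γ') (h4 : δ = δ') :
    Acts w₁ w₂ f α' β' γ' δ' := by
  subst h1 h2 h3 h4; exact h

variable (hexp : ∀ w : W, w ^ p = 1)
include hexp

theorem Acts.apply {w₁ w₂ : W} {f : MulAut W} {α β γ δ : ZMod p}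
    (h : Acts w₁ w₂ f α β γ δ) (i j : ZMod p) :
    f (zp w₁ i * zp w₂ j) = zp w₁ (α * i + β * j) * zp w₂ (γ * i + δ * j) := by
  rw [map_mul, map_zp, map_zp, h.1, h.2, zp_mul_left, zp_mul_left, zp_add hexp, zp_add hexp,
    zp_mul hexp, zp_mul hexp, zp_mul hexp, zp_mul hexp]
  exact mul_mul_mul_comm _ _ _ _

theorem Acts.one (w₁ w₂ : W) : Acts w₁ w₂ (1 : MulAut W) (1 : ZMod p) 0 0 1 := by
  constructor
  · rw [zp_one hexp, zp_zero, mul_one]; rfl
  · rw [zp_one hexp, zp_zero, one_mul]; rfl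

theorem Acts.mul {w₁ w₂ : W} {f g : MulAut W} {α β γ δ α' β' γ' δ' : ZMod p}
    (hf : Acts w₁ w₂ f α β γ δ) (hg : Acts w₁ w₂ g α' β' γ' δ') :
    Acts w₁ w₂ (f * g) (α * α' + β * γ') (α * β' + β * δ') (γ * α' + δ * γ')
      (γ * β' + δ * δ') := by
  constructor
  · rw [MulAut.mul_apply, hg.1, hf.apply hexp]
  · rw [MulAut.mul_apply, hg.2, hf.apply hexp]

theorem Acts.inv {w₁ w₂ : W} {f : MulAut W} {α β γ δ α' β' γ' δ' : ZMod p}
    (hf : Acts w₁ w₂ f α β γ δ) (h1 : α * α' + β * γ' = 1) (h2 : γ * α' + δ * γ' = 0)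
    (h3 : α * β' + β * δ' = 0) (h4 : γ * β' + δ * δ' = 1) :
    Acts w₁ w₂ f⁻¹ α' β' γ' δ' := by
  constructor
  · rw [MulAut.inv_apply, MulEquiv.symm_apply_eq, hf.apply hexp, h1, h2, zp_one hexp, zp_zero,
      mul_one]
  · rw [MulAut.inv_apply, MulEquiv.symm_apply_eq, hf.apply hexp, h3, h4, zp_one hexp, zp_zero,
      one_mul]

/-- Powers of an upper unitriangular automorphism. -/
theorem Acts.pow_upper {w₁ w₂ : W} {f : MulAut W} {s : ZMod p}
    (hf : Acts w₁ w₂ f 1 s 0 1) (n : ℕ) : Acts w₁ w₂ (f ^ n) 1 (s * (n : ZMod p)) 0 1 := by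
  induction n with
  | zero =>
    rw [pow_zero]
    exact (Acts.one hexp w₁ w₂).congr rfl (by simp) rfl rfl
  | succ n ih =>
    rw [pow_succ]
    exact (ih.mul hexp hf).congr (by ring) (by push_cast; ring) (by ring) (by ring)

/-- Powers of a lower unitriangular automorphism. -/
theorem Acts.pow_lower {w₁ w₂ : W} {f : MulAut W} {t : ZMod p}
    (hf : Acts w₁ w₂ f 1 0 t 1) (n : ℕ) : Acts w₁ w₂ (f ^ n) 1 0 (t * (n : ZMod p)) 1 := by
  induction n with
  | zero =>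
    rw [pow_zero]
    exact (Acts.one hexp w₁ w₂).congr rfl rfl (by simp) rfl
  | succ n ih =>
    rw [pow_succ]
    exact (ih.mul hexp hf).congr (by ring) (by ring) (by push_cast; ring) (by ring)

/-- An automorphism is determined by its matrix. -/
theorem Acts.ext {w₁ w₂ : W} (hgen : ∀ w : W, ∃ x y : ZMod p, w = zp w₁ x * zp w₂ y)
    {f g : MulAut W} {α β γ δ : ZMod p}
    (hf : Acts w₁ w₂ f α β γ δ) (hg : Acts w₁ w₂ g α β γ δ) : f = g := by
  apply MulEquiv.ext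
  intro w
  obtain ⟨x, y, rfl⟩ := hgen w
  rw [hf.apply hexp, hg.apply hexp]

end acts


section main

variable {W : Type*} [CommGroup W] [Finite W] {p : ℕ} [Fact p.Prime]
variable (hexp : ∀ w : W, w ^ p = 1) (hcard : Nat.card W = p ^ 2)
include hexp hcard

/-- A `p`-group of automorphisms fixes a nontrivial element. -/
theorem exists_fixed_ne_one (Q : Subgroup (MulAut W)) (hQ : IsPGroup p Q) :
    ∃ w₁ : W, w₁ ≠ 1 ∧ ∀ q ∈ Q, q w₁ = w₁ := by
  have hdvd : p ∣ Nat.card W := by rw [hcard]; exact dvd_pow_self p (by norm_num)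
  have h1 : (1 : W) ∈ MulAction.fixedPoints Q W := by
    intro q
    exact map_one (q : MulAut W)
  obtain ⟨b, hb, hb1⟩ := hQ.exists_fixed_point_of_prime_dvd_card_of_fixed_point W hdvd h1
  exact ⟨b, fun h => hb1 h.symm, fun q hq => hb ⟨q, hq⟩⟩

/-- A `p`-element fixing `w₁` is unitriangular. -/
theorem exists_acts_upper {w₁ w₂ : W} (hw₁ : w₁ ≠ 1) (hw₂ : w₂ ∉ Subgroup.zpowers w₁)
    (g : MulAut W) (j : ℕ) (hg : g ^ p ^ j = 1) (hfix : g w₁ = w₁) :
    ∃ σ : ZMod p, Acts w₁ w₂ g 1 σ 0 1 := by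
  obtain ⟨σ, τ, hστ⟩ := coord_surj hexp hcard hw₁ hw₂ (g w₂)
  have hA : Acts w₁ w₂ g 1 σ 0 τ := by
    refine ⟨?_, hστ⟩
    rw [hfix, zp_one hexp, zp_zero, mul_one]
  have key : ∀ n : ℕ, ∃ σₙ : ZMod p, Acts w₁ w₂ (g ^ n) 1 σₙ 0 (τ ^ n) := by
    intro n
    induction n with
    | zero => exact ⟨0, by rw [pow_zero, pow_zero]; exact Acts.one hexp w₁ w₂⟩
    | succ n ih =>
      obtain ⟨σₙ, hn⟩ := ih
      refine ⟨1 * σ + σₙ * τ, ?_⟩
      rw [pow_succ]
      exact (hn.mul hexp hA).congr (by ring) rfl (by ring) (by ring)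
  obtain ⟨σ', h'⟩ := key (p ^ j)
  rw [hg, ZMod.pow_card_pow] at h'
  have h2 := h'.2
  have h3 : (1 : MulAut W) w₂ = zp w₁ (0 : ZMod p) * zp w₂ (1 : ZMod p) := by
    rw [zp_one hexp, zp_zero, one_mul]; rfl
  rw [h3] at h2
  obtain ⟨-, hτ⟩ := coord_inj hexp hw₁ hw₂ h2
  exact ⟨σ, hA.congr rfl rfl rfl hτ.symm⟩

/-- A `p`-group of automorphisms has order dividing `p`. -/
theorem card_dvd_of_pgroup (Q : Subgroup (MulAut W)) (hQ : IsPGroup p Q) : Nat.card Q ∣ p := by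
  obtain ⟨w₁, hw₁, hfix⟩ := exists_fixed_ne_one hexp hcard Q hQ
  obtain ⟨w₂, hw₂⟩ := exists_not_mem_zpowers hexp hcard w₁
  have hgen := coord_surj hexp hcard hw₁ hw₂
  have hinj : Function.Injective (fun q : Q => (q : MulAut W) w₂) := by
    intro q q' h
    apply Subtype.ext
    apply MulEquiv.ext
    intro w
    obtain ⟨x, y, rfl⟩ := hgen w
    rw [map_mul, map_mul, map_zp, map_zp, map_zp, map_zp, hfix q q.2, hfix q' q'.2]
    have h' : (q : MulAut W) w₂ = (q' : MulAut W) w₂ := h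
    rw [h']
  obtain ⟨k, hk⟩ := hQ.exists_card_eq
  have hle : Nat.card Q ≤ Nat.card W := Nat.card_le_card_of_injective _ hinj
  have hp1 : 1 < p := (Fact.out : p.Prime).one_lt
  have hk2 : k ≤ 2 := by
    rw [hk, hcard] at hle
    exact (Nat.pow_le_pow_iff_right hp1).1 hle
  have hk1 : k ≠ 2 := by
    intro h2
    have hbij := hinj.bijective_of_nat_card_le (by rw [hk, hcard, h2])
    obtain ⟨q, hq⟩ := hbij.2 1
    have hq' : (q : MulAut W) w₂ = 1 := hq
    have : w₂ = 1 := by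
      have := (map_eq_one_iff (q : MulAut W) (MulEquiv.injective _)).1 hq'
      exact this
    exact hw₂ (this ▸ Subgroup.one_mem _)
  rw [hk]
  have hk' : k ≤ 1 := by omega
  calc p ^ k ∣ p ^ 1 := pow_dvd_pow p hk'
    _ = p := pow_one p

/-- A nontrivial `p`-element has order `p`. -/
theorem pow_p_eq_one_of_pelement (a : MulAut W) (j : ℕ) (ha : a ^ p ^ j = 1) : a ^ p = 1 := by
  have hpg : IsPGroup p (Subgroup.zpowers a) := by
    apply IsPGroup.of_card_dvd_pow (n := j)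
    rw [Nat.card_zpowers]
    exact orderOf_dvd_of_pow_eq_one ha
  have h1 := card_dvd_of_pgroup hexp hcard _ hpg
  rw [Nat.card_zpowers] at h1
  exact orderOf_dvd_iff_pow_eq_one.1 h1

/-- CommGroup version of `pgroup_eq_zpowers`. -/
theorem pgroup_eq_zpowers_comm (Q : Subgroup (MulAut W)) (hQ : IsPGroup p Q) {a : MulAut W}
    (ha : a ∈ Q) (ha1 : a ≠ 1) : Q = Subgroup.zpowers a := by
  have hle : Subgroup.zpowers a ≤ Q := Subgroup.zpowers_le.2 ha
  symm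
  apply Subgroup.eq_of_le_of_card_ge hle
  have h1 := card_dvd_of_pgroup hexp hcard Q hQ
  have h2 : Nat.card (Subgroup.zpowers a) ≠ 1 := by
    rw [Nat.card_zpowers]
    intro h
    exact ha1 (orderOf_eq_one_iff.1 h)
  have h3 : Nat.card (Subgroup.zpowers a) ∣ Nat.card Q := Subgroup.card_dvd_of_le hle
  have hpp : p.Prime := Fact.out
  rcases (Nat.dvd_prime hpp).1 h1 with h | h
  · rw [h] at h3
    exact absurd (Nat.dvd_one.1 h3) h2
  · rw [h] at h3 ⊢
    rcases (Nat.dvd_prime hpp).1 h3 with h' | h'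
    · exact absurd h' h2
    · exact h'.ge

end main


section normalizer

/-- In a finite subgroup, one-sided conjugation stability gives membership in the normalizer. -/
theorem mem_normalizer_of_conj_mem {G : Type*} [Group G] (Q : Subgroup G) [Finite Q] (g : G)
    (h : ∀ q ∈ Q, g * q * g⁻¹ ∈ Q) : g ∈ Subgroup.normalizer (Q : Set G) := by
  rw [Subgroup.mem_normalizer_iff]
  intro x
  refine ⟨h x, fun hx => ?_⟩
  have hinj : Function.Injective (fun q : Q => (⟨g * q * g⁻¹, h q q.2⟩ : Q)) := by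
    intro q q' hqq
    have h1 : g * (q : G) * g⁻¹ = g * (q' : G) * g⁻¹ := congrArg Subtype.val hqq
    apply Subtype.ext
    have h2 : (q : G) = g⁻¹ * (g * (q : G) * g⁻¹) * g := by group
    rw [h2, h1]; group
  obtain ⟨q, hq⟩ := (Finite.surjective_of_injective hinj) ⟨g * x * g⁻¹, hx⟩
  have h1 : g * (q : G) * g⁻¹ = g * x * g⁻¹ := congrArg Subtype.val hq
  have h2 : x = g⁻¹ * (g * x * g⁻¹) * g := by group
  rw [h2, ← h1]
  have h3 : g⁻¹ * (g * (q : G) * g⁻¹) * g = q := by group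
  rw [h3]; exact q.2

end normalizer

section torus

variable {W : Type*} [CommGroup W] [Finite W] {p : ℕ} [Fact p.Prime]
variable (hexp : ∀ w : W, w ^ p = 1) (hcard : Nat.card W = p ^ 2)
include hexp hcard

theorem Acts.swap {w₁ w₂ : W} {f : MulAut W} {α β γ δ : ZMod p}
    (h : Acts w₂ w₁ f α β γ δ) : Acts w₁ w₂ f δ γ β α := by
  constructor
  · rw [h.2, mul_comm]
  · rw [h.1, mul_comm]

theorem not_mem_zpowers_symm {w₁ w₂ : W} (hw₁ : w₁ ≠ 1) (h : w₂ ∉ Subgroup.zpowers w₁) :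
    w₁ ∉ Subgroup.zpowers w₂ := by
  intro hmem
  obtain ⟨c, hc⟩ := exists_zp_of_mem_zpowers hexp hmem
  have hc0 : c ≠ 0 := by
    rintro rfl
    rw [zp_zero] at hc
    exact hw₁ hc
  apply h
  have : w₂ = zp w₁ c⁻¹ := by
    rw [hc, ← zp_mul hexp, mul_inv_cancel₀ hc0, zp_one hexp]
  rw [this]
  exact zp_mem_zpowers _ _

theorem exists_fixed_of_pelement (g : MulAut W) (j : ℕ) (hg : g ^ p ^ j = 1) :
    ∃ w : W, w ≠ 1 ∧ g w = w := by
  have hpg : IsPGroup p (Subgroup.zpowers g) := by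
    apply IsPGroup.of_card_dvd_pow (n := j)
    rw [Nat.card_zpowers]
    exact orderOf_dvd_of_pow_eq_one hg
  obtain ⟨w, hw, hfix⟩ := exists_fixed_ne_one hexp hcard _ hpg
  exact ⟨w, hw, hfix g (Subgroup.mem_zpowers g)⟩

/-- Two `p`-elements with a common nontrivial fixed point: the second is a power of the first. -/
theorem mem_zpowers_of_common_fixed {a b : MulAut W} (ha1 : a ≠ 1) (ja jb : ℕ)
    (ha : a ^ p ^ ja = 1) (hb : b ^ p ^ jb = 1) {w₁ : W} (hw₁ : w₁ ≠ 1)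
    (hfa : a w₁ = w₁) (hfb : b w₁ = w₁) : b ∈ Subgroup.zpowers a := by
  obtain ⟨w₃, hw₃⟩ := exists_not_mem_zpowers hexp hcard w₁
  have hgen := coord_surj hexp hcard hw₁ hw₃
  obtain ⟨s, hs⟩ := exists_acts_upper hexp hcard hw₁ hw₃ a ja ha hfa
  obtain ⟨s', hs'⟩ := exists_acts_upper hexp hcard hw₁ hw₃ b jb hb hfb
  have hs0 : s ≠ 0 := by
    rintro rfl
    exact ha1 (Acts.ext hexp hgen hs (Acts.one hexp w₁ w₃))
  have hpow := hs.pow_upper hexp (s⁻¹ * s').val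
  have hbeq : b = a ^ (s⁻¹ * s').val := by
    apply Acts.ext hexp hgen hs'
    exact hpow.congr rfl (by rw [ZMod.natCast_zmod_val, mul_inv_cancel_left₀ hs0]) rfl rfl
  rw [hbeq]
  exact Subgroup.pow_mem _ (Subgroup.mem_zpowers a) _

/-- CommGroup version of the torus lemma. -/
theorem torus_comm {a b : MulAut W} (ha1 : a ≠ 1) (hap : ∃ j : ℕ, a ^ p ^ j = 1)
    (hbp : ∃ j : ℕ, b ^ p ^ j = 1) (hb : b ∉ Subgroup.zpowers a) (u u' : ℕ)
    (huu : u * u' ≡ 1 [MOD p]) :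
    ∃ h ∈ Subgroup.closure ({a, b} : Set (MulAut W)), ∃ w₁ w₂ : W, w₁ ≠ 1 ∧
      (∀ w : W, ∃ i j : ℕ, w = w₁ ^ i * w₂ ^ j) ∧
      (∀ w : W, a w = w ↔ w ∈ Subgroup.zpowers w₁) ∧
      h w₁ = w₁ ^ u ∧ h w₂ = w₂ ^ u' ∧ h * a * h⁻¹ = a ^ (u * u) ∧ a ^ p = 1 := by
  obtain ⟨ja, hja⟩ := hap
  obtain ⟨jb, hjb⟩ := hbp
  have hb1 : b ≠ 1 := by
    rintro rfl
    exact hb (Subgroup.one_mem _)
  obtain ⟨w₁, hw₁, hfa⟩ := exists_fixed_of_pelement hexp hcard a ja hja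
  obtain ⟨w₂, hw₂1, hfb⟩ := exists_fixed_of_pelement hexp hcard b jb hjb
  -- the fixed lines differ
  have hw₂ : w₂ ∉ Subgroup.zpowers w₁ := by
    intro hmem
    obtain ⟨c, hc⟩ := exists_zp_of_mem_zpowers hexp hmem
    have hc0 : c ≠ 0 := by
      rintro rfl
      rw [zp_zero] at hc
      exact hw₂1 hc
    have h1 : w₁ = zp w₂ c⁻¹ := by
      rw [hc, ← zp_mul hexp, mul_inv_cancel₀ hc0, zp_one hexp]
    have hfb' : b w₁ = w₁ := by
      rw [h1, map_zp, hfb]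
    exact hb (mem_zpowers_of_common_fixed hexp hcard ha1 ja jb hja hjb hw₁ hfa hfb')
  have hw₁' : w₁ ∉ Subgroup.zpowers w₂ := not_mem_zpowers_symm hexp hcard hw₁ hw₂
  have hgen := coord_surj hexp hcard hw₁ hw₂
  obtain ⟨s, hs⟩ := exists_acts_upper hexp hcard hw₁ hw₂ a ja hja hfa
  obtain ⟨t, ht'⟩ := exists_acts_upper hexp hcard hw₂1 hw₁' b jb hjb hfb
  have ht : Acts w₁ w₂ b 1 0 t 1 := ht'.swap hexp hcard
  have hs0 : s ≠ 0 := by
    rintro rfl
    exact ha1 (Acts.ext hexp hgen hs (Acts.one hexp w₁ w₂))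
  have ht0 : t ≠ 0 := by
    rintro rfl
    exact hb1 (Acts.ext hexp hgen ht (Acts.one hexp w₁ w₂))
  -- the root elements
  have hX : ∀ c : ZMod p, Acts w₁ w₂ (a ^ (s⁻¹ * c).val) 1 c 0 1 := fun c =>
    (hs.pow_upper hexp (s⁻¹ * c).val).congr rfl
      (by rw [ZMod.natCast_zmod_val, mul_inv_cancel_left₀ hs0]) rfl rfl
  have hY : ∀ c : ZMod p, Acts w₁ w₂ (b ^ (t⁻¹ * c).val) 1 0 c 1 := fun c =>
    (ht.pow_lower hexp (t⁻¹ * c).val).congr rfl rfl
      (by rw [ZMod.natCast_zmod_val, mul_inv_cancel_left₀ ht0]) rfl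
  have hū : (u : ZMod p) * (u' : ZMod p) = 1 := by
    have := (ZMod.natCast_eq_natCast_iff _ _ _).2 huu
    push_cast at this
    exact this
  set ū : ZMod p := (u : ZMod p) with hūdef
  set ū' : ZMod p := (u' : ZMod p) with hū'def
  set n : MulAut W := a ^ (s⁻¹ * ū).val * b ^ (t⁻¹ * (-ū')).val * a ^ (s⁻¹ * ū).val with hn
  set m : MulAut W := a ^ (s⁻¹ * 1).val * b ^ (t⁻¹ * (-1)).val * a ^ (s⁻¹ * 1).val with hm
  have hnA : Acts w₁ w₂ n 0 ū (-ū') 0 :=
    (((hX ū).mul hexp (hY (-ū'))).mul hexp (hX ū)).congr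
      (by linear_combination (-1 : ZMod p) * hū) (by linear_combination (-ū) * hū)
      (by ring) (by linear_combination (-1 : ZMod p) * hū)
  have hmA : Acts w₁ w₂ m 0 1 (-1) 0 :=
    (((hX 1).mul hexp (hY (-1))).mul hexp (hX 1)).congr
      (by ring) (by ring) (by ring) (by ring)
  have hmI : Acts w₁ w₂ m⁻¹ 0 (-1) 1 0 :=
    hmA.inv hexp (by ring) (by ring) (by ring) (by ring)
  have hhA : Acts w₁ w₂ (n * m⁻¹) ū 0 0 ū' :=
    (hnA.mul hexp hmI).congr (by ring) (by ring) (by ring) (by ring)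
  have hamem : a ∈ Subgroup.closure ({a, b} : Set (MulAut W)) :=
    Subgroup.subset_closure (by simp)
  have hbmem : b ∈ Subgroup.closure ({a, b} : Set (MulAut W)) :=
    Subgroup.subset_closure (by simp)
  have hnmem : n ∈ Subgroup.closure ({a, b} : Set (MulAut W)) :=
    Subgroup.mul_mem _ (Subgroup.mul_mem _ (Subgroup.pow_mem _ hamem _)
      (Subgroup.pow_mem _ hbmem _)) (Subgroup.pow_mem _ hamem _)
  have hmmem : m ∈ Subgroup.closure ({a, b} : Set (MulAut W)) :=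
    Subgroup.mul_mem _ (Subgroup.mul_mem _ (Subgroup.pow_mem _ hamem _)
      (Subgroup.pow_mem _ hbmem _)) (Subgroup.pow_mem _ hamem _)
  refine ⟨n * m⁻¹, Subgroup.mul_mem _ hnmem (Subgroup.inv_mem _ hmmem), w₁, w₂, hw₁, ?_, ?_, ?_,
    ?_, ?_, ?_⟩
  · intro w
    obtain ⟨x, y, hxy⟩ := hgen w
    exact ⟨x.val, y.val, hxy⟩
  · intro w
    constructor
    · intro hw
      obtain ⟨x, y, rfl⟩ := hgen w
      rw [hs.apply hexp] at hw
      obtain ⟨h1, -⟩ := coord_inj hexp hw₁ hw₂ hw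
      have h2 : s * y = 0 := by linear_combination h1
      have hy : y = 0 := by
        rcases mul_eq_zero.1 h2 with h | h
        · exact absurd h hs0
        · exact h
      rw [hy, zp_zero, mul_one]
      exact zp_mem_zpowers _ _
    · intro hw
      obtain ⟨x, rfl⟩ := exists_zp_of_mem_zpowers hexp hw
      rw [map_zp, hfa]
  · rw [hhA.1, zp_zero, mul_one, hūdef, zp_natCast hexp]
  · rw [hhA.2, zp_zero, one_mul, hū'def, zp_natCast hexp]
  · have hcomm : n * m⁻¹ * a = a ^ (u * u) * (n * m⁻¹) := by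
      apply Acts.ext hexp hgen (hhA.mul hexp hs)
      exact ((hs.pow_upper hexp (u * u)).mul hexp hhA).congr (by ring) (by
        push_cast
        linear_combination (s * ū) * hū) (by ring) (by ring)
    rw [hcomm]
    group
  · exact pow_p_eq_one_of_pelement hexp hcard a ja hja

/-- CommGroup version of `pcore_trivial`. -/
theorem pcore_trivial_comm {a b : MulAut W} (ha1 : a ≠ 1) (hap : ∃ j : ℕ, a ^ p ^ j = 1)
    (hbp : ∃ j : ℕ, b ^ p ^ j = 1) (hb : b ∉ Subgroup.zpowers a) (Q : Subgroup (MulAut W))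
    (hQ : IsPGroup p Q) (hQa : ∀ q ∈ Q, a * q * a⁻¹ ∈ Q) (hQb : ∀ q ∈ Q, b * q * b⁻¹ ∈ Q) :
    Q = ⊥ := by
  obtain ⟨ja, hja⟩ := hap
  obtain ⟨jb, hjb⟩ := hbp
  by_contra hQne
  have hza : IsPGroup p (Subgroup.zpowers a) := by
    apply IsPGroup.of_card_dvd_pow (n := ja)
    rw [Nat.card_zpowers]
    exact orderOf_dvd_of_pow_eq_one hja
  have hzb : IsPGroup p (Subgroup.zpowers b) := by
    apply IsPGroup.of_card_dvd_pow (n := jb)
    rw [Nat.card_zpowers]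
    exact orderOf_dvd_of_pow_eq_one hjb
  have haN : Subgroup.zpowers a ≤ Subgroup.normalizer (Q : Set (MulAut W)) :=
    Subgroup.zpowers_le.2 (mem_normalizer_of_conj_mem Q a hQa)
  have hbN : Subgroup.zpowers b ≤ Subgroup.normalizer (Q : Set (MulAut W)) :=
    Subgroup.zpowers_le.2 (mem_normalizer_of_conj_mem Q b hQb)
  have hP : IsPGroup p (Subgroup.zpowers a ⊔ Q : Subgroup (MulAut W)) :=
    hza.to_sup_of_normal_right' hQ haN
  have hPeq := pgroup_eq_zpowers_comm hexp hcard _ hP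
    (le_sup_left (a := Subgroup.zpowers a) (b := Q) (Subgroup.mem_zpowers a)) ha1
  have hQle : Q ≤ Subgroup.zpowers a := hPeq ▸ le_sup_right
  obtain ⟨q, hqQ, hq1⟩ := (Subgroup.bot_or_exists_ne_one Q).resolve_left hQne
  have hQq := pgroup_eq_zpowers_comm hexp hcard Q hQ hqQ hq1
  have haq := pgroup_eq_zpowers_comm hexp hcard _ hza (hQle hqQ) hq1
  have hQa' : Q = Subgroup.zpowers a := by rw [hQq, haq]
  have hP' : IsPGroup p (Subgroup.zpowers b ⊔ Q : Subgroup (MulAut W)) :=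
    hzb.to_sup_of_normal_right' hQ hbN
  have haQ : a ∈ Q := hQa' ▸ Subgroup.mem_zpowers a
  have hP'eq := pgroup_eq_zpowers_comm hexp hcard _ hP'
    (le_sup_right (a := Subgroup.zpowers b) (b := Q) haQ) ha1
  apply hb
  rw [← hP'eq]
  exact le_sup_left (a := Subgroup.zpowers b) (b := Q) (Subgroup.mem_zpowers b)

end torus


section final

/-- R5A (torus). -/
theorem torus_lemma {W : Type*} [Group W] [Finite W] {p : ℕ} [Fact p.Prime] (hp : p ≠ 2)
    (hcomm : ∀ x y : W, x * y = y * x) (hcard : Nat.card W = p ^ 2) (hexp : ∀ w : W, w ^ p = 1)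
    {a b : MulAut W} (ha1 : a ≠ 1) (hap : ∃ j : ℕ, a ^ p ^ j = 1) (hbp : ∃ j : ℕ, b ^ p ^ j = 1)
    (hb : b ∉ Subgroup.zpowers a) (u u' : ℕ) (huu : u * u' ≡ 1 [MOD p]) :
    ∃ h ∈ Subgroup.closure ({a, b} : Set (MulAut W)), ∃ w₁ w₂ : W, w₁ ≠ 1 ∧
      (∀ w : W, ∃ i j : ℕ, w = w₁ ^ i * w₂ ^ j) ∧
      (∀ w : W, a w = w ↔ w ∈ Subgroup.zpowers w₁) ∧
      h w₁ = w₁ ^ u ∧ h w₂ = w₂ ^ u' ∧ h * a * h⁻¹ = a ^ (u * u) ∧ a ^ p = 1 := by
  letI : CommGroup W := { (inferInstance : Group W) with mul_comm := hcomm }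
  exact torus_comm hexp hcard ha1 hap hbp hb u u' huu

/-- R5A (the `p`-core is trivial). -/
theorem pcore_trivial {W : Type*} [Group W] [Finite W] {p : ℕ} [Fact p.Prime] (hp : p ≠ 2)
    (hcomm : ∀ x y : W, x * y = y * x) (hcard : Nat.card W = p ^ 2) (hexp : ∀ w : W, w ^ p = 1)
    {a b : MulAut W} (ha1 : a ≠ 1) (hap : ∃ j : ℕ, a ^ p ^ j = 1) (hbp : ∃ j : ℕ, b ^ p ^ j = 1)
    (hb : b ∉ Subgroup.zpowers a) (Q : Subgroup (MulAut W)) (hQ : IsPGroup p Q)
    (hQa : ∀ q ∈ Q, a * q * a⁻¹ ∈ Q) (hQb : ∀ q ∈ Q, b * q * b⁻¹ ∈ Q) : Q = ⊥ := by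
  letI : CommGroup W := { (inferInstance : Group W) with mul_comm := hcomm }
  exact pcore_trivial_comm hexp hcard ha1 hap hbp hb Q hQ hQa hQb

/-- R5A (`p`-subgroups are cyclic of order at most `p`). -/
theorem pgroup_eq_zpowers {W : Type*} [Group W] [Finite W] {p : ℕ} [Fact p.Prime]
    (hcomm : ∀ x y : W, x * y = y * x) (hcard : Nat.card W = p ^ 2) (hexp : ∀ w : W, w ^ p = 1)
    (Q : Subgroup (MulAut W)) (hQ : IsPGroup p Q) {a : MulAut W} (ha : a ∈ Q) (ha1 : a ≠ 1) :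
    Q = Subgroup.zpowers a := by
  letI : CommGroup W := { (inferInstance : Group W) with mul_comm := hcomm }
  exact pgroup_eq_zpowers_comm hexp hcard Q hQ ha ha1

end final

end Cfsg.Agent.Lib.Helper24.R5Leaf
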