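/-
S4551 (Alperin–Dade at the character level; planner helper17), leaves L2 and L2' (helper24).

* `memLocalIdeal_one_sub_div` : for `χ ∈ B₀(G)` and `c ∈ C_G(P)`, `P` a Sylow `p`-subgroup,
  `1 - χ(c)/χ(1)` lies in the local ideal, and `χ(c) ≠ 0`.
* `eq_one_of_memLocalIdeal_one_sub` : a root of unity of order prime to `p` congruent to `1`
  modulo the local ideal is `1`.
-/
import Mathlib
import Cfsg.Prelude.Def_Blocks
import Cfsg.Agent.Lib.Helper24.LocalRing

set_option autoImplicit false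

namespace Cfsg.Agent.Lib.Helper24.AlpDade

open Cfsg Cfsg.Agent.Lib.Helper24

universe u
variable {G : Type u} [Group G] [Finite G]

/-- The class of an element centralizing a Sylow `p`-subgroup has size prime to `p`. -/
theorem not_dvd_index_centralizer_of_mem (p : ℕ) [Fact p.Prime] (P : Sylow p G) (c : G)
    (hc : c ∈ Subgroup.centralizer ((P : Subgroup G) : Set G)) :
    ¬ p ∣ (Subgroup.centralizer ({c} : Set G)).index := by
  have hle : (P : Subgroup G) ≤ Subgroup.centralizer ({c} : Set G) := by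
    intro x hx
    rw [Subgroup.mem_centralizer_iff]
    intro y hy
    rw [Set.mem_singleton_iff] at hy
    subst hy
    rw [Subgroup.mem_centralizer_iff] at hc
    exact (hc x hx).symm
  intro hdvd
  exact P.not_dvd_index (hdvd.trans (Subgroup.index_dvd_of_le hle))

/-- L2: `χ(c)/χ(1) ≡ 1` for `χ ∈ B₀(G)`, `c ∈ C_G(P)` (class size prime to `p`). -/
theorem memLocalIdeal_one_sub_div (p : ℕ) [Fact p.Prime] (M : Ideal AlgInt)
    (hM : IsPModular p M) (P : Sylow p G) (χ : IrrCharacter G) (hχ : χ ∈ principalBlock M G)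
    (c : G) (hc : c ∈ Subgroup.centralizer ((P : Subgroup G) : Set G)) :
    MemLocalIdeal M (1 - (χ : G → ℂ) c / (χ : G → ℂ) 1) ∧ (χ : G → ℂ) c ≠ 0 := by
  have : M.IsPrime := isPrime_of_isPModular hM
  set k : ℕ := (Subgroup.centralizer ({c} : Set G)).index with hk
  have hpk : ¬ p ∣ k := not_dvd_index_centralizer_of_mem p P c hc
  have hkM : (k : AlgInt) ∉ M := natCast_not_mem_of_not_dvd hM hpk
  have hk0 : (k : ℂ) ≠ 0 := by
    have := coe_ne_zero_of_not_mem hkM
    simpa using this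
  have h1 : MemLocalIdeal M
      (centralChar (fun _ : G => (1 : ℂ)) c - centralChar (χ : G → ℂ) c) := hχ c
  have h2 : centralChar (fun _ : G => (1 : ℂ)) c - centralChar (χ : G → ℂ) c
      = (k : ℂ) * (1 - (χ : G → ℂ) c / (χ : G → ℂ) 1) := by
    unfold centralChar
    rw [← hk]
    ring
  rw [h2] at h1
  have hinv : MemLocalRing M ((k : ℂ)⁻¹) := ⟨1, (k : AlgInt), hkM, by simp⟩
  have h3 : MemLocalIdeal M ((k : ℂ)⁻¹ * ((k : ℂ) * (1 - (χ : G → ℂ) c / (χ : G → ℂ) 1))) :=
    memLocalIdeal_mul_left hinv h1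
  have h4 : (k : ℂ)⁻¹ * ((k : ℂ) * (1 - (χ : G → ℂ) c / (χ : G → ℂ) 1))
      = 1 - (χ : G → ℂ) c / (χ : G → ℂ) 1 := by
    rw [← mul_assoc, inv_mul_cancel₀ hk0, one_mul]
  rw [h4] at h3
  refine ⟨h3, ?_⟩
  intro h0
  rw [h0, zero_div, sub_zero] at h3
  exact not_memLocalIdeal_one h3

/-- L2': a root of unity of order prime to `p` congruent to `1` is `1`. -/
theorem eq_one_of_memLocalIdeal_one_sub (p : ℕ) [Fact p.Prime] (M : Ideal AlgInt)
    (hM : IsPModular p M) (ζ : ℂ) (m : ℕ) (hm : ¬ p ∣ m) (hζ : ζ ^ m = 1)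
    (h : MemLocalIdeal M (1 - ζ)) : ζ = 1 := by
  have : M.IsPrime := isPrime_of_isPModular hM
  have hm0 : 0 < m := by
    rcases Nat.eq_zero_or_pos m with h0 | h0
    · exact absurd (h0 ▸ dvd_zero p) hm
    · exact h0
  -- ζ is an algebraic integer
  have hint : IsIntegral ℤ ζ := by
    apply IsIntegral.of_pow hm0
    rw [hζ]
    exact isIntegral_one
  by_contra hne
  -- the geometric sum vanishes
  have hgeom : ∑ i ∈ Finset.range m, ζ ^ i = 0 := by
    have h1 : (∑ i ∈ Finset.range m, ζ ^ i) * (ζ - 1) = 0 := by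
      rw [geom_sum_mul, hζ, sub_self]
    rcases mul_eq_zero.mp h1 with h2 | h2
    · exact h2
    · exact absurd (sub_eq_zero.mp h2) hne
  -- each `1 - ζ^i` is in the local ideal
  have hterm : ∀ i ∈ Finset.range m, MemLocalIdeal M (1 - ζ ^ i) := by
    intro i _
    have h1 : 1 - ζ ^ i = (1 - ζ) * ∑ j ∈ Finset.range i, ζ ^ j := (mul_neg_geom_sum ζ i).symm
    rw [h1]
    apply memLocalIdeal_mul_right h
    have hs : IsIntegral ℤ (∑ j ∈ Finset.range i, ζ ^ j) :=
      IsIntegral.sum _ fun j _ => hint.pow j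
    exact memLocalRing_of_algInt (M := M) ⟨_, hs⟩ this.one_notMem
  have hsum : MemLocalIdeal M (∑ i ∈ Finset.range m, (1 - ζ ^ i)) :=
    sum_memLocalIdeal _ _ hterm
  have hval : ∑ i ∈ Finset.range m, (1 - ζ ^ i) = ((m : AlgInt) : ℂ) := by
    rw [Finset.sum_sub_distrib, hgeom, sub_zero, Finset.sum_const, Finset.card_range]
    simp
  rw [hval, memLocalIdeal_coe_iff] at hsum
  exact natCast_not_mem_of_not_dvd hM hm hsum

end Cfsg.Agent.Lib.Helper24.AlpDade
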