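/- helper24: characters of finite direct powers: piChar (external product), classInner_piChar, isIrrCharacter_piChar, exists_piChar_eq (every irreducible character of a finite product is an external product), piChar_injective, sum_pi_subgroup. -/
import Mathlib
import Cfsg.Prelude.Def_Characters
import Cfsg.Agent.Lib.Lead.CharProd
import Cfsg.Agent.Lib.Helper6.CharNorm
import Cfsg.Agent.Lib.Helper24.IrrFacts

set_option autoImplicit false
set_option linter.unusedSectionVars false
set_option linter.style.haveILetI false

namespace Cfsg.Agent.Lib.Helper24.PiChar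

open Cfsg Cfsg.Agent.CharLib Cfsg.Agent.Lib.Helper6 Cfsg.Agent.Lib.Helper24
open scoped ComplexConjugate

universe u v

variable {ι : Type v} [Fintype ι] [DecidableEq ι] {D : Type u} [Group D]

/-- the external product of a family of functions -/
noncomputable def piChar (t : ι → D → ℂ) : (ι → D) → ℂ := fun x => ∏ i, t i (x i)

theorem piChar_apply (t : ι → D → ℂ) (x : ι → D) : piChar t x = ∏ i, t i (x i) := rfl

/-- sums over a product type factor -/
theorem sum_pi_prod {κ : ι → Type*} [∀ i, Fintype (κ i)] (F : ∀ i, κ i → ℂ) :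
    ∑ x : (∀ i, κ i), ∏ i, F i (x i) = ∏ i, ∑ a : κ i, F i a := by
  rw [Finset.prod_univ_sum, Fintype.piFinset_univ]

theorem classInner_piChar [Fintype D] (s t : ι → D → ℂ) :
    classInner (piChar s) (piChar t) = ∏ i, classInner (s i) (t i) := by
  simp only [classInner, piChar_apply]
  have h1 : ∀ x : ι → D, (∏ i, s i (x i)) * conj (∏ i, t i (x i)) =
      ∏ i, (s i (x i) * conj (t i (x i))) := by
    intro x
    rw [map_prod, Finset.prod_mul_distrib]
  simp only [h1]
  rw [sum_pi_prod (fun i (a : D) => s i a * conj (t i a)), Finset.prod_mul_distrib]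
  congr 1
  rw [Nat.card_pi, Nat.cast_prod, Finset.prod_inv_distrib]

theorem isCharacter_piChar (t : ι → D → ℂ) (ht : ∀ i, IsCharacter D (t i)) :
    IsCharacter (ι → D) (piChar t) := by
  have key : ∀ s : Finset ι, IsCharacter (ι → D) (fun x => ∏ i ∈ s, t i (x i)) := by
    intro s
    induction s using Finset.induction_on with
    | empty =>
      simp only [Finset.prod_empty]
      exact isCharacter_one
    | insert a s ha ih =>
      have h1 : (fun x : ι → D => ∏ i ∈ insert a s, t i (x i)) =
          ((t a) ∘ (Pi.evalMonoidHom (fun _ => D) a)) * (fun x => ∏ i ∈ s, t i (x i)) := by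
        funext x
        rw [Finset.prod_insert ha]
        rfl
      rw [h1]
      exact IsCharacter.mul (IsCharacter.comp_hom (ht a) _) ih
  exact key Finset.univ

theorem isIrrCharacter_piChar [Finite D] (t : ι → D → ℂ) (ht : ∀ i, IsIrrCharacter D (t i)) :
    IsIrrCharacter (ι → D) (piChar t) := by
  classical
  letI := Fintype.ofFinite D
  apply isIrrCharacter_of_classInner_self_eq_one
    (isCharacter_piChar t (fun i => IsIrrCharacter.isCharacter (ht i)))
  rw [classInner_piChar]
  apply Finset.prod_eq_one
  intro i _
  rw [classInner_irr (ht i) (ht i), if_pos rfl]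

/-- every irreducible character of a finite product is an external product -/
theorem exists_piChar_eq [Finite D] {θ : (ι → D) → ℂ} (hθ : IsIrrCharacter (ι → D) θ) :
    ∃ t : ι → D → ℂ, (∀ i, IsIrrCharacter D (t i)) ∧ θ = piChar t := by
  classical
  letI := Fintype.ofFinite D
  letI := fintypeIrr D
  by_contra hcon
  push Not at hcon
  -- the regular character
  have hreg : ∀ x : ι → D, ∑ τ : ι → IrrCharacter D,
      (∏ i, ((τ i : IrrCharacter D) : D → ℂ) 1) * piChar (fun i => ((τ i : IrrCharacter D) : D → ℂ)) x =
      if x = 1 then (Fintype.card (ι → D) : ℂ) else 0 := by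
    intro x
    have h1 : ∀ τ : ι → IrrCharacter D,
        (∏ i, ((τ i : IrrCharacter D) : D → ℂ) 1) * piChar (fun i => ((τ i : IrrCharacter D) : D → ℂ)) x =
        ∏ i, (((τ i : IrrCharacter D) : D → ℂ) 1 * ((τ i : IrrCharacter D) : D → ℂ) (x i)) := by
      intro τ
      rw [piChar_apply, Finset.prod_mul_distrib]
    simp only [h1]
    rw [sum_pi_prod (fun i (φ : IrrCharacter D) => (φ : D → ℂ) 1 * (φ : D → ℂ) (x i))]
    simp only [sum_irr_degree_mul]
    by_cases hx : x = 1
    · rw [if_pos hx, Fintype.card_pi, Nat.cast_prod]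
      apply Finset.prod_congr rfl
      intro i _
      rw [if_pos (by rw [hx]; rfl)]
    · rw [if_neg hx]
      obtain ⟨i, hi⟩ : ∃ i, x i ≠ 1 := by
        by_contra h
        push Not at h
        exact hx (funext h)
      apply Finset.prod_eq_zero (Finset.mem_univ i)
      rw [if_neg hi]
  -- inner product of the regular character with θ
  have h2 : classInner (fun x : ι → D => ∑ τ : ι → IrrCharacter D,
      (∏ i, ((τ i : IrrCharacter D) : D → ℂ) 1) *
        piChar (fun i => ((τ i : IrrCharacter D) : D → ℂ)) x) θ = 0 := by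
    have h3 : (fun x : ι → D => ∑ τ : ι → IrrCharacter D,
        (∏ i, ((τ i : IrrCharacter D) : D → ℂ) 1) *
          piChar (fun i => ((τ i : IrrCharacter D) : D → ℂ)) x) =
        ∑ τ : ι → IrrCharacter D, (∏ i, ((τ i : IrrCharacter D) : D → ℂ) 1) •
          piChar (fun i => ((τ i : IrrCharacter D) : D → ℂ)) := by
      funext x
      rw [Finset.sum_apply]
      rfl
    rw [h3, classInner_sum_left]
    apply Finset.sum_eq_zero
    intro τ _
    rw [classInner_smul_left,
      classInner_irr (isIrrCharacter_piChar _ (fun i => (τ i).2)) hθ, if_neg, mul_zero]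
    intro h
    exact hcon _ (fun i => (τ i).2) h.symm
  simp only [hreg] at h2
  simp only [classInner] at h2
  rw [Finset.sum_eq_single (1 : ι → D)] at h2
  · rw [if_pos rfl] at h2
    have hc : (Nat.card (ι → D) : ℂ) ≠ 0 := card_ne_zero_complex
    have hc' : (Fintype.card (ι → D) : ℂ) ≠ 0 := by
      rw [← Nat.card_eq_fintype_card]; exact hc
    obtain ⟨n, hn, h1⟩ := IsIrrCharacter.apply_one_pos hθ
    rw [h1] at h2
    have : (n : ℂ) = 0 := by
      have h4 := h2
      rw [Complex.conj_natCast] at h4
      have := mul_eq_zero.mp h4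
      rcases this with h | h
      · exact absurd (inv_eq_zero.mp h) hc
      · rcases mul_eq_zero.mp h with h | h
        · exact absurd h hc'
        · exact h
    have : n = 0 := by exact_mod_cast this
    omega
  · intro x _ hx
    rw [if_neg hx, zero_mul]
  · intro h
    exact absurd (Finset.mem_univ _) h

/-- evaluating an external product at an element supported at one coordinate -/
theorem piChar_mulSingle (t : ι → D → ℂ) (i : ι) (d : D) :
    piChar t (Pi.mulSingle i d) = t i d * ∏ j ∈ Finset.univ.erase i, t j 1 := by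
  rw [piChar_apply, ← Finset.mul_prod_erase Finset.univ _ (Finset.mem_univ i), Pi.mulSingle_eq_same]
  congr 1
  apply Finset.prod_congr rfl
  intro j hj
  rw [Pi.mulSingle_eq_of_ne (Finset.ne_of_mem_erase hj)]

/-- the factors of an irreducible external product are determined by it -/
theorem piChar_injective [Finite D] {s t : ι → D → ℂ} (hs : ∀ i, IsIrrCharacter D (s i))
    (ht : ∀ i, IsIrrCharacter D (t i)) (h : piChar s = piChar t) : s = t := by
  classical
  letI := Fintype.ofFinite D
  funext i
  have hne : ∀ (r : ι → D → ℂ), (∀ j, IsIrrCharacter D (r j)) →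
      ∏ j ∈ Finset.univ.erase i, r j 1 ≠ 0 := by
    intro r hr
    apply Finset.prod_ne_zero_iff.mpr
    intro j _
    obtain ⟨n, hn, h1⟩ := IsIrrCharacter.apply_one_pos (hr j)
    rw [h1]
    exact_mod_cast hn.ne'
  have h1 : (∏ j ∈ Finset.univ.erase i, s j 1) • s i = (∏ j ∈ Finset.univ.erase i, t j 1) • t i := by
    funext d
    have := congrFun h (Pi.mulSingle i d)
    rw [piChar_mulSingle, piChar_mulSingle] at this
    rw [Pi.smul_apply, Pi.smul_apply, smul_eq_mul, smul_eq_mul, mul_comm, this, mul_comm]
  have h2 : classInner ((∏ j ∈ Finset.univ.erase i, s j 1) • s i) (t i) =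
      classInner ((∏ j ∈ Finset.univ.erase i, t j 1) • t i) (t i) := by rw [h1]
  rw [classInner_smul_left, classInner_smul_left, classInner_irr (ht i) (ht i), if_pos rfl, mul_one,
    classInner_irr (hs i) (ht i)] at h2
  by_contra hne'
  rw [if_neg hne', mul_zero] at h2
  exact hne t ht h2.symm

/-- restriction of an external product to a product of subgroups, paired with a product of
functions on the factors -/
theorem sum_pi_subgroup (U : ι → Subgroup D) [∀ i, Fintype (U i)] (f : ∀ i, U i → ℂ)
    (t : ι → D → ℂ) :
    ∑ u : (∀ i, U i), (∏ i, f i (u i)) * conj (∏ i, t i (u i)) =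
      ∏ i, ∑ a : U i, f i a * conj (t i a) := by
  have h1 : ∀ u : (∀ i, U i), (∏ i, f i (u i)) * conj (∏ i, t i (u i)) =
      ∏ i, (f i (u i) * conj (t i (u i))) := by
    intro u
    rw [map_prod, Finset.prod_mul_distrib]
  simp only [h1]
  exact sum_pi_prod (fun i (a : U i) => f i a * conj (t i a))

end Cfsg.Agent.Lib.Helper24.PiChar
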