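/- helper24: wreath products D wr Q and M-groups, part 1: degree trick (eq_of_constituent_of_degree_le), base group of RegularWreathProduct, baseEquiv, product characters bChar of the base group (irreducible, exhaustive, injective), conjugation action on them. -/
import Mathlib
import Cfsg.Prelude.Def_Characters
import Cfsg.Agent.Lib.Helper24.PiChar
import Cfsg.Agent.Lib.Helper6.CharExtra
import Cfsg.Agent.Lib.Helper6.LinChar
import Cfsg.Agent.Lib.Helper6.CliffordCorr

set_option autoImplicit false
set_option linter.unusedSectionVars false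
set_option linter.style.haveILetI false

namespace Cfsg.Agent.Lib.Helper24.WrM

open Cfsg Cfsg.Agent.CharLib Cfsg.Agent.Lib.Helper6 Cfsg.Agent.Lib.Helper24 Cfsg.Agent.Lib.Helper24.PiChar
open RegularWreathProduct
open scoped ComplexConjugate

universe u

section degree
variable {G : Type u} [Group G] [Fintype G]

/-- a character containing an irreducible character of at least the same degree equals it -/
theorem eq_of_constituent_of_degree_le {Φ θ : G → ℂ} (hΦ : IsCharacter G Φ)
    (hθ : IsIrrCharacter G θ) (h : classInner Φ θ ≠ 0)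
    (hdeg : ∃ a b : ℕ, Φ 1 = a ∧ θ 1 = b ∧ a ≤ b) : Φ = θ := by
  classical
  letI := fintypeIrr G
  obtain ⟨m, hm, hcoef⟩ := IsCharacter.exists_decomp_sum hΦ
  obtain ⟨a, b, ha, hb, hab⟩ := hdeg
  set θ' : IrrCharacter G := ⟨θ, hθ⟩ with hθ'
  have hmθ : m θ' ≠ 0 := by
    intro h0
    apply h
    have := hcoef θ'
    rw [h0, Nat.cast_zero] at this
    exact this
  -- degrees
  have hsum : a = ∑ ψ : IrrCharacter G, m ψ * charDegree (ψ : G → ℂ) := by
    have h1 := congrFun hm 1
    rw [ha, Finset.sum_apply] at h1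
    have h2 : (a : ℂ) = ((∑ ψ : IrrCharacter G, m ψ * charDegree (ψ : G → ℂ) : ℕ) : ℂ) := by
      rw [h1]
      push_cast
      apply Finset.sum_congr rfl
      intro ψ _
      rw [Pi.smul_apply, irr_apply_one ψ, nsmul_eq_mul]
    exact_mod_cast h2
  have hbθ : b = charDegree (θ' : G → ℂ) := by
    have := irr_apply_one θ'
    rw [show ((θ' : IrrCharacter G) : G → ℂ) 1 = θ 1 from rfl, hb] at this
    exact_mod_cast this
  have hbpos : 0 < b := hbθ ▸ irr_charDegree_pos θ'
  have hother : ∀ ψ : IrrCharacter G, ψ ≠ θ' → m ψ = 0 := by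
    intro ψ hψ
    by_contra hne
    have h1 : ∑ φ ∈ ({θ', ψ} : Finset (IrrCharacter G)), m φ * charDegree (φ : G → ℂ) ≤
        ∑ φ : IrrCharacter G, m φ * charDegree (φ : G → ℂ) :=
      Finset.sum_le_sum_of_subset (Finset.subset_univ _)
    rw [Finset.sum_pair (Ne.symm hψ), ← hsum, ← hbθ] at h1
    have h2 : b ≤ m θ' * b := Nat.le_mul_of_pos_left _ (Nat.pos_of_ne_zero hmθ)
    have h3 : 0 < m ψ * charDegree (ψ : G → ℂ) :=
      Nat.mul_pos (Nat.pos_of_ne_zero hne) (irr_charDegree_pos ψ)
    omega
  have hone : m θ' = 1 := by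
    have h1 : ∑ φ ∈ ({θ'} : Finset (IrrCharacter G)), m φ * charDegree (φ : G → ℂ) ≤
        ∑ φ : IrrCharacter G, m φ * charDegree (φ : G → ℂ) :=
      Finset.sum_le_sum_of_subset (Finset.subset_univ _)
    rw [Finset.sum_singleton, ← hsum, ← hbθ] at h1
    have h2 : m θ' * b ≤ b := h1.trans hab
    have h3 : 0 < m θ' := Nat.pos_of_ne_zero hmθ
    nlinarith
  rw [hm, Finset.sum_eq_single θ']
  · rw [hone, one_smul]
  · intro ψ _ hψ
    rw [hother ψ hψ, zero_smul]
  · intro h
    exact absurd (Finset.mem_univ _) h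

theorem eq_of_constituent_of_degree_eq {Φ θ : G → ℂ} (hΦ : IsCharacter G Φ)
    (hθ : IsIrrCharacter G θ) (h : classInner Φ θ ≠ 0) (hdeg : Φ 1 = θ 1) : Φ = θ := by
  obtain ⟨n, -, h1⟩ := IsIrrCharacter.apply_one_pos hθ
  exact eq_of_constituent_of_degree_le hΦ hθ h ⟨n, n, hdeg.trans h1, h1, le_refl n⟩

end degree

section wreath
variable {D : Type u} [Group D] {Q : Type u} [Group Q]

/-- the base group of the regular wreath product -/
def base (D Q : Type u) [Group D] [Group Q] : Subgroup (D ≀ᵣ Q) := (rightHom : D ≀ᵣ Q →* Q).ker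

instance base_normal : (base D Q).Normal := MonoidHom.normal_ker _

theorem mem_base {w : D ≀ᵣ Q} : w ∈ base D Q ↔ w.right = 1 := MonoidHom.mem_ker

/-- the base group is the direct power -/
def baseEquiv : base D Q ≃* (Q → D) where
  toFun b := b.1.left
  invFun f := ⟨⟨f, 1⟩, mem_base.mpr rfl⟩
  left_inv b := by
    apply Subtype.ext
    apply RegularWreathProduct.ext
    · rfl
    · exact (mem_base.mp b.2).symm
  right_inv f := rfl
  map_mul' a b := by
    funext q
    have ha : a.1.right = 1 := mem_base.mp a.2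
    show (a.1 * b.1).left q = a.1.left q * b.1.left q
    rw [RegularWreathProduct.mul_left, Pi.mul_apply, ha, inv_one, one_mul]

theorem baseEquiv_apply (b : base D Q) (q : Q) : baseEquiv b q = b.1.left q := rfl

theorem index_base [Finite Q] : (base D Q).index = Nat.card Q := by
  unfold base
  rw [Subgroup.index_ker]
  have : (rightHom : D ≀ᵣ Q →* Q).range = ⊤ := by
    rw [MonoidHom.range_eq_top]
    intro q
    exact ⟨inl q, rfl⟩
  rw [this, Subgroup.card_top]

/-- conjugation of base elements -/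
theorem conj_left (g : D ≀ᵣ Q) (b : D ≀ᵣ Q) (hb : b.right = 1) (q : Q) :
    (g * b * g⁻¹).left q = g.left q * b.left (g.right⁻¹ * q) * (g.left q)⁻¹ := by
  simp only [RegularWreathProduct.mul_left, RegularWreathProduct.inv_left, Pi.mul_apply,
    RegularWreathProduct.mul_right, hb, mul_one, Pi.inv_apply]
  congr 2
  rw [mul_inv_cancel_left]

variable [Fintype Q] [DecidableEq Q]

/-- product function on the wreath product -/
noncomputable def wChar (t : Q → D → ℂ) : (D ≀ᵣ Q) → ℂ := fun w => ∏ q, t q (w.left q)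

/-- product character of the base group -/
noncomputable def bChar (t : Q → D → ℂ) : base D Q → ℂ := fun b => wChar t b.1

theorem bChar_eq (t : Q → D → ℂ) : bChar t = piChar t ∘ (baseEquiv : base D Q ≃* (Q → D)) := rfl

theorem isIrrCharacter_bChar [Finite D] (t : Q → D → ℂ) (ht : ∀ q, IsIrrCharacter D (t q)) :
    IsIrrCharacter (base D Q) (bChar t) := by
  rw [bChar_eq]
  exact isIrrCharacter_comp_mulEquiv' baseEquiv (isIrrCharacter_piChar t ht)

theorem exists_bChar_eq [Finite D] {ψ : base D Q → ℂ} (hψ : IsIrrCharacter (base D Q) ψ) :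
    ∃ t : Q → D → ℂ, (∀ q, IsIrrCharacter D (t q)) ∧ ψ = bChar t := by
  have h1 := isIrrCharacter_comp_mulEquiv' (baseEquiv (D := D) (Q := Q)).symm hψ
  obtain ⟨t, ht, h2⟩ := exists_piChar_eq h1
  refine ⟨t, ht, ?_⟩
  rw [bChar_eq, ← h2]
  funext b
  simp

theorem bChar_injective [Finite D] {s t : Q → D → ℂ} (hs : ∀ q, IsIrrCharacter D (s q))
    (ht : ∀ q, IsIrrCharacter D (t q)) (h : (bChar s : base D Q → ℂ) = bChar t) : s = t := by
  apply piChar_injective hs ht
  funext x
  have := congrFun h (baseEquiv.symm x)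
  rw [bChar_eq, bChar_eq, Function.comp_apply, Function.comp_apply, MulEquiv.apply_symm_apply] at this
  exact this

theorem conjFun_bChar (t : Q → D → ℂ) (ht : ∀ q, IsClassFunction D (t q)) (g : D ≀ᵣ Q) :
    conjFun (base D Q) g (bChar t) = bChar (fun q => t (g.right * q)) := by
  funext b
  rw [conjFun_apply]
  show ∏ q, t q ((g * b.1 * g⁻¹).left q) = ∏ q, t (g.right * q) (b.1.left q)
  have h1 : ∀ q, t q ((g * b.1 * g⁻¹).left q) = t q (b.1.left (g.right⁻¹ * q)) := by
    intro q
    rw [conj_left g b.1 (mem_base.mp b.2) q]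
    exact ht q _ _
  simp only [h1]
  rw [← Equiv.prod_comp (Equiv.mulLeft g.right) (fun q => t q (b.1.left (g.right⁻¹ * q)))]
  apply Finset.prod_congr rfl
  intro q _
  rw [Equiv.coe_mulLeft, inv_mul_cancel_left]

/-- an invariant product character has equal factors -/
theorem eq_const_of_invariant [Finite D] (t : Q → D → ℂ) (ht : ∀ q, IsIrrCharacter D (t q))
    (hinv : ∀ g : D ≀ᵣ Q, conjFun (base D Q) g (bChar t) = bChar t) : t = fun _ => t 1 := by
  funext q
  have h1 := hinv (inl q)
  rw [conjFun_bChar t (fun q => IsCharacter.isClassFunction (IsIrrCharacter.isCharacter (ht q)))] at h1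
  have h2 := bChar_injective (fun q' => ht ((inl q : D ≀ᵣ Q).right * q')) ht h1
  have h3 := congrFun h2 1
  simp only [right_inl, mul_one] at h3
  exact h3

/-- a product character with equal factors is invariant -/
theorem invariant_of_const (φ : D → ℂ) (hφ : IsClassFunction D φ) (g : D ≀ᵣ Q) :
    conjFun (base D Q) g (bChar (fun _ => φ)) = bChar (fun _ => φ) := by
  rw [conjFun_bChar (fun _ => φ) (fun _ => hφ)]

end wreath

end Cfsg.Agent.Lib.Helper24.WrM
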