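/- helper24: wreath products D wr Q and M-groups, part 2: product subgroups subXB of the base group and their linear characters (bChar_eq_indFun: a product of monomial irreducible characters is monomial), the subgroup subV = U0 wr Q and its linear character muV (resFun_indFun_subV: the induced character restricts to the product character on the base group). -/
import Mathlib
import Cfsg.Prelude.Def_Characters
import Cfsg.Agent.Lib.Helper24.WrM1
import Cfsg.Agent.Lib.Lead.Taketa
import Cfsg.Agent.Lib.Helper2.DadeExt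

set_option autoImplicit false
set_option linter.unusedSectionVars false
set_option linter.style.haveILetI false

namespace Cfsg.Agent.Lib.Helper24.WrM

open Cfsg Cfsg.Agent.CharLib Cfsg.Agent.Lib.Helper6 Cfsg.Agent.Lib.Helper24 Cfsg.Agent.Lib.Helper24.PiChar
open RegularWreathProduct
open scoped ComplexConjugate

universe u

section caseII
variable {D : Type u} [Group D] {Q : Type u} [Group Q]

theorem base_mul_left (a b : base D Q) (q : Q) : (a * b).1.left q = a.1.left q * b.1.left q :=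
  congrFun (map_mul baseEquiv a b) q

theorem base_inv_left (a : base D Q) (q : Q) : (a⁻¹).1.left q = (a.1.left q)⁻¹ :=
  congrFun (map_inv baseEquiv a) q

/-- product subgroup of the base group -/
def subXB (U : Q → Subgroup D) : Subgroup (base D Q) where
  carrier := {b | ∀ q, b.1.left q ∈ U q}
  mul_mem' := by
    intro a b ha hb q
    rw [base_mul_left]
    exact (U q).mul_mem (ha q) (hb q)
  one_mem' := fun q => (U q).one_mem
  inv_mem' := by
    intro a ha q
    rw [base_inv_left]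
    exact (U q).inv_mem (ha q)

theorem mem_subXB {U : Q → Subgroup D} {b : base D Q} : b ∈ subXB U ↔ ∀ q, b.1.left q ∈ U q :=
  Iff.rfl

/-- coordinates on the product subgroup -/
def subXBEquiv (U : Q → Subgroup D) : subXB U ≃ (∀ q, U q) where
  toFun x := fun q => ⟨x.1.1.left q, x.2 q⟩
  invFun u := ⟨baseEquiv.symm (fun q => (u q : D)), fun q => (u q).2⟩
  left_inv x := by
    apply Subtype.ext
    apply baseEquiv.injective
    rw [MulEquiv.apply_symm_apply]
    rfl
  right_inv u := rfl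

variable [Fintype Q] [DecidableEq Q]

/-- product linear character of the product subgroup -/
noncomputable def nuXB (U : Q → Subgroup D) (lam : ∀ q, U q →* ℂˣ) : subXB U →* ℂˣ where
  toFun x := ∏ q, lam q ⟨x.1.1.left q, x.2 q⟩
  map_one' := by
    apply Finset.prod_eq_one
    intro q _
    have : (⟨(1 : subXB U).1.1.left q, (1 : subXB U).2 q⟩ : U q) = 1 := rfl
    rw [this, map_one]
  map_mul' a b := by
    rw [← Finset.prod_mul_distrib]
    apply Finset.prod_congr rfl
    intro q _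
    rw [← map_mul]
    congr 1
    apply Subtype.ext
    exact base_mul_left a.1 b.1 q

theorem nuXB_apply (U : Q → Subgroup D) (lam : ∀ q, U q →* ℂˣ) (x : subXB U) :
    ((nuXB U lam x : ℂˣ) : ℂ) = ∏ q, ((lam q ⟨x.1.1.left q, x.2 q⟩ : ℂˣ) : ℂ) := by
  show ((∏ q, lam q ⟨x.1.1.left q, x.2 q⟩ : ℂˣ) : ℂ) = _
  rw [Units.coe_prod]

/-- the pairing of a linear character with the restriction of the character it induces -/
theorem sum_lin_mul_conj_ind [Fintype D] (U : Subgroup D) [Fintype U] (lam : U →* ℂˣ) (φ : D → ℂ)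
    (hφ : IsIrrCharacter D φ) (hind : φ = indFun U (fun u => ((lam u : ℂˣ) : ℂ))) :
    ∑ a : U, ((lam a : ℂˣ) : ℂ) * conj (φ a) = (Nat.card U : ℂ) := by
  have h1 : classInner (indFun U (fun u => ((lam u : ℂˣ) : ℂ))) φ = 1 := by
    rw [← hind, classInner_irr hφ hφ, if_pos rfl]
  rw [frobenius_reciprocity U _ (IsCharacter.isClassFunction (IsIrrCharacter.isCharacter hφ)),
    classInner] at h1
  have hU : (Nat.card U : ℂ) ≠ 0 := card_ne_zero_complex_of_finite
  field_simp at h1
  exact h1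

theorem bChar_eq_indFun [Fintype D] [Fintype (base D Q)] (U : Q → Subgroup D) (lam : ∀ q, U q →* ℂˣ)
    (t : Q → D → ℂ) (ht : ∀ q, IsIrrCharacter D (t q))
    (hind : ∀ q, t q = indFun (U q) (fun u => ((lam q u : ℂˣ) : ℂ))) :
    bChar t = indFun (subXB U) (fun x => ((nuXB U lam x : ℂˣ) : ℂ)) := by
  classical
  letI : ∀ q, Fintype (U q) := fun q => Fintype.ofFinite _
  letI : Fintype (subXB U) := Fintype.ofFinite _
  symm
  have hcardX : Nat.card (subXB U) = ∏ q, Nat.card (U q) := by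
    rw [Nat.card_congr (subXBEquiv U), Nat.card_pi]
  have hcardB : Nat.card (base D Q) = (Nat.card D) ^ (Fintype.card Q) := by
    rw [Nat.card_congr (baseEquiv (D := D) (Q := Q)).toEquiv, Nat.card_fun, Nat.card_eq_fintype_card (α := Q)]
  have hU0 : ∀ q, (Nat.card (U q) : ℂ) ≠ 0 := fun q => card_ne_zero_complex_of_finite
  have hprod0 : (∏ q, (Nat.card (U q) : ℂ)) ≠ 0 := Finset.prod_ne_zero_iff.mpr (fun q _ => hU0 q)
  apply eq_of_constituent_of_degree_eq (IsCharacter.indFun _ (isCharacter_of_hom _))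
    (isIrrCharacter_bChar t ht)
  · rw [frobenius_reciprocity (subXB U) _
      (IsCharacter.isClassFunction (IsIrrCharacter.isCharacter (isIrrCharacter_bChar t ht))), classInner]
    have h1 : ∑ x : subXB U, ((nuXB U lam x : ℂˣ) : ℂ) * conj (bChar t (x : base D Q)) =
        ∑ u : (∀ q, U q), (∏ q, ((lam q (u q) : ℂˣ) : ℂ)) * conj (∏ q, t q (u q)) := by
      apply Fintype.sum_equiv (subXBEquiv U)
      intro x
      rw [nuXB_apply]
      rfl
    rw [h1, sum_pi_subgroup U (fun q a => ((lam q a : ℂˣ) : ℂ)) t]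
    have h2 : ∀ q, ∑ a : U q, ((lam q a : ℂˣ) : ℂ) * conj (t q a) = (Nat.card (U q) : ℂ) :=
      fun q => sum_lin_mul_conj_ind (U q) (lam q) (t q) (ht q) (hind q)
    simp only [h2]
    rw [hcardX, Nat.cast_prod, inv_mul_cancel₀ hprod0]
    exact one_ne_zero
  · rw [CharLib.indFun_apply_one, hcardX, hcardB]
    have h3 : ((nuXB U lam (1 : subXB U) : ℂˣ) : ℂ) = 1 := by rw [map_one, Units.val_one]
    rw [h3, mul_one]
    show _ = ∏ q, t q ((1 : base D Q).1.left q)
    have h4 : ∀ q, t q ((1 : base D Q).1.left q) = (Nat.card (U q) : ℂ)⁻¹ * (Nat.card D : ℂ) := by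
      intro q
      have : (1 : base D Q).1.left q = 1 := rfl
      rw [this, hind q, CharLib.indFun_apply_one, map_one, Units.val_one, mul_one]
    simp only [h4]
    rw [Finset.prod_mul_distrib, Finset.prod_inv_distrib, Finset.prod_const, Finset.card_univ]
    push_cast
    rfl

end caseII

section caseI
variable {D : Type u} [Group D] {Q : Type u} [Group Q]

/-- the subgroup `U₀ ≀ Q` of `D ≀ Q` -/
def subV (U₀ : Subgroup D) : Subgroup (D ≀ᵣ Q) where
  carrier := {w | ∀ q, w.left q ∈ U₀}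
  mul_mem' := by
    intro a b ha hb q
    rw [RegularWreathProduct.mul_left, Pi.mul_apply]
    exact U₀.mul_mem (ha q) (hb _)
  one_mem' := fun q => U₀.one_mem
  inv_mem' := by
    intro a ha q
    rw [RegularWreathProduct.inv_left]
    exact U₀.inv_mem (ha _)

theorem mem_subV {U₀ : Subgroup D} {w : D ≀ᵣ Q} : w ∈ subV U₀ ↔ ∀ q, w.left q ∈ U₀ := Iff.rfl

theorem subV_sup_base (U₀ : Subgroup D) : (subV U₀ : Subgroup (D ≀ᵣ Q)) ⊔ base D Q = ⊤ := by
  rw [eq_top_iff]
  intro w _
  have h1 : w = inl w.right * ⟨fun x => w.left (w.right * x), 1⟩ := by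
    apply RegularWreathProduct.ext
    · funext q
      simp
    · simp
  rw [h1]
  apply Subgroup.mul_mem_sup
  · intro q
    exact U₀.one_mem
  · exact mem_base.mpr rfl

/-- coordinates on `U₀ ≀ Q` -/
def subVEquiv (U₀ : Subgroup D) : (subV U₀ : Subgroup (D ≀ᵣ Q)) ≃ (Q → U₀) × Q where
  toFun v := (fun q => ⟨v.1.left q, v.2 q⟩, v.1.right)
  invFun x := ⟨⟨fun q => (x.1 q : D), x.2⟩, fun q => (x.1 q).2⟩
  left_inv _ := rfl
  right_inv _ := rfl

/-- coordinates on the intersection with the base group -/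
def subVInfEquiv (U₀ : Subgroup D) : ↥((subV U₀ : Subgroup (D ≀ᵣ Q)) ⊓ base D Q) ≃ (Q → U₀) where
  toFun d := fun q => ⟨d.1.left q, (Subgroup.mem_inf.mp d.2).1 q⟩
  invFun u := ⟨⟨fun q => (u q : D), 1⟩, Subgroup.mem_inf.mpr ⟨fun q => (u q).2, mem_base.mpr rfl⟩⟩
  left_inv d := by
    apply Subtype.ext
    apply RegularWreathProduct.ext
    · rfl
    · exact (mem_base.mp (Subgroup.mem_inf.mp d.2).2).symm
  right_inv u := rfl

variable [Fintype Q] [DecidableEq Q]

/-- the linear character `λ × ⋯ × λ` extended to `U₀ ≀ Q` -/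
noncomputable def muV (U₀ : Subgroup D) (lam : U₀ →* ℂˣ) : (subV U₀ : Subgroup (D ≀ᵣ Q)) →* ℂˣ where
  toFun v := ∏ q, lam ⟨v.1.left q, v.2 q⟩
  map_one' := by
    apply Finset.prod_eq_one
    intro q _
    have : (⟨(1 : (subV U₀ : Subgroup (D ≀ᵣ Q))).1.left q, (1 : (subV U₀ : Subgroup (D ≀ᵣ Q))).2 q⟩ : U₀) = 1 := rfl
    rw [this, map_one]
  map_mul' a b := by
    have h1 : ∀ q, lam ⟨(a * b).1.left q, (a * b).2 q⟩ =
        lam ⟨a.1.left q, a.2 q⟩ * lam ⟨b.1.left (a.1.right⁻¹ * q), b.2 _⟩ := by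
      intro q
      rw [← map_mul]
      rfl
    simp only [h1]
    rw [Finset.prod_mul_distrib]
    congr 1
    exact Equiv.prod_comp (Equiv.mulLeft a.1.right⁻¹) (fun q => lam ⟨b.1.left q, b.2 q⟩)

theorem muV_apply (U₀ : Subgroup D) (lam : U₀ →* ℂˣ) (v : (subV U₀ : Subgroup (D ≀ᵣ Q))) :
    ((muV U₀ lam v : ℂˣ) : ℂ) = ∏ q, ((lam ⟨v.1.left q, v.2 q⟩ : ℂˣ) : ℂ) := by
  show ((∏ q, lam ⟨v.1.left q, v.2 q⟩ : ℂˣ) : ℂ) = _
  rw [Units.coe_prod]

theorem resFun_indFun_subV [Fintype D] [Fintype (D ≀ᵣ Q)] (U₀ : Subgroup D) (lam : U₀ →* ℂˣ)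
    (φ : D → ℂ) (hφ : IsIrrCharacter D φ) (hind : φ = indFun U₀ (fun u => ((lam u : ℂˣ) : ℂ))) :
    resFun (base D Q) (indFun (subV U₀) (fun v => ((muV U₀ lam v : ℂˣ) : ℂ))) =
      bChar (fun _ : Q => φ) := by
  classical
  letI : Fintype U₀ := Fintype.ofFinite _
  letI : Fintype (base D Q) := Fintype.ofFinite _
  letI : Fintype ↥((subV U₀ : Subgroup (D ≀ᵣ Q)) ⊓ base D Q) := Fintype.ofFinite _
  have hφcf := IsCharacter.isClassFunction (IsIrrCharacter.isCharacter hφ)
  have hirr := isIrrCharacter_bChar (fun _ : Q => φ) (fun _ => hφ)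
  have hU0 : (Nat.card U₀ : ℂ) ≠ 0 := card_ne_zero_complex_of_finite
  apply eq_of_constituent_of_degree_eq
    (isCharacter_resFun (base D Q) (IsCharacter.indFun _ (isCharacter_of_hom _))) hirr
  · rw [Cfsg.Agent.Lib.Helper2.classInner_resFun_indFun_of_sup_eq_top (base D Q) (subV U₀)
      (subV_sup_base U₀) _ _ (fun g n => by
        have := congrFun (invariant_of_const (Q := Q) φ hφcf g) n
        rw [conjFun_apply] at this
        exact this)]
    have h1 : ∑ d : ↥((subV U₀ : Subgroup (D ≀ᵣ Q)) ⊓ base D Q),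
        ((muV U₀ lam ⟨(d : D ≀ᵣ Q), (Subgroup.mem_inf.mp d.2).1⟩ : ℂˣ) : ℂ) *
          conj (bChar (fun _ : Q => φ) ⟨(d : D ≀ᵣ Q), (Subgroup.mem_inf.mp d.2).2⟩) =
        ∑ u : (Q → U₀), (∏ q, ((lam (u q) : ℂˣ) : ℂ)) * conj (∏ q, φ (u q)) := by
      apply Fintype.sum_equiv (subVInfEquiv U₀)
      intro d
      rw [muV_apply]
      rfl
    rw [h1, sum_pi_subgroup (fun _ => U₀) (fun _ a => ((lam a : ℂˣ) : ℂ)) (fun _ => φ)]
    have h2 : ∑ a : U₀, ((lam a : ℂˣ) : ℂ) * conj (φ a) = (Nat.card U₀ : ℂ) :=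
      sum_lin_mul_conj_ind U₀ lam φ hφ hind
    simp only [h2]
    rw [Nat.card_congr (subVInfEquiv (Q := Q) U₀), Nat.card_fun, Finset.prod_const, Finset.card_univ,
      Nat.card_eq_fintype_card (α := Q)]
    push_cast
    rw [inv_mul_cancel₀ (pow_ne_zero _ hU0)]
    exact one_ne_zero
  · rw [resFun_apply]
    show indFun (subV U₀) (fun v => ((muV U₀ lam v : ℂˣ) : ℂ)) 1 = ∏ q : Q, φ ((1 : base D Q).1.left q)
    rw [CharLib.indFun_apply_one, map_one, Units.val_one, mul_one,
      Nat.card_congr (subVEquiv (Q := Q) U₀), RegularWreathProduct.card, Nat.card_prod, Nat.card_fun]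
    have h4 : ∀ q : Q, φ ((1 : base D Q).1.left q) = (Nat.card U₀ : ℂ)⁻¹ * (Nat.card D : ℂ) := by
      intro q
      have : (1 : base D Q).1.left q = 1 := rfl
      rw [this, hind, CharLib.indFun_apply_one, map_one, Units.val_one, mul_one]
    simp only [h4]
    rw [Finset.prod_const, Finset.card_univ, Nat.card_eq_fintype_card (α := Q)]
    have hQ0 : (Fintype.card Q : ℂ) ≠ 0 := by
      exact_mod_cast (Fintype.card_pos (α := Q)).ne'
    push_cast
    rw [mul_pow, inv_pow]
    field_simp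

end caseI

end Cfsg.Agent.Lib.Helper24.WrM
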