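/- helper24: wreath products D wr Q and M-groups, part 3: mgroup_wreath (the regular wreath product of an M-group with a group of prime order is an M-group). -/
import Mathlib
import Cfsg.Prelude.Def_Characters
import Cfsg.Agent.Lib.Helper24.WrM2
import Cfsg.Agent.Lib.Helper24.NormalDegrees
import Cfsg.Agent.Lib.Helper2.MGroup
import Cfsg.Agent.Lib.Helper6.AbelianQuot
import Cfsg.Agent.Lib.Helper6.Gallagher

set_option autoImplicit false
set_option linter.unusedSectionVars false
set_option linter.style.haveILetI false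

namespace Cfsg.Agent.Lib.Helper24.WrM

open Cfsg Cfsg.Agent.CharLib Cfsg.Agent.Lib.Helper6 Cfsg.Agent.Lib.Helper24 Cfsg.Agent.Lib.Helper24.PiChar
open RegularWreathProduct
open scoped ComplexConjugate commutatorElement

universe u

section main
variable {D : Type u} [Group D] [Fintype D] {Q : Type u} [Group Q] [Fintype Q] [DecidableEq Q]

/-- the wreath product of an M-group with a group of prime order is an M-group -/
theorem mgroup_wreath [Fintype (D ≀ᵣ Q)] (p : ℕ) (hp : p.Prime) (hQ : Nat.card Q = p)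
    (hM : ∀ φ : D → ℂ, IsIrrCharacter D φ → ∃ (U : Subgroup D) (lam : U →* ℂˣ),
      φ = indFun U (fun u => ((lam u : ℂˣ) : ℂ)))
    (χ : D ≀ᵣ Q → ℂ) (hχ : IsIrrCharacter (D ≀ᵣ Q) χ) :
    ∃ (H : Subgroup (D ≀ᵣ Q)) (lam : H →* ℂˣ), χ = indFun H (fun h => ((lam h : ℂˣ) : ℂ)) := by
  classical
  haveI : Fact p.Prime := ⟨hp⟩
  letI : Fintype (base D Q) := Fintype.ofFinite _
  letI := fintypeIrr (D ≀ᵣ Q)
  have hχc := IsIrrCharacter.isCharacter hχ
  have hχcf := IsCharacter.isClassFunction hχc
  have hres0 : resFun (base D Q) χ ≠ 0 := by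
    intro h0
    have h1 := congrFun h0 1
    rw [resFun_apply, Pi.zero_apply] at h1
    obtain ⟨n, hn, h2⟩ := IsIrrCharacter.apply_one_pos hχ
    rw [show (((1 : base D Q) : D ≀ᵣ Q)) = 1 from rfl, h2] at h1
    have : n = 0 := by exact_mod_cast h1
    omega
  obtain ⟨ψ, hψ, hne⟩ := IsCharacter.exists_constituent (isCharacter_resFun (base D Q) hχc) hres0
  obtain ⟨t, ht, rfl⟩ := exists_bChar_eq hψ
  choose U lam hUlam using fun q => hM (t q) (ht q)
  have hψcf := IsCharacter.isClassFunction (IsIrrCharacter.isCharacter hψ)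
  by_cases hinv : ∀ g : D ≀ᵣ Q, conjFun (base D Q) g (bChar t) = bChar t
  · -- invariant case
    have hconst := eq_const_of_invariant t ht hinv
    have hψeq : (bChar t : base D Q → ℂ) = bChar (fun _ : Q => t 1) := congrArg bChar hconst
    set χ₀ : D ≀ᵣ Q → ℂ :=
      indFun (subV (U 1)) (fun v => ((muV (Q := Q) (U 1) (lam 1) v : ℂˣ) : ℂ)) with hχ₀
    have hχ₀c : IsCharacter (D ≀ᵣ Q) χ₀ := IsCharacter.indFun _ (isCharacter_of_hom _)
    have hχ₀cf := IsCharacter.isClassFunction hχ₀c
    have hres : resFun (base D Q) χ₀ = bChar (fun _ : Q => t 1) :=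
      resFun_indFun_subV (U 1) (lam 1) (t 1) (ht 1) (hUlam 1)
    have h1 : classInner (indFun (base D Q) (bChar t)) χ ≠ 0 := by
      rw [frobenius_reciprocity (base D Q) _ hχcf, ← classInner_conj_symm]
      intro h0
      exact hne ((map_eq_zero (starRingEnd ℂ)).mp h0)
    have h2 : indFun (base D Q) (bChar t) = indFun (base D Q) (1 : base D Q → ℂ) * χ₀ := by
      rw [hψeq, ← hres, ← indFun_mul_resFun (base D Q) (1 : base D Q → ℂ) hχ₀cf, one_mul]
    rw [h2, classFunction_eq_sum (indFun_isClassFunction (base D Q) (1 : base D Q → ℂ)),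
      Finset.sum_mul, classInner_sum_left] at h1
    obtain ⟨β, -, hβ⟩ := Finset.exists_ne_zero_of_sum_ne_zero h1
    rw [smul_mul_assoc, classInner_smul_left] at hβ
    have hβB : classInner (indFun (base D Q) (1 : base D Q → ℂ)) (β : D ≀ᵣ Q → ℂ) ≠ 0 :=
      left_ne_zero_of_mul hβ
    have hβχ : classInner ((β : D ≀ᵣ Q → ℂ) * χ₀) χ ≠ 0 := right_ne_zero_of_mul hβ
    have hab : ∀ x y : D ≀ᵣ Q, ⁅x, y⁆ ∈ base D Q := by
      intro x y
      rw [mem_base]
      haveI : IsCyclic Q := isCyclic_of_prime_card hQ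
      have hc : x.right * y.right = y.right * x.right :=
        isMulCommutative_iff.mp IsCyclic.isMulCommutative x.right y.right
      show (x * y * x⁻¹ * y⁻¹).right = 1
      simp only [RegularWreathProduct.mul_right, RegularWreathProduct.inv_right]
      rw [hc, mul_inv_cancel_right, mul_inv_cancel]
    have hβ1 : (β : D ≀ᵣ Q → ℂ) 1 = 1 :=
      apply_one_eq_one_of_indFun_one_ne_zero (base D Q) hab β.2 hβB
    have hβc := IsIrrCharacter.isCharacter β.2
    have hβcf := IsCharacter.isClassFunction hβc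
    -- degrees
    obtain ⟨n₁, hn₁, hψ1⟩ := IsIrrCharacter.apply_one_pos hψ
    obtain ⟨e, he⟩ := IsCharacter.classInner_nat (isCharacter_resFun (base D Q) hχc)
      (IsIrrCharacter.isCharacter hψ)
    have he0 : e ≠ 0 := by
      intro h0
      apply hne
      rw [he, h0, Nat.cast_zero]
    have hcl := clifford_of_invariant (base D Q) hχ hψ hne hinv
    have hχ1 : χ 1 = ((e * n₁ : ℕ) : ℂ) := by
      have := congrFun hcl 1
      rw [resFun_apply, Pi.smul_apply, smul_eq_mul, he, hψ1] at this
      rw [show (((1 : base D Q) : D ≀ᵣ Q)) = 1 from rfl] at this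
      rw [this]
      push_cast
      rfl
    have hΦ1 : ((β : D ≀ᵣ Q → ℂ) * χ₀) 1 = (n₁ : ℂ) := by
      rw [Pi.mul_apply, hβ1, one_mul]
      have := congrFun hres 1
      rw [resFun_apply, ← hψeq, hψ1] at this
      exact this
    have heq : (β : D ≀ᵣ Q → ℂ) * χ₀ = χ :=
      eq_of_constituent_of_degree_le (IsCharacter.mul hβc hχ₀c) hχ hβχ
        ⟨n₁, e * n₁, hΦ1, hχ1, Nat.le_mul_of_pos_left _ (Nat.pos_of_ne_zero he0)⟩
    refine ⟨subV (U 1), muV (U 1) (lam 1) *
      (linCharUnitsHom hβc hβ1).comp (subV (U 1) : Subgroup (D ≀ᵣ Q)).subtype, ?_⟩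
    rw [← heq, mul_comm, hχ₀, ← indFun_mul_resFun _ _ hβcf]
    rfl
  · -- non-invariant case
    push Not at hinv
    obtain ⟨g₀, hg₀⟩ := hinv
    set T := inertia (base D Q) hψcf with hT
    have hBT : base D Q ≤ T := le_inertia (base D Q) hψcf
    have hTtop : T ≠ ⊤ := by
      intro h
      have : g₀ ∈ T := by rw [h]; exact Subgroup.mem_top _
      exact hg₀ ((mem_inertia (base D Q) hψcf g₀).mp this)
    have hTB : T = base D Q := by
      have h1 := Subgroup.relIndex_mul_index hBT
      rw [index_base, hQ] at h1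
      have h2 : T.index ∣ p := ⟨(base D Q).relIndex T, by rw [← h1, mul_comm]⟩
      rcases (Nat.dvd_prime hp).mp h2 with h3 | h3
      · exact absurd (Subgroup.index_eq_one.mp h3) hTtop
      · rw [h3] at h1
        have h4 : (base D Q).relIndex T = 1 :=
          Nat.eq_of_mul_eq_mul_right hp.pos (by rw [h1, one_mul])
        exact le_antisymm (Subgroup.relIndex_eq_one.mp h4) hBT
    have hmem : ∀ g : D ≀ᵣ Q, g ∈ base D Q ↔ conjFun (base D Q) g (bChar t) = bChar t := by
      intro g
      constructor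
      · intro hg
        exact conjFun_of_mem (base D Q) hψcf hg
      · intro h
        have h5 : g ∈ T := (mem_inertia (base D Q) hψcf g).mpr h
        rw [hTB] at h5
        exact h5
    obtain ⟨ψ', hψ', hind', hinner⟩ := exists_indFun_inertia_eq (H := base D Q) (T := base D Q)
      (le_refl _) hψ hmem hχ hne
    have hψ'eq : ψ' = bChar t := by
      have h5 : classInner ψ' (bChar t) ≠ 0 := by
        have h6 : resLE (le_refl (base D Q)) ψ' = ψ' := by
          funext n
          rfl
        rw [h6] at hinner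
        rw [hinner]
        exact hne
      rw [classInner_irr hψ' hψ] at h5
      by_contra hcon
      rw [if_neg hcon] at h5
      exact h5 rfl
    letI : Fintype (subXB U) := Fintype.ofFinite _
    letI : Fintype ((subXB U).map (base D Q).subtype) := Fintype.ofFinite _
    refine ⟨(subXB U).map (base D Q).subtype, (nuXB U lam).comp
      ((subXB U).equivMapOfInjective (base D Q).subtype
        (base D Q).subtype_injective).symm.toMonoidHom, ?_⟩
    rw [← hind', hψ'eq, bChar_eq_indFun U lam t ht hUlam, Cfsg.Agent.Lib.Helper2.indFun_trans]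
    rfl

end main

end Cfsg.Agent.Lib.Helper24.WrM
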