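import Mathlib
import Cfsg.Prelude.Def_ClassicalGeometry
import Cfsg.Prelude.Def_GeometricClasses
import Cfsg.Agent.Lib.Helper5.SpMax
import Cfsg.Agent.Lib.Helper22.C3sDefs
import Cfsg.Agent.Lib.Helper24.C3sB1

/-!
S5664 leaf B (helper22's market): two images of the base `E`-line meeting in a hyperplane and
not perpendicular (induction on the growth step B1).
-/

set_option autoImplicit false
set_option linter.unusedSectionVars false
set_option linter.unusedVariables false

namespace Cfsg.Agent.Lib.Helper24.C3sLeaf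
open Cfsg Matrix Module Cfsg.Agent.Lib.Helper5 Cfsg.Agent.Lib.Helper5.SpMax
  Cfsg.Agent.Lib.Helper22.C3 Cfsg.Agent.Lib.Helper22.C3s

universe u
variable {F : Type u} [Field F] {m : ℕ} {E : Type u} [Field E] [Algebra F E]

local notation "𝕍" => (Fin m ⊕ Fin m → F)
local notation "𝕄" => Matrix (Fin m ⊕ Fin m) (Fin m ⊕ Fin m) F

/-- a non-perpendicular image of the base line meets it in a proper subspace -/
lemma finrank_inf_img_lt (S : KS m F E) [FiniteDimensional F E] {v₀ : 𝕍} (hv₀ : v₀ ≠ 0)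
    {g : GL (Fin m ⊕ Fin m) F} (h2 : ¬ img g (S.line v₀) ≤ perp (S.line v₀)) :
    finrank F ↥(S.line v₀ ⊓ img g (S.line v₀)) < finrank F E := by
  by_contra hcon
  push Not at hcon
  apply h2
  have hL : finrank F (S.line v₀) = finrank F E := S.finrank_line hv₀
  have hW : finrank F ↥(img g (S.line v₀)) = finrank F E := by rw [finrank_img, hL]
  have h1 : S.line v₀ ⊓ img g (S.line v₀) = img g (S.line v₀) := by
    apply Submodule.eq_of_le_of_finrank_le inf_le_right
    rw [hW]
    exact hcon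
  have h3 : S.line v₀ ⊓ img g (S.line v₀) = S.line v₀ := by
    apply Submodule.eq_of_le_of_finrank_le inf_le_left
    rw [hL]
    exact hcon
  rw [← h1, h3]
  exact S.line_le_perp_line v₀

/-- B: two images of the base line meeting in a hyperplane, not perpendicular -/
theorem exists_adjacent (S : KS m F E) (hr : (finrank F E).Prime)
    (M : Subgroup (GL (Fin m ⊕ Fin m) F)) (hMS : M ≤ spGL m F)
    (hM : ∀ g ∈ spGL m F, (∀ e : E, (g : 𝕄) * S.ρ e = S.ρ e * (g : 𝕄)) → g ∈ M)
    {v₀ : 𝕍} (hv₀ : v₀ ≠ 0) {g : GL (Fin m ⊕ Fin m) F} (hg : g ∈ M)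
    (h1 : S.line v₀ ⊓ img g (S.line v₀) ≠ ⊥)
    (h2 : ¬ img g (S.line v₀) ≤ perp (S.line v₀)) :
    ∃ g' ∈ M, finrank F ↥(S.line v₀ ⊓ img g' (S.line v₀)) + 1 = finrank F E ∧
      ¬ img g' (S.line v₀) ≤ perp (S.line v₀) := by
  haveI : FiniteDimensional F E := Module.finite_of_finrank_pos hr.pos
  induction' hk : finrank F E - finrank F ↥(S.line v₀ ⊓ img g (S.line v₀))
    using Nat.strong_induction_on with k ih generalizing g
  have hlt := finrank_inf_img_lt S hv₀ h2
  by_cases hadj : finrank F ↥(S.line v₀ ⊓ img g (S.line v₀)) + 1 = finrank F E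
  · exact ⟨g, hg, hadj, h2⟩
  · have h3 : finrank F ↥(S.line v₀ ⊓ img g (S.line v₀)) + 2 ≤ finrank F E := by omega
    obtain ⟨g', hg', hgrow, hnp⟩ := exists_growth S hr M hMS hM hv₀ hg h1 h2 h3
    have h1' : S.line v₀ ⊓ img g' (S.line v₀) ≠ ⊥ := by
      rw [← Submodule.one_le_finrank_iff]
      omega
    have hlt' := finrank_inf_img_lt S hv₀ hnp
    exact ih (finrank F E - finrank F ↥(S.line v₀ ⊓ img g' (S.line v₀))) (by omega) hg' h1' hnp rfl

end Cfsg.Agent.Lib.Helper24.C3sLeaf
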