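import Mathlib

/-!
# Higman–Kreknin–Kostrikin: shared definitions (helper24, for S3779)

Left-normed brackets, additive spans of brackets, derived and lower central series of additive
subgroups of a Lie ring, and `ZMod p`-gradings given by projections with zero `0`-component.
-/

set_option autoImplicit false

namespace Cfsg.Agent.Lib.Helper24.HKK

section defs

variable {L : Type*} [LieRing L]

/-- Left-normed iterated bracket `[[[x, y₁], y₂], …]`. -/
def lnb (x : L) (l : List L) : L := l.foldl (fun a b => ⁅a, b⁆) x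

/-- Additive span of all brackets `⁅x, y⁆`, `x ∈ X`, `y ∈ Y`. -/
def brk (X Y : AddSubgroup L) : AddSubgroup L :=
  AddSubgroup.closure {z | ∃ x ∈ X, ∃ y ∈ Y, z = ⁅x, y⁆}

/-- Derived series of an additive subgroup. -/
def der (M : AddSubgroup L) : ℕ → AddSubgroup L
  | 0 => M
  | (s + 1) => brk (der M s) (der M s)

/-- Lower central series of an additive subgroup. -/
def lcs (M : AddSubgroup L) : ℕ → AddSubgroup L
  | 0 => M
  | (s + 1) => brk (lcs M s) M

end defs

/-- A `ZMod p`-grading of a Lie ring, given by its projections, with zero component of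
degree `0`. -/
structure Grading (p : ℕ) [NeZero p] (L : Type*) [LieRing L] where
  /-- the projection onto the component of degree `k` -/
  π : ZMod p → L →+ L
  idem : ∀ k x, π k (π k x) = π k x
  orth : ∀ j k, j ≠ k → ∀ x, π j (π k x) = 0
  sum : ∀ x, ∑ k, π k x = x
  lie : ∀ j k x y, π (j + k) ⁅π j x, π k y⁆ = ⁅π j x, π k y⁆
  zero : ∀ x, π 0 x = 0

/-- A graded Lie subring: an additive subgroup stable under the projections and the bracket. -/
def IsGradedSubring {p : ℕ} [NeZero p] {L : Type*} [LieRing L] (gr : Grading p L)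
    (M : AddSubgroup L) : Prop :=
  (∀ k, ∀ x ∈ M, gr.π k x ∈ M) ∧ ∀ x ∈ M, ∀ y ∈ M, ⁅x, y⁆ ∈ M

/-- The Higman–Kreknin–Kostrikin bound. -/
def hkk (p : ℕ) : ℕ := ∑ i ∈ Finset.range (2 ^ (p - 1) - 1), (p - 1) ^ i

end Cfsg.Agent.Lib.Helper24.HKK
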