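/- helper24: linear p-groups: derived length bounds for finite p-groups acting linearly.
   `coprime_main` (alg. closed, char ≠ p: D^(log_p n + 1) acts trivially), `charp_main` (char p: D^(clog 2 n)).
   Tools: Maschke complement `exists_inv_compl`, Schur `exists_scalar_of_commute`, `resRep`, `quotRep`, `subRep`. -/
import Mathlib
import Cfsg.Agent.Lib.Helper5.PFix

set_option autoImplicit false

namespace Cfsg.Agent.Lib.Helper24.LinPGroup

open Module

universe u v w

section basic

variable {F : Type v} [Field F] {P : Type u} [Group P] {V : Type w} [AddCommGroup V] [Module F V]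

/-- invariance of a submodule under a representation -/
def Inv (ρ : Representation F P V) (W : Submodule F V) : Prop := ∀ g : P, ∀ w ∈ W, ρ g w ∈ W

/-- the restricted representation on an invariant submodule -/
noncomputable def resRep (ρ : Representation F P V) (W : Submodule F V) (hW : Inv ρ W) :
    Representation F P W where
  toFun g := (ρ g).restrict (hW g)
  map_one' := by
    ext w
    simp
  map_mul' g h := by
    ext w
    simp

@[simp] theorem resRep_apply (ρ : Representation F P V) (W : Submodule F V) (hW : Inv ρ W) (g : P)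
    (w : W) : ((resRep ρ W hW g) w : V) = ρ g w := rfl

/-- restriction of a representation to a subgroup -/
noncomputable def subRep (ρ : Representation F P V) (K : Subgroup P) : Representation F K V :=
  ρ.comp K.subtype

@[simp] theorem subRep_apply (ρ : Representation F P V) (K : Subgroup P) (k : K) (v : V) :
    subRep ρ K k v = ρ (k : P) v := rfl

theorem rho_inv_apply (ρ : Representation F P V) (g : P) (v : V) : ρ g⁻¹ (ρ g v) = v := by
  have : ρ g⁻¹ * ρ g = 1 := by rw [← map_mul, inv_mul_cancel, map_one]
  exact LinearMap.congr_fun this v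

theorem rho_apply_inv (ρ : Representation F P V) (g : P) (v : V) : ρ g (ρ g⁻¹ v) = v := by
  have : ρ g * ρ g⁻¹ = 1 := by rw [← map_mul, mul_inv_cancel, map_one]
  exact LinearMap.congr_fun this v

theorem mem_ker_iff (ρ : Representation F P V) (g : P) :
    g ∈ (ρ : P →* Module.End F V).ker ↔ ∀ v, ρ g v = v := by
  rw [MonoidHom.mem_ker]
  constructor
  · intro h v
    rw [h]; rfl
  · intro h
    ext v
    exact h v

/-- derived series of `P` from step one on sits inside the derived series of any subgroup
containing the commutator subgroup -/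
theorem derivedSeries_succ_le_map (K : Subgroup P) (hK : commutator P ≤ K) (j : ℕ) :
    derivedSeries P (j + 1) ≤ (derivedSeries K j).map K.subtype := by
  induction j with
  | zero =>
    rw [derivedSeries_one, derivedSeries_zero, ← MonoidHom.range_eq_map, Subgroup.range_subtype]
    exact hK
  | succ j ih =>
    rw [derivedSeries_succ, derivedSeries_succ (G := K), Subgroup.map_commutator]
    exact Subgroup.commutator_mono ih ih

/-- Maschke: invariant complement. -/
theorem exists_inv_compl [Finite P] (hcard : (Nat.card P : F) ≠ 0) (ρ : Representation F P V)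
    (W : Submodule F V) (hW : Inv ρ W) : ∃ W' : Submodule F V, Inv ρ W' ∧ IsCompl W W' := by
  classical
  let _ : Fintype P := Fintype.ofFinite P
  obtain ⟨U, hU⟩ := Submodule.exists_isCompl W
  set e0 : V →ₗ[F] V := W.subtype ∘ₗ W.projectionOnto U hU with he0
  have he0W : ∀ v, e0 v ∈ W := fun v => (W.projectionOnto U hU v).2
  have he0id : ∀ w ∈ W, e0 w = w := by
    intro w hw
    have := Submodule.projectionOnto_apply_of_mem_left hU hw
    simp only [he0, LinearMap.comp_apply, Submodule.subtype_apply]
    rw [this]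
  set e : V →ₗ[F] V := (Nat.card P : F)⁻¹ • ∑ g : P, ρ g ∘ₗ e0 ∘ₗ ρ g⁻¹ with he
  have heapp : ∀ v, e v = (Nat.card P : F)⁻¹ • ∑ g : P, ρ g (e0 (ρ g⁻¹ v)) := by
    intro v
    simp [he, LinearMap.sum_apply]
  have heW : ∀ v, e v ∈ W := by
    intro v
    rw [heapp]
    exact W.smul_mem _ (W.sum_mem fun g _ => hW g _ (he0W _))
  have heid : ∀ w ∈ W, e w = w := by
    intro w hw
    rw [heapp]
    have h1 : ∀ g : P, ρ g (e0 (ρ g⁻¹ w)) = w := by
      intro g
      rw [he0id _ (hW g⁻¹ w hw)]
      exact rho_apply_inv ρ g w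
    rw [Finset.sum_congr rfl (fun g _ => h1 g), Finset.sum_const, Finset.card_univ,
      ← Nat.cast_smul_eq_nsmul F, smul_smul, Fintype.card_eq_nat_card, inv_mul_cancel₀ hcard,
      one_smul]
  have hecomm : ∀ (h : P) (v : V), e (ρ h v) = ρ h (e v) := by
    intro h v
    rw [heapp, heapp, map_smul, map_sum]
    congr 1
    refine Fintype.sum_equiv (Equiv.mulLeft h⁻¹) _ _ ?_
    intro g
    simp only [Equiv.coe_mulLeft]
    have h1 : ρ (h⁻¹ * g)⁻¹ v = ρ g⁻¹ (ρ h v) := by
      rw [mul_inv_rev, inv_inv, map_mul]; rfl
    have h2 : ρ h (ρ (h⁻¹ * g) (e0 (ρ (h⁻¹ * g)⁻¹ v))) = ρ g (e0 (ρ (h⁻¹ * g)⁻¹ v)) := by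
      rw [← Module.End.mul_apply, ← map_mul, mul_inv_cancel_left]
    rw [h2, h1]
  refine ⟨LinearMap.ker e, ?_, ?_⟩
  · intro g w hw
    rw [LinearMap.mem_ker] at hw ⊢
    rw [hecomm, hw, map_zero]
  · constructor
    · rw [disjoint_iff, eq_bot_iff]
      intro v hv
      obtain ⟨hv1, hv2⟩ := Submodule.mem_inf.mp hv
      rw [LinearMap.mem_ker] at hv2
      rw [Submodule.mem_bot, ← heid v hv1, hv2]
    · rw [codisjoint_iff, eq_top_iff]
      intro v _
      have : v = e v + (v - e v) := by abel
      rw [this]
      refine Submodule.add_mem_sup (heW v) ?_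
      rw [LinearMap.mem_ker, map_sub, heid _ (heW v), sub_self]

/-- Schur: an endomorphism commuting with an irreducible representation over an algebraically
closed field is a scalar. -/
theorem exists_scalar_of_commute [IsAlgClosed F] [FiniteDimensional F V] [Nontrivial V]
    (ρ : Representation F P V) (hirr : ∀ W : Submodule F V, Inv ρ W → W = ⊥ ∨ W = ⊤)
    (c : Module.End F V) (hc : ∀ g : P, c * ρ g = ρ g * c) : ∃ μ : F, ∀ v, c v = μ • v := by
  obtain ⟨μ, hμ⟩ := Module.End.exists_eigenvalue c
  refine ⟨μ, ?_⟩
  have hinv : Inv ρ (Module.End.eigenspace c μ) := by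
    intro g w hw
    rw [Module.End.mem_eigenspace_iff] at hw ⊢
    have : c (ρ g w) = ρ g (c w) := by
      rw [← Module.End.mul_apply, hc g, Module.End.mul_apply]
    rw [this, hw, map_smul]
  rcases hirr _ hinv with h | h
  · exact absurd h hμ
  · intro v
    have hv : v ∈ Module.End.eigenspace c μ := by rw [h]; exact Submodule.mem_top
    exact Module.End.mem_eigenspace_iff.mp hv

/-- an endomorphism of finite order prime to the characteristic is diagonalizable -/
theorem iSup_eigenspace_eq_top_of_pow_eq_one [IsAlgClosed F] [FiniteDimensional F V]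
    (T : Module.End F V) (m : ℕ) (hm : (m : F) ≠ 0) (hT : T ^ m = 1) :
    ⨆ μ : F, Module.End.eigenspace T μ = ⊤ := by
  have hsep : (Polynomial.X ^ m - Polynomial.C (1 : F)).Separable :=
    Polynomial.separable_X_pow_sub_C (1 : F) hm one_ne_zero
  have hss : T.IsSemisimple := by
    refine Module.End.isSemisimple_of_squarefree_aeval_eq_zero hsep.squarefree ?_
    simp [hT]
  exact hss.iSup_eigenspace_eq_top

/-- finrank of a finite sup of an independent family is the sum of the finranks -/
theorem finrank_biSup_of_iSupIndep [FiniteDimensional F V] {ι : Type*} [DecidableEq ι]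
    (W : ι → Submodule F V) (hW : iSupIndep W) (s : Finset ι) :
    finrank F ↥(⨆ i ∈ s, W i) = ∑ i ∈ s, finrank F (W i) := by
  induction s using Finset.induction_on with
  | empty => simp
  | insert a s ha ih =>
    rw [Finset.sum_insert ha, ← ih, Finset.iSup_insert]
    have hdis : Disjoint (W a) (⨆ i ∈ s, W i) := by
      have := hW.disjoint_biSup (x := a) (y := (s : Set ι)) (by simpa using ha)
      simpa using this
    have h1 := Submodule.finrank_sup_add_finrank_inf_eq (W a) (⨆ i ∈ s, W i)
    rw [disjoint_iff.mp hdis, finrank_bot, add_zero] at h1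
    exact h1

end basic

section coprime

variable {F : Type v} [Field F] [IsAlgClosed F]

/-- the irreducible nonabelian step: data -/
theorem exists_central_step {P : Type u} [Group P] [Finite P] {p : ℕ} [hp : Fact p.Prime]
    (hP : IsPGroup p P) {V : Type w} [AddCommGroup V] [Module F V] [FiniteDimensional F V]
    [Nontrivial V] (ρ : Representation F P V)
    (hirr : ∀ W : Submodule F V, Inv ρ W → W = ⊥ ∨ W = ⊤)
    (hnc : ¬ commutator P ≤ (ρ : P →* Module.End F V).ker) :
    ∃ (x : P) (ψ : P →* F), (∀ g : P, ρ x * ρ g = ψ g • (ρ g * ρ x)) ∧ ∃ g : P, ψ g ≠ 1 := by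
  classical
  -- the subgroup of elements acting centrally
  let Z1 : Subgroup P :=
    { carrier := {z | ∀ g : P, ρ z * ρ g = ρ g * ρ z}
      one_mem' := by intro g; simp
      mul_mem' := by
        intro a b ha hb g
        simp only [Set.mem_ofPred_eq] at ha hb ⊢
        rw [map_mul, mul_assoc, hb g, ← mul_assoc, ha g, mul_assoc]
      inv_mem' := by
        intro a ha g
        simp only [Set.mem_ofPred_eq] at ha ⊢
        have h1 : ρ a⁻¹ * ρ a = 1 := by rw [← map_mul, inv_mul_cancel, map_one]
        have h2 : ρ a * ρ a⁻¹ = 1 := by rw [← map_mul, mul_inv_cancel, map_one]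
        calc ρ a⁻¹ * ρ g = ρ a⁻¹ * ρ g * (ρ a * ρ a⁻¹) := by rw [h2, mul_one]
          _ = ρ a⁻¹ * (ρ g * ρ a) * ρ a⁻¹ := by simp only [mul_assoc]
          _ = ρ a⁻¹ * (ρ a * ρ g) * ρ a⁻¹ := by rw [ha g]
          _ = (ρ a⁻¹ * ρ a) * ρ g * ρ a⁻¹ := by simp only [mul_assoc]
          _ = ρ g * ρ a⁻¹ := by rw [h1, one_mul] }
  have hZ1mem : ∀ z : P, z ∈ Z1 ↔ ∀ g : P, ρ z * ρ g = ρ g * ρ z := fun z => Iff.rfl
  have hZ1n : Z1.Normal := by
    constructor
    intro z hz h
    rw [hZ1mem] at hz ⊢
    intro g
    have h1 : ρ (h * z * h⁻¹) = ρ z := by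
      rw [map_mul, map_mul, ← hz h, mul_assoc, ← map_mul, mul_inv_cancel, map_one, mul_one]
    rw [h1]
    exact hz g
  have hZ1top : Z1 ≠ ⊤ := by
    intro htop
    apply hnc
    rw [commutator_def, Subgroup.commutator_le]
    intro a _ b _
    rw [MonoidHom.mem_ker]
    have ha : a ∈ Z1 := by rw [htop]; exact Subgroup.mem_top a
    have hab : ρ a * ρ b = ρ b * ρ a := (hZ1mem a).mp ha b
    have hb1 : ρ b * ρ b⁻¹ = 1 := by rw [← map_mul, mul_inv_cancel, map_one]
    have ha1 : ρ a * ρ a⁻¹ = 1 := by rw [← map_mul, mul_inv_cancel, map_one]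
    show ρ (a * b * a⁻¹ * b⁻¹) = 1
    rw [map_mul, map_mul, map_mul, hab, mul_assoc (ρ b), ha1, mul_one, hb1]
  -- the quotient is a nontrivial p-group
  haveI : Nontrivial (P ⧸ Z1) := by
    rw [← not_subsingleton_iff_nontrivial]
    intro hsub
    apply hZ1top
    rw [eq_top_iff]
    intro a _
    rw [← QuotientGroup.eq_one_iff]
    exact Subsingleton.elim _ _
  have hPq : IsPGroup p (P ⧸ Z1) := hP.to_quotient Z1
  have hcn : Nontrivial (Subgroup.center (P ⧸ Z1)) := hPq.center_nontrivial
  obtain ⟨⟨xbar, hxc⟩, hxne⟩ := exists_ne (1 : Subgroup.center (P ⧸ Z1))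
  obtain ⟨x, rfl⟩ := QuotientGroup.mk_surjective xbar
  have hxZ : x ∉ Z1 := by
    intro hx
    apply hxne
    apply Subtype.ext
    exact (QuotientGroup.eq_one_iff x).mpr hx
  -- the central commutators
  have hcomm : ∀ g : P, x * g * x⁻¹ * g⁻¹ ∈ Z1 := by
    intro g
    rw [← QuotientGroup.eq_one_iff]
    have := (Subgroup.mem_center_iff.mp hxc) (g : P ⧸ Z1)
    -- this : ↑g * ↑x = ↑x * ↑g
    rw [QuotientGroup.mk_mul, QuotientGroup.mk_mul, QuotientGroup.mk_mul, QuotientGroup.mk_inv,
      QuotientGroup.mk_inv, ← this]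
    group
  -- scalars
  have hsc : ∀ g : P, ∃ μ : F, ∀ v, ρ (x * g * x⁻¹ * g⁻¹) v = μ • v := by
    intro g
    exact exists_scalar_of_commute ρ hirr _ ((hZ1mem _).mp (hcomm g))
  choose ψ hψ using hsc
  have hrel : ∀ g : P, ρ x * ρ g = ψ g • (ρ g * ρ x) := by
    intro g
    ext v
    have h1 := hψ g (ρ g (ρ x v))
    have h2 : ρ (x * g * x⁻¹ * g⁻¹) (ρ g (ρ x v)) = ρ x (ρ g v) := by
      rw [← Module.End.mul_apply, ← Module.End.mul_apply, ← map_mul, ← map_mul]
      rw [show x * g * x⁻¹ * g⁻¹ * g * x = x * g by group, map_mul]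
      rfl
    rw [h2] at h1
    simpa using h1
  -- cancellation of scalars against invertible operators
  have hcancel : ∀ (a : P) (c : F), c • ρ a = 0 → c = 0 := by
    intro a c hc
    obtain ⟨v, hv⟩ := exists_ne (0 : V)
    have h1 : c • ρ a v = 0 := by
      have := LinearMap.congr_fun hc v
      simpa using this
    rcases smul_eq_zero.mp h1 with h | h
    · exact h
    · exfalso
      apply hv
      have := congrArg (ρ a⁻¹) h
      rwa [rho_inv_apply, map_zero] at this
  have hψ1 : ψ 1 = 1 := by
    have h1 := hrel 1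
    rw [map_one, mul_one, one_mul] at h1
    have h2 : (1 - ψ 1) • ρ x = 0 := by
      rw [sub_smul, one_smul, ← h1, sub_self]
    have := hcancel x _ h2
    exact (sub_eq_zero.mp this).symm
  have hψmul : ∀ g h : P, ψ (g * h) = ψ g * ψ h := by
    intro g h
    have h1 : ρ x * ρ (g * h) = (ψ g * ψ h) • (ρ (g * h) * ρ x) := by
      rw [map_mul, ← mul_assoc, hrel g, smul_mul_assoc, mul_assoc, hrel h, mul_smul_comm,
        smul_smul, mul_assoc]
    have h2 := hrel (g * h)
    rw [h1] at h2
    have h3 : (ψ g * ψ h - ψ (g * h)) • ρ (g * h * x) = 0 := by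
      rw [sub_smul, map_mul (ρ) (g * h) x, h2, sub_self]
    have := hcancel _ _ h3
    exact (sub_eq_zero.mp this).symm
  refine ⟨x, ⟨⟨ψ, hψ1⟩, hψmul⟩, hrel, ?_⟩
  by_contra hall
  push Not at hall
  apply hxZ
  rw [hZ1mem]
  intro g
  have := hrel g
  rw [show ψ g = 1 from hall g, one_smul] at this
  exact this

omit [IsAlgClosed F] in
/-- the eigenspaces of the twisting element have small dimension -/
theorem eigenspace_finrank_bound {P : Type u} [Group P] [Finite P] {p : ℕ} [hp : Fact p.Prime]
    (hP : IsPGroup p P) {V : Type w} [AddCommGroup V] [Module F V] [FiniteDimensional F V]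
    (ρ : Representation F P V) (x : P) (ψ : P →* F)
    (hrel : ∀ g : P, ρ x * ρ g = ψ g • (ρ g * ρ x)) (g0 : P) (hg0 : ψ g0 ≠ 1) (μ : F) :
    p * finrank F (Module.End.eigenspace (ρ x) μ) ≤ finrank F V := by
  classical
  set T := ρ x with hT
  by_cases hμ : μ = 0
  · have : Module.End.eigenspace T μ = ⊥ := by
      rw [eq_bot_iff]
      intro v hv
      rw [Module.End.mem_eigenspace_iff, hμ, zero_smul] at hv
      rw [Submodule.mem_bot]
      have := congrArg (ρ x⁻¹) hv
      rwa [rho_inv_apply, map_zero] at this
    rw [this, finrank_bot, mul_zero]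
    exact Nat.zero_le _
  set s := ψ g0 with hs
  have hspow : s ^ Nat.card P = 1 := by
    rw [hs, ← map_pow, pow_card_eq_one', map_one]
  obtain ⟨k, hk⟩ := hP.exists_card_eq
  have hord : orderOf s ∣ p ^ k := hk ▸ orderOf_dvd_of_pow_eq_one hspow
  obtain ⟨j, hjk, hj⟩ := (Nat.dvd_prime_pow hp.out).mp hord
  have hj0 : j ≠ 0 := by
    intro h0
    rw [h0, pow_zero, orderOf_eq_one_iff] at hj
    exact hg0 hj
  have hple : p ≤ orderOf s := by
    rw [hj]
    calc p = p ^ 1 := (pow_one p).symm
      _ ≤ p ^ j := Nat.pow_le_pow_right hp.out.pos (Nat.one_le_iff_ne_zero.mpr hj0)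
  -- the operators map eigenspaces to eigenspaces
  have hmaps : ∀ (h : P) (ν : F) (v : V), v ∈ Module.End.eigenspace T ν →
      ρ h v ∈ Module.End.eigenspace T (ψ h * ν) := by
    intro h ν v hv
    rw [Module.End.mem_eigenspace_iff] at hv ⊢
    have h1 : T (ρ h v) = ψ h • ρ h (T v) := by
      have := LinearMap.congr_fun (hrel h) v
      simpa using this
    rw [h1, hv, map_smul, smul_smul]
  have hle : ∀ i : ℕ, finrank F (Module.End.eigenspace T μ) ≤
      finrank F (Module.End.eigenspace T (s ^ i * μ)) := by
    intro i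
    have hm : ∀ v ∈ Module.End.eigenspace T μ, ρ (g0 ^ i) v ∈
        Module.End.eigenspace T (s ^ i * μ) := by
      intro v hv
      have := hmaps (g0 ^ i) μ v hv
      rwa [map_pow] at this
    refine LinearMap.finrank_le_finrank_of_injective (f := (ρ (g0 ^ i)).restrict hm) ?_
    intro a b hab
    have h1 : ρ (g0 ^ i) (a : V) = ρ (g0 ^ i) (b : V) := congrArg Subtype.val hab
    have h2 := congrArg (ρ (g0 ^ i)⁻¹) h1
    rw [rho_inv_apply, rho_inv_apply] at h2
    exact Subtype.ext h2
  have hinj : Set.InjOn (fun i : ℕ => s ^ i * μ) (Finset.range p : Set ℕ) := by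
    intro a ha b hb hab
    have h1 : s ^ a = s ^ b := mul_right_cancel₀ hμ hab
    have ha' : a < orderOf s := lt_of_lt_of_le (Finset.mem_range.mp ha) hple
    have hb' : b < orderOf s := lt_of_lt_of_le (Finset.mem_range.mp hb) hple
    exact pow_injOn_Iio_orderOf ha' hb' h1
  have hsum := finrank_biSup_of_iSupIndep (Module.End.eigenspace T)
    (Module.End.eigenspaces_iSupIndep T) ((Finset.range p).image fun i : ℕ => s ^ i * μ)
  rw [Finset.sum_image hinj] at hsum
  calc p * finrank F (Module.End.eigenspace T μ)
      = ∑ _i ∈ Finset.range p, finrank F (Module.End.eigenspace T μ) := by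
        rw [Finset.sum_const, Finset.card_range, smul_eq_mul]
    _ ≤ ∑ i ∈ Finset.range p, finrank F (Module.End.eigenspace T (s ^ i * μ)) :=
        Finset.sum_le_sum fun i _ => hle i
    _ = finrank F ↥(⨆ ν ∈ (Finset.range p).image fun i : ℕ => s ^ i * μ,
          Module.End.eigenspace T ν) := hsum.symm
    _ ≤ finrank F V := Submodule.finrank_le _

/-- **Main theorem, coprime characteristic**: the `(log_p n + 1)`-st derived subgroup of a finite
`p`-group acts trivially in every `n`-dimensional representation over an algebraically closed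
field of characteristic different from `p`. -/
theorem coprime_main (p : ℕ) [hp : Fact p.Prime] (hpF : (p : F) ≠ 0) :
    ∀ n : ℕ, ∀ (P : Type u) [Group P] [Finite P], IsPGroup p P →
      ∀ (V : Type w) [AddCommGroup V] [Module F V] [FiniteDimensional F V]
        (ρ : Representation F P V), finrank F V = n →
        derivedSeries P (Nat.log p n + 1) ≤ (ρ : P →* Module.End F V).ker := by
  intro n
  induction n using Nat.strong_induction_on with
  | _ n ih =>
  intro P _ _ hP V _ _ _ ρ hn
  classical
  -- dimension zero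
  rcases Nat.eq_zero_or_pos n with hn0 | hnpos
  · have hsub : Subsingleton V := by
      rw [← finrank_zero_iff (R := F), hn, hn0]
    intro g _
    rw [mem_ker_iff]
    intro v
    exact Subsingleton.elim _ _
  have hnt : Nontrivial V := by
    rw [← finrank_pos_iff (R := F), hn]
    exact hnpos
  obtain ⟨k, hk⟩ := hP.exists_card_eq
  have hcard : (Nat.card P : F) ≠ 0 := by
    rw [hk, Nat.cast_pow]
    exact pow_ne_zero _ hpF
  by_cases hirr : ∀ W : Submodule F V, Inv ρ W → W = ⊥ ∨ W = ⊤
  · -- irreducible
    by_cases hnc : commutator P ≤ (ρ : P →* Module.End F V).ker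
    · refine le_trans (derivedSeries_antitone (G := P) (Nat.le_add_left 1 _)) ?_
      rw [derivedSeries_one]
      exact hnc
    · obtain ⟨x, ψ, hrel, g0, hg0⟩ := exists_central_step hP ρ hirr hnc
      set T := ρ x with hT
      set K : Subgroup P := ψ.ker with hK
      have hKc : commutator P ≤ K := by
        rw [commutator_def, Subgroup.commutator_le]
        intro a _ b _
        rw [hK, MonoidHom.mem_ker]
        show ψ (a * b * a⁻¹ * b⁻¹) = 1
        rw [map_mul, map_mul, map_mul, mul_comm (ψ a) (ψ b), mul_assoc (ψ b), ← map_mul,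
          mul_inv_cancel, map_one, mul_one, ← map_mul, mul_inv_cancel, map_one]
      have hbound : ∀ μ : F, p * finrank F (Module.End.eigenspace T μ) ≤ n := by
        intro μ
        rw [← hn]
        exact eigenspace_finrank_bound hP ρ x ψ hrel g0 hg0 μ
      -- diagonalizability
      have hTpow : T ^ Nat.card P = 1 := by
        rw [hT, ← map_pow, pow_card_eq_one', map_one]
      have htop : ⨆ μ : F, Module.End.eigenspace T μ = ⊤ :=
        iSup_eigenspace_eq_top_of_pow_eq_one T (Nat.card P) hcard hTpow
      -- `n ≥ p`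
      have hpn : p ≤ n := by
        by_contra hlt
        push Not at hlt
        have hall : ∀ μ : F, Module.End.eigenspace T μ = ⊥ := by
          intro μ
          have h1 := hbound μ
          have h2 : finrank F (Module.End.eigenspace T μ) = 0 := by
            by_contra h0
            have : p * 1 ≤ p * finrank F (Module.End.eigenspace T μ) :=
              Nat.mul_le_mul_left p (Nat.one_le_iff_ne_zero.mpr h0)
            omega
          exact Submodule.finrank_eq_zero.mp h2
        have : (⊤ : Submodule F V) = ⊥ := by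
          rw [← htop]
          simp [hall]
        exact top_ne_bot this
      have hlogpos : 1 ≤ Nat.log p n := Nat.log_pos hp.out.one_lt hpn
      -- the subgroup `K` acts on the eigenspaces
      have hKinv : ∀ μ : F, Inv (subRep ρ K) (Module.End.eigenspace T μ) := by
        intro μ k v hv
        rw [Module.End.mem_eigenspace_iff] at hv ⊢
        have hk1 : ψ (k : P) = 1 := MonoidHom.mem_ker.mp k.2
        have h1 : T (ρ (k : P) v) = ρ (k : P) (T v) := by
          have := LinearMap.congr_fun (hrel (k : P)) v
          rw [hk1, one_smul] at this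
          exact this
        rw [subRep_apply, h1, hv, map_smul]
      have hKp : IsPGroup p K := hP.to_subgroup K
      have hstep : ∀ μ : F, derivedSeries K (Nat.log p n) ≤
          (resRep (subRep ρ K) _ (hKinv μ) : K →* Module.End F _).ker := by
        intro μ
        set d := finrank F (Module.End.eigenspace T μ) with hd
        have hdn : d < n := by
          have h1 := hbound μ
          have h2 : 2 ≤ p := hp.out.two_le
          nlinarith
        have h1 := ih d hdn K hKp (Module.End.eigenspace T μ) (resRep (subRep ρ K) _ (hKinv μ)) rfl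
        refine le_trans (derivedSeries_antitone (G := K) ?_) h1
        -- `log_p d + 1 ≤ log_p n`
        rcases Nat.eq_zero_or_pos d with hd0 | hdpos
        · rw [hd0, Nat.log_zero_right]
          exact hlogpos
        · have h2 : d ≤ n / p := by
            rw [Nat.le_div_iff_mul_le hp.out.pos, mul_comm]
            exact hbound μ
          have h3 : Nat.log p d ≤ Nat.log p (n / p) := Nat.log_mono_right h2
          rw [Nat.log_div_base] at h3
          omega
      -- assemble
      refine le_trans (derivedSeries_succ_le_map K hKc (Nat.log p n)) ?_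
      rintro _ ⟨k, hk, rfl⟩
      rw [mem_ker_iff]
      intro v
      have hv : v ∈ ⨆ μ : F, Module.End.eigenspace T μ := by rw [htop]; exact Submodule.mem_top
      refine Submodule.iSup_induction (fun μ => Module.End.eigenspace T μ)
        (motive := fun v => ρ (K.subtype k) v = v) hv ?_ ?_ ?_
      · intro μ w hw
        have h1 := hstep μ hk
        rw [mem_ker_iff] at h1
        have h2 := h1 ⟨w, hw⟩
        exact congrArg Subtype.val h2
      · simp
      · intro a b ha hb
        rw [map_add, ha, hb]
  · -- reducible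
    push Not at hirr
    obtain ⟨W, hW, hWbot, hWtop⟩ := hirr
    obtain ⟨W', hW', hcompl⟩ := exists_inv_compl hcard ρ W hW
    have hdim : finrank F W + finrank F W' = n := by
      rw [← hn]
      exact Submodule.finrank_add_eq_of_isCompl hcompl
    have hWpos : 0 < finrank F W := by
      rw [Nat.pos_iff_ne_zero, Ne, Submodule.finrank_eq_zero]
      exact hWbot
    have hW'pos : 0 < finrank F W' := by
      rw [Nat.pos_iff_ne_zero, Ne, Submodule.finrank_eq_zero]
      intro h0
      apply hWtop
      have := hcompl.sup_eq_top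
      rwa [h0, sup_bot_eq] at this
    have h1 := ih (finrank F W) (by omega) P hP W (resRep ρ W hW) rfl
    have h2 := ih (finrank F W') (by omega) P hP W' (resRep ρ W' hW') rfl
    have hm1 : Nat.log p (finrank F W) + 1 ≤ Nat.log p n + 1 :=
      Nat.add_le_add_right (Nat.log_mono_right (by omega)) 1
    have hm2 : Nat.log p (finrank F W') + 1 ≤ Nat.log p n + 1 :=
      Nat.add_le_add_right (Nat.log_mono_right (by omega)) 1
    intro g hg
    have hg1 := h1 (derivedSeries_antitone (G := P) hm1 hg)
    have hg2 := h2 (derivedSeries_antitone (G := P) hm2 hg)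
    rw [mem_ker_iff] at hg1 hg2 ⊢
    intro v
    have hv : v ∈ W ⊔ W' := by rw [hcompl.sup_eq_top]; exact Submodule.mem_top
    obtain ⟨a, ha, b, hb, rfl⟩ := Submodule.mem_sup.mp hv
    rw [map_add]
    have ha' := congrArg Subtype.val (hg1 ⟨a, ha⟩)
    have hb' := congrArg Subtype.val (hg2 ⟨b, hb⟩)
    simp only [resRep_apply] at ha' hb'
    rw [ha', hb']

end coprime

section charp

variable {F : Type v} [Field F] {P : Type u} [Group P] {V : Type w} [AddCommGroup V] [Module F V]

/-- the quotient representation -/
noncomputable def quotRep (ρ : Representation F P V) (W : Submodule F V) (hW : Inv ρ W) :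
    Representation F P (V ⧸ W) where
  toFun g := W.mapQ W (ρ g) (fun w hw => hW g w hw)
  map_one' := by
    ext v
    simp
  map_mul' g h := by
    ext v
    simp

@[simp] theorem quotRep_mk (ρ : Representation F P V) (W : Submodule F V) (hW : Inv ρ W) (g : P)
    (v : V) : quotRep ρ W hW g (Submodule.Quotient.mk v) = Submodule.Quotient.mk (ρ g v) := rfl

/-- invariant subspaces of every dimension (a `p`-group in characteristic `p`) -/
theorem exists_inv_finrank_eq (p : ℕ) [hp : Fact p.Prime] [CharP F p] :
    ∀ m : ℕ, ∀ (P : Type u) [Group P] [Finite P], IsPGroup p P →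
      ∀ (V : Type w) [AddCommGroup V] [Module F V] [FiniteDimensional F V]
        (ρ : Representation F P V), m ≤ finrank F V →
        ∃ W : Submodule F V, Inv ρ W ∧ finrank F W = m := by
  intro m
  induction m with
  | zero =>
    intro P _ _ hP V _ _ _ ρ _
    exact ⟨⊥, fun g w hw => by rw [Submodule.mem_bot] at hw ⊢; rw [hw, map_zero], finrank_bot F V⟩
  | succ m ih =>
    intro P _ _ hP V _ _ _ ρ hm
    have hne : (⊤ : Submodule F V) ≠ ⊥ := by
      intro h
      have h1 : finrank F V = 0 := by
        rw [← finrank_top F V, h, finrank_bot]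
      omega
    obtain ⟨v, -, hv0, hvfix⟩ := Cfsg.Agent.Lib.Helper5.PFix.exists_ne_zero_fixed_mem p hP ρ ⊤
      (fun _ _ _ => Submodule.mem_top) hne
    set L : Submodule F V := Submodule.span F {v} with hL
    have hLinv : Inv ρ L := by
      intro g w hw
      rw [hL, Submodule.mem_span_singleton] at hw ⊢
      obtain ⟨c, rfl⟩ := hw
      exact ⟨c, by rw [map_smul, hvfix g]⟩
    have hLdim : finrank F L = 1 := finrank_span_singleton hv0
    have hqdim : finrank F (V ⧸ L) = finrank F V - 1 := by
      have := Submodule.finrank_quotient_add_finrank L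
      omega
    obtain ⟨Wbar, hWbar, hWbardim⟩ := ih P hP (V ⧸ L) (quotRep ρ L hLinv) (by omega)
    refine ⟨Wbar.comap L.mkQ, ?_, ?_⟩
    · intro g w hw
      rw [Submodule.mem_comap] at hw ⊢
      have := hWbar g _ hw
      simpa using this
    · set T : Submodule F V := Wbar.comap L.mkQ with hT
      have hLT : L ≤ T := by
        intro w hw
        rw [hT, Submodule.mem_comap, Submodule.mkQ_apply, (Submodule.Quotient.mk_eq_zero L).mpr hw]
        exact Wbar.zero_mem
      have h1 := LinearMap.finrank_range_add_finrank_ker (L.mkQ.domRestrict T)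
      rw [LinearMap.range_domRestrict, LinearMap.ker_domRestrict, Submodule.ker_mkQ, hT,
        Submodule.map_comap_eq_of_surjective (Submodule.mkQ_surjective L), ← hT,
        LinearEquiv.finrank_eq (Submodule.comapSubtypeEquivOfLe hLT), hWbardim, hLdim] at h1
      exact h1.symm

/-- **Main theorem, defining characteristic**: the `⌈log₂ n⌉`-th derived subgroup of a finite
`p`-group acts trivially in every `n`-dimensional representation in characteristic `p`. -/
theorem charp_main (p : ℕ) [hp : Fact p.Prime] [CharP F p] :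
    ∀ n : ℕ, ∀ (P : Type u) [Group P] [Finite P], IsPGroup p P →
      ∀ (V : Type w) [AddCommGroup V] [Module F V] [FiniteDimensional F V]
        (ρ : Representation F P V), finrank F V = n →
        derivedSeries P (Nat.clog 2 n) ≤ (ρ : P →* Module.End F V).ker := by
  intro n
  induction n using Nat.strong_induction_on with
  | _ n ih =>
  intro P _ _ hP V _ _ _ ρ hn
  classical
  rcases Nat.lt_or_ge n 2 with hn2 | hn2
  · -- dimension at most one: trivial action
    intro g _
    rw [mem_ker_iff]
    intro v
    rcases Nat.eq_zero_or_pos n with hn0 | hnpos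
    · have hsub : Subsingleton V := by
        rw [← finrank_zero_iff (R := F), hn, hn0]
      exact Subsingleton.elim _ _
    · have hn1 : finrank F V = 1 := by omega
      have hne : (⊤ : Submodule F V) ≠ ⊥ := by
        intro h
        have h1 : finrank F V = 0 := by
          rw [← finrank_top F V, h, finrank_bot]
        omega
      obtain ⟨v0, -, hv0, hvfix⟩ := Cfsg.Agent.Lib.Helper5.PFix.exists_ne_zero_fixed_mem p hP ρ ⊤
        (fun _ _ _ => Submodule.mem_top) hne
      obtain ⟨c, rfl⟩ := (finrank_eq_one_iff_of_nonzero' v0 hv0).mp hn1 v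
      rw [map_smul, hvfix g]
  · -- halving
    set m := (n + 1) / 2 with hm
    have hmn : m ≤ finrank F V := by rw [hn]; omega
    obtain ⟨W, hW, hWdim⟩ := exists_inv_finrank_eq (F := F) p m P hP V ρ hmn
    have hqdim : finrank F (V ⧸ W) = n - m := by
      have := Submodule.finrank_quotient_add_finrank W
      omega
    have h1 := ih m (by omega) P hP W (resRep ρ W hW) hWdim
    have h2 := ih (n - m) (by omega) P hP (V ⧸ W) (quotRep ρ W hW) hqdim
    have hmono : Nat.clog 2 (n - m) ≤ Nat.clog 2 m := Nat.clog_mono_right 2 (by omega)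
    have hclog : Nat.clog 2 n = Nat.clog 2 m + 1 := by
      rw [Nat.clog_of_two_le (by norm_num) hn2]
      have : (n + 2 - 1) / 2 = m := by rw [hm]; congr 1
      rw [this]
    rw [hclog, derivedSeries_succ, Subgroup.commutator_le]
    intro a ha b hb
    have ha1 := h1 ha
    have hb1 := h1 hb
    have ha2 := h2 (derivedSeries_antitone (G := P) hmono ha)
    have hb2 := h2 (derivedSeries_antitone (G := P) hmono hb)
    rw [mem_ker_iff] at ha1 hb1 ha2 hb2
    -- consequences
    have hfixW : ∀ c : P, (∀ w : W, resRep ρ W hW c w = w) → ∀ w ∈ W, ρ c w = w := by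
      intro c hc w hw
      exact congrArg Subtype.val (hc ⟨w, hw⟩)
    have hsubW : ∀ c : P, (∀ q : V ⧸ W, quotRep ρ W hW c q = q) → ∀ v : V, ρ c v - v ∈ W := by
      intro c hc v
      have := hc (Submodule.Quotient.mk v)
      rw [quotRep_mk] at this
      exact (Submodule.Quotient.eq W).mp this
    have hcomm : ρ a * ρ b = ρ b * ρ a := by
      ext v
      simp only [Module.End.mul_apply]
      have e1 : ρ a (ρ b v) = ρ a v + (ρ b v - v) := by
        have : ρ b v = v + (ρ b v - v) := by abel
        conv_lhs => rw [this]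
        rw [map_add, hfixW a ha1 _ (hsubW b hb2 v)]
      have e2 : ρ b (ρ a v) = ρ b v + (ρ a v - v) := by
        have : ρ a v = v + (ρ a v - v) := by abel
        conv_lhs => rw [this]
        rw [map_add, hfixW b hb1 _ (hsubW a ha2 v)]
      rw [e1, e2]
      abel
    rw [MonoidHom.mem_ker]
    show ρ (a * b * a⁻¹ * b⁻¹) = 1
    have hb' : ρ b * ρ b⁻¹ = 1 := by rw [← map_mul, mul_inv_cancel, map_one]
    have ha' : ρ a * ρ a⁻¹ = 1 := by rw [← map_mul, mul_inv_cancel, map_one]
    rw [map_mul, map_mul, map_mul, hcomm, mul_assoc (ρ b), ha', mul_one, hb']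

end charp

end Cfsg.Agent.Lib.Helper24.LinPGroup
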