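/-
helper24: S2282, `n = 2m+1 ≥ 5`, standard model: helper13's abstract assembly `SU5.core5` glued to the
endgame `SUEnRed.endgame_lines`: under the hypotheses of `core5` plus the `perp` condition of the Witt
system (only the zero vector is perpendicular to all `e i, f i, d`) the subgroup `X` is everything.
-/
import Mathlib
import Cfsg.Agent.Lib.Helper13.SU5Asm
import Cfsg.Agent.Lib.Helper24.SUEnAsm

set_option autoImplicit false
set_option linter.unusedSectionVars false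
set_option linter.unusedVariables false
set_option linter.unusedSimpArgs false

namespace Cfsg.Agent.Lib.Helper24.SU5Top

open Cfsg Matrix Cfsg.Agent.Lib.Helper5.SUGen Cfsg.Agent.Lib.Helper5.HermBridge
  Cfsg.Agent.Lib.Helper5.UForm Cfsg.Agent.Lib.Helper6.SUApi

variable {F : Type*} [Field F] [Fintype F] {q n : ℕ}

/-- **`n ≥ 5`, abstract form**: the hypotheses of helper13's `core5` + `perp` give `X = ⊤` -/
theorem top5 (hF : Fintype.card F = q ^ 2) (hn : 3 ≤ n) (h32 : ¬ (n = 3 ∧ q = 2))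
    {m : ℕ} (hm : 2 ≤ m) {X : Subgroup ↥(Cfsg.SU n F q)}
    {e f : Fin m → (Fin n → F)} {d : Fin n → F}
    (hW : Cfsg.Agent.Lib.Helper13.SU5.Witt q m e f d)
    (hperp : ∀ x : Fin n → F, (∀ i, Cfsg.hermForm n F q x (e i) = 0) →
      (∀ i, Cfsg.hermForm n F q x (f i) = 0) → Cfsg.hermForm n F q x d = 0 → x = 0)
    {u w : ↥(Cfsg.SU n F q)} (hu : u ∈ X) (hw : w ∈ X)
    (hue : ∀ i j : Fin m, j.val = i.val + 1 → av u (e i - e j) = -e j)
    (hwe : ∀ i j : Fin m, j.val = i.val + 1 → av w (e i) = e i - e j)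
    (huf : ∀ i j : Fin m, j.val = i.val + 1 → av u (f i) = f i - f j)
    (hwf : ∀ i j : Fin m, j.val = i.val + 1 → av w (f j - f i) = f j)
    {α β ε : F} (hα : α ≠ 0) (hαβ : β + β ^ q + α * α ^ q = 0) (hβ : β ^ q ≠ β)
    (hwl : ∀ il : Fin m, il.val + 1 = m →
      av w⁻¹ (e il) = e il + (ε * α ^ q) • d + β ^ q • f il)
    (hwp : ∀ ip il : Fin m, il.val = ip.val + 1 → il.val + 1 = m →
      av w⁻¹ (e ip) = e ip + (e il + (ε * α ^ q) • d + β ^ q • f il))
    (hul : ∀ ip il : Fin m, il.val = ip.val + 1 → il.val + 1 = m →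
      av u⁻¹ (e il) = e il - e ip ∧ av u⁻¹ d = d - α • e il ∧
        av u⁻¹ (f il) = f il + α ^ q • d + β ^ q • e il)
    {ζ g0 : F} (hζ : ∀ y : F, y ≠ 0 → y ^ q = y → ∃ k : ℕ, y = ζ ^ (k + 1))
    (hg0 : (β - β ^ q) * g0 = ζ) (hg0s : g0 ^ q = -g0)
    (hT : ∀ i0 : Fin m, i0.val = 0 → Tu hF (e i0) g0 ∈ X) : X = ⊤ := by
  obtain ⟨he, hf, -, hee, hlast⟩ :=
    Cfsg.Agent.Lib.Helper13.SU5.core5 hF hm hW hu hw hue hwe huf hwf hα hαβ hβ hwl hwp hul hζ hg0
      hg0s hT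
  have W : Cfsg.Agent.Lib.Helper24.SUEnRed.WS q e f d :=
    ⟨hW.ee, hW.ff, hW.ef, hW.ed, hW.fd, hW.dd, hperp⟩
  exact Cfsg.Agent.Lib.Helper24.SUEnRed.endgame_lines hF hn h32 (by omega) W he hf hee
    (hlast ⟨m - 1, by omega⟩ (by show m - 1 + 1 = m; omega))

end Cfsg.Agent.Lib.Helper24.SU5Top
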