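/- helper24: B&G 15.3 (S1438), first part: for a nontrivial Hall subgroup H of M_sigma, C_M(H) = C_{M_sigma}(H) X with X a cyclic tau2(M)-group. Inputs: S1350, S1403, S1417, S1430, S1431(c), helper2 kappa_or_tau2, helper19 tau2_subgroup_comm. -/
import Mathlib
import Cfsg.Agent.Lib.Helper1.BGKap2
import Cfsg.Agent.Lib.Helper19.BG1210
import Cfsg.Agent.Lib.Helper23.BGY4
import Cfsg.Agent.S1350
import Cfsg.Agent.S1403
import Cfsg.Agent.S1417
import Cfsg.Agent.S1430
import Cfsg.Agent.S1431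

set_option autoImplicit false
set_option linter.style.haveILetI false
set_option linter.unusedSectionVars false
open scoped commutatorElement

namespace Cfsg.Agent.Lib.Helper24.BG153

open Cfsg.Agent.Lib.Helper2.BGCor (sigmaCore_le primes_card_sigmaCore T125 kappa_or_tau2
  exists_conj_le_compl exists_compl_sigmaCore exists_hall_ge)
open Cfsg.Agent.Lib.Helper1.BGX (comm_of_isMulCommutative isMulCommutative_of_comm
  ne_two_of_dvd_sub)
open Cfsg.Agent.Lib.Helper1.BGKap (isMulCommutative_of_map_conj)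

universe u

variable {G : Type u} [Group G] [Finite G]

/-! ### generic lemmas -/

/-- `N` normal in `M`, `C ≤ M`: `|C : C ∩ N|` divides `|M : N|`. -/
theorem relIndex_dvd_relIndex_of_le_normalizer {N C M : Subgroup G} (_hNM : N ≤ M) (hCM : C ≤ M)
    (hn : M ≤ Subgroup.normalizer (N : Set G)) : N.relIndex C ∣ N.relIndex M := by
  haveI : (N.subgroupOf M).Normal := Subgroup.normal_subgroupOf_of_le_normalizer hn
  have h1 := Subgroup.relIndex_dvd_index_of_normal (N.subgroupOf M) (C.subgroupOf M)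
  rwa [Subgroup.relIndex_subgroupOf hCM] at h1

/-- a Hall subgroup `H` of `N` contains a Sylow `r`-subgroup of `N` for each prime `r ∣ |H|`. -/
theorem exists_sylow_map_le_of_hall {N H : Subgroup G} (hHN : H ≤ N)
    (hcop : (Nat.card H).Coprime (H.relIndex N)) {r : ℕ} [hr : Fact r.Prime]
    (hrH : r ∣ Nat.card H) :
    ∃ S : Sylow r ↥N, (S : Subgroup ↥N).map N.subtype ≤ H := by
  obtain ⟨P⟩ : Nonempty (Sylow r ↥H) := inferInstance
  set Q0 : Subgroup G := (P : Subgroup ↥H).map H.subtype with hQ0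
  have hQ0H : Q0 ≤ H := Subgroup.map_subtype_le _
  have hQ0N : Q0 ≤ N := hQ0H.trans hHN
  have hcardQ0 : Nat.card Q0 = r ^ (Nat.card H).factorization r := by
    rw [hQ0, Subgroup.card_map_of_injective H.subtype_injective]
    exact P.card_eq_multiplicity
  have hfac : (Nat.card N).factorization r = (Nat.card H).factorization r := by
    have h1 : Nat.card H * H.relIndex N = Nat.card N := Cfsg.Agent.Lib.Helper4.card_mul_relIndex hHN
    have h2 : ¬ r ∣ H.relIndex N := by
      intro hd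
      have := Nat.Coprime.eq_one_of_dvd (Nat.Coprime.coprime_dvd_left hrH hcop) hd
      exact hr.out.one_lt.ne' this
    have h0 : H.relIndex N ≠ 0 := by
      intro h0
      rw [h0, mul_zero] at h1
      exact Nat.card_pos.ne' h1.symm
    rw [← h1, Nat.factorization_mul Nat.card_pos.ne' h0]
    simp [Nat.factorization_eq_zero_of_not_dvd h2]
  have hcardQ : Nat.card ↥(Q0.subgroupOf N) = r ^ (Nat.card ↥N).factorization r := by
    rw [Cfsg.Agent.Lib.Helper1.card_subgroupOf_of_le hQ0N, hcardQ0, hfac]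
  refine ⟨Sylow.ofCard (Q0.subgroupOf N) hcardQ, ?_⟩
  rw [Sylow.coe_ofCard, Subgroup.map_subgroupOf_eq_of_le hQ0N]
  exact hQ0H

variable {M : Subgroup G}

/-- a `τ₂(M)`-subgroup of `M` centralizing a nonidentity element of `M_σ` is cyclic
(helper1's `singular_tau2_cyclic` without the standard factorisation). -/
theorem isCyclic_of_tau2_singular (hG : Cfsg.IsMinSimpleOddOrder G) (hM : IsCoatom M)
    {X : Subgroup G} (hXM : X ≤ M)
    (hτ2 : ∀ q : ℕ, q.Prime → q ∣ Nat.card X → q ∈ Cfsg.tau2 M)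
    (hXc : Cfsg.sigmaCore M ⊓ Subgroup.centralizer (X : Set G) ≠ ⊥) : IsCyclic X := by
  have hHall := (Cfsg.Agent.S1350.result hG M hM).1
  have h125 : T125 M := fun p _ hp A hA => Cfsg.Agent.S1417.result hG M hM p hp A hA
  obtain ⟨E, hE⟩ := exists_compl_sigmaCore hHall
  have hXσ : ∀ p : ℕ, p.Prime → p ∣ Nat.card X → p ∉ Cfsg.sigma M := fun p hp hpX =>
    (hτ2 p hp hpX).2.1
  obtain ⟨g, hgM, hgE⟩ := exists_conj_le_compl hG hM hHall hE hXM hXσ
  have hcard : Nat.card ↥(X.map (MulAut.conj g).toMonoidHom) = Nat.card X :=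
    Subgroup.card_map_of_injective (MulAut.conj g).injective
  have hXab : IsMulCommutative X := by
    apply isMulCommutative_of_map_conj g
    apply Cfsg.Agent.Lib.Helper19.BG1210.tau2_subgroup_comm hG hM hE hgE
    intro q hq hqd
    rw [hcard] at hqd
    exact hτ2 q hq hqd
  have hZ : IsZGroup ↥X := by
    refine ⟨fun p hpf P => ?_⟩
    haveI : Fact p.Prime := ⟨hpf⟩
    have hpp : p.Prime := hpf
    set S : Subgroup G := (P : Subgroup ↥X).map X.subtype with hS
    have hSX : S ≤ X := Subgroup.map_subtype_le _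
    have hSp : IsPGroup p S := P.isPGroup'.map X.subtype
    have hiso : (P : Subgroup ↥X) ≃* S :=
      (P : Subgroup ↥X).equivMapOfInjective X.subtype X.subtype_injective
    by_contra hnc
    have hncS : ¬ IsCyclic S := fun h => hnc (hiso.isCyclic.mpr h)
    have hp2 : p ≠ 2 := by
      have hS1 : Nat.card S ≠ 1 := by
        intro h1
        apply hncS
        rw [Subgroup.card_eq_one] at h1
        rw [h1]; infer_instance
      obtain ⟨n, hn⟩ := (IsPGroup.iff_card.mp hSp)
      have hpS : p ∣ Nat.card S := by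
        rw [hn]
        cases n with
        | zero => exact absurd (by rw [hn, pow_zero]) hS1
        | succ m => exact dvd_pow_self p (Nat.succ_ne_zero m)
      exact ne_two_of_dvd_sub hG.1 (hpS.trans (Subgroup.card_dvd_of_le (hSX.trans hXM)))
    obtain ⟨A, hAS, hAe, hAc⟩ :=
      Cfsg.Agent.Lib.Helper1.BGEmb.exists_elemAb_sq_of_not_cyclic hp2 hSp hncS
    have hpX : p ∣ Nat.card X := by
      have : p ∣ Nat.card A := by rw [hAc]; exact dvd_pow_self p (by norm_num)
      exact this.trans (Subgroup.card_dvd_of_le (hAS.trans hSX))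
    have hpτ : p ∈ Cfsg.tau2 M := hτ2 p hpp hpX
    have hd := (h125 p hpτ A ⟨(hAS.trans hSX).trans hXM, hAe, hAc⟩).2.2.2.1
    apply hXc
    rw [eq_bot_iff, ← hd]
    exact inf_le_inf_left _ (Subgroup.centralizer_le (hAS.trans hSX))
  haveI := hZ
  haveI : Group.IsNilpotent ↥X := by
    let _ : CommGroup ↥X :=
      { (inferInstance : Group ↥X) with
        mul_comm := fun a b => Subtype.ext (comm_of_isMulCommutative hXab a a.2 b b.2) }
    infer_instance
  infer_instance

/-- an element of prime order `q ∉ σ(M)` of `M` centralizing a nontrivial Hall subgroup `H` of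
`M_σ` has `q ∈ τ₂(M)`. -/
theorem mem_tau2_of_cent_hall (hG : Cfsg.IsMinSimpleOddOrder G) (hM : IsCoatom M)
    {H : Subgroup G} (hH : H ≤ Cfsg.sigmaCore M) (hH1 : H ≠ ⊥)
    (hHall : (Nat.card H).Coprime (H.relIndex (Cfsg.sigmaCore M))) {x : G} (hxM : x ∈ M)
    {q : ℕ} (hq : q.Prime) (hxo : orderOf x = q) (hqσ : q ∉ Cfsg.sigma M)
    (hxH : x ∈ Subgroup.centralizer (H : Set G)) : q ∈ Cfsg.tau2 M := by
  have hU : Cfsg.Agent.Lib.Helper1.BGX.UT G :=
    fun K hK hK2 hK3 => Cfsg.Agent.S1403.result hG K hK hK2 hK3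
  obtain ⟨y, hy1⟩ := (Subgroup.ne_bot_iff_exists_ne_one).mp hH1
  have hy1' : (y : G) ≠ 1 := fun h => hy1 (Subtype.ext h)
  have hcomm : x * (y : G) = (y : G) * x :=
    ((Subgroup.mem_centralizer_iff.mp hxH) (y : G) y.2).symm
  rcases kappa_or_tau2 hG hU hM (hH y.2) hy1' hxM hq hxo hcomm hqσ with hκ | h
  · exfalso
    -- a Hall `κ(M)`-subgroup containing `x`
    have hzp : ∀ p : ℕ, p.Prime → p ∣ Nat.card (Subgroup.zpowers x) → p ∈ Cfsg.kappa M := by
      intro p hp hpd
      rw [Nat.card_zpowers, hxo] at hpd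
      rw [(Nat.prime_dvd_prime_iff_eq hp hq).mp hpd]
      exact hκ
    obtain ⟨K, hK, hxK⟩ := exists_hall_ge hG hM (Cfsg.kappa M)
      (Subgroup.zpowers_le.mpr hxM) hzp
    have hxK' : x ∈ K := hxK (Subgroup.mem_zpowers x)
    have hx1 : x ≠ 1 := by
      intro h1
      rw [h1, orderOf_one] at hxo
      exact hq.one_lt.ne hxo
    have hK1 : K ≠ ⊥ := by
      intro h0
      rw [h0, Subgroup.mem_bot] at hxK'
      exact hx1 hxK'
    have h30 := (Cfsg.Agent.S1430.result hG M hM K hK hK1).1 x hxK' hx1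
    have h31 := (Cfsg.Agent.S1431.result hG M hM K hK hK1).2.2.1
    have hHK : H ≤ Cfsg.sigmaCore M ⊓ Subgroup.centralizer (K : Set G) := by
      rw [← h30]
      refine le_inf hH ?_
      intro h hh
      rw [Subgroup.mem_centralizer_singleton_iff]
      exact ((Subgroup.mem_centralizer_iff.mp hxH) h hh)
    -- a prime of `|H|`
    have hcardH : Nat.card H ≠ 1 := fun h => hH1 (Subgroup.card_eq_one.mp h)
    obtain ⟨r, hr, hrH⟩ := Nat.exists_prime_and_dvd hcardH
    haveI : Fact r.Prime := ⟨hr⟩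
    obtain ⟨S, hS⟩ := exists_sylow_map_le_of_hall hH hHall hrH
    exact (h31 r hr (hrH.trans (Subgroup.card_dvd_of_le hHK)) S).2.2 (hS.trans hHK)
  · exact h

/-- **S1438, first part** (B&G 15.3(a)): `C_M(H) = C_{M_σ}(H) X` with `X` a cyclic
`τ₂(M)`-group. -/
theorem s1438_part1 (hG : Cfsg.IsMinSimpleOddOrder G) (hM : IsCoatom M)
    {H : Subgroup G} (hH : H ≤ Cfsg.sigmaCore M) (hH1 : H ≠ ⊥)
    (hHall : (Nat.card H).Coprime (H.relIndex (Cfsg.sigmaCore M))) :
    ∃ X : Subgroup G, IsCyclic X ∧ (∀ p : ℕ, p.Prime → p ∣ Nat.card X → p ∈ Cfsg.tau2 M) ∧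
      M ⊓ Subgroup.centralizer (H : Set G) =
        (Cfsg.sigmaCore M ⊓ Subgroup.centralizer (H : Set G)) ⊔ X := by
  have hS50 := (Cfsg.Agent.S1350.result hG M hM).1
  set C : Subgroup G := M ⊓ Subgroup.centralizer (H : Set G) with hC
  set N : Subgroup G := Cfsg.sigmaCore M ⊓ Subgroup.centralizer (H : Set G) with hN
  have hNC : N ≤ C := inf_le_inf_right _ (sigmaCore_le M)
  have hCM : C ≤ M := inf_le_left
  -- `N` is normal in `C`
  have hCn : C ≤ Subgroup.normalizer (N : Set G) := by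
    intro c hc
    have hcσ : c ∈ Subgroup.normalizer ((Cfsg.sigmaCore M : Subgroup G) : Set G) :=
      Cfsg.Agent.Lib.Helper23.BGY.le_normalizer_sigmaCore M hc.1
    have hcC : c ∈ Subgroup.normalizer
        ((Subgroup.centralizer (H : Set G) : Subgroup G) : Set G) :=
      Subgroup.le_normalizer hc.2
    rw [Subgroup.mem_normalizer_iff] at hcσ hcC ⊢
    intro n
    rw [hN, Subgroup.mem_inf, Subgroup.mem_inf, hcσ n, hcC n]
  haveI : (N.subgroupOf C).Normal := Subgroup.normal_subgroupOf_of_le_normalizer hCn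
  -- the index of `N` in `C` involves no prime of `σ(M)`
  have hidx : N.relIndex C ∣ (Cfsg.sigmaCore M).relIndex M := by
    have h1 : N.relIndex C = (Cfsg.sigmaCore M).relIndex C := by
      have h2 : N = Cfsg.sigmaCore M ⊓ C := by
        rw [hN, hC]
        ext z
        simp only [Subgroup.mem_inf]
        constructor
        · rintro ⟨h1, h2⟩
          exact ⟨h1, sigmaCore_le M h1, h2⟩
        · rintro ⟨h1, -, h2⟩
          exact ⟨h1, h2⟩
      rw [h2, Subgroup.inf_relIndex_right]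
    rw [h1]
    exact relIndex_dvd_relIndex_of_le_normalizer (sigmaCore_le M) hCM
      (Cfsg.Agent.Lib.Helper23.BGY.le_normalizer_sigmaCore M)
  have hcop : (Nat.card ↥(N.subgroupOf C)).Coprime (N.subgroupOf C).index := by
    rw [Cfsg.Agent.Lib.Helper1.card_subgroupOf_of_le hNC]
    apply Nat.coprime_of_dvd
    intro q hq hq1 hq2
    have hqσ : q ∈ Cfsg.sigma M :=
      primes_card_sigmaCore M q hq (hq1.trans (Subgroup.card_dvd_of_le inf_le_left))
    exact hS50.2.2 q hq hqσ (hq2.trans hidx)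
  obtain ⟨Hc, hHc⟩ := Subgroup.exists_right_complement'_of_coprime hcop
  set X : Subgroup G := Hc.map C.subtype with hX
  have hXC : X ≤ C := Subgroup.map_subtype_le _
  have hXM : X ≤ M := hXC.trans hCM
  have hcardX : Nat.card X = N.relIndex C := by
    rw [hX, Subgroup.card_map_of_injective C.subtype_injective]
    exact hHc.symm.index_eq_card.symm
  have hsup : C = N ⊔ X := by
    have h1 : (N.subgroupOf C) ⊔ Hc = ⊤ := hHc.sup_eq_top
    have h2 := congrArg (Subgroup.map C.subtype) h1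
    rw [Subgroup.map_sup, Subgroup.map_subgroupOf_eq_of_le hNC, ← hX, ← MonoidHom.range_eq_map,
      Subgroup.range_subtype] at h2
    exact h2.symm
  -- the primes of `X`
  have hXσ : ∀ q : ℕ, q.Prime → q ∣ Nat.card X → q ∉ Cfsg.sigma M := by
    intro q hq hqd hqσ
    rw [hcardX] at hqd
    exact hS50.2.2 q hq hqσ (hqd.trans hidx)
  have hτ2 : ∀ q : ℕ, q.Prime → q ∣ Nat.card X → q ∈ Cfsg.tau2 M := by
    intro q hq hqd
    haveI : Fact q.Prime := ⟨hq⟩
    obtain ⟨x, hx⟩ := exists_prime_orderOf_dvd_card' q hqd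
    have hxq : orderOf (x : G) = q := by rw [Subgroup.orderOf_coe]; exact hx
    exact mem_tau2_of_cent_hall hG hM hH hH1 hHall (hXM x.2) hq hxq (hXσ q hq hqd)
      (hXC x.2).2
  refine ⟨X, ?_, hτ2, hsup⟩
  apply isCyclic_of_tau2_singular hG hM hXM hτ2
  -- `H ≤ C_{M_σ}(X)`
  intro h0
  apply hH1
  rw [eq_bot_iff, ← h0]
  refine le_inf hH ?_
  intro h hh
  rw [Subgroup.mem_centralizer_iff]
  intro x hx
  exact ((Subgroup.mem_centralizer_iff.mp (hXC hx).2) h hh).symm

end Cfsg.Agent.Lib.Helper24.BG153
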