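/- helper24: B&G 15.3 (S1438), second part, from the first clause of S1356 (M'' le F(M)): G-fusion of elements of a Hall subgroup H of M_sigma is controlled by N_M(H). Steps: S1374 (R(x) regular on conjugates) gives M-conjugacy; H O_{pi-prime}(M) contains F(M) hence M_sigma-prime, so it is normalized by M; internal Schur-Zassenhaus; coprime commutator argument. -/
import Mathlib
import Cfsg.Agent.Lib.Helper24.BG153A
import Cfsg.Agent.Lib.Helper24.BGRegA
import Cfsg.Agent.Lib.Helper24.BGBeta4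
import Cfsg.Agent.Lib.Helper24.PSolvable
import Cfsg.Agent.Lib.Helper2.BGCorB
import Cfsg.Agent.Lib.Helper17.BGTrans
import Cfsg.Agent.Lib.Helper17.BGUniqC
import Cfsg.Agent.Lib.Helper1.Coprime
import Cfsg.Agent.S1374

set_option autoImplicit false
set_option linter.style.haveILetI false
set_option linter.unusedSectionVars false
open scoped commutatorElement Pointwise

namespace Cfsg.Agent.Lib.Helper24.BG153

open Cfsg.Agent.Lib.Helper2.BGCor (sigmaCore_le primes_card_sigmaCore conj_mem_sigmaCore)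
open Cfsg.Agent.Lib.Helper8 (mem_map_conj conj_mem_map_conj map_conj_map_conj map_conj_one
  mem_normalizer_iff_map_conj)
open Cfsg.Agent.Lib.Helper1 (mem_conj_smul_iff card_conj_smul)

universe u

variable {G : Type u} [Group G] [Finite G] {M : Subgroup G}

/-- **B&G 14.4(b) consequence**: `G`-conjugate elements `x`, `g x g⁻¹` of `M` with `x ∈ M_σ^#`
are `M`-conjugate (via the normal complement `R(x)` of `C_M(x)` in `C_G(x)`, S1374). -/
theorem exists_mem_conj_eq (hG : Cfsg.IsMinSimpleOddOrder G) (hM : IsCoatom M) {x : G}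
    (hx : x ∈ Cfsg.sigmaCore M) (hx1 : x ≠ 1) {g : G} (hg : g * x * g⁻¹ ∈ M) :
    ∃ m ∈ M, m * x * m⁻¹ = g * x * g⁻¹ := by
  haveI : IsSimpleGroup G := hG.2.1
  obtain ⟨-, R, -, hRc, hR⟩ := Cfsg.Agent.S1374.result hG M hM x hx hx1
  have hxg : x ∈ M.map (MulAut.conj g⁻¹).toMonoidHom := by
    rw [mem_map_conj, inv_inv]
    exact hg
  obtain ⟨r, ⟨hrR, hrM⟩, -⟩ := hR g⁻¹ hxg
  have hrx : r * x = x * r := Subgroup.mem_centralizer_singleton_iff.mp (hRc.2.1 hrR)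
  have hM1 : M ≠ ⊥ := by
    intro h0
    have : x ∈ (⊥ : Subgroup G) := h0 ▸ sigmaCore_le M hx
    exact hx1 (Subgroup.mem_bot.mp this)
  have hNM : Subgroup.normalizer (M : Set G) = M :=
    Cfsg.Agent.Lib.Helper17.BGU.normalizer_eq_of_coatom hM le_rfl hM1 Subgroup.le_normalizer
  have hm : g * r ∈ M := by
    rw [← hNM, mem_normalizer_iff_map_conj, ← map_conj_map_conj, hrM, map_conj_map_conj,
      mul_inv_cancel, map_conj_one]
  refine ⟨g * r, hm, ?_⟩
  calc g * r * x * (g * r)⁻¹ = g * (r * x) * r⁻¹ * g⁻¹ := by group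
    _ = g * (x * r) * r⁻¹ * g⁻¹ := by rw [hrx]
    _ = g * x * g⁻¹ := by group

/-- `O_p(M) ≤ H` for every prime `p` dividing the order of a Hall subgroup `H` of `M_σ`. -/
theorem pCoreOf_le_of_hall {H : Subgroup G} (hH : H ≤ Cfsg.sigmaCore M)
    (hHall : (Nat.card H).Coprime (H.relIndex (Cfsg.sigmaCore M))) {p : ℕ} [hp : Fact p.Prime]
    (hpH : p ∣ Nat.card H) : Cfsg.pCoreOf p M ≤ H := by
  have hpσ : p ∈ Cfsg.sigma M :=
    primes_card_sigmaCore M p hp.out (hpH.trans (Subgroup.card_dvd_of_le hH))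
  have hW : Cfsg.pCoreOf p M ≤ Cfsg.sigmaCore M := by
    rintro _ ⟨w, hw, rfl⟩
    refine ⟨w, ?_, rfl⟩
    refine Cfsg.Agent.Lib.Helper12.le_piCore (Cfsg.sigma M) (Cfsg.pCore p ↥M)
      (Cfsg.Agent.Lib.Helper1.pCore_normal p ↥M) ?_ hw
    intro q hq hqd
    have hpg := Cfsg.Agent.Lib.Helper1.pCore_isPGroup p ↥M
    obtain ⟨n, hn⟩ := IsPGroup.iff_card.mp hpg
    rw [hn] at hqd
    have : q = p := (Nat.prime_dvd_prime_iff_eq hq hp.out).mp (hq.dvd_of_dvd_pow hqd)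
    rw [this]; exact hpσ
  obtain ⟨Sy, hSy⟩ := exists_sylow_map_le_of_hall hH hHall hpH
  have hn : Cfsg.sigmaCore M ≤ Subgroup.normalizer ((Cfsg.pCoreOf p M : Subgroup G) : Set G) :=
    (sigmaCore_le M).trans (Cfsg.Agent.Lib.Helper17.BGExF.le_normalizer_pCoreOf p M)
  haveI : ((Cfsg.pCoreOf p M).subgroupOf (Cfsg.sigmaCore M)).Normal :=
    Subgroup.normal_subgroupOf_of_le_normalizer hn
  have hpg : IsPGroup p ↥((Cfsg.pCoreOf p M).subgroupOf (Cfsg.sigmaCore M)) :=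
    (Cfsg.Agent.Lib.Helper17.PrimeAct.pCoreOf_isPGroup p M).comap_subtype
  have h1 := Cfsg.Agent.Lib.Helper24.normal_pgroup_le_sylow _ hpg Sy
  have h2 := Subgroup.map_mono (f := (Cfsg.sigmaCore M).subtype) h1
  rw [Subgroup.map_subgroupOf_eq_of_le hW] at h2
  exact h2.trans hSy

/-- **S1438, second part** (B&G 15.3(b)), from `M'' ≤ F(M)` (S1356): fusion in a Hall subgroup
`H` of `M_σ` is controlled by `N_M(H)`. -/
theorem s1438_part2 (hG : Cfsg.IsMinSimpleOddOrder G) (hM : IsCoatom M)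
    (h152 : ⁅⁅M, M⁆, ⁅M, M⁆⁆ ≤ Cfsg.fittingOf M)
    {H : Subgroup G} (hH : H ≤ Cfsg.sigmaCore M)
    (hHall : (Nat.card H).Coprime (H.relIndex (Cfsg.sigmaCore M))) :
    ∀ x ∈ H, ∀ g : G, g * x * g⁻¹ ∈ H →
      ∃ n ∈ M ⊓ Subgroup.normalizer (H : Set G), n * x * n⁻¹ = g * x * g⁻¹ := by
  intro x hxH g hgH
  by_cases hx1 : x = 1
  · exact ⟨1, Subgroup.one_mem _, by rw [hx1]; group⟩
  set S : Subgroup G := Cfsg.sigmaCore M with hS
  have hSM : S ≤ M := sigmaCore_le M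
  have hHM : H ≤ M := hH.trans hSM
  haveI : Group.IsSolvable ↥M := hG.2.2.2 M hM.1
  haveI : Group.IsSolvable ↥H :=
    Group.isSolvable_of_isSolvable_injective (Subgroup.inclusion_injective hHM)
  -- step 1: conjugate inside `M`
  obtain ⟨m, hmM, hm⟩ := exists_mem_conj_eq hG hM (hH hxH) hx1 (hHM hgH)
  -- the normal `π'`-subgroup `Q` of `M`
  set Q : Subgroup G := Cfsg.piCoreOf (Cfsg.primesNotDvd (Nat.card H)) M with hQ
  have hQM : Q ≤ M := Cfsg.Agent.Lib.Helper17.piCoreOf_le M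
  have hMQ : M ≤ Subgroup.normalizer (Q : Set G) := Cfsg.Agent.Lib.Helper17.le_normalizer_piCoreOf M
  have hcop : (Nat.card H).Coprime (Nat.card Q) :=
    Cfsg.Agent.Lib.Helper17.coprime_card_piCoreOf H M
  have hHQ : H ≤ Subgroup.normalizer (Q : Set G) := hHM.trans hMQ
  have hdisj : Disjoint Q H := Subgroup.disjoint_of_coprime_natCard hcop.symm
  -- `F(M) ≤ Q H`
  have hFT : Cfsg.fittingOf M ≤ Q ⊔ H := by
    rw [Cfsg.Agent.Lib.Helper17.PrimeAct.fittingOf_eq_iSup]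
    apply iSup_le
    intro p
    haveI : Fact (p : ℕ).Prime := ⟨p.2⟩
    by_cases hpH : (p : ℕ) ∣ Nat.card H
    · exact (pCoreOf_le_of_hall hH hHall hpH).trans le_sup_right
    · refine le_trans ?_ le_sup_left
      apply Cfsg.Agent.Lib.Helper17.le_piCoreOf
      · exact Cfsg.Agent.Lib.Helper17.PrimeAct.pCoreOf_le (p : ℕ) M
      · exact Cfsg.Agent.Lib.Helper17.BGExF.le_normalizer_pCoreOf (p : ℕ) M
      · intro q hq hqd
        obtain ⟨n, hn⟩ := IsPGroup.iff_card.mp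
          (Cfsg.Agent.Lib.Helper17.PrimeAct.pCoreOf_isPGroup (p : ℕ) M)
        rw [hn] at hqd
        have : q = (p : ℕ) := (Nat.prime_dvd_prime_iff_eq hq p.2).mp (hq.dvd_of_dvd_pow hqd)
        rw [this]; exact ⟨p.2, hpH⟩
  -- `S' ≤ Q H`
  have hS' : ⁅S, S⁆ ≤ Q ⊔ H := by
    have hU : Cfsg.Agent.Lib.Helper1.BGX.UT G :=
      fun K hK hK2 hK3 => Cfsg.Agent.S1403.result hG K hK hK2 hK3
    have h1 : S ≤ ⁅M, M⁆ := Cfsg.Agent.Lib.Helper24.BGBeta.sigmaCore_le_commutator hG hU hM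
    exact ((Subgroup.commutator_mono h1 h1).trans h152).trans hFT
  -- `T_S := Q H ∩ S` is normal in `S` of index prime to `|H|`
  set TS : Subgroup G := (Q ⊔ H) ⊓ S with hTS
  have hTSS : TS ≤ S := inf_le_right
  have hHTS : H ≤ TS := le_inf le_sup_right hH
  have hSn : S ≤ Subgroup.normalizer (TS : Set G) := by
    intro s hs
    apply Cfsg.Agent.Lib.Helper1.mem_normalizer_of_forall_conj_mem
    intro t ht
    have h1 : s * t * s⁻¹ * t⁻¹ ∈ ⁅S, S⁆ := Subgroup.commutator_mem_commutator hs (hTSS ht)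
    have h2 : s * t * s⁻¹ = (s * t * s⁻¹ * t⁻¹) * t := by group
    rw [h2]
    refine Subgroup.mul_mem _ ?_ ht
    have h3 : ⁅S, S⁆ ≤ S := Subgroup.commutator_le.mpr (fun a ha b hb =>
      S.mul_mem (S.mul_mem (S.mul_mem ha hb) (S.inv_mem ha)) (S.inv_mem hb))
    exact Subgroup.mem_inf.mpr ⟨hS' h1, h3 h1⟩
  haveI hTn : (TS.subgroupOf S).Normal := Subgroup.normal_subgroupOf_of_le_normalizer hSn
  have hidx : (TS.subgroupOf S).index ∣ H.relIndex S :=
    Subgroup.relIndex_dvd_of_le_left S hHTS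
  -- step 2: `M`-conjugates of elements of `H` lie in `Q H`
  have hconj : ∀ m' ∈ M, ∀ h ∈ H, m' * h * m'⁻¹ ∈ Q ⊔ H := by
    intro m' hm' h hh
    have hzS : m' * h * m'⁻¹ ∈ S := conj_mem_sigmaCore hm' (hH hh)
    set z : ↥S := ⟨m' * h * m'⁻¹, hzS⟩ with hz
    have hz1 : (z : G) ^ Nat.card H = 1 := by
      have h1 : h ^ Nat.card H = 1 := by
        have := pow_card_eq_one' (G := ↥H) (x := ⟨h, hh⟩)
        exact congrArg Subtype.val this
      show (m' * h * m'⁻¹) ^ Nat.card H = 1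
      rw [conj_pow, h1]; group
    have hq1 : (QuotientGroup.mk z : ↥S ⧸ TS.subgroupOf S) ^ Nat.card H = 1 := by
      rw [← QuotientGroup.mk_pow]
      have : z ^ Nat.card H = 1 := Subtype.ext (by rw [Subgroup.coe_pow]; exact hz1)
      rw [this]; rfl
    have hq2 : (QuotientGroup.mk z : ↥S ⧸ TS.subgroupOf S) ^ (TS.subgroupOf S).index = 1 := by
      rw [Subgroup.index_eq_card]
      exact pow_card_eq_one'
    have hcop2 : (Nat.card H).Coprime (TS.subgroupOf S).index :=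
      Nat.Coprime.coprime_dvd_right hidx hHall
    have hq : (QuotientGroup.mk z : ↥S ⧸ TS.subgroupOf S) = 1 :=
      Cfsg.Agent.Lib.Helper24.BGReg.eq_one_of_pow_coprime hcop2 hq1 hq2
    have hzT : z ∈ TS.subgroupOf S := (QuotientGroup.eq_one_iff z).mp hq
    exact (Subgroup.mem_subgroupOf.mp hzT).1
  -- `Q H` is normalized by `M`
  have hTconj : ∀ m' ∈ M, ∀ t ∈ Q ⊔ H, m' * t * m'⁻¹ ∈ Q ⊔ H := by
    intro m' hm' t ht
    have hc := Cfsg.Agent.Lib.Helper1.isComplIn_sup hHQ hdisj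
    obtain ⟨k, hk, a, ha, rfl⟩ := hc.2.2.2 t ht
    have h1 : m' * (k * a) * m'⁻¹ = (m' * k * m'⁻¹) * (m' * a * m'⁻¹) := by group
    rw [h1]
    refine Subgroup.mul_mem _ (Subgroup.mem_sup_left ?_) (hconj m' hm' a ha)
    exact (Subgroup.mem_normalizer_iff.mp (hMQ hm') k).mp hk
  -- the two complements of `Q` in `Q H`
  have hc1 : Cfsg.Agent.Lib.Helper1.IsComplIn Q H (Q ⊔ H) :=
    Cfsg.Agent.Lib.Helper1.isComplIn_sup hHQ hdisj
  have hc2 : Cfsg.Agent.Lib.Helper1.IsComplIn Q (MulAut.conj m • H) (Q ⊔ H) := by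
    refine ⟨le_sup_left, ?_, ?_, ?_⟩
    · intro t ht
      rw [mem_conj_smul_iff] at ht
      have := hconj m hmM _ ht
      have e : m * (m⁻¹ * t * m) * m⁻¹ = t := by group
      rwa [e] at this
    · apply Subgroup.disjoint_of_coprime_natCard
      rw [card_conj_smul]
      exact hcop.symm
    · intro γ hγ
      have h1 := hTconj m⁻¹ (M.inv_mem hmM) γ hγ
      rw [inv_inv] at h1
      obtain ⟨k, hk, a, ha, hka⟩ := hc1.2.2.2 _ h1
      refine ⟨m * k * m⁻¹, (Subgroup.mem_normalizer_iff.mp (hMQ hmM) k).mp hk, m * a * m⁻¹, ?_, ?_⟩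
      · rw [mem_conj_smul_iff]
        have e : m⁻¹ * (m * a * m⁻¹) * m = a := by group
        rw [e]; exact ha
      · have e : m * k * m⁻¹ * (m * a * m⁻¹) = m * (k * a) * m⁻¹ := by group
        rw [e, hka]; group
  have hΓn : Q ⊔ H ≤ Subgroup.normalizer (Q : Set G) := sup_le Subgroup.le_normalizer hHQ
  obtain ⟨k, hkQ, hk⟩ := Cfsg.Agent.Lib.Helper1.internal_sz_conj hΓn hc1 hc2 hcop.symm (Or.inr inferInstance)
  -- `n := k m` normalizes `H`
  have hnH : ∀ h ∈ H, (k * m) * h * (k * m)⁻¹ ∈ H := by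
    intro h hh
    rw [← hk, mem_conj_smul_iff, mem_conj_smul_iff]
    have e : m⁻¹ * (k⁻¹ * (k * m * h * (k * m)⁻¹) * k) * m = h := by group
    rw [e]; exact hh
  have hnN : k * m ∈ Subgroup.normalizer (H : Set G) :=
    Cfsg.Agent.Lib.Helper1.mem_normalizer_of_forall_conj_mem H _ hnH
  refine ⟨k * m, Subgroup.mem_inf.mpr ⟨M.mul_mem (hQM hkQ) hmM, hnN⟩, ?_⟩
  -- `k` centralizes `y = m x m⁻¹`
  set y : G := g * x * g⁻¹ with hy
  have hx2 : k * y * k⁻¹ ∈ H := by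
    have := hnH x hxH
    have e : k * m * x * (k * m)⁻¹ = k * (m * x * m⁻¹) * k⁻¹ := by group
    rw [e, hm] at this
    exact this
  have hcomm : k * y * k⁻¹ * y⁻¹ ∈ Q ⊓ H := by
    refine Subgroup.mem_inf.mpr ⟨?_, H.mul_mem hx2 (H.inv_mem hgH)⟩
    have h1 : y * k⁻¹ * y⁻¹ ∈ Q :=
      (Subgroup.mem_normalizer_iff.mp (hHQ hgH) k⁻¹).mp (Q.inv_mem hkQ)
    have e : k * y * k⁻¹ * y⁻¹ = k * (y * k⁻¹ * y⁻¹) := by group
    rw [e]
    exact Q.mul_mem hkQ h1
  rw [disjoint_iff.mp hdisj, Subgroup.mem_bot] at hcomm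
  have hky : k * y * k⁻¹ = y := by
    calc k * y * k⁻¹ = (k * y * k⁻¹ * y⁻¹) * y := by group
      _ = y := by rw [hcomm, one_mul]
  calc k * m * x * (k * m)⁻¹ = k * (m * x * m⁻¹) * k⁻¹ := by group
    _ = k * y * k⁻¹ := by rw [hm]
    _ = y := hky

end Cfsg.Agent.Lib.Helper24.BG153
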