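/- helper24: BG 3.6 abelian-K branch, part D (norm maps over hyperplanes). -/
import Mathlib
import Cfsg.Agent.Lib.Helper24.BG36AbA
import Cfsg.Agent.Lib.Helper24.BG36AbB
import Cfsg.Agent.Lib.Helper24.BG36AbC

set_option autoImplicit false
open scoped commutatorElement

namespace Cfsg.Agent.Lib.Helper24.BG36Ab

open Subgroup

/-- `Y` is a subgroup of index `q` in `K`. -/
def IsHyp {G : Type*} [Group G] (q : ℕ) (K Y : Subgroup G) : Prop :=
  Y ≤ K ∧ Nat.card Y * q = Nat.card K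

theorem IsHyp.cj {G : Type*} [Group G] {q : ℕ} {K Y : Subgroup G} (h : IsHyp q K Y) {g : G}
    (hg : g ∈ normalizer (K : Set G)) : IsHyp q K (cj g Y) :=
  ⟨cj_le_of_mem_normalizer hg h.1, by rw [card_cj]; exact h.2⟩

section Norm
open scoped IsMulCommutative

variable {G : Type*} [Group G] [Finite G] (V : Subgroup G) [IsMulCommutative V]

theorem conjHom_mem_centralizer_cj (g : normalizer (V : Set G)) (Y : Subgroup G) (v : V)
    (hv : (v : G) ∈ centralizer (Y : Set G)) :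
    ((conjHom V g v : V) : G) ∈ centralizer (cj (g : G) Y : Set G) := by
  rw [conjHom_coe, ← cj_centralizer]
  exact conj_mem_cj hv

variable {q : ℕ} (hq : q.Prime) (K : Subgroup G) (hKab : ∀ x ∈ K, ∀ y ∈ K, x * y = y * x)
  (hKV : K ≤ normalizer (V : Set G)) (hVK : V ⊓ centralizer (K : Set G) = ⊥)

include hq hKab hVK in
/-- averaging over a hyperplane kills the centralizer of a different hyperplane -/
theorem avg_hyp_eq_one {Y Z : Subgroup G} (hY : IsHyp q K Y) (hZ : IsHyp q K Z) (hne : Z ≠ Y)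
    (v : V) (hv : (v : G) ∈ centralizer (Z : Set G)) :
    avg V Y (hY.1.trans hKV) v = 1 :=
  avg_eq_one V K Y Z hKab hKV hY.1 hZ.1
    (le_sup_of_card_mul_eq hq hY.1 hZ.1 hY.2 hZ.2 (Ne.symm hne)) hVK v hv

variable (A : Subgroup G) (hAV : A ≤ normalizer (V : Set G)) (hAK : A ≤ normalizer (K : Set G))

include hq hKab hVK hAK in
theorem avg_avg_eq_one {Y Y' : Subgroup G} (hY : IsHyp q K Y) (hY' : IsHyp q K Y')
    (hne : ∀ b ∈ A, cj b Y' ≠ Y) (v' : V) (hv' : (v' : G) ∈ centralizer (Y' : Set G)) :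
    avg V Y (hY.1.trans hKV) (avg V A hAV v') = 1 := by
  rw [avg_apply V A hAV]
  letI : Fintype A := Fintype.ofFinite A
  show avg V Y (hY.1.trans hKV) (∏ b : A, conjHom V ⟨b, hAV b.2⟩ v') = 1
  rw [map_prod]
  apply Finset.prod_eq_one
  intro b _
  exact avg_hyp_eq_one V hq K hKab hKV hVK hY (hY'.cj (hAK b.2)) (hne b b.2) _
    (conjHom_mem_centralizer_cj V ⟨b, hAV b.2⟩ Y' v' hv')

include hq hKab hVK hAK in
theorem avg_avg_eq_pow {Y : Subgroup G} (hY : IsHyp q K Y)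
    (hne : ∀ b ∈ A, b ≠ 1 → cj b Y ≠ Y) (v : V) (hv : (v : G) ∈ centralizer (Y : Set G)) :
    avg V Y (hY.1.trans hKV) (avg V A hAV v) = v ^ Nat.card Y := by
  rw [avg_apply V A hAV]
  letI : Fintype A := Fintype.ofFinite A
  show avg V Y (hY.1.trans hKV) (∏ b : A, conjHom V ⟨b, hAV b.2⟩ v) = v ^ Nat.card Y
  rw [map_prod, Finset.prod_eq_single (1 : A)]
  · have h1 : conjHom V ⟨((1 : A) : G), hAV (1 : A).2⟩ v = v := by
      apply Subtype.ext
      rw [conjHom_coe]
      simp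
    rw [h1]
    apply avg_of_fixed
    intro b hb
    have := mem_centralizer_iff.mp hv b hb
    calc b * (v : G) * b⁻¹ = (v * b) * b⁻¹ := by rw [this]
      _ = v := by group
  · intro b _ hb1
    have hb1' : (b : G) ≠ 1 := fun h => hb1 (Subtype.ext h)
    exact avg_hyp_eq_one V hq K hKab hKV hVK hY (hY.cj (hAK b.2)) (hne b b.2 hb1') _
      (conjHom_mem_centralizer_cj V ⟨b, hAV b.2⟩ Y v hv)
  · intro h
    exact absurd (Finset.mem_univ _) h

omit [Finite G] [IsMulCommutative V] in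
theorem eq_one_of_pow_card {p : ℕ} (hVexp : ∀ x ∈ V, x ^ p = 1) {n : ℕ} (hn : n.Coprime p)
    (v : V) (hv : v ^ n = 1) : v = 1 := by
  have h1 : orderOf v ∣ n := orderOf_dvd_of_pow_eq_one hv
  have h2 : orderOf v ∣ p := by
    apply orderOf_dvd_of_pow_eq_one
    apply Subtype.ext
    exact hVexp v v.2
  have h3 : orderOf v ∣ Nat.gcd n p := Nat.dvd_gcd h1 h2
  rw [hn.gcd_eq_one, Nat.dvd_one] at h3
  exact orderOf_eq_one_iff.mp h3

include hq hKab hVK hAK hKV in
/-- the `A`-norm is injective on the centralizer of a moved hyperplane -/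
theorem eq_one_of_avg_eq_one {p : ℕ} (hVexp : ∀ x ∈ V, x ^ p = 1)
    (hKp : (Nat.card K).Coprime p) {Y : Subgroup G} (hY : IsHyp q K Y)
    (hne : ∀ b ∈ A, b ≠ 1 → cj b Y ≠ Y) (v : V) (hv : (v : G) ∈ centralizer (Y : Set G))
    (h1 : avg V A hAV v = 1) : v = 1 := by
  have h2 := avg_avg_eq_pow V hq K hKab hKV hVK A hAV hAK hY hne v hv
  rw [h1, map_one] at h2
  have hcop : (Nat.card Y).Coprime p :=
    Nat.Coprime.coprime_dvd_left (Subgroup.card_dvd_of_le hY.1) hKp
  exact eq_one_of_pow_card V hVexp hcop v h2.symm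

include hq hKab hVK hAK hKV in
/-- two hyperplanes in different `A`-orbits have independent norms -/
theorem eq_one_of_avg_eq_avg {p : ℕ} (hVexp : ∀ x ∈ V, x ^ p = 1)
    (hKp : (Nat.card K).Coprime p) {Y Y' : Subgroup G} (hY : IsHyp q K Y) (hY' : IsHyp q K Y')
    (hne : ∀ b ∈ A, b ≠ 1 → cj b Y ≠ Y) (hne' : ∀ b ∈ A, cj b Y' ≠ Y)
    (v v' : V) (hv : (v : G) ∈ centralizer (Y : Set G))
    (hv' : (v' : G) ∈ centralizer (Y' : Set G))
    (h1 : avg V A hAV v = avg V A hAV v') : v = 1 := by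
  have h2 := avg_avg_eq_pow V hq K hKab hKV hVK A hAV hAK hY hne v hv
  have h3 := avg_avg_eq_one V hq K hKab hKV hVK A hAV hAK hY hY' hne' v' hv'
  rw [h1, h3] at h2
  have hcop : (Nat.card Y).Coprime p :=
    Nat.Coprime.coprime_dvd_left (Subgroup.card_dvd_of_le hY.1) hKp
  exact eq_one_of_pow_card V hVexp hcop v h2.symm

end Norm

end Cfsg.Agent.Lib.Helper24.BG36Ab
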