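/- helper24: BG 3.6 abelian-K branch, part E (elementary abelian reduction; prime order case). -/
import Mathlib
import Cfsg.Agent.Lib.Helper24.BG36AbA
import Cfsg.Agent.Lib.Helper24.BG36AbC

set_option autoImplicit false
open scoped commutatorElement

namespace Cfsg.Agent.Lib.Helper24.BG36Ab

open Subgroup

variable {G : Type*} [Group G] [Finite G]

/-- An abelian subgroup with no proper nontrivial subgroup normalized by `N(K)` is elementary
abelian. -/
theorem exists_prime_exponent {K : Subgroup G} (hKab : ∀ x ∈ K, ∀ y ∈ K, x * y = y * x)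
    (hK1 : K ≠ ⊥)
    (hirr : ∀ K₂ : Subgroup G, K₂ ≤ K → K₂ ≠ K →
      normalizer (K : Set G) ≤ normalizer (K₂ : Set G) → K₂ = ⊥) :
    ∃ q : ℕ, q.Prime ∧ q ∣ Nat.card K ∧ ∀ x ∈ K, x ^ q = 1 := by
  have hc1 : Nat.card K ≠ 1 := fun h => hK1 (Subgroup.card_eq_one.mp h)
  obtain ⟨q, hq, hqd⟩ := Nat.exists_prime_and_dvd hc1
  haveI : Fact q.Prime := ⟨hq⟩
  refine ⟨q, hq, hqd, ?_⟩
  let K₂ : Subgroup G :=
    { carrier := {x | x ∈ K ∧ x ^ q = 1}
      mul_mem' := by
        rintro x y ⟨hx, hx1⟩ ⟨hy, hy1⟩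
        refine ⟨K.mul_mem hx hy, ?_⟩
        have hc : Commute x y := hKab x hx y hy
        rw [hc.mul_pow, hx1, hy1, one_mul]
      one_mem' := ⟨K.one_mem, one_pow _⟩
      inv_mem' := by
        rintro x ⟨hx, hx1⟩
        exact ⟨K.inv_mem hx, by rw [inv_pow, hx1, inv_one]⟩ }
  have hmem : ∀ x, x ∈ K₂ ↔ x ∈ K ∧ x ^ q = 1 := fun x => Iff.rfl
  have hK₂K : K₂ ≤ K := fun x hx => hx.1
  have hnorm : normalizer (K : Set G) ≤ normalizer (K₂ : Set G) := by
    apply le_normalizer_of_conj_mem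
    intro g hg x hx
    rw [hmem] at hx ⊢
    refine ⟨((mem_normalizer_iff.mp hg) x).mp hx.1, ?_⟩
    rw [conj_pow, hx.2]
    group
  obtain ⟨x, hx⟩ := exists_prime_orderOf_dvd_card' (G := ↥K) q hqd
  have hxK₂ : (x : G) ∈ K₂ := by
    rw [hmem]
    refine ⟨x.2, ?_⟩
    have : x ^ q = 1 := by
      rw [← hx]
      exact pow_orderOf_eq_one x
    have := congrArg (fun w : K => (w : G)) this
    simpa using this
  have hne : K₂ ≠ ⊥ := by
    intro h
    rw [h, mem_bot] at hxK₂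
    have : x = 1 := Subtype.ext hxK₂
    rw [this, orderOf_one] at hx
    exact hq.one_lt.ne hx
  have hK₂ : K₂ = K := by
    by_contra hcon
    exact hne (hirr K₂ hK₂K hcon hnorm)
  intro y hy
  rw [← hK₂] at hy
  exact hy.2

omit [Finite G] in
/-- If `K` has prime order then commutators of elements of `N(K)` centralize `K`. -/
theorem commutator_mem_centralizer_of_prime_card {K : Subgroup G} (hK : (Nat.card K).Prime)
    {x y : G} (hx : x ∈ normalizer (K : Set G)) (hy : y ∈ normalizer (K : Set G)) :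
    ∀ k ∈ K, (x * y) * k * (x * y)⁻¹ = (y * x) * k * (y * x)⁻¹ := by
  haveI : Fact (Nat.card K).Prime := ⟨hK⟩
  haveI : Finite K := Nat.finite_of_card_ne_zero hK.ne_zero
  have hnt : Nontrivial K := by
    rw [← Finite.one_lt_card_iff_nontrivial]
    exact hK.one_lt
  obtain ⟨g, hg⟩ := exists_ne (1 : K)
  have htop : zpowers g = ⊤ := zpowers_eq_top_of_prime_card rfl hg
  have hpow : ∀ z ∈ normalizer (K : Set G), ∃ m : ℤ, z * (g : G) * z⁻¹ = (g : G) ^ m := by
    intro z hz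
    have h1 : z * (g : G) * z⁻¹ ∈ K := ((mem_normalizer_iff.mp hz) g).mp g.2
    have h2 : (⟨_, h1⟩ : K) ∈ zpowers g := by
      rw [htop]
      trivial
    obtain ⟨m, hm⟩ := mem_zpowers_iff.mp h2
    refine ⟨m, ?_⟩
    have := congrArg (fun w : K => (w : G)) hm
    simpa using this.symm
  obtain ⟨m, hm⟩ := hpow x hx
  obtain ⟨n, hn⟩ := hpow y hy
  have hconj : ∀ (z : G) (j : ℤ), z * (g : G) ^ j * z⁻¹ = (z * g * z⁻¹) ^ j := by
    intro z j
    rw [conj_zpow]
  have hg1 : (x * y) * (g : G) * (x * y)⁻¹ = (y * x) * g * (y * x)⁻¹ := by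
    have e1 : (x * y) * (g : G) * (x * y)⁻¹ = x * (y * g * y⁻¹) * x⁻¹ := by group
    have e2 : (y * x) * (g : G) * (y * x)⁻¹ = y * (x * g * x⁻¹) * y⁻¹ := by group
    rw [e1, e2, hn, hm, hconj, hconj, hm, hn, ← zpow_mul, ← zpow_mul, mul_comm]
  intro k hk
  have h2 : (⟨k, hk⟩ : K) ∈ zpowers g := by
    rw [htop]
    trivial
  obtain ⟨j, hj⟩ := mem_zpowers_iff.mp h2
  have hkj : k = (g : G) ^ j := by
    have := congrArg (fun w : K => (w : G)) hj
    simpa using this.symm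
  rw [hkj, hconj, hconj, hg1]

end Cfsg.Agent.Lib.Helper24.BG36Ab
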