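/- helper24: BG 3.6 abelian-K branch of the final configuration (final_config_abelian). -/
import Mathlib
import Cfsg.Agent.S1324
import Cfsg.Agent.Lib.Helper1.CoprimeAbelian
import Cfsg.Agent.Lib.Helper24.BG36AbA
import Cfsg.Agent.Lib.Helper24.BG36AbB
import Cfsg.Agent.Lib.Helper24.BG36AbC
import Cfsg.Agent.Lib.Helper24.BG36AbD
import Cfsg.Agent.Lib.Helper24.BG36AbE

set_option autoImplicit false
open scoped commutatorElement

namespace Cfsg.Agent.Lib.Helper24.BG36Ab

open Subgroup

theorem le_centralizer_bot {G : Type*} [Group G] (H : Subgroup G) :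
    H ≤ centralizer (((⊥ : Subgroup G) : Subgroup G) : Set G) := by
  intro x _
  rw [mem_centralizer_iff]
  intro y hy
  have : y = 1 := by simpa using hy
  rw [this, one_mul, mul_one]

set_option maxHeartbeats 1600000 in
/-- The abelian-`K` branch of the final configuration of B&G Theorem 3.6. -/
theorem final_config_abelian {G : Type*} [Group G] [Finite G] (p : ℕ) [Fact p.Prime]
    (hp2 : p ≠ 2) (V K P A : Subgroup G)
    (hVab : ∀ x ∈ V, ∀ y ∈ V, x * y = y * x) (hVexp : ∀ x ∈ V, x ^ p = 1)
    (hKp : (Nat.card K).Coprime p) (hKsol : Group.IsSolvable K) (hKodd : Odd (Nat.card K))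
    (hP : IsPGroup p P) (hP1 : P ≠ ⊥)
    (hA : (Nat.card A).Prime) (hA2 : Nat.card A ≠ 2) (hAp : Nat.card A ≠ p)
    (hAK : (Nat.card A).Coprime (Nat.card K))
    (hKV : K ≤ normalizer (V : Set G)) (hPV : P ≤ normalizer (V : Set G))
    (hAV : A ≤ normalizer (V : Set G))
    (hPK : P ≤ normalizer (K : Set G)) (hAKn : A ≤ normalizer (K : Set G))
    (hAP : A ≤ normalizer (P : Set G))
    (hfaith : (K ⊔ P) ⊓ centralizer (V : Set G) = ⊥) (hPKf : P ⊓ centralizer (K : Set G) = ⊥)
    (hKP : ⁅K, P⁆ = K)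
    (hKmin : ∀ K₂ : Subgroup G, K₂ ≤ K → K₂ ≠ K → P ≤ normalizer (K₂ : Set G) →
      A ≤ normalizer (K₂ : Set G) → P ≤ centralizer (K₂ : Set G))
    (hPmin : ∀ P₂ : Subgroup G, P₂ ≤ P → A ≤ normalizer (P₂ : Set G) → P₂ = ⊥ ∨ P₂ = P)
    (hPA : P ⊓ centralizer (A : Set G) = ⊥)
    (hVA : Nat.card ↥(V ⊓ centralizer (A : Set G)) ≤ p)
    (hKA : IsZGroup ↥(K ⊓ centralizer (A : Set G))) (hVK : V ⊓ centralizer (K : Set G) = ⊥)
    (hKab : ∀ x ∈ K, ∀ y ∈ K, x * y = y * x) : False := by
  classical
  have hp : p.Prime := Fact.out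
  -- K ≠ ⊥
  have hK1 : K ≠ ⊥ := by
    intro h
    apply hP1
    rw [eq_bot_iff, ← hPKf]
    refine le_inf le_rfl ?_
    rw [h]
    exact le_centralizer_bot P
  haveI hKc : IsMulCommutative K := ⟨⟨fun x y => Subtype.ext (hKab x x.2 y y.2)⟩⟩
  have hcopPK : (Nat.card P).Coprime (Nat.card K) := by
    obtain ⟨n, hn⟩ := IsPGroup.iff_card.mp hP
    rw [hn]
    exact Nat.Coprime.pow_left n hKp.symm
  have hCKP : K ⊓ centralizer (P : Set G) = ⊥ := by
    have := Cfsg.Agent.Lib.Helper1.centralizer_inf_commutator_eq_bot P K hPK hcopPK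
    rw [hKP] at this
    rw [← this]
    exact (inf_eq_left.mpr inf_le_left).symm
  have hKirr : ∀ K₂ : Subgroup G, K₂ ≤ K → K₂ ≠ K → P ≤ normalizer (K₂ : Set G) →
      A ≤ normalizer (K₂ : Set G) → K₂ = ⊥ := by
    intro K₂ h1 h2 h3 h4
    have h5 := hKmin K₂ h1 h2 h3 h4
    rw [eq_bot_iff, ← hCKP]
    exact le_inf h1 (le_centralizer_iff.mp h5)
  obtain ⟨q, hq, hqd, hKq⟩ := exists_prime_exponent hKab hK1 (by
    intro K₂ h1 h2 h3
    exact hKirr K₂ h1 h2 (hPK.trans h3) (hAKn.trans h3))
  haveI : Fact q.Prime := ⟨hq⟩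
  have hqp : q ≠ p := by
    intro h
    rw [h] at hqd
    have := Nat.Coprime.eq_one_of_dvd hKp.symm hqd
    exact hp.one_lt.ne' this
  have hKpg : IsPGroup q K := by
    intro g
    refine ⟨1, ?_⟩
    apply Subtype.ext
    rw [pow_one]
    have := hKq g g.2
    simpa using this
  obtain ⟨n, hn⟩ := IsPGroup.iff_card.mp hKpg
  have hn0 : n ≠ 0 := by
    intro h
    rw [h, pow_zero] at hn
    exact hK1 (Subgroup.card_eq_one.mp hn)
  by_cases hn1 : n = 1
  · -- `K` of prime order
    have hKprime : (Nat.card K).Prime := by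
      rw [hn, hn1, pow_one]
      exact hq
    have hPCA : P ≤ centralizer (A : Set G) := by
      intro x hx
      rw [mem_centralizer_iff]
      intro b hb
      have hcomm := commutator_mem_centralizer_of_prime_card hKprime (hPK hx) (hAKn hb)
      have hc : (b * x)⁻¹ * (x * b) ∈ P ⊓ centralizer (K : Set G) := by
        constructor
        · have h3 : b⁻¹ * x * b⁻¹⁻¹ ∈ P :=
            ((mem_normalizer_iff.mp (hAP (A.inv_mem hb))) x).mp hx
          have e : (b * x)⁻¹ * (x * b) = x⁻¹ * (b⁻¹ * x * b⁻¹⁻¹) := by group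
          rw [e]
          exact P.mul_mem (P.inv_mem hx) h3
        · show _ ∈ centralizer (K : Set G)
          rw [mem_centralizer_iff]
          intro k hk
          have h := hcomm k hk
          calc k * ((b * x)⁻¹ * (x * b))
              = (b * x)⁻¹ * ((b * x) * k * (b * x)⁻¹) * (x * b) := by group
            _ = (b * x)⁻¹ * ((x * b) * k * (x * b)⁻¹) * (x * b) := by rw [h]
            _ = (b * x)⁻¹ * (x * b) * k := by group
      rw [hPKf, mem_bot] at hc
      exact inv_mul_eq_one.mp hc
    apply hP1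
    rw [eq_bot_iff, ← hPA]
    exact le_inf le_rfl hPCA
  · have hn2 : 2 ≤ n := by omega
    have hq2 : q ^ 2 ≤ Nat.card K := by
      rw [hn]
      exact Nat.pow_le_pow_right hq.pos hn2
    have hKel : Cfsg.IsElementaryAbelian q K := ⟨hKc, hKq⟩
    have hVpg : IsPGroup p V := by
      intro g
      refine ⟨1, ?_⟩
      apply Subtype.ext
      rw [pow_one]
      have := hVexp g g.2
      simpa using this
    have hqV : ¬ q ∣ Nat.card V := by
      obtain ⟨m, hm⟩ := IsPGroup.iff_card.mp hVpg
      rw [hm]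
      intro h
      exact hqp ((Nat.prime_dvd_prime_iff_eq hq hp).mp (hq.dvd_of_dvd_pow h))
    have hgen := Cfsg.Agent.S1324.result q K V hKel hq2 hqV hKV
    haveI hVc : IsMulCommutative V := ⟨⟨fun x y => Subtype.ext (hVab x x.2 y y.2)⟩⟩
    -- hyperplanes are proper and nontrivial
    have hF1 : ∀ Y, IsHyp q K Y → Y ≠ ⊥ ∧ Y ≠ K := by
      intro Y hY
      constructor
      · intro h
        have h1 := hY.2
        rw [h, Subgroup.card_bot, one_mul] at h1
        have : q < q ^ 2 := by
          rw [pow_two]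
          nlinarith [hq.two_le]
        omega
      · intro h
        have h1 := hY.2
        rw [h] at h1
        have hpos : 0 < Nat.card K := Nat.card_pos
        have : Nat.card K * q = Nat.card K * 1 := by rw [h1, mul_one]
        have := Nat.eq_of_mul_eq_mul_left hpos this
        exact hq.one_lt.ne' this
    have hVle : ∀ C : Subgroup G, (∀ Y, IsHyp q K Y → V ⊓ centralizer (Y : Set G) ≠ ⊥ →
        V ⊓ centralizer (Y : Set G) ≤ C) → V ≤ C := by
      intro C hC
      refine hgen.le.trans (iSup_le ?_)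
      rintro ⟨B, hBK, hBi⟩
      show V ⊓ centralizer (B : Set G) ≤ C
      rcases eq_or_card_mul_eq hq hBK hn hBi with h | h
      · rw [h, hVK]
        exact bot_le
      · by_cases hb : V ⊓ centralizer (B : Set G) = ⊥
        · rw [hb]
          exact bot_le
        · exact hC B ⟨hBK, h⟩ hb
    have hV1 : V ≠ ⊥ := by
      intro h
      apply hK1
      rw [eq_bot_iff, ← hfaith]
      refine le_inf le_sup_left ?_
      rw [h]
      exact le_centralizer_bot K
    have hex : ∃ Y, IsHyp q K Y ∧ V ⊓ centralizer (Y : Set G) ≠ ⊥ := by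
      by_contra hcon
      push Not at hcon
      apply hV1
      rw [eq_bot_iff]
      apply hVle
      intro Y hY hne
      exact absurd (hcon Y hY) hne
    have hfree : ∀ Y : Subgroup G, ¬ A ≤ normalizer (Y : Set G) →
        ∀ b ∈ A, b ≠ 1 → cj b Y ≠ Y := by
      intro Y hY b hb hb1 h
      rw [cj_eq_self_iff] at h
      rcases eq_bot_or_eq_of_prime_card hA
        (inf_le_left : A ⊓ normalizer (Y : Set G) ≤ A) with h1 | h1
      · have : b ∈ A ⊓ normalizer (Y : Set G) := ⟨hb, h⟩
        rw [h1, mem_bot] at this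
        exact hb1 this
      · apply hY
        rw [← h1]
        exact inf_le_right
    have hclaim1 : ∀ Y, IsHyp q K Y → A ≤ normalizer (Y : Set G) →
        P ⊓ normalizer (Y : Set G) = ⊥ := by
      intro Y hY hAY
      have hinv : A ≤ normalizer ((P ⊓ normalizer (Y : Set G) : Subgroup G) : Set G) := by
        apply le_normalizer_of_conj_mem
        intro b hb x hx
        exact ⟨((mem_normalizer_iff.mp (hAP hb)) x).mp hx.1,
          (normalizer (Y : Set G)).mul_mem ((normalizer (Y : Set G)).mul_mem (hAY hb) hx.2)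
            ((normalizer (Y : Set G)).inv_mem (hAY hb))⟩
      rcases hPmin _ inf_le_left hinv with h | h
      · exact h
      · exfalso
        have hPY : P ≤ normalizer (Y : Set G) := by
          rw [← h]
          exact inf_le_right
        exact (hF1 Y hY).1 (hKirr Y hY.1 (hF1 Y hY).2 hPY hAY)
    have hclaim2 : ∀ Y, IsHyp q K Y → A ≤ normalizer (Y : Set G) → ∀ x ∈ P, x ≠ 1 →
        ¬ A ≤ normalizer (cj x Y : Set G) := by
      intro Y hY hAY x hx hx1 hcon
      apply hx1
      have hxC : x ∈ P ⊓ centralizer (A : Set G) := by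
        refine ⟨hx, ?_⟩
        show x ∈ centralizer (A : Set G)
        rw [mem_centralizer_iff]
        intro b hb
        have h1 : b ∈ normalizer (cj x Y : Set G) := hcon hb
        rw [normalizer_cj, mem_cj] at h1
        have h2 : b⁻¹ * (x⁻¹ * b * x) ∈ P ⊓ normalizer (Y : Set G) := by
          refine ⟨?_, (normalizer _).mul_mem ((normalizer _).inv_mem (hAY hb)) h1⟩
          have h3 : b⁻¹ * x⁻¹ * b⁻¹⁻¹ ∈ P :=
            ((mem_normalizer_iff.mp (hAP (A.inv_mem hb))) x⁻¹).mp (P.inv_mem hx)
          have : b⁻¹ * (x⁻¹ * b * x) = (b⁻¹ * x⁻¹ * b⁻¹⁻¹) * x := by group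
          rw [this]
          exact P.mul_mem h3 hx
        rw [hclaim1 Y hY hAY, mem_bot] at h2
        have h4 : x⁻¹ * b * x = b := (inv_mul_eq_one.mp h2).symm
        calc b * x = x * (x⁻¹ * b * x) := by group
          _ = x * b := by rw [h4]
      rw [hPA, mem_bot] at hxC
      exact hxC
    have hinj0 : ∀ Y, IsHyp q K Y → A ≤ normalizer (Y : Set G) → ∀ x ∈ P, ∀ x' ∈ P,
        cj x Y = cj x' Y → x = x' := by
      intro Y hY hAY x hx x' hx' h
      have h1 : x'⁻¹ * x ∈ P ⊓ normalizer (Y : Set G) := by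
        refine ⟨P.mul_mem (P.inv_mem hx') hx, ?_⟩
        show _ ∈ normalizer (Y : Set G)
        rw [← cj_eq_self_iff, cj_mul, h, cj_inv_cj]
      rw [hclaim1 Y hY hAY, mem_bot] at h1
      exact (inv_mul_eq_one.mp h1).symm
    have hcl : ∀ Y, IsHyp q K Y → V ⊓ centralizer (Y : Set G) ≠ ⊥ → ∀ g,
        g ∈ normalizer (K : Set G) → g ∈ normalizer (V : Set G) →
        IsHyp q K (cj g Y) ∧ V ⊓ centralizer (cj g Y : Set G) ≠ ⊥ := by
      intro Y hY hne g hgK hgV
      refine ⟨hY.cj hgK, ?_⟩
      rw [cj_inf_centralizer hgV, Ne, cj_eq_bot_iff]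
      exact hne
    have hF8 : ∀ Y, IsHyp q K Y → V ⊓ centralizer (Y : Set G) ≠ ⊥ →
        ¬ A ≤ normalizer (Y : Set G) →
        Nat.card ↥(V ⊓ centralizer (Y : Set G)) = p ∧
        ∀ w : V, (w : G) ∈ centralizer (A : Set G) →
          ∃ v : V, (v : G) ∈ centralizer (Y : Set G) ∧ avg V A hAV v = w := by
      intro Y hY hne hmv
      have hfr := hfree Y hmv
      let f : ↥(V ⊓ centralizer (Y : Set G)) → ↥(V ⊓ centralizer (A : Set G)) := fun v =>
        ⟨((avg V A hAV ⟨v.1, v.2.1⟩ : V) : G),
          ⟨(avg V A hAV ⟨v.1, v.2.1⟩).2, avg_mem_centralizer V A hAV _⟩⟩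
      have hf : Function.Injective f := by
        intro v v' h
        have h1 : avg V A hAV ⟨v.1, v.2.1⟩ = avg V A hAV ⟨v'.1, v'.2.1⟩ := by
          apply Subtype.ext
          exact congrArg (fun w : ↥(V ⊓ centralizer (A : Set G)) => (w : G)) h
        have h2 : avg V A hAV (⟨v.1, v.2.1⟩ * ⟨v'.1, v'.2.1⟩⁻¹) = 1 := by
          rw [map_mul, map_inv, h1, mul_inv_cancel]
        have hmem : (((⟨v.1, v.2.1⟩ * ⟨v'.1, v'.2.1⟩⁻¹ : V)) : G) ∈ centralizer (Y : Set G) := by
          show (v : G) * (v' : G)⁻¹ ∈ centralizer (Y : Set G)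
          exact (centralizer _).mul_mem v.2.2 ((centralizer _).inv_mem v'.2.2)
        have h3 := eq_one_of_avg_eq_one V hq K hKab hKV hVK A hAV hAKn hVexp hKp hY hfr _ hmem h2
        have h4 : (v : G) * (v' : G)⁻¹ = 1 := congrArg (fun w : V => (w : G)) h3
        apply Subtype.ext
        exact mul_inv_eq_one.mp h4
      have hle1 : Nat.card ↥(V ⊓ centralizer (Y : Set G)) ≤
          Nat.card ↥(V ⊓ centralizer (A : Set G)) := Nat.card_le_card_of_injective f hf
      have hpg : IsPGroup p ↥(V ⊓ centralizer (Y : Set G)) := hVpg.to_le inf_le_left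
      obtain ⟨k, hk⟩ := IsPGroup.iff_card.mp hpg
      have hk1 : k ≠ 0 := by
        intro h0
        rw [h0, pow_zero] at hk
        exact hne (Subgroup.card_eq_one.mp hk)
      have hge : p ≤ Nat.card ↥(V ⊓ centralizer (Y : Set G)) := by
        rw [hk]
        exact Nat.le_self_pow hk1 p
      have hcard : Nat.card ↥(V ⊓ centralizer (Y : Set G)) = p :=
        le_antisymm (hle1.trans hVA) hge
      have hbij : Function.Bijective f := hf.bijective_of_nat_card_le (by rw [hcard]; exact hVA)
      refine ⟨hcard, ?_⟩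
      intro w hw
      obtain ⟨v, hv⟩ := hbij.2 ⟨w, ⟨w.2, hw⟩⟩
      refine ⟨⟨v.1, v.2.1⟩, v.2.2, ?_⟩
      apply Subtype.ext
      exact congrArg (fun w : ↥(V ⊓ centralizer (A : Set G)) => (w : G)) hv
    have hF9 : ∀ Y1, IsHyp q K Y1 → V ⊓ centralizer (Y1 : Set G) ≠ ⊥ →
        ¬ A ≤ normalizer (Y1 : Set G) →
        ∀ Y', IsHyp q K Y' → V ⊓ centralizer (Y' : Set G) ≠ ⊥ →
        ¬ A ≤ normalizer (Y' : Set G) → ∃ b ∈ A, cj b Y' = Y1 := by
      intro Y1 hY1 hne1 hmv1 Y' hY' hne' hmv'
      by_contra hcon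
      push Not at hcon
      obtain ⟨⟨v', hv'mem⟩, hv'1⟩ := (Subgroup.ne_bot_iff_exists_ne_one).mp hne'
      obtain ⟨v, hvY, hv⟩ := (hF8 Y1 hY1 hne1 hmv1).2 (avg V A hAV ⟨v', hv'mem.1⟩)
        (avg_mem_centralizer V A hAV _)
      have h1 := eq_one_of_avg_eq_avg V hq K hKab hKV hVK A hAV hAKn hVexp hKp hY1 hY'
        (hfree Y1 hmv1) hcon v ⟨v', hv'mem.1⟩ hvY hv'mem.2 hv
      rw [h1, map_one] at hv
      have h2 := eq_one_of_avg_eq_one V hq K hKab hKV hVK A hAV hAKn hVexp hKp hY'
        (hfree Y' hmv') ⟨v', hv'mem.1⟩ hv'mem.2 hv.symm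
      apply hv'1
      apply Subtype.ext
      exact congrArg (fun w : V => (w : G)) h2
    by_cases hall : ∀ Y, IsHyp q K Y → V ⊓ centralizer (Y : Set G) ≠ ⊥ →
        A ≤ normalizer (Y : Set G)
    · -- Case 1
      obtain ⟨Y, hY, hne⟩ := hex
      obtain ⟨⟨x, hx⟩, hx1⟩ := (Subgroup.ne_bot_iff_exists_ne_one).mp hP1
      have hx1' : x ≠ 1 := fun h => hx1 (Subtype.ext h)
      have h1 := hcl Y hY hne x (hPK hx) (hPV hx)
      exact hclaim2 Y hY (hall Y hY hne) x hx hx1' (hall _ h1.1 h1.2)
    · push Not at hall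
      obtain ⟨Y1, hY1, hne1, hmv1⟩ := hall
      by_cases hfix : ∃ Y0, IsHyp q K Y0 ∧ V ⊓ centralizer (Y0 : Set G) ≠ ⊥ ∧
          A ≤ normalizer (Y0 : Set G)
      · -- Case 2a
        obtain ⟨Y0, hY0, hne0, hAY0⟩ := hfix
        have hβ : ∀ x : P, x ≠ 1 → ∃ b : A, cj (b : G) (cj (x : G) Y0) = Y1 := by
          intro x hx1
          have h1 := hcl Y0 hY0 hne0 x (hPK x.2) (hPV x.2)
          have h2 := hclaim2 Y0 hY0 hAY0 x x.2 (fun h => hx1 (Subtype.ext h))
          obtain ⟨b, hb, hb'⟩ := hF9 Y1 hY1 hne1 hmv1 _ h1.1 h1.2 h2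
          exact ⟨⟨b, hb⟩, hb'⟩
        let φ : ↥P → Option ↥A := fun x =>
          if h : x = 1 then none else some (Classical.choose (hβ x h))
        have hφ : Function.Injective φ := by
          intro x x' h
          by_cases hx : x = 1
          · by_cases hx' : x' = 1
            · rw [hx, hx']
            · exfalso
              simp only [φ, dif_pos hx, dif_neg hx'] at h
              exact Option.some_ne_none _ h.symm
          · by_cases hx' : x' = 1
            · exfalso
              simp only [φ, dif_neg hx, dif_pos hx'] at h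
              exact Option.some_ne_none _ h
            · simp only [φ, dif_neg hx, dif_neg hx'] at h
              have hbb := Option.some.inj h
              have e1 := Classical.choose_spec (hβ x hx)
              have e2 := Classical.choose_spec (hβ x' hx')
              rw [hbb] at e1
              have e3 : cj (x : G) Y0 = cj (x' : G) Y0 := by
                have h5 := e1.trans e2.symm
                have h6 := congrArg (cj ((Classical.choose (hβ x' hx') : A) : G)⁻¹) h5
                rwa [cj_inv_cj, cj_inv_cj] at h6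
              exact Subtype.ext (hinj0 Y0 hY0 hAY0 x x.2 x' x'.2 e3)
        have hcard : Nat.card P ≤ Nat.card A + 1 := by
          have := Nat.card_le_card_of_injective φ hφ
          rwa [Finite.card_option] at this
        have hmod := card_modEq_one hA hAP hPA
        have hP1' : Nat.card P ≠ 1 := fun h => hP1 (Subgroup.card_eq_one.mp h)
        have hPpos : 0 < Nat.card P := Nat.card_pos
        have hdvd : Nat.card A ∣ Nat.card P - 1 :=
          (Nat.modEq_iff_dvd' (by omega)).mp hmod.symm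
        obtain ⟨t, ht⟩ := hdvd
        have ht1 : t = 1 := by
          have h1 : 1 ≤ t := by
            rcases Nat.eq_zero_or_pos t with h0 | h0
            · rw [h0, mul_zero] at ht
              omega
            · exact h0
          have h2 : Nat.card A * t ≤ Nat.card A * 1 := by
            rw [← ht, mul_one]
            omega
          have := Nat.le_of_mul_le_mul_left h2 hA.pos
          omega
        rw [ht1, mul_one] at ht
        obtain ⟨m, hm⟩ := IsPGroup.iff_card.mp hP
        have hodd : Odd (Nat.card P) := by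
          rw [hm]
          exact Odd.pow (hp.odd_of_ne_two hp2)
        have hoddA : Odd (Nat.card A) := hA.odd_of_ne_two hA2
        obtain ⟨k1, hk1⟩ := hodd
        obtain ⟨k2, hk2⟩ := hoddA
        omega
      · -- Case 2b
        push Not at hfix
        let HP := {Y : Subgroup G // IsHyp q K Y ∧ V ⊓ centralizer (Y : Set G) ≠ ⊥}
        letI : MulAction ↥P HP :=
          { smul := fun x Y => ⟨cj (x : G) Y.1, hcl Y.1 Y.2.1 Y.2.2 x (hPK x.2) (hPV x.2)⟩
            one_smul := fun Y => Subtype.ext (cj_one _)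
            mul_smul := fun x y Y => Subtype.ext (cj_mul _ _ _) }
        let ψ : ↥A → HP := fun b =>
          ⟨cj (b : G) Y1, hcl Y1 hY1 hne1 b (hAKn b.2) (hAV b.2)⟩
        have hψ : Function.Bijective ψ := by
          constructor
          · intro b b' h
            have h1 : cj (b : G) Y1 = cj (b' : G) Y1 := congrArg Subtype.val h
            have h2 : cj ((b' : G)⁻¹ * b) Y1 = Y1 := by
              rw [cj_mul, h1, cj_inv_cj]
            by_contra hne
            exact hfree Y1 hmv1 _ (A.mul_mem (A.inv_mem b'.2) b.2)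
              (fun h => hne (Subtype.ext (inv_mul_eq_one.mp h).symm)) h2
          · rintro ⟨Y, hY, hneY⟩
            obtain ⟨b, hb, hb'⟩ := hF9 Y hY hneY (hfix Y hY hneY) Y1 hY1 hne1 hmv1
            exact ⟨⟨b, hb⟩, Subtype.ext hb'⟩
        have hcardHP : Nat.card HP = Nat.card A := (Nat.card_eq_of_bijective ψ hψ).symm
        have hnd : ¬ p ∣ Nat.card HP := by
          rw [hcardHP]
          intro h
          exact hAp ((Nat.prime_dvd_prime_iff_eq hp hA).mp h).symm
        obtain ⟨Y2, hY2⟩ := hP.nonempty_fixed_point_of_prime_not_dvd_card HP hnd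
        have hPY2 : P ≤ normalizer (Y2.1 : Set G) := by
          intro x hx
          rw [← cj_eq_self_iff]
          exact congrArg Subtype.val (hY2 ⟨x, hx⟩)
        have hPall : ∀ Y, IsHyp q K Y → V ⊓ centralizer (Y : Set G) ≠ ⊥ →
            P ≤ normalizer (Y : Set G) := by
          intro Y hY hneY
          obtain ⟨b, hb, hb'⟩ := hF9 Y hY hneY (hfix Y hY hneY) Y2.1 Y2.2.1 Y2.2.2
            (hfix _ Y2.2.1 Y2.2.2)
          rw [← hb', normalizer_cj]
          intro x hx
          rw [mem_cj]
          apply hPY2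
          have := ((mem_normalizer_iff.mp (hAP (A.inv_mem hb))) x).mp hx
          simpa using this
        have hPcent : P ≤ centralizer (V : Set G) := by
          rw [le_centralizer_iff]
          apply hVle
          intro Y hY hneY
          rw [← le_centralizer_iff]
          apply le_centralizer_of_card_eq_prime hP (hF8 Y hY hneY (hfix Y hY hneY)).1
          intro x hx
          rw [← cj_eq_self_iff, ← cj_inf_centralizer (hPV hx),
            cj_eq_self_of_mem (hPall Y hY hneY hx)]
        apply hP1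
        rw [eq_bot_iff, ← hfaith]
        exact le_inf le_sup_right hPcent

end Cfsg.Agent.Lib.Helper24.BG36Ab
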