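/- helper24: STRUCTURE part of the (P)-kill, phase 1b (with the sigma-partition SP): uniqueness of the partner H of X le E (prime order), |X'| in sigma(H) => N(X') le H, primes of E outside sigma(H) are in kappa(H) minus tau2(H), C_G(a) le H for a in (E inf H_sigma)^#. -/
import Mathlib
import Cfsg.Agent.Lib.Helper24.BGPStrA
import Cfsg.Agent.Lib.Helper9.BG144A
import Cfsg.Agent.S1404
import Cfsg.Agent.S1420
import Cfsg.Agent.S1350

set_option autoImplicit false
set_option linter.style.haveILetI false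
set_option linter.unusedSectionVars false
open scoped commutatorElement

namespace Cfsg.Agent.Lib.Helper24.BGPStr

open Cfsg.Agent.Lib.Helper17.BGC2 (CaseII FaithfulPair)
open Cfsg.Agent.Lib.Helper17.BGR2 (H1428)
open Cfsg.Agent.Lib.Helper2.BGCor (sigmaCore_le primes_card_sigmaCore conj_mem_sigmaCore)
open Cfsg.Agent.Lib.Helper24.BGC2T (TypeP)
open Cfsg.Agent.Lib.Helper24.BGC2C (exists_generator_of_prime_card)
open Cfsg.Agent.Lib.Helper24.BGReg (h17n h18a h23 h24)
open Cfsg.Agent.Lib.Helper8 (mem_map_conj conj_mem_map_conj map_conj_map_conj map_conj_one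
  map_conj_le_iff map_conj_eq_iff card_map_conj mem_normalizer_iff_map_conj)
open Cfsg.Agent.Lib.Helper9.BG144 (SP)

universe u

variable {G : Type u} [Group G] [Finite G] {M E E1 E3 : Subgroup G}

/-! ### generic lemmas -/

/-- two subgroups of prime order normalizing each other commute elementwise. -/
theorem comm_of_normalize_prime {X X' : Subgroup G} (hXp : (Nat.card X).Prime)
    (hX'p : (Nat.card X').Prime) (h1 : X' ≤ Subgroup.normalizer (X : Set G))
    (h2 : X ≤ Subgroup.normalizer (X' : Set G)) {a b : G} (ha : a ∈ X) (hb : b ∈ X') :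
    a * b = b * a := by
  by_cases hXX : X = X'
  · subst hXX
    haveI : Fact (Nat.card X).Prime := ⟨hXp⟩
    haveI : IsCyclic X := isCyclic_of_prime_card rfl
    have h3 : (⟨a, ha⟩ : X) * ⟨b, hb⟩ = ⟨b, hb⟩ * ⟨a, ha⟩ :=
      (IsCyclic.isMulCommutative (α := X)).is_comm.comm _ _
    exact congrArg Subtype.val h3
  · have hinf : X ⊓ X' = ⊥ := by
      by_contra hne
      have hd : Nat.card ↥(X ⊓ X') ∣ Nat.card X := Subgroup.card_dvd_of_le inf_le_left
      have hd' : Nat.card ↥(X ⊓ X') ∣ Nat.card X' := Subgroup.card_dvd_of_le inf_le_right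
      have hc1 : Nat.card ↥(X ⊓ X') ≠ 1 := fun h => hne (Subgroup.card_eq_one.mp h)
      have e1 : Nat.card ↥(X ⊓ X') = Nat.card X := ((Nat.dvd_prime hXp).mp hd).resolve_left hc1
      have e2 : Nat.card ↥(X ⊓ X') = Nat.card X' := ((Nat.dvd_prime hX'p).mp hd').resolve_left hc1
      have i1 : X ⊓ X' = X := Subgroup.eq_of_le_of_card_ge inf_le_left e1.ge
      have i2 : X ⊓ X' = X' := Subgroup.eq_of_le_of_card_ge inf_le_right e2.ge
      exact hXX (i1.symm.trans i2)
    have hc : a * b * a⁻¹ * b⁻¹ ∈ X ⊓ X' := by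
      refine Subgroup.mem_inf.mpr ⟨?_, ?_⟩
      · have hb' : b ∈ Subgroup.normalizer (X : Set G) := h1 hb
        have : b * a⁻¹ * b⁻¹ ∈ X := (Subgroup.mem_normalizer_iff.mp hb' a⁻¹).mp (X.inv_mem ha)
        have h4 : a * b * a⁻¹ * b⁻¹ = a * (b * a⁻¹ * b⁻¹) := by group
        rw [h4]
        exact X.mul_mem ha this
      · have ha' : a ∈ Subgroup.normalizer (X' : Set G) := h2 ha
        have : a * b * a⁻¹ ∈ X' := (Subgroup.mem_normalizer_iff.mp ha' b).mp hb
        exact X'.mul_mem this (X'.inv_mem hb)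
    rw [hinf, Subgroup.mem_bot] at hc
    calc a * b = (a * b * a⁻¹ * b⁻¹) * (b * a) := by group
      _ = b * a := by rw [hc, one_mul]

/-- a coatom `H'` sharing a prime `p` of `σ` with `H` and containing `X C_G(X)` for a nontrivial
`p`-subgroup `X ≤ H` is `H` (`σ`-partition + S1404). -/
theorem coatom_eq_of_sigma (hG : Cfsg.IsMinSimpleOddOrder G) (hSP : SP G) {H H' : Subgroup G}
    (hH : IsCoatom H) (hH' : IsCoatom H') {p : ℕ} (hp : p.Prime) (hpH : p ∈ Cfsg.sigma H)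
    (hpH' : p ∈ Cfsg.sigma H') {X : Subgroup G} (hXp : IsPGroup p X) (hX1 : X ≠ ⊥)
    (hXH : X ≤ H) (hXH' : X ≤ H') (hC : Subgroup.centralizer (X : Set G) ≤ H') : H' = H := by
  haveI : Fact p.Prime := ⟨hp⟩
  obtain ⟨g, hg⟩ := hSP H H' hH hH' ⟨p, hpH, hpH'⟩
  have h1 : X.map (MulAut.conj g⁻¹).toMonoidHom ≤ H := by
    rw [map_conj_le_iff, inv_inv, ← hg]
    exact hXH'
  obtain ⟨m, hm, c, hc, hgmc⟩ :=
    (Cfsg.Agent.S1404.result hG H hH p hpH X hXp hX1 hXH).1 g⁻¹ h1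
  have hcH' : c ∈ H' := hC hc
  have hg' : g = c⁻¹ * m⁻¹ := by
    have : g = (g⁻¹)⁻¹ := (inv_inv g).symm
    rw [this, hgmc]
    group
  have hle : H ≤ H' := by
    intro h hh
    have h2 : g * (m * h * m⁻¹) * g⁻¹ ∈ H' := by
      rw [hg]
      exact conj_mem_map_conj (H.mul_mem (H.mul_mem hm hh) (H.inv_mem hm))
    have h3 : g * (m * h * m⁻¹) * g⁻¹ = c⁻¹ * h * c := by
      rw [hg']
      group
    rw [h3] at h2
    have : h = c * (c⁻¹ * h * c) * c⁻¹ := by group
    rw [this]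
    exact H'.mul_mem (H'.mul_mem hcH' h2) (H'.inv_mem hcH')
  exact (Cfsg.Agent.Lib.Helper17.BGU.coatom_eq_of_le hH hH' hle).symm

/-! ### Phase 1b: the partner again, now with the `σ`-partition -/

section partner

variable (t : TypeP M E E1 E3) (hSP : SP G) {X H : Subgroup G} (hXE : X ≤ E)
  (hXp : (Nat.card X).Prime) (hH : IsCoatom H) (hNH : Subgroup.normalizer (X : Set G) ≤ H)

include t hSP hXE hXp hH hNH

/-- the partner is unique. -/
theorem partner_unique {H' : Subgroup G} (hH' : IsCoatom H')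
    (hNH' : Subgroup.normalizer (X : Set G) ≤ H') : H' = H :=
  coatom_eq_of_sigma t.c.hG hSP hH hH' hXp (card_mem_sigma_H t hXE hXp hH hNH)
    (card_mem_sigma_H t hXE hXp hH' hNH') (isPGroup_X t hXE hXp) (X_ne_bot t hXE hXp)
    (Subgroup.le_normalizer.trans hNH) (Subgroup.le_normalizer.trans hNH')
    ((Subgroup.centralizer_le_normalizer _).trans hNH')

/-- if `|X'| ∈ σ(H)` then `H` is also the partner of `X'`. -/
theorem normalizer_le_of_mem_sigma {X' : Subgroup G} (hX'E : X' ≤ E)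
    (hX'p : (Nat.card X').Prime) (hs : Nat.card X' ∈ Cfsg.sigma H) :
    Subgroup.normalizer (X' : Set G) ≤ H := by
  have hG := t.c.hG
  haveI : IsSimpleGroup G := hG.2.1
  have hX'1 := X_ne_bot t hX'E hX'p
  have hX'top : X' ≠ ⊤ := fun h0 => t.c.hM.1 (top_le_iff.mp (h0 ▸ X_le_M t hX'E hX'p))
  obtain ⟨H', hH', hNH'⟩ := Cfsg.Agent.Lib.Helper17.BGU.exists_coatom_ge
    (Cfsg.Agent.Lib.Helper17.BGU.normalizer_ne_top hX'1 hX'top)
  have h1 : H' = H := coatom_eq_of_sigma hG hSP hH hH' hX'p hs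
    (card_mem_sigma_H t hX'E hX'p hH' hNH') (isPGroup_X t hX'E hX'p) hX'1
    (hX'E.trans (E_le_H t hXE hXp hNH)) (Subgroup.le_normalizer.trans hNH')
    ((Subgroup.centralizer_le_normalizer _).trans hNH')
  rw [← h1]
  exact hNH'

/-- elements of prime order of `E` commute with the elements of `X`. -/
theorem comm_X {X' : Subgroup G} (hX'E : X' ≤ E) (hX'p : (Nat.card X').Prime) {a b : G}
    (ha : a ∈ X) (hb : b ∈ X') : a * b = b * a :=
  comm_of_normalize_prime hXp hX'p (hX'E.trans (t.le_normalizer_prime hXE hXp))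
    (hXE.trans (t.le_normalizer_prime hX'E hX'p)) ha hb

/-- the primes of `E` outside `σ(H)` are not in `τ₂(H)`. -/
theorem not_tau2_H {X' : Subgroup G} (hX'E : X' ≤ E) (hX'p : (Nat.card X').Prime)
    (hs : Nat.card X' ∉ Cfsg.sigma H) : Nat.card X' ∉ Cfsg.tau2 H := by
  intro hτ
  have hG := t.c.hG
  haveI : IsSimpleGroup G := hG.2.1
  obtain ⟨x, hxX, hx1, -, -⟩ := exists_generator_of_prime_card hXp rfl
  obtain ⟨x', hx'X, hx'1, hx'o, hx'z⟩ := exists_generator_of_prime_card hX'p rfl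
  obtain ⟨EH, hEH⟩ := Cfsg.Agent.Lib.Helper2.BGCor.exists_compl_sigmaCore
    (Cfsg.Agent.S1350.result hG H hH).1
  have hx'H : x' ∈ H := E_le_H t hXE hXp hNH (hX'E hx'X)
  have hhat : x' ∈ Cfsg.sigmaHat H :=
    ⟨hx'H, x, X_le_sigmaCore_H t hXE hXp hH hNH hxX, hx1,
      (comm_X t hSP hXE hXp hH hNH hX'E hX'p hxX hx'X).symm⟩
  have hprimes : ∀ p : ℕ, p.Prime → p ∣ orderOf x' → p ∈ Cfsg.tau2 H := by
    intro p hp hpd
    rw [hx'o] at hpd
    rw [(Nat.prime_dvd_prime_iff_eq hp hX'p).mp hpd]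
    exact hτ
  have h20 := ((Cfsg.Agent.S1420.result hG H hH EH hEH).2.2.2 x' hx'H hx'1 hprimes hhat).2
  -- the partner of `X'`
  have hX'1 := X_ne_bot t hX'E hX'p
  have hX'top : X' ≠ ⊤ := fun h0 => t.c.hM.1 (top_le_iff.mp (h0 ▸ X_le_M t hX'E hX'p))
  obtain ⟨H', hH', hNH'⟩ := Cfsg.Agent.Lib.Helper17.BGU.exists_coatom_ge
    (Cfsg.Agent.Lib.Helper17.BGU.normalizer_ne_top hX'1 hX'top)
  have hcent : Subgroup.centralizer ({x'} : Set G) ≤ H' := by
    rw [Cfsg.Agent.Lib.Helper24.BG36Nab.centralizer_singleton_eq_of_prime_card hX'p hx'X hx'1]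
    exact (Subgroup.centralizer_le_normalizer _).trans hNH'
  have h1 : H' = H := h20 H' hH' hcent
  apply hs
  rw [← h1]
  exact card_mem_sigma_H t hX'E hX'p hH' hNH'

/-- the primes of `E` outside `σ(H)` are in `κ(H)`. -/
theorem mem_kappa_H' {X' : Subgroup G} (hX'E : X' ≤ E) (hX'p : (Nat.card X').Prime)
    (hs : Nat.card X' ∉ Cfsg.sigma H) : Nat.card X' ∈ Cfsg.kappa H := by
  have hG := t.c.hG
  obtain ⟨x, hxX, hx1, -, -⟩ := exists_generator_of_prime_card hXp rfl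
  obtain ⟨x', hx'X, hx'1, hx'o, hx'z⟩ := exists_generator_of_prime_card hX'p rfl
  have hrk : Cfsg.PRankLE (Nat.card X') 1 ↥H := by
    by_contra hr
    exact not_tau2_H t hSP hXE hXp hH hNH hX'E hX'p hs
      (Cfsg.Agent.Lib.Helper23.BGY.mem_tau2_of_not_rank_one hG hH hX'p hs hr)
  exact Cfsg.Agent.Lib.Helper24.BGReg.mem_kappa_of_fixed hG hX'p hs hrk
    (E_le_H t hXE hXp hNH (hX'E hx'X)) hx'o (X_le_sigmaCore_H t hXE hXp hH hNH hxX) hx1
    (comm_X t hSP hXE hXp hH hNH hX'E hX'p hxX hx'X).symm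

/-- `C_G(a) ≤ H` for `a ∈ (E ∩ H_σ)^#`. -/
theorem centralizer_le_H {a : G} (haE : a ∈ E) (haH : a ∈ Cfsg.sigmaCore H) (ha1 : a ≠ 1) :
    Subgroup.centralizer ({a} : Set G) ≤ H := by
  obtain ⟨j, hj⟩ := Cfsg.Agent.Lib.Helper2.BGCor.exists_pow_prime_order ha1
  have hYE : Subgroup.zpowers (a ^ j) ≤ E := Subgroup.zpowers_le.mpr (E.pow_mem haE j)
  have hYH : Subgroup.zpowers (a ^ j) ≤ Cfsg.sigmaCore H :=
    Subgroup.zpowers_le.mpr (Subgroup.pow_mem _ haH j)
  have hs : Nat.card (Subgroup.zpowers (a ^ j)) ∈ Cfsg.sigma H :=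
    primes_card_sigmaCore H _ hj (Subgroup.card_dvd_of_le hYH)
  have hN := normalizer_le_of_mem_sigma t hSP hXE hXp hH hNH hYE hj hs
  refine le_trans ?_ ((Subgroup.centralizer_le_normalizer _).trans hN)
  intro x hx
  rw [Subgroup.mem_centralizer_iff]
  intro y hy
  obtain ⟨k, rfl⟩ := Subgroup.mem_zpowers_iff.mp hy
  have h1 : Commute x a := Subgroup.mem_centralizer_singleton_iff.mp hx
  exact ((h1.pow_right j).zpow_right k).eq.symm

end partner

end Cfsg.Agent.Lib.Helper24.BGPStr
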