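/- helper24: definition-level facts on the types I-V of maximal subgroups (Prelude Def_OddOrderLocal):
type P data excludes Frobenius type (`not_typeF_of_typeP`), Type II excludes Types I, III, IV
(`not_I_of_II`, `not_III_IV_of_II`), type-P data are conjugate under the derived subgroup (`typeP_data_conj`),
and the self-normalizing cyclic pair gives a TI-set in elementwise form (`sn_conj_mem`). -/
import Mathlib
import Cfsg.Prelude.Def_OddOrderLocal
import Cfsg.Agent.Lib.Helper9.TypeP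
import Cfsg.Agent.Lib.Helper1.Coprime
import Cfsg.Agent.Lib.Helper24.BG153A
import Cfsg.Agent.Lib.Helper16.BGTyB

set_option autoImplicit false
set_option linter.unusedSectionVars false
set_option linter.unusedVariables false
set_option linter.style.haveILetI false

open scoped Pointwise

namespace Cfsg.Agent.Lib.Helper24.BGTyX

open Cfsg.Agent.Lib.Helper9 (isComplIn_card_mul_card card_fittingHallOf fittingHall_coprime
  fittingHall_isNilpotent le_normalizer_fittingHallOf typeP_coprime_card_U)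
open Cfsg.Agent.Lib.Helper1 (mem_conj_smul_iff card_conj_smul)

universe u

variable {G : Type u} [Group G] [Finite G] {M W₁ U W₂ : Subgroup G}

/-- conversion between the two internal-complement predicates. -/
theorem h1_of_cfsg {K A Γ : Subgroup G} (h : Cfsg.IsComplIn K A Γ) :
    Cfsg.Agent.Lib.Helper1.IsComplIn K A Γ := by
  refine ⟨h.1, h.2.1, disjoint_iff.mpr h.2.2.1, fun γ hγ => ?_⟩
  obtain ⟨a, ha, b, hb, e⟩ := h.2.2.2 γ hγ
  exact ⟨a, ha, b, hb, e.symm⟩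

theorem typeP_W₁_le (hP : Cfsg.IsTypePWith M W₁ U W₂) : W₁ ≤ M := hP.W₁_compl.2.1

theorem typeP_card (hP : Cfsg.IsTypePWith M W₁ U W₂) :
    Nat.card ↥⁅M, M⁆ * Nat.card W₁ = Nat.card M := isComplIn_card_mul_card hP.W₁_compl

theorem typeP_relIndex (hP : Cfsg.IsTypePWith M W₁ U W₂) :
    W₁.relIndex M = Nat.card ↥⁅M, M⁆ := by
  have h1 : Nat.card W₁ * W₁.relIndex M = Nat.card M :=
    Cfsg.Agent.Lib.Helper4.card_mul_relIndex (typeP_W₁_le hP)
  have h2 := typeP_card hP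
  have hpos : 0 < Nat.card W₁ := Nat.card_pos
  have : Nat.card W₁ * W₁.relIndex M = Nat.card W₁ * Nat.card ↥⁅M, M⁆ := by
    rw [h1, ← h2, mul_comm]
  exact Nat.eq_of_mul_eq_mul_left hpos this

theorem typeP_coprime_W₁ (hP : Cfsg.IsTypePWith M W₁ U W₂) :
    (Nat.card W₁).Coprime (Nat.card ↥⁅M, M⁆) := by
  rw [← typeP_relIndex hP]; exact hP.W₁_hall

theorem typeP_W₂_ne (hP : Cfsg.IsTypePWith M W₁ U W₂) : W₂ ≠ ⊥ := hP.selfNormalizing.2.1

/-- **Type P excludes Frobenius type.** -/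
theorem not_typeF_of_typeP (hP : Cfsg.IsTypePWith M W₁ U W₂) : ¬ Cfsg.IsOfTypeF ↥M := by
  rintro ⟨-, -, -, -, UF, -, hcompl, -, ⟨U₀, hU₀, hexp, hreg⟩⟩
  have hW₁1 : Nat.card W₁ ≠ 1 := fun h => hP.W₁_ne (Subgroup.card_eq_one.mp h)
  obtain ⟨r, hr, hrW⟩ := Nat.exists_prime_and_dvd hW₁1
  haveI : Fact r.Prime := ⟨hr⟩
  have hW₁M : W₁ ≤ M := typeP_W₁_le hP
  have hcopW := typeP_coprime_W₁ hP
  have hHM' : Cfsg.fittingHallOf M ≤ ⁅M, M⁆ := hP.U_compl.1
  have hrH : ¬ r ∣ Nat.card (Cfsg.fittingHall ↥M) := by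
    rw [← card_fittingHallOf]
    intro h
    have h1 : r ∣ Nat.card ↥⁅M, M⁆ := h.trans (Subgroup.card_dvd_of_le hHM')
    have h2 : r ∣ 1 := by
      have := Nat.dvd_gcd hrW h1
      rwa [Nat.Coprime.gcd_eq_one hcopW] at this
    exact hr.one_lt.ne' (Nat.dvd_one.mp h2)
  have hcardM : Nat.card (Cfsg.fittingHall ↥M) * Nat.card UF = Nat.card ↥M := hcompl.card_mul_card
  have hrM : r ∣ Nat.card ↥M := hrW.trans (Subgroup.card_dvd_of_le hW₁M)
  have hrUF : r ∣ Nat.card UF := by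
    rw [← hcardM] at hrM
    exact ((Nat.Prime.dvd_mul hr).mp hrM).resolve_left hrH
  obtain ⟨u, hu⟩ := exists_prime_orderOf_dvd_card' r hrUF
  have hrexp : r ∣ Monoid.exponent ↥UF := hu ▸ Monoid.order_dvd_exponent u
  rw [← hexp] at hrexp
  have hrU₀ : r ∣ Nat.card U₀ := hrexp.trans Group.exponent_dvd_nat_card
  obtain ⟨u₀, hu₀⟩ := exists_prime_orderOf_dvd_card' r hrU₀
  -- `v : ↥M` of order `r` in `U₀`
  set v : ↥M := (u₀ : ↥M) with hv
  have hvo : orderOf v = r := by rw [hv, Subgroup.orderOf_coe]; exact hu₀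
  have hv1 : v ≠ 1 := by
    intro h
    rw [h, orderOf_one] at hvo
    exact hr.one_lt.ne hvo
  -- Sylow `r`-subgroup of `M` inside `W₁`
  obtain ⟨S, hS⟩ := Cfsg.Agent.Lib.Helper24.BG153.exists_sylow_map_le_of_hall hW₁M hP.W₁_hall hrW
  have hvp : IsPGroup r (Subgroup.zpowers v) := by
    rw [IsPGroup.iff_card]
    exact ⟨1, by rw [Nat.card_zpowers, hvo, pow_one]⟩
  obtain ⟨P, hP'⟩ := hvp.exists_le_sylow
  obtain ⟨g, hg⟩ := MulAction.exists_smul_eq ↥M P S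
  have hgv : g * v * g⁻¹ ∈ (S : Subgroup ↥M) := by
    rw [← hg, Sylow.coe_subgroup_smul, mem_conj_smul_iff]
    have e : g⁻¹ * (g * v * g⁻¹) * g = v := by group
    rw [e]
    exact hP' (Subgroup.mem_zpowers v)
  -- `x = g v g⁻¹` is a nonidentity element of `W₁`
  set x : G := ((g * v * g⁻¹ : ↥M) : G) with hx
  have hxW : x ∈ W₁ := hS (Subgroup.mem_map_of_mem M.subtype hgv)
  have hx1 : x ≠ 1 := by
    intro h
    apply hv1
    have h2 : g * v * g⁻¹ = 1 := Subtype.ext h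
    have : v = g⁻¹ * (g * v * g⁻¹) * g := by group
    rw [this, h2]; group
  have hcent := hP.W₂_centralizer x hxW hx1
  obtain ⟨z, hz1⟩ := (Subgroup.ne_bot_iff_exists_ne_one).mp (typeP_W₂_ne hP)
  have hzW₂ : (z : G) ∈ W₂ := z.2
  have hzH : (z : G) ∈ Cfsg.fittingHallOf M := (hP.W₂_le hzW₂).1
  have hzC : (z : G) ∈ Subgroup.centralizer ({x} : Set G) := by
    have : (z : G) ∈ ⁅M, M⁆ ⊓ Subgroup.centralizer ({x} : Set G) := by rw [hcent]; exact hzW₂
    exact this.2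
  rw [Subgroup.mem_centralizer_singleton_iff] at hzC
  -- pull back to `↥M`
  obtain ⟨z', hz'H, hz'⟩ := hzH
  have hz'1 : z' ≠ 1 := by
    intro h
    apply hz1
    apply Subtype.ext
    rw [← hz', h]; rfl
  have hcomm : z' * (g * v * g⁻¹) = (g * v * g⁻¹) * z' := by
    apply Subtype.ext
    have h1 : ((z' * (g * v * g⁻¹) : ↥M) : G) = (z : G) * x := by
      rw [Subgroup.coe_mul, hx]; congr 1
    have h2 : (((g * v * g⁻¹) * z' : ↥M) : G) = x * (z : G) := by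
      rw [Subgroup.coe_mul, hx]; congr 1
    rw [h1, h2]; exact hzC
  -- `y = g⁻¹ z' g ∈ M_F` commutes with `v`
  have hyH : g⁻¹ * z' * g ∈ Cfsg.fittingHall ↥M := by
    have := (inferInstance : (Cfsg.fittingHall ↥M).Normal).conj_mem z' hz'H g⁻¹
    rwa [inv_inv] at this
  have hy1 : g⁻¹ * z' * g ≠ 1 := by
    intro h
    apply hz'1
    have : z' = g * (g⁻¹ * z' * g) * g⁻¹ := by group
    rw [this, h]; group
  have hvy : v * (g⁻¹ * z' * g) = (g⁻¹ * z' * g) * v := by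
    calc v * (g⁻¹ * z' * g) = g⁻¹ * ((g * v * g⁻¹) * z') * g := by group
      _ = g⁻¹ * (z' * (g * v * g⁻¹)) * g := by rw [hcomm]
      _ = (g⁻¹ * z' * g) * v := by group
  exact hy1 (hreg v u₀.2 hv1 _ hyH hvy)

/-! ### conjugacy of type-P data and exclusivity of the types -/

open Cfsg.Agent.Lib.Helper8 (mem_map_conj conj_mem_map_conj mem_normalizer_iff_map_conj)
open Cfsg.Agent.Lib.Helper8.BGEx (cj cj_eq_self_of_mem cj_mono normalizer_cj)

/-- `M` normalizes its derived subgroup (as subgroups of `G`). -/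
theorem le_normalizer_commutator_self (M : Subgroup G) :
    M ≤ Subgroup.normalizer ((⁅M, M⁆ : Subgroup G) : Set G) := by
  intro m hm
  rw [mem_normalizer_iff_map_conj, Subgroup.map_commutator]
  have : M.map (MulAut.conj m).toMonoidHom = M := cj_eq_self_of_mem hm
  rw [this]

theorem conj_mem_commutator_self {M : Subgroup G} {m a : G} (hm : m ∈ M) (ha : a ∈ ⁅M, M⁆) :
    m * a * m⁻¹ ∈ ⁅M, M⁆ :=
  (Subgroup.mem_normalizer_iff.mp (le_normalizer_commutator_self M hm) a).mp ha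

theorem conj_mem_fittingHallOf {M : Subgroup G} {m a : G} (hm : m ∈ M)
    (ha : a ∈ Cfsg.fittingHallOf M) : m * a * m⁻¹ ∈ Cfsg.fittingHallOf M :=
  (Subgroup.mem_normalizer_iff.mp (le_normalizer_fittingHallOf M hm) a).mp ha

/-- **Type II excludes Types III and IV**: the complements `U` of `M_F` in `M'` are conjugate under
`M_F`, so `N_G(U) ≤ M` does not depend on the choice of the type-P data. -/
theorem not_III_IV_of_II (hII : Cfsg.IsOfTypeII M) :
    ¬ (Cfsg.IsOfTypeIII M ∨ Cfsg.IsOfTypeIV M) := by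
  obtain ⟨W₁, U, W₂, hP, -, -, -, -, hN, -, -⟩ := hII
  intro h
  have h' : ∃ W₁' U' W₂' : Subgroup G, Cfsg.IsTypePWith M W₁' U' W₂' ∧
      Subgroup.normalizer (U' : Set G) ≤ M := by
    rcases h with ⟨W₁', U', W₂', hP', -, -, -, -, hN'⟩ | ⟨W₁', U', W₂', hP', -, -, -, -, hN'⟩
    · exact ⟨W₁', U', W₂', hP', hN'⟩
    · exact ⟨W₁', U', W₂', hP', hN'⟩
  obtain ⟨W₁', U', W₂', hP', hN'⟩ := h'
  obtain ⟨k, hk, hkU⟩ := Cfsg.Agent.Lib.Helper16.BGTy.exists_cj_eq_of_isComplIn_fittingHallOf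
    (Subgroup.commutator_le_self M) hP.U_compl hP'.U_compl
  have hkM : k ∈ M := Cfsg.Agent.Lib.Helper16.BGTy.fittingHallOf_le M hk
  apply hN
  rw [← hkU, normalizer_cj]
  calc cj k (Subgroup.normalizer (U' : Set G)) ≤ cj k M := cj_mono hN'
    _ = M := cj_eq_self_of_mem hkM

/-- Type II is not Type I. -/
theorem not_I_of_II (hII : Cfsg.IsOfTypeII M) : ¬ Cfsg.IsOfTypeI M := by
  obtain ⟨W₁, U, W₂, hP, -⟩ := hII
  exact fun hI => not_typeF_of_typeP hP hI.1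

/-- type P is not Type I. -/
theorem not_I_of_typeP (hP : Cfsg.IsTypePWith M W₁ U W₂) : ¬ Cfsg.IsOfTypeI M :=
  fun hI => not_typeF_of_typeP hP hI.1

/-- **Conjugacy of type-P data**: `W₁` is determined up to conjugacy under `M'` (Schur-Zassenhaus),
and `W₂ = C_{M'}(x)`, `x ∈ W₁^#`, follows. -/
theorem typeP_data_conj {W₁' U' W₂' : Subgroup G} (hP : Cfsg.IsTypePWith M W₁ U W₂)
    (hP' : Cfsg.IsTypePWith M W₁' U' W₂') :
    ∃ k ∈ ⁅M, M⁆, W₁' = cj k W₁ ∧ W₂' = cj k W₂ := by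
  have hsolv : Group.IsSolvable ↥W₁' := by
    haveI := hP'.W₁_cyclic
    letI : CommGroup ↥W₁' := IsCyclic.commGroup
    infer_instance
  obtain ⟨k, hk, hkW⟩ := Cfsg.Agent.Lib.Helper1.internal_sz_conj
    (le_normalizer_commutator_self M) (h1_of_cfsg hP'.W₁_compl) (h1_of_cfsg hP.W₁_compl)
    (typeP_coprime_W₁ hP').symm (Or.inr hsolv)
  have hkM : k ∈ M := Subgroup.commutator_le_self M hk
  have hW₁eq : W₁' = cj k W₁ := by
    rw [← hkW]
    ext x
    rw [mem_map_conj, mem_conj_smul_iff]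
  refine ⟨k, hk, hW₁eq, ?_⟩
  obtain ⟨x, hx1⟩ := (Subgroup.ne_bot_iff_exists_ne_one).mp hP.W₁_ne
  have hxW : (x : G) ∈ W₁ := x.2
  have hx1' : (x : G) ≠ 1 := fun h => hx1 (Subtype.ext h)
  have hx'W : k * (x : G) * k⁻¹ ∈ W₁' := by rw [hW₁eq]; exact conj_mem_map_conj hxW
  have hx'1 : k * (x : G) * k⁻¹ ≠ 1 := by
    intro h
    apply hx1'
    have : (x : G) = k⁻¹ * (k * (x : G) * k⁻¹) * k := by group
    rw [this, h]; group
  rw [← hP'.W₂_centralizer _ hx'W hx'1, ← hP.W₂_centralizer _ hxW hx1']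
  ext y
  rw [mem_map_conj, Subgroup.mem_inf, Subgroup.mem_inf, Subgroup.mem_centralizer_singleton_iff,
    Subgroup.mem_centralizer_singleton_iff]
  constructor
  · rintro ⟨hy, hc⟩
    refine ⟨?_, ?_⟩
    · have := conj_mem_commutator_self (M.inv_mem hkM) hy
      rwa [inv_inv] at this
    · calc k⁻¹ * y * k * (x : G) = k⁻¹ * (y * (k * (x : G) * k⁻¹)) * k := by group
        _ = k⁻¹ * ((k * (x : G) * k⁻¹) * y) * k := by rw [hc]
        _ = (x : G) * (k⁻¹ * y * k) := by group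
  · rintro ⟨hy, hc⟩
    refine ⟨?_, ?_⟩
    · have := conj_mem_commutator_self hkM hy
      have e : k * (k⁻¹ * y * k) * k⁻¹ = y := by group
      rwa [e] at this
    · calc y * (k * (x : G) * k⁻¹) = k * ((k⁻¹ * y * k) * (x : G)) * k⁻¹ := by group
        _ = k * ((x : G) * (k⁻¹ * y * k)) * k⁻¹ := by rw [hc]
        _ = k * (x : G) * k⁻¹ * y := by group

/-! ### the self-normalizing cyclic pair: `Ŵ = W \ (W₁ ∪ W₂)` is TI with normalizer `W` -/

/-- in a finite cyclic group, an element whose order divides the order of a subgroup lies in it. -/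
theorem mem_of_orderOf_dvd_of_isCyclic {C : Type*} [Group C] [Finite C] [IsCyclic C]
    (A : Subgroup C) {y : C} (hy : orderOf y ∣ Nat.card A) : y ∈ A := by
  classical
  haveI := Fintype.ofFinite C
  set n := Nat.card A with hn
  have hn0 : 0 < n := Nat.card_pos
  have hle := IsCyclic.card_pow_eq_one_le (α := C) hn0
  have hsub : (Finset.univ.filter (fun a : C => a ∈ A)) ⊆
      Finset.univ.filter (fun a : C => a ^ n = 1) := by
    intro a ha
    simp only [Finset.mem_filter, Finset.mem_univ, true_and] at ha ⊢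
    have h1 : (⟨a, ha⟩ : ↥A) ^ Nat.card ↥A = 1 := pow_card_eq_one'
    have h2 : ((⟨a, ha⟩ : ↥A) ^ Nat.card ↥A : ↥A).1 = (1 : ↥A).1 := by rw [h1]
    rw [Subgroup.coe_pow, Subgroup.coe_one] at h2
    exact h2
  have hcardA : (Finset.univ.filter (fun a : C => a ∈ A)).card = n := by
    rw [hn, Nat.card_eq_fintype_card, Fintype.card_subtype]
  have heq := Finset.eq_of_subset_of_card_le hsub (by rw [hcardA]; exact hle)
  have hyS : y ∈ Finset.univ.filter (fun a : C => a ^ n = 1) := by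
    simp only [Finset.mem_filter, Finset.mem_univ, true_and]
    exact orderOf_dvd_iff_pow_eq_one.mp hy
  rw [← heq] at hyS
  simpa using hyS

/-- the same inside a cyclic subgroup `W` of `G`. -/
theorem mem_of_orderOf_dvd_of_isCyclic_sub {W A : Subgroup G} (hW : IsCyclic ↥W) (hAW : A ≤ W)
    {y : G} (hyW : y ∈ W) (hy : orderOf y ∣ Nat.card A) : y ∈ A := by
  haveI := hW
  have h1 : (⟨y, hyW⟩ : ↥W) ∈ A.subgroupOf W := by
    apply mem_of_orderOf_dvd_of_isCyclic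
    rw [Cfsg.Agent.Lib.Helper1.card_subgroupOf_of_le hAW, Subgroup.orderOf_mk]
    exact hy
  exact Subgroup.mem_subgroupOf.mp h1

theorem orderOf_conj_eq (g y : G) : orderOf (g * y * g⁻¹) = orderOf y := by
  have : g * y * g⁻¹ = (MulAut.conj g) y := rfl
  rw [this, MulEquiv.orderOf_eq]

section SelfNormalizing

variable {V₁ V₂ : Subgroup G}

theorem sn_normalizer_singleton (hsn : Cfsg.IsSelfNormalizingCyclic V₁ V₂) {w : G}
    (hw : w ∈ V₁ ⊔ V₂) (hw1 : w ∉ V₁) (hw2 : w ∉ V₂) :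
    Subgroup.normalizer ({w} : Set G) = V₁ ⊔ V₂ := by
  apply hsn.2.2.2.2.2 {w} _ (Set.singleton_nonempty w)
  intro z hz
  rw [Set.mem_singleton_iff] at hz
  subst hz
  exact ⟨hw, fun h => h.elim hw1 hw2⟩

theorem mem_normalizer_singleton_iff {w y : G} :
    y ∈ Subgroup.normalizer ({w} : Set G) ↔ y * w * y⁻¹ = w := by
  rw [Subgroup.mem_set_normalizer_iff]
  constructor
  · intro h
    exact (h w).mp rfl
  · intro h n
    simp only [Set.mem_singleton_iff]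
    constructor
    · intro hn; rw [hn]; exact h
    · intro hn
      have : n = y⁻¹ * (y * n * y⁻¹) * y := by group
      rw [this, hn]
      calc y⁻¹ * w * y = y⁻¹ * (y * w * y⁻¹) * y := by rw [h]
        _ = w := by group

/-- if `g w g⁻¹ = w'` with `w, w' ∈ Ŵ` then `g` maps `W` into `W`. -/
theorem sn_conj_mem_sup (hsn : Cfsg.IsSelfNormalizingCyclic V₁ V₂) {w w' g : G}
    (hw : w ∈ V₁ ⊔ V₂) (hw1 : w ∉ V₁) (hw2 : w ∉ V₂)
    (hw' : w' ∈ V₁ ⊔ V₂) (hw'1 : w' ∉ V₁) (hw'2 : w' ∉ V₂) (e : g * w * g⁻¹ = w')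
    {y : G} (hy : y ∈ V₁ ⊔ V₂) : g * y * g⁻¹ ∈ V₁ ⊔ V₂ := by
  rw [← sn_normalizer_singleton hsn hw hw1 hw2, mem_normalizer_singleton_iff] at hy
  rw [← sn_normalizer_singleton hsn hw' hw'1 hw'2, mem_normalizer_singleton_iff, ← e]
  calc g * y * g⁻¹ * (g * w * g⁻¹) * (g * y * g⁻¹)⁻¹ = g * (y * w * y⁻¹) * g⁻¹ := by group
    _ = g * w * g⁻¹ := by rw [hy]

theorem sn_conj_mem_left (hsn : Cfsg.IsSelfNormalizingCyclic V₁ V₂) {w w' g : G}
    (hw : w ∈ V₁ ⊔ V₂) (hw1 : w ∉ V₁) (hw2 : w ∉ V₂)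
    (hw' : w' ∈ V₁ ⊔ V₂) (hw'1 : w' ∉ V₁) (hw'2 : w' ∉ V₂) (e : g * w * g⁻¹ = w')
    {y : G} (hy : y ∈ V₁) : g * y * g⁻¹ ∈ V₁ := by
  apply mem_of_orderOf_dvd_of_isCyclic_sub hsn.2.2.2.2.1 le_sup_left
    (sn_conj_mem_sup hsn hw hw1 hw2 hw' hw'1 hw'2 e (le_sup_left (a := V₁) (b := V₂) hy))
  rw [orderOf_conj_eq]
  have := orderOf_dvd_natCard (⟨y, hy⟩ : ↥V₁)
  rwa [Subgroup.orderOf_mk] at this

theorem sn_conj_mem_right (hsn : Cfsg.IsSelfNormalizingCyclic V₁ V₂) {w w' g : G}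
    (hw : w ∈ V₁ ⊔ V₂) (hw1 : w ∉ V₁) (hw2 : w ∉ V₂)
    (hw' : w' ∈ V₁ ⊔ V₂) (hw'1 : w' ∉ V₁) (hw'2 : w' ∉ V₂) (e : g * w * g⁻¹ = w')
    {y : G} (hy : y ∈ V₂) : g * y * g⁻¹ ∈ V₂ := by
  apply mem_of_orderOf_dvd_of_isCyclic_sub hsn.2.2.2.2.1 le_sup_right
    (sn_conj_mem_sup hsn hw hw1 hw2 hw' hw'1 hw'2 e (le_sup_right (a := V₁) (b := V₂) hy))
  rw [orderOf_conj_eq]
  have := orderOf_dvd_natCard (⟨y, hy⟩ : ↥V₂)
  rwa [Subgroup.orderOf_mk] at this

/-- **`Ŵ` is a TI-subset with normalizer `W`** in elementwise form: if `g w g⁻¹ = w'` with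
`w, w' ∈ Ŵ = W \ (W₁ ∪ W₂)` then `g ∈ W`. -/
theorem sn_conj_mem (hsn : Cfsg.IsSelfNormalizingCyclic V₁ V₂) {w w' g : G}
    (hw : w ∈ V₁ ⊔ V₂) (hw1 : w ∉ V₁) (hw2 : w ∉ V₂)
    (hw' : w' ∈ V₁ ⊔ V₂) (hw'1 : w' ∉ V₁) (hw'2 : w' ∉ V₂) (e : g * w * g⁻¹ = w') :
    g ∈ V₁ ⊔ V₂ := by
  have e' : g⁻¹ * w' * g⁻¹⁻¹ = w := by rw [← e]; group
  have hX : Subgroup.normalizer ((↑(V₁ ⊔ V₂) : Set G) \ (↑V₁ ∪ ↑V₂)) = V₁ ⊔ V₂ :=
    hsn.2.2.2.2.2 _ (le_refl _) ⟨w, hw, fun h => h.elim hw1 hw2⟩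
  rw [← hX, Subgroup.mem_set_normalizer_iff]
  intro n
  have back : ∀ z : G, g⁻¹ * (g * z * g⁻¹) * g⁻¹⁻¹ = z := fun z => by group
  have forth : ∀ z : G, g * (g⁻¹ * z * g⁻¹⁻¹) * g⁻¹ = z := fun z => by group
  constructor
  · rintro ⟨hn, hn'⟩
    refine ⟨sn_conj_mem_sup hsn hw hw1 hw2 hw' hw'1 hw'2 e hn, ?_⟩
    rintro (h | h)
    · apply hn'; left
      have := sn_conj_mem_left hsn hw' hw'1 hw'2 hw hw1 hw2 e' h
      rwa [back] at this
    · apply hn'; right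
      have := sn_conj_mem_right hsn hw' hw'1 hw'2 hw hw1 hw2 e' h
      rwa [back] at this
  · rintro ⟨hn, hn'⟩
    have h0 := sn_conj_mem_sup hsn hw' hw'1 hw'2 hw hw1 hw2 e' hn
    rw [back] at h0
    refine ⟨h0, ?_⟩
    rintro (h | h)
    · apply hn'; left
      exact sn_conj_mem_left hsn hw hw1 hw2 hw' hw'1 hw'2 e h
    · apply hn'; right
      exact sn_conj_mem_right hsn hw hw1 hw2 hw' hw'1 hw'2 e h

end SelfNormalizing

end Cfsg.Agent.Lib.Helper24.BGTyX
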