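/- helper24: frozen S1538 (M of Type II: A0(M), A(M), A1(M) are TI-subsets with set normalizer M), from
S1390 (TI of A(M) minus A1(M)), TI of F(M), the Hall property of M_F and the conjugacy of type-P data. -/
import Mathlib
import Cfsg.Agent.Lib.Helper24.BGTyX
import Cfsg.Agent.Lib.Helper16.BGTyC
import Cfsg.Agent.Lib.Helper9.BG156A
import Cfsg.Agent.Lib.Helper17.BGUniqC
import Cfsg.Agent.Lib.Helper17.BGFitA
import Cfsg.Agent.S1390

set_option autoImplicit false
set_option linter.unusedSectionVars false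
set_option linter.unusedVariables false
set_option linter.style.haveILetI false

namespace Cfsg.Agent.Lib.Helper24.BGTyY

open Cfsg.Agent.Lib.Helper24.BGTyX
open Cfsg.Agent.Lib.Helper8 (mem_map_conj conj_mem_map_conj mem_normalizer_iff_map_conj)
open Cfsg.Agent.Lib.Helper8.BGEx (cj cj_eq_self_of_mem cj_mono normalizer_cj)
open Cfsg.Agent.Lib.Helper9 (le_normalizer_fittingHallOf)

universe u

variable {G : Type u} [Group G] [Finite G] {M : Subgroup G}

/-- the set normalizer of `S \ {1}` is the normalizer of the subgroup `S`. -/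
theorem normalizer_diff_one (S : Subgroup G) :
    Subgroup.normalizer ((S : Set G) \ {1}) = Subgroup.normalizer (S : Set G) := by
  ext g
  rw [Subgroup.mem_set_normalizer_iff, Subgroup.mem_normalizer_iff]
  have h1 : ∀ n : G, g * n * g⁻¹ = 1 ↔ n = 1 := by
    intro n
    constructor
    · intro h
      have : n = g⁻¹ * (g * n * g⁻¹) * g := by group
      rw [this, h]; group
    · intro h; rw [h]; group
  constructor
  · intro h n
    by_cases hn : n = 1
    · subst hn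
      have : g * 1 * g⁻¹ = 1 := by group
      rw [this]
    · have h2 := h n
      constructor
      · intro hnS
        exact (h2.mp ⟨hnS, hn⟩).1
      · intro hgS
        exact (h2.mpr ⟨hgS, fun h3 => hn ((h1 n).mp h3)⟩).1
  · intro h n
    simp only [Set.mem_sdiff, SetLike.mem_coe, Set.mem_singleton_iff]
    rw [h n, h1]

/-- the set normalizer of `S` normalizes the subgroup generated by `S`. -/
theorem normalizer_le_normalizer_closure (S : Set G) :
    Subgroup.normalizer S ≤ Subgroup.normalizer ((Subgroup.closure S : Subgroup G) : Set G) := by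
  intro g hg
  rw [mem_normalizer_iff_map_conj, MonoidHom.map_closure]
  congr 1
  exact Subgroup.mem_normalizer_iff_conj_image_eq.mp hg

/-- an `M`-invariant subset of the maximal subgroup `M` containing a non-identity element has set
normalizer `M`. -/
theorem normalizer_eq_of_invariant (hG : Cfsg.IsMinSimpleOddOrder G) (hM : IsCoatom M) {S : Set G}
    (hSM : S ⊆ (M : Set G)) (hinv : ∀ m ∈ M, ∀ a ∈ S, m * a * m⁻¹ ∈ S) (hne : ∃ a ∈ S, a ≠ 1) :
    Subgroup.normalizer S = M := by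
  haveI : IsSimpleGroup G := hG.2.1
  have hMN : M ≤ Subgroup.normalizer S := by
    intro m hm
    rw [Subgroup.mem_set_normalizer_iff]
    intro n
    constructor
    · exact hinv m hm n
    · intro h
      have := hinv m⁻¹ (M.inv_mem hm) _ h
      have e : m⁻¹ * (m * n * m⁻¹) * m⁻¹⁻¹ = n := by group
      rwa [e] at this
  by_contra hne'
  have htop : Subgroup.normalizer S = ⊤ := hM.2 _ (lt_of_le_of_ne hMN (Ne.symm hne'))
  have hT1 : Subgroup.closure S ≠ ⊥ := by
    obtain ⟨a, ha, ha1⟩ := hne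
    intro h
    have : a ∈ Subgroup.closure S := Subgroup.subset_closure ha
    rw [h, Subgroup.mem_bot] at this
    exact ha1 this
  have hTM : Subgroup.closure S ≤ M := (Subgroup.closure_le M).mpr hSM
  have hTtop : Subgroup.closure S ≠ ⊤ := fun h => hM.1 (top_le_iff.mp (h ▸ hTM))
  apply Cfsg.Agent.Lib.Helper17.BGU.normalizer_ne_top hT1 hTtop
  apply top_le_iff.mp
  rw [← htop]
  exact normalizer_le_normalizer_closure S

/-- **S1538**: for `M` of Type II the sets `A₀(M)`, `A(M)`, `A₁(M)` are TI-subsets of `G` with set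
normalizer `M`. -/
theorem s1538 (hG : Cfsg.IsMinSimpleOddOrder G) (hM : IsCoatom M) (hII : Cfsg.IsOfTypeII M) :
    (Cfsg.IsTISubset (Cfsg.typeA0 M) ∧ Subgroup.normalizer (Cfsg.typeA0 M) = M) ∧
    (Cfsg.IsTISubset (Cfsg.typeA M) ∧ Subgroup.normalizer (Cfsg.typeA M) = M) ∧
    (Cfsg.IsTISubset (Cfsg.typeA1 M) ∧ Subgroup.normalizer (Cfsg.typeA1 M) = M) := by
  haveI : IsSimpleGroup G := hG.2.1
  have hnotI := not_I_of_II hII
  have hnot := not_III_IV_of_II hII
  obtain ⟨W₁, U, W₂, hP, hU1, hW₁p, hTI, hUab, hNU, hF', hFeq⟩ := id hII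
  have hTI390 : Cfsg.IsTISubset (Cfsg.typeA M \ Cfsg.typeA1 M) :=
    (Cfsg.Agent.S1390.result hG M hM U (Or.inr ⟨hII, hP.U_compl⟩)).2.2
  set H : Subgroup G := Cfsg.fittingHallOf M with hH
  have hcore : Cfsg.typeCore M = H :=
    Cfsg.Agent.Lib.Helper16.BGTy.typeCore_eq_of_not_III_IV hnot
  have memA1 : ∀ a : G, a ∈ Cfsg.typeA1 M ↔ a ∈ H ∧ a ≠ 1 := by
    intro a
    unfold Cfsg.typeA1
    rw [hcore]
    rfl
  have memA : ∀ a : G, a ∈ Cfsg.typeA M ↔
      (a ∈ ⁅M, M⁆ ∧ a ≠ 1 ∧ ∃ x ∈ H, x ≠ 1 ∧ a * x = x * a) := by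
    intro a
    unfold Cfsg.typeA
    rw [if_neg hnotI, hcore]
    rfl
  have memA0 : ∀ v : G, v ∈ Cfsg.typeA0 M ↔ (v ∈ Cfsg.typeA M ∨
      ∃ V₁ U' V₂ : Subgroup G, Cfsg.IsTypePWith M V₁ U' V₂ ∧
        ∃ m ∈ M, ∃ w ∈ V₁ ⊔ V₂, w ∉ V₁ ∧ w ∉ V₂ ∧ v = m * w * m⁻¹) := by
    intro v
    unfold Cfsg.typeA0
    constructor
    · rintro (h | ⟨-, h⟩)
      · exact Or.inl h
      · exact Or.inr h
    · rintro (h | h)
      · exact Or.inl h
      · exact Or.inr ⟨hnotI, h⟩
  -- basic containments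
  have hHM : H ≤ M := Cfsg.Agent.Lib.Helper16.BGTy.fittingHallOf_le M
  have hHF : H ≤ Cfsg.fittingOf M := by rw [← hP.fitting_eq]; exact le_sup_left
  have hFM' : Cfsg.fittingOf M ≤ ⁅M, M⁆ := hP.fitting_le
  have hM'M : ⁅M, M⁆ ≤ M := Subgroup.commutator_le_self M
  have hH1 : H ≠ ⊥ := by
    intro h
    apply hP.H_not_cyclic
    rw [← hH, h]
    infer_instance
  have hF1 : Cfsg.fittingOf M ≠ ⊥ := fun h => hH1 (le_bot_iff.mp (h ▸ hHF))
  have hNF : Subgroup.normalizer ((Cfsg.fittingOf M : Subgroup G) : Set G) = M :=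
    Cfsg.Agent.Lib.Helper17.BGU.normalizer_eq_of_coatom hM (hFM'.trans hM'M) hF1
      (Cfsg.Agent.Lib.Helper17.BGU.le_normalizer_fittingOf M)
  have hNH : Subgroup.normalizer (H : Set G) = M :=
    Cfsg.Agent.Lib.Helper17.BGU.normalizer_eq_of_coatom hM hHM hH1 (le_normalizer_fittingHallOf M)
  -- `H` is a normal Hall subgroup of `M`
  have hHall : ∀ z ∈ M, ∀ x ∈ H, orderOf z = orderOf x → z ∈ H := by
    intro z hz x hx hzx
    apply Cfsg.Agent.Lib.Helper9.BG156.mem_of_coprime_relIndex hHM (le_normalizer_fittingHallOf M) hz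
    rw [hzx]
    have h1 : orderOf x ∣ Nat.card H := by
      have := orderOf_dvd_natCard (⟨x, hx⟩ : ↥H)
      rwa [Subgroup.orderOf_mk] at this
    exact Nat.Coprime.coprime_dvd_left h1
      (Cfsg.Agent.Lib.Helper16.BGTy.fittingHallOf_coprime_relIndex M)
  -- fusion of non-identity elements of `H` is controlled by `M` (`F(M)` is TI)
  have hTI' : ∀ g : G, ∀ x ∈ H, x ≠ 1 → g * x * g⁻¹ ∈ H → g ∈ M := by
    intro g x hx hx1 hgx
    by_contra hg
    exact hx1 (hTI g (by rw [hNF]; exact hg) x (hHF hx) (hHF hgx))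
  have conj_ne_one : ∀ (g a : G), a ≠ 1 → g * a * g⁻¹ ≠ 1 := by
    intro g a ha h
    apply ha
    have : a = g⁻¹ * (g * a * g⁻¹) * g := by group
    rw [this, h]; group
  -- part 3
  have part3 : Cfsg.IsTISubset (Cfsg.typeA1 M) ∧ Subgroup.normalizer (Cfsg.typeA1 M) = M := by
    have hA1 : Cfsg.typeA1 M = (H : Set G) \ {1} := by
      unfold Cfsg.typeA1
      rw [hcore]
    have hN : Subgroup.normalizer (Cfsg.typeA1 M) = M := by
      rw [hA1, normalizer_diff_one, hNH]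
    refine ⟨?_, hN⟩
    intro g hg x hx hgx
    rw [hN] at hg
    rw [memA1] at hx hgx
    exact absurd (hTI' g x hx.1 hx.2 hgx.1) hg
  -- invariance of `A(M)`
  have invA : ∀ m ∈ M, ∀ a ∈ Cfsg.typeA M, m * a * m⁻¹ ∈ Cfsg.typeA M := by
    intro m hm a ha
    rw [memA] at ha ⊢
    obtain ⟨haM', ha1, x, hx, hx1, hax⟩ := ha
    refine ⟨conj_mem_commutator_self hm haM', conj_ne_one m a ha1, m * x * m⁻¹,
      conj_mem_fittingHallOf hm hx, conj_ne_one m x hx1, ?_⟩
    calc m * a * m⁻¹ * (m * x * m⁻¹) = m * (a * x) * m⁻¹ := by group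
      _ = m * (x * a) * m⁻¹ := by rw [hax]
      _ = m * x * m⁻¹ * (m * a * m⁻¹) := by group
  have subA : Cfsg.typeA M ⊆ (M : Set G) := fun a ha => hM'M ((memA a).mp ha).1
  have neA : ∃ a ∈ Cfsg.typeA M, a ≠ 1 := by
    obtain ⟨x, hx1⟩ := (Subgroup.ne_bot_iff_exists_ne_one).mp hH1
    have hx1' : (x : G) ≠ 1 := fun h => hx1 (Subtype.ext h)
    exact ⟨x, (memA _).mpr ⟨hFM' (hHF x.2), hx1', x, x.2, hx1', rfl⟩, hx1'⟩
  have hNA : Subgroup.normalizer (Cfsg.typeA M) = M :=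
    normalizer_eq_of_invariant hG hM subA invA neA
  have tiA : ∀ g : G, g ∉ M → ∀ a ∈ Cfsg.typeA M, g * a * g⁻¹ ∈ Cfsg.typeA M → False := by
    intro g hg a ha hga
    have ha' := (memA a).mp ha
    have hga' := (memA _).mp hga
    by_cases haH : a ∈ H
    · by_cases hbH : g * a * g⁻¹ ∈ H
      · exact hg (hTI' g a haH ha'.2.1 hbH)
      · exact hbH (hHall _ (hM'M hga'.1) a haH (orderOf_conj_eq g a))
    · by_cases hbH : g * a * g⁻¹ ∈ H
      · exact haH (hHall _ (hM'M ha'.1) _ hbH (orderOf_conj_eq g a).symm)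
      · -- both outside `H`: S1390
        have hsub : (Cfsg.typeA M \ Cfsg.typeA1 M) ⊆ (M : Set G) := fun z hz => subA hz.1
        have hinv : ∀ m ∈ M, ∀ z ∈ Cfsg.typeA M \ Cfsg.typeA1 M,
            m * z * m⁻¹ ∈ Cfsg.typeA M \ Cfsg.typeA1 M := by
          intro m hm z hz
          refine ⟨invA m hm z hz.1, ?_⟩
          intro h
          apply hz.2
          rw [memA1] at h ⊢
          refine ⟨?_, ((memA z).mp hz.1).2.1⟩
          have := conj_mem_fittingHallOf (M.inv_mem hm) h.1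
          have e : m⁻¹ * (m * z * m⁻¹) * m⁻¹⁻¹ = z := by group
          rwa [e] at this
        have haD : a ∈ Cfsg.typeA M \ Cfsg.typeA1 M :=
          ⟨ha, fun h => haH ((memA1 a).mp h).1⟩
        have hgaD : g * a * g⁻¹ ∈ Cfsg.typeA M \ Cfsg.typeA1 M :=
          ⟨hga, fun h => hbH ((memA1 _).mp h).1⟩
        have hND : Subgroup.normalizer (Cfsg.typeA M \ Cfsg.typeA1 M) = M :=
          normalizer_eq_of_invariant hG hM hsub hinv ⟨a, haD, ha'.2.1⟩
        exact ha'.2.1 (hTI390 g (by rw [hND]; exact hg) a haD hgaD)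
  have part2 : Cfsg.IsTISubset (Cfsg.typeA M) ∧ Subgroup.normalizer (Cfsg.typeA M) = M := by
    refine ⟨?_, hNA⟩
    intro g hg a ha hga
    rw [hNA] at hg
    exact (tiA g hg a ha hga).elim
  -- the mixed case
  have mixed : ∀ (V₁ U' V₂ : Subgroup G), Cfsg.IsTypePWith M V₁ U' V₂ → ∀ a ∈ Cfsg.typeA M,
      ∀ w ∈ V₁ ⊔ V₂, w ∉ V₁ → w ∉ V₂ → ∀ h : G, a = h * w * h⁻¹ → h ∈ M := by
    intro V₁ U' V₂ hD a ha w hw hw1 hw2 h e
    obtain ⟨haM', ha1, x, hx, hx1, hax⟩ := (memA a).mp ha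
    have hVM : V₁ ⊔ V₂ ≤ M :=
      sup_le (typeP_W₁_le hD) ((hD.W₂_le.trans inf_le_left).trans hHM)
    have hz : h⁻¹ * x * h ∈ V₁ ⊔ V₂ := by
      rw [← sn_normalizer_singleton hD.selfNormalizing hw hw1 hw2, mem_normalizer_singleton_iff]
      have hxa : x * a * x⁻¹ = a := by
        calc x * a * x⁻¹ = a * x * x⁻¹ := by rw [hax]
          _ = a := by group
      calc h⁻¹ * x * h * w * (h⁻¹ * x * h)⁻¹ = h⁻¹ * (x * (h * w * h⁻¹) * x⁻¹) * h := by group
        _ = h⁻¹ * (x * a * x⁻¹) * h := by rw [← e]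
        _ = h⁻¹ * a * h := by rw [hxa]
        _ = w := by rw [e]; group
    have hzo : orderOf (h⁻¹ * x * h) = orderOf x := by
      have := orderOf_conj_eq h⁻¹ x
      rwa [inv_inv] at this
    have hzH : h⁻¹ * x * h ∈ H := hHall _ (hVM hz) x hx hzo
    have hz1 : h⁻¹ * x * h ≠ 1 := by
      have := conj_ne_one h⁻¹ x hx1
      rwa [inv_inv] at this
    apply hTI' h _ hzH hz1
    have e2 : h * (h⁻¹ * x * h) * h⁻¹ = x := by group
    rw [e2]
    exact hx
  -- part 1
  have invA0 : ∀ m ∈ M, ∀ a ∈ Cfsg.typeA0 M, m * a * m⁻¹ ∈ Cfsg.typeA0 M := by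
    intro m hm a ha
    rw [memA0] at ha ⊢
    rcases ha with ha | ⟨V₁, U', V₂, hD, m', hm', w, hw, hw1, hw2, e⟩
    · exact Or.inl (invA m hm a ha)
    · refine Or.inr ⟨V₁, U', V₂, hD, m * m', M.mul_mem hm hm', w, hw, hw1, hw2, ?_⟩
      rw [e]; group
  have subA0 : Cfsg.typeA0 M ⊆ (M : Set G) := by
    intro a ha
    rw [memA0] at ha
    rcases ha with ha | ⟨V₁, U', V₂, hD, m', hm', w, hw, hw1, hw2, e⟩
    · exact subA ha
    · have hVM : V₁ ⊔ V₂ ≤ M :=
        sup_le (typeP_W₁_le hD) ((hD.W₂_le.trans inf_le_left).trans hHM)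
      rw [e]
      exact M.mul_mem (M.mul_mem hm' (hVM hw)) (M.inv_mem hm')
  have neA0 : ∃ a ∈ Cfsg.typeA0 M, a ≠ 1 := by
    obtain ⟨a, ha, ha1⟩ := neA
    exact ⟨a, (memA0 a).mpr (Or.inl ha), ha1⟩
  have hNA0 : Subgroup.normalizer (Cfsg.typeA0 M) = M :=
    normalizer_eq_of_invariant hG hM subA0 invA0 neA0
  have part1 : Cfsg.IsTISubset (Cfsg.typeA0 M) ∧ Subgroup.normalizer (Cfsg.typeA0 M) = M := by
    refine ⟨?_, hNA0⟩
    intro g hg v hv hgv
    rw [hNA0] at hg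
    exfalso
    rw [memA0] at hv hgv
    rcases hv with hv | ⟨V₁, U', V₂, hD, m, hm, w, hw, hw1, hw2, e⟩
    · rcases hgv with hgv | ⟨V₁', U'', V₂', hD', m', hm', w', hw', hw'1, hw'2, e'⟩
      · exact tiA g hg v hv hgv
      · -- `v = (g⁻¹ m') w' (g⁻¹ m')⁻¹`
        have e2 : v = (g⁻¹ * m') * w' * (g⁻¹ * m')⁻¹ := by
          have : v = g⁻¹ * (g * v * g⁻¹) * g := by group
          rw [this, e']; group
        have := mixed V₁' U'' V₂' hD' v hv w' hw' hw'1 hw'2 _ e2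
        apply hg
        have h3 : g = m' * (g⁻¹ * m')⁻¹ := by group
        rw [h3]
        exact M.mul_mem hm' (M.inv_mem this)
    · rcases hgv with hgv | ⟨V₁', U'', V₂', hD', m', hm', w', hw', hw'1, hw'2, e'⟩
      · -- `g v g⁻¹ = (g m) w (g m)⁻¹ ∈ A(M)`
        have e2 : g * v * g⁻¹ = (g * m) * w * (g * m)⁻¹ := by rw [e]; group
        have := mixed V₁ U' V₂ hD _ hgv w hw hw1 hw2 _ e2
        apply hg
        have h3 : g = (g * m) * m⁻¹ := by group
        rw [h3]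
        exact M.mul_mem this (M.inv_mem hm)
      · -- both in the `Ŵ`-part
        obtain ⟨k, hk, hV₁, hV₂⟩ := typeP_data_conj hD hD'
        have hkM : k ∈ M := hM'M hk
        have hsup : V₁' ⊔ V₂' = cj k (V₁ ⊔ V₂) := by
          rw [hV₁, hV₂, Cfsg.Agent.Lib.Helper16.BGTy.cj_sup]
        have hw₀ : k⁻¹ * w' * k ∈ V₁ ⊔ V₂ := by
          rw [hsup, mem_map_conj] at hw'
          exact hw'
        have hw₀1 : k⁻¹ * w' * k ∉ V₁ := by
          intro h
          apply hw'1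
          rw [hV₁, mem_map_conj]
          exact h
        have hw₀2 : k⁻¹ * w' * k ∉ V₂ := by
          intro h
          apply hw'2
          rw [hV₂, mem_map_conj]
          exact h
        have e3 : (k⁻¹ * m'⁻¹ * g * m) * w * (k⁻¹ * m'⁻¹ * g * m)⁻¹ = k⁻¹ * w' * k := by
          have h4 : w' = m'⁻¹ * (g * v * g⁻¹) * m' := by rw [e']; group
          rw [h4, e]; group
        have hmem := sn_conj_mem hD.selfNormalizing hw hw1 hw2 hw₀ hw₀1 hw₀2 e3
        have hVM : V₁ ⊔ V₂ ≤ M :=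
          sup_le (typeP_W₁_le hD) ((hD.W₂_le.trans inf_le_left).trans hHM)
        apply hg
        have h5 : g = m' * k * (k⁻¹ * m'⁻¹ * g * m) * m⁻¹ := by group
        rw [h5]
        exact M.mul_mem (M.mul_mem (M.mul_mem hm' hkM) (hVM hmem)) (M.inv_mem hm)
  exact ⟨part1, part2, part3⟩

end Cfsg.Agent.Lib.Helper24.BGTyY
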