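/-
helper24: S4482 (Brauer's order formula for dihedral Sylow 2-subgroups, one class of involutions) - the spine:
identification of the given character with `χ₁` of S4481, the class function `Θ = 1 + δ₁ χ₁ - δ₁ χ'`, and the final
arithmetic, over the leaves of `notes/S4482_leaves.lean`.
-/
import Mathlib
import Cfsg.Prelude.Def_Blocks
import Cfsg.Prelude.Def_Solvable
import Cfsg.Agent.Lib.Helper24.IrrFacts
import Cfsg.Agent.Lib.Helper22.BOFDIH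
import Cfsg.Agent.Lib.Helper22.BOFALLINV
import Cfsg.Agent.Lib.Helper22.BOFCA
import Cfsg.Agent.Lib.Helper23.BOFJFACTS
import Cfsg.Agent.Lib.Helper23.BOFCENTCARD
import Cfsg.Agent.Lib.Helper23.BOFTRANS
import Cfsg.Agent.Lib.Helper23.BOFREG
import Cfsg.Agent.Lib.Helper5.BOFNIDX
import Cfsg.Agent.Lib.Helper5.BOFSECV
import Cfsg.Agent.Lib.Helper20.BOFLOC

set_option autoImplicit false

namespace Cfsg.Agent.Lib.Helper24.BOFMain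

open Cfsg Cfsg.Agent.Lib.Helper24

universe u

/-- the conclusion of S4481 (verbatim) -/
def Concl4481 {G : Type u} [Group G] (M : Ideal AlgInt) (n : ℕ) (σ : G) (ζ : ℂ) : Prop :=
  Nat.card (principalBlock M G) = 3 + 2 ^ (n - 2) ∧ ∃ (χ₁ χ₂ χ₃ : IrrCharacter G) (χ' : Fin (2 ^ (n - 2) - 1) → IrrCharacter G) (δ₁ δ₂ δ₃ : ℤ), (δ₁ = 1 ∨ δ₁ = -1) ∧ (δ₂ = 1 ∨ δ₂ = -1) ∧ (δ₃ = 1 ∨ δ₃ = -1) ∧ Function.Injective χ' ∧ (χ₁ : G → ℂ) ≠ (fun _ => 1) ∧ (χ₂ : G → ℂ) ≠ (fun _ => 1) ∧ (χ₃ : G → ℂ) ≠ (fun _ => 1) ∧ χ₁ ≠ χ₂ ∧ χ₁ ≠ χ₃ ∧ χ₂ ≠ χ₃ ∧ (∀ j, χ' j ≠ χ₁ ∧ χ' j ≠ χ₂ ∧ χ' j ≠ χ₃ ∧ (χ' j : G → ℂ) ≠ (fun _ => 1)) ∧ principalBlock M G = {χ : IrrCharacter G | (χ : G → ℂ) = (fun _ => 1) ∨ χ = χ₁ ∨ χ = χ₂ ∨ χ = χ₃ ∨ ∃ j, χ = χ' j} ∧ (∀ l : ℕ, 0 < l → l < 2 ^ (n - 1) → (χ₁ : G → ℂ) (σ ^ l) = δ₁ ∧ (χ₂ : G → ℂ) (σ ^ l) = δ₂ * (-1) ^ (l + 1)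 ∧ (χ₃ : G → ℂ) (σ ^ l) = δ₃ * (-1) ^ (l + 1) ∧ ∀ j : Fin (2 ^ (n - 2) - 1), (χ' j : G → ℂ) (σ ^ l) = δ₁ * (ζ ^ (((j : ℕ) + 1) * l) + (ζ ^ (((j : ℕ) + 1) * l))⁻¹)) ∧ ∀ ρ : G, Odd (orderOf ρ) → ∀ j : Fin (2 ^ (n - 2) - 1), 1 + δ₁ * (χ₁ : G → ℂ) ρ = -δ₂ * (χ₂ : G → ℂ) ρ - δ₃ * (χ₃ : G → ℂ) ρ ∧ 1 + δ₁ * (χ₁ : G → ℂ) ρ = δ₁ * (χ' j : G → ℂ) ρ

theorem zeta_half (n : ℕ) (hn : 3 ≤ n) (ζ : ℂ) (hζ : IsPrimitiveRoot ζ (2 ^ (n - 1))) :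
    ζ ^ (2 ^ (n - 2)) = -1 := by
  have h2 : 2 ^ (n - 1) = 2 ^ (n - 2) * 2 := by
    rw [← pow_succ]
    congr 1
    omega
  have := hζ.pow (by positivity) h2
  exact this.eq_neg_one_of_two_right

/-- identification of the given character with `χ₁` of S4481 -/
theorem identify {G : Type u} [Group G] [Finite G] (M : Ideal AlgInt) (n : ℕ) (hn : 3 ≤ n) (σ : G) (ζ : ℂ)
    (hζ : IsPrimitiveRoot ζ (2 ^ (n - 1))) (H : Concl4481 M n σ ζ)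
    (χ₁ : IrrCharacter G) (hχ₁ : χ₁ ∈ principalBlock M G) (h1 : (χ₁ : G → ℂ) ≠ fun _ => 1)
    (δ₁ : ℤ) (hδ₁ : δ₁ = 1 ∨ δ₁ = -1)
    (hval : ∀ l : ℕ, 0 < l → l < 2 ^ (n - 1) → (χ₁ : G → ℂ) (σ ^ l) = δ₁) :
    ∃ χ' : IrrCharacter G, χ' ∈ principalBlock M G ∧
      (∀ l : ℕ, 0 < l → l < 2 ^ (n - 1) → (χ' : G → ℂ) (σ ^ l) = δ₁ * (ζ ^ l + (ζ ^ l)⁻¹)) ∧
      ∀ ρ : G, Odd (orderOf ρ) → 1 + δ₁ * (χ₁ : G → ℂ) ρ = δ₁ * (χ' : G → ℂ) ρ := by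
  obtain ⟨-, ξ₁, ξ₂, ξ₃, ξ', ε₁, ε₂, ε₃, hε₁, hε₂, hε₃, -, -, -, -, -, -, -, -, hB, hvals, hrelρ⟩ := H
  have hpow : 4 ≤ 2 ^ (n - 1) := by
    have : 2 ^ 2 ≤ 2 ^ (n - 1) := Nat.pow_le_pow_right (by norm_num) (by omega)
    simpa using this
  have hpow2 : 2 ≤ 2 ^ (n - 2) := by
    have : 2 ^ 1 ≤ 2 ^ (n - 2) := Nat.pow_le_pow_right (by norm_num) (by omega)
    simpa using this
  have hhalf : 2 ^ (n - 2) < 2 ^ (n - 1) := Nat.pow_lt_pow_right (by norm_num) (by omega)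
  have hmem := hχ₁
  rw [hB] at hmem
  rcases hmem with h | h | h | h | ⟨j, h⟩
  · exact absurd h h1
  · -- the good case
    have e1 := (hvals 1 one_pos (by omega)).1
    rw [← h, hval 1 one_pos (by omega)] at e1
    have hεZ : δ₁ = ε₁ := by exact_mod_cast e1
    have j0 : Fin (2 ^ (n - 2) - 1) := ⟨0, by omega⟩
    have hj0 : ((⟨0, by omega⟩ : Fin (2 ^ (n - 2) - 1)) : ℕ) = 0 := rfl
    refine ⟨ξ' ⟨0, by omega⟩, ?_, ?_, ?_⟩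
    · rw [hB]
      right; right; right; right
      exact ⟨_, rfl⟩
    · intro l hl0 hl
      have := (hvals l hl0 hl).2.2.2 ⟨0, by omega⟩
      rw [this, hεZ]
      simp
    · intro ρ hρ
      have := (hrelρ ρ hρ ⟨0, by omega⟩).2
      rw [h, hεZ]
      exact this
  · exfalso
    have e1 := (hvals 1 one_pos (by omega)).2.1
    have e2 := (hvals 2 two_pos (by omega)).2.1
    rw [← h, hval 1 one_pos (by omega)] at e1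
    rw [← h, hval 2 two_pos (by omega)] at e2
    have e1' : δ₁ = ε₂ := by
      have : ((δ₁ : ℤ) : ℂ) = ((ε₂ : ℤ) : ℂ) := by rw [e1]; norm_num
      exact_mod_cast this
    have e2' : δ₁ = -ε₂ := by
      have : ((δ₁ : ℤ) : ℂ) = ((-ε₂ : ℤ) : ℂ) := by rw [e2]; push_cast; norm_num
      exact_mod_cast this
    rcases hε₂ with h' | h' <;> omega
  · exfalso
    have e1 := (hvals 1 one_pos (by omega)).2.2.1
    have e2 := (hvals 2 two_pos (by omega)).2.2.1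
    rw [← h, hval 1 one_pos (by omega)] at e1
    rw [← h, hval 2 two_pos (by omega)] at e2
    have e1' : δ₁ = ε₃ := by
      have : ((δ₁ : ℤ) : ℂ) = ((ε₃ : ℤ) : ℂ) := by rw [e1]; norm_num
      exact_mod_cast this
    have e2' : δ₁ = -ε₃ := by
      have : ((δ₁ : ℤ) : ℂ) = ((-ε₃ : ℤ) : ℂ) := by rw [e2]; push_cast; norm_num
      exact_mod_cast this
    rcases hε₃ with h' | h' <;> omega
  · exfalso
    have e := (hvals (2 ^ (n - 2)) (by positivity) hhalf).2.2.2 j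
    rw [← h, hval (2 ^ (n - 2)) (by positivity) hhalf] at e
    have hz : ζ ^ (((j : ℕ) + 1) * 2 ^ (n - 2)) = (-1) ^ ((j : ℕ) + 1) := by
      rw [mul_comm, pow_mul, zeta_half n hn ζ hζ]
    rw [hz] at e
    rcases Nat.even_or_odd ((j : ℕ) + 1) with hj | hj
    · rw [hj.neg_one_pow] at e
      have : ((δ₁ : ℤ) : ℂ) = ((ε₁ * 2 : ℤ) : ℂ) := by rw [e]; push_cast; norm_num
      have e' : δ₁ = ε₁ * 2 := by exact_mod_cast this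
      rcases hδ₁ with h' | h' <;> rcases hε₁ with h'' | h'' <;> omega
    · rw [hj.neg_one_pow] at e
      have : ((δ₁ : ℤ) : ℂ) = ((ε₁ * (-2) : ℤ) : ℂ) := by rw [e]; push_cast; norm_num
      have e' : δ₁ = ε₁ * (-2) := by exact_mod_cast this
      rcases hδ₁ with h' | h' <;> rcases hε₁ with h'' | h'' <;> omega

/-- the final arithmetic -/
theorem final_arith (g c c₁ c₂ x : ℕ) (δ : ℤ) (hδ : δ = 1 ∨ δ = -1) (hg : 0 < g) (hc : 0 < c) (hc₁ : 0 < c₁)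
    (hc₂ : 0 < c₂) (hx : 0 < x) (hx' : 0 < (x : ℤ) + δ)
    (h : (g : ℂ) ^ 2 * (1 + (δ : ℂ) * (δ : ℂ) ^ 2 / (x : ℂ) - (δ : ℂ) * (-2 * (δ : ℂ)) ^ 2 / ((x : ℂ) + (δ : ℂ))) =
      (g : ℂ) * (c : ℂ) * (2 * (c : ℂ) ^ 2 * ((c₁ : ℂ)⁻¹ + (c₂ : ℂ)⁻¹) ^ 2)) :
    (x : ℤ) ≠ δ ∧ (g : ℚ) * ((x : ℚ) - δ) ^ 2 =
      2 * (x : ℚ) * ((x : ℚ) + δ) * (c : ℚ) ^ 3 * (1 / (c₁ : ℚ) + 1 / (c₂ : ℚ)) ^ 2 := by
  have hδsq : (δ : ℂ) ^ 2 = 1 := by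
    rcases hδ with rfl | rfl <;> norm_num
  have hgC : (g : ℂ) ≠ 0 := by exact_mod_cast hg.ne'
  have hxC : (x : ℂ) ≠ 0 := by exact_mod_cast hx.ne'
  have hx'C : (x : ℂ) + (δ : ℂ) ≠ 0 := by
    have : ((x : ℤ) + δ : ℤ) ≠ 0 := hx'.ne'
    exact_mod_cast this
  have key : (g : ℂ) * ((x : ℂ) - δ) ^ 2 =
      2 * (x : ℂ) * ((x : ℂ) + δ) * (c : ℂ) ^ 3 * (1 / (c₁ : ℂ) + 1 / (c₂ : ℂ)) ^ 2 := by
    have h' : (g : ℂ) * (1 + (δ : ℂ) * (δ : ℂ) ^ 2 / (x : ℂ) - (δ : ℂ) * (-2 * (δ : ℂ)) ^ 2 / ((x : ℂ) + (δ : ℂ))) =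
        (c : ℂ) * (2 * (c : ℂ) ^ 2 * ((c₁ : ℂ)⁻¹ + (c₂ : ℂ)⁻¹) ^ 2) := by
      have h2 : (g : ℂ) * ((g : ℂ) * (1 + (δ : ℂ) * (δ : ℂ) ^ 2 / (x : ℂ) -
          (δ : ℂ) * (-2 * (δ : ℂ)) ^ 2 / ((x : ℂ) + (δ : ℂ)))) =
          (g : ℂ) * ((c : ℂ) * (2 * (c : ℂ) ^ 2 * ((c₁ : ℂ)⁻¹ + (c₂ : ℂ)⁻¹) ^ 2)) := by
        rw [← mul_assoc, ← pow_two, h]
        ring
      exact mul_left_cancel₀ hgC h2
    have h3 : (1 + (δ : ℂ) * (δ : ℂ) ^ 2 / (x : ℂ) - (δ : ℂ) * (-2 * (δ : ℂ)) ^ 2 / ((x : ℂ) + (δ : ℂ))) *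
        ((x : ℂ) * ((x : ℂ) + δ)) = ((x : ℂ) - δ) ^ 2 := by
      have e1 : (δ : ℂ) * (δ : ℂ) ^ 2 = δ := by rw [hδsq, mul_one]
      have e2 : (-2 * (δ : ℂ)) ^ 2 = 4 := by rw [mul_pow, hδsq]; norm_num
      rw [e1, e2]
      field_simp
      ring
    calc (g : ℂ) * ((x : ℂ) - δ) ^ 2
        = ((g : ℂ) * (1 + (δ : ℂ) * (δ : ℂ) ^ 2 / (x : ℂ) -
            (δ : ℂ) * (-2 * (δ : ℂ)) ^ 2 / ((x : ℂ) + (δ : ℂ)))) * ((x : ℂ) * ((x : ℂ) + δ)) := by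
          rw [← h3]; ring
      _ = 2 * (x : ℂ) * ((x : ℂ) + δ) * (c : ℂ) ^ 3 * (1 / (c₁ : ℂ) + 1 / (c₂ : ℂ)) ^ 2 := by
          rw [h']; ring
  have keyQ : (g : ℚ) * ((x : ℚ) - δ) ^ 2 =
      2 * (x : ℚ) * ((x : ℚ) + δ) * (c : ℚ) ^ 3 * (1 / (c₁ : ℚ) + 1 / (c₂ : ℚ)) ^ 2 := by
    have : (((g : ℚ) * ((x : ℚ) - δ) ^ 2 : ℚ) : ℂ) =
        ((2 * (x : ℚ) * ((x : ℚ) + δ) * (c : ℚ) ^ 3 * (1 / (c₁ : ℚ) + 1 / (c₂ : ℚ)) ^ 2 : ℚ) : ℂ) := by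
      push_cast
      exact key
    exact_mod_cast this
  refine ⟨?_, keyQ⟩
  intro hxδ
  have h0 : ((x : ℚ) - δ) = 0 := by
    have : ((x : ℤ) : ℚ) = (δ : ℚ) := by rw [hxδ]
    rw [← this]
    push_cast
    ring
  rw [h0] at keyQ
  have hpos : 0 < 2 * (x : ℚ) * ((x : ℚ) + δ) * (c : ℚ) ^ 3 * (1 / (c₁ : ℚ) + 1 / (c₂ : ℚ)) ^ 2 := by
    have hxQ : (0 : ℚ) < x := by exact_mod_cast hx
    have hx'Q : (0 : ℚ) < (x : ℚ) + δ := by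
      have : ((0 : ℤ) : ℚ) < (((x : ℤ) + δ : ℤ) : ℚ) := by exact_mod_cast hx'
      push_cast at this
      exact this
    have hcQ : (0 : ℚ) < c := by exact_mod_cast hc
    have hc₁Q : (0 : ℚ) < c₁ := by exact_mod_cast hc₁
    have hc₂Q : (0 : ℚ) < c₂ := by exact_mod_cast hc₂
    positivity
  rw [← keyQ] at hpos
  simp at hpos

/-- S4482 over the conclusion of S4481 -/
theorem result_of {G : Type u} [Group G] [Finite G] (M : Ideal AlgInt) (hM : IsPModular 2 M) (n : ℕ)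
    (hn : 3 ≤ n) (P : Sylow 2 G) (σ τ : G)
    (hσo : orderOf σ = 2 ^ (n - 1)) (hτo : orderOf τ = 2) (hrel : τ * σ * τ⁻¹ = σ⁻¹)
    (hgen : Subgroup.closure ({σ, τ} : Set G) = (P : Subgroup G))
    (hconj : IsConj (σ ^ (2 ^ (n - 2))) τ ∧ IsConj (σ ^ (2 ^ (n - 2))) (σ * τ))
    (χ₁ : IrrCharacter G) (hχ₁ : χ₁ ∈ principalBlock M G) (h1 : (χ₁ : G → ℂ) ≠ (fun _ => 1)) (δ₁ : ℤ)
    (hδ₁ : δ₁ = 1 ∨ δ₁ = -1)
    (hval : ∀ l : ℕ, 0 < l → l < 2 ^ (n - 1) → (χ₁ : G → ℂ) (σ ^ l) = δ₁)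
    (H : Nonempty (↥(P : Subgroup G) ≃* DihedralGroup (2 ^ (n - 1))) →
      ∀ (ζ : ℂ), IsPrimitiveRoot ζ (2 ^ (n - 1)) → Concl4481 M n σ ζ) :
    (charDegree (χ₁ : G → ℂ) : ℤ) ≠ δ₁ ∧
      (Nat.card G : ℚ) * ((charDegree (χ₁ : G → ℂ) : ℚ) - δ₁) ^ 2 =
        2 * (charDegree (χ₁ : G → ℂ) : ℚ) * ((charDegree (χ₁ : G → ℂ) : ℚ) + δ₁) *
          (Nat.card (Subgroup.centralizer ({σ ^ (2 ^ (n - 2))} : Set G)) : ℚ) ^ 3 *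
          (1 / (Nat.card (Subgroup.centralizer ({σ ^ (2 ^ (n - 2)), τ} : Set G)) : ℚ) +
            1 / (Nat.card (Subgroup.centralizer ({σ ^ (2 ^ (n - 2)), σ * τ} : Set G)) : ℚ)) ^ 2 := by
  classical
  let _ : Fintype G := Fintype.ofFinite G
  obtain ⟨hP, hPc⟩ := Cfsg.Agent.Lib.Helper22.BOFDIH.sylow_dihedral n hn (P : Subgroup G) σ τ hσo hτo hrel hgen
  obtain ⟨hJo, hJσ, hJτ⟩ := Cfsg.Agent.Lib.Helper23.BOFJFACTS.J_facts n hn σ τ hσo hτo hrel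
  have hall := Cfsg.Agent.Lib.Helper22.BOFALLINV.all_involutions_conj n hn P σ τ hσo hτo hrel hgen hconj
  have hpos : 0 < 2 ^ (n - 1) := by positivity
  have hhalf : 2 ^ (n - 2) < 2 ^ (n - 1) := Nat.pow_lt_pow_right (by norm_num) (by omega)
  have hhalf0 : 0 < 2 ^ (n - 2) := by positivity
  obtain ⟨ζ, hζ⟩ : ∃ ζ : ℂ, IsPrimitiveRoot ζ (2 ^ (n - 1)) :=
    ⟨_, Complex.isPrimitiveRoot_exp _ hpos.ne'⟩
  obtain ⟨χ', hχ', hχ'v, hχ'r⟩ := identify M n hn σ ζ hζ (H hP ζ hζ) χ₁ hχ₁ h1 δ₁ hδ₁ hval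
  have hδsq : (δ₁ : ℂ) * (δ₁ : ℂ) = 1 := by
    rcases hδ₁ with rfl | rfl <;> norm_num
  set J : G := σ ^ (2 ^ (n - 2)) with hJdef
  -- the class function
  set Θ : G → ℂ := fun g => 1 + (δ₁ : ℂ) * (χ₁ : G → ℂ) g - (δ₁ : ℂ) * (χ' : G → ℂ) g with hΘdef
  have hΘc : ∀ g h : G, Θ (h * g * h⁻¹) = Θ g := by
    intro g h
    simp only [hΘdef]
    rw [irr_conj, irr_conj]
  have hΘo : ∀ g : G, Odd (orderOf g) → Θ g = 0 := by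
    intro g hg
    simp only [hΘdef]
    rw [hχ'r g hg]
    ring
  have hΘv : ∀ l : ℕ, 0 < l → l < 2 ^ (n - 1) → ∀ ρ : G, Commute (σ ^ l) ρ → Odd (orderOf ρ) →
      Θ (σ ^ l * ρ) = 2 - ζ ^ l - (ζ ^ l)⁻¹ := by
    intro l hl0 hl ρ hρ hρo
    simp only [hΘdef]
    rw [Cfsg.Agent.Lib.Helper5.BOFSECV.section_value M hM n hn P hP σ hσo χ₁ hχ₁ l hl0 hl ρ hρ hρo,
      Cfsg.Agent.Lib.Helper5.BOFSECV.section_value M hM n hn P hP σ hσo χ' hχ' l hl0 hl ρ hρ hρo, hval l hl0 hl, hχ'v l hl0 hl]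
    linear_combination (1 - ζ ^ l - (ζ ^ l)⁻¹) * hδsq
  -- class algebra
  have hCA := Cfsg.Agent.Lib.Helper22.BOFCA.class_sum_three χ₁ χ' (δ₁ : ℂ) J
  have hREG := Cfsg.Agent.Lib.Helper23.BOFREG.regroup Θ hΘc hΘo J hJo hall
  -- the centralizer of `J`
  have hσC : σ ∈ Subgroup.centralizer ({J} : Set G) := by
    rw [Subgroup.mem_centralizer_singleton_iff]
    exact hJσ.eq.symm
  have hτC : τ ∈ Subgroup.centralizer ({J} : Set G) := by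
    rw [Subgroup.mem_centralizer_singleton_iff]
    exact hJτ.eq.symm
  have hPJ : (P : Subgroup G) ≤ Subgroup.centralizer ({J} : Set G) := by
    rw [← hgen, Subgroup.closure_le]
    intro x hx
    rcases hx with rfl | hx
    · exact hσC
    · rw [Set.mem_singleton_iff] at hx
      rw [hx]
      exact hτC
  obtain ⟨N, hNn, hNodd, hNidx⟩ := Cfsg.Agent.Lib.Helper5.BOFNIDX.exists_normal_complement n hn P hP hPc J hJo hPJ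
  haveI := hNn
  set σ' : ↥(Subgroup.centralizer ({J} : Set G)) := ⟨σ, hσC⟩ with hσ'
  set τ' : ↥(Subgroup.centralizer ({J} : Set G)) := ⟨τ, hτC⟩ with hτ'
  have hJ' : ((σ' ^ (2 ^ (n - 2)) : ↥(Subgroup.centralizer ({J} : Set G))) : G) = J := rfl
  have hTRANS := Cfsg.Agent.Lib.Helper23.BOFTRANS.sum_centralizer Θ J hJo (σ' ^ (2 ^ (n - 2))) hJ'
  have hσ'o : orderOf σ' = 2 ^ (n - 1) := by
    rw [← hσo, ← Subgroup.orderOf_coe]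
  have hτ'o : orderOf τ' = 2 := by
    rw [← hτo, ← Subgroup.orderOf_coe]
  have hrel' : τ' * σ' * τ'⁻¹ = σ'⁻¹ := Subtype.ext hrel
  have hJc' : ∀ g : ↥(Subgroup.centralizer ({J} : Set G)), Commute (σ' ^ (2 ^ (n - 2))) g := by
    intro g
    have hg := g.2
    rw [Subgroup.mem_centralizer_singleton_iff] at hg
    apply Subtype.ext
    exact hg.symm
  have hLOC := Cfsg.Agent.Lib.Helper20.BOFLOC.local_count (X := ↥(Subgroup.centralizer ({J} : Set G))) n hn N hNodd hNidx σ' τ' hσ'o hτ'o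
    hrel' hJc' ζ hζ (fun c => Θ (c : G))
    (fun g h => hΘc (g : G) (h : G))
    (fun l hl0 hl ρ hρ hρo => by
      have hρ' : Commute (σ ^ l) (ρ : G) := by
        have := congrArg Subtype.val hρ.eq
        exact this
      have hρo' : Odd (orderOf (ρ : G)) := by
        rw [Subgroup.orderOf_coe]
        exact hρo
      exact hΘv l hl0 hl (ρ : G) hρ' hρo')
  have hc1 := Cfsg.Agent.Lib.Helper23.BOFCENTCARD.card_centralizer_pair J τ τ' rfl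
  have hc2 := Cfsg.Agent.Lib.Helper23.BOFCENTCARD.card_centralizer_pair J (σ * τ) (σ' * τ') rfl
  -- values
  have hχ₁J : (χ₁ : G → ℂ) J = δ₁ := hval _ hhalf0 hhalf
  have hχ'J : (χ' : G → ℂ) J = -2 * (δ₁ : ℂ) := by
    rw [hJdef, hχ'v _ hhalf0 hhalf, zeta_half n hn ζ hζ]
    have hinv : ((-1 : ℂ))⁻¹ = -1 := by norm_num
    rw [hinv]
    ring
  have hx₁ := irr_apply_one χ₁
  have hx' := irr_apply_one χ'
  have hdeg : (charDegree (χ' : G → ℂ) : ℤ) = (charDegree (χ₁ : G → ℂ) : ℤ) + δ₁ := by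
    have h := hχ'r 1 (by rw [orderOf_one]; exact odd_one)
    rw [hx₁, hx'] at h
    have h2 : ((charDegree (χ' : G → ℂ) : ℤ) : ℂ) = (((charDegree (χ₁ : G → ℂ) : ℤ) + δ₁ : ℤ) : ℂ) := by
      push_cast
      linear_combination (-(δ₁ : ℂ)) * h +
        ((charDegree (χ₁ : G → ℂ) : ℂ) - (charDegree (χ' : G → ℂ) : ℂ)) * hδsq
    exact_mod_cast h2
  have hx'C : (χ' : G → ℂ) 1 = (charDegree (χ₁ : G → ℂ) : ℂ) + (δ₁ : ℂ) := by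
    rw [hx']
    have : ((charDegree (χ' : G → ℂ) : ℤ) : ℂ) = (((charDegree (χ₁ : G → ℂ) : ℤ) + δ₁ : ℤ) : ℂ) := by
      rw [hdeg]
    push_cast at this
    exact this
  -- assemble
  have hsum : ∑ a : G, ∑ b : G, Θ (a * J * a⁻¹ * (b * J * b⁻¹)) =
      (Nat.card G : ℂ) ^ 2 * (1 + (δ₁ : ℂ) * (δ₁ : ℂ) ^ 2 / (charDegree (χ₁ : G → ℂ) : ℂ) -
        (δ₁ : ℂ) * (-2 * (δ₁ : ℂ)) ^ 2 / ((charDegree (χ₁ : G → ℂ) : ℂ) + (δ₁ : ℂ))) := by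
    have h := hCA
    rw [hχ₁J, hχ'J, hx₁, hx'C] at h
    exact h
  have hfinal := final_arith (Nat.card G) (Nat.card (Subgroup.centralizer ({J} : Set G)))
    (Nat.card (Subgroup.centralizer ({J, τ} : Set G)))
    (Nat.card (Subgroup.centralizer ({J, σ * τ} : Set G)))
    (charDegree (χ₁ : G → ℂ)) δ₁ hδ₁ Nat.card_pos Nat.card_pos Nat.card_pos Nat.card_pos
    (irr_charDegree_pos χ₁)
    (by rw [← hdeg]; exact_mod_cast irr_charDegree_pos χ')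
    (by
      rw [← hsum, hREG, hTRANS]
      congr 1
      rw [← hc1, ← hc2]
      exact hLOC)
  exact hfinal

end Cfsg.Agent.Lib.Helper24.BOFMain
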