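import Mathlib
import Cfsg.Prelude.Def_BlockRank
import Cfsg.Agent.Lib.Helper6.BRHDefs
import Cfsg.Agent.Lib.Helper6.BRHEq
import Cfsg.Agent.Lib.Helper6.Knoerr
import Cfsg.Agent.Lib.Helper24.BRCDefs
import Cfsg.Agent.Lib.Helper16.BRWB0T1
import Cfsg.Agent.Lib.Helper8.BRWBURN
import Cfsg.Agent.Lib.Helper22.BRCFDVD
import Cfsg.Agent.Lib.Helper12.BTSETUP
import Cfsg.Agent.Lib.Helper10.BRCL0

set_option autoImplicit false

/-! BQ-B3 (S4501 market): a simple group with a Sylow 3-subgroup of order 3 has two non-trivial irreducible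
characters of consecutive degrees prime to 3 (the principal 3-block, `f = 2`). -/

namespace Cfsg.Agent.Lib.Helper24.BQB3

open Cfsg Cfsg.Agent.Lib.Helper8.DOM Cfsg.Agent.Lib.Helper27.DO Cfsg.Agent.CharLib
open Cfsg.Agent.Lib.Helper6.BRH Cfsg.Agent.Lib.Helper24.BRC
open scoped ComplexConjugate

universe u

variable {G : Type u} [Group G] [Finite G]

theorem consecutive_degrees [IsSimpleGroup G] (hna : ∃ x y : G, x * y ≠ y * x) (P : Subgroup G) (hP : Nat.card P = 3)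
    (hSyl : ¬ 3 ∣ P.index) :
    ∃ χ χ' : IrrCharacter G, χ ≠ Cfsg.Agent.CharLib.trivIrr G ∧ χ' ≠ Cfsg.Agent.CharLib.trivIrr G ∧
      charDegree (χ' : G → ℂ) = charDegree (χ : G → ℂ) + 1 ∧
      ¬ 3 ∣ charDegree (χ : G → ℂ) ∧ ¬ 3 ∣ charDegree (χ' : G → ℂ) := by
  classical
  have h3 : Fact (Nat.Prime 3) := ⟨Nat.prime_three⟩
  have hnc : ¬ IsMulCommutative G := by
    rintro ⟨⟨h⟩⟩
    obtain ⟨x, y, hxy⟩ := hna
    exact hxy (h x y)
  have hperf := Cfsg.Agent.Lib.Helper12.BTSETUP.commutator_eq_top hnc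
  have hf2 := Cfsg.Agent.Lib.Helper8.BRWBURN.two_le_relIndex (p := 3) hperf P hP hSyl
  have hfd : (Cz P).relIndex (Nz P) ∣ 3 - 1 := Cfsg.Agent.Lib.Helper22.BRCFDVD.fI_dvd (p := 3) P hP
  have hf : (Cz P).relIndex (Nz P) = 3 - 1 := by
    have := Nat.le_of_dvd (by norm_num) hfd
    omega
  obtain ⟨M, hM⟩ := Cfsg.Agent.Lib.Helper6.exists_isPModular 3
  obtain ⟨X, Y, v, ε, b0, -, hdX, hdY, -, -⟩ :=
    Cfsg.Agent.Lib.Helper16.BRWB0T1.exists_B0_full_eq hM P hP hSyl hf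
  have hcX : X.ncard = 2 := by
    rw [← Nat.card_coe_set_eq, b0.cardX, hf]
  have hcY : Y.ncard = 1 := by
    rw [← Nat.card_coe_set_eq, b0.cardY, hf]
  obtain ⟨a, c, hac, hXeq⟩ := Set.ncard_eq_two.mp hcX
  obtain ⟨ψ, hYeq⟩ := Set.ncard_eq_one.mp hcY
  have hψY : ψ ∈ Y := by rw [hYeq]; exact Set.mem_singleton _
  -- name the non-trivial member of X
  obtain ⟨η, hη1, hXeq'⟩ : ∃ η : IrrCharacter G, η ≠ Cfsg.Agent.CharLib.trivIrr G ∧ X = {Cfsg.Agent.CharLib.trivIrr G, η} := by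
    have ht := b0.trivX
    rw [hXeq] at ht
    rcases ht with h | h
    · refine ⟨c, ?_, ?_⟩
      · rw [h]; exact fun h' => hac h'.symm
      · rw [hXeq, h]
    · rw [Set.mem_singleton_iff] at h
      refine ⟨a, ?_, ?_⟩
      · rw [h]; exact hac
      · rw [hXeq, h, Set.pair_comm]
  have hηX : η ∈ X := by rw [hXeq']; exact Set.mem_insert_of_mem _ rfl
  have hψ1 : ψ ≠ Cfsg.Agent.CharLib.trivIrr G := by
    intro h
    exact Set.disjoint_left.mp b0.disj b0.trivX (h ▸ hψY)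
  -- v(1_G) = 1
  obtain ⟨x0, -, -, hx0, -⟩ := Cfsg.Agent.Lib.Helper10.BRCL0.exists_gen (p := 3) P hP
  have hv1 : v (Cfsg.Agent.CharLib.trivIrr G) = 1 := by
    have h := b0.valX (Cfsg.Agent.CharLib.trivIrr G) b0.trivX x0 (by rw [hx0])
    rw [Cfsg.Agent.Lib.Helper6.BRHEq.trivIrr_apply] at h
    exact_mod_cast h.symm
  have hdeg := b0.degY ψ hψY
  rw [hXeq', finsum_mem_pair hη1.symm, hv1, Cfsg.Agent.Lib.Helper6.BRHEq.charDegree_trivIrr'] at hdeg
  have hηpos := charDegree_pos η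
  have hψpos := charDegree_pos ψ
  have hcη := hdX η hηX
  have hcψ := hdY ψ hψY
  rw [hf] at hcψ
  rcases b0.sgn with hε | hε <;> rcases b0.sgnX η hηX with hv | hv <;> rw [hε, hv] at hdeg
  · -- ψ(1) = 1 + η(1)
    refine ⟨η, ψ, hη1, hψ1, by omega, ?_, ?_⟩
    · intro hd
      rw [hv] at hcη
      have h0 : ((charDegree (η : G → ℂ) : ℤ)) % 3 = 0 := by
        exact_mod_cast Nat.mod_eq_zero_of_dvd hd
      unfold Int.ModEq at hcη
      omega
    · intro hd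
      rw [hε] at hcψ
      have h0 : ((charDegree (ψ : G → ℂ) : ℤ)) % 3 = 0 := by
        exact_mod_cast Nat.mod_eq_zero_of_dvd hd
      unfold Int.ModEq at hcψ
      norm_num at hcψ
      omega
  · exfalso; omega
  · exfalso; omega
  · refine ⟨ψ, η, hψ1, hη1, by omega, ?_, ?_⟩
    · intro hd
      rw [hε] at hcψ
      have h0 : ((charDegree (ψ : G → ℂ) : ℤ)) % 3 = 0 := by
        exact_mod_cast Nat.mod_eq_zero_of_dvd hd
      unfold Int.ModEq at hcψ
      norm_num at hcψ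
      omega
    · intro hd
      rw [hv] at hcη
      have h0 : ((charDegree (η : G → ℂ) : ℤ)) % 3 = 0 := by
        exact_mod_cast Nat.mod_eq_zero_of_dvd hd
      unfold Int.ModEq at hcη
      omega

end Cfsg.Agent.Lib.Helper24.BQB3
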