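import Mathlib
import Cfsg.Prelude.Def_Characters
import Cfsg.Agent.Lib.Helper24.BSWDefs

/-!
# Brauer-Suzuki-Wall, abstract form (S3282): vocabulary for the character theory

`Theta K μ = indFun K (1 - μ)` for a linear character `μ : K →* ℂˣ`; `mz K μ χ` its (integer)
multiplicity at the irreducible character `χ`; `Coh` : the coherence statement.
-/

set_option autoImplicit false

namespace Cfsg.Agent.Lib.Helper24.BSW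

variable {G : Type*} [Group G] [Fintype G]

/-- `Theta_mu = Ind_K^G (1_K - mu)`. -/
noncomputable def Theta (K : Subgroup G) (μ : ↥K →* ℂˣ) : G → ℂ :=
  Cfsg.indFun K (fun x => 1 - ((μ x : ℂˣ) : ℂ))

/-- the multiplicity `<Theta_mu, chi>` as an integer (it is one: leaf `mz_cast`). -/
noncomputable def mz (K : Subgroup G) (μ : ↥K →* ℂˣ) (χ : Cfsg.IrrCharacter G) : ℤ :=
  ⌊(Cfsg.classInner (Theta K μ) (χ : G → ℂ)).re⌋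

/-- Coherence: `Theta_mu = 1 + e X - e L_mu` (`mu^2 ≠ 1`), `Theta_nu = 1 + e X + e1 Y1 + e2 Y2`
(`nu` of order 2), with `1, X, L_mu, Y1, Y2` distinct irreducible characters and
`L_mu = L_mu'` iff `mu' = mu^{±1}`. -/
structure Coh (K : Subgroup G) (e e₁ e₂ : ℂ) (X : Cfsg.IrrCharacter G)
    (L : (↥K →* ℂˣ) → Cfsg.IrrCharacter G) (Y₁ Y₂ : Cfsg.IrrCharacter G) : Prop where
  he : e = 1 ∨ e = -1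
  he₁ : e₁ = 1 ∨ e₁ = -1
  he₂ : e₂ = 1 ∨ e₂ = -1
  theta : ∀ μ : ↥K →* ℂˣ, μ ^ 2 ≠ 1 → ∀ g : G,
    Theta K μ g = 1 + e * (X : G → ℂ) g - e * (L μ : G → ℂ) g
  theta_nu : ∀ ν : ↥K →* ℂˣ, ν ≠ 1 → ν ^ 2 = 1 → ∀ g : G,
    Theta K ν g = 1 + e * (X : G → ℂ) g + e₁ * (Y₁ : G → ℂ) g + e₂ * (Y₂ : G → ℂ) g
  X_ne_one : (X : G → ℂ) ≠ fun _ => 1
  L_ne_one : ∀ μ : ↥K →* ℂˣ, μ ^ 2 ≠ 1 → (L μ : G → ℂ) ≠ fun _ => 1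
  L_ne_X : ∀ μ : ↥K →* ℂˣ, μ ^ 2 ≠ 1 → L μ ≠ X
  L_ne_Y : ∀ μ : ↥K →* ℂˣ, μ ^ 2 ≠ 1 → L μ ≠ Y₁ ∧ L μ ≠ Y₂
  L_eq_iff : ∀ μ μ' : ↥K →* ℂˣ, μ ^ 2 ≠ 1 → μ' ^ 2 ≠ 1 → (L μ = L μ' ↔ (μ' = μ ∨ μ' = μ⁻¹))
  Y_ne_one : (Y₁ : G → ℂ) ≠ (fun _ => 1) ∧ (Y₂ : G → ℂ) ≠ fun _ => 1
  Y_ne_X : Y₁ ≠ X ∧ Y₂ ≠ X
  Y_ne : Y₁ ≠ Y₂

end Cfsg.Agent.Lib.Helper24.BSW
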