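import Mathlib
import Cfsg.Prelude.Def_Characters
import Cfsg.Agent.Lib.Helper24.BSWDefs
import Cfsg.Agent.Lib.Helper12.BSWB8
import Cfsg.Agent.Lib.Helper14.BSWB0a
import Cfsg.Agent.Lib.Helper2.BSWG1
import Cfsg.Agent.Lib.Helper2.BSWG3
import Cfsg.Agent.Lib.Helper15.BSWM1
import Cfsg.Agent.Lib.Helper15.BSWM2
import Cfsg.Agent.Lib.Helper21.BSWM345X
import Cfsg.Agent.Lib.Helper19.BSWM6X
import Cfsg.Agent.Lib.Helper19.BSWM7
import Cfsg.Agent.Lib.Helper19.BSWM9X

/-!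
# S3282, leaf M10 `concl_of_dataM` (assembly of M1-M9, G1, G3, B8)
-/

set_option autoImplicit false
open Cfsg Cfsg.Agent.Lib.Helper24.BSW

namespace Cfsg.Agent.Lib.Helper24.BSWM10

variable {G : Type*} [Group G] [Finite G]

theorem concl_of_dataM {t s : G} {K : Subgroup G} (h : Hyp t s K) (hk : 4 ≤ Nat.card K)
    {X : G → ℂ} (hM : DataM K X) : Concl G := by
  classical
  -- an element of R0
  have hne : Nat.card {y : G // y ∈ RR K ∧ X y = 0} ≠ 0 := by
    rw [hM.card0]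
    have : 0 < Nat.card K - 1 := by omega
    positivity
  obtain ⟨⟨y, hyR, hy0⟩⟩ : Nonempty {y : G // y ∈ RR K ∧ X y = 0} :=
    (Nat.card_ne_zero.mp hne).1
  have hQcard := (Cfsg.Agent.Lib.Helper21.BSWM345X.centralizer_card h hk hM y hyR hy0).1
  have hQ0 := (Cfsg.Agent.Lib.Helper21.BSWM345X.centralizer_dvd h hk hM y hyR hy0).1
  have hQcc := Cfsg.Agent.Lib.Helper19.BSWM6X.centralizer_eq_of_mem_R0 h hk hM y hyR hy0
  have hNQ := Cfsg.Agent.Lib.Helper19.BSWM7.card_normalizer_Q h hk hM y hyR hy0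
  obtain ⟨e, heN, heQ, hCe⟩ :=
    Cfsg.Agent.Lib.Helper19.BSWM9X.exists_D_le_normalizer h hk hM y hyR hy0
  obtain ⟨heR, hXe⟩ :=
    Cfsg.Agent.Lib.Helper19.BSWM9X.normalizer_Q_elements h hk hM y hyR hy0 e heN heQ
  have hinve : invCount e = Nat.card K - 1 := by
    rcases hM.onRR e heR with ⟨h0, -⟩ | ⟨-, h1⟩
    · rw [hXe] at h0; exact absurd h0 one_ne_zero
    · exact h1
  have hinve0 : invCount e ≠ 0 := by omega
  obtain ⟨u, hu, hue⟩ := (Cfsg.Agent.Lib.Helper14.BSWB0a.invCount_ne_zero_iff e).mp hinve0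
  obtain ⟨hDcard, -⟩ := Cfsg.Agent.Lib.Helper15.BSWM1.normalizer_D h hk hM e heR u hu hue
  have hG1 := Cfsg.Agent.Lib.Helper2.BSWG1.inverts_centralizer h e heR u hu hue
  obtain ⟨hDcomm, -⟩ := Cfsg.Agent.Lib.Helper2.BSWG3.centralizer_eq_of_mem h e heR u hu hue
  have hB8e := (Cfsg.Agent.Lib.Helper12.BSWB8.RR_centralizer h e heR).2
  -- Q ⊓ D = ⊥
  have hinf : Subgroup.centralizer ({y} : Set G) ⊓ Subgroup.centralizer ({e} : Set G) = ⊥ := by
    rw [eq_bot_iff]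
    intro z hz
    rw [Subgroup.mem_bot]
    by_contra hz1
    obtain ⟨hzy, hze⟩ := Subgroup.mem_inf.mp hz
    have hXz : X z = 0 := hQ0 z hzy hz1
    have hzR : z ∈ RR K := hB8e z hze hz1
    have hzinv : invCount z ≠ 0 :=
      (Cfsg.Agent.Lib.Helper14.BSWB0a.invCount_ne_zero_iff z).mpr ⟨u, hu, hG1 z hze⟩
    rcases hM.onRR z hzR with ⟨-, h0⟩ | ⟨h1, -⟩
    · exact hzinv h0
    · rw [hXz] at h1; exact zero_ne_one h1
  -- cardinalities
  set k := Nat.card K with hkdef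
  obtain ⟨m, hm⟩ : ∃ m, k = m + 4 := ⟨k - 4, by omega⟩
  have e1 : 2 * k - 1 = 2 * m + 7 := by omega
  have e2 : 2 * k - 2 = 2 * m + 6 := by omega
  have e3 : k - 1 = m + 3 := by omega
  refine ⟨Subgroup.centralizer ({y} : Set G), Subgroup.centralizer ({e} : Set G), ?_, hQcc,
    ⟨⟨fun a b => Subtype.ext (hDcomm a a.2 b b.2)⟩⟩, ?_, hinf, ?_,
    Cfsg.Agent.Lib.Helper15.BSWM2.last_clause_D h hk hM e heR u hu hue⟩
  · have hkm : Nat.card ↥K = m + 4 := hm
    rw [hM.card, hQcard, e1, e2, hkm]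
    have e4 : 2 * m + 7 - 1 = 2 * m + 6 := by omega
    rw [e4]; ring
  · rw [hDcard, hQcard]; omega
  · -- N(Q) = Q ⊔ D by cardinality
    have hle : Subgroup.centralizer ({y} : Set G) ⊔ Subgroup.centralizer ({e} : Set G) ≤
        Subgroup.normalizer ((Subgroup.centralizer ({y} : Set G) : Subgroup G) : Set G) :=
      sup_le Subgroup.le_normalizer hCe
    symm
    apply Subgroup.eq_of_le_of_card_ge hle
    rw [hNQ]
    have hd1 : Nat.card (Subgroup.centralizer ({y} : Set G)) ∣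
        Nat.card ↥(Subgroup.centralizer ({y} : Set G) ⊔ Subgroup.centralizer ({e} : Set G)) :=
      Subgroup.card_dvd_of_le le_sup_left
    have hd2 : Nat.card (Subgroup.centralizer ({e} : Set G)) ∣
        Nat.card ↥(Subgroup.centralizer ({y} : Set G) ⊔ Subgroup.centralizer ({e} : Set G)) :=
      Subgroup.card_dvd_of_le le_sup_right
    rw [hQcard] at hd1
    rw [hDcard] at hd2
    have hcop : Nat.Coprime (2 * k - 1) (k - 1) := by
      rw [e1, e3]
      have : 2 * m + 7 = 2 * (m + 3) + 1 := by ring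
      rw [this]
      simp
    have hdvd := hcop.mul_dvd_of_dvd_of_dvd hd1 hd2
    exact Nat.le_of_dvd Nat.card_pos hdvd

end Cfsg.Agent.Lib.Helper24.BSWM10
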