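import Mathlib
import Cfsg.Prelude.Def_Characters
import Cfsg.Agent.Lib.Helper24.BSWDefs
import Cfsg.Agent.Lib.Helper5.BSWB1
import Cfsg.Agent.Lib.Helper16.BSWT1TK
import Cfsg.Agent.Lib.Helper15.BSWT2
import Cfsg.Agent.Lib.Helper14.BSWP3

/-!
# S3282 (Brauer-Suzuki-Wall, abstract form): top assembly

`main_of` : the conclusion from the hypotheses, given the character part
`4 ≤ |K| → DataP K ∨ ∃ X, DataM K X` (helper1's batch 2) and the endgame of case M (leaf M10).
Leaves: B1 helper5, T1 helper16 (+ helper15, helper2, helper5), T2 helper15, P3 helper14.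
-/

set_option autoImplicit false
open Cfsg Cfsg.Agent.Lib.Helper24.BSW

namespace Cfsg.Agent.Lib.Helper24.BSWMain

variable {G : Type*} [Group G] [Finite G]

theorem two_le_card {t s : G} {K : Subgroup G} (h : Hyp t s K) : 2 ≤ Nat.card K := by
  have h1 : orderOf (⟨t, h.htK⟩ : K) = 2 := by
    rw [← Subgroup.orderOf_coe]; exact h.ht
  have h2 : orderOf (⟨t, h.htK⟩ : K) ∣ Nat.card K := orderOf_dvd_natCard _
  rw [h1] at h2
  exact Nat.le_of_dvd Nat.card_pos h2

theorem main_of {t s : G} {K : Subgroup G} (h : Hyp t s K)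
    (char_part : 4 ≤ Nat.card K → DataP K ∨ ∃ X : G → ℂ, DataM K X)
    (endM : 4 ≤ Nat.card K → ∀ X : G → ℂ, DataM K X → Concl G) : Concl G := by
  obtain ⟨-, heven⟩ := Cfsg.Agent.Lib.Helper5.BSWB1.card_centralizer h
  have h2 := two_le_card h
  by_cases hk : Nat.card K = 2
  · rcases Cfsg.Agent.Lib.Helper16.BSWT1TK.small_case h hk with ⟨h12, hnr⟩ | hP
    · exact Cfsg.Agent.Lib.Helper15.BSWT2.concl_of_twelve h hk h12 hnr
    · exact Cfsg.Agent.Lib.Helper14.BSWP3.concl_of_dataP h hP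
  · have hk4 : 4 ≤ Nat.card K := by
      obtain ⟨m, hm⟩ := heven
      omega
    rcases char_part hk4 with hP | ⟨X, hM⟩
    · exact Cfsg.Agent.Lib.Helper14.BSWP3.concl_of_dataP h hP
    · exact endM hk4 X hM

end Cfsg.Agent.Lib.Helper24.BSWMain
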