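import Mathlib
import Cfsg.Prelude.Def_Characters
import Cfsg.Prelude.Def_Transfer
import Cfsg.Agent.Lib.Helper24.BSWDefs
import Cfsg.Agent.Lib.Helper5.BSWB1
import Cfsg.Agent.Lib.Helper5.BSWB3
import Cfsg.Agent.Lib.Helper12.BSWB7
import Cfsg.Agent.Lib.Helper12.BSWB9
import Cfsg.Agent.Lib.Helper14.BSWB0a
import Cfsg.Agent.Lib.Helper24.CentralChar
import Cfsg.Agent.S3277

/-!
# S3282, leaf T1 (`k = 2`) via the landed row S3277 (involution centralizer a four-group ⇒ `A5`)
-/

set_option autoImplicit false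
open Cfsg Cfsg.Agent.Lib.Helper24.BSW

namespace Cfsg.Agent.Lib.Helper24.BSWT1

variable {G : Type*} [Group G] [Finite G]

theorem card_cent {t s : G} {K : Subgroup G} (h : Hyp t s K) (hk : Nat.card K = 2) :
    Nat.card (Subgroup.centralizer ({t} : Set G)) = 4 := by
  rw [(Cfsg.Agent.Lib.Helper5.BSWB1.card_centralizer h).1, hk]

theorem sq_eq_one_of_mem_cent {t s : G} {K : Subgroup G} (h : Hyp t s K) (hk : Nat.card K = 2) :
    ∀ c ∈ Subgroup.centralizer ({t} : Set G), c ^ 2 = 1 := by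
  intro c hc
  rcases Cfsg.Agent.Lib.Helper5.BSWB3.mem_cent_cases h c hc with hcK | ⟨-, ho, -⟩
  · have h1 : (⟨c, hcK⟩ : K) ^ Nat.card K = 1 := pow_card_eq_one'
    rw [hk] at h1
    exact congrArg Subtype.val h1
  · rw [← ho]; exact pow_orderOf_eq_one c

theorem comm_ts {t s : G} {K : Subgroup G} (h : Hyp t s K) : t * s = s * t :=
  (Subgroup.mem_centralizer_iff.mp h.hsH) t rfl

theorem sq_ts {t s : G} {K : Subgroup G} (h : Hyp t s K) : (t⁻¹ * s) ^ 2 = 1 := by
  have ht2 : t * t = 1 := by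
    have := pow_orderOf_eq_one t; rw [h.ht, pow_two] at this; exact this
  have hs2 : s * s = 1 := by
    have := pow_orderOf_eq_one s; rw [h.hs, pow_two] at this; exact this
  have htinv : t⁻¹ = t := inv_eq_of_mul_eq_one_left ht2
  rw [htinv, pow_two]
  calc t * s * (t * s) = t * (s * t) * s := by group
    _ = t * (t * s) * s := by rw [comm_ts h]
    _ = (t * t) * (s * s) := by group
    _ = 1 := by rw [ht2, hs2, one_mul]

theorem ts_ne {t s : G} {K : Subgroup G} (h : Hyp t s K) : t⁻¹ * s ≠ 1 := by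
  intro h1
  have : s = t := by
    have := congrArg (fun x => t * x) h1
    simpa using this
  exact h.hsK (this ▸ h.htK)

theorem card_eq_four_mul {t s : G} {K : Subgroup G} (h : Hyp t s K) (hk : Nat.card K = 2) :
    Nat.card G = 4 * (Subgroup.centralizer ({t} : Set G)).index := by
  rw [← card_cent h hk]; exact (Subgroup.card_mul_index _).symm

/-- (a) no normal 2-complement -/
theorem not_hasNormalPComplement {t s : G} {K : Subgroup G} (h : Hyp t s K)
    (hk : Nat.card K = 2) : ¬ Cfsg.HasNormalPComplement 2 G := by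
  rintro ⟨P, N, hN, hc⟩
  haveI := hN
  haveI : Fact (Nat.Prime 2) := ⟨Nat.prime_two⟩
  have hodd := Cfsg.Agent.Lib.Helper12.BSWB9.odd_index h
  set j := (Subgroup.centralizer ({t} : Set G)).index with hj
  have hG : Nat.card G = 4 * j := card_eq_four_mul h hk
  have hNP : Nat.card N * Nat.card (P : Subgroup G) = Nat.card G := hc.card_mul_card
  have hNidx : (P : Subgroup G).index = Nat.card N := hc.index_eq_card
  have hNodd : ¬ 2 ∣ Nat.card N := by
    rw [← hNidx]; exact P.not_dvd_index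
  obtain ⟨a, ha⟩ := IsPGroup.iff_card.mp P.isPGroup'
  -- a = 2
  have hjodd : ¬ 2 ∣ j := by
    intro h2; exact (Nat.not_even_iff_odd.mpr hodd) (even_iff_two_dvd.mpr h2)
  have ha2 : a = 2 := by
    rw [ha, hG] at hNP
    have hcopN : Nat.Coprime (2 ^ a) (Nat.card N) :=
      Nat.Coprime.pow_left a ((Nat.Prime.coprime_iff_not_dvd Nat.prime_two).mpr hNodd)
    have hcopj : Nat.Coprime (2 ^ 2) j :=
      Nat.Coprime.pow_left 2 ((Nat.Prime.coprime_iff_not_dvd Nat.prime_two).mpr hjodd)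
    have h1 : 2 ^ a ∣ 2 ^ 2 * j := ⟨Nat.card N, by rw [mul_comm (2 ^ a)]; omega⟩
    have h2 : 2 ^ 2 ∣ Nat.card N * 2 ^ a := ⟨j, by omega⟩
    have h3 : 2 ^ a ∣ 2 ^ 2 := by
      have hc' : Nat.Coprime (2 ^ a) j :=
        Nat.Coprime.pow_left a ((Nat.Prime.coprime_iff_not_dvd Nat.prime_two).mpr hjodd)
      exact hc'.dvd_of_dvd_mul_right h1
    have h4 : 2 ^ 2 ∣ 2 ^ a := by
      have hc' : Nat.Coprime (2 ^ 2) (Nat.card N) :=
        Nat.Coprime.pow_left 2 ((Nat.Prime.coprime_iff_not_dvd Nat.prime_two).mpr hNodd)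
      exact hc'.dvd_of_dvd_mul_left h2
    have h5 := (Nat.pow_dvd_pow_iff_le_right (by norm_num : 1 < 2)).mp h3
    have h6 := (Nat.pow_dvd_pow_iff_le_right (by norm_num : 1 < 2)).mp h4
    omega
  -- G ⧸ N has order 4, hence is commutative
  have hQ : Nat.card (G ⧸ N) = 2 ^ 2 := by
    rw [← Subgroup.index_eq_card, hc.symm.index_eq_card, ha, ha2]
  have hcomm := IsPGroup.commutative_of_card_eq_prime_sq hQ
  obtain ⟨c, hc'⟩ := isConj_iff.mp (h.hconj t s h.ht h.hs)
  have hmk : (QuotientGroup.mk (s := N) s) = QuotientGroup.mk t := by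
    rw [← hc']
    simp only [QuotientGroup.mk_mul, QuotientGroup.mk_inv]
    rw [hcomm (QuotientGroup.mk c) (QuotientGroup.mk t), mul_assoc, mul_inv_cancel, mul_one]
  have hmem : t⁻¹ * s ∈ N := by
    rw [← QuotientGroup.eq_one_iff, QuotientGroup.mk_mul, QuotientGroup.mk_inv, hmk,
      inv_mul_cancel]
  have ho1 : orderOf (t⁻¹ * s) ∣ Nat.card N := by
    have := orderOf_dvd_natCard (⟨t⁻¹ * s, hmem⟩ : N)
    rwa [← Subgroup.orderOf_coe] at this
  have ho2 : orderOf (t⁻¹ * s) ∣ 2 := orderOf_dvd_of_pow_eq_one (sq_ts h)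
  have ho3 : orderOf (t⁻¹ * s) = 1 := by
    rcases (Nat.dvd_prime Nat.prime_two).mp ho2 with h1 | h2
    · exact h1
    · exact absurd (h2 ▸ ho1) hNodd
  exact ts_ne h (orderOf_eq_one_iff.mp ho3)

/-- (b) a normal elementary abelian 2-subgroup of order 2 or 4 forces `|G| = 12` and no real
element in `RR`. -/
theorem twelve_of_normal {t s : G} {K : Subgroup G} (h : Hyp t s K) (hk : Nat.card K = 2)
    (E : Subgroup G) (hEn : E.Normal) (hEe : Cfsg.IsElementaryAbelian 2 E)
    (hE : Nat.card E = 2 ∨ Nat.card E = 4) :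
    Nat.card G = 12 ∧ ∀ y ∈ RR K, invCount y = 0 := by
  classical
  have hEne : E ≠ ⊥ := by
    intro hb; rw [hb] at hE; simp at hE
  obtain ⟨z, hzE, hz1⟩ : ∃ z : G, z ∈ E ∧ z ≠ 1 := by
    obtain ⟨a, ha⟩ := Subgroup.ne_bot_iff_exists_ne_one.mp hEne
    exact ⟨(a : G), a.2, fun h0 => ha (Subtype.ext h0)⟩
  have hz2 : orderOf z = 2 := orderOf_eq_prime (hEe.2 z hzE) hz1
  -- all involutions lie in E
  have hinvE : ∀ u : G, orderOf u = 2 → u ∈ E := by
    intro u hu
    obtain ⟨c, hc⟩ := isConj_iff.mp (h.hconj z u hz2 hu)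
    rw [← hc]; exact hEn.conj_mem z hzE c
  have htE : t ∈ E := hinvE t h.ht
  have hsE : s ∈ E := hinvE s h.hs
  have ht1 : t ≠ 1 := by intro h0; have := h.ht; rw [h0, orderOf_one] at this; omega
  have hs1 : s ≠ 1 := by intro h0; have := h.hs; rw [h0, orderOf_one] at this; omega
  have hst : s ≠ t := fun h0 => h.hsK (h0 ▸ h.htK)
  rcases hE with hE2 | hE4
  · -- three distinct elements 1, t, s in a group of order 2
    exfalso
    obtain ⟨b, -, hb⟩ := (Nat.card_eq_two_iff' (1 : E)).mp hE2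
    have h1 : (⟨t, htE⟩ : E) = b := hb _ (fun h0 => ht1 (congrArg Subtype.val h0))
    have h2 : (⟨s, hsE⟩ : E) = b := hb _ (fun h0 => hs1 (congrArg Subtype.val h0))
    exact hst (congrArg Subtype.val (h2.trans h1.symm))
  · -- E = C(t)
    have hEab := hEe.1
    have hle : E ≤ Subgroup.centralizer ({t} : Set G) := by
      intro e he
      rw [Subgroup.mem_centralizer_iff]
      intro x hx
      rw [Set.mem_singleton_iff] at hx
      subst hx
      have := hEab.is_comm.comm (⟨x, htE⟩ : E) ⟨e, he⟩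
      exact congrArg Subtype.val this
    have hEC : E = Subgroup.centralizer ({t} : Set G) := by
      apply Subgroup.eq_of_le_of_card_ge hle
      rw [card_cent h hk, hE4]
    -- the class of t is E \ {1}
    have hclass : {x : G | IsConj t x} = (E : Set G) \ {1} := by
      ext x
      simp only [Set.mem_setOf_eq, Set.mem_diff, SetLike.mem_coe, Set.mem_singleton_iff]
      constructor
      · intro hx
        obtain ⟨c, hc⟩ := isConj_iff.mp hx
        refine ⟨hc ▸ hEn.conj_mem t htE c, ?_⟩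
        intro h0
        rw [h0] at hc
        have : t = 1 := by
          have := congrArg (fun y => c⁻¹ * y * c) hc
          simpa [mul_assoc] using this
        exact ht1 this
      · rintro ⟨hxE, hx1⟩
        exact h.hconj t x h.ht (orderOf_eq_prime (hEe.2 x hxE) hx1)
    have hidx : (Subgroup.centralizer ({t} : Set G)).index = 3 := by
      rw [← Cfsg.Agent.Lib.Helper24.ncard_conj_eq_index t, hclass]
      have h4 : (E : Set G).ncard = 4 := by
        rw [← hE4]; exact (Nat.card_coe_set_eq (E : Set G)).symm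
      rw [Set.ncard_sdiff_singleton_of_mem (E.one_mem), h4]
    refine ⟨by rw [card_eq_four_mul h hk, hidx], ?_⟩
    intro y hy
    by_contra hne
    obtain ⟨u, hu, huy⟩ := (Cfsg.Agent.Lib.Helper14.BSWB0a.invCount_ne_zero_iff y).mp hne
    have huE : u ∈ E := hinvE u hu
    -- y u y⁻¹ = y² u
    have h1 : u * y⁻¹ = y * u := by
      have := congrArg (fun x => x⁻¹ * u) huy
      simp only [mul_inv_rev, inv_inv] at this
      -- (u y u⁻¹)⁻¹ * u = y * u ; lhs = u y⁻¹ u⁻¹ u = u y⁻¹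
      calc u * y⁻¹ = (u * y * u⁻¹)⁻¹ * u := by group
        _ = (y⁻¹)⁻¹ * u := by rw [huy]
        _ = y * u := by rw [inv_inv]
    have h2 : y * u * y⁻¹ = y ^ 2 * u := by
      calc y * u * y⁻¹ = y * (u * y⁻¹) := by rw [mul_assoc]
        _ = y * (y * u) := by rw [h1]
        _ = y ^ 2 * u := by rw [pow_two, mul_assoc]
    have h3 : y ^ 2 * u ∈ E := h2 ▸ hEn.conj_mem u huE y
    have h4 : y ^ 2 ∈ E := by
      have := E.mul_mem h3 (E.inv_mem huE)
      simpa [mul_assoc] using this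
    have h5 : (y ^ 2) ^ 2 = 1 := hEe.2 _ h4
    have h6 : y ^ 4 = 1 := by rw [← h5, ← pow_mul]
    -- y has odd order
    have hodd : ¬ Even (orderOf y) := fun hev =>
      Cfsg.Agent.Lib.Helper14.BSWB0a.not_mem_RR_of_mem_KK K y (Cfsg.Agent.Lib.Helper12.BSWB7.even_mem_KK h y hev) hy
    have ho : orderOf y ∣ 4 := orderOf_dvd_of_pow_eq_one h6
    have ho1 : orderOf y = 1 := by
      have h4' : (4 : ℕ) = 2 ^ 2 := by norm_num
      rw [h4'] at ho
      obtain ⟨i, -, hi⟩ := (Nat.dvd_prime_pow Nat.prime_two).mp ho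
      rcases Nat.eq_zero_or_pos i with h0 | hpos
      · rw [hi, h0, pow_zero]
      · exfalso; apply hodd; rw [hi]; exact (Nat.even_pow.mpr ⟨even_two, hpos.ne'⟩)
    exact hy.1 (orderOf_eq_one_iff.mp ho1)

/-- **T1** in `_of` form over T1c. -/
theorem small_case_of {t s : G} {K : Subgroup G} (h : Hyp t s K) (hk : Nat.card K = 2)
    (h60 : Nat.card G = 60 → DataP K) :
    (Nat.card G = 12 ∧ ∀ y ∈ RR K, invCount y = 0) ∨ DataP K := by
  classical
  by_cases hE : ∃ E : Subgroup G, E.Normal ∧ Cfsg.IsElementaryAbelian 2 E ∧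
      (Nat.card E = 2 ∨ Nat.card E = 4)
  · obtain ⟨E, hEn, hEe, hEc⟩ := hE
    exact Or.inl (twelve_of_normal h hk E hEn hEe hEc)
  · right
    apply h60
    have hne : ∀ E : Subgroup G, E.Normal → Cfsg.IsElementaryAbelian 2 E →
        Nat.card ↥E ≠ 2 ∧ Nat.card ↥E ≠ 4 := by
      intro E hEn hEe
      exact ⟨fun h2 => hE ⟨E, hEn, hEe, Or.inl h2⟩, fun h4 => hE ⟨E, hEn, hEe, Or.inr h4⟩⟩
    obtain ⟨φ⟩ := Cfsg.Agent.S3277.result t h.ht (card_cent h hk) (sq_eq_one_of_mem_cent h hk)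
      (not_hasNormalPComplement h hk) hne
    rw [Nat.card_congr φ.toEquiv, nat_card_alternatingGroup]
    simp [Nat.factorial]

end Cfsg.Agent.Lib.Helper24.BSWT1
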