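/-
helper24: Brauer's theorems on the kernel of the Brauer correspondent and `O_{π'}` of local subgroups
(going down: S4734, going up: S4728).
-/
import Mathlib
import Cfsg.Agent.Lib.Helper24.BlockClimb
import Cfsg.Agent.Lib.Helper24.StabTransport
import Cfsg.Agent.Lib.Helper23.QuotDefectAux
import Cfsg.Agent.Lib.Helper17.BGTrans3
import Cfsg.Agent.Lib.Helper12.Cores

set_option autoImplicit false

namespace Cfsg.Agent.Lib.Helper24

open Cfsg Cfsg.Agent.CharLib Cfsg.Agent.Lib.Helper6
open scoped ComplexConjugate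

universe u

section iso

variable {A A' : Type u} [Group A] [Group A']

/-- Transport of "`O_π` lies in the kernel of the block" along an isomorphism. -/
theorem piCore_le_blockKer_pullBlock (π : Set ℕ) (c : A ≃* A') (b : Set (IrrCharacter A))
    (h : ∀ n : A, n ∈ piCore π A → n ∈ blockKer b) :
    ∀ m : A', m ∈ piCore π A' → m ∈ blockKer (BlockIso.pullBlock c.symm b) := by
  intro m hm χ' hχ'
  rw [← Cfsg.Agent.Lib.Helper12.piCore_map_equiv π c] at hm
  obtain ⟨n, hn, rfl⟩ := hm
  have hχ : irrCompIso c χ' ∈ b := by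
    have := (BlockIso.mem_pullBlock_iff c.symm b χ').mp hχ'
    rwa [MulEquiv.symm_symm] at this
  have h1 := h n hn (irrCompIso c χ') hχ
  rw [irrCompIso_apply, irrCompIso_apply, map_one] at h1
  exact h1

theorem piCore_le_blockKer_of_pullBlock (π : Set ℕ) (c : A ≃* A') (b : Set (IrrCharacter A))
    (h : ∀ m : A', m ∈ piCore π A' → m ∈ blockKer (BlockIso.pullBlock c.symm b)) :
    ∀ n : A, n ∈ piCore π A → n ∈ blockKer b := by
  intro n hn χ hχ
  have hm : c n ∈ piCore π A' := by
    rw [← Cfsg.Agent.Lib.Helper12.piCore_map_equiv π c]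
    exact ⟨n, hn, rfl⟩
  have h1 := h (c n) hm (irrCompIso c.symm χ) (BlockIso.irrCompIso_mem_pullBlock c.symm hχ)
  rw [irrCompIso_apply, irrCompIso_apply, c.symm_apply_apply, map_one] at h1
  exact h1

end iso

section top

variable {G : Type u} [Group G] [Finite G] {M : Ideal AlgInt}

/-- The Brauer correspondents at two defect groups correspond under a conjugation isomorphism. -/
theorem exists_equiv_normalizer_block {p : ℕ} [hpp : Fact p.Prime] (hM : IsPModular p M)
    (B : Set (IrrCharacter G)) (hB : IsPBlock M B) (D Q : Subgroup G)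
    (hBD : IsDefectGroup p M B D) (hBQ : IsDefectGroup p M B Q)
    (B₁ : Set (IrrCharacter ↥(Subgroup.normalizer (D : Set G))))
    (hB₁ : IsInducedBlock M (Subgroup.normalizer (D : Set G)) B₁ B)
    (hB₁D : IsDefectGroup p M B₁ (D.subgroupOf (Subgroup.normalizer (D : Set G))))
    (Bt : Set (IrrCharacter ↥(Subgroup.normalizer (Q : Set G))))
    (hBt : IsInducedBlock M (Subgroup.normalizer (Q : Set G)) Bt B) :
    ∃ c : ↥(Subgroup.normalizer (D : Set G)) ≃* ↥(Subgroup.normalizer (Q : Set G)),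
      Bt = BlockIso.pullBlock c.symm B₁ := by
  obtain ⟨g, hg⟩ := Cfsg.Agent.Lib.Helper23.isDefectGroup_conj_of_isDefectGroup hM hB hBD hBQ
  subst hg
  have hQp : IsPGroup p (D.map (MulAut.conj g).toMonoidHom) :=
    ExtFirstMain.isPGroup_of_isDefectGroup hBQ
  set c := (stabEquiv g (Subgroup.normalizer (D : Set G))
    (Subgroup.normalizer ((D.map (MulAut.conj g).toMonoidHom : Subgroup G) : Set G))
    (mem_normalizer_map_conj_iff D g)).symm with hcdef
  have hc : ∀ n : ↥(Subgroup.normalizer (D : Set G)), ((c n : _) : G) = g * (n : G) * g⁻¹ :=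
    fun _ => rfl
  refine ⟨c, ?_⟩
  have h1 := isInducedBlock_conjTransport _ _ c g hc B₁ B hB₁
  have h2 := BlockIso.isDefectGroup_pullBlock (M := M) (p := p) c.symm hB₁D
  have h3 : (D.subgroupOf (Subgroup.normalizer (D : Set G))).comap c.symm.toMonoidHom =
      (D.map (MulAut.conj g).toMonoidHom).subgroupOf
        (Subgroup.normalizer ((D.map (MulAut.conj g).toMonoidHom : Subgroup G) : Set G)) := by
    ext y
    rw [Subgroup.mem_comap, Subgroup.mem_subgroupOf, Subgroup.mem_subgroupOf]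
    change g⁻¹ * (y : G) * g ∈ D ↔ _
    constructor
    · intro hy
      refine ⟨g⁻¹ * (y : G) * g, hy, ?_⟩
      simp only [MulEquiv.coe_toMonoidHom, MulAut.conj_apply]
      group
    · rintro ⟨d, hd, hdy⟩
      simp only [MulEquiv.coe_toMonoidHom, MulAut.conj_apply] at hdy
      rw [← hdy]
      have e : g⁻¹ * (g * d * g⁻¹) * g = d := by group
      rw [e]
      exact hd
  rw [h3] at h2
  exact block_normalizer_unique hM _ hQp B Bt _ hBt h1 h2

end top

section aux

variable {G : Type u} [Group G]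

theorem le_normalizer_of_conj_mem (H W : Subgroup G)
    (h : ∀ l ∈ H, ∀ w ∈ W, l * w * l⁻¹ ∈ W) : H ≤ Subgroup.normalizer (W : Set G) := by
  intro l hl
  rw [Subgroup.mem_normalizer_iff]
  intro w
  constructor
  · intro hw
    exact h l hl w hw
  · intro hw
    have := h l⁻¹ (H.inv_mem hl) _ hw
    simpa [mul_assoc] using this

theorem conj_mem_of_le_normalizer {H W : Subgroup G} (h : H ≤ Subgroup.normalizer (W : Set G))
    {l w : G} (hl : l ∈ H) (hw : w ∈ W) : l * w * l⁻¹ ∈ W :=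
  (Subgroup.mem_normalizer_iff.mp (h hl) w).mp hw

theorem card_lt_card_of_lt [Finite G] {Q Q' : Subgroup G} (h : Q < Q') :
    Nat.card Q < Nat.card Q' := by
  rcases lt_or_eq_of_le (Subgroup.card_le_of_le h.le) with h1 | h1
  · exact h1
  · exact absurd (Subgroup.eq_of_le_of_card_ge h.le h1.ge) h.ne

/-- The order of `O_{π'}` is prime to `p ∈ π`. -/
theorem not_dvd_card_piCoreOf [Finite G] {p : ℕ} (hp : p.Prime) {π : Set ℕ} (hpπ : p ∈ π)
    (X : Subgroup G) : ¬ p ∣ Nat.card (piCoreOf {q | q ∉ π} X) := by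
  intro h
  rw [Cfsg.Agent.Lib.Helper17.card_piCoreOf] at h
  exact Cfsg.Agent.Lib.Helper12.piCore_mem _ p hp h hpπ

theorem not_dvd_card_of_le {p : ℕ} {Y W : Subgroup G} [Finite G] (hWY : W ≤ Y)
    (h : ¬ p ∣ Nat.card Y) : ¬ p ∣ Nat.card W :=
  fun hc => h (hc.trans (Subgroup.card_dvd_of_le hWY))

theorem primes_card_piCoreOf [Finite G] (π : Set ℕ) (X : Subgroup G) :
    ∀ q : ℕ, q.Prime → q ∣ Nat.card (piCoreOf π X) → q ∈ π := by
  intro q hq h
  rw [Cfsg.Agent.Lib.Helper17.card_piCoreOf] at h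
  exact Cfsg.Agent.Lib.Helper12.piCore_mem _ q hq h

theorem mem_piCore_of_mem_piCoreOf (π : Set ℕ) (X : Subgroup G) {y : G} (hy : y ∈ X)
    (h : y ∈ piCoreOf π X) : (⟨y, hy⟩ : X) ∈ piCore π X := by
  obtain ⟨m, hm, hmy⟩ := h
  have : m = ⟨y, hy⟩ := Subtype.ext hmy
  rwa [← this]

theorem mem_piCoreOf_of_mem_piCore (π : Set ℕ) (X : Subgroup G) {m : X} (h : m ∈ piCore π X) :
    (m : G) ∈ piCoreOf π X := ⟨m, h, rfl⟩

end aux

section descend

variable {G : Type u} [Group G] [Finite G] {M : Ideal AlgInt}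

/-- **Going down** (Brauer): if `O_{π'}(N_G(D))` lies in the kernel of the Brauer correspondent `B₁` of
`B`, then `O_{π'}(Q C_G(Q))` lies in the kernel of every block `b` of `Q C_G(Q)` inducing `B`. -/
theorem kerLE_piCoreOf_of_induced {p : ℕ} [hpp : Fact p.Prime] (hM : IsPModular p M) (π : Set ℕ)
    (hpπ : p ∈ π) (B : Set (IrrCharacter G)) (hB : IsPBlock M B) (D : Subgroup G)
    (hBD : IsDefectGroup p M B D)
    (B₁ : Set (IrrCharacter ↥(Subgroup.normalizer (D : Set G))))
    (hB₁ : IsInducedBlock M (Subgroup.normalizer (D : Set G)) B₁ B)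
    (hB₁D : IsDefectGroup p M B₁ (D.subgroupOf (Subgroup.normalizer (D : Set G))))
    (hker : ∀ n : ↥(Subgroup.normalizer (D : Set G)),
      n ∈ piCore {q | q ∉ π} ↥(Subgroup.normalizer (D : Set G)) → n ∈ blockKer B₁) :
    ∀ (k : ℕ) (Q : Subgroup G), Nat.card G - Nat.card Q = k → IsPGroup p Q →
      ∀ b : Set (IrrCharacter ↥(Q ⊔ Subgroup.centralizer (Q : Set G))),
        IsInducedBlock M (Q ⊔ Subgroup.centralizer (Q : Set G)) b B →
        KerLE (piCoreOf {q | q ∉ π} (Q ⊔ Subgroup.centralizer (Q : Set G)))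
          (Q ⊔ Subgroup.centralizer (Q : Set G)) b := by
  intro k
  induction k using Nat.strong_induction_on with
  | _ k ih =>
    intro Q hk hQ b hb
    have hp := hpp.out
    obtain ⟨Bt, hIn, hBtB, hcases⟩ := climb hM B Q hQ b hb
    have hQN : Q ≤ Subgroup.normalizer (Q : Set G) := Subgroup.le_normalizer
    have hCN : Subgroup.centralizer (Q : Set G) ≤ Subgroup.normalizer (Q : Set G) :=
      Subgroup.centralizer_le_normalizer _
    have hLN : Q ⊔ Subgroup.centralizer (Q : Set G) ≤ Subgroup.normalizer (Q : Set G) :=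
      sup_le hQN hCN
    have hYL : piCoreOf {q | q ∉ π} (Q ⊔ Subgroup.centralizer (Q : Set G)) ≤
        Q ⊔ Subgroup.centralizer (Q : Set G) := Cfsg.Agent.Lib.Helper17.piCoreOf_le _
    have hnormY : Subgroup.normalizer (Q : Set G) ≤ Subgroup.normalizer
        ((piCoreOf {q | q ∉ π} (Q ⊔ Subgroup.centralizer (Q : Set G)) : Subgroup G) : Set G) :=
      (ExtFirstMain.normalizer_le_normalizer_sup_centralizer Q).trans
        (Cfsg.Agent.Lib.Helper17.normalizer_le_normalizer_piCoreOf _ _)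
    have hYp : ¬ p ∣ Nat.card (piCoreOf {q | q ∉ π} (Q ⊔ Subgroup.centralizer (Q : Set G))) :=
      not_dvd_card_piCoreOf hp hpπ _
    rw [← kerLE_iff_of_inducedIn hM _ _ hLN b Bt hIn _ hnormY hYp]
    rcases hcases with ⟨hQD, -⟩ | ⟨Q', hQ'p, hlt, hQ'N, -, b', hb'B, hb'In, -⟩
    · -- `Q` is a defect group
      obtain ⟨c, hc⟩ := exists_equiv_normalizer_block hM B hB D Q hBD hQD B₁ hB₁ hB₁D Bt hBtB
      have h1 := piCore_le_blockKer_pullBlock {q | q ∉ π} c B₁ hker
      rw [← hc] at h1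
      intro y hy hyY χ hχ
      have hyK : y ∈ piCoreOf {q | q ∉ π} (Subgroup.normalizer (Q : Set G)) :=
        Cfsg.Agent.Lib.Helper17.le_piCoreOf (hYL.trans hLN) hnormY
          (primes_card_piCoreOf _ _) hyY
      exact h1 ⟨y, hy⟩ (mem_piCore_of_mem_piCoreOf _ _ hy hyK) χ hχ
    · -- climbing
      have hcard : Nat.card G - Nat.card Q' < k := by
        have h1 := card_lt_card_of_lt hlt
        have h2 : Nat.card Q' ≤ Nat.card G := Subgroup.card_le_card_group Q'
        omega
      have hIH := ih _ hcard Q' rfl hQ'p b' hb'B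
      have hC'N : Subgroup.centralizer (Q' : Set G) ≤ Subgroup.normalizer (Q : Set G) :=
        (Subgroup.centralizer_le hlt.le).trans hCN
      have hL'N : Q' ⊔ Subgroup.centralizer (Q' : Set G) ≤ Subgroup.normalizer (Q : Set G) :=
        sup_le hQ'N hC'N
      rw [kerLE_iff_of_inducedIn hM _ _ hL'N b' Bt hb'In _ hnormY hYp]
      intro y hy hyY χ hχ
      apply hIH y hy _ χ hχ
      have hW : piCoreOf {q | q ∉ π} (Q ⊔ Subgroup.centralizer (Q : Set G)) ⊓
          (Q' ⊔ Subgroup.centralizer (Q' : Set G)) ≤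
          piCoreOf {q | q ∉ π} (Q' ⊔ Subgroup.centralizer (Q' : Set G)) := by
        apply Cfsg.Agent.Lib.Helper17.le_piCoreOf inf_le_right
        · apply le_normalizer_of_conj_mem
          intro l hl w hw
          exact ⟨conj_mem_of_le_normalizer hnormY (hL'N hl) hw.1,
            Subgroup.mul_mem _ (Subgroup.mul_mem _ hl hw.2) (Subgroup.inv_mem _ hl)⟩
        · intro q hq hdvd
          exact primes_card_piCoreOf _ _ q hq (hdvd.trans (Subgroup.card_dvd_of_le inf_le_left))
      exact hW ⟨hyY, hy⟩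

end descend

section ascend

variable {G : Type u} [Group G] [Finite G] {M : Ideal AlgInt}

/-- A normal `p'`-subgroup of `N_G(Q)` centralizes the `p`-group `Q`. -/
theorem le_centralizer_of_coprime_normal {p : ℕ} [hpp : Fact p.Prime] (Q K : Subgroup G)
    (hQ : IsPGroup p Q) (hKN : K ≤ Subgroup.normalizer (Q : Set G))
    (hNK : Subgroup.normalizer (Q : Set G) ≤ Subgroup.normalizer (K : Set G))
    (hKp : ¬ p ∣ Nat.card K) : K ≤ Subgroup.centralizer (Q : Set G) := by
  have hp := hpp.out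
  have hdisj : K ⊓ Q = ⊥ := by
    apply Subgroup.inf_eq_bot_of_coprime
    obtain ⟨n, hn⟩ := IsPGroup.iff_card.mp hQ
    rw [hn]
    exact Nat.Coprime.pow_right n ((Nat.Prime.coprime_iff_not_dvd hp).mpr hKp).symm
  intro k hk
  rw [Subgroup.mem_centralizer_iff]
  intro q hq
  have hqN : q ∈ Subgroup.normalizer (Q : Set G) := Subgroup.le_normalizer hq
  have h1 : k * q * k⁻¹ * q⁻¹ ∈ K := by
    have h2 : q * k⁻¹ * q⁻¹ ∈ K :=
      conj_mem_of_le_normalizer hNK hqN (K.inv_mem hk)
    have e : k * q * k⁻¹ * q⁻¹ = k * (q * k⁻¹ * q⁻¹) := by group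
    rw [e]
    exact K.mul_mem hk h2
  have h3 : k * q * k⁻¹ * q⁻¹ ∈ Q := by
    have h4 : k * q * k⁻¹ ∈ Q := (Subgroup.mem_normalizer_iff.mp (hKN hk) q).mp hq
    exact Q.mul_mem h4 (Q.inv_mem hq)
  have h5 : k * q * k⁻¹ * q⁻¹ ∈ K ⊓ Q := ⟨h1, h3⟩
  rw [hdisj, Subgroup.mem_bot] at h5
  calc q * k = (k * q * k⁻¹ * q⁻¹)⁻¹ * (k * q) := by group
    _ = k * q := by rw [h5]; group

/-- The elements of a subgroup whose order involves only primes of `π` have `π`-order. -/
theorem primes_orderOf_of_mem {π : Set ℕ} {W : Subgroup G}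
    (hW : ∀ q : ℕ, q.Prime → q ∣ Nat.card W → q ∈ π) {x : G} (hx : x ∈ W) :
    ∀ q : ℕ, q.Prime → q ∣ orderOf x → q ∈ π := by
  intro q hq hdvd
  apply hW q hq
  have h1 : orderOf (⟨x, hx⟩ : W) ∣ Nat.card W := orderOf_dvd_natCard _
  rw [Subgroup.orderOf_mk] at h1
  exact hdvd.trans h1

/-- **Going up** (Brauer): if `C_G(Q)` has a normal Hall `π'`-subgroup lying in the kernel of a block
`b` of `Q C_G(Q)` inducing `B`, then `O_{π'}(N_G(D))` lies in the kernel of the Brauer correspondent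
`B₁` of `B`. -/
theorem blockKer_correspondent_of_kerLE {p : ℕ} [hpp : Fact p.Prime] (hM : IsPModular p M)
    (π : Set ℕ) (hpπ : p ∈ π) (B : Set (IrrCharacter G)) (hB : IsPBlock M B) (D : Subgroup G)
    (hBD : IsDefectGroup p M B D)
    (B₁ : Set (IrrCharacter ↥(Subgroup.normalizer (D : Set G))))
    (hB₁ : IsInducedBlock M (Subgroup.normalizer (D : Set G)) B₁ B)
    (hB₁D : IsDefectGroup p M B₁ (D.subgroupOf (Subgroup.normalizer (D : Set G)))) :
    ∀ (k : ℕ) (Q : Subgroup G), Nat.card G - Nat.card Q = k → IsPGroup p Q →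
      ∀ b : Set (IrrCharacter ↥(Q ⊔ Subgroup.centralizer (Q : Set G))),
        IsInducedBlock M (Q ⊔ Subgroup.centralizer (Q : Set G)) b B →
        (∀ x ∈ Subgroup.centralizer (Q : Set G), (∀ q : ℕ, q.Prime → q ∣ orderOf x → q ∉ π) →
          x ∈ piCoreOf {q | q ∉ π} (Subgroup.centralizer (Q : Set G))) →
        KerLE (piCoreOf {q | q ∉ π} (Subgroup.centralizer (Q : Set G)))
          (Q ⊔ Subgroup.centralizer (Q : Set G)) b →
        ∀ n : ↥(Subgroup.normalizer (D : Set G)),
          n ∈ piCore {q | q ∉ π} ↥(Subgroup.normalizer (D : Set G)) → n ∈ blockKer B₁ := by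
  intro k
  induction k using Nat.strong_induction_on with
  | _ k ih =>
    intro Q hk hQ b hb H1 H2
    have hp := hpp.out
    obtain ⟨Bt, hIn, hBtB, hcases⟩ := climb hM B Q hQ b hb
    have hQN : Q ≤ Subgroup.normalizer (Q : Set G) := Subgroup.le_normalizer
    have hCN : Subgroup.centralizer (Q : Set G) ≤ Subgroup.normalizer (Q : Set G) :=
      Subgroup.centralizer_le_normalizer _
    have hLN : Q ⊔ Subgroup.centralizer (Q : Set G) ≤ Subgroup.normalizer (Q : Set G) :=
      sup_le hQN hCN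
    have hXC : piCoreOf {q | q ∉ π} (Subgroup.centralizer (Q : Set G)) ≤
        Subgroup.centralizer (Q : Set G) := Cfsg.Agent.Lib.Helper17.piCoreOf_le _
    have hnormX : Subgroup.normalizer (Q : Set G) ≤ Subgroup.normalizer
        ((piCoreOf {q | q ∉ π} (Subgroup.centralizer (Q : Set G)) : Subgroup G) : Set G) :=
      Cfsg.Agent.Lib.Helper17.normalizer_le_normalizer_piCoreOf_centralizer _ Q
    have hXp : ¬ p ∣ Nat.card (piCoreOf {q | q ∉ π} (Subgroup.centralizer (Q : Set G))) :=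
      not_dvd_card_piCoreOf hp hpπ _
    have hKN := (kerLE_iff_of_inducedIn hM _ _ hLN b Bt hIn _ hnormX hXp).mpr H2
    rcases hcases with ⟨hQD, -⟩ | ⟨Q', hQ'p, hlt, hQ'N, -, b', hb'B, hb'In, -⟩
    · -- `Q` is a defect group
      obtain ⟨c, hc⟩ := exists_equiv_normalizer_block hM B hB D Q hBD hQD B₁ hB₁ hB₁D Bt hBtB
      apply piCore_le_blockKer_of_pullBlock {q | q ∉ π} c B₁
      rw [← hc]
      intro m hm χ hχ
      have hmK : (m : G) ∈ piCoreOf {q | q ∉ π} (Subgroup.normalizer (Q : Set G)) :=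
        mem_piCoreOf_of_mem_piCore _ _ hm
      have hKC : piCoreOf {q | q ∉ π} (Subgroup.normalizer (Q : Set G)) ≤
          Subgroup.centralizer (Q : Set G) :=
        le_centralizer_of_coprime_normal Q _ hQ (Cfsg.Agent.Lib.Helper17.piCoreOf_le _)
          (Cfsg.Agent.Lib.Helper17.le_normalizer_piCoreOf _) (not_dvd_card_piCoreOf hp hpπ _)
      have hmX : (m : G) ∈ piCoreOf {q | q ∉ π} (Subgroup.centralizer (Q : Set G)) :=
        H1 _ (hKC hmK) (primes_orderOf_of_mem (primes_card_piCoreOf _ _) hmK)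
      exact hKN (m : G) m.2 hmX χ hχ
    · -- climbing
      have hcard : Nat.card G - Nat.card Q' < k := by
        have h1 := card_lt_card_of_lt hlt
        have h2 : Nat.card Q' ≤ Nat.card G := Subgroup.card_le_card_group Q'
        omega
      have hCC : Subgroup.centralizer (Q' : Set G) ≤ Subgroup.centralizer (Q : Set G) :=
        Subgroup.centralizer_le hlt.le
      have hC'N : Subgroup.centralizer (Q' : Set G) ≤ Subgroup.normalizer (Q : Set G) :=
        hCC.trans hCN
      have hL'N : Q' ⊔ Subgroup.centralizer (Q' : Set G) ≤ Subgroup.normalizer (Q : Set G) :=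
        sup_le hQ'N hC'N
      have hKL' := (kerLE_iff_of_inducedIn hM _ _ hL'N b' Bt hb'In _ hnormX hXp).mp hKN
      have hW : piCoreOf {q | q ∉ π} (Subgroup.centralizer (Q : Set G)) ⊓
          Subgroup.centralizer (Q' : Set G) ≤
          piCoreOf {q | q ∉ π} (Subgroup.centralizer (Q' : Set G)) := by
        apply Cfsg.Agent.Lib.Helper17.le_piCoreOf inf_le_right
        · apply le_normalizer_of_conj_mem
          intro l hl w hw
          exact ⟨conj_mem_of_le_normalizer hnormX (hC'N hl) hw.1,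
            Subgroup.mul_mem _ (Subgroup.mul_mem _ hl hw.2) (Subgroup.inv_mem _ hl)⟩
        · intro q hq hdvd
          exact primes_card_piCoreOf _ _ q hq (hdvd.trans (Subgroup.card_dvd_of_le inf_le_left))
      have H1' : ∀ x ∈ Subgroup.centralizer (Q' : Set G),
          (∀ q : ℕ, q.Prime → q ∣ orderOf x → q ∉ π) →
          x ∈ piCoreOf {q | q ∉ π} (Subgroup.centralizer (Q' : Set G)) :=
        fun x hx hxπ => hW ⟨H1 x (hCC hx) hxπ, hx⟩
      have hXX : piCoreOf {q | q ∉ π} (Subgroup.centralizer (Q' : Set G)) ≤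
          piCoreOf {q | q ∉ π} (Subgroup.centralizer (Q : Set G)) := by
        intro x hx
        exact H1 x (hCC (Cfsg.Agent.Lib.Helper17.piCoreOf_le _ hx))
          (primes_orderOf_of_mem (primes_card_piCoreOf _ _) hx)
      exact ih _ hcard Q' rfl hQ'p b' hb'B H1' (hKL'.mono hXX)

end ascend

end Cfsg.Agent.Lib.Helper24
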