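import Mathlib
import Cfsg.Prelude.Def_GeometricClasses
import Cfsg.Agent.Lib.Helper25.C3O2Defs
import Cfsg.Agent.Lib.Helper27.C3u2CW0
import Cfsg.Agent.Lib.Helper25.OEFsaH1

/-!
C3O2 market (planner helper25), leaf **MODP `modp`** (helper24): on `p^⊥` modulo `F p` the `E`-Siegel map `T_{p,w}` is the
`F`-Siegel map `egen (J p) ((2δ)⁻¹ J w)`.
-/

set_option autoImplicit false
set_option linter.unusedSectionVars false
set_option linter.unusedVariables false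

namespace Cfsg.Agent.Lib.Helper24.C3O2Leaf
open Matrix Module QuadraticMap Cfsg Cfsg.Geo Cfsg.Agent.Lib.Helper25.OEFsa
  Cfsg.Agent.Lib.Helper25.CD Cfsg.Agent.Lib.Helper25.Siegel
  Cfsg.Agent.Lib.Helper5.NSMax Cfsg.Agent.Lib.Helper5.TSMax Cfsg.Agent.Lib.Helper25.AutO
  Cfsg.Agent.Lib.Helper25.C3O2

variable {F : Type*} [Field F] [Fintype F] {E : Type*} [Field E] [Algebra F E] [FiniteDimensional F E]
  {ι : Type} [Fintype ι] [DecidableEq ι]
  {ρ : E →ₐ[F] Matrix ι ι F} {Q : QuadraticForm F (ι → F)} {B : (ι → F) → (ι → F) → E} {QE : (ι → F) → E}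
  {κ : E} {δ : F}

/-- `ρ (a + b κ) v = a v + b (J v)` -/
theorem rho_comb (ρ : E →ₐ[F] Matrix ι ι F) (κ : E) (a b : F) (v : ι → F) :
    ρ (algebraMap F E a + algebraMap F E b * κ) *ᵥ v = a • v + b • (ρ κ *ᵥ v) := by
  rw [map_add, map_mul, AlgHom.commutes, AlgHom.commutes, Algebra.algebraMap_eq_smul_one,
    Algebra.algebraMap_eq_smul_one, Matrix.add_mulVec, Matrix.smul_mulVec, Matrix.one_mulVec,
    smul_mul_assoc, one_mul, Matrix.smul_mulVec]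

/-- MODP. -/
theorem modp (h : Forms ρ Q B QE) (hκ : Kap κ δ) (h2 : (2 : F) ≠ 0) {p w : ι → F} (hp : QE p = 0) (hw : B p w = 0)
    (x : ι → F) (hx : polar Q p x = 0) :
    ∃ c : F, esF h p w x = egen Q (ρ κ *ᵥ p) ((2 * δ)⁻¹ • (ρ κ *ᵥ w)) x + c • p := by
  have hδ : δ ≠ 0 := hκ.delta_ne
  obtain ⟨α, β, hpx⟩ := hκ.span (B p x)
  obtain ⟨a, b, hwx⟩ := hκ.span (B w x)
  obtain ⟨c0, c1, hQw⟩ := hκ.span (QE w)
  -- α = 0
  have hα : α = 0 := by
    have := h.tr_B p x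
    rw [hx, hpx, hκ.tr_ab] at this
    rcases mul_eq_zero.1 this with h' | h'
    · exact absurd h' h2
    · exact h'
  -- f(Jp, x) = 2 β δ
  have hJp : polar Q (ρ κ *ᵥ p) x = 2 * β * δ := by
    rw [polar_J h κ p x, hpx, hκ.tr_kap_ab]
  -- f(Jw, x) = 2 b δ
  have hJw : polar Q (ρ κ *ᵥ w) x = 2 * b * δ := by
    rw [polar_J h κ w x, hwx, hκ.tr_kap_ab]
  -- Q w = 2 c0
  have hQ : Q w = 2 * c0 := by
    rw [h.Q_eq, hQw, hκ.tr_ab]
  have hQJ : Q (ρ κ *ᵥ w) = δ * Q w := Q_J h hκ w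
  -- the product QE w * B p x
  have hprod : QE w * B p x = algebraMap F E (β * c1 * δ) + algebraMap F E (β * c0) * κ := by
    rw [hQw, hpx, hα, map_zero, zero_add, map_mul, map_mul, map_mul, ← hκ.sq]
    ring
  refine ⟨-a - β * c1 * δ, ?_⟩
  rw [esF_apply, hprod, hwx, hpx, hα, rho_comb, rho_comb, rho_comb]
  unfold egen
  have hQb : Q ((2 * δ)⁻¹ • (ρ κ *ᵥ w)) = (2 * δ)⁻¹ * (2 * δ)⁻¹ * (δ * (2 * c0)) := by
    rw [QuadraticMap.map_smul, hQJ, hQ, smul_eq_mul]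
  rw [polar_smul_left, hJw, hQb, hJp, smul_eq_mul]
  match_scalars <;> field_simp

end Cfsg.Agent.Lib.Helper24.C3O2Leaf
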