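import Mathlib
import Cfsg.Prelude.Def_GeometricClasses
import Cfsg.Agent.Lib.Helper25.C3O2Defs
import Cfsg.Agent.Lib.Helper22.C3O2Tools

/-!
helper24, C3O2 market (planner helper25; S5825 conjunct (7)): leaf SK `sk` (spare copy).
A matrix stabilising every `E`-singular `E`-line lies in `K = ρ(E)`.
-/

set_option autoImplicit false
set_option linter.unusedSectionVars false
set_option linter.unusedVariables false

namespace Cfsg.Agent.Lib.Helper24.C3O2Leaf
open Matrix Module QuadraticMap Cfsg Cfsg.Geo Cfsg.Agent.Lib.Helper25.OEFsa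
  Cfsg.Agent.Lib.Helper25.CD Cfsg.Agent.Lib.Helper25.Siegel
  Cfsg.Agent.Lib.Helper5.NSMax Cfsg.Agent.Lib.Helper5.TSMax Cfsg.Agent.Lib.Helper25.AutO
  Cfsg.Agent.Lib.Helper25.C3O2

variable {F : Type*} [Field F] [Fintype F] {E : Type*} [Field E] [Algebra F E] [FiniteDimensional F E]
  {ι : Type} [Fintype ι] [DecidableEq ι]
  {ρ : E →ₐ[F] Matrix ι ι F} {Q : QuadraticForm F (ι → F)} {B : (ι → F) → (ι → F) → E} {QE : (ι → F) → E}
  {κ : E} {δ : F}

/-- a non-zero vector `E`-orthogonal to two given vectors (`n ≥ 5`) -/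
theorem sk_exists_perp_two (h : Forms ρ Q B QE) (hE : finrank F E = 2) (hcard : 7 ≤ Fintype.card ι)
    (y y' : ι → F) : ∃ z : ι → F, z ≠ 0 ∧ B y z = 0 ∧ B y' z = 0 := by
  have hBsmulR : ∀ (c : F) (u v : ι → F), B u (c • v) = c • B u v := by
    intro c u v
    rw [Cfsg.Agent.Lib.Helper22.C3O2Leaf.smul_eq_rho_mulVec ρ, h.B_smul_right, Algebra.smul_def]
  obtain ⟨φ, hφ⟩ : ∃ φ : (ι → F) →ₗ[F] E × E, ∀ a, φ a = (B y a, B y' a) :=
    ⟨{ toFun := fun a => (B y a, B y' a)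
       map_add' := fun a b => by
        show (B y (a + b), B y' (a + b)) = (B y a, B y' a) + (B y b, B y' b)
        rw [h.B_add_right, h.B_add_right]; rfl
       map_smul' := fun c a => by
        show (B y (c • a), B y' (c • a)) = c • (B y a, B y' a)
        rw [hBsmulR, hBsmulR]; rfl }, fun a => rfl⟩
  have hlt : finrank F (E × E) < finrank F (ι → F) := by
    rw [Module.finrank_prod, hE, Module.finrank_fintype_fun_eq_card]
    omega
  have hker := LinearMap.ker_ne_bot_of_finrank_lt (f := φ) hlt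
  obtain ⟨z, hz, hz0⟩ := Submodule.exists_mem_ne_zero_of_ne_bot hker
  rw [LinearMap.mem_ker, hφ, Prod.mk_eq_zero] at hz
  exact ⟨z, hz0, hz.1, hz.2⟩

/-- the key step: `A = ρ k` on `E y'` for a hyperbolic partner `y'` of `y`, where `A y = ρ k y` -/
theorem sk_line (h : Forms ρ Q B QE) (h2 : (2 : F) ≠ 0) (hE : finrank F E = 2) (hcard : 7 ≤ Fintype.card ι)
    (hw1 : W1 ρ B QE) (A : Matrix ι ι F)
    (hA : ∀ p : ι → F, p ≠ 0 → QE p = 0 → ∃ a : E, A *ᵥ p = ρ a *ᵥ p)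
    {y y' : ι → F} (hy : QE y = 0) (hy' : QE y' = 0) (hyy' : B y y' = 1) {ky : E}
    (hky : A *ᵥ y = ρ ky *ᵥ y) (lam : E) : A *ᵥ (ρ lam *ᵥ y') = ρ (lam * ky) *ᵥ y' := by
  have h2E : (2 : E) ≠ 0 := two_ne_zero_E h2
  have hy0 : y ≠ 0 := by
    rintro rfl
    rw [h.B_zero_left] at hyy'
    exact zero_ne_one hyy'
  have hy'y : B y' y = 1 := by rw [h.B_symm, hyy']
  obtain ⟨z, hz0, hyz, hy'z⟩ := sk_exists_perp_two h hE hcard y y'
  have hzy : B z y = 0 := by rw [h.B_symm, hyz]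
  have hzy' : B z y' = 0 := by rw [h.B_symm, hy'z]
  obtain ⟨c, hcdef⟩ : ∃ c : E, c = QE z := ⟨_, rfl⟩
  have hc : c ≠ 0 := by
    intro hc0
    rw [hcdef] at hc0
    obtain ⟨a, ha⟩ := hw1 y z hy0 hy hc0 hyz
    have : B y' z = a := by rw [ha, h.B_smul_right, hy'y, mul_one]
    rw [hy'z] at this
    rw [← this, rho_zero_mulVec] at ha
    exact hz0 ha
  have hBzz : B z z = 2 * c := by rw [h.B_self, hcdef]
  have hBy'y' : B y' y' = 0 := by rw [h.B_self, hy', mul_zero]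
  have hByy : B y y = 0 := by rw [h.B_self, hy, mul_zero]
  -- the singular vectors `Y a`
  obtain ⟨Y, hYdef⟩ : ∃ Y : E → (ι → F), ∀ a, Y a = y + ρ (-(a * a * c)) *ᵥ y' + ρ a *ᵥ z := ⟨_, fun a => rfl⟩
  have hYQ : ∀ a, QE (Y a) = 0 := by
    intro a
    rw [hYdef, h.QE_add, h.QE_add, h.QE_smul, h.QE_smul, hy, hy', ← hcdef, h.B_smul_right, hyy',
      h.B_add_left, h.B_smul_right, hyz, h.B_smul_left, h.B_smul_right, hy'z]
    ring
  have hYy' : ∀ a, B (Y a) y' = 1 := by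
    intro a
    rw [hYdef, h.B_add_left, h.B_add_left, h.B_smul_left, h.B_smul_left, hyy', hBy'y', hzy']
    ring
  have hYy : ∀ a, B (Y a) y = -(a * a * c) := by
    intro a
    rw [hYdef, h.B_add_left, h.B_add_left, h.B_smul_left, h.B_smul_left, hByy, hy'y, hzy]
    ring
  have hYz : ∀ a, B (Y a) z = a * (2 * c) := by
    intro a
    rw [hYdef, h.B_add_left, h.B_add_left, h.B_smul_left, h.B_smul_left, hyz, hy'z, hBzz]
    ring
  have hY0 : ∀ a, Y a ≠ 0 := by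
    intro a h0
    have := hYy' a
    rw [h0, h.B_zero_left] at this
    exact zero_ne_one this
  choose k hk using fun a => hA (Y a) (hY0 a) (hYQ a)
  have hμ : ∀ l : E, ∃ μ : E, A *ᵥ (ρ l *ᵥ y') = ρ μ *ᵥ y' := by
    intro l
    by_cases hl : l = 0
    · refine ⟨0, ?_⟩
      rw [hl, rho_zero_mulVec, Matrix.mulVec_zero]
    · have hne : ρ l *ᵥ y' ≠ 0 := by
        intro h0
        have : B y (ρ l *ᵥ y') = l := by rw [h.B_smul_right, hyy', mul_one]
        rw [h0, h.B_zero_right] at this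
        exact hl this.symm
      obtain ⟨a, ha⟩ := hA (ρ l *ᵥ y') hne (by rw [h.QE_smul, hy', mul_zero])
      exact ⟨a * l, by rw [ha, rho_mul_mulVec]⟩
  -- the basic relation
  have hsum : ∀ a b, Y a + Y b - Y (a + b) = y + ρ (2 * a * b * c) *ᵥ y' := by
    intro a b
    have e1 : ρ (-(a * a * c)) *ᵥ y' + ρ (-(b * b * c)) *ᵥ y' - ρ (-((a + b) * (a + b) * c)) *ᵥ y'
        = ρ (2 * a * b * c) *ᵥ y' := by
      rw [← Matrix.add_mulVec, ← Matrix.sub_mulVec, ← map_add, ← map_sub]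
      congr 2
      ring
    have e2 : ρ a *ᵥ z + ρ b *ᵥ z - ρ (a + b) *ᵥ z = 0 := by
      rw [← Matrix.add_mulVec, ← Matrix.sub_mulVec, ← map_add, ← map_sub, sub_self, map_zero,
        Matrix.zero_mulVec]
    rw [hYdef, hYdef, hYdef, ← e1]
    have : y + ρ (-(a * a * c)) *ᵥ y' + ρ a *ᵥ z + (y + ρ (-(b * b * c)) *ᵥ y' + ρ b *ᵥ z) -
        (y + ρ (-((a + b) * (a + b) * c)) *ᵥ y' + ρ (a + b) *ᵥ z) =
        y + (ρ (-(a * a * c)) *ᵥ y' + ρ (-(b * b * c)) *ᵥ y' - ρ (-((a + b) * (a + b) * c)) *ᵥ y') +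
          (ρ a *ᵥ z + ρ b *ᵥ z - ρ (a + b) *ᵥ z) := by abel
    rw [this, e2, add_zero]
  -- apply `A`
  have hstar : ∀ a b, ∃ μ : E, A *ᵥ (ρ (2 * a * b * c) *ᵥ y') = ρ μ *ᵥ y' ∧
      ρ (k a) *ᵥ Y a + ρ (k b) *ᵥ Y b + -(ρ (k (a + b)) *ᵥ Y (a + b)) = ρ ky *ᵥ y + ρ μ *ᵥ y' := by
    intro a b
    obtain ⟨μ, hμ'⟩ := hμ (2 * a * b * c)
    refine ⟨μ, hμ', ?_⟩
    have := congrArg (fun v => A *ᵥ v) (hsum a b)
    simp only [Matrix.mulVec_add, Matrix.mulVec_sub, hk, hky, hμ'] at this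
    rw [← sub_eq_add_neg]
    exact this
  -- the three coefficient equations
  have heq1 : ∀ a b, k a + k b - k (a + b) = ky := by
    intro a b
    obtain ⟨μ, -, hs⟩ := hstar a b
    have := congrArg (fun v => B v y') hs
    simp only [h.B_add_left, h.B_neg_left, h.B_smul_left, hYy', hyy', hBy'y'] at this
    linear_combination this
  have heq2 : ∀ a b, k a * a + k b * b - k (a + b) * (a + b) = 0 := by
    intro a b
    obtain ⟨μ, -, hs⟩ := hstar a b
    have := congrArg (fun v => B v z) hs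
    simp only [h.B_add_left, h.B_neg_left, h.B_smul_left, hYz, hyz, hy'z] at this
    have h2c : (2 * c) ≠ 0 := mul_ne_zero h2E hc
    have h' : (2 * c) * (k a * a + k b * b - k (a + b) * (a + b)) = 0 := by linear_combination this
    exact (mul_eq_zero.mp h').resolve_left h2c
  have hkconst : ∀ a, k a = ky := by
    intro a
    by_cases ha : a = 0
    · have := heq1 0 0
      rw [add_zero] at this
      rw [ha]
      linear_combination this
    · have e1 := heq1 a a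
      have e2 := heq2 a a
      have h3 : (2 * a) * (k a - k (a + a)) = 0 := by linear_combination e2
      have h4 : k a - k (a + a) = 0 := (mul_eq_zero.mp h3).resolve_left (mul_ne_zero h2E ha)
      linear_combination e1 - h4
  have heq3 : ∀ a b, A *ᵥ (ρ (2 * a * b * c) *ᵥ y') = ρ (2 * a * b * c * ky) *ᵥ y' := by
    intro a b
    obtain ⟨μ, hμ', hs⟩ := hstar a b
    have := congrArg (fun v => B v y) hs
    simp only [h.B_add_left, h.B_neg_left, h.B_smul_left, hYy, hByy, hy'y, hkconst] at this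
    have hμv : μ = 2 * a * b * c * ky := by linear_combination -this
    rw [hμ', hμv]
  have := heq3 1 (lam / (2 * c))
  have e : 2 * 1 * (lam / (2 * c)) * c = lam := by field_simp
  rwa [e] at this

/-- SK. -/
theorem sk (h : Forms ρ Q B QE) (h2 : (2 : F) ≠ 0) (hE : finrank F E = 2) (hcard : 7 ≤ Fintype.card ι)
    (hw1 : W1 ρ B QE) (A : Matrix ι ι F)
    (hA : ∀ p : ι → F, p ≠ 0 → QE p = 0 → ∃ a : E, A *ᵥ p = ρ a *ᵥ p) : ∃ k : E, A = ρ k := by
  obtain ⟨y, hy0, hy, -⟩ := Cfsg.Agent.Lib.Helper22.C3O2Leaf.exists_esing_perp h h2 hE hcard 0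
  obtain ⟨y', hy', hyy'⟩ := Cfsg.Agent.Lib.Helper22.C3O2Leaf.exists_partner h hy0 hy
  have hy'y : B y' y = 1 := by rw [h.B_symm, hyy']
  obtain ⟨ky, hky⟩ := hA y hy0 hy
  have L1 := sk_line h h2 hE hcard hw1 A hA hy hy' hyy' hky
  have hky' : A *ᵥ y' = ρ ky *ᵥ y' := by
    have := L1 1
    rwa [rho_one_mulVec, one_mul] at this
  have L2 := sk_line h h2 hE hcard hw1 A hA hy' hy hy'y hky'
  have hBy'y' : B y' y' = 0 := by rw [h.B_self, hy', mul_zero]
  have hByy : B y y = 0 := by rw [h.B_self, hy, mul_zero]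
  -- vectors orthogonal to `y, y'`
  have hperp : ∀ w : ι → F, B y w = 0 → B y' w = 0 → A *ᵥ w = ρ ky *ᵥ w := by
    intro w hyw hy'w
    obtain ⟨s, hsdef⟩ : ∃ s : ι → F, s = y + ρ (-(QE w)) *ᵥ y' + w := ⟨_, rfl⟩
    have hsQ : QE s = 0 := by
      rw [hsdef, h.QE_add, h.QE_add, h.QE_smul, hy, hy', h.B_smul_right, hyy', h.B_add_left,
        h.B_smul_left, hyw, hy'w]
      ring
    have hy's : B y' s = 1 := by
      rw [hsdef, h.B_add_right, h.B_add_right, h.B_smul_right, hy'y, hBy'y', hy'w]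
      ring
    have L3 := sk_line h h2 hE hcard hw1 A hA hy' hsQ hy's hky' 1
    rw [rho_one_mulVec, one_mul] at L3
    have hw : w = s - y - ρ (-(QE w)) *ᵥ y' := by rw [hsdef]; abel
    have hAw : A *ᵥ w = A *ᵥ s - A *ᵥ y - A *ᵥ (ρ (-(QE w)) *ᵥ y') := by
      conv_lhs => rw [hw]
      rw [Matrix.mulVec_sub, Matrix.mulVec_sub]
    rw [hAw, L3, hky, L1, mul_comm, rho_mul_mulVec, ← Matrix.mulVec_sub, ← Matrix.mulVec_sub, ← hw]
  refine ⟨ky, ?_⟩
  apply Matrix.toLin'.injective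
  apply LinearMap.ext
  intro v
  rw [Matrix.toLin'_apply, Matrix.toLin'_apply]
  obtain ⟨w, hwdef⟩ : ∃ w : ι → F, w = v - ρ (B v y') *ᵥ y - ρ (B v y) *ᵥ y' := ⟨_, rfl⟩
  have hyw : B y w = 0 := by
    rw [hwdef, sub_eq_add_neg, sub_eq_add_neg, h.B_add_right, h.B_add_right, h.B_neg_right, h.B_neg_right,
      h.B_smul_right, h.B_smul_right, hByy, hyy', h.B_symm y v]
    ring
  have hy'w : B y' w = 0 := by
    rw [hwdef, sub_eq_add_neg, sub_eq_add_neg, h.B_add_right, h.B_add_right, h.B_neg_right, h.B_neg_right,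
      h.B_smul_right, h.B_smul_right, hy'y, hBy'y', h.B_symm y' v]
    ring
  have hv : v = w + ρ (B v y') *ᵥ y + ρ (B v y) *ᵥ y' := by rw [hwdef]; abel
  conv_lhs => rw [hv]
  rw [Matrix.mulVec_add, Matrix.mulVec_add, hperp w hyw hy'w, L1, L2, mul_comm _ ky, mul_comm _ ky,
    rho_mul_mulVec, rho_mul_mulVec, ← Matrix.mulVec_add, ← Matrix.mulVec_add, ← hv]

end Cfsg.Agent.Lib.Helper24.C3O2Leaf
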