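/- Helper24: abstract integer-vector combinatorics for the cyclic TI theorem (PF 3.5): primitives. -/
import Mathlib

namespace Cfsg.Agent.Lib.Helper24.CT

set_option linter.unusedSectionVars false
variable {N : Type*} [Fintype N] [DecidableEq N]

/-- integer dot product on `N → ℤ` -/
def dot (f g : N → ℤ) : ℤ := ∑ n, f n * g n

theorem dot_comm (f g : N → ℤ) : dot f g = dot g f := by
  unfold dot; exact Finset.sum_congr rfl fun n _ => mul_comm _ _

/-- two cells on a common line: inner product one and no sign clash -/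
structure Line (f g : N → ℤ) : Prop where
  dot_eq : dot f g = 1
  nonneg : ∀ n, 0 ≤ f n * g n

theorem Line.symm {f g : N → ℤ} (h : Line f g) : Line g f :=
  ⟨by rw [dot_comm]; exact h.dot_eq, fun n => by rw [mul_comm]; exact h.nonneg n⟩

theorem cell_bound {f : N → ℤ} (hf : dot f f = 3) (n : N) : -1 ≤ f n ∧ f n ≤ 1 := by
  have h1 : f n * f n ≤ dot f f :=
    Finset.single_le_sum (f := fun n => f n * f n) (fun i _ => mul_self_nonneg (f i)) (Finset.mem_univ n)
  rw [hf] at h1
  constructor <;> nlinarith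

theorem natAbs_eq_sq {x : ℤ} (h : -1 ≤ x ∧ x ≤ 1) : ((x.natAbs : ℕ) : ℤ) = x * x := by
  obtain ⟨h1, h2⟩ := h
  interval_cases x <;> simp

theorem cell_natAbs_le {f : N → ℤ} (hf : dot f f = 3) (l : List N) (hl : l.Nodup) :
    (l.map fun k => (f k).natAbs).sum ≤ 3 := by
  have h1 : (((l.map fun k => (f k).natAbs).sum : ℕ) : ℤ) = ∑ k ∈ l.toFinset, f k * f k := by
    rw [List.sum_toFinset _ hl]
    push_cast
    rw [List.map_map]
    congr 1
    apply List.map_congr_left
    intro k _
    simp only [Function.comp]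
    exact natAbs_eq_sq (cell_bound hf k)
  have h2 : ∑ k ∈ l.toFinset, f k * f k ≤ dot f f :=
    Finset.sum_le_sum_of_subset_of_nonneg (Finset.subset_univ _) (fun i _ _ => mul_self_nonneg (f i))
  rw [hf] at h2
  omega

theorem eq_zero_of_full {f : N → ℤ} (hf : dot f f = 3) (l : List N) (hl : l.Nodup)
    (hfull : (l.map fun k => (f k).natAbs).sum = 3) {n : N} (hn : n ∉ l) : f n = 0 := by
  by_contra h
  have h3 := cell_natAbs_le hf (n :: l) (List.nodup_cons.mpr ⟨hn, hl⟩)
  simp only [List.map_cons, List.sum_cons] at h3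
  omega

theorem dot_of_full {f : N → ℤ} (hf : dot f f = 3) (l : List N) (hl : l.Nodup)
    (hfull : (l.map fun k => (f k).natAbs).sum = 3) (g : N → ℤ) :
    dot f g = (l.map fun k => f k * g k).sum := by
  unfold dot
  rw [← List.sum_toFinset _ hl]
  symm
  apply Finset.sum_subset (Finset.subset_univ _)
  intro n _ hn
  rw [List.mem_toFinset] at hn
  rw [eq_zero_of_full hf l hl hfull hn, zero_mul]

/-- the inner product with a cell supported on three named elements -/
theorem dot_three {f : N → ℤ} (hf : dot f f = 3) {a b c : N} (hab : a ≠ b) (hac : a ≠ c)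
    (hbc : b ≠ c) (ha : f a ≠ 0) (hb : f b ≠ 0) (hc : f c ≠ 0) (g : N → ℤ) :
    dot f g = f a * g a + f b * g b + f c * g c := by
  have hl : [a, b, c].Nodup := by simp [hab, hac, hbc]
  have h3 := cell_natAbs_le hf [a, b, c] hl
  simp only [List.map_cons, List.map_nil, List.sum_cons, List.sum_nil] at h3
  have := dot_of_full hf [a, b, c] hl (by
    simp only [List.map_cons, List.map_nil, List.sum_cons, List.sum_nil]; omega) g
  rw [this]
  simp only [List.map_cons, List.map_nil, List.sum_cons, List.sum_nil]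
  ring

theorem dot_three' {f : N → ℤ} (hf : dot f f = 3) {a b c : N} (hab : a ≠ b) (hac : a ≠ c)
    (hbc : b ≠ c) (ha : f a ≠ 0) (hb : f b ≠ 0) (hc : f c ≠ 0) (g : N → ℤ) :
    dot g f = f a * g a + f b * g b + f c * g c := by
  rw [dot_comm]; exact dot_three hf hab hac hbc ha hb hc g

theorem eq_zero_of_three {f : N → ℤ} (hf : dot f f = 3) {a b c : N} (hab : a ≠ b) (hac : a ≠ c)
    (hbc : b ≠ c) (ha : f a ≠ 0) (hb : f b ≠ 0) (hc : f c ≠ 0) {n : N} (hna : n ≠ a)
    (hnb : n ≠ b) (hnc : n ≠ c) : f n = 0 := by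
  have hl : [a, b, c].Nodup := by simp [hab, hac, hbc]
  have h3 := cell_natAbs_le hf [a, b, c] hl
  simp only [List.map_cons, List.map_nil, List.sum_cons, List.sum_nil] at h3
  apply eq_zero_of_full hf [a, b, c] hl (by
    simp only [List.map_cons, List.map_nil, List.sum_cons, List.sum_nil]; omega)
  simp [hna, hnb, hnc]

theorem Line.not_two {f g : N → ℤ} (h : Line f g) {a b : N} (hab : a ≠ b)
    (ha : f a * g a ≠ 0) (hb : f b * g b ≠ 0) : False := by
  have h1 : ∑ n ∈ ({a, b} : Finset N), f n * g n ≤ dot f g :=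
    Finset.sum_le_sum_of_subset_of_nonneg (Finset.subset_univ _) (fun i _ _ => h.nonneg i)
  rw [Finset.sum_pair hab, h.dot_eq] at h1
  have := h.nonneg a
  have := h.nonneg b
  omega

theorem Line.exists_common {f g : N → ℤ} (hf : dot f f = 3) (hg : dot g g = 3) (h : Line f g) :
    ∃ n, f n = g n ∧ f n ≠ 0 := by
  by_contra hcon
  push Not at hcon
  have : dot f g = 0 := by
    unfold dot
    apply Finset.sum_eq_zero
    intro n _
    have h1 := cell_bound hf n
    have h2 := cell_bound hg n
    have h3 := h.nonneg n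
    have h4 := hcon n
    by_contra h5
    have h6 : f n ≠ 0 := fun h0 => h5 (by rw [h0, zero_mul])
    have h7 : g n ≠ 0 := fun h0 => h5 (by rw [h0, mul_zero])
    have h8 : f n = g n := by
      obtain ⟨a1, a2⟩ := h1
      obtain ⟨b1, b2⟩ := h2
      interval_cases hfn : f n <;> interval_cases hgn : g n <;> simp_all
    exact h6 (by
      by_contra h9
      exact h9 (h4 h8 |> fun e => e))
  rw [h.dot_eq] at this
  omega

/-- sign condition in usable form -/
theorem Line.sign {f g : N → ℤ} (h : Line f g) (n : N) :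
    ¬ (f n = 1 ∧ g n = -1) ∧ ¬ (f n = -1 ∧ g n = 1) := by
  have := h.nonneg n
  constructor <;> rintro ⟨h1, h2⟩ <;> rw [h1, h2] at this <;> omega

/-- a cell has a third nonzero entry -/
theorem cell_third {f : N → ℤ} (hf : dot f f = 3) {a b : N} (hab : a ≠ b) :
    ∃ c, c ≠ a ∧ c ≠ b ∧ f c ≠ 0 := by
  by_contra hcon
  push Not at hcon
  have h1 : dot f f = ∑ n ∈ ({a, b} : Finset N), f n * f n := by
    unfold dot
    symm
    apply Finset.sum_subset (Finset.subset_univ _)
    intro n _ hn
    simp only [Finset.mem_insert, Finset.mem_singleton, not_or] at hn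
    rw [hcon n hn.1 hn.2, zero_mul]
  rw [Finset.sum_pair hab, hf] at h1
  have ha := cell_bound hf a
  have hb := cell_bound hf b
  nlinarith

end Cfsg.Agent.Lib.Helper24.CT
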