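/- Helper24: abstract integer-vector combinatorics for the cyclic TI theorem (PF 3.5): the star configuration in a 2x4 block is impossible. -/
import Mathlib
import Cfsg.Agent.Lib.Helper24.CTComb1

namespace Cfsg.Agent.Lib.Helper24.CT

set_option linter.unusedSectionVars false
set_option linter.unusedVariables false
variable {N : Type*} [Fintype N] [DecidableEq N]

/-- hypotheses on a `2 × 4` block of cells -/
structure Block (T U : Fin 4 → N → ℤ) : Prop where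
  cellT : ∀ c, dot (T c) (T c) = 3
  cellU : ∀ c, dot (U c) (U c) = 3
  lineT : ∀ c d, c ≠ d → Line (T c) (T d)
  lineU : ∀ c d, c ≠ d → Line (U c) (U d)
  lineTU : ∀ c, Line (T c) (U c)
  genTU : ∀ c d, c ≠ d → dot (T c) (U d) = 0

theorem Block.swap {T U : Fin 4 → N → ℤ} (h : Block T U) : Block U T where
  cellT := h.cellU
  cellU := h.cellT
  lineT := h.lineU
  lineU := h.lineT
  lineTU := fun c => (h.lineTU c).symm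
  genTU := fun c d hcd => by rw [dot_comm]; exact h.genTU d c (Ne.symm hcd)

/-- a star configuration in the (nonnegative) row `T`: three spokes through `p` and a transversal -/
structure Star (T : Fin 4 → N → ℤ) (ia ib ic it : Fin 4) (p a b c a' b' c' : N) : Prop where
  nodup : [p, a, b, c, a', b', c'].Nodup
  idx : [ia, ib, ic, it].Nodup
  sa : T ia p = 1 ∧ T ia a = 1 ∧ T ia a' = 1
  sb : T ib p = 1 ∧ T ib b = 1 ∧ T ib b' = 1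
  sc : T ic p = 1 ∧ T ic c = 1 ∧ T ic c' = 1
  tr : T it a = 1 ∧ T it b = 1 ∧ T it c = 1

theorem Star.swap_ab {T : Fin 4 → N → ℤ} {ia ib ic it : Fin 4} {p a b c a' b' c' : N}
    (h : Star T ia ib ic it p a b c a' b' c') : Star T ib ia ic it p b a c b' a' c' where
  nodup := by have := h.nodup; grind
  idx := by have := h.idx; grind
  sa := h.sb
  sb := h.sa
  sc := h.sc
  tr := ⟨h.tr.2.1, h.tr.1, h.tr.2.2⟩

theorem Star.swap_ac {T : Fin 4 → N → ℤ} {ia ib ic it : Fin 4} {p a b c a' b' c' : N}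
    (h : Star T ia ib ic it p a b c a' b' c') : Star T ic ib ia it p c b a c' b' a' where
  nodup := by have := h.nodup; grind
  idx := by have := h.idx; grind
  sa := h.sc
  sb := h.sb
  sc := h.sa
  tr := ⟨h.tr.2.2, h.tr.2.1, h.tr.1⟩

theorem Star.swap_bc {T : Fin 4 → N → ℤ} {ia ib ic it : Fin 4} {p a b c a' b' c' : N}
    (h : Star T ia ib ic it p a b c a' b' c') : Star T ia ic ib it p a c b a' c' b' where
  nodup := by have := h.nodup; grind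
  idx := by have := h.idx; grind
  sa := h.sa
  sb := h.sc
  sc := h.sb
  tr := ⟨h.tr.1, h.tr.2.2, h.tr.2.1⟩


theorem nodup7 {p a b c a' b' c' : N} (h : [p, a, b, c, a', b', c'].Nodup) :
    p ≠ a ∧ p ≠ b ∧ p ≠ c ∧ p ≠ a' ∧ p ≠ b' ∧ p ≠ c' ∧ a ≠ b ∧ a ≠ c ∧ a ≠ a' ∧ a ≠ b' ∧ a ≠ c' ∧
    b ≠ c ∧ b ≠ a' ∧ b ≠ b' ∧ b ≠ c' ∧ c ≠ a' ∧ c ≠ b' ∧ c ≠ c' ∧ a' ≠ b' ∧ a' ≠ c' ∧ b' ≠ c' := by
  simp only [List.nodup_cons, List.mem_cons, List.not_mem_nil, not_or, or_false, List.nodup_nil,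
    and_true, not_false_eq_true] at h
  tauto

/-- linear facts about an arbitrary cell `X` relative to a star configuration -/
theorem Star.profile {T : Fin 4 → N → ℤ} {ia ib ic it : Fin 4} {p a b c a' b' c' : N}
    (hs : Star T ia ib ic it p a b c a' b' c') (hT : ∀ c, dot (T c) (T c) = 3)
    (X : N → ℤ) (hX : dot X X = 3) :
    dot (T ia) X = X p + X a + X a' ∧ dot (T ib) X = X p + X b + X b' ∧
    dot (T ic) X = X p + X c + X c' ∧ dot (T it) X = X a + X b + X c ∧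
    ((-1 ≤ X p ∧ X p ≤ 1) ∧ (-1 ≤ X a ∧ X a ≤ 1) ∧ (-1 ≤ X b ∧ X b ≤ 1) ∧ (-1 ≤ X c ∧ X c ≤ 1) ∧
      (-1 ≤ X a' ∧ X a' ≤ 1) ∧ (-1 ≤ X b' ∧ X b' ≤ 1) ∧ (-1 ≤ X c' ∧ X c' ≤ 1)) ∧
    ∃ m1 m2 m3 m4 m5 m6 m7 : ℤ, (X p ≤ m1 ∧ -X p ≤ m1) ∧ (X a ≤ m2 ∧ -X a ≤ m2) ∧
      (X b ≤ m3 ∧ -X b ≤ m3) ∧ (X c ≤ m4 ∧ -X c ≤ m4) ∧ (X a' ≤ m5 ∧ -X a' ≤ m5) ∧
      (X b' ≤ m6 ∧ -X b' ≤ m6) ∧ (X c' ≤ m7 ∧ -X c' ≤ m7) ∧ m1 + m2 + m3 + m4 + m5 + m6 + m7 ≤ 3 := by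
  have hd := hs.nodup
  obtain ⟨n1, n2, n3, n4, n5, n6, n7, n8, n9, n10, n11, n12, n13, n14, n15, n16, n17, n18, n19,
    n20, n21⟩ := nodup7 hd
  obtain ⟨sa1, sa2, sa3⟩ := hs.sa
  obtain ⟨sb1, sb2, sb3⟩ := hs.sb
  obtain ⟨sc1, sc2, sc3⟩ := hs.sc
  obtain ⟨tr1, tr2, tr3⟩ := hs.tr
  refine ⟨?_, ?_, ?_, ?_, ?_, ?_⟩
  · rw [dot_three (hT ia) (a := p) (b := a) (c := a') n1 n4 n9
      (by omega) (by omega) (by omega), sa1, sa2, sa3]; ring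
  · rw [dot_three (hT ib) (a := p) (b := b) (c := b') n2 n5 n14
      (by omega) (by omega) (by omega), sb1, sb2, sb3]; ring
  · rw [dot_three (hT ic) (a := p) (b := c) (c := c') n3 n6 n18
      (by omega) (by omega) (by omega), sc1, sc2, sc3]; ring
  · rw [dot_three (hT it) (a := a) (b := b) (c := c) n7 n8 n12
      (by omega) (by omega) (by omega), tr1, tr2, tr3]; ring
  · exact ⟨cell_bound hX p, cell_bound hX a, cell_bound hX b, cell_bound hX c, cell_bound hX a',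
      cell_bound hX b', cell_bound hX c'⟩
  · have := cell_natAbs_le hX [p, a, b, c, a', b', c'] hd
    simp only [List.map_cons, List.map_nil, List.sum_cons, List.sum_nil] at this
    refine ⟨(X p).natAbs, (X a).natAbs, (X b).natAbs, (X c).natAbs, (X a').natAbs, (X b').natAbs,
      (X c').natAbs, ?_, ?_, ?_, ?_, ?_, ?_, ?_, ?_⟩
    all_goals omega


theorem optsA (xp xa xb xc xa' xb' xc' m1 m2 m3 m4 m5 m6 m7 : ℤ)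
    (bp : -1 ≤ xp ∧ xp ≤ 1) (ba : -1 ≤ xa ∧ xa ≤ 1) (bb : -1 ≤ xb ∧ xb ≤ 1) (bc : -1 ≤ xc ∧ xc ≤ 1)
    (ba' : -1 ≤ xa' ∧ xa' ≤ 1) (bb' : -1 ≤ xb' ∧ xb' ≤ 1) (bc' : -1 ≤ xc' ∧ xc' ≤ 1)
    (h1 : xp ≤ m1 ∧ -xp ≤ m1) (h2 : xa ≤ m2 ∧ -xa ≤ m2) (h3 : xb ≤ m3 ∧ -xb ≤ m3)
    (h4 : xc ≤ m4 ∧ -xc ≤ m4) (h5 : xa' ≤ m5 ∧ -xa' ≤ m5) (h6 : xb' ≤ m6 ∧ -xb' ≤ m6)
    (h7 : xc' ≤ m7 ∧ -xc' ≤ m7) (hs : m1 + m2 + m3 + m4 + m5 + m6 + m7 ≤ 3)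
    (e1 : 1 = xp + xa + xa') (e2 : 0 = xp + xb + xb') (e3 : 0 = xp + xc + xc') (e4 : 0 = xa + xb + xc)
    (s1 : 0 ≤ xp) (s2 : 0 ≤ xa) (s3 : 0 ≤ xa') (s5 : xa' ≤ 0) :
    (xp = 1 ∧ xb' = -1 ∧ xc' = -1) ∨ (xa = 1 ∧ xb = -1 ∧ xb' = 1) ∨ (xa = 1 ∧ xc = -1 ∧ xc' = 1) := by
  obtain ⟨bp1, bp2⟩ := bp
  obtain ⟨ba1, ba2⟩ := ba
  obtain ⟨bb1, bb2⟩ := bb
  obtain ⟨bc1, bc2⟩ := bc
  interval_cases xp <;> interval_cases xa <;> interval_cases xb <;> interval_cases xc <;> omega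


theorem optsT (xp xa xb xc xa' xb' xc' m1 m2 m3 m4 m5 m6 m7 : ℤ)
    (bp : -1 ≤ xp ∧ xp ≤ 1) (ba : -1 ≤ xa ∧ xa ≤ 1) (bb : -1 ≤ xb ∧ xb ≤ 1) (bc : -1 ≤ xc ∧ xc ≤ 1)
    (ba' : -1 ≤ xa' ∧ xa' ≤ 1) (bb' : -1 ≤ xb' ∧ xb' ≤ 1) (bc' : -1 ≤ xc' ∧ xc' ≤ 1)
    (h1 : xp ≤ m1 ∧ -xp ≤ m1) (h2 : xa ≤ m2 ∧ -xa ≤ m2) (h3 : xb ≤ m3 ∧ -xb ≤ m3)
    (h4 : xc ≤ m4 ∧ -xc ≤ m4) (h5 : xa' ≤ m5 ∧ -xa' ≤ m5) (h6 : xb' ≤ m6 ∧ -xb' ≤ m6)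
    (h7 : xc' ≤ m7 ∧ -xc' ≤ m7) (hs : m1 + m2 + m3 + m4 + m5 + m6 + m7 ≤ 3)
    (e1 : 0 = xp + xa + xa') (e2 : 0 = xp + xb + xb') (e3 : 0 = xp + xc + xc') (e4 : 1 = xa + xb + xc)
    (s1 : 0 ≤ xa) (s2 : 0 ≤ xb) (s3 : 0 ≤ xc) :
    (xa = 1 ∧ xa' = -1) ∨ (xb = 1 ∧ xb' = -1) ∨ (xc = 1 ∧ xc' = -1) := by
  obtain ⟨bp1, bp2⟩ := bp
  obtain ⟨ba1, ba2⟩ := ba
  obtain ⟨bb1, bb2⟩ := bb
  obtain ⟨bc1, bc2⟩ := bc
  interval_cases xp <;> interval_cases xa <;> interval_cases xb <;> interval_cases xc <;> omega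

theorem contra1 (xp xa xb xc xa' xb' xc' m1 m2 m3 m4 m5 m6 m7 : ℤ)
    (bp : -1 ≤ xp ∧ xp ≤ 1) (ba : -1 ≤ xa ∧ xa ≤ 1) (bb : -1 ≤ xb ∧ xb ≤ 1) (bc : -1 ≤ xc ∧ xc ≤ 1)
    (ba' : -1 ≤ xa' ∧ xa' ≤ 1) (bb' : -1 ≤ xb' ∧ xb' ≤ 1) (bc' : -1 ≤ xc' ∧ xc' ≤ 1)
    (h1 : xp ≤ m1 ∧ -xp ≤ m1) (h2 : xa ≤ m2 ∧ -xa ≤ m2) (h3 : xb ≤ m3 ∧ -xb ≤ m3)
    (h4 : xc ≤ m4 ∧ -xc ≤ m4) (h5 : xa' ≤ m5 ∧ -xa' ≤ m5) (h6 : xb' ≤ m6 ∧ -xb' ≤ m6)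
    (h7 : xc' ≤ m7 ∧ -xc' ≤ m7) (hs : m1 + m2 + m3 + m4 + m5 + m6 + m7 ≤ 3)
    (e1 : 0 = xp + xa + xa') (e2 : 0 = xp + xb + xb') (e3 : 0 = xp + xc + xc') (e4 : 1 = xa + xb + xc)
    (u1 : xa = 1) (u2 : xa' = -1) (hd : 1 * xp + -1 * xb' + -1 * xc' = 1) : False := by
  omega

theorem contra2 (xp xa xb xc xa' xb' xc' m1 m2 m3 m4 m5 m6 m7 : ℤ)
    (bp : -1 ≤ xp ∧ xp ≤ 1) (ba : -1 ≤ xa ∧ xa ≤ 1) (bb : -1 ≤ xb ∧ xb ≤ 1) (bc : -1 ≤ xc ∧ xc ≤ 1)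
    (ba' : -1 ≤ xa' ∧ xa' ≤ 1) (bb' : -1 ≤ xb' ∧ xb' ≤ 1) (bc' : -1 ≤ xc' ∧ xc' ≤ 1)
    (h1 : xp ≤ m1 ∧ -xp ≤ m1) (h2 : xa ≤ m2 ∧ -xa ≤ m2) (h3 : xb ≤ m3 ∧ -xb ≤ m3)
    (h4 : xc ≤ m4 ∧ -xc ≤ m4) (h5 : xa' ≤ m5 ∧ -xa' ≤ m5) (h6 : xb' ≤ m6 ∧ -xb' ≤ m6)
    (h7 : xc' ≤ m7 ∧ -xc' ≤ m7) (hs : m1 + m2 + m3 + m4 + m5 + m6 + m7 ≤ 3)
    (e1 : 0 = xp + xa + xa') (e2 : 0 = xp + xb + xb') (e3 : 1 = xp + xc + xc') (e4 : 0 = xa + xb + xc)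
    (s1 : 0 ≤ xp) (s2 : 0 ≤ xc) (s3 : 0 ≤ xc') (hd : 1 * xa + -1 * xb + 1 * xb' = 1) : False := by
  obtain ⟨bp1, bp2⟩ := bp
  obtain ⟨ba1, ba2⟩ := ba
  obtain ⟨bb1, bb2⟩ := bb
  obtain ⟨bc1, bc2⟩ := bc
  interval_cases xp <;> interval_cases xa <;> interval_cases xb <;> interval_cases xc <;> omega

theorem Line.nonneg_of_one {f g : N → ℤ} (h : Line f g) {n : N} (hn : f n = 1) : 0 ≤ g n := by
  have := h.nonneg n; rw [hn] at this; omega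

theorem Line.nonpos_of_neg_one {f g : N → ℤ} (h : Line f g) {n : N} (hn : f n = -1) :
    g n ≤ 0 := by
  have := h.nonneg n; rw [hn] at this; omega

theorem nodup4 {i j k l : Fin 4} (h : [i, j, k, l].Nodup) :
    i ≠ j ∧ i ≠ k ∧ i ≠ l ∧ j ≠ k ∧ j ≠ l ∧ k ≠ l := by
  simp only [List.nodup_cons, List.mem_cons, List.not_mem_nil, not_or, or_false, List.nodup_nil,
    and_true, not_false_eq_true] at h
  tauto

/-- the star configuration is impossible if `U it` contains `a` and `-a'` -/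
theorem star_a {T U : Fin 4 → N → ℤ} (h : Block T U) {ia ib ic it : Fin 4}
    {p a b c a' b' c' : N} (hs : Star T ia ib ic it p a b c a' b' c')
    (hUt : U it a = 1 ∧ U it a' = -1) : False := by
  obtain ⟨n1, n2, n3, n4, n5, n6, n7, n8, n9, n10, n11, n12, n13, n14, n15, n16, n17, n18, n19,
    n20, n21⟩ := nodup7 hs.nodup
  obtain ⟨iab, iac, iat, ibc, ibt, ict⟩ := nodup4 hs.idx
  obtain ⟨sa1, sa2, sa3⟩ := hs.sa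
  obtain ⟨sb1, sb2, sb3⟩ := hs.sb
  obtain ⟨sc1, sc2, sc3⟩ := hs.sc
  obtain ⟨hUt1, hUt2⟩ := hUt
  -- the cell `U ia`
  obtain ⟨ea1, ea2, ea3, ea4, ⟨bp, ba, bb, bc, ba', bb', bc'⟩, am1, am2, am3, am4, am5, am6, am7,
    ah1, ah2, ah3, ah4, ah5, ah6, ah7, hsum⟩ := hs.profile h.cellT (U ia) (h.cellU ia)
  rw [(h.lineTU ia).dot_eq] at ea1
  rw [h.genTU ib ia (Ne.symm iab)] at ea2
  rw [h.genTU ic ia (Ne.symm iac)] at ea3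
  rw [h.genTU it ia (Ne.symm iat)] at ea4
  have s1 := (h.lineTU ia).nonneg_of_one sa1
  have s2 := (h.lineTU ia).nonneg_of_one sa2
  have s3 := (h.lineTU ia).nonneg_of_one sa3
  have s5 := (h.lineU it ia (Ne.symm iat)).nonpos_of_neg_one hUt2
  have opts := optsA _ _ _ _ _ _ _ _ _ _ _ _ _ _ bp ba bb bc ba' bb' bc' ah1 ah2 ah3 ah4 ah5 ah6 ah7
    hsum ea1 ea2 ea3 ea4 s1 s2 s3 s5
  rcases opts with ⟨o1, o2, o3⟩ | ⟨o1, o2, o3⟩ | ⟨o1, o2, o3⟩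
  · -- `U ia = p - b' - c'`: inner product with `U it` vanishes
    obtain ⟨et1, et2, et3, et4, ⟨tp, ta, tb, tc, ta', tb', tc'⟩, tm1, tm2, tm3, tm4, tm5, tm6, tm7,
      th1, th2, th3, th4, th5, th6, th7, tsum⟩ := hs.profile h.cellT (U it) (h.cellU it)
    rw [h.genTU ia it iat] at et1
    rw [h.genTU ib it ibt] at et2
    rw [h.genTU ic it ict] at et3
    rw [(h.lineTU it).dot_eq] at et4
    have hd := (h.lineU ia it iat).dot_eq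
    rw [dot_three (h.cellU ia) (a := p) (b := b') (c := c') n5 n6 n21 (by omega) (by omega)
      (by omega), o1, o2, o3] at hd
    exact contra1 _ _ _ _ _ _ _ _ _ _ _ _ _ _ tp ta tb tc ta' tb' tc' th1 th2 th3 th4 th5 th6 th7
      tsum et1 et2 et3 et4 hUt1 hUt2 hd
  · -- `U ia = a - b + b'`: no room for `U ic`
    obtain ⟨ec1, ec2, ec3, ec4, ⟨cp, ca, cb, cc, ca', cb', cc'⟩, cm1, cm2, cm3, cm4, cm5, cm6, cm7,
      ch1, ch2, ch3, ch4, ch5, ch6, ch7, csum⟩ := hs.profile h.cellT (U ic) (h.cellU ic)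
    rw [h.genTU ia ic iac] at ec1
    rw [h.genTU ib ic ibc] at ec2
    rw [(h.lineTU ic).dot_eq] at ec3
    rw [h.genTU it ic (Ne.symm ict)] at ec4
    have t1 := (h.lineTU ic).nonneg_of_one sc1
    have t2 := (h.lineTU ic).nonneg_of_one sc2
    have t3 := (h.lineTU ic).nonneg_of_one sc3
    have hd := (h.lineU ia ic iac).dot_eq
    rw [dot_three (h.cellU ia) (a := a) (b := b) (c := b') n7 n10 n14 (by omega) (by omega)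
      (by omega), o1, o2, o3] at hd
    exact contra2 _ _ _ _ _ _ _ _ _ _ _ _ _ _ cp ca cb cc ca' cb' cc' ch1 ch2 ch3 ch4 ch5 ch6 ch7
      csum ec1 ec2 ec3 ec4 t1 t2 t3 hd
  · -- `U ia = a - c + c'`: no room for `U ib`
    obtain ⟨ec1, ec2, ec3, ec4, ⟨cp, ca, cb, cc, ca', cb', cc'⟩, cm1, cm2, cm3, cm4, cm5, cm6, cm7,
      ch1, ch2, ch3, ch4, ch5, ch6, ch7, csum⟩ := hs.profile h.cellT (U ib) (h.cellU ib)
    rw [h.genTU ia ib iab] at ec1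
    rw [(h.lineTU ib).dot_eq] at ec2
    rw [h.genTU ic ib (Ne.symm ibc)] at ec3
    rw [h.genTU it ib (Ne.symm ibt)] at ec4
    have t1 := (h.lineTU ib).nonneg_of_one sb1
    have t2 := (h.lineTU ib).nonneg_of_one sb2
    have t3 := (h.lineTU ib).nonneg_of_one sb3
    have hd := (h.lineU ia ib iab).dot_eq
    rw [dot_three (h.cellU ia) (a := a) (b := c) (c := c') n8 n11 n18 (by omega) (by omega)
      (by omega), o1, o2, o3] at hd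
    exact contra2 _ _ _ _ _ _ _ _ _ _ _ _ _ _ cp ca cc cb ca' cc' cb' ch1 ch2 ch4 ch3 ch5 ch7 ch6
      (by omega) ec1 ec3 ec2 (by omega) t1 t2 t3 hd

/-- the star configuration is impossible -/
theorem star {T U : Fin 4 → N → ℤ} (h : Block T U) {ia ib ic it : Fin 4}
    {p a b c a' b' c' : N} (hs : Star T ia ib ic it p a b c a' b' c') : False := by
  obtain ⟨iab, iac, iat, ibc, ibt, ict⟩ := nodup4 hs.idx
  obtain ⟨tr1, tr2, tr3⟩ := hs.tr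
  obtain ⟨et1, et2, et3, et4, ⟨tp, ta, tb, tc, ta', tb', tc'⟩, tm1, tm2, tm3, tm4, tm5, tm6, tm7,
    th1, th2, th3, th4, th5, th6, th7, tsum⟩ := hs.profile h.cellT (U it) (h.cellU it)
  rw [h.genTU ia it iat] at et1
  rw [h.genTU ib it ibt] at et2
  rw [h.genTU ic it ict] at et3
  rw [(h.lineTU it).dot_eq] at et4
  have t1 := (h.lineTU it).nonneg_of_one tr1
  have t2 := (h.lineTU it).nonneg_of_one tr2
  have t3 := (h.lineTU it).nonneg_of_one tr3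
  have opts := optsT _ _ _ _ _ _ _ _ _ _ _ _ _ _ tp ta tb tc ta' tb' tc' th1 th2 th3 th4 th5 th6 th7
    tsum et1 et2 et3 et4 t1 t2 t3
  rcases opts with o | o | o
  · exact star_a h hs o
  · exact star_a h hs.swap_ab o
  · exact star_a h hs.swap_ac o

end Cfsg.Agent.Lib.Helper24.CT
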