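/- Helper24: abstract integer-vector combinatorics for the cyclic TI theorem (PF 3.5): in a 2x4 block the first row has a common element. -/
import Mathlib
import Cfsg.Agent.Lib.Helper24.CTComb2

namespace Cfsg.Agent.Lib.Helper24.CT

set_option linter.unusedSectionVars false
set_option linter.unusedVariables false
variable {N : Type*} [Fintype N] [DecidableEq N]

theorem val01 {f : N → ℤ} (hf : dot f f = 3) (hpos : ∀ n, 0 ≤ f n) (n : N) :
    f n = 0 ∨ f n = 1 := by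
  have := cell_bound hf n; have := hpos n; omega

theorem Line.zero_of_common {f g : N → ℤ} (hg : dot g g = 3) (hgpos : ∀ n, 0 ≤ g n)
    (h : Line f g) {m n : N} (hmn : m ≠ n) (h1 : f m = 1) (h2 : g m = 1) (h3 : f n = 1) :
    g n = 0 := by
  rcases val01 hg hgpos n with h0 | h0
  · exact h0
  · exact (h.not_two hmn (by rw [h1, h2]; norm_num) (by rw [h3, h0]; norm_num)).elim

theorem Line.common01 {f g : N → ℤ} (hf : dot f f = 3) (hg : dot g g = 3)
    (hfpos : ∀ n, 0 ≤ f n) (h : Line f g) : ∃ n, f n = 1 ∧ g n = 1 := by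
  obtain ⟨n, h1, h2⟩ := h.exists_common hf hg
  refine ⟨n, ?_, ?_⟩
  · rcases val01 hf hfpos n with h0 | h0
    · exact absurd h0 h2
    · exact h0
  · rcases val01 hf hfpos n with h0 | h0
    · exact absurd h0 h2
    · rw [← h1]; exact h0

theorem third01 {f : N → ℤ} (hf : dot f f = 3) (hpos : ∀ n, 0 ≤ f n) {a b : N} (hab : a ≠ b) :
    ∃ c, c ≠ a ∧ c ≠ b ∧ f c = 1 := by
  obtain ⟨c, h1, h2, h3⟩ := cell_third hf hab
  refine ⟨c, h1, h2, ?_⟩
  rcases val01 hf hpos c with h0 | h0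
  · exact absurd h0 h3
  · exact h0

theorem optsQ (tA tB tC tD tE tF : ℤ) (bA : 0 ≤ tA ∧ tA ≤ 1) (bB : 0 ≤ tB ∧ tB ≤ 1)
    (bC : 0 ≤ tC ∧ tC ≤ 1) (bD : 0 ≤ tD ∧ tD ≤ 1) (bE : 0 ≤ tE ∧ tE ≤ 1) (bF : 0 ≤ tF ∧ tF ≤ 1)
    (e1 : 1 = tA + tB + tD) (e2 : 1 = tA + tC + tE) (e3 : 1 = tB + tC + tF)
    (hs : tA + tB + tC + tD + tE + tF ≤ 3) :
    (tA = 1 ∧ tF = 1 ∧ tB = 0 ∧ tC = 0 ∧ tD = 0 ∧ tE = 0) ∨
    (tB = 1 ∧ tE = 1 ∧ tA = 0 ∧ tC = 0 ∧ tD = 0 ∧ tF = 0) ∨
    (tC = 1 ∧ tD = 1 ∧ tA = 0 ∧ tB = 0 ∧ tE = 0 ∧ tF = 0) ∨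
    (tD = 1 ∧ tE = 1 ∧ tF = 1 ∧ tA = 0 ∧ tB = 0 ∧ tC = 0) := by
  obtain ⟨a1, a2⟩ := bA
  obtain ⟨b1, b2⟩ := bB
  obtain ⟨c1, c2⟩ := bC
  interval_cases tA <;> interval_cases tB <;> interval_cases tC <;> omega

/-- three cells of the nonnegative row without a common element: impossible -/
theorem tri {T U : Fin 4 → N → ℤ} (h : Block T U) (hpos : ∀ c n, 0 ≤ T c n)
    {i0 i1 i2 i3 : Fin 4} (hidx : [i0, i1, i2, i3].Nodup) {A : N}
    (hA0 : T i0 A = 1) (hA1 : T i1 A = 1) (hA2 : T i2 A = 0) : False := by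
  obtain ⟨i01, i02, i03, i12, i13, i23⟩ := nodup4 hidx
  have c0 := h.cellT i0
  have c1 := h.cellT i1
  have c2 := h.cellT i2
  have c3 := h.cellT i3
  have L01 := h.lineT i0 i1 i01
  have L02 := h.lineT i0 i2 i02
  have L12 := h.lineT i1 i2 i12
  have L03 := h.lineT i0 i3 i03
  have L13 := h.lineT i1 i3 i13
  have L23 := h.lineT i2 i3 i23
  -- B
  obtain ⟨B, hB0, hB2⟩ := L02.common01 c0 c2 (hpos i0)
  have hAB : A ≠ B := fun e => by rw [e, hB2] at hA2; omega
  have hB1 : T i1 B = 0 := L01.zero_of_common c1 (hpos i1) hAB hA0 hA1 hB0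
  -- C
  obtain ⟨C, hC1, hC2⟩ := L12.common01 c1 c2 (hpos i1)
  have hAC : A ≠ C := fun e => by rw [e, hC2] at hA2; omega
  have hBC : B ≠ C := fun e => by rw [e, hC1] at hB1; omega
  have hC0 : T i0 C = 0 := L01.symm.zero_of_common c0 (hpos i0) hAC hA1 hA0 hC1
  -- D
  obtain ⟨D, hDA, hDB, hD0⟩ := third01 c0 (hpos i0) hAB
  have hD1 : T i1 D = 0 := L01.zero_of_common c1 (hpos i1) (Ne.symm hDA) hA0 hA1 hD0
  have hD2 : T i2 D = 0 := L02.zero_of_common c2 (hpos i2) (Ne.symm hDB) hB0 hB2 hD0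
  -- E
  obtain ⟨E, hEA, hEC, hE1⟩ := third01 c1 (hpos i1) hAC
  have hE0 : T i0 E = 0 := L01.symm.zero_of_common c0 (hpos i0) (Ne.symm hEA) hA1 hA0 hE1
  have hE2 : T i2 E = 0 := L12.zero_of_common c2 (hpos i2) (Ne.symm hEC) hC1 hC2 hE1
  -- F
  obtain ⟨F, hFB, hFC, hF2⟩ := third01 c2 (hpos i2) hBC
  have hF0 : T i0 F = 0 := L02.symm.zero_of_common c0 (hpos i0) (Ne.symm hFB) hB2 hB0 hF2
  have hF1 : T i1 F = 0 := L12.symm.zero_of_common c1 (hpos i1) (Ne.symm hFC) hC2 hC1 hF2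
  -- further distinctness
  have hCD : C ≠ D := fun e => by rw [e, hD0] at hC0; omega
  have hBE : B ≠ E := fun e => by rw [e, hE1] at hB1; omega
  have hDE : D ≠ E := fun e => by rw [e, hE1] at hD1; omega
  have hAF : A ≠ F := fun e => by rw [e, hF2] at hA2; omega
  have hDF : D ≠ F := fun e => by rw [e, hF2] at hD2; omega
  have hEF : E ≠ F := fun e => by rw [e, hF2] at hE2; omega
  -- dot products with the three cells
  have d0 : ∀ X : N → ℤ, dot (T i0) X = X A + X B + X D := fun X => by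
    rw [dot_three c0 hAB (Ne.symm hDA) (Ne.symm hDB) (by omega) (by omega) (by omega), hA0, hB0,
      hD0]; ring
  have d1 : ∀ X : N → ℤ, dot (T i1) X = X A + X C + X E := fun X => by
    rw [dot_three c1 hAC (Ne.symm hEA) (Ne.symm hEC) (by omega) (by omega) (by omega), hA1, hC1,
      hE1]; ring
  have d2 : ∀ X : N → ℤ, dot (T i2) X = X B + X C + X F := fun X => by
    rw [dot_three c2 hBC (Ne.symm hFB) (Ne.symm hFC) (by omega) (by omega) (by omega), hB2, hC2,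
      hF2]; ring
  -- the fourth cell
  have e1 := L03.dot_eq; rw [d0] at e1
  have e2 := L13.dot_eq; rw [d1] at e2
  have e3 := L23.dot_eq; rw [d2] at e3
  have hl : [A, B, C, D, E, F].Nodup := by
    simp only [List.nodup_cons, List.mem_cons, List.not_mem_nil, not_or, or_false, List.nodup_nil,
      and_true, not_false_eq_true]
    exact ⟨⟨hAB, hAC, Ne.symm hDA, Ne.symm hEA, hAF⟩, ⟨hBC, Ne.symm hDB, hBE, Ne.symm hFB⟩,
      ⟨hCD, Ne.symm hEC, Ne.symm hFC⟩, ⟨hDE, hDF⟩, hEF⟩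
  have hcnt := cell_natAbs_le c3 [A, B, C, D, E, F] hl
  simp only [List.map_cons, List.map_nil, List.sum_cons, List.sum_nil] at hcnt
  have vA := val01 c3 (hpos i3) A
  have vB := val01 c3 (hpos i3) B
  have vC := val01 c3 (hpos i3) C
  have vD := val01 c3 (hpos i3) D
  have vE := val01 c3 (hpos i3) E
  have vF := val01 c3 (hpos i3) F
  have opts := optsQ (T i3 A) (T i3 B) (T i3 C) (T i3 D) (T i3 E) (T i3 F) (by omega) (by omega)
    (by omega) (by omega) (by omega) (by omega) e1.symm e2.symm e3.symm (by omega)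
  rcases opts with ⟨q1, q2, q3, q4, q5, q6⟩ | ⟨q1, q2, q3, q4, q5, q6⟩ |
    ⟨q1, q2, q3, q4, q5, q6⟩ | ⟨q1, q2, q3, q4, q5, q6⟩
  · -- `T i3 = A + F + X`
    obtain ⟨X, hXA, hXF, hX3⟩ := third01 c3 (hpos i3) hAF
    have hX0 : T i0 X = 0 := L03.symm.zero_of_common c0 (hpos i0) (Ne.symm hXA) q1 hA0 hX3
    have hX1 : T i1 X = 0 := L13.symm.zero_of_common c1 (hpos i1) (Ne.symm hXA) q1 hA1 hX3
    have hX2 : T i2 X = 0 := L23.symm.zero_of_common c2 (hpos i2) (Ne.symm hXF) q2 hF2 hX3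
    refine star h (ia := i0) (ib := i1) (ic := i3) (it := i2) (p := A) (a := B) (b := C) (c := F)
      (a' := D) (b' := E) (c' := X) ⟨?_, ?_, ⟨hA0, hB0, hD0⟩, ⟨hA1, hC1, hE1⟩, ⟨q1, q2, hX3⟩,
        ⟨hB2, hC2, hF2⟩⟩
    · apply List.Nodup.of_map (fun n => (T i0 n, T i1 n, T i2 n, T i3 n))
      simp only [List.map_cons, List.map_nil, hA0, hA1, hA2, q1, hB0, hB1, hB2, q3, hC0, hC1, hC2,
        q4, hF0, hF1, hF2, q2, hD0, hD1, hD2, q5, hE0, hE1, hE2, q6, hX0, hX1, hX2, hX3]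
      decide
    · simp only [List.nodup_cons, List.mem_cons, List.not_mem_nil, not_or, or_false,
        List.nodup_nil, and_true, not_false_eq_true]
      exact ⟨⟨i01, i03, i02⟩, ⟨i13, i12⟩, Ne.symm i23⟩
  · -- `T i3 = B + E + X`
    obtain ⟨X, hXB, hXE, hX3⟩ := third01 c3 (hpos i3) hBE
    have hX0 : T i0 X = 0 := L03.symm.zero_of_common c0 (hpos i0) (Ne.symm hXB) q1 hB0 hX3
    have hX1 : T i1 X = 0 := L13.symm.zero_of_common c1 (hpos i1) (Ne.symm hXE) q2 hE1 hX3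
    have hX2 : T i2 X = 0 := L23.symm.zero_of_common c2 (hpos i2) (Ne.symm hXB) q1 hB2 hX3
    refine star h (ia := i0) (ib := i2) (ic := i3) (it := i1) (p := B) (a := A) (b := C) (c := E)
      (a' := D) (b' := F) (c' := X) ⟨?_, ?_, ⟨hB0, hA0, hD0⟩, ⟨hB2, hC2, hF2⟩, ⟨q1, q2, hX3⟩,
        ⟨hA1, hC1, hE1⟩⟩
    · apply List.Nodup.of_map (fun n => (T i0 n, T i1 n, T i2 n, T i3 n))
      simp only [List.map_cons, List.map_nil, hA0, hA1, hA2, q3, hB0, hB1, hB2, q1, hC0, hC1, hC2,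
        q4, hF0, hF1, hF2, q6, hD0, hD1, hD2, q5, hE0, hE1, hE2, q2, hX0, hX1, hX2, hX3]
      decide
    · simp only [List.nodup_cons, List.mem_cons, List.not_mem_nil, not_or, or_false,
        List.nodup_nil, and_true, not_false_eq_true]
      exact ⟨⟨i02, i03, i01⟩, ⟨i23, Ne.symm i12⟩, Ne.symm i13⟩
  · -- `T i3 = C + D + X`
    obtain ⟨X, hXC, hXD, hX3⟩ := third01 c3 (hpos i3) hCD
    have hX0 : T i0 X = 0 := L03.symm.zero_of_common c0 (hpos i0) (Ne.symm hXD) q2 hD0 hX3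
    have hX1 : T i1 X = 0 := L13.symm.zero_of_common c1 (hpos i1) (Ne.symm hXC) q1 hC1 hX3
    have hX2 : T i2 X = 0 := L23.symm.zero_of_common c2 (hpos i2) (Ne.symm hXC) q1 hC2 hX3
    refine star h (ia := i1) (ib := i2) (ic := i3) (it := i0) (p := C) (a := A) (b := B) (c := D)
      (a' := E) (b' := F) (c' := X) ⟨?_, ?_, ⟨hC1, hA1, hE1⟩, ⟨hC2, hB2, hF2⟩, ⟨q1, q2, hX3⟩,
        ⟨hA0, hB0, hD0⟩⟩
    · apply List.Nodup.of_map (fun n => (T i0 n, T i1 n, T i2 n, T i3 n))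
      simp only [List.map_cons, List.map_nil, hA0, hA1, hA2, q3, hB0, hB1, hB2, q4, hC0, hC1, hC2,
        q1, hF0, hF1, hF2, q6, hD0, hD1, hD2, q2, hE0, hE1, hE2, q5, hX0, hX1, hX2, hX3]
      decide
    · simp only [List.nodup_cons, List.mem_cons, List.not_mem_nil, not_or, or_false,
        List.nodup_nil, and_true, not_false_eq_true]
      exact ⟨⟨i12, i13, Ne.symm i01⟩, ⟨i23, Ne.symm i02⟩, Ne.symm i03⟩
  · -- quadrilateral: parity
    have d3 : ∀ X : N → ℤ, dot (T i3) X = X D + X E + X F := fun X => by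
      rw [dot_three c3 hDE hDF hEF (by omega) (by omega) (by omega), q1, q2, q3]; ring
    have f0 := (h.lineTU i0).dot_eq; rw [d0] at f0
    have f1 := h.genTU i1 i0 (Ne.symm i01); rw [d1] at f1
    have f2 := h.genTU i2 i0 (Ne.symm i02); rw [d2] at f2
    have f3 := h.genTU i3 i0 (Ne.symm i03); rw [d3] at f3
    omega


theorem Block.exists_common_of_nonneg {T U : Fin 4 → N → ℤ} (h : Block T U)
    (hpos : ∀ c n, 0 ≤ T c n) : ∃ n, ∀ c, T c n = 1 := by
  obtain ⟨A, hA0, hA1⟩ := (h.lineT 0 1 (by decide)).common01 (h.cellT 0) (h.cellT 1) (hpos 0)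
  by_cases h2 : T 2 A = 0
  · exact (tri h hpos (i0 := 0) (i1 := 1) (i2 := 2) (i3 := 3) (by decide) hA0 hA1 h2).elim
  by_cases h3 : T 3 A = 0
  · exact (tri h hpos (i0 := 0) (i1 := 1) (i2 := 3) (i3 := 2) (by decide) hA0 hA1 h3).elim
  refine ⟨A, fun c => ?_⟩
  have v2 := val01 (h.cellT 2) (hpos 2) A
  have v3 := val01 (h.cellT 3) (hpos 3) A
  fin_cases c
  · exact hA0
  · exact hA1
  · simp only [Fin.reduceFinMk]; omega
  · simp only [Fin.reduceFinMk]; omega

/-- sign change of coordinates -/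
def flip (s : N → ℤ) (f : N → ℤ) : N → ℤ := fun n => s n * f n

theorem dot_flip {s : N → ℤ} (hs : ∀ n, s n * s n = 1) (f g : N → ℤ) :
    dot (flip s f) (flip s g) = dot f g := by
  unfold dot flip
  apply Finset.sum_congr rfl
  intro n _
  have := hs n
  calc s n * f n * (s n * g n) = (s n * s n) * (f n * g n) := by ring
    _ = f n * g n := by rw [this, one_mul]

theorem Line.flip {s : N → ℤ} (hs : ∀ n, s n * s n = 1) {f g : N → ℤ} (h : Line f g) :
    Line (flip s f) (flip s g) := by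
  refine ⟨by rw [dot_flip hs]; exact h.dot_eq, fun n => ?_⟩
  have := h.nonneg n
  have h2 := hs n
  show 0 ≤ s n * f n * (s n * g n)
  calc (0 : ℤ) ≤ f n * g n := this
    _ = (s n * s n) * (f n * g n) := by rw [h2, one_mul]
    _ = s n * f n * (s n * g n) := by ring

theorem Block.flip {T U : Fin 4 → N → ℤ} (h : Block T U) {s : N → ℤ} (hs : ∀ n, s n * s n = 1) :
    Block (fun c => flip s (T c)) (fun c => flip s (U c)) where
  cellT := fun c => by rw [dot_flip hs]; exact h.cellT c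
  cellU := fun c => by rw [dot_flip hs]; exact h.cellU c
  lineT := fun c d hcd => (h.lineT c d hcd).flip hs
  lineU := fun c d hcd => (h.lineU c d hcd).flip hs
  lineTU := fun c => (h.lineTU c).flip hs
  genTU := fun c d hcd => by rw [dot_flip hs]; exact h.genTU c d hcd

open Classical in
/-- in a `2 × 4` block the first row has a common element -/
theorem Block.exists_common {T U : Fin 4 → N → ℤ} (h : Block T U) : ∃ n, ∀ c, T c n ≠ 0 := by
  let s : N → ℤ := fun n => if ∃ c, T c n = -1 then -1 else 1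
  have hs : ∀ n, s n * s n = 1 := by
    intro n
    simp only [s]
    split_ifs <;> norm_num
  have hpos : ∀ c n, 0 ≤ CT.flip s (T c) n := by
    intro c n
    simp only [CT.flip, s]
    have hb := cell_bound (h.cellT c) n
    split_ifs with hex
    · obtain ⟨d, hd⟩ := hex
      by_cases hcd : c = d
      · subst hcd; rw [hd]; norm_num
      · have := (h.lineT c d hcd).nonneg n
        rw [hd] at this
        omega
    · have : T c n ≠ -1 := fun e => hex ⟨c, e⟩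
      omega
  obtain ⟨n, hn⟩ := (h.flip hs).exists_common_of_nonneg hpos
  refine ⟨n, fun c hc => ?_⟩
  have := hn c
  simp only [CT.flip, hc, mul_zero] at this
  omega

end Cfsg.Agent.Lib.Helper24.CT
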