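/- Helper24: abstract integer-vector combinatorics for the cyclic TI theorem (PF 3.5): global decomposition beta i j = x i + y j + z i j of a grid of norm-3 cells. -/
import Mathlib
import Cfsg.Agent.Lib.Helper24.CTComb3

namespace Cfsg.Agent.Lib.Helper24.CT

set_option linter.unusedSectionVars false
set_option linter.unusedVariables false
variable {N : Type*} [Fintype N] [DecidableEq N]
variable {I J : Type*} [Fintype I] [DecidableEq I] [Fintype J] [DecidableEq J]

/-- hypotheses on the whole matrix of cells -/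
structure Grid (β : I → J → N → ℤ) : Prop where
  cell : ∀ i j, dot (β i j) (β i j) = 3
  row : ∀ i j j', j ≠ j' → Line (β i j) (β i j')
  col : ∀ i i' j, i ≠ i' → Line (β i j) (β i' j)
  gen : ∀ i i' j j', i ≠ i' → j ≠ j' → dot (β i j) (β i' j') = 0

theorem Grid.transpose {β : I → J → N → ℤ} (h : Grid β) : Grid (fun j i => β i j) where
  cell := fun j i => h.cell i j
  row := fun j i i' hii => h.col i i' j hii
  col := fun j j' i hjj => h.row i j j' hjj
  gen := fun j j' i i' hjj hii => h.gen i i' j j' hii hjj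

theorem Grid.block {β : I → J → N → ℤ} (h : Grid β) {i i' : I} (hii : i ≠ i') {e : Fin 4 → J}
    (he : Function.Injective e) : Block (fun c => β i (e c)) (fun c => β i' (e c)) where
  cellT := fun c => h.cell i (e c)
  cellU := fun c => h.cell i' (e c)
  lineT := fun c d hcd => h.row i _ _ (fun e' => hcd (he e'))
  lineU := fun c d hcd => h.row i' _ _ (fun e' => hcd (he e'))
  lineTU := fun c => h.col i i' _ hii
  genTU := fun c d hcd => h.gen i i' _ _ hii (fun e' => hcd (he e'))

theorem exists_ne_of_two_le {A : Type*} [Fintype A] (h : 2 ≤ Fintype.card A) (a : A) :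
    ∃ b, b ≠ a := by
  by_contra hcon
  push Not at hcon
  have : Fintype.card A ≤ 1 := Fintype.card_le_one_iff.mpr (fun x y => by rw [hcon x, hcon y])
  omega

theorem exists_ne_of_four_le {A : Type*} [Fintype A] [DecidableEq A] (h : 4 ≤ Fintype.card A)
    (a b c : A) : ∃ d, d ≠ a ∧ d ≠ b ∧ d ≠ c := by
  by_contra hcon
  push Not at hcon
  have : (Finset.univ : Finset A) ⊆ {a, b, c} := by
    intro d _
    simp only [Finset.mem_insert, Finset.mem_singleton]
    by_cases h1 : d = a
    · exact Or.inl h1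
    by_cases h2 : d = b
    · exact Or.inr (Or.inl h2)
    exact Or.inr (Or.inr (hcon d h1 h2))
  have h2 := Finset.card_le_card this
  have h3 : ({a, b, c} : Finset A).card ≤ 3 := Finset.card_le_three
  rw [Finset.card_univ] at h2
  omega

/-- every row has a common element -/
theorem Grid.row_common {β : I → J → N → ℤ} (h : Grid β) (hI : 2 ≤ Fintype.card I)
    (hJ : 4 ≤ Fintype.card J) (i : I) : ∃ x, ∀ j, β i j x ≠ 0 := by
  obtain ⟨i', hi'⟩ := exists_ne_of_two_le hI i
  have hJ0 : 0 < Fintype.card J := by omega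
  obtain ⟨j0⟩ := Fintype.card_pos_iff.mp hJ0
  obtain ⟨j1, hj1⟩ := exists_ne_of_two_le (by omega : 2 ≤ Fintype.card J) j0
  obtain ⟨x, hx1, hx2⟩ := (h.row i j0 j1 (Ne.symm hj1)).exists_common (h.cell i j0) (h.cell i j1)
  refine ⟨x, fun j => ?_⟩
  by_cases hj0 : j = j0
  · rw [hj0]; exact hx2
  by_cases hj1' : j = j1
  · rw [hj1', ← hx1]; exact hx2
  obtain ⟨j', hj'0, hj'1, hj'j⟩ := exists_ne_of_four_le hJ j0 j1 j
  have he : Function.Injective ![j0, j1, j, j'] := by
    intro a b hab
    fin_cases a <;> fin_cases b <;> simp_all [Ne.symm]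
  obtain ⟨n, hn⟩ := (h.block (Ne.symm hi') he).exists_common
  have hn0 : β i j0 n ≠ 0 := hn 0
  have hn1 : β i j1 n ≠ 0 := hn 1
  have hn2 : β i j n ≠ 0 := hn 2
  have : n = x := by
    by_contra hne
    exact (h.row i j0 j1 (Ne.symm hj1)).not_two hne (mul_ne_zero hn0 hn1)
      (mul_ne_zero hx2 (by rw [← hx1]; exact hx2))
  rw [← this]; exact hn2

/-- every column has a common element -/
theorem Grid.col_common {β : I → J → N → ℤ} (h : Grid β)
    (hI : Fintype.card I = 2 ∨ 4 ≤ Fintype.card I) (hJ : 2 ≤ Fintype.card J) (j : J) :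
    ∃ y, ∀ i, β i j y ≠ 0 := by
  rcases hI with hI | hI
  · have hI' : Nat.card I = 2 := by rw [Nat.card_eq_fintype_card]; exact hI
    obtain ⟨i0, i1, hi01, huniv⟩ := Nat.card_eq_two_iff.mp hI'
    obtain ⟨y, hy1, hy2⟩ := (h.col i0 i1 j hi01).exists_common (h.cell i0 j) (h.cell i1 j)
    refine ⟨y, fun i => ?_⟩
    have : i ∈ ({i0, i1} : Set I) := by rw [huniv]; trivial
    rcases this with rfl | rfl
    · exact hy2
    · rw [← hy1]; exact hy2
  · exact h.transpose.row_common hJ hI j


/-- the common element of a row does not occur in the other rows -/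
theorem Grid.row_common_not_mem {β : I → J → N → ℤ} (h : Grid β) (hJ : 4 ≤ Fintype.card J)
    {i i' : I} (hii : i ≠ i') {x : N} (hx : ∀ j, β i j x ≠ 0) (j : J) : β i' j x = 0 := by
  by_contra hne
  obtain ⟨j1, hj1⟩ := exists_ne_of_two_le (by omega : 2 ≤ Fintype.card J) j
  obtain ⟨j2, hj2j, hj2j1, -⟩ := exists_ne_of_four_le hJ j j1 j1
  obtain ⟨j3, hj3j, hj3j1, hj3j2⟩ := exists_ne_of_four_le hJ j j1 j2
  have key : ∀ j'', j'' ≠ j → ∃ m, m ≠ x ∧ β i j'' m ≠ 0 ∧ β i' j m ≠ 0 := by
    intro j'' hj''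
    by_contra hcon
    push Not at hcon
    have hd := h.gen i i' j'' j hii hj''
    have : dot (β i j'') (β i' j) = β i j'' x * β i' j x := by
      unfold dot
      apply Finset.sum_eq_single x
      · intro m _ hm
        by_cases h1 : β i j'' m = 0
        · rw [h1, zero_mul]
        · rw [hcon m hm h1, mul_zero]
      · intro hx'; exact absurd (Finset.mem_univ x) hx'
    rw [this] at hd
    exact (mul_ne_zero (hx j'') hne) hd
  obtain ⟨m1, hm1x, hm1a, hm1b⟩ := key j1 hj1
  obtain ⟨m2, hm2x, hm2a, hm2b⟩ := key j2 hj2j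
  obtain ⟨m3, hm3x, hm3a, hm3b⟩ := key j3 hj3j
  have h12 : m1 ≠ m2 := fun e => (h.row i j1 j2 (Ne.symm hj2j1)).not_two hm1x
    (mul_ne_zero hm1a (e ▸ hm2a)) (mul_ne_zero (hx j1) (hx j2))
  have h13 : m1 ≠ m3 := fun e => (h.row i j1 j3 (Ne.symm hj3j1)).not_two hm1x
    (mul_ne_zero hm1a (e ▸ hm3a)) (mul_ne_zero (hx j1) (hx j3))
  have h23 : m2 ≠ m3 := fun e => (h.row i j2 j3 (Ne.symm hj3j2)).not_two hm2x
    (mul_ne_zero hm2a (e ▸ hm3a)) (mul_ne_zero (hx j2) (hx j3))
  have hl : [x, m1, m2, m3].Nodup := by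
    simp only [List.nodup_cons, List.mem_cons, List.not_mem_nil, not_or, or_false, List.nodup_nil,
      and_true, not_false_eq_true]
    exact ⟨⟨Ne.symm hm1x, Ne.symm hm2x, Ne.symm hm3x⟩, ⟨h12, h13⟩, h23⟩
  have := cell_natAbs_le (h.cell i' j) [x, m1, m2, m3] hl
  simp only [List.map_cons, List.map_nil, List.sum_cons, List.sum_nil] at this
  omega

/-- the decomposition of all cells -/
theorem Grid.decomp {β : I → J → N → ℤ} (h : Grid β)
    (hI : Fintype.card I = 2 ∨ 4 ≤ Fintype.card I) (hJ : 4 ≤ Fintype.card J) :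
    ∃ (x : I → N) (y : J → N) (z : I → J → N) (ex : I → ℤ) (ey : J → ℤ) (ez : I → J → ℤ),
      Function.Injective x ∧ Function.Injective y ∧
      (∀ i j i' j', z i j = z i' j' → i = i' ∧ j = j') ∧
      (∀ i j, x i ≠ y j) ∧ (∀ i i' j', x i ≠ z i' j') ∧ (∀ j i' j', y j ≠ z i' j') ∧
      (∀ i, ex i = 1 ∨ ex i = -1) ∧ (∀ j, ey j = 1 ∨ ey j = -1) ∧
      (∀ i j, ez i j = 1 ∨ ez i j = -1) ∧
      ∀ i j n, β i j n = (if n = x i then ex i else 0) + (if n = y j then ey j else 0) +
        (if n = z i j then ez i j else 0) := by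
  have hI2 : 2 ≤ Fintype.card I := by omega
  have hJ2 : 2 ≤ Fintype.card J := by omega
  choose x hx using h.row_common hI2 hJ
  choose y hy using h.col_common hI hJ2
  have hxo : ∀ i i' j, i ≠ i' → β i' j (x i) = 0 := fun i i' j hii =>
    h.row_common_not_mem hJ hii (hx i) j
  have hxy : ∀ i j, x i ≠ y j := by
    intro i j e
    obtain ⟨i', hi'⟩ := exists_ne_of_two_le hI2 i
    have := hxo i i' j (Ne.symm hi')
    rw [e] at this
    exact hy j i' this
  have hyo : ∀ j j' i, j ≠ j' → β i j' (y j) = 0 := by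
    intro j j' i hjj
    by_contra hne
    exact (h.row i j j' hjj).not_two (hxy i j) (mul_ne_zero (hx i j) (hx i j'))
      (mul_ne_zero (hy j i) hne)
  choose z hzx hzy hz using fun i j => cell_third (h.cell i j) (hxy i j)
  have hsupp : ∀ i j n, n ≠ x i → n ≠ y j → n ≠ z i j → β i j n = 0 := fun i j n h1 h2 h3 =>
    eq_zero_of_three (h.cell i j) (hxy i j) (Ne.symm (hzx i j)) (Ne.symm (hzy i j)) (hx i j)
      (hy j i) (hz i j) h1 h2 h3
  have hzo : ∀ i j i' j', β i' j' (z i j) ≠ 0 → i' = i ∧ j' = j := by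
    intro i j i' j' hne
    by_cases hi : i' = i
    · refine ⟨hi, ?_⟩
      subst hi
      by_contra hj
      exact (h.row i' j j' (Ne.symm hj)).not_two (Ne.symm (hzx i' j))
        (mul_ne_zero (hx i' j) (hx i' j')) (mul_ne_zero (hz i' j) hne)
    · by_cases hj : j' = j
      · subst hj
        exact ((h.col i i' j' (Ne.symm hi)).not_two (Ne.symm (hzy i j'))
          (mul_ne_zero (hy j' i) (hy j' i')) (mul_ne_zero (hz i j') hne)).elim
      · have hd := h.gen i i' j j' (Ne.symm hi) (Ne.symm hj)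
        rw [dot_three (h.cell i j) (hxy i j) (Ne.symm (hzx i j)) (Ne.symm (hzy i j)) (hx i j)
          (hy j i) (hz i j), hxo i i' j' (Ne.symm hi), hyo j j' i' (Ne.symm hj), mul_zero, mul_zero,
          zero_add, zero_add] at hd
        exact ((mul_ne_zero (hz i j) hne) hd).elim
  have hxinj : Function.Injective x := by
    intro i i' e
    by_contra hii
    obtain ⟨j⟩ : Nonempty J := Fintype.card_pos_iff.mp (by omega)
    have := hxo i i' j hii
    rw [e] at this
    exact hx i' j this
  have hyinj : Function.Injective y := by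
    intro j j' e
    by_contra hjj
    obtain ⟨i⟩ : Nonempty I := Fintype.card_pos_iff.mp (by omega)
    have := hyo j j' i hjj
    rw [e] at this
    exact hy j' i this
  have hzinj : ∀ i j i' j', z i j = z i' j' → i = i' ∧ j = j' := by
    intro i j i' j' e
    have := hzo i' j' i j (by rw [← e]; exact hz i j)
    exact this
  have hxz : ∀ i i' j', x i ≠ z i' j' := by
    intro i i' j' e
    obtain ⟨j'', hj''⟩ := exists_ne_of_two_le hJ2 j'
    have := hzo i' j' i j'' (by rw [← e]; exact hx i j'')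
    exact hj'' this.2
  have hyz : ∀ j i' j', y j ≠ z i' j' := by
    intro j i' j' e
    obtain ⟨i'', hi''⟩ := exists_ne_of_two_le hI2 i'
    have := hzo i' j' i'' j (by rw [← e]; exact hy j i'')
    exact hi'' this.1
  obtain ⟨j0⟩ : Nonempty J := Fintype.card_pos_iff.mp (by omega)
  obtain ⟨i0⟩ : Nonempty I := Fintype.card_pos_iff.mp (by omega)
  have pm : ∀ i j n, β i j n ≠ 0 → β i j n = 1 ∨ β i j n = -1 := by
    intro i j n hne
    have := cell_bound (h.cell i j) n
    omega
  have hxs : ∀ i j, β i j (x i) = β i j0 (x i) := by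
    intro i j
    by_cases hj : j = j0
    · rw [hj]
    · have h1 := (h.row i j j0 hj).nonneg (x i)
      rcases pm i j (x i) (hx i j) with e1 | e1 <;> rcases pm i j0 (x i) (hx i j0) with e2 | e2 <;>
        rw [e1, e2] at h1 ⊢ <;> omega
  have hys : ∀ i j, β i j (y j) = β i0 j (y j) := by
    intro i j
    by_cases hi : i = i0
    · rw [hi]
    · have h1 := (h.col i i0 j hi).nonneg (y j)
      rcases pm i j (y j) (hy j i) with e1 | e1 <;> rcases pm i0 j (y j) (hy j i0) with e2 | e2 <;>
        rw [e1, e2] at h1 ⊢ <;> omega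
  refine ⟨x, y, z, fun i => β i j0 (x i), fun j => β i0 j (y j), fun i j => β i j (z i j), hxinj,
    hyinj, hzinj, hxy, hxz, hyz, fun i => pm i j0 _ (hx i j0), fun j => pm i0 j _ (hy j i0),
    fun i j => pm i j _ (hz i j), ?_⟩
  intro i j n
  by_cases h1 : n = x i
  · subst h1
    rw [if_pos rfl, if_neg (hxy i j), if_neg (hxz i i j), hxs i j]; ring
  · by_cases h2 : n = y j
    · subst h2
      rw [if_neg h1, if_pos rfl, if_neg (hyz j i j), hys i j]; ring
    · by_cases h3 : n = z i j
      · subst h3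
        rw [if_neg h1, if_neg h2, if_pos rfl]; ring
      · rw [if_neg h1, if_neg h2, if_neg h3, hsupp i j n h1 h2 h3]; ring

end Cfsg.Agent.Lib.Helper24.CT
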