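/- Helper24: abstract integer-vector combinatorics for the cyclic TI theorem (PF 3.5): sign condition from equal degrees; symmetric decomposition. -/
import Mathlib
import Cfsg.Agent.Lib.Helper24.CTComb4

namespace Cfsg.Agent.Lib.Helper24.CT

set_option linter.unusedSectionVars false
set_option linter.unusedVariables false
variable {N : Type*} [Fintype N] [DecidableEq N]

/-- two cells of equal degree with inner product one are on a common line (no sign clash) -/
theorem line_of_deg {f g : N → ℤ} (hf : dot f f = 3) (hg : dot g g = 3) (hfg : dot f g = 1)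
    (d : N → ℤ) (hd : ∀ n, 0 < d n) (hdeg : ∑ n, f n * d n = ∑ n, g n * d n) : Line f g := by
  refine ⟨hfg, fun n0 => ?_⟩
  by_contra hneg
  push Not at hneg
  have bf := cell_bound hf n0
  have bg := cell_bound hg n0
  have hsq : (f n0 - g n0) * (f n0 - g n0) = 4 := by
    obtain ⟨f1, f2⟩ := bf
    obtain ⟨g1, g2⟩ := bg
    interval_cases hfn : f n0 <;> interval_cases hgn : g n0 <;> simp_all
  have hsum : ∑ n, (f n - g n) * (f n - g n) = 4 := by
    have : ∑ n, (f n - g n) * (f n - g n) = dot f f - 2 * dot f g + dot g g := by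
      unfold dot
      rw [Finset.mul_sum, ← Finset.sum_sub_distrib, ← Finset.sum_add_distrib]
      apply Finset.sum_congr rfl
      intro n _
      ring
    rw [this, hf, hg, hfg]; norm_num
  have hzero : ∀ n, n ≠ n0 → f n - g n = 0 := by
    intro n hn
    by_contra hne
    have h1 : ∑ m ∈ ({n0, n} : Finset N), (f m - g m) * (f m - g m) ≤
        ∑ m, (f m - g m) * (f m - g m) :=
      Finset.sum_le_sum_of_subset_of_nonneg (Finset.subset_univ _)
        (fun i _ _ => mul_self_nonneg _)
    rw [Finset.sum_pair (Ne.symm hn), hsum, hsq] at h1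
    have : 0 < (f n - g n) * (f n - g n) := mul_self_pos.mpr hne
    omega
  have hdsum : ∑ n, (f n - g n) * d n = (f n0 - g n0) * d n0 := by
    apply Finset.sum_eq_single n0
    · intro n _ hn
      rw [hzero n hn, zero_mul]
    · intro h; exact absurd (Finset.mem_univ n0) h
  have hdsum' : ∑ n, (f n - g n) * d n = 0 := by
    simp only [sub_mul, Finset.sum_sub_distrib]
    rw [hdeg, sub_self]
  rw [hdsum] at hdsum'
  have := hd n0
  rcases mul_eq_zero.mp hdsum' with h | h
  · rw [h] at hsq; norm_num at hsq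
  · omega


variable {I J : Type*} [Fintype I] [DecidableEq I] [Fintype J] [DecidableEq J]

/-- the decomposition of all cells, symmetric hypotheses -/
theorem Grid.decomp' {β : I → J → N → ℤ} (h : Grid β)
    (hI : Fintype.card I = 2 ∨ 4 ≤ Fintype.card I) (hJ : Fintype.card J = 2 ∨ 4 ≤ Fintype.card J)
    (h4 : 4 ≤ Fintype.card I ∨ 4 ≤ Fintype.card J) :
    ∃ (x : I → N) (y : J → N) (z : I → J → N) (ex : I → ℤ) (ey : J → ℤ) (ez : I → J → ℤ),
      Function.Injective x ∧ Function.Injective y ∧
      (∀ i j i' j', z i j = z i' j' → i = i' ∧ j = j') ∧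
      (∀ i j, x i ≠ y j) ∧ (∀ i i' j', x i ≠ z i' j') ∧ (∀ j i' j', y j ≠ z i' j') ∧
      (∀ i, ex i = 1 ∨ ex i = -1) ∧ (∀ j, ey j = 1 ∨ ey j = -1) ∧
      (∀ i j, ez i j = 1 ∨ ez i j = -1) ∧
      ∀ i j n, β i j n = (if n = x i then ex i else 0) + (if n = y j then ey j else 0) +
        (if n = z i j then ez i j else 0) := by
  by_cases hJ4 : 4 ≤ Fintype.card J
  · exact h.decomp hI hJ4
  · have hI4 : 4 ≤ Fintype.card I := by omega
    obtain ⟨x, y, z, ex, ey, ez, h1, h2, h3, h4', h5, h6, h7, h8, h9, h10⟩ :=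
      h.transpose.decomp hJ hI4
    refine ⟨y, x, fun i j => z j i, ey, ex, fun i j => ez j i, h2, h1, ?_, fun i j => (h4' j i).symm,
      fun i i' j' => h6 i j' i', fun j i' j' => h5 j j' i', h8, h7, fun i j => h9 j i, ?_⟩
    · intro i j i' j' e
      have := h3 j i j' i' e
      exact ⟨this.2, this.1⟩
    · intro i j n
      rw [h10 j i n]; ring

end Cfsg.Agent.Lib.Helper24.CT
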