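/- Helper24: integer coefficient vectors of generalized characters (for the cyclic TI theorem). -/
import Mathlib
import Cfsg.Agent.Lib.Helper24.CTComb5
import Cfsg.Agent.Lib.Helper24.IrrFacts
import Cfsg.Agent.Lib.Helper10.GenChar
import Cfsg.Agent.Lib.Helper10.Coherence
import Cfsg.Agent.Lib.Lead.CharFS
import Cfsg.Agent.Lib.Lead.CharBurnside

set_option autoImplicit false

namespace Cfsg.Agent.Lib.Helper24.CTChar

open Cfsg Cfsg.Agent.CharLib Cfsg.Agent.Lib.Helper10 Cfsg.Agent.Lib.Helper24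
open scoped ComplexConjugate

set_option linter.unusedSectionVars false
set_option linter.unusedVariables false
set_option linter.style.haveILetI false

variable {G : Type*} [Group G] [Fintype G]

/-- integer coefficient of a (generalized) character at an irreducible character -/
noncomputable def coefI (θ : G → ℂ) (ξ : IrrCharacter G) : ℤ := ⌊(classInner θ (ξ : G → ℂ)).re⌋

theorem coefI_cast {θ : G → ℂ} (hθ : IsGeneralizedCharacter G θ) (ξ : IrrCharacter G) :
    ((coefI θ ξ : ℤ) : ℂ) = classInner θ (ξ : G → ℂ) := by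
  obtain ⟨a, ha⟩ := genChar_classInner_int hθ (IsIrrCharacter.isCharacter ξ.2)
  unfold coefI
  rw [ha]
  simp

theorem genChar_eq_sum [Fintype (IrrCharacter G)] {θ : G → ℂ} (hθ : IsGeneralizedCharacter G θ) :
    θ = ∑ ξ : IrrCharacter G, ((coefI θ ξ : ℤ) : ℂ) • (ξ : G → ℂ) := by
  obtain ⟨a, ha, hexp, -⟩ := genChar_coeff hθ
  have : ∀ ξ, ((coefI θ ξ : ℤ) : ℂ) = ((a ξ : ℤ) : ℂ) := fun ξ => by rw [coefI_cast hθ, ha]
  simp_rw [this]
  exact hexp

theorem classInner_eq_dot [Fintype (IrrCharacter G)] [DecidableEq (IrrCharacter G)] {θ θ' : G → ℂ}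
    (hθ : IsGeneralizedCharacter G θ) (hθ' : IsGeneralizedCharacter G θ') :
    classInner θ θ' = ((CT.dot (coefI θ) (coefI θ') : ℤ) : ℂ) := by
  conv_lhs => rw [genChar_eq_sum hθ]
  rw [Cfsg.Agent.CharLib.classInner_sum_left]
  unfold CT.dot
  push_cast
  apply Finset.sum_congr rfl
  intro ξ _
  rw [Cfsg.Agent.CharLib.classInner_smul_left, ← Cfsg.Agent.CharLib.classInner_conj_symm,
    ← coefI_cast hθ' ξ]
  simp

theorem apply_one_eq_sum [Fintype (IrrCharacter G)] {θ : G → ℂ} (hθ : IsGeneralizedCharacter G θ) :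
    θ 1 = ((∑ ξ : IrrCharacter G, coefI θ ξ * (charDegree (ξ : G → ℂ) : ℤ) : ℤ) : ℂ) := by
  conv_lhs => rw [genChar_eq_sum hθ]
  rw [Finset.sum_apply]
  push_cast
  apply Finset.sum_congr rfl
  intro ξ _
  rw [Pi.smul_apply, smul_eq_mul, Cfsg.Agent.Lib.Helper24.irr_apply_one]

end Cfsg.Agent.Lib.Helper24.CTChar
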