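/- Helper24: inner products of the induced functions Ind((1-phi)(1-psi)) - 1 for the cyclic TI theorem (PF 3.2). -/
import Mathlib
import Cfsg.Prelude.Def_OddOrderChar
import Cfsg.Prelude.Def_OddOrderLocal
import Cfsg.Agent.Lib.Helper24.CTChar1
import Cfsg.Agent.Lib.Helper10.CyclicTI
import Cfsg.Agent.Lib.Helper10.CyclicTIFew
import Cfsg.Agent.Lib.Helper10.TIInd
import Cfsg.Agent.Lib.Helper10.LinChar
import Cfsg.Agent.Lib.Helper10.PF43b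

set_option autoImplicit false

namespace Cfsg.Agent.Lib.Helper24.CTChar

open Cfsg Cfsg.Agent.CharLib Cfsg.Agent.Lib.Helper10 Cfsg.Agent.Lib.Helper24
open scoped ComplexConjugate

set_option linter.unusedSectionVars false
set_option linter.unusedVariables false
set_option linter.style.haveILetI false

section lin
variable {W : Type*} [Group W] [Fintype W]

theorem classInner_fnOf (ω ω' : W →* ℂˣ) [Decidable (ω = ω')] :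
    classInner (fnOf ω) (fnOf ω') = if ω = ω' then 1 else 0 := by
  unfold classInner
  simp only [fnOf_apply]
  rw [sum_linChar_mul_conj]
  have hW0 : (Nat.card W : ℂ) ≠ 0 := Nat.cast_ne_zero.mpr Nat.card_pos.ne'
  split_ifs
  · field_simp
  · simp

end lin

variable {G : Type*} [Group G] [Fintype G] (W₁ W₂ : Subgroup G)

/-- `(1 - φ)(1 - ψ)` as a function on `W` -/
def alphaF (φ ψ : ↥(W₁ ⊔ W₂) →* ℂˣ) : ↥(W₁ ⊔ W₂) → ℂ :=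
  fun w => 1 - ((φ w : ℂˣ) : ℂ) - ((ψ w : ℂˣ) : ℂ) + ((φ w : ℂˣ) : ℂ) * ((ψ w : ℂˣ) : ℂ)

theorem alphaF_eq (φ ψ : ↥(W₁ ⊔ W₂) →* ℂˣ) :
    alphaF W₁ W₂ φ ψ = (fnOf (1 : ↥(W₁ ⊔ W₂) →* ℂˣ) + fnOf (φ * ψ)) - (fnOf φ + fnOf ψ) := by
  funext w
  simp only [alphaF, Pi.sub_apply, Pi.add_apply, fnOf_apply, MonoidHom.one_apply, Units.val_one,
    MonoidHom.mul_apply, Units.val_mul]
  ring

theorem alphaF_vanish {φ ψ : ↥(W₁ ⊔ W₂) →* ℂˣ}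
    (hφ : ∀ w : ↥(W₁ ⊔ W₂), (w : G) ∈ W₂ → φ w = 1)
    (hψ : ∀ w : ↥(W₁ ⊔ W₂), (w : G) ∈ W₁ → ψ w = 1) (w : ↥(W₁ ⊔ W₂))
    (hw : (w : G) ∈ W₁ ∨ (w : G) ∈ W₂) : alphaF W₁ W₂ φ ψ w = 0 := by
  unfold alphaF
  rcases hw with hw | hw
  · rw [hψ w hw]; simp
  · rw [hφ w hw]; simp

theorem alphaF_one (φ ψ : ↥(W₁ ⊔ W₂) →* ℂˣ) : alphaF W₁ W₂ φ ψ 1 = 0 := by
  simp [alphaF]

theorem isGenChar_alphaF (φ ψ : ↥(W₁ ⊔ W₂) →* ℂˣ) :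
    IsGeneralizedCharacter ↥(W₁ ⊔ W₂) (alphaF W₁ W₂ φ ψ) :=
  ⟨_, _, IsCharacter.add (IsIrrCharacter.isCharacter (isIrr_fnOf 1)) (IsIrrCharacter.isCharacter (isIrr_fnOf (φ * ψ))),
    IsCharacter.add (IsIrrCharacter.isCharacter (isIrr_fnOf φ)) (IsIrrCharacter.isCharacter (isIrr_fnOf ψ)),
    alphaF_eq W₁ W₂ φ ψ⟩

theorem isGenChar_ind (φ ψ : ↥(W₁ ⊔ W₂) →* ℂˣ) :
    IsGeneralizedCharacter G (indFun (W₁ ⊔ W₂) (alphaF W₁ W₂ φ ψ)) := by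
  rw [alphaF_eq, indFun_sub]
  exact ⟨_, _, IsCharacter.indFun _ (IsCharacter.add (IsIrrCharacter.isCharacter (isIrr_fnOf 1))
    (IsIrrCharacter.isCharacter (isIrr_fnOf (φ * ψ)))),
    IsCharacter.indFun _ (IsCharacter.add (IsIrrCharacter.isCharacter (isIrr_fnOf φ))
    (IsIrrCharacter.isCharacter (isIrr_fnOf ψ))), rfl⟩

theorem ind_alphaF_one (φ ψ : ↥(W₁ ⊔ W₂) →* ℂˣ) :
    indFun (W₁ ⊔ W₂) (alphaF W₁ W₂ φ ψ) 1 = 0 := by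
  rw [Cfsg.Agent.Lib.Helper10.indFun_apply_one, alphaF_one]; simp

/-- the TI isometry -/
theorem classInner_ind_ind (hW : IsSelfNormalizingCyclic W₁ W₂) (α α' : ↥(W₁ ⊔ W₂) → ℂ)
    (hα : ∀ w : ↥(W₁ ⊔ W₂), ((w : G) ∈ W₁ ∨ (w : G) ∈ W₂) → α w = 0)
    (hα' : ∀ w : ↥(W₁ ⊔ W₂), ((w : G) ∈ W₁ ∨ (w : G) ∈ W₂) → α' w = 0)
    [Fintype ↥(W₁ ⊔ W₂)] :
    classInner (indFun (W₁ ⊔ W₂) α) (indFun (W₁ ⊔ W₂) α') = classInner α α' := by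
  rw [frobenius_reciprocity _ _ (indFun_isClassFunction _ _)]
  unfold classInner
  congr 1
  apply Finset.sum_congr rfl
  intro w _
  by_cases hw : (w : G) ∈ W₁ ∨ (w : G) ∈ W₂
  · rw [hα w hw, zero_mul, zero_mul]
  · push Not at hw
    simp only []
    rw [indFun_apply_of_cyclicTI W₁ W₂ hW α' hα' w hw.1 hw.2]


theorem mul_inj_of_triv {a a' b b' : ↥(W₁ ⊔ W₂) →* ℂˣ}
    (ha : ∀ w : ↥(W₁ ⊔ W₂), (w : G) ∈ W₂ → a w = 1)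
    (ha' : ∀ w : ↥(W₁ ⊔ W₂), (w : G) ∈ W₂ → a' w = 1)
    (hb : ∀ w : ↥(W₁ ⊔ W₂), (w : G) ∈ W₁ → b w = 1)
    (hb' : ∀ w : ↥(W₁ ⊔ W₂), (w : G) ∈ W₁ → b' w = 1)
    (h : a * b = a' * b') : a = a' ∧ b = b' := by
  have hpt : ∀ w, a w * b w = a' w * b' w := fun w => by
    have := DFunLike.congr_fun h w
    simpa using this
  have h2 : a * a'⁻¹ = 1 := by
    apply linChar_eq_one_of_sup W₁ W₂
    · intro w hw
      have := hpt w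
      rw [hb w hw, hb' w hw, mul_one, mul_one] at this
      rw [MonoidHom.mul_apply, MonoidHom.inv_apply, this, mul_inv_cancel]
    · intro w hw
      rw [MonoidHom.mul_apply, MonoidHom.inv_apply, ha w hw, ha' w hw]; simp
  have h3 : a = a' := by
    ext w
    have := DFunLike.congr_fun h2 w
    rw [MonoidHom.mul_apply, MonoidHom.inv_apply, MonoidHom.one_apply, mul_inv_eq_one] at this
    rw [this]
  refine ⟨h3, ?_⟩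
  ext w
  have := hpt w
  rw [h3] at this
  rw [mul_left_cancel this]

open Classical in
theorem classInner_alphaF [Fintype ↥(W₁ ⊔ W₂)] {φ φ' ψ ψ' : ↥(W₁ ⊔ W₂) →* ℂˣ}
    (hφ1 : φ ≠ 1) (hφ'1 : φ' ≠ 1) (hψ1 : ψ ≠ 1) (hψ'1 : ψ' ≠ 1)
    (hφ : ∀ w : ↥(W₁ ⊔ W₂), (w : G) ∈ W₂ → φ w = 1)
    (hφ' : ∀ w : ↥(W₁ ⊔ W₂), (w : G) ∈ W₂ → φ' w = 1)
    (hψ : ∀ w : ↥(W₁ ⊔ W₂), (w : G) ∈ W₁ → ψ w = 1)
    (hψ' : ∀ w : ↥(W₁ ⊔ W₂), (w : G) ∈ W₁ → ψ' w = 1) :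
    classInner (alphaF W₁ W₂ φ ψ) (alphaF W₁ W₂ φ' ψ') =
      (1 + if φ = φ' then 1 else 0) * (1 + if ψ = ψ' then 1 else 0) := by
  have t1 : ∀ w : ↥(W₁ ⊔ W₂), (w : G) ∈ W₂ → (1 : ↥(W₁ ⊔ W₂) →* ℂˣ) w = 1 := fun _ _ => rfl
  have t2 : ∀ w : ↥(W₁ ⊔ W₂), (w : G) ∈ W₁ → (1 : ↥(W₁ ⊔ W₂) →* ℂˣ) w = 1 := fun _ _ => rfl
  -- all the needed (in)equalities, via injectivity of the product map
  have key : ∀ {a a' b b' : ↥(W₁ ⊔ W₂) →* ℂˣ},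
      (∀ w : ↥(W₁ ⊔ W₂), (w : G) ∈ W₂ → a w = 1) → (∀ w : ↥(W₁ ⊔ W₂), (w : G) ∈ W₂ → a' w = 1) →
      (∀ w : ↥(W₁ ⊔ W₂), (w : G) ∈ W₁ → b w = 1) → (∀ w : ↥(W₁ ⊔ W₂), (w : G) ∈ W₁ → b' w = 1) →
      classInner (fnOf (a * b)) (fnOf (a' * b')) =
        (if a = a' then 1 else 0) * (if b = b' then 1 else 0) := by
    intro a a' b b' ha ha' hb hb'
    rw [classInner_fnOf]
    by_cases h : a * b = a' * b'
    · obtain ⟨e1, e2⟩ := mul_inj_of_triv W₁ W₂ ha ha' hb hb' h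
      rw [if_pos h, if_pos e1, if_pos e2, one_mul]
    · rw [if_neg h]
      by_cases e1 : a = a'
      · by_cases e2 : b = b'
        · exact absurd (by rw [e1, e2]) h
        · rw [if_neg e2, mul_zero]
      · rw [if_neg e1, zero_mul]
  have e1 : fnOf (1 : ↥(W₁ ⊔ W₂) →* ℂˣ) = fnOf ((1 : ↥(W₁ ⊔ W₂) →* ℂˣ) * 1) := by
    congr 1; ext w; simp
  have eφ : fnOf φ = fnOf (φ * 1) := by congr 1; ext w; simp
  have eψ : fnOf ψ = fnOf (1 * ψ) := by congr 1; ext w; simp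
  have eφ' : fnOf φ' = fnOf (φ' * 1) := by congr 1; ext w; simp
  have eψ' : fnOf ψ' = fnOf (1 * ψ') := by congr 1; ext w; simp
  rw [alphaF_eq, alphaF_eq]
  simp only [Cfsg.Agent.CharLib.classInner_sub_left, Cfsg.Agent.CharLib.classInner_add_left,
    Cfsg.Agent.Lib.Helper10.classInner_sub_right, Cfsg.Agent.CharLib.classInner_add_right]
  rw [e1, eφ, eψ, eφ', eψ']
  simp only [key t1 t1 t2 t2, key t1 hφ' t2 hψ', key t1 hφ' t2 t2, key t1 t1 t2 hψ',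
    key hφ t1 hψ t2, key hφ hφ' hψ hψ', key hφ hφ' hψ t2, key hφ t1 hψ hψ',
    key hφ t1 t2 t2, key hφ hφ' t2 hψ', key hφ hφ' t2 t2, key hφ t1 t2 hψ',
    key t1 t1 hψ t2, key t1 hφ' hψ hψ', key t1 hφ' hψ t2, key t1 t1 hψ hψ']
  simp only [if_neg hφ1, if_neg hψ1, if_neg (Ne.symm hφ'1), if_neg (Ne.symm hψ'1), if_true]
  split_ifs <;> ring


/-- `β = Ind α - 1` -/
noncomputable def bet (φ ψ : ↥(W₁ ⊔ W₂) →* ℂˣ) : G → ℂ :=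
  indFun (W₁ ⊔ W₂) (alphaF W₁ W₂ φ ψ) - 1

theorem isGenChar_bet (φ ψ : ↥(W₁ ⊔ W₂) →* ℂˣ) : IsGeneralizedCharacter G (bet W₁ W₂ φ ψ) :=
  genChar_sub (isGenChar_ind W₁ W₂ φ ψ) (isGeneralizedCharacter_of_isCharacter isCharacter_one)

theorem bet_one (φ ψ : ↥(W₁ ⊔ W₂) →* ℂˣ) : bet W₁ W₂ φ ψ 1 = -1 := by
  unfold bet
  rw [Pi.sub_apply, ind_alphaF_one]
  simp

theorem isClassFunction_one : IsClassFunction G (1 : G → ℂ) := fun _ _ => rfl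

open Classical in
theorem classInner_ind_one {φ ψ : ↥(W₁ ⊔ W₂) →* ℂˣ} (hφ1 : φ ≠ 1) (hψ1 : ψ ≠ 1)
    (hφ : ∀ w : ↥(W₁ ⊔ W₂), (w : G) ∈ W₂ → φ w = 1)
    (hψ : ∀ w : ↥(W₁ ⊔ W₂), (w : G) ∈ W₁ → ψ w = 1) :
    classInner (indFun (W₁ ⊔ W₂) (alphaF W₁ W₂ φ ψ)) (1 : G → ℂ) = 1 := by
  letI : Fintype ↥(W₁ ⊔ W₂) := Fintype.ofFinite _
  rw [frobenius_reciprocity _ _ isClassFunction_one]
  have h1 : (fun h : ↥(W₁ ⊔ W₂) => (1 : G → ℂ) h) = fnOf (1 : ↥(W₁ ⊔ W₂) →* ℂˣ) := by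
    funext w; simp [fnOf_apply]
  rw [h1, alphaF_eq]
  simp only [Cfsg.Agent.CharLib.classInner_sub_left, Cfsg.Agent.CharLib.classInner_add_left,
    classInner_fnOf]
  have hφψ : φ * ψ ≠ 1 := by
    intro h
    have h' : φ * ψ = 1 * 1 := by rw [h]; ext w; simp
    exact hφ1 (mul_inj_of_triv W₁ W₂ hφ (fun _ _ => rfl) hψ (fun _ _ => rfl) h').1
  rw [if_pos trivial, if_neg hφψ, if_neg hφ1, if_neg hψ1]
  ring

theorem classInner_one_one : classInner (1 : G → ℂ) (1 : G → ℂ) = 1 := by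
  classical
  rw [Cfsg.Agent.CharLib.classInner_irr isIrrCharacter_one isIrrCharacter_one, if_pos rfl]

open Classical in
theorem classInner_bet (hW : IsSelfNormalizingCyclic W₁ W₂) {φ φ' ψ ψ' : ↥(W₁ ⊔ W₂) →* ℂˣ}
    (hφ1 : φ ≠ 1) (hφ'1 : φ' ≠ 1) (hψ1 : ψ ≠ 1) (hψ'1 : ψ' ≠ 1)
    (hφ : ∀ w : ↥(W₁ ⊔ W₂), (w : G) ∈ W₂ → φ w = 1)
    (hφ' : ∀ w : ↥(W₁ ⊔ W₂), (w : G) ∈ W₂ → φ' w = 1)
    (hψ : ∀ w : ↥(W₁ ⊔ W₂), (w : G) ∈ W₁ → ψ w = 1)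
    (hψ' : ∀ w : ↥(W₁ ⊔ W₂), (w : G) ∈ W₁ → ψ' w = 1) :
    classInner (bet W₁ W₂ φ ψ) (bet W₁ W₂ φ' ψ') =
      (1 + if φ = φ' then 1 else 0) * (1 + if ψ = ψ' then 1 else 0) - 1 := by
  letI : Fintype ↥(W₁ ⊔ W₂) := Fintype.ofFinite _
  unfold bet
  rw [Cfsg.Agent.CharLib.classInner_sub_left, Cfsg.Agent.Lib.Helper10.classInner_sub_right,
    Cfsg.Agent.Lib.Helper10.classInner_sub_right,
    classInner_ind_ind W₁ W₂ hW _ _ (alphaF_vanish W₁ W₂ hφ hψ) (alphaF_vanish W₁ W₂ hφ' hψ'),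
    classInner_alphaF W₁ W₂ hφ1 hφ'1 hψ1 hψ'1 hφ hφ' hψ hψ',
    classInner_ind_one W₁ W₂ hφ1 hψ1 hφ hψ, classInner_one_one,
    ← Cfsg.Agent.CharLib.classInner_conj_symm, classInner_ind_one W₁ W₂ hφ'1 hψ'1 hφ' hψ']
  simp only [map_one]
  split_ifs <;> ring

end Cfsg.Agent.Lib.Helper24.CTChar
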