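/- Helper24: index types, cardinalities and the character-level decomposition Ind((1-phi)(1-psi)) = 1 + x + y + z for the cyclic TI theorem (PF 3.2). -/
import Mathlib
import Cfsg.Agent.Lib.Helper24.CTChar2
import Cfsg.Agent.Lib.Helper10.CyclicTIGalois2

set_option autoImplicit false

namespace Cfsg.Agent.Lib.Helper24.CTChar

open Cfsg Cfsg.Agent.CharLib Cfsg.Agent.Lib.Helper10 Cfsg.Agent.Lib.Helper24
open scoped ComplexConjugate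

set_option linter.unusedSectionVars false
set_option linter.unusedVariables false
set_option linter.style.haveILetI false

theorem card_ne_one_add_one {M : Type*} [Finite M] [One M] (P : M → Prop) (h1 : P 1) :
    Nat.card {φ : M // φ ≠ 1 ∧ P φ} + 1 = Nat.card {φ : M // P φ} := by
  classical
  letI : Fintype M := Fintype.ofFinite M
  rw [Nat.card_eq_fintype_card, Nat.card_eq_fintype_card, Fintype.card_subtype,
    Fintype.card_subtype]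
  have : Finset.univ.filter (fun φ : M => φ ≠ 1 ∧ P φ) = (Finset.univ.filter P).erase 1 := by
    ext φ; simp [Finset.mem_erase]
  rw [this, Finset.card_erase_of_mem (by simp [h1])]
  have hpos : 0 < (Finset.univ.filter P).card := Finset.card_pos.mpr ⟨1, by simp [h1]⟩
  exact Nat.sub_add_cancel hpos

variable {G : Type*} [Group G] [Fintype G] (W₁ W₂ : Subgroup G)

/-- nontrivial linear characters of `W` trivial on `W₂` -/
abbrev IdxA : Type _ :=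
  {φ : ↥(W₁ ⊔ W₂) →* ℂˣ // φ ≠ 1 ∧ ∀ w : ↥(W₁ ⊔ W₂), (w : G) ∈ W₂ → φ w = 1}

/-- nontrivial linear characters of `W` trivial on `W₁` -/
abbrev IdxB : Type _ :=
  {ψ : ↥(W₁ ⊔ W₂) →* ℂˣ // ψ ≠ 1 ∧ ∀ w : ↥(W₁ ⊔ W₂), (w : G) ∈ W₁ → ψ w = 1}

theorem card_trivOn (K K' : Subgroup G) (hK : K ≤ K ⊔ K') (hcomm : ∀ a b : ↥(K ⊔ K'), a * b = b * a) :
    Nat.card {φ : ↥(K ⊔ K') →* ℂˣ // ∀ w : ↥(K ⊔ K'), (w : G) ∈ K → φ w = 1} * Nat.card K =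
      Nat.card ↥(K ⊔ K') := by
  have h := card_linChar_trivOn hcomm (K.subgroupOf (K ⊔ K'))
  have e : {φ : ↥(K ⊔ K') →* ℂˣ // ∀ w : ↥(K ⊔ K'), (w : G) ∈ K → φ w = 1} =
      {φ : ↥(K ⊔ K') →* ℂˣ // ∀ y ∈ K.subgroupOf (K ⊔ K'), φ y = 1} := rfl
  rw [e, h, ← Subgroup.card_mul_index (K.subgroupOf (K ⊔ K')), mul_comm]
  congr 1
  exact Nat.card_congr (Subgroup.subgroupOfEquivOfLe hK).toEquiv.symm

theorem card_idxA (hW : IsSelfNormalizingCyclic W₁ W₂) :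
    Nat.card (IdxA W₁ W₂) + 1 = Nat.card W₁ := by
  obtain ⟨h1, h2, hdisj, hcomm, hcyc, hnorm⟩ := hW
  have hWc : ∀ a b : ↥(W₁ ⊔ W₂), a * b = b * a :=
    fun a b => hcyc.isMulCommutative.is_comm.comm a b
  rw [card_ne_one_add_one (fun φ : ↥(W₁ ⊔ W₂) →* ℂˣ => ∀ w : ↥(W₁ ⊔ W₂), (w : G) ∈ W₂ → φ w = 1)
    (fun _ _ => rfl)]
  have e1 : W₂ ⊔ W₁ = W₁ ⊔ W₂ := sup_comm _ _
  have h := card_trivOn W₂ W₁ le_sup_left (by rw [e1]; exact hWc)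
  have h3 := card_sup_of_isCyclic W₁ W₂ hdisj hcomm hcyc
  have h4 : Nat.card {φ : ↥(W₁ ⊔ W₂) →* ℂˣ // ∀ w : ↥(W₁ ⊔ W₂), (w : G) ∈ W₂ → φ w = 1} *
      Nat.card W₂ = Nat.card ↥(W₁ ⊔ W₂) := by
    rw [← e1]; exact h
  rw [h3] at h4
  exact Nat.eq_of_mul_eq_mul_right Nat.card_pos h4

theorem card_idxB (hW : IsSelfNormalizingCyclic W₁ W₂) :
    Nat.card (IdxB W₁ W₂) + 1 = Nat.card W₂ := by
  obtain ⟨h1, h2, hdisj, hcomm, hcyc, hnorm⟩ := hW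
  have hWc : ∀ a b : ↥(W₁ ⊔ W₂), a * b = b * a :=
    fun a b => hcyc.isMulCommutative.is_comm.comm a b
  rw [card_ne_one_add_one (fun φ : ↥(W₁ ⊔ W₂) →* ℂˣ => ∀ w : ↥(W₁ ⊔ W₂), (w : G) ∈ W₁ → φ w = 1)
    (fun _ _ => rfl)]
  have h := card_trivOn W₁ W₂ le_sup_left hWc
  have h3 := card_sup_of_isCyclic W₁ W₂ hdisj hcomm hcyc
  rw [h3, mul_comm] at h
  exact Nat.eq_of_mul_eq_mul_left Nat.card_pos h

theorem card_cases (hW : IsSelfNormalizingCyclic W₁ W₂) (hodd : Odd (Nat.card ↥(W₁ ⊔ W₂))) :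
    (Nat.card (IdxA W₁ W₂) = 2 ∨ 4 ≤ Nat.card (IdxA W₁ W₂)) ∧
    (Nat.card (IdxB W₁ W₂) = 2 ∨ 4 ≤ Nat.card (IdxB W₁ W₂)) ∧
    (4 ≤ Nat.card (IdxA W₁ W₂) ∨ 4 ≤ Nat.card (IdxB W₁ W₂)) := by
  have hA := card_idxA W₁ W₂ hW
  have hB := card_idxB W₁ W₂ hW
  obtain ⟨h1, h2, hdisj, hcomm, hcyc, hnorm⟩ := hW
  have h3 := card_sup_of_isCyclic W₁ W₂ hdisj hcomm hcyc
  have hcop := coprime_card_of_isCyclic_sup W₁ W₂ hdisj hcomm hcyc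
  rw [h3, Nat.odd_mul] at hodd
  obtain ⟨o1, o2⟩ := hodd
  have c1 : 1 < Nat.card W₁ := (Subgroup.one_lt_card_iff_ne_bot W₁).mpr h1
  have c2 : 1 < Nat.card W₂ := (Subgroup.one_lt_card_iff_ne_bot W₂).mpr h2
  rw [Nat.odd_iff] at o1 o2
  have key : ¬ (Nat.card W₁ = 3 ∧ Nat.card W₂ = 3) := by
    rintro ⟨e1, e2⟩
    rw [e1, e2] at hcop
    exact absurd hcop (by decide)
  refine ⟨by omega, by omega, by omega⟩

/-- the trivial character as an element of `IrrCharacter G` -/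
noncomputable def trivIrr : IrrCharacter G := ⟨1, isIrrCharacter_one⟩

open Classical in
theorem dot_bvec [Fintype (IrrCharacter G)] [DecidableEq (IrrCharacter G)]
    (hW : IsSelfNormalizingCyclic W₁ W₂) {φ φ' ψ ψ' : ↥(W₁ ⊔ W₂) →* ℂˣ}
    (hφ1 : φ ≠ 1) (hφ'1 : φ' ≠ 1) (hψ1 : ψ ≠ 1) (hψ'1 : ψ' ≠ 1)
    (hφ : ∀ w : ↥(W₁ ⊔ W₂), (w : G) ∈ W₂ → φ w = 1)
    (hφ' : ∀ w : ↥(W₁ ⊔ W₂), (w : G) ∈ W₂ → φ' w = 1)
    (hψ : ∀ w : ↥(W₁ ⊔ W₂), (w : G) ∈ W₁ → ψ w = 1)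
    (hψ' : ∀ w : ↥(W₁ ⊔ W₂), (w : G) ∈ W₁ → ψ' w = 1) :
    CT.dot (coefI (bet W₁ W₂ φ ψ)) (coefI (bet W₁ W₂ φ' ψ')) =
      (1 + if φ = φ' then 1 else 0) * (1 + if ψ = ψ' then 1 else 0) - 1 := by
  have h := classInner_eq_dot (isGenChar_bet W₁ W₂ φ ψ) (isGenChar_bet W₁ W₂ φ' ψ')
  rw [classInner_bet W₁ W₂ hW hφ1 hφ'1 hψ1 hψ'1 hφ hφ' hψ hψ'] at h
  have h' : (((1 + if φ = φ' then 1 else 0) * (1 + if ψ = ψ' then 1 else 0) - 1 : ℤ) : ℂ) =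
      ((CT.dot (coefI (bet W₁ W₂ φ ψ)) (coefI (bet W₁ W₂ φ' ψ')) : ℤ) : ℂ) := by
    rw [← h]; push_cast; split_ifs <;> simp
  exact (Int.cast_injective h').symm

theorem deg_bvec [Fintype (IrrCharacter G)] (φ ψ : ↥(W₁ ⊔ W₂) →* ℂˣ) :
    ∑ ξ : IrrCharacter G, coefI (bet W₁ W₂ φ ψ) ξ * (charDegree (ξ : G → ℂ) : ℤ) = -1 := by
  have h := apply_one_eq_sum (isGenChar_bet W₁ W₂ φ ψ)
  rw [bet_one] at h
  exact_mod_cast h.symm

theorem coefI_bet_triv {φ ψ : ↥(W₁ ⊔ W₂) →* ℂˣ} (hφ1 : φ ≠ 1) (hψ1 : ψ ≠ 1)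
    (hφ : ∀ w : ↥(W₁ ⊔ W₂), (w : G) ∈ W₂ → φ w = 1)
    (hψ : ∀ w : ↥(W₁ ⊔ W₂), (w : G) ∈ W₁ → ψ w = 1) :
    coefI (bet W₁ W₂ φ ψ) trivIrr = 0 := by
  have h := coefI_cast (isGenChar_bet W₁ W₂ φ ψ) trivIrr
  have h2 : classInner (bet W₁ W₂ φ ψ) ((trivIrr : IrrCharacter G) : G → ℂ) = 0 := by
    show classInner (bet W₁ W₂ φ ψ) (1 : G → ℂ) = 0
    unfold bet
    rw [Cfsg.Agent.CharLib.classInner_sub_left, classInner_ind_one W₁ W₂ hφ1 hψ1 hφ hψ,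
      classInner_one_one, sub_self]
  rw [h2] at h
  exact_mod_cast h

theorem grid_bet [Fintype (IrrCharacter G)] [DecidableEq (IrrCharacter G)]
    [Fintype (IdxA W₁ W₂)] [DecidableEq (IdxA W₁ W₂)] [Fintype (IdxB W₁ W₂)]
    [DecidableEq (IdxB W₁ W₂)] (hW : IsSelfNormalizingCyclic W₁ W₂) :
    CT.Grid (fun (i : IdxA W₁ W₂) (j : IdxB W₁ W₂) => coefI (bet W₁ W₂ i.1 j.1)) := by
  have hd : ∀ ξ : IrrCharacter G, (0 : ℤ) < (charDegree (ξ : G → ℂ) : ℤ) := fun ξ => by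
    exact_mod_cast irr_charDegree_pos ξ
  have cell : ∀ (i : IdxA W₁ W₂) (j : IdxB W₁ W₂),
      CT.dot (coefI (bet W₁ W₂ i.1 j.1)) (coefI (bet W₁ W₂ i.1 j.1)) = 3 := by
    intro i j
    rw [dot_bvec W₁ W₂ hW i.2.1 i.2.1 j.2.1 j.2.1 i.2.2 i.2.2 j.2.2 j.2.2, if_pos rfl, if_pos rfl]
    norm_num
  refine ⟨cell, ?_, ?_, ?_⟩
  · intro i j j' hjj
    refine CT.line_of_deg (cell i j) (cell i j') ?_ _ hd ?_
    · have hne : j.1 ≠ j'.1 := fun e => hjj (Subtype.ext e)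
      rw [dot_bvec W₁ W₂ hW i.2.1 i.2.1 j.2.1 j'.2.1 i.2.2 i.2.2 j.2.2 j'.2.2, if_pos rfl,
        if_neg hne]
      norm_num
    · rw [deg_bvec, deg_bvec]
  · intro i i' j hii
    refine CT.line_of_deg (cell i j) (cell i' j) ?_ _ hd ?_
    · have hne : i.1 ≠ i'.1 := fun e => hii (Subtype.ext e)
      rw [dot_bvec W₁ W₂ hW i.2.1 i'.2.1 j.2.1 j.2.1 i.2.2 i'.2.2 j.2.2 j.2.2, if_pos rfl,
        if_neg hne]
      norm_num
    · rw [deg_bvec, deg_bvec]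
  · intro i i' j j' hii hjj
    have hne : i.1 ≠ i'.1 := fun e => hii (Subtype.ext e)
    have hne' : j.1 ≠ j'.1 := fun e => hjj (Subtype.ext e)
    rw [dot_bvec W₁ W₂ hW i.2.1 i'.2.1 j.2.1 j'.2.1 i.2.2 i'.2.2 j.2.2 j'.2.2, if_neg hne,
      if_neg hne']
    norm_num

theorem exists_decomp (hW : IsSelfNormalizingCyclic W₁ W₂) (hodd : Odd (Nat.card ↥(W₁ ⊔ W₂))) :
    ∃ (x : IdxA W₁ W₂ → IrrCharacter G) (y : IdxB W₁ W₂ → IrrCharacter G)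
      (z : IdxA W₁ W₂ → IdxB W₁ W₂ → IrrCharacter G)
      (ex : IdxA W₁ W₂ → ℤ) (ey : IdxB W₁ W₂ → ℤ) (ez : IdxA W₁ W₂ → IdxB W₁ W₂ → ℤ),
      Function.Injective x ∧ Function.Injective y ∧
      (∀ i j i' j', z i j = z i' j' → i = i' ∧ j = j') ∧
      (∀ i j, x i ≠ y j) ∧ (∀ i i' j', x i ≠ z i' j') ∧ (∀ j i' j', y j ≠ z i' j') ∧
      (∀ i, ex i = 1 ∨ ex i = -1) ∧ (∀ j, ey j = 1 ∨ ey j = -1) ∧
      (∀ i j, ez i j = 1 ∨ ez i j = -1) ∧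
      (∀ i, x i ≠ trivIrr) ∧ (∀ j, y j ≠ trivIrr) ∧ (∀ i j, z i j ≠ trivIrr) ∧
      ∀ i j, indFun (W₁ ⊔ W₂) (alphaF W₁ W₂ i.1 j.1) = fun g =>
        1 + (ex i : ℂ) * (x i : G → ℂ) g + (ey j : ℂ) * (y j : G → ℂ) g +
          (ez i j : ℂ) * (z i j : G → ℂ) g := by
  classical
  letI := fintypeIrr G
  letI : Fintype (IdxA W₁ W₂) := Fintype.ofFinite _
  letI : Fintype (IdxB W₁ W₂) := Fintype.ofFinite _
  obtain ⟨cA, cB, cAB⟩ := card_cases W₁ W₂ hW hodd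
  simp only [Nat.card_eq_fintype_card] at cA cB cAB
  obtain ⟨x, y, z, ex, ey, ez, h1, h2, h3, h4, h5, h6, h7, h8, h9, h10⟩ :=
    (grid_bet W₁ W₂ hW).decomp' cA cB cAB
  have hA : Nonempty (IdxA W₁ W₂) := by
    rw [← Fintype.card_pos_iff]; omega
  have hB : Nonempty (IdxB W₁ W₂) := by
    rw [← Fintype.card_pos_iff]; omega
  have triv0 : ∀ i j, (if trivIrr = x i then ex i else 0) + (if trivIrr = y j then ey j else 0) +
      (if trivIrr = z i j then ez i j else 0) = 0 := fun i j => by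
    rw [← h10 i j trivIrr]
    exact coefI_bet_triv W₁ W₂ i.2.1 j.2.1 i.2.2 j.2.2
  refine ⟨x, y, z, ex, ey, ez, h1, h2, h3, h4, h5, h6, h7, h8, h9, ?_, ?_, ?_, ?_⟩
  · intro i e
    obtain ⟨j⟩ := hB
    have := triv0 i j
    rw [if_pos e.symm, if_neg (fun e' => h4 i j (e.trans e')),
      if_neg (fun e' => h5 i i j (e.trans e'))] at this
    rcases h7 i with h | h <;> omega
  · intro j e
    obtain ⟨i⟩ := hA
    have := triv0 i j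
    rw [if_pos e.symm, if_neg (fun e' => h4 i j (e'.symm.trans e.symm)),
      if_neg (fun e' => h6 j i j (e.trans e'))] at this
    rcases h8 j with h | h <;> omega
  · intro i j e
    have := triv0 i j
    rw [if_pos e.symm, if_neg (fun e' => h5 i i j (e'.symm.trans e.symm)),
      if_neg (fun e' => h6 j i j (e'.symm.trans e.symm))] at this
    rcases h9 i j with h | h <;> omega
  · intro i j
    have hb := genChar_eq_sum (isGenChar_bet W₁ W₂ i.1 j.1)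
    funext g
    have hg : indFun (W₁ ⊔ W₂) (alphaF W₁ W₂ i.1 j.1) g = bet W₁ W₂ i.1 j.1 g + 1 := by
      unfold bet; simp
    rw [hg, congrFun hb g, Finset.sum_apply]
    simp only [Pi.smul_apply, smul_eq_mul, h10 i j]
    push_cast
    simp only [add_mul, Finset.sum_add_distrib, ite_mul, zero_mul, Finset.sum_ite_eq',
      Finset.mem_univ, if_true]
    ring

end Cfsg.Agent.Lib.Helper24.CTChar
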