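/- Helper24: the values on W minus (W1 union W2) of a family satisfying the induction identities (cyclic TI theorem, PF 3.2). -/
import Mathlib
import Cfsg.Agent.Lib.Helper24.CTChar2
import Cfsg.Agent.Lib.Helper10.CyclicTIGalois2

set_option autoImplicit false

namespace Cfsg.Agent.Lib.Helper24.CTChar

open Cfsg Cfsg.Agent.CharLib Cfsg.Agent.Lib.Helper10 Cfsg.Agent.Lib.Helper24
open scoped ComplexConjugate

set_option linter.unusedSectionVars false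
set_option linter.unusedVariables false
set_option linter.style.haveILetI false

variable {G : Type*} [Group G] [Fintype G] (W₁ W₂ : Subgroup G)

open Classical in
/-- the set of linear characters of `W` trivial on `K` -/
noncomputable def annSet (K : Subgroup G) : Finset (↥(W₁ ⊔ W₂) →* ℂˣ) :=
  haveI : Fintype (↥(W₁ ⊔ W₂) →* ℂˣ) := Fintype.ofFinite _
  Finset.univ.filter (fun φ => ∀ w : ↥(W₁ ⊔ W₂), (w : G) ∈ K → φ w = 1)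

theorem mem_annSet {K : Subgroup G} {φ : ↥(W₁ ⊔ W₂) →* ℂˣ} :
    φ ∈ annSet W₁ W₂ K ↔ ∀ w : ↥(W₁ ⊔ W₂), (w : G) ∈ K → φ w = 1 := by
  unfold annSet; simp

theorem one_mem_annSet (K : Subgroup G) : (1 : ↥(W₁ ⊔ W₂) →* ℂˣ) ∈ annSet W₁ W₂ K :=
  (mem_annSet W₁ W₂).mpr (fun _ _ => rfl)

open Classical in
theorem sum_TA (hWc : ∀ a b : ↥(W₁ ⊔ W₂), a * b = b * a) (K : Subgroup G) (v w : ↥(W₁ ⊔ W₂))
    (hv : (v : G) ∉ K) :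
    ∑ a ∈ annSet W₁ W₂ K, conj ((a v : ℂˣ) : ℂ) * (1 - ((a w : ℂˣ) : ℂ)) =
      - (if ((v⁻¹ * w : ↥(W₁ ⊔ W₂)) : G) ∈ K then ((annSet W₁ W₂ K).card : ℂ) else 0) := by
  have e : ∀ a : ↥(W₁ ⊔ W₂) →* ℂˣ, conj ((a v : ℂˣ) : ℂ) * (1 - ((a w : ℂˣ) : ℂ)) =
      ((a v⁻¹ : ℂˣ) : ℂ) - ((a (v⁻¹ * w) : ℂˣ) : ℂ) := by
    intro a
    rw [linChar_conj, map_mul, Units.val_mul]; ring
  simp_rw [e]
  rw [Finset.sum_sub_distrib]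
  have h1 := sum_annihilator_apply hWc (K.subgroupOf (W₁ ⊔ W₂)) (annSet W₁ W₂ K)
    (fun φ => mem_annSet W₁ W₂) v⁻¹
  have h2 := sum_annihilator_apply hWc (K.subgroupOf (W₁ ⊔ W₂)) (annSet W₁ W₂ K)
    (fun φ => mem_annSet W₁ W₂) (v⁻¹ * w)
  have hv' : v⁻¹ ∉ K.subgroupOf (W₁ ⊔ W₂) := by
    rw [Subgroup.mem_subgroupOf]
    intro h
    apply hv
    have := K.inv_mem h
    simpa using this
  rw [if_neg hv'] at h1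
  rw [h1, h2, zero_sub]
  rfl

open Classical in
theorem sum_alphaF_conj_eq_zero (hW : IsSelfNormalizingCyclic W₁ W₂)
    (χ : (↥(W₁ ⊔ W₂) →* ℂˣ) → (G → ℂ))
    (hcf : ∀ ω, IsClassFunction G (χ ω))
    (horth : ∀ ω ω', classInner (χ ω) (χ ω') = if ω = ω' then 1 else 0)
    (hone : χ 1 = fun _ => 1)
    (hind : ∀ φ ψ : ↥(W₁ ⊔ W₂) →* ℂˣ, φ ≠ 1 → ψ ≠ 1 →
      (∀ w : ↥(W₁ ⊔ W₂), (w : G) ∈ W₂ → φ w = 1) → (∀ w : ↥(W₁ ⊔ W₂), (w : G) ∈ W₁ → ψ w = 1) →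
      indFun (W₁ ⊔ W₂) (alphaF W₁ W₂ φ ψ) = fun g => 1 - χ φ g - χ ψ g + χ (φ * ψ) g)
    (ω : ↥(W₁ ⊔ W₂) →* ℂˣ) {a b : ↥(W₁ ⊔ W₂) →* ℂˣ}
    (ha : ∀ w : ↥(W₁ ⊔ W₂), (w : G) ∈ W₂ → a w = 1)
    (hb : ∀ w : ↥(W₁ ⊔ W₂), (w : G) ∈ W₁ → b w = 1) :
    ∑ w : ↥(W₁ ⊔ W₂), alphaF W₁ W₂ a b w * conj (χ ω w - ((ω w : ℂˣ) : ℂ)) = 0 := by
  by_cases ha1 : a = 1
  · subst ha1
    apply Finset.sum_eq_zero
    intro w _
    simp [alphaF]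
  by_cases hb1 : b = 1
  · subst hb1
    apply Finset.sum_eq_zero
    intro w _
    simp [alphaF]
  have h1 : classInner (indFun (W₁ ⊔ W₂) (alphaF W₁ W₂ a b)) (χ ω) =
      classInner (alphaF W₁ W₂ a b) (fun h : ↥(W₁ ⊔ W₂) => χ ω h) :=
    frobenius_reciprocity _ _ (hcf ω)
  have h2 : classInner (indFun (W₁ ⊔ W₂) (alphaF W₁ W₂ a b)) (χ ω) =
      (if 1 = ω then 1 else 0) - (if a = ω then 1 else 0) - (if b = ω then 1 else 0) +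
        (if a * b = ω then 1 else 0) := by
    rw [hind a b ha1 hb1 ha hb]
    have e : (fun g => 1 - χ a g - χ b g + χ (a * b) g) = χ 1 - χ a - χ b + χ (a * b) := by
      funext g; simp [hone]
    rw [e, Cfsg.Agent.CharLib.classInner_add_left, Cfsg.Agent.CharLib.classInner_sub_left,
      Cfsg.Agent.CharLib.classInner_sub_left, horth, horth, horth, horth]
  have h3 : classInner (alphaF W₁ W₂ a b) (fnOf ω) =
      (if 1 = ω then 1 else 0) - (if a = ω then 1 else 0) - (if b = ω then 1 else 0) +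
        (if a * b = ω then 1 else 0) := by
    rw [alphaF_eq]
    simp only [Cfsg.Agent.CharLib.classInner_sub_left, Cfsg.Agent.CharLib.classInner_add_left,
      classInner_fnOf]
    ring
  have h4 : classInner (alphaF W₁ W₂ a b) ((fun h : ↥(W₁ ⊔ W₂) => χ ω h) - fnOf ω) = 0 := by
    rw [Cfsg.Agent.Lib.Helper10.classInner_sub_right, ← h1, h2, h3, sub_self]
  unfold classInner at h4
  have hW0 : (Nat.card ↥(W₁ ⊔ W₂) : ℂ)⁻¹ ≠ 0 :=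
    inv_ne_zero (Nat.cast_ne_zero.mpr Nat.card_pos.ne')
  exact (mul_eq_zero.mp h4).resolve_left hW0

open Classical in
theorem eq_on_of (hW : IsSelfNormalizingCyclic W₁ W₂)
    (χ : (↥(W₁ ⊔ W₂) →* ℂˣ) → (G → ℂ))
    (hcf : ∀ ω, IsClassFunction G (χ ω))
    (horth : ∀ ω ω', classInner (χ ω) (χ ω') = if ω = ω' then 1 else 0)
    (hone : χ 1 = fun _ => 1)
    (hind : ∀ φ ψ : ↥(W₁ ⊔ W₂) →* ℂˣ, φ ≠ 1 → ψ ≠ 1 →
      (∀ w : ↥(W₁ ⊔ W₂), (w : G) ∈ W₂ → φ w = 1) → (∀ w : ↥(W₁ ⊔ W₂), (w : G) ∈ W₁ → ψ w = 1) →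
      indFun (W₁ ⊔ W₂) (alphaF W₁ W₂ φ ψ) = fun g => 1 - χ φ g - χ ψ g + χ (φ * ψ) g)
    (ω : ↥(W₁ ⊔ W₂) →* ℂˣ) (v : ↥(W₁ ⊔ W₂)) (hv1 : (v : G) ∉ W₁) (hv2 : (v : G) ∉ W₂) :
    χ ω v = ((ω v : ℂˣ) : ℂ) := by
  have hWc : ∀ a b : ↥(W₁ ⊔ W₂), a * b = b * a :=
    fun a b => hW.2.2.2.2.1.isMulCommutative.is_comm.comm a b
  have hz : ∑ a ∈ annSet W₁ W₂ W₂, ∑ b ∈ annSet W₁ W₂ W₁,
      (conj ((a v : ℂˣ) : ℂ) * conj ((b v : ℂˣ) : ℂ)) *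
        ∑ w : ↥(W₁ ⊔ W₂), alphaF W₁ W₂ a b w * conj (χ ω w - ((ω w : ℂˣ) : ℂ)) = 0 := by
    apply Finset.sum_eq_zero
    intro a ha
    apply Finset.sum_eq_zero
    intro b hb
    rw [sum_alphaF_conj_eq_zero W₁ W₂ hW χ hcf horth hone hind ω ((mem_annSet W₁ W₂).mp ha)
      ((mem_annSet W₁ W₂).mp hb), mul_zero]
  have key : ∑ w : ↥(W₁ ⊔ W₂),
      (∑ a ∈ annSet W₁ W₂ W₂, conj ((a v : ℂˣ) : ℂ) * (1 - ((a w : ℂˣ) : ℂ))) *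
      (∑ b ∈ annSet W₁ W₂ W₁, conj ((b v : ℂˣ) : ℂ) * (1 - ((b w : ℂˣ) : ℂ))) *
        conj (χ ω w - ((ω w : ℂˣ) : ℂ)) = 0 := by
    rw [← hz]
    simp_rw [Finset.sum_mul_sum, Finset.sum_mul, Finset.mul_sum]
    rw [Finset.sum_comm]
    apply Finset.sum_congr rfl
    intro a _
    rw [Finset.sum_comm]
    apply Finset.sum_congr rfl
    intro b _
    apply Finset.sum_congr rfl
    intro w _
    simp only [alphaF]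
    ring
  simp_rw [sum_TA W₁ W₂ hWc W₂ v _ hv2, sum_TA W₁ W₂ hWc W₁ v _ hv1] at key
  have hiff : ∀ w : ↥(W₁ ⊔ W₂), (((v⁻¹ * w : ↥(W₁ ⊔ W₂)) : G) ∈ W₂ ∧
      ((v⁻¹ * w : ↥(W₁ ⊔ W₂)) : G) ∈ W₁) ↔ w = v := by
    intro w
    constructor
    · rintro ⟨h2, h1⟩
      have : ((v⁻¹ * w : ↥(W₁ ⊔ W₂)) : G) ∈ W₁ ⊓ W₂ := ⟨h1, h2⟩
      rw [hW.2.2.1, Subgroup.mem_bot] at this
      have h' : v⁻¹ * w = 1 := Subtype.ext this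
      exact (inv_mul_eq_one.mp h').symm
    · rintro rfl
      simp
  have e : ∀ w : ↥(W₁ ⊔ W₂),
      -(if ((v⁻¹ * w : ↥(W₁ ⊔ W₂)) : G) ∈ W₂ then ((annSet W₁ W₂ W₂).card : ℂ) else 0) *
      -(if ((v⁻¹ * w : ↥(W₁ ⊔ W₂)) : G) ∈ W₁ then ((annSet W₁ W₂ W₁).card : ℂ) else 0) *
        conj (χ ω w - ((ω w : ℂˣ) : ℂ)) =
      if w = v then ((annSet W₁ W₂ W₂).card : ℂ) * ((annSet W₁ W₂ W₁).card : ℂ) *
        conj (χ ω w - ((ω w : ℂˣ) : ℂ)) else 0 := by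
    intro w
    by_cases hwv : w = v
    · rw [if_pos hwv, if_pos ((hiff w).mpr hwv).1, if_pos ((hiff w).mpr hwv).2]; ring
    · rw [if_neg hwv]
      by_cases h2 : ((v⁻¹ * w : ↥(W₁ ⊔ W₂)) : G) ∈ W₂
      · have h1 : ¬ ((v⁻¹ * w : ↥(W₁ ⊔ W₂)) : G) ∈ W₁ := fun h1 => hwv ((hiff w).mp ⟨h2, h1⟩)
        rw [if_neg h1]; ring
      · rw [if_neg h2]; ring
  simp_rw [e] at key
  rw [Finset.sum_ite_eq' Finset.univ v, if_pos (Finset.mem_univ v)] at key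
  have cA : ((annSet W₁ W₂ W₂).card : ℂ) ≠ 0 :=
    Nat.cast_ne_zero.mpr (Finset.card_pos.mpr ⟨1, one_mem_annSet W₁ W₂ W₂⟩).ne'
  have cB : ((annSet W₁ W₂ W₁).card : ℂ) ≠ 0 :=
    Nat.cast_ne_zero.mpr (Finset.card_pos.mpr ⟨1, one_mem_annSet W₁ W₂ W₁⟩).ne'
  have h0 : conj (χ ω v - ((ω v : ℂˣ) : ℂ)) = 0 :=
    (mul_eq_zero.mp key).resolve_left (mul_ne_zero cA cB)
  have h0' : χ ω v - ((ω v : ℂˣ) : ℂ) = 0 := (map_eq_zero _).mp h0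
  exact sub_eq_zero.mp h0'

end Cfsg.Agent.Lib.Helper24.CTChar
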