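/- Helper24: construction of the cyclic TI family (PF 3.2) from the decomposition. -/
import Mathlib
import Cfsg.Agent.Lib.Helper24.CTChar3
import Cfsg.Agent.Lib.Helper24.CTChar4

set_option autoImplicit false

namespace Cfsg.Agent.Lib.Helper24.CTChar

open Cfsg Cfsg.Agent.CharLib Cfsg.Agent.Lib.Helper10 Cfsg.Agent.Lib.Helper24
open scoped ComplexConjugate

set_option linter.unusedSectionVars false
set_option linter.unusedVariables false
set_option linter.style.haveILetI false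

variable {G : Type*} [Group G] [Fintype G] (W₁ W₂ : Subgroup G)

/-- value of an optional index -/
def valA : Option (IdxA W₁ W₂) → (↥(W₁ ⊔ W₂) →* ℂˣ)
  | none => 1
  | some i => i.1

/-- value of an optional index -/
def valB : Option (IdxB W₁ W₂) → (↥(W₁ ⊔ W₂) →* ℂˣ)
  | none => 1
  | some j => j.1

theorem valA_triv (i : Option (IdxA W₁ W₂)) :
    ∀ w : ↥(W₁ ⊔ W₂), (w : G) ∈ W₂ → valA W₁ W₂ i w = 1 := by
  cases i with
  | none => exact fun _ _ => rfl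
  | some i => exact i.2.2

theorem valB_triv (j : Option (IdxB W₁ W₂)) :
    ∀ w : ↥(W₁ ⊔ W₂), (w : G) ∈ W₁ → valB W₁ W₂ j w = 1 := by
  cases j with
  | none => exact fun _ _ => rfl
  | some j => exact j.2.2

theorem valA_inj : Function.Injective (valA W₁ W₂) := by
  rintro (_|i) (_|j) h
  · rfl
  · exact absurd h.symm j.2.1
  · exact absurd h i.2.1
  · exact congrArg some (Subtype.ext h)

theorem valB_inj : Function.Injective (valB W₁ W₂) := by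
  rintro (_|i) (_|j) h
  · rfl
  · exact absurd h.symm j.2.1
  · exact absurd h i.2.1
  · exact congrArg some (Subtype.ext h)

theorem exists_pair (hW : IsSelfNormalizingCyclic W₁ W₂) (ω : ↥(W₁ ⊔ W₂) →* ℂˣ) :
    ∃ p : Option (IdxA W₁ W₂) × Option (IdxB W₁ W₂), ω = valA W₁ W₂ p.1 * valB W₁ W₂ p.2 := by
  classical
  obtain ⟨-, -, hdisj, hcomm, hcyc, -⟩ := hW
  obtain ⟨φ, ψ, hφ, hψ, e⟩ := exists_linChar_decomp W₁ W₂ hdisj hcomm hcyc ω
  refine ⟨(if h : φ = 1 then none else some ⟨φ, h, hφ⟩,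
    if h : ψ = 1 then none else some ⟨ψ, h, hψ⟩), ?_⟩
  by_cases h1 : φ = 1 <;> by_cases h2 : ψ = 1 <;> simp [h1, h2, valA, valB, e]

open Classical in
/-- the pair of optional indices of a linear character of `W` -/
noncomputable def pp (ω : ↥(W₁ ⊔ W₂) →* ℂˣ) : Option (IdxA W₁ W₂) × Option (IdxB W₁ W₂) :=
  if h : ∃ p : Option (IdxA W₁ W₂) × Option (IdxB W₁ W₂), ω = valA W₁ W₂ p.1 * valB W₁ W₂ p.2
  then h.choose else (none, none)

theorem pp_spec (hW : IsSelfNormalizingCyclic W₁ W₂) (ω : ↥(W₁ ⊔ W₂) →* ℂˣ) :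
    ω = valA W₁ W₂ (pp W₁ W₂ ω).1 * valB W₁ W₂ (pp W₁ W₂ ω).2 := by
  unfold pp
  rw [dif_pos (exists_pair W₁ W₂ hW ω)]
  exact (exists_pair W₁ W₂ hW ω).choose_spec

theorem pp_mul (i : Option (IdxA W₁ W₂)) (j : Option (IdxB W₁ W₂)) :
    pp W₁ W₂ (valA W₁ W₂ i * valB W₁ W₂ j) = (i, j) := by
  have hex : ∃ p : Option (IdxA W₁ W₂) × Option (IdxB W₁ W₂),
      valA W₁ W₂ i * valB W₁ W₂ j = valA W₁ W₂ p.1 * valB W₁ W₂ p.2 := ⟨(i, j), rfl⟩
  unfold pp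
  rw [dif_pos hex]
  have h := hex.choose_spec
  obtain ⟨e1, e2⟩ := mul_inj_of_triv W₁ W₂ (valA_triv W₁ W₂ i) (valA_triv W₁ W₂ _)
    (valB_triv W₁ W₂ j) (valB_triv W₁ W₂ _) h
  exact (Prod.ext (valA_inj W₁ W₂ e1) (valB_inj W₁ W₂ e2)).symm

theorem pp_injective (hW : IsSelfNormalizingCyclic W₁ W₂) : Function.Injective (pp W₁ W₂) := by
  intro ω ω' h
  rw [pp_spec W₁ W₂ hW ω, pp_spec W₁ W₂ hW ω', h]

variable {W₁ W₂}

/-- the irreducible character attached to a pair of optional indices -/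
noncomputable def FF (x : IdxA W₁ W₂ → IrrCharacter G) (y : IdxB W₁ W₂ → IrrCharacter G)
    (z : IdxA W₁ W₂ → IdxB W₁ W₂ → IrrCharacter G) :
    Option (IdxA W₁ W₂) × Option (IdxB W₁ W₂) → IrrCharacter G
  | (none, none) => trivIrr
  | (some i, none) => x i
  | (none, some j) => y j
  | (some i, some j) => z i j

/-- the sign attached to a pair of optional indices -/
def SS (ex : IdxA W₁ W₂ → ℤ) (ey : IdxB W₁ W₂ → ℤ) (ez : IdxA W₁ W₂ → IdxB W₁ W₂ → ℤ) :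
    Option (IdxA W₁ W₂) × Option (IdxB W₁ W₂) → ℤ
  | (none, none) => 1
  | (some i, none) => - ex i
  | (none, some j) => - ey j
  | (some i, some j) => ez i j

theorem FF_inj {x : IdxA W₁ W₂ → IrrCharacter G} {y : IdxB W₁ W₂ → IrrCharacter G}
    {z : IdxA W₁ W₂ → IdxB W₁ W₂ → IrrCharacter G}
    (h1 : Function.Injective x) (h2 : Function.Injective y)
    (h3 : ∀ i j i' j', z i j = z i' j' → i = i' ∧ j = j')
    (h4 : ∀ i j, x i ≠ y j) (h5 : ∀ i i' j', x i ≠ z i' j') (h6 : ∀ j i' j', y j ≠ z i' j')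
    (t1 : ∀ i, x i ≠ trivIrr) (t2 : ∀ j, y j ≠ trivIrr) (t3 : ∀ i j, z i j ≠ trivIrr) :
    Function.Injective (FF x y z) := by
  rintro ⟨_|i, _|j⟩ ⟨_|i', _|j'⟩ h <;> simp only [FF] at h
  all_goals first
    | rfl
    | exact absurd h (Ne.symm (t1 _)) | exact absurd h (Ne.symm (t2 _))
    | exact absurd h (Ne.symm (t3 _ _))
    | exact absurd h (t1 _) | exact absurd h (t2 _) | exact absurd h (t3 _ _)
    | exact absurd h (h4 _ _) | exact absurd h.symm (h4 _ _)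
    | exact absurd h (h5 _ _ _) | exact absurd h.symm (h5 _ _ _)
    | exact absurd h (h6 _ _ _) | exact absurd h.symm (h6 _ _ _)
    | rw [h1 h] | rw [h2 h]
    | (obtain ⟨rfl, rfl⟩ := h3 _ _ _ _ h; rfl)

theorem SS_sq {ex : IdxA W₁ W₂ → ℤ} {ey : IdxB W₁ W₂ → ℤ} {ez : IdxA W₁ W₂ → IdxB W₁ W₂ → ℤ}
    (h7 : ∀ i, ex i = 1 ∨ ex i = -1) (h8 : ∀ j, ey j = 1 ∨ ey j = -1)
    (h9 : ∀ i j, ez i j = 1 ∨ ez i j = -1) (p : Option (IdxA W₁ W₂) × Option (IdxB W₁ W₂)) :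
    SS ex ey ez p = 1 ∨ SS ex ey ez p = -1 := by
  obtain ⟨_|i, _|j⟩ := p <;> simp only [SS]
  · simp
  · rcases h8 j with h | h <;> rw [h] <;> simp
  · rcases h7 i with h | h <;> rw [h] <;> simp
  · exact h9 i j

variable (W₁ W₂)

open Classical in
theorem exists_family (hW : IsSelfNormalizingCyclic W₁ W₂) (hodd : Odd (Nat.card ↥(W₁ ⊔ W₂))) :
    ∃ χ : (↥(W₁ ⊔ W₂) →* ℂˣ) → (G → ℂ), IsCyclicTIFamily W₁ W₂ χ := by
  obtain ⟨x, y, z, ex, ey, ez, h1, h2, h3, h4, h5, h6, h7, h8, h9, t1, t2, t3, hdec⟩ :=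
    exists_decomp W₁ W₂ hW hodd
  have hFinj := FF_inj h1 h2 h3 h4 h5 h6 t1 t2 t3
  have hpinj := pp_injective W₁ W₂ hW
  have hS := SS_sq h7 h8 h9
  have hSc : ∀ p, ((SS ex ey ez p : ℤ) : ℂ) = 1 ∨ ((SS ex ey ez p : ℤ) : ℂ) = -1 := by
    intro p
    rcases hS p with h | h <;> rw [h] <;> simp
  let χ : (↥(W₁ ⊔ W₂) →* ℂˣ) → (G → ℂ) := fun ω =>
    ((SS ex ey ez (pp W₁ W₂ ω) : ℤ) : ℂ) • ((FF x y z (pp W₁ W₂ ω) : IrrCharacter G) : G → ℂ)
  have hχ : ∀ ω, χ ω = ((SS ex ey ez (pp W₁ W₂ ω) : ℤ) : ℂ) •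
      ((FF x y z (pp W₁ W₂ ω) : IrrCharacter G) : G → ℂ) := fun ω => rfl
  have hirr : ∀ ω, IsIrrCharacter G (χ ω) ∨ IsIrrCharacter G (-χ ω) := by
    intro ω
    rcases hSc (pp W₁ W₂ ω) with h | h
    · left
      have : χ ω = ((FF x y z (pp W₁ W₂ ω) : IrrCharacter G) : G → ℂ) := by
        rw [hχ, h, one_smul]
      rw [this]
      exact (FF x y z (pp W₁ W₂ ω)).2
    · right
      have : -χ ω = ((FF x y z (pp W₁ W₂ ω) : IrrCharacter G) : G → ℂ) := by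
        rw [hχ, h, neg_smul, one_smul, neg_neg]
      rw [this]
      exact (FF x y z (pp W₁ W₂ ω)).2
  have hcf : ∀ ω, IsClassFunction G (χ ω) := by
    intro ω g h
    rw [hχ, Pi.smul_apply, Pi.smul_apply,
      IsCharacter.isClassFunction (IsIrrCharacter.isCharacter (FF x y z (pp W₁ W₂ ω)).2) g h]
  have horth : ∀ ω ω', classInner (χ ω) (χ ω') =
      @ite ℂ (ω = ω') (Classical.propDecidable _) 1 0 := by
    intro ω ω'
    rw [hχ, hχ, Cfsg.Agent.CharLib.classInner_smul_left, Cfsg.Agent.CharLib.classInner_smul_right,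
      Cfsg.Agent.CharLib.classInner_irr']
    by_cases e : ω = ω'
    · subst e
      rw [if_pos rfl, if_pos rfl]
      rcases hSc (pp W₁ W₂ ω) with h | h <;> rw [h] <;> simp
    · rw [if_neg e, if_neg (fun e' => e (hpinj (hFinj e')))]
      simp
  have horth' : ∀ ω ω', classInner (χ ω) (χ ω') = if ω = ω' then 1 else 0 := by
    intro ω ω'
    rw [horth]
    congr
  have hone : χ 1 = fun _ => 1 := by
    have e1 : (1 : ↥(W₁ ⊔ W₂) →* ℂˣ) = valA W₁ W₂ none * valB W₁ W₂ none := by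
      ext w; simp [valA, valB]
    have e2 : pp W₁ W₂ (1 : ↥(W₁ ⊔ W₂) →* ℂˣ) = (none, none) := by
      rw [e1]; exact pp_mul W₁ W₂ none none
    rw [hχ, e2]
    funext g
    simp [SS, FF, trivIrr]
  have hind : ∀ φ ψ : ↥(W₁ ⊔ W₂) →* ℂˣ, φ ≠ 1 → ψ ≠ 1 →
      (∀ w : ↥(W₁ ⊔ W₂), (w : G) ∈ W₂ → φ w = 1) → (∀ w : ↥(W₁ ⊔ W₂), (w : G) ∈ W₁ → ψ w = 1) →
      indFun (W₁ ⊔ W₂) (alphaF W₁ W₂ φ ψ) = fun g => 1 - χ φ g - χ ψ g + χ (φ * ψ) g := by
    intro φ ψ hφ1 hψ1 hφ hψ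
    have eφ : φ = valA W₁ W₂ (some ⟨φ, hφ1, hφ⟩) * valB W₁ W₂ none := by
      ext w; simp [valA, valB]
    have eψ : ψ = valA W₁ W₂ none * valB W₁ W₂ (some ⟨ψ, hψ1, hψ⟩) := by
      ext w; simp [valA, valB]
    have eφψ : φ * ψ = valA W₁ W₂ (some ⟨φ, hφ1, hφ⟩) * valB W₁ W₂ (some ⟨ψ, hψ1, hψ⟩) := rfl
    have pφ : pp W₁ W₂ φ = (some ⟨φ, hφ1, hφ⟩, none) := by
      conv_lhs => rw [eφ]
      exact pp_mul W₁ W₂ _ _
    have pψ : pp W₁ W₂ ψ = (none, some ⟨ψ, hψ1, hψ⟩) := by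
      conv_lhs => rw [eψ]
      exact pp_mul W₁ W₂ _ _
    have pφψ : pp W₁ W₂ (φ * ψ) = (some ⟨φ, hφ1, hφ⟩, some ⟨ψ, hψ1, hψ⟩) := by
      rw [eφψ]
      exact pp_mul W₁ W₂ _ _
    rw [hdec ⟨φ, hφ1, hφ⟩ ⟨ψ, hψ1, hψ⟩]
    funext g
    rw [hχ, hχ, hχ, pφ, pψ, pφψ]
    simp only [SS, FF, Pi.smul_apply, smul_eq_mul]
    push_cast
    ring
  refine ⟨χ, hirr, horth, hone, ?_, hind⟩
  intro ω w hw1 hw2
  exact eq_on_of W₁ W₂ hW χ hcf horth' hone hind ω w hw1 hw2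

end Cfsg.Agent.Lib.Helper24.CTChar
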