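import Cfsg.Agent.Lib.Helper24.CentralChar

/-!
# Divisibility form of the integrality of central characters

If `χ` is an irreducible complex character of a finite group, `g` an element on which `χ` takes an
integer value `m`, then `χ(1)` divides `|g^G| · m` (`|g^G|` = index of the centralizer).  In
particular if `χ(g) = χ(1) - N` then `χ(1) ∣ |g^G| · N`.
-/

namespace Cfsg.Agent.Lib.Helper24.CentralCharDvd

open Module

variable {G : Type*} [Group G] {V : Type*} [AddCommGroup V] [Module ℂ V]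

/-- If `χ(g) = m` is an integer then `χ(1) ∣ |g^G| · m`. -/
theorem finrank_dvd_index_mul_of_char_eq_int [Finite G] [FiniteDimensional ℂ V]
    (ρ : Representation ℂ G V) [ρ.IsIrreducible] (g : G) (m : ℤ)
    (hm : ρ.character g = (m : ℂ)) :
    (finrank ℂ V : ℤ) ∣ ((Subgroup.centralizer ({g} : Set G)).index : ℤ) * m := by
  have h := Cfsg.Agent.Lib.Helper24.isIntegral_index_mul_char_div ρ g
  have hpos := Cfsg.Agent.Lib.Helper24.finrank_pos_of_isIrreducible ρ
  rw [hm] at h
  set k : ℕ := (Subgroup.centralizer ({g} : Set G)).index with hk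
  set d : ℕ := finrank ℂ V with hd
  have hq : ((k : ℂ) * (m : ℂ) / (d : ℂ)) = ((((k : ℚ) * (m : ℚ) / (d : ℚ)) : ℚ) : ℂ) := by
    push_cast; rfl
  rw [hq] at h
  have h2 : IsIntegral ℤ ((k : ℚ) * (m : ℚ) / (d : ℚ)) :=
    (isIntegral_algebraMap_iff (algebraMap ℚ ℂ).injective (R := ℤ)
      (x := ((k : ℚ) * (m : ℚ) / (d : ℚ)))).mp h
  obtain ⟨c, hc⟩ := IsIntegrallyClosed.isIntegral_iff.mp h2
  have hne : (d : ℚ) ≠ 0 := by exact_mod_cast hpos.ne'
  have h3 : (k : ℚ) * (m : ℚ) = (c : ℚ) * (d : ℚ) := by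
    rw [eq_div_iff hne] at hc
    simpa using hc.symm
  have h4 : (k : ℤ) * m = c * (d : ℤ) := by exact_mod_cast h3
  exact ⟨c, by rw [h4]; ring⟩

/-- If `χ(g) = χ(1) - N` with `N` a natural number, then `χ(1) ∣ |g^G| · N`. -/
theorem finrank_dvd_index_mul_of_char_eq_sub [Finite G] [FiniteDimensional ℂ V]
    (ρ : Representation ℂ G V) [ρ.IsIrreducible] (g : G) (N : ℕ)
    (hN : ρ.character g = (finrank ℂ V : ℂ) - (N : ℂ)) :
    finrank ℂ V ∣ (Subgroup.centralizer ({g} : Set G)).index * N := by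
  have h := finrank_dvd_index_mul_of_char_eq_int ρ g ((finrank ℂ V : ℤ) - (N : ℤ))
    (by rw [hN]; push_cast; ring)
  have h2 : (finrank ℂ V : ℤ) ∣ ((Subgroup.centralizer ({g} : Set G)).index : ℤ) * (N : ℤ) := by
    have e : ((Subgroup.centralizer ({g} : Set G)).index : ℤ) * (N : ℤ)
        = ((Subgroup.centralizer ({g} : Set G)).index : ℤ) * (finrank ℂ V : ℤ)
          - ((Subgroup.centralizer ({g} : Set G)).index : ℤ) * ((finrank ℂ V : ℤ) - (N : ℤ)) := by
      ring
    rw [e]
    exact dvd_sub (Dvd.intro_left _ rfl) h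
  exact_mod_cast h2

/-- Variant with the class size given as a number `k`. -/
theorem finrank_dvd_mul_of_index_eq [Finite G] [FiniteDimensional ℂ V]
    (ρ : Representation ℂ G V) [ρ.IsIrreducible] (g : G) (k N : ℕ)
    (hk : (Subgroup.centralizer ({g} : Set G)).index = k)
    (hN : ρ.character g = (finrank ℂ V : ℂ) - (N : ℂ)) :
    finrank ℂ V ∣ k * N := by
  rw [← hk]
  exact finrank_dvd_index_mul_of_char_eq_sub ρ g N hN

end Cfsg.Agent.Lib.Helper24.CentralCharDvd
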