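/-
Counting products of conjugates through characters, and the resulting local divisibility argument
(Brauer-Fowler style), helper24.
-/
import Mathlib
import Cfsg.Agent.Lib.Helper24.IrrFacts
import Cfsg.Agent.Lib.Helper24.IntLemmas

set_option autoImplicit false

namespace Cfsg.Agent.Lib.Helper24

open Representation Module Cfsg
open scoped ComplexConjugate

universe u

variable {G : Type u} [Group G]

open Classical in
/-- counting pairs `(a, b)` with `a x a⁻¹ * b x⁻¹ b⁻¹ = 1` -/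
theorem sum_pairs_inv_one [Fintype G] (x : G) (r : ℂ) :
    ∑ a : G, ∑ b : G, (if a * x * a⁻¹ * (b * x⁻¹ * b⁻¹) * (1 : G)⁻¹ = 1 then r else 0) =
      (Fintype.card G : ℂ) * (Nat.card (Subgroup.centralizer ({x} : Set G)) : ℂ) * r := by
  have hinner : ∀ a : G, ∑ b : G, (if a * x * a⁻¹ * (b * x⁻¹ * b⁻¹) * (1 : G)⁻¹ = 1 then r else 0) =
      (Nat.card (Subgroup.centralizer ({x} : Set G)) : ℂ) * r := by
    intro a
    have hcond : ∀ b : G, (a * x * a⁻¹ * ((Equiv.mulLeft a) b * x⁻¹ * ((Equiv.mulLeft a) b)⁻¹) * (1 : G)⁻¹ = 1) ↔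
        b ∈ Subgroup.centralizer ({x} : Set G) := by
      intro b
      simp only [Equiv.coe_mulLeft, inv_one, mul_one, mul_inv_rev]
      rw [Subgroup.mem_centralizer_iff]
      simp only [Set.mem_singleton_iff, forall_eq]
      constructor
      · intro h
        have h1 : x * (b * x⁻¹ * b⁻¹) = 1 := by
          have : a * x * a⁻¹ * (a * b * x⁻¹ * (b⁻¹ * a⁻¹)) = a * (x * (b * x⁻¹ * b⁻¹)) * a⁻¹ := by group
          rw [this] at h
          have h2 : x * (b * x⁻¹ * b⁻¹) = a⁻¹ * (a * (x * (b * x⁻¹ * b⁻¹)) * a⁻¹) * a := by group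
          rw [h2, h]
          group
        have h3 : b * x⁻¹ * b⁻¹ = x⁻¹ := eq_inv_of_mul_eq_one_right h1
        have h4 : b * x * b⁻¹ = x := by
          have : (b * x⁻¹ * b⁻¹)⁻¹ = b * x * b⁻¹ := by group
          rw [← this, h3, inv_inv]
        calc x * b = (b * x * b⁻¹) * b := by rw [h4]
          _ = b * x := by group
      · intro h
        have h3 : b * x * b⁻¹ = x := by
          rw [← h]
          group
        have h4 : b * x⁻¹ * b⁻¹ = x⁻¹ := by
          have : b * x⁻¹ * b⁻¹ = (b * x * b⁻¹)⁻¹ := by group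
          rw [this, h3]
        calc a * x * a⁻¹ * (a * b * x⁻¹ * (b⁻¹ * a⁻¹)) = a * (x * (b * x⁻¹ * b⁻¹)) * a⁻¹ := by group
          _ = 1 := by rw [h4]; group
    have step : ∑ b : G, (if a * x * a⁻¹ * (b * x⁻¹ * b⁻¹) * (1 : G)⁻¹ = 1 then r else 0) =
        ∑ b : G, (if b ∈ Subgroup.centralizer ({x} : Set G) then r else 0) := by
      rw [← Equiv.sum_comp (Equiv.mulLeft a)]
      apply Finset.sum_congr rfl
      intro b _
      exact if_congr (hcond b) rfl rfl
    rw [step]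
    rw [Finset.sum_ite, Finset.sum_const, Finset.sum_const_zero, add_zero, nsmul_eq_mul]
    congr 2
    rw [Nat.card_eq_fintype_card, Fintype.card_subtype]
  rw [Finset.sum_congr rfl (fun a _ => hinner a), Finset.sum_const, Finset.card_univ, nsmul_eq_mul]
  ring

open Classical in
/-- If no product of a conjugate of `x` with a conjugate of `x⁻¹` is a nonidentity element of the subgroup `P`,
then `|C_G(x)| = ∑ χ, χ(x) χ(x⁻¹) (∑_{z ∈ P} χ z) / χ 1`. -/
theorem class_count_identity [Fintype G] [Fintype (IrrCharacter G)] (x : G)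
    (P : Subgroup G) [Fintype P]
    (hno : ∀ a b : G, ∀ w ∈ P, w ≠ 1 → a * x * a⁻¹ * (b * x⁻¹ * b⁻¹) * w⁻¹ ≠ 1) :
    (Nat.card (Subgroup.centralizer ({x} : Set G)) : ℂ) =
      ∑ χ : IrrCharacter G, (χ : G → ℂ) x * (χ : G → ℂ) x⁻¹ * (∑ z : P, (χ : G → ℂ) (z : G)) / (χ : G → ℂ) 1 := by
  have hG : (Fintype.card G : ℂ) ≠ 0 := by
    have : 0 < Fintype.card G := Fintype.card_pos
    exact_mod_cast this.ne'
  have hT : ∀ z : G, ∑ a : G, ∑ b : G,
      (if a * x * a⁻¹ * (b * x⁻¹ * b⁻¹) * z⁻¹ = 1 then (Fintype.card G : ℂ) else 0) =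
      ∑ χ : IrrCharacter G, (Fintype.card G : ℂ) ^ 2 * ((χ : G → ℂ) x * (χ : G → ℂ) x⁻¹) * (χ : G → ℂ) z⁻¹ /
        (χ : G → ℂ) 1 := by
    intro z
    have h1 : ∀ a b : G, (if a * x * a⁻¹ * (b * x⁻¹ * b⁻¹) * z⁻¹ = 1 then (Fintype.card G : ℂ) else 0) =
        ∑ χ : IrrCharacter G, (χ : G → ℂ) 1 * (χ : G → ℂ) (a * x * a⁻¹ * (b * x⁻¹ * b⁻¹) * z⁻¹) := by
      intro a b
      rw [sum_irr_degree_mul]
    rw [Finset.sum_congr rfl (fun a _ => Finset.sum_congr rfl (fun b _ => h1 a b))]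
    rw [Finset.sum_congr rfl (fun a _ => Finset.sum_comm)]
    rw [Finset.sum_comm]
    apply Finset.sum_congr rfl
    intro χ _
    simp only [← Finset.mul_sum]
    have h2 := irr_class_mul3 χ x x⁻¹ z⁻¹
    have hne := irr_apply_one_ne_zero χ
    rw [eq_div_iff hne]
    linear_combination h2
  have hsumP : ∑ z : P, ∑ a : G, ∑ b : G,
      (if a * x * a⁻¹ * (b * x⁻¹ * b⁻¹) * (z : G)⁻¹ = 1 then (Fintype.card G : ℂ) else 0) =
      (Fintype.card G : ℂ) * (Nat.card (Subgroup.centralizer ({x} : Set G)) : ℂ) * (Fintype.card G : ℂ) := by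
    rw [Finset.sum_eq_single (1 : P)]
    · exact sum_pairs_inv_one x _
    · intro z _ hz1
      apply Finset.sum_eq_zero
      intro a _
      apply Finset.sum_eq_zero
      intro b _
      have hz1' : (z : G) ≠ 1 := fun h => hz1 (Subtype.ext h)
      rw [if_neg (hno a b z z.2 hz1')]
    · intro h
      exact absurd (Finset.mem_univ _) h
  have hsumP' : ∑ z : P, ∑ χ : IrrCharacter G,
      (Fintype.card G : ℂ) ^ 2 * ((χ : G → ℂ) x * (χ : G → ℂ) x⁻¹) * (χ : G → ℂ) (z : G)⁻¹ / (χ : G → ℂ) 1 =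
      (Fintype.card G : ℂ) * (Nat.card (Subgroup.centralizer ({x} : Set G)) : ℂ) * (Fintype.card G : ℂ) := by
    rw [← hsumP]
    exact Finset.sum_congr rfl (fun z _ => (hT (z : G)).symm)
  clear hsumP
  rw [Finset.sum_comm] at hsumP'
  have hre : ∀ χ : IrrCharacter G, ∑ z : P, (Fintype.card G : ℂ) ^ 2 * ((χ : G → ℂ) x * (χ : G → ℂ) x⁻¹) *
      (χ : G → ℂ) (z : G)⁻¹ / (χ : G → ℂ) 1 =
      (Fintype.card G : ℂ) ^ 2 * ((χ : G → ℂ) x * (χ : G → ℂ) x⁻¹ * (∑ z : P, (χ : G → ℂ) (z : G)) /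
        (χ : G → ℂ) 1) := by
    intro χ
    have h3 : ∑ z : P, (χ : G → ℂ) (z : G)⁻¹ = ∑ z : P, (χ : G → ℂ) (z : G) := by
      rw [← Equiv.sum_comp (Equiv.inv P)]
      apply Finset.sum_congr rfl
      intro z _
      simp
    rw [← h3, Finset.mul_sum, Finset.sum_div, Finset.mul_sum]
    apply Finset.sum_congr rfl
    intro z _
    ring
  rw [Finset.sum_congr rfl (fun χ _ => hre χ), ← Finset.mul_sum] at hsumP'
  have h4 : (Fintype.card G : ℂ) ^ 2 * (Nat.card (Subgroup.centralizer ({x} : Set G)) : ℂ) =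
      (Fintype.card G : ℂ) ^ 2 * ∑ χ : IrrCharacter G,
        (χ : G → ℂ) x * (χ : G → ℂ) x⁻¹ * (∑ z : P, (χ : G → ℂ) (z : G)) / (χ : G → ℂ) 1 := by
    rw [hsumP']
    ring
  exact mul_left_cancel₀ (pow_ne_zero 2 hG) h4

/-- The local divisibility argument: if `N = ∑ χ, α χ * |P| * m χ / χ 1` with `α χ` algebraic integers, `|P| = p ^ c`,
and no irreducible degree is divisible by `p ^ k` (where `1 ≤ k ≤ c`), then `p ^ (c - k + 1) ∣ N`. -/
theorem pow_dvd_of_sum_div_degree [Finite G] [Fintype (IrrCharacter G)] (p : ℕ) [Fact p.Prime] (c k : ℕ)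
    (hk : 1 ≤ k) (hkc : k ≤ c) (N : ℕ) (α : IrrCharacter G → ℂ) (hα : ∀ χ, IsIntegral ℤ (α χ))
    (hN : (N : ℂ) = ∑ χ : IrrCharacter G, α χ * ((p : ℂ) ^ c) / (χ : G → ℂ) 1)
    (hno : ∀ χ : IrrCharacter G, ¬ p ^ k ∣ charDegree (χ : G → ℂ)) : p ^ (c - k + 1) ∣ N := by
  have hp : p.Prime := Fact.out
  set n := Nat.card G with hn
  have hnpos : 0 < n := Nat.card_pos
  set m' := n / p ^ n.factorization p with hm'
  obtain ⟨e, he⟩ : ∃ e : ℕ, k = e + 1 := ⟨k - 1, by omega⟩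
  obtain ⟨r, hr⟩ : ∃ r : ℕ, c = r + k := ⟨c - k, by omega⟩
  have hdiv : ∀ χ : IrrCharacter G, charDegree (χ : G → ℂ) ∣ p ^ e * m' := by
    intro χ
    have hd := irr_charDegree_dvd_card χ
    have hnd := hno χ
    set d := charDegree (χ : G → ℂ) with hdd
    have h1 : d = p ^ d.factorization p * (d / p ^ d.factorization p) := (Nat.ordProj_mul_ordCompl_eq_self d p).symm
    have hv : d.factorization p ≤ e := by
      by_contra hlt
      apply hnd
      have : k ≤ d.factorization p := by omega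
      exact (pow_dvd_pow p this).trans (Nat.ordProj_dvd d p)
    have h2 : d / p ^ d.factorization p ∣ m' := Nat.ordCompl_dvd_ordCompl_of_dvd hd p
    rw [h1]
    exact Nat.mul_dvd_mul (pow_dvd_pow p hv) h2
  choose t ht using hdiv
  have hterm : ∀ χ : IrrCharacter G, (m' : ℂ) * (α χ * ((p : ℂ) ^ c) / (χ : G → ℂ) 1) =
      ((p ^ (r + 1) : ℕ) : ℂ) * (α χ * (t χ : ℂ)) := by
    intro χ
    have hne := irr_apply_one_ne_zero χ
    rw [irr_apply_one χ] at *
    have h3 : ((p ^ e * m' : ℕ) : ℂ) = ((charDegree (χ : G → ℂ) * t χ : ℕ) : ℂ) := by rw [ht χ]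
    push_cast at h3
    rw [hr, he]
    push_cast
    field_simp
    linear_combination (α χ * (p : ℂ) ^ (r + 1)) * h3
  have hβ : IsIntegral ℤ (∑ χ : IrrCharacter G, (α χ * (t χ : ℂ))) := by
    apply IsIntegral.sum
    intro χ _
    apply IsIntegral.mul (hα χ)
    exact isIntegral_algebraMap (R := ℤ) (A := ℂ) (x := ((t χ : ℕ) : ℤ)) |> fun h => by simpa using h
  have hmain : ((m' * N : ℕ) : ℂ) = ((p ^ (r + 1) : ℕ) : ℂ) * ∑ χ : IrrCharacter G, (α χ * (t χ : ℂ)) := by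
    rw [Nat.cast_mul, hN, Finset.mul_sum, Finset.mul_sum]
    exact Finset.sum_congr rfl (fun χ _ => hterm χ)
  have hdvd := nat_dvd_of_eq_mul_isIntegral (pow_pos hp.pos (r + 1)) hβ hmain
  have hcop : Nat.Coprime (p ^ (r + 1)) m' := (Nat.coprime_ordCompl hp hnpos.ne').pow_left (r + 1)
  have hdvd2 : p ^ (r + 1) ∣ N := hcop.dvd_of_dvd_mul_left hdvd
  have : c - k + 1 = r + 1 := by omega
  rw [this]
  exact hdvd2

/-- Combination: if no product of a conjugate of `x` with a conjugate of `x⁻¹` is a nonidentity element of the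
subgroup `P` of order `p ^ c`, and no irreducible degree is divisible by `p ^ k` (`1 ≤ k ≤ c`), then
`p ^ (c - k + 1)` divides `|C_G(x)|`. -/
theorem pow_dvd_card_centralizer [Finite G] (p : ℕ) [Fact p.Prime] (x : G) (P : Subgroup G) (c k : ℕ)
    (hP : Nat.card P = p ^ c) (hk : 1 ≤ k) (hkc : k ≤ c)
    (hno : ∀ a b : G, ∀ w ∈ P, w ≠ 1 → a * x * a⁻¹ * (b * x⁻¹ * b⁻¹) * w⁻¹ ≠ 1)
    (hdeg : ∀ χ : IrrCharacter G, ¬ p ^ k ∣ charDegree (χ : G → ℂ)) :
    p ^ (c - k + 1) ∣ Nat.card (Subgroup.centralizer ({x} : Set G)) := by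
  classical
  have := Fintype.ofFinite G
  have := Cfsg.Agent.CharLib.fintypeIrr G
  have := Fintype.ofFinite P
  choose mχ hmχ using fun χ : IrrCharacter G => irr_sum_subgroup χ P
  have hid := class_count_identity x P hno
  apply pow_dvd_of_sum_div_degree p c k hk hkc _
    (fun χ => (χ : G → ℂ) x * (χ : G → ℂ) x⁻¹ * (mχ χ : ℂ)) _ _ hdeg
  · intro χ
    apply IsIntegral.mul
    · exact (irr_isIntegral χ x).mul (irr_isIntegral χ x⁻¹)
    · exact isIntegral_algebraMap (R := ℤ) (A := ℂ) (x := ((mχ χ : ℕ) : ℤ)) |> fun h => by simpa using h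
  · rw [hid]
    apply Finset.sum_congr rfl
    intro χ _
    rw [hmχ χ, hP]
    push_cast
    ring

end Cfsg.Agent.Lib.Helper24
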