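/-
Helper24 library: counting conjugacy classes satisfying a conjugation-invariant predicate by summing centralizer
orders; sums over a group via cosets of a subgroup; sums of multiplicative functions.
-/
import Mathlib
import Cfsg.Agent.Lib.Lead.CharMain

set_option autoImplicit false

namespace Cfsg.Agent.Lib.Helper24

open Cfsg.Agent.CharLib

universe u

variable {Q : Type u} [Group Q]

/-- conjugate elements have centralizers of the same order -/
theorem card_centralizer_eq_of_isConj [Finite Q] {a b : Q} (h : IsConj a b) :
    Nat.card (Subgroup.centralizer ({a} : Set Q)) = Nat.card (Subgroup.centralizer ({b} : Set Q)) := by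
  have h1 := card_conj_mul_card_centralizer a
  have h2 := card_conj_mul_card_centralizer b
  have h3 : Nat.card {x : Q // IsConj x a} = Nat.card {x : Q // IsConj x b} := by
    apply Nat.card_congr
    apply Equiv.subtypeEquivRight
    intro x
    exact ⟨fun hx => hx.trans h, fun hx => hx.trans h.symm⟩
  rw [h3, ← h2] at h1
  have hpos : 0 < Nat.card {x : Q // IsConj x b} := by
    haveI : Nonempty {x : Q // IsConj x b} := ⟨⟨b, IsConj.refl b⟩⟩
    exact Nat.card_pos
  exact Nat.eq_of_mul_eq_mul_left hpos h1

/-- Counting the conjugacy classes satisfying a conjugation-invariant predicate: the sum of the centralizer orders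
of the elements satisfying the predicate is the number of such classes times the group order. -/
theorem sum_card_centralizer_of_pred [Fintype Q] (F : Q → Prop) [DecidablePred F]
    (hF : ∀ a q : Q, F q → F (a * q * a⁻¹)) :
    ∑ q : Q, (if F q then Nat.card (Subgroup.centralizer ({q} : Set Q)) else 0) =
      Nat.card {C : ConjClasses Q // ∃ q : Q, ConjClasses.mk q = C ∧ F q} * Nat.card Q := by
  classical
  have hFconj : ∀ a b : Q, IsConj a b → F a → F b := by
    intro a b hab ha
    obtain ⟨c, hc⟩ := isConj_iff.mp hab
    rw [← hc]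
    exact hF c a ha
  rw [← Fintype.sum_fiberwise (fun q : Q => ConjClasses.mk q)
    (fun q => if F q then Nat.card (Subgroup.centralizer ({q} : Set Q)) else 0)]
  have hinner : ∀ C : ConjClasses Q,
      ∑ q : {q : Q // ConjClasses.mk q = C},
        (if F (q : Q) then Nat.card (Subgroup.centralizer ({(q : Q)} : Set Q)) else 0) =
      if (∃ q : Q, ConjClasses.mk q = C ∧ F q) then Nat.card Q else 0 := by
    intro C
    obtain ⟨q₀, rfl⟩ := ConjClasses.exists_rep C
    by_cases hC : ∃ q : Q, ConjClasses.mk q = ConjClasses.mk q₀ ∧ F q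
    · rw [if_pos hC]
      obtain ⟨q₁, hq₁, hFq₁⟩ := hC
      have hall : ∀ q : {q : Q // ConjClasses.mk q = ConjClasses.mk q₀},
          (if F (q : Q) then Nat.card (Subgroup.centralizer ({(q : Q)} : Set Q)) else 0) =
            Nat.card (Subgroup.centralizer ({q₀} : Set Q)) := by
        intro q
        have hconj : IsConj (q : Q) q₀ := ConjClasses.mk_eq_mk_iff_isConj.mp q.2
        have hconj1 : IsConj q₁ (q : Q) :=
          (ConjClasses.mk_eq_mk_iff_isConj.mp hq₁).trans hconj.symm
        rw [if_pos (hFconj _ _ hconj1 hFq₁), card_centralizer_eq_of_isConj hconj]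
      rw [Finset.sum_congr rfl (fun q _ => hall q), Finset.sum_const, Finset.card_univ, smul_eq_mul]
      have h1 := card_conj_mul_card_centralizer q₀
      rw [← h1, ← Nat.card_eq_fintype_card]
      congr 1
      apply Nat.card_congr
      apply Equiv.subtypeEquivRight
      intro x
      exact ConjClasses.mk_eq_mk_iff_isConj
    · rw [if_neg hC]
      apply Finset.sum_eq_zero
      intro q _
      rw [if_neg]
      intro hFq
      exact hC ⟨q, q.2, hFq⟩
  rw [Finset.sum_congr rfl (fun C _ => hinner C)]
  rw [← Finset.sum_filter, Finset.sum_const, smul_eq_mul, Nat.card_eq_fintype_card (α := {C : ConjClasses Q // _}),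
    Fintype.card_subtype]

/-- A multiplicative complex function on a finite group that is not identically one sums to zero. -/
theorem sum_eq_zero_of_mul_of_ne_one {N : Type*} [Group N] [Fintype N] (μ : N → ℂ)
    (hmul : ∀ a b : N, μ (a * b) = μ a * μ b) (n₀ : N) (hn₀ : μ n₀ ≠ 1) : ∑ n : N, μ n = 0 := by
  have h1 : ∑ n : N, μ n = μ n₀ * ∑ n : N, μ n := by
    rw [Finset.mul_sum, ← Equiv.sum_comp (Equiv.mulLeft n₀) μ]
    apply Finset.sum_congr rfl
    intro n _
    rw [Equiv.coe_mulLeft, hmul]
  have h2 : (1 - μ n₀) * ∑ n : N, μ n = 0 := by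
    rw [sub_mul, one_mul, ← h1, sub_self]
  rcases mul_eq_zero.mp h2 with h | h
  · exfalso; apply hn₀; exact (sub_eq_zero.mp h).symm
  · exact h

end Cfsg.Agent.Lib.Helper24
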