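/-
Helper24 library: coprime action and averages of class functions over cosets: for `a` normalizing `K` with
`gcd(o(a), |K|) = 1`, the average of a class function over `a K` equals its average over `a C_K(a)`.
-/
import Mathlib
import Cfsg.Prelude.Def_Characters

set_option autoImplicit false
set_option linter.unusedSectionVars false

namespace Cfsg.Agent.Lib.Helper24.CoprimeAvg

open Cfsg

variable {G : Type*} [Group G] [Fintype G]

open Classical in
/-- the average of `F` over the coset `n K` -/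
noncomputable def avgK (K : Subgroup G) (F : G → ℂ) (n : G) : ℂ :=
  (Nat.card K : ℂ)⁻¹ * ∑ u ∈ Finset.univ.filter (fun u => u ∈ K), F (n * u)

theorem conj_pow_eq' (g x : G) (m : ℕ) : (g * x * g⁻¹) ^ m = g * x ^ m * g⁻¹ := by
  rw [← MulAut.conj_apply, ← map_pow, MulAut.conj_apply]

open Classical in
theorem card_filter_mem (K : Subgroup G) :
    (Finset.univ.filter (fun u : G => u ∈ K)).card = Nat.card K := by
  rw [Nat.card_eq_fintype_card, Fintype.card_subtype]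

open Classical in
/-- coprime action: the sum of a class function over the coset `a K` is concentrated on `a C_K(a)` -/
theorem sum_coset_eq (K : Subgroup G) (a : G)
    (hn : ∀ x ∈ K, a * x * a⁻¹ ∈ K) (hn' : ∀ x ∈ K, a⁻¹ * x * a ∈ K)
    (hcop : (orderOf a).Coprime (Nat.card K)) (F : G → ℂ) (hF : IsClassFunction G F) :
    (Nat.card ↥(K ⊓ Subgroup.centralizer ({a} : Set G)) : ℂ) *
        ∑ x ∈ Finset.univ.filter (fun u => u ∈ K), F (a * x) =
      (Nat.card K : ℂ) *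
        ∑ c ∈ Finset.univ.filter (fun u => u ∈ K ⊓ Subgroup.centralizer ({a} : Set G)), F (a * c) := by
  set C := K ⊓ Subgroup.centralizer ({a} : Set G) with hC
  set 𝒦 := Finset.univ.filter (fun u : G => u ∈ K) with h𝒦
  set 𝒞 := Finset.univ.filter (fun u : G => u ∈ C) with h𝒞
  have hmem𝒦 : ∀ u, u ∈ 𝒦 ↔ u ∈ K := fun u => by simp [h𝒦]
  have hmem𝒞 : ∀ u, u ∈ 𝒞 ↔ u ∈ C := fun u => by simp [h𝒞]
  have hCK : ∀ c ∈ C, c ∈ K := fun c hc => (Subgroup.mem_inf.mp hc).1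
  have hCa : ∀ c ∈ C, a * c = c * a := fun c hc =>
    Subgroup.mem_centralizer_iff.mp (Subgroup.mem_inf.mp hc).2 a rfl
  -- the exponent
  obtain ⟨k, hk1, hk0⟩ := Nat.chineseRemainder hcop 1 0
  have hak : a ^ k = a := by
    have := pow_eq_pow_iff_modEq.mpr hk1
    rwa [pow_one] at this
  have hKk : ∀ x ∈ K, x ^ k = 1 := by
    intro x hx
    have hord : orderOf x ∣ Nat.card K := Subgroup.orderOf_dvd_natCard _ hx
    have : k ≡ 0 [MOD orderOf x] := hk0.of_dvd hord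
    have := pow_eq_pow_iff_modEq.mpr this
    rwa [pow_zero] at this
  have hpow : ∀ c ∈ C, (a * c) ^ k = a := by
    intro c hc
    have hcomm : Commute a c := hCa c hc
    rw [hcomm.mul_pow, hak, hKk c (hCK c hc), mul_one]
  -- the map
  let μ : G × G → G := fun p => a⁻¹ * (p.1 * (a * p.2) * p.1⁻¹)
  have hμ_mem : ∀ p ∈ 𝒦 ×ˢ 𝒞, μ p ∈ 𝒦 := by
    rintro ⟨u, c⟩ hp
    rw [Finset.mem_product, hmem𝒦, hmem𝒞] at hp
    rw [hmem𝒦]
    have : μ (u, c) = (a⁻¹ * u * a) * c * u⁻¹ := by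
      show a⁻¹ * (u * (a * c) * u⁻¹) = _
      group
    rw [this]
    exact K.mul_mem (K.mul_mem (hn' u hp.1) (hCK c hp.2)) (K.inv_mem hp.1)
  have hFμ : ∀ p : G × G, F (a * μ p) = F (a * p.2) := by
    rintro ⟨u, c⟩
    have : a * μ (u, c) = u * (a * c) * u⁻¹ := by
      show a * (a⁻¹ * (u * (a * c) * u⁻¹)) = _
      group
    rw [this]
    exact hF _ _
  -- first evaluation
  have h1 : ∑ p ∈ 𝒦 ×ˢ 𝒞, F (a * μ p) = (Nat.card K : ℂ) * ∑ c ∈ 𝒞, F (a * c) := by
    rw [Finset.sum_congr rfl (fun p _ => hFμ p), Finset.sum_product]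
    simp only []
    rw [Finset.sum_const, nsmul_eq_mul, card_filter_mem]
  -- fibers
  have hfib : ∀ x ∈ 𝒦, ((𝒦 ×ˢ 𝒞).filter (fun p => μ p = x)).card ≤ 𝒞.card ∧
      (((𝒦 ×ˢ 𝒞).filter (fun p => μ p = x)).Nonempty →
        ((𝒦 ×ˢ 𝒞).filter (fun p => μ p = x)).card = 𝒞.card) := by
    intro x hx
    by_cases hne : ((𝒦 ×ˢ 𝒞).filter (fun p => μ p = x)).Nonempty
    · have key : ((𝒦 ×ˢ 𝒞).filter (fun p => μ p = x)).card = 𝒞.card := by
        obtain ⟨⟨u₀, c₀⟩, hp₀⟩ := hne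
        rw [Finset.mem_filter, Finset.mem_product, hmem𝒦, hmem𝒞] at hp₀
        obtain ⟨⟨hu₀, hc₀⟩, hx₀⟩ := hp₀
        symm
        apply Finset.card_bij (fun w _ => (u₀ * w⁻¹, w * c₀ * w⁻¹))
        · intro w hw
          rw [hmem𝒞] at hw
          rw [Finset.mem_filter, Finset.mem_product, hmem𝒦, hmem𝒞]
          refine ⟨⟨K.mul_mem hu₀ (K.inv_mem (hCK w hw)), C.mul_mem (C.mul_mem hw hc₀) (C.inv_mem hw)⟩, ?_⟩
          rw [← hx₀]
          show a⁻¹ * (u₀ * w⁻¹ * (a * (w * c₀ * w⁻¹)) * (u₀ * w⁻¹)⁻¹) = a⁻¹ * (u₀ * (a * c₀) * u₀⁻¹)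
          have hwa : a * w = w * a := hCa w hw
          have : u₀ * w⁻¹ * (a * (w * c₀ * w⁻¹)) * (u₀ * w⁻¹)⁻¹ = u₀ * (w⁻¹ * (a * w) * c₀) * u₀⁻¹ := by
            group
          rw [this, hwa]
          congr 2
          group
        · intro w₁ _ w₂ _ h
          have := congrArg Prod.fst h
          simpa using this
        · rintro ⟨u, c⟩ hp
          rw [Finset.mem_filter, Finset.mem_product, hmem𝒦, hmem𝒞] at hp
          obtain ⟨⟨hu, hc⟩, hx'⟩ := hp
          have heq : u * (a * c) * u⁻¹ = u₀ * (a * c₀) * u₀⁻¹ := by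
            have h1 : a⁻¹ * (u * (a * c) * u⁻¹) = a⁻¹ * (u₀ * (a * c₀) * u₀⁻¹) := by
              rw [show a⁻¹ * (u * (a * c) * u⁻¹) = μ (u, c) from rfl, hx']
              exact hx₀.symm
            exact mul_left_cancel h1
          -- w = u⁻¹ u₀
          have hwK : u⁻¹ * u₀ ∈ K := K.mul_mem (K.inv_mem hu) hu₀
          have heq2 : (u⁻¹ * u₀) * (a * c₀) * (u⁻¹ * u₀)⁻¹ = a * c := by
            have : (u⁻¹ * u₀) * (a * c₀) * (u⁻¹ * u₀)⁻¹ = u⁻¹ * (u₀ * (a * c₀) * u₀⁻¹) * u := by group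
            rw [this, ← heq]
            group
          have hwa : (u⁻¹ * u₀) * a * (u⁻¹ * u₀)⁻¹ = a := by
            have := congrArg (· ^ k) heq2
            simp only [conj_pow_eq', hpow c₀ hc₀, hpow c hc] at this
            exact this
          have hwC : u⁻¹ * u₀ ∈ C := by
            refine Subgroup.mem_inf.mpr ⟨hwK, ?_⟩
            rw [Subgroup.mem_centralizer_iff]
            intro y hy
            rw [Set.mem_singleton_iff] at hy
            subst hy
            calc y * (u⁻¹ * u₀) = ((u⁻¹ * u₀) * y * (u⁻¹ * u₀)⁻¹) * (u⁻¹ * u₀) := by rw [hwa]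
              _ = (u⁻¹ * u₀) * y := by group
          refine ⟨u⁻¹ * u₀, (hmem𝒞 _).mpr hwC, ?_⟩
          have hc' : (u⁻¹ * u₀) * c₀ * (u⁻¹ * u₀)⁻¹ = c := by
            have h3 : (u⁻¹ * u₀) * (a * c₀) * (u⁻¹ * u₀)⁻¹ =
                ((u⁻¹ * u₀) * a * (u⁻¹ * u₀)⁻¹) * ((u⁻¹ * u₀) * c₀ * (u⁻¹ * u₀)⁻¹) := by group
            rw [h3, hwa] at heq2
            exact mul_left_cancel heq2
          refine Prod.ext ?_ hc'
          show u₀ * (u⁻¹ * u₀)⁻¹ = u
          group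
      exact ⟨key.le, fun _ => key⟩
    · rw [Finset.not_nonempty_iff_eq_empty] at hne
      rw [hne]
      exact ⟨by simp, fun h => absurd h (by simp)⟩
  -- all fibers have full size
  have hcount : ∑ x ∈ 𝒦, ((𝒦 ×ˢ 𝒞).filter (fun p => μ p = x)).card = ∑ _x ∈ 𝒦, 𝒞.card := by
    rw [← Finset.card_eq_sum_card_fiberwise hμ_mem, Finset.card_product, Finset.sum_const, smul_eq_mul]
  have hall : ∀ x ∈ 𝒦, ((𝒦 ×ˢ 𝒞).filter (fun p => μ p = x)).card = 𝒞.card := by
    have := (Finset.sum_eq_sum_iff_of_le (fun x hx => (hfib x hx).1)).mp hcount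
    exact this
  -- second evaluation
  have h2 : ∑ p ∈ 𝒦 ×ˢ 𝒞, F (a * μ p) = (Nat.card C : ℂ) * ∑ x ∈ 𝒦, F (a * x) := by
    rw [← Finset.sum_fiberwise_of_maps_to hμ_mem, Finset.mul_sum]
    apply Finset.sum_congr rfl
    intro x hx
    have : ∀ p ∈ (𝒦 ×ˢ 𝒞).filter (fun p => μ p = x), F (a * μ p) = F (a * x) := by
      intro p hp
      rw [(Finset.mem_filter.mp hp).2]
    rw [Finset.sum_congr rfl this, Finset.sum_const, nsmul_eq_mul, hall x hx, card_filter_mem]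
  rw [← h2, h1]

open Classical in
theorem avgK_inf_centralizer (K : Subgroup G) (a : G)
    (hn : ∀ x ∈ K, a * x * a⁻¹ ∈ K) (hn' : ∀ x ∈ K, a⁻¹ * x * a ∈ K)
    (hcop : (orderOf a).Coprime (Nat.card K)) (F : G → ℂ) (hF : IsClassFunction G F) :
    avgK K F a = avgK (K ⊓ Subgroup.centralizer ({a} : Set G)) F a := by
  have h := sum_coset_eq K a hn hn' hcop F hF
  unfold avgK
  have h1 : (Nat.card K : ℂ) ≠ 0 := by
    have : 0 < Nat.card K := Nat.card_pos
    exact_mod_cast this.ne'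
  have h2 : (Nat.card ↥(K ⊓ Subgroup.centralizer ({a} : Set G)) : ℂ) ≠ 0 := by
    have : 0 < Nat.card ↥(K ⊓ Subgroup.centralizer ({a} : Set G)) := Nat.card_pos
    exact_mod_cast this.ne'
  field_simp
  linear_combination h

end Cfsg.Agent.Lib.Helper24.CoprimeAvg
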