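/-
Helper24 library (Dade isometry, part 1): conjugation of finite sets, intersections H(B) of Dade signalizers,
`H(B ∪ {a}) = C_{H(B)}(a)`, and the inclusion-exclusion formula for the Dade restriction over the
`a`-invariant subsets of `A`.
-/
import Mathlib
import Cfsg.Agent.Lib.Helper10.Dade4
import Cfsg.Agent.Lib.Helper24.CoprimeAvg

set_option autoImplicit false
set_option linter.unusedSectionVars false

namespace Cfsg.Agent.Lib.Helper24.DadeGen

open Cfsg Cfsg.Agent.Lib.Helper10 Cfsg.Agent.Lib.Helper24.CoprimeAvg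

variable {G : Type*} [Group G]

open Classical in
/-- conjugation of a finite set -/
noncomputable def conjF (l : G) (B : Finset G) : Finset G := B.image (fun b => l * b * l⁻¹)

theorem mem_conjF {l : G} {B : Finset G} {x : G} : x ∈ conjF l B ↔ l⁻¹ * x * l ∈ B := by
  classical
  unfold conjF
  rw [Finset.mem_image]
  constructor
  · rintro ⟨b, hb, rfl⟩
    have : l⁻¹ * (l * b * l⁻¹) * l = b := by group
    rwa [this]
  · intro h
    exact ⟨_, h, by group⟩

theorem conjF_one (B : Finset G) : conjF 1 B = B := by
  ext x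
  rw [mem_conjF]
  simp

theorem conjF_mul (l₁ l₂ : G) (B : Finset G) : conjF (l₁ * l₂) B = conjF l₁ (conjF l₂ B) := by
  ext x
  rw [mem_conjF, mem_conjF, mem_conjF]
  have : (l₁ * l₂)⁻¹ * x * (l₁ * l₂) = l₂⁻¹ * (l₁⁻¹ * x * l₁) * l₂ := by group
  rw [this]

theorem conjF_card (l : G) (B : Finset G) : (conjF l B).card = B.card := by
  classical
  unfold conjF
  apply Finset.card_image_of_injective
  intro a b h
  have h' : l * a * l⁻¹ = l * b * l⁻¹ := h
  exact mul_left_cancel (mul_right_cancel h')

theorem conjF_nonempty {l : G} {B : Finset G} (h : B.Nonempty) : (conjF l B).Nonempty := by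
  rw [← Finset.card_pos] at h ⊢
  rwa [conjF_card]

theorem conjF_inv_eq {l : G} {B : Finset G} (h : conjF l B = B) : conjF l⁻¹ B = B := by
  have := congrArg (conjF l⁻¹) h
  rw [← conjF_mul, inv_mul_cancel, conjF_one] at this
  exact this.symm

/-- intersection of the `H b`, `b ∈ B` -/
def HB (H : G → Subgroup G) (B : Finset G) : Subgroup G := ⨅ b ∈ B, H b

theorem mem_HB {H : G → Subgroup G} {B : Finset G} {x : G} : x ∈ HB H B ↔ ∀ b ∈ B, x ∈ H b := by
  unfold HB
  simp only [Subgroup.mem_iInf]

theorem HB_singleton (H : G → Subgroup G) (a : G) : HB H {a} = H a := by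
  ext x
  rw [mem_HB]
  simp

theorem HB_le {H : G → Subgroup G} {B : Finset G} {b : G} (hb : b ∈ B) : HB H B ≤ H b :=
  fun _ hx => mem_HB.mp hx b hb

section dade

variable [Finite G] {A : Set G} {L : Subgroup G} {H : G → Subgroup G}

/-- equivariance of the intersections -/
theorem conj_mem_HB (hD : DadeHypothesis A L H) {B : Finset G} (hB : ∀ b ∈ B, b ∈ A) {l : G} (hl : l ∈ L)
    {x : G} (hx : x ∈ HB H B) : l * x * l⁻¹ ∈ HB H (conjF l B) := by
  rw [mem_HB] at hx ⊢
  intro b hb
  rw [mem_conjF] at hb
  have h1 := dade_conj_eq hD (hB _ hb) hl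
  have h2 : l * (l⁻¹ * b * l) * l⁻¹ = b := by group
  rw [h2] at h1
  rw [h1]
  exact ⟨x, hx _ hb, rfl⟩

theorem conj_mem_HB_iff (hD : DadeHypothesis A L H) {B : Finset G} (hB : ∀ b ∈ B, b ∈ A) {l : G}
    (hl : l ∈ L) {x : G} : l * x * l⁻¹ ∈ HB H (conjF l B) ↔ x ∈ HB H B := by
  constructor
  · intro h
    have hB' : ∀ b ∈ conjF l B, b ∈ A := by
      intro b hb
      rw [mem_conjF] at hb
      have := hD.conj_mem l hl _ (hB _ hb)
      have h2 : l * (l⁻¹ * b * l) * l⁻¹ = b := by group
      rwa [h2] at this
    have := conj_mem_HB hD hB' (L.inv_mem hl) h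
    rw [← conjF_mul, inv_mul_cancel, conjF_one] at this
    have h3 : l⁻¹ * (l * x * l⁻¹) * l⁻¹⁻¹ = x := by group
    rwa [h3] at this
  · exact conj_mem_HB hD hB hl

/-- `H(B ∪ {a}) = C_{H(B)}(a)` for nonempty `B` -/
theorem HB_insert (hD : DadeHypothesis A L H) {B : Finset G} (hB : ∀ b ∈ B, b ∈ A) (hne : B.Nonempty)
    {a : G} (ha : a ∈ A) [DecidableEq G] :
    HB H (insert a B) = HB H B ⊓ Subgroup.centralizer ({a} : Set G) := by
  apply le_antisymm
  · intro x hx
    rw [mem_HB] at hx
    refine Subgroup.mem_inf.mpr ⟨?_, ?_⟩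
    · rw [mem_HB]
      intro b hb
      exact hx b (Finset.mem_insert_of_mem hb)
    · exact hD.le_centralizer a ha (hx a (Finset.mem_insert_self a B))
  · obtain ⟨b₀, hb₀⟩ := hne
    have key : HB H B ⊓ Subgroup.centralizer ({a} : Set G) ≤ H a := by
      apply le_of_normal_sup_coprime (Subgroup.centralizer ({a} : Set G)) (H a) _
        (L ⊓ Subgroup.centralizer ({a} : Set G))
      · exact hD.le_centralizer a ha
      · exact inf_le_right
      · exact inf_le_right
      · exact hD.conj_mem_H a ha
      · exact hD.sup_eq a ha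
      · have h1 : Nat.card ↥(HB H B ⊓ Subgroup.centralizer ({a} : Set G)) ∣ Nat.card (H b₀) :=
          Subgroup.card_dvd_of_le (inf_le_left.trans (HB_le hb₀))
        exact Nat.Coprime.coprime_dvd_left h1 (hD.coprime b₀ (hB _ hb₀) a ha)
    intro x hx
    rw [mem_HB]
    intro b hb
    rcases Finset.mem_insert.mp hb with rfl | hb
    · exact key hx
    · exact mem_HB.mp (Subgroup.mem_inf.mp hx).1 b hb

theorem coprime_orderOf_card_HB (hD : DadeHypothesis A L H) {B : Finset G} (hB : ∀ b ∈ B, b ∈ A)
    (hne : B.Nonempty) {a : G} (ha : a ∈ A) : (orderOf a).Coprime (Nat.card (HB H B)) := by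
  obtain ⟨b₀, hb₀⟩ := hne
  have h1 : Nat.card (HB H B) ∣ Nat.card (H b₀) := Subgroup.card_dvd_of_le (HB_le hb₀)
  have h2 : orderOf a ∣ Nat.card ↥(L ⊓ Subgroup.centralizer ({a} : Set G)) := by
    apply Subgroup.orderOf_dvd_natCard
    refine Subgroup.mem_inf.mpr ⟨hD.subset ha, ?_⟩
    rw [Subgroup.mem_centralizer_iff]
    intro h hh
    rw [Set.mem_singleton_iff] at hh
    rw [hh]
  exact (Nat.Coprime.coprime_dvd_left h1 ((hD.coprime b₀ (hB _ hb₀) a ha).coprime_dvd_right h2)).symm

end dade


section inclExcl

variable [Fintype G] {A : Set G} {L : Subgroup G} {H : G → Subgroup G}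

open Classical in
theorem avgK_HB_insert (hD : DadeHypothesis A L H) {B : Finset G} (hB : ∀ b ∈ B, b ∈ A)
    (hne : B.Nonempty) {a : G} (ha : a ∈ A) (hfix : conjF a B = B) (F : G → ℂ)
    (hF : IsClassFunction G F) :
    avgK (HB H B) F a = avgK (HB H (insert a B)) F a := by
  rw [HB_insert hD hB hne ha]
  apply avgK_inf_centralizer
  · intro x hx
    have := conj_mem_HB hD hB (hD.subset ha) hx
    rwa [hfix] at this
  · intro x hx
    have := conj_mem_HB hD hB (L.inv_mem (hD.subset ha)) hx
    rwa [conjF_inv_eq hfix, inv_inv] at this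
  · exact coprime_orderOf_card_HB hD hB hne ha
  · exact hF

open Classical in
theorem conjF_insert_self (a : G) (B : Finset G) : conjF a (insert a B) = insert a (conjF a B) := by
  ext x
  rw [mem_conjF, Finset.mem_insert, Finset.mem_insert, mem_conjF]
  constructor
  · rintro (h | h)
    · left
      have : x = a * (a⁻¹ * x * a) * a⁻¹ := by group
      rw [this, h]; group
    · right; exact h
  · rintro (h | h)
    · left; rw [h]; group
    · right; exact h

open Classical in
theorem conjF_erase_self (a : G) (B : Finset G) : conjF a (B.erase a) = (conjF a B).erase a := by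
  ext x
  rw [mem_conjF, Finset.mem_erase, Finset.mem_erase, mem_conjF]
  constructor
  · rintro ⟨h1, h2⟩
    refine ⟨?_, h2⟩
    intro h
    apply h1
    rw [h]; group
  · rintro ⟨h1, h2⟩
    refine ⟨?_, h2⟩
    intro h
    apply h1
    have : x = a * (a⁻¹ * x * a) * a⁻¹ := by group
    rw [this, h]; group

open Classical in
/-- inclusion–exclusion over the `a`-invariant subsets of `A` -/
theorem incl_excl (hD : DadeHypothesis A L H) {a : G} (ha : a ∈ A) (F : G → ℂ)
    (hF : IsClassFunction G F) :
    avgK (H a) F a = ∑ B ∈ ((Finset.univ.filter (fun x => x ∈ A)).powerset.filter (fun B => B.Nonempty)),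
        if conjF a B = B then (-1 : ℂ) ^ (B.card + 1) * avgK (HB H B) F a else 0 := by
  set 𝒜 := Finset.univ.filter (fun x : G => x ∈ A) with h𝒜
  have ha𝒜 : a ∈ 𝒜 := by simp [h𝒜, ha]
  have hsubA : ∀ B ∈ 𝒜.powerset, ∀ b ∈ B, b ∈ A := by
    intro B hB b hb
    have := Finset.mem_powerset.mp hB hb
    simpa [h𝒜] using this
  set P := 𝒜.powerset.filter (fun B => conjF a B = B) with hP
  let g : Finset G → ℂ := fun B => avgK (HB H (insert a B)) F a
  let f : Finset G → ℂ := fun B => (-1 : ℂ) ^ B.card * g B
  have h0 : ∑ B ∈ P, f B = 0 := by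
    refine Finset.sum_involution (fun B _ => if a ∈ B then B.erase a else insert a B) ?hg1 ?hg3 ?gmem ?hg4
    case hg1 =>
      intro B hB
      by_cases haB : a ∈ B
      · simp only [haB, if_true, f, g]
        rw [Finset.insert_erase haB, Finset.insert_eq_of_mem haB, Finset.card_erase_of_mem haB]
        have hpos : 0 < B.card := Finset.card_pos.mpr ⟨a, haB⟩
        obtain ⟨n, hn⟩ : ∃ n, B.card = n + 1 := ⟨B.card - 1, by omega⟩
        rw [hn, Nat.add_sub_cancel, pow_succ]
        ring
      · simp only [haB, if_false, f, g]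
        rw [Finset.insert_idem, Finset.card_insert_of_notMem haB, pow_succ]
        ring
    case hg3 =>
      intro B hB _
      by_cases haB : a ∈ B
      · simp only [haB, if_true]
        intro h
        have := Finset.notMem_erase a B
        rw [h] at this
        exact this haB
      · simp only [haB, if_false]
        intro h
        apply haB
        rw [← h]
        exact Finset.mem_insert_self a B
    case gmem =>
      intro B hB
      rw [hP, Finset.mem_filter, Finset.mem_powerset] at hB ⊢
      by_cases haB : a ∈ B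
      · simp only [haB, if_true]
        refine ⟨(Finset.erase_subset a B).trans hB.1, ?_⟩
        rw [conjF_erase_self, hB.2]
      · simp only [haB, if_false]
        refine ⟨Finset.insert_subset ha𝒜 hB.1, ?_⟩
        rw [conjF_insert_self, hB.2]
    case hg4 =>
      intro B hB
      by_cases haB : a ∈ B
      · simp only [haB, if_true, Finset.notMem_erase, if_false]
        exact Finset.insert_erase haB
      · simp only [haB, if_false, Finset.mem_insert_self, if_true]
        exact Finset.erase_insert haB
  -- split off the empty set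
  have hemp : (∅ : Finset G) ∈ P := by
    rw [hP, Finset.mem_filter]
    refine ⟨Finset.empty_mem_powerset _, ?_⟩
    ext x
    rw [mem_conjF]
    simp
  have hsplit := Finset.sum_filter_add_sum_filter_not P (fun B => B.Nonempty) f
  have hnot : P.filter (fun B => ¬ B.Nonempty) = {∅} := by
    ext B
    rw [Finset.mem_filter, Finset.mem_singleton, Finset.not_nonempty_iff_eq_empty]
    constructor
    · exact fun h => h.2
    · intro h; rw [h]; exact ⟨hemp, rfl⟩
  rw [hnot, Finset.sum_singleton, h0] at hsplit
  have hf0 : f ∅ = avgK (H a) F a := by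
    show (-1 : ℂ) ^ (∅ : Finset G).card * avgK (HB H (insert a ∅)) F a = _
    rw [Finset.card_empty, pow_zero, one_mul]
    have : (insert a (∅ : Finset G)) = {a} := rfl
    rw [this, HB_singleton]
  -- the right-hand side
  have hR : ∑ B ∈ (𝒜.powerset.filter (fun B => B.Nonempty)),
      (if conjF a B = B then (-1 : ℂ) ^ (B.card + 1) * avgK (HB H B) F a else 0) =
      - ∑ B ∈ P.filter (fun B => B.Nonempty), f B := by
    rw [← Finset.sum_filter, Finset.filter_filter, hP, Finset.filter_filter, ← Finset.sum_neg_distrib]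
    apply Finset.sum_congr
    · ext B
      simp only [Finset.mem_filter]
      tauto
    · intro B hB
      have hB1 : B ∈ 𝒜.powerset := by
        simp only [Finset.mem_filter] at hB
        tauto
      have hB2 : B.Nonempty := by
        simp only [Finset.mem_filter] at hB
        tauto
      have hB3 : conjF a B = B := by
        simp only [Finset.mem_filter] at hB
        tauto
      rw [avgK_HB_insert hD (hsubA B hB1) hB2 ha hB3 F hF]
      show _ = -((-1 : ℂ) ^ B.card * avgK (HB H (insert a B)) F a)
      rw [pow_succ]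
      ring
  rw [hR, ← hf0]
  linear_combination hsplit

end inclExcl

end Cfsg.Agent.Lib.Helper24.DadeGen
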