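/-
Helper24 library: the character of the fixed points of a subgroup K (averaging over K) as a character of any
group normalizing K; trace of a restriction via a projection.
-/
import Mathlib
import Cfsg.Prelude.Def_Characters
import Cfsg.Agent.Lib.Lead.CharBasic

set_option autoImplicit false
set_option linter.unusedSectionVars false

namespace Cfsg.Agent.Lib.Helper24.FixChar

open Cfsg Module

/-- trace of an endomorphism preserving the range `W` of a projection `e`: `tr (f|_W) = tr (f ∘ e)` -/
theorem trace_restrict_eq {V : Type*} [AddCommGroup V] [Module ℂ V] [FiniteDimensional ℂ V]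
    (W : Submodule ℂ V) (e : V →ₗ[ℂ] V) (he : LinearMap.IsProj W e) (f : V →ₗ[ℂ] V)
    (hf : ∀ w ∈ W, f w ∈ W) :
    LinearMap.trace ℂ W (f.restrict hf) = LinearMap.trace ℂ V (f ∘ₗ e) := by
  have h1 : f ∘ₗ e = (f ∘ₗ W.subtype) ∘ₗ he.codRestrict := by
    ext v
    simp [LinearMap.IsProj.codRestrict_apply]
  have h2 : f.restrict hf = he.codRestrict ∘ₗ (f ∘ₗ W.subtype) := by
    ext w
    simp only [LinearMap.coe_restrict_apply, LinearMap.coe_comp, Function.comp_apply,
      Submodule.coe_subtype, LinearMap.IsProj.codRestrict_apply]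
    exact (he.map_id _ (hf w w.2)).symm
  rw [h1, h2, LinearMap.trace_comp_comm']

variable {G : Type*} [Group G]

/-- the character of the fixed points of a subgroup `K`, as a character of any group `N` mapping to `G`
and normalizing `K`: `n ↦ |K|⁻¹ ∑_{h ∈ K} χ (φ n * h)`. -/
theorem isCharacter_avg {N : Type*} [Group N] (φ : N →* G) (K : Subgroup G) [Fintype K]
    (hK : ∀ n : N, ∀ h ∈ K, φ n * h * (φ n)⁻¹ ∈ K) (χ : G → ℂ) (hχ : IsCharacter G χ) :
    IsCharacter N (fun n => (Fintype.card K : ℂ)⁻¹ * ∑ h : K, χ (φ n * (h : G))) := by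
  obtain ⟨d, ρ, rfl⟩ := hχ
  have hcard : (Fintype.card K : ℂ) ≠ 0 := by
    have : 0 < Fintype.card K := Fintype.card_pos
    exact_mod_cast this.ne'
  -- the fixed space
  let W : Submodule ℂ (Fin d → ℂ) :=
    { carrier := {v | ∀ h : K, ρ (h : G) v = v}
      add_mem' := by
        intro a b ha hb h
        rw [map_add, ha h, hb h]
      zero_mem' := by
        intro h
        rw [map_zero]
      smul_mem' := by
        intro c v hv h
        rw [map_smul, hv h] }
  have hmemW : ∀ v, v ∈ W ↔ ∀ h : K, ρ (h : G) v = v := fun v => Iff.rfl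
  -- the averaging projection
  let e : (Fin d → ℂ) →ₗ[ℂ] (Fin d → ℂ) := (Fintype.card K : ℂ)⁻¹ • ∑ h : K, ρ (h : G)
  have he : LinearMap.IsProj W e := by
    constructor
    · intro v
      rw [hmemW]
      intro h'
      show ρ (h' : G) (((Fintype.card K : ℂ)⁻¹ • ∑ h : K, ρ (h : G)) v) = _
      rw [LinearMap.smul_apply, LinearMap.sum_apply, map_smul, map_sum]
      congr 1
      rw [← Equiv.sum_comp (Equiv.mulLeft h') (fun h : K => ρ (h : G) v)]
      apply Finset.sum_congr rfl
      intro h _
      rw [Equiv.coe_mulLeft, Subgroup.coe_mul, map_mul]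
      rfl
    · intro v hv
      rw [hmemW] at hv
      show ((Fintype.card K : ℂ)⁻¹ • ∑ h : K, ρ (h : G)) v = v
      rw [LinearMap.smul_apply, LinearMap.sum_apply, Finset.sum_congr rfl (fun h _ => hv h),
        Finset.sum_const, Finset.card_univ, ← Nat.cast_smul_eq_nsmul ℂ, smul_smul, inv_mul_cancel₀ hcard,
        one_smul]
  -- invariance of the fixed space under `N`
  have hW : ∀ n : N, ∀ w ∈ W, ρ (φ n) w ∈ W := by
    intro n w hw
    rw [hmemW] at hw ⊢
    intro h
    have h1 : (φ n)⁻¹ * (h : G) * φ n ∈ K := by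
      have := hK n⁻¹ h h.2
      rwa [map_inv, inv_inv] at this
    have h2 : (h : G) * φ n = φ n * ((φ n)⁻¹ * (h : G) * φ n) := by group
    rw [← Module.End.mul_apply, ← map_mul, h2, map_mul, Module.End.mul_apply]
    congr 1
    exact hw ⟨_, h1⟩
  let σ : Representation ℂ N W :=
    { toFun := fun n => (ρ (φ n)).restrict (hW n)
      map_one' := by
        ext w
        simp
      map_mul' := by
        intro a b
        ext w
        simp }
  have hσ := Cfsg.Agent.CharLib.isCharacter_of_rep σ
  convert hσ using 1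
  funext n
  show _ = LinearMap.trace ℂ W ((ρ (φ n)).restrict (hW n))
  rw [trace_restrict_eq W e he (ρ (φ n)) (hW n)]
  show _ = LinearMap.trace ℂ _ (ρ (φ n) ∘ₗ ((Fintype.card K : ℂ)⁻¹ • ∑ h : K, ρ (h : G)))
  rw [LinearMap.comp_smul, map_smul, smul_eq_mul, ← Module.End.mul_eq_comp]
  congr 1
  rw [Finset.mul_sum, map_sum]
  apply Finset.sum_congr rfl
  intro h _
  rw [← map_mul]
  rfl

end Cfsg.Agent.Lib.Helper24.FixChar
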