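/-
Helper24 library (Dade isometry, part 2): the Dade image of a generalized character vanishing off `A` has integral
inner products with all characters (via helper10 Dade reciprocity, inclusion-exclusion over the invariant subsets
of `A`, fixed-point characters and an orbit sum), hence is a generalized character.
-/
import Mathlib
import Cfsg.Agent.Lib.Helper10.Dade4
import Cfsg.Agent.Lib.Helper10.GenChar
import Cfsg.Agent.Lib.Helper10.Coherence
import Cfsg.Agent.Lib.Helper24.CoprimeAvg
import Cfsg.Agent.Lib.Helper24.FixChar
import Cfsg.Agent.Lib.Helper24.OrbitSum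
import Cfsg.Agent.Lib.Helper24.DadeGen1

set_option autoImplicit false
set_option linter.unusedSectionVars false
set_option linter.style.haveILetI false

namespace Cfsg.Agent.Lib.Helper24.DadeGen

open Cfsg Cfsg.Agent.CharLib Cfsg.Agent.Lib.Helper10 Cfsg.Agent.Lib.Helper24.CoprimeAvg
open scoped ComplexConjugate

variable {G : Type*} [Group G]

/-- the stabilizer in `L` of the finite set `B` under conjugation -/
def NB (L : Subgroup G) (B : Finset G) : Subgroup L where
  carrier := {l | conjF (l : G) B = B}
  mul_mem' := by
    intro a b ha hb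
    show conjF ((a * b : L) : G) B = B
    rw [Subgroup.coe_mul, conjF_mul, hb, ha]
  one_mem' := conjF_one B
  inv_mem' := by
    intro a ha
    show conjF ((a⁻¹ : L) : G) B = B
    rw [Subgroup.coe_inv]
    exact conjF_inv_eq ha

theorem mem_NB {L : Subgroup G} {B : Finset G} {l : L} : l ∈ NB L B ↔ conjF (l : G) B = B := Iff.rfl

section

variable [Fintype G]

open Classical in
theorem avgK_eq_sum_subtype (K : Subgroup G) [Fintype K] (F : G → ℂ) (n : G) :
    avgK K F n = (Fintype.card K : ℂ)⁻¹ * ∑ h : K, F (n * (h : G)) := by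
  unfold avgK
  rw [Nat.card_eq_fintype_card]
  congr 1
  exact Finset.sum_subtype (Finset.univ.filter (fun u => u ∈ K)) (fun x => by simp) (fun u => F (n * u))

open Classical in
/-- conjugation invariance of the averages -/
theorem avgK_conj (K K' : Subgroup G) (l : G) (hl : ∀ x, l * x * l⁻¹ ∈ K' ↔ x ∈ K) (F : G → ℂ)
    (hF : IsClassFunction G F) (n : G) : avgK K' F (l * n * l⁻¹) = avgK K F n := by
  unfold avgK
  have hcard : Nat.card K' = Nat.card K := by
    rw [← card_filter_mem, ← card_filter_mem]
    symm
    apply Finset.card_equiv (MulAut.conj l).toEquiv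
    intro x
    simp only [Finset.mem_filter, Finset.mem_univ, true_and]
    exact (hl x).symm
  rw [hcard]
  congr 1
  symm
  apply Finset.sum_equiv (MulAut.conj l).toEquiv
  · intro x
    simp only [Finset.mem_filter, Finset.mem_univ, true_and]
    exact (hl x).symm
  · intro x _
    show F (n * x) = F (l * n * l⁻¹ * (l * x * l⁻¹))
    have : l * n * l⁻¹ * (l * x * l⁻¹) = l * (n * x) * l⁻¹ := by group
    rw [this, hF]

end


section main

variable [Fintype G] {A : Set G} {L : Subgroup G} [Fintype L] {H : G → Subgroup G}

/-- the fixed-point character of `H(B)` as a character of the stabilizer of `B` in `L` -/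
theorem isCharacter_psiB (hD : DadeHypothesis A L H) {B : Finset G} (hB : ∀ b ∈ B, b ∈ A)
    (χ : G → ℂ) (hχ : IsCharacter G χ) :
    IsCharacter (NB L B) (fun n => avgK (HB H B) χ ((n : L) : G)) := by
  letI : Fintype (HB H B) := Fintype.ofFinite _
  have h := FixChar.isCharacter_avg (L.subtype.comp (NB L B).subtype) (HB H B)
    (by
      intro n x hx
      have h1 := conj_mem_HB hD hB (n : L).2 hx
      have h2 : conjF ((n : L) : G) B = B := n.2
      rw [h2] at h1
      exact h1) χ hχ
  convert h using 1
  funext n
  rw [avgK_eq_sum_subtype]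
  rfl

theorem isGenChar_comp {N : Type*} [Group N] {K : Type*} [Group K] (f : N →* K) {α : K → ℂ}
    (hα : IsGeneralizedCharacter K α) : IsGeneralizedCharacter N (fun n => α (f n)) := by
  obtain ⟨χ₁, χ₂, h₁, h₂, rfl⟩ := hα
  exact ⟨χ₁ ∘ f, χ₂ ∘ f, IsCharacter.comp_hom h₁ f, IsCharacter.comp_hom h₂ f, rfl⟩

open Classical in
/-- integrality of the inner products of the Dade image of a generalized character -/
theorem classInner_dade_int (hD : DadeHypothesis A L H) (α : L → ℂ)
    (hα : IsGeneralizedCharacter L α) (hαA : ∀ x : L, (x : G) ∉ A → α x = 0)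
    (χ : G → ℂ) (hχ : IsCharacter G χ) :
    ∃ m : ℤ, classInner (dadeIsometry A L H α) χ = m := by
  have hαcl : IsClassFunction L α := genChar_isClassFunction hα
  have hχcl : IsClassFunction G χ := IsCharacter.isClassFunction hχ
  rw [dade_adjoint hD α hαcl hαA χ
    (fun a => (Nat.card (H a) : ℂ)⁻¹ * ∑ᶠ u ∈ (H a : Set G), χ (a * u)) hχcl (fun a _ => rfl)]
  have hψ : ∀ a : L, (Nat.card (H a) : ℂ)⁻¹ * ∑ᶠ u ∈ (H a : Set G), χ (a * u) = avgK (H a) χ a := by
    intro a
    unfold avgK
    rw [finsum_mem_subgroup_eq_sum, Finset.sum_filter]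
  simp only [hψ]
  -- the family of subsets
  set 𝔅 := (Finset.univ.filter (fun x : G => x ∈ A)).powerset.filter (fun B => B.Nonempty) with h𝔅
  have h𝔅A : ∀ B ∈ 𝔅, ∀ b ∈ B, b ∈ A := by
    intro B hB b hb
    rw [h𝔅, Finset.mem_filter, Finset.mem_powerset] at hB
    have := hB.1 hb
    simpa using this
  have h𝔅ne : ∀ B ∈ 𝔅, B.Nonempty := by
    intro B hB
    rw [h𝔅, Finset.mem_filter] at hB
    exact hB.2
  let Q : Finset G → ℂ := fun B => ∑ a : L,
    if conjF (a : G) B = B then (-1 : ℂ) ^ (B.card + 1) * (α a * conj (avgK (HB H B) χ a)) else 0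
  -- step 1
  have hstep1 : ∑ a : L, α a * conj (avgK (H a) χ a) = ∑ B ∈ 𝔅, Q B := by
    rw [Finset.sum_comm]
    apply Finset.sum_congr rfl
    intro a _
    by_cases ha : (a : G) ∈ A
    · rw [incl_excl hD ha χ hχcl, map_sum, Finset.mul_sum]
      apply Finset.sum_congr rfl
      intro B _
      by_cases hfix : conjF (a : G) B = B
      · rw [if_pos hfix, if_pos hfix, map_mul, map_pow, map_neg, map_one]
        ring
      · rw [if_neg hfix, if_neg hfix, map_zero, mul_zero]
    · rw [hαA a ha, zero_mul]
      symm
      apply Finset.sum_eq_zero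
      intro B _
      rw [zero_mul, mul_zero]
      simp
  -- step 2: the orbit sum
  have hstep2 := OrbitSum.sum_eq_card_mul_int (Γ := L) (X := Finset G)
    (fun l B => conjF (l : G) B) (fun B => conjF_one B)
    (fun a b B => by
      show conjF ((a * b : L) : G) B = _
      rw [Subgroup.coe_mul, conjF_mul]) Q 𝔅
    (by
      intro l B hB
      rw [h𝔅, Finset.mem_filter, Finset.mem_powerset]
      refine ⟨?_, conjF_nonempty (h𝔅ne B hB)⟩
      intro x hx
      rw [mem_conjF] at hx
      have h1 := hD.conj_mem l l.2 _ (h𝔅A B hB _ hx)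
      have h2 : (l : G) * ((l : G)⁻¹ * x * (l : G)) * (l : G)⁻¹ = x := by group
      rw [h2] at h1
      simpa using h1)
    (by
      intro l B hB
      show (∑ a : L, if conjF (a : G) (conjF (l : G) B) = conjF (l : G) B then
          (-1 : ℂ) ^ ((conjF (l : G) B).card + 1) *
            (α a * conj (avgK (HB H (conjF (l : G) B)) χ a)) else 0) = Q B
      rw [← Equiv.sum_comp (MulAut.conj l).toEquiv]
      apply Finset.sum_congr rfl
      intro a _
      have hcoe : (((MulAut.conj l).toEquiv a : L) : G) = (l : G) * (a : G) * (l : G)⁻¹ := by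
        simp [MulAut.conj_apply]
      have hα' : α ((MulAut.conj l).toEquiv a) = α a := hαcl a l
      have hfix : conjF (((MulAut.conj l).toEquiv a : L) : G) (conjF (l : G) B) = conjF (l : G) B ↔
          conjF (a : G) B = B := by
        rw [hcoe, ← conjF_mul]
        have : (l : G) * (a : G) * (l : G)⁻¹ * (l : G) = (l : G) * (a : G) := by group
        rw [this, conjF_mul]
        constructor
        · intro h
          have := congrArg (conjF (l : G)⁻¹) h
          have e : ∀ C : Finset G, conjF (l : G)⁻¹ (conjF (l : G) C) = C := fun C => by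
            rw [← conjF_mul, inv_mul_cancel, conjF_one]
          rwa [e, e] at this
        · intro h
          rw [h]
      have havg : avgK (HB H (conjF (l : G) B)) χ (((MulAut.conj l).toEquiv a : L) : G) =
          avgK (HB H B) χ (a : G) := by
        rw [hcoe]
        exact avgK_conj (HB H B) (HB H (conjF (l : G) B)) (l : G)
          (fun x => conj_mem_HB_iff hD (h𝔅A B hB) l.2) χ hχcl a
      by_cases h : conjF (a : G) B = B
      · rw [if_pos (hfix.mpr h), if_pos h, hα', havg, conjF_card]
      · rw [if_neg (fun h' => h (hfix.mp h')), if_neg h])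
    (by
      intro B hB
      -- `Q B` is the stabilizer order times an integer
      have hψB := isCharacter_psiB hD (h𝔅A B hB) χ hχ
      have hαN : IsGeneralizedCharacter (NB L B) (fun n => α (n : L)) :=
        isGenChar_comp (NB L B).subtype hα
      letI : Fintype (NB L B) := Fintype.ofFinite _
      obtain ⟨c, hc⟩ := genChar_classInner_int hαN hψB
      refine ⟨(-1) ^ (B.card + 1) * c, ?_⟩
      have hcard : ((Finset.univ.filter (fun l : L => conjF (l : G) B = B)).card : ℂ) =
          (Nat.card (NB L B) : ℂ) := by
        rw [Nat.card_eq_fintype_card]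
        have := Fintype.card_of_subtype (p := fun x : L => x ∈ NB L B)
          (Finset.univ.filter (fun l : L => conjF (l : G) B = B)) (fun x => by simp [mem_NB])
        exact_mod_cast this.symm
      have hQ : Q B = (-1 : ℂ) ^ (B.card + 1) *
          ∑ n : NB L B, α (n : L) * conj (avgK (HB H B) χ ((n : L) : G)) := by
        show (∑ a : L, if conjF (a : G) B = B then
            (-1 : ℂ) ^ (B.card + 1) * (α a * conj (avgK (HB H B) χ a)) else 0) = _
        rw [← Finset.sum_filter, ← Finset.mul_sum]
        congr 1
        exact Finset.sum_subtype (Finset.univ.filter (fun a : L => conjF (a : G) B = B))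
          (fun x => by simp [mem_NB]) (fun a => α a * conj (avgK (HB H B) χ a))
      have hinner : ∑ n : NB L B, α (n : L) * conj (avgK (HB H B) χ ((n : L) : G)) =
          (Nat.card (NB L B) : ℂ) * c := by
        rw [← hc]
        unfold classInner
        have hne : (Nat.card (NB L B) : ℂ) ≠ 0 := by
          have : 0 < Nat.card (NB L B) := Nat.card_pos
          exact_mod_cast this.ne'
        rw [← mul_assoc, mul_inv_cancel₀ hne, one_mul]
      rw [hQ, hinner, hcard]
      push_cast
      ring)
  obtain ⟨m, hm⟩ := hstep2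
  refine ⟨m, ?_⟩
  unfold classInner
  rw [hstep1, hm, Nat.card_eq_fintype_card]
  have hne : (Fintype.card L : ℂ) ≠ 0 := by
    have : 0 < Fintype.card L := Fintype.card_pos
    exact_mod_cast this.ne'
  rw [← mul_assoc, inv_mul_cancel₀ hne, one_mul]

/-- The Dade map sends generalized characters vanishing off `A` to generalized characters. -/
theorem dade_isGeneralizedCharacter (hD : DadeHypothesis A L H) (α : L → ℂ)
    (hα : IsGeneralizedCharacter L α) (hαA : ∀ x : L, (x : G) ∉ A → α x = 0) :
    IsGeneralizedCharacter G (dadeIsometry A L H α) := by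
  classical
  letI := fintypeIrr G
  have hcl : IsClassFunction G (dadeIsometry A L H α) :=
    dadeIsometry_isClassFunction hD (genChar_isClassFunction hα)
  have hint : ∀ χ : IrrCharacter G, ∃ m : ℤ, classInner (dadeIsometry A L H α) (χ : G → ℂ) = m :=
    fun χ => classInner_dade_int hD α hα hαA _ (IsIrrCharacter.isCharacter χ.2)
  choose m hm using hint
  rw [classFunction_eq_sum hcl]
  apply genChar_sum
  intro χ _
  rw [hm χ]
  have : ((m χ : ℤ) : ℂ) • (χ : G → ℂ) = (m χ) • (χ : G → ℂ) := by
    funext g
    simp
  rw [this]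
  exact genChar_zsmul (isGeneralizedCharacter_of_isCharacter (IsIrrCharacter.isCharacter χ.2)) _

end main

end Cfsg.Agent.Lib.Helper24.DadeGen
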