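/- helper24: transitive groups of degree 11 (S0679), part A: cycle types of elements of prime order,
Jordan exclusions -/
import Mathlib
import Cfsg.Agent.Lib.Helper18.AGenA

set_option autoImplicit false

namespace Cfsg.Agent.Lib.Helper24.Deg11

open Equiv Equiv.Perm MulAction

variable {α : Type*} [Fintype α] [DecidableEq α]

/-- the cycle type of an element of prime order `q` in a symmetric group of degree `11` -/
theorem cycleType_of_prime_order (hα : Fintype.card α = 11) {q : ℕ} (hq : q.Prime) (g : Perm α)
    (hg : orderOf g = q) :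
    ∃ k : ℕ, 1 ≤ k ∧ g.cycleType = Multiset.replicate k q ∧ k * q ≤ 11 ∧ g.support.card = k * q := by
  have : Fact q.Prime := ⟨hq⟩
  obtain ⟨n, hn⟩ := Equiv.Perm.cycleType_prime_order (σ := g) (by rw [hg]; exact hq)
  rw [hg] at hn
  have hs : g.support.card = (n + 1) * q := by
    rw [← Equiv.Perm.sum_cycleType, hn, Multiset.sum_replicate, smul_eq_mul]
  refine ⟨n + 1, by omega, hn, ?_, hs⟩
  rw [← hs, ← hα]
  exact Finset.card_le_univ _

/-- an element of order `q` with `2 q > 11` is a `q`-cycle -/
theorem isCycle_of_prime_order (hα : Fintype.card α = 11) {q : ℕ} (hq : q.Prime) (h6 : 6 ≤ q)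
    (g : Perm α) (hg : orderOf g = q) : g.IsCycle ∧ g.support.card = q := by
  obtain ⟨k, hk1, hk, hk11, hs⟩ := cycleType_of_prime_order hα hq g hg
  have hk' : k = 1 := by nlinarith
  subst hk'
  rw [one_mul] at hs
  refine ⟨?_, hs⟩
  rw [← Equiv.Perm.card_cycleType_eq_one, hk]
  simp

/-- the Jordan exclusion -/
theorem no_prime_cycle (hα : Fintype.card α = 11) {G : Subgroup (Perm α)}
    (hprim : IsPreprimitive G α) (hA : ¬ alternatingGroup α ≤ G) {p : ℕ} (hp : p.Prime)
    (hp8 : p ≤ 8) {g : Perm α} (hg : g ∈ G) (hgc : g.IsCycle) (hgp : g.support.card = p) : False :=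
  hA (Cfsg.Agent.Lib.Helper18.AGen.jordan_prime_cycle hprim hp (by rw [hα]; omega) hgc hgp hg)

/-- no element of order `7` -/
theorem orderOf_ne_seven (hα : Fintype.card α = 11) {G : Subgroup (Perm α)}
    (hprim : IsPreprimitive G α) (hA : ¬ alternatingGroup α ≤ G) {g : Perm α} (hg : g ∈ G) :
    orderOf g ≠ 7 := by
  intro h
  obtain ⟨hc, hs⟩ := isCycle_of_prime_order hα (by norm_num : Nat.Prime 7) (by norm_num) g h
  exact no_prime_cycle hα hprim hA (by norm_num : Nat.Prime 7) (by norm_num) hg hc hs

/-- elements of order `5` have cycle type `5, 5` -/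
theorem cycleType_of_order_five (hα : Fintype.card α = 11) {G : Subgroup (Perm α)}
    (hprim : IsPreprimitive G α) (hA : ¬ alternatingGroup α ≤ G) {g : Perm α} (hg : g ∈ G)
    (h5 : orderOf g = 5) : g.cycleType = {5, 5} ∧ g.support.card = 10 := by
  obtain ⟨k, hk1, hk, hk11, hs⟩ := cycleType_of_prime_order hα (by norm_num : Nat.Prime 5) g h5
  have hk2 : k = 1 ∨ k = 2 := by omega
  rcases hk2 with rfl | rfl
  · exfalso
    have hc : g.IsCycle := by
      rw [← Equiv.Perm.card_cycleType_eq_one, hk]
      simp
    exact no_prime_cycle hα hprim hA (by norm_num : Nat.Prime 5) (by norm_num) hg hc (by omega)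
  · refine ⟨?_, by omega⟩
    rw [hk]
    rfl

/-- elements of order `3` have cycle type `3, 3` or `3, 3, 3` -/
theorem support_of_order_three (hα : Fintype.card α = 11) {G : Subgroup (Perm α)}
    (hprim : IsPreprimitive G α) (hA : ¬ alternatingGroup α ≤ G) {g : Perm α} (hg : g ∈ G)
    (h3 : orderOf g = 3) : g.support.card = 6 ∨ g.support.card = 9 := by
  obtain ⟨k, hk1, hk, hk11, hs⟩ := cycleType_of_prime_order hα (by norm_num : Nat.Prime 3) g h3
  have hk2 : k = 1 ∨ k = 2 ∨ k = 3 := by omega
  rcases hk2 with rfl | rfl | rfl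
  · exfalso
    have hc : g.IsCycle := by
      rw [← Equiv.Perm.card_cycleType_eq_one, hk]
      simp
    exact no_prime_cycle hα hprim hA (by norm_num : Nat.Prime 3) (by norm_num) hg hc (by omega)
  · left; omega
  · right; omega

/-- number of fixed points -/
theorem card_fixedBy_eq (g : Perm α) :
    Nat.card (fixedBy α g) = Fintype.card α - g.support.card := by
  classical
  have : Nat.card (fixedBy α g) = Nat.card {a : α // g a = a} := rfl
  rw [this, Nat.card_eq_fintype_card, Fintype.card_subtype, ← Finset.card_compl]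
  congr 1
  ext a; simp [Perm.mem_support]

end Cfsg.Agent.Lib.Helper24.Deg11
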