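/- helper24: transitive groups of degree 11 (S0679), part B: basic counting, no elements of order 7,
no subgroup of order 25, normal subgroups -/
import Mathlib
import Cfsg.Agent.Lib.Helper24.Deg11A
import Cfsg.Agent.S0675

set_option autoImplicit false
set_option linter.unusedSectionVars false
set_option linter.style.haveILetI false

namespace Cfsg.Agent.Lib.Helper24.Deg11

open Equiv Equiv.Perm MulAction

variable {α : Type*} [Fintype α] [DecidableEq α]

theorem card_eq_mul_stab (hα : Fintype.card α = 11) (G : Subgroup (Perm α))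
    (h2t : IsMultiplyPretransitive G α 2) (x : Fin 2 ↪ α) :
    Nat.card G = 110 * Nat.card (stabilizer G x) := by
  have h1 : (stabilizer G x).index = Nat.card (Fin 2 ↪ α) :=
    @index_stabilizer_of_transitive G (Fin 2 ↪ α) _ _ x h2t
  have h2 : Nat.card (Fin 2 ↪ α) = 110 := by
    rw [Nat.card_eq_fintype_card, Fintype.card_embedding_eq, Fintype.card_fin, hα]
    rfl
  rw [← Subgroup.index_mul_card (stabilizer G x), h1, h2]

theorem card_dvd_factorial (hα : Fintype.card α = 11) (G : Subgroup (Perm α)) :
    Nat.card G ∣ 39916800 := by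
  have := Subgroup.card_subgroup_dvd_card G
  rw [Nat.card_eq_fintype_card (α := Perm α), Fintype.card_perm, hα] at this
  exact this

theorem eleven_dvd_of_normal (hα : Fintype.card α = 11) (G : Subgroup (Perm α))
    (hprim : IsPreprimitive G α) (N : Subgroup G) [N.Normal] (hN : N ≠ ⊥) :
    IsPretransitive N α ∧ 11 ∣ Nat.card N := by
  have hfix : fixedPoints N α ≠ Set.univ := by
    intro h
    apply hN
    rw [Subgroup.eq_bot_iff_forall]
    intro n hn
    apply Subtype.ext
    ext a
    have : a ∈ fixedPoints N α := by rw [h]; trivial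
    exact this ⟨n, hn⟩
  haveI := hprim
  have htr : IsPretransitive N α :=
    IsQuasiPreprimitive.isPretransitive_of_normal (G := G) (X := α) hfix
  refine ⟨htr, ?_⟩
  obtain ⟨a⟩ : Nonempty α := by rw [← Fintype.card_pos_iff, hα]; norm_num
  have h1 : (stabilizer N a).index = Nat.card α := index_stabilizer_of_transitive ..
  rw [Nat.card_eq_fintype_card, hα] at h1
  rw [← h1]
  exact Subgroup.index_dvd_card _

/-- no element of order `7` in `G` -/
theorem not_seven_dvd (hα : Fintype.card α = 11) (G : Subgroup (Perm α))
    (hprim : IsPreprimitive G α) (hA : ¬ alternatingGroup α ≤ G) : ¬ 7 ∣ Nat.card G := by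
  intro h
  haveI : Fact (Nat.Prime 7) := ⟨by norm_num⟩
  obtain ⟨g, hg⟩ := exists_prime_orderOf_dvd_card' (G := G) 7 h
  have ho : orderOf (g : Perm α) = 7 := by rw [Subgroup.orderOf_coe, hg]
  exact orderOf_ne_seven hα hprim hA g.2 ho

/-- no element of order `25` in a symmetric group of degree `11` -/
theorem orderOf_ne_25 (hα : Fintype.card α = 11) (g : Perm α) : orderOf g ≠ 25 := by
  intro h
  have hl : g.cycleType.lcm = 25 := by rw [Equiv.Perm.lcm_cycleType, h]
  by_cases hex : ∃ n ∈ g.cycleType, n = 25
  · obtain ⟨n, hn, rfl⟩ := hex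
    have h1 : 25 ≤ g.cycleType.sum := Multiset.single_le_sum (fun _ _ => Nat.zero_le _) _ hn
    rw [Equiv.Perm.sum_cycleType] at h1
    have h2 : g.support.card ≤ Fintype.card α := Finset.card_le_univ _
    omega
  · push Not at hex
    have h5 : g.cycleType.lcm ∣ 5 := by
      apply Multiset.lcm_dvd.mpr
      intro n hn
      have hd : n ∣ 25 := by
        rw [← h]; exact Equiv.Perm.dvd_of_mem_cycleType hn
      have h2 := Equiv.Perm.two_le_of_mem_cycleType hn
      have hne := hex n hn
      have hle : n ≤ 25 := Nat.le_of_dvd (by norm_num) hd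
      interval_cases n <;> omega
    rw [hl] at h5
    omega

/-- `25` does not divide the order of `G` -/
theorem not_25_dvd (hα : Fintype.card α = 11) (G : Subgroup (Perm α))
    (hprim : IsPreprimitive G α) (hA : ¬ alternatingGroup α ≤ G) : ¬ 25 ∣ Nat.card G := by
  classical
  intro h
  haveI : Fact (Nat.Prime 5) := ⟨by norm_num⟩
  obtain ⟨T, hT⟩ := Sylow.exists_subgroup_card_pow_prime 5 (show 5 ^ 2 ∣ Nat.card G from h)
  haveI : Fintype T := Fintype.ofFinite T
  have hTc : Fintype.card T = 25 := by rw [← Nat.card_eq_fintype_card, hT]; norm_num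
  have hb := MulAction.sum_card_fixedBy_eq_card_orbits_mul_card_group T α
  have hfix1 : ∀ t : T, t ≠ 1 → Fintype.card (fixedBy α t) = 1 := by
    intro t ht
    have hord : orderOf t ∣ 25 := by
      rw [← hTc]; exact orderOf_dvd_card
    have hord' : orderOf (((t : G)) : Perm α) = orderOf t := by
      rw [Subgroup.orderOf_coe, Subgroup.orderOf_coe]
    have hne1 : orderOf t ≠ 1 := by
      rw [Ne, orderOf_eq_one_iff]; exact ht
    have hne25 : orderOf t ≠ 25 := by
      rw [← hord']; exact orderOf_ne_25 hα _
    have h5 : orderOf t = 5 := by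
      have hle : orderOf t ≤ 25 := Nat.le_of_dvd (by norm_num) hord
      have hpos : 0 < orderOf t := orderOf_pos t
      interval_cases (orderOf t) <;> omega
    have hc := (cycleType_of_order_five hα hprim hA (t : G).2 (by rw [hord', h5])).2
    have := card_fixedBy_eq (((t : G)) : Perm α)
    rw [hα, hc, Nat.card_eq_fintype_card] at this
    have e : fixedBy α t = fixedBy α (((t : G)) : Perm α) := rfl
    simp only [e]
    convert this
  have hfixone : Fintype.card (fixedBy α (1 : T)) = 11 := by
    rw [← hα]
    apply Fintype.card_of_subtype Finset.univ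
    intro a
    simp
  rw [hTc, Fintype.sum_eq_add_sum_compl (1 : T), hfixone] at hb
  have hsum : ∑ t ∈ ({1} : Finset T)ᶜ, Fintype.card (fixedBy α t) = 24 := by
    rw [Finset.sum_congr rfl (fun t ht => hfix1 t (by simpa using ht))]
    rw [Finset.sum_const, Finset.card_compl, hTc]
    simp
  rw [hsum] at hb
  omega

end Cfsg.Agent.Lib.Helper24.Deg11
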