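/- helper24: transitive groups of degree 11 (S0679), part C: the Sylow 11-subgroup -/
import Mathlib
import Cfsg.Agent.Lib.Helper24.Deg11B
import Cfsg.Agent.Lib.Helper19.PDegA
import Cfsg.Agent.S4706

set_option autoImplicit false
set_option linter.unusedSectionVars false
set_option linter.style.haveILetI false

namespace Cfsg.Agent.Lib.Helper24.Deg11

open Equiv Equiv.Perm MulAction

variable {α : Type*} [Fintype α] [DecidableEq α]

theorem relIndex_dvd_pred (G : Type*) [Group G] [Finite G] {p : ℕ} [Fact p.Prime] (P : Subgroup G)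
    (hP : Nat.card P = p) :
    (Subgroup.centralizer (P : Set G)).relIndex (Subgroup.normalizer (P : Set G)) ∣ p - 1 := by
  have hp : p.Prime := Fact.out
  have key := Subgroup.card_dvd_of_injective _
    (QuotientGroup.kerLift_injective P.normalizerMonoidHom)
  rw [Subgroup.normalizerMonoidHom_ker, ← Subgroup.index, ← Subgroup.relIndex] at key
  haveI : IsCyclic P := isCyclic_of_prime_card hP
  rw [IsCyclic.card_mulAut, hP, Nat.totient_prime hp] at key
  exact key

/-- Sylow 11 data of a 2-transitive group of degree 11 -/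
theorem sylow11_data (hα : Fintype.card α = 11) (G : Subgroup (Perm α)) [Fact (Nat.Prime 11)]
    (h2t : IsMultiplyPretransitive G α 2) (P : Sylow 11 G) :
    Nat.card P = 11 ∧ Subgroup.centralizer ((P : Subgroup G) : Set G) = (P : Subgroup G) ∧
    ∃ d n : ℕ, d ∣ 10 ∧ (P : Subgroup G).relIndex (Subgroup.normalizer ((P : Subgroup G) : Set G)) = d ∧
      Nat.card (Subgroup.normalizer ((P : Subgroup G) : Set G)) = 11 * d ∧
      Nat.card (Sylow 11 G) = n ∧ n % 11 = 1 ∧ n * (11 * d) = Nat.card G := by
  obtain ⟨x⟩ : Nonempty (Fin 2 ↪ α) :=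
    Function.Embedding.nonempty_of_card_le (by rw [Fintype.card_fin, hα]; norm_num)
  have hGK := card_eq_mul_stab hα G h2t x
  have hdvd := card_dvd_factorial hα G
  have h11G : 11 ∣ Nat.card G := by rw [hGK]; exact Dvd.dvd.mul_right (by norm_num) _
  have hP11 : Nat.card P = 11 := by
    obtain ⟨k, hk⟩ := P.2.exists_card_eq
    have h1 : 11 ∣ Nat.card P := P.dvd_card_of_dvd_card h11G
    have h2 : Nat.card P ∣ 39916800 := (Subgroup.card_subgroup_dvd_card _).trans hdvd
    rw [hk] at h1 h2 ⊢
    have hk1 : k ≠ 0 := by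
      rintro rfl
      norm_num at h1
    have hk2 : k < 2 := by
      by_contra hcon
      push Not at hcon
      have : 11 ^ 2 ∣ 39916800 := (pow_dvd_pow 11 hcon).trans h2
      norm_num at this
    have : k = 1 := by omega
    rw [this, pow_one]
  obtain ⟨c, hc⟩ := exists_prime_orderOf_dvd_card' (G := P) 11 (by rw [hP11])
  have hcP : (c : G) ∈ (P : Subgroup G) := c.2
  have hoc : orderOf (c : G) = 11 := by rw [Subgroup.orderOf_coe, hc]
  haveI : IsCyclic P := isCyclic_of_prime_card hP11
  have hcentEq : Subgroup.centralizer ((P : Subgroup G) : Set G) = (P : Subgroup G) := by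
    apply le_antisymm
    · intro g hg
      have hcomm : Commute g (c : G) := (hg (c : G) hcP).symm
      have := Cfsg.Agent.Lib.Helper19.PDeg.mem_zpowers_of_commute hα (c : G) hoc g hcomm
      have hle : Subgroup.zpowers (c : G) ≤ (P : Subgroup G) := by
        rw [Subgroup.zpowers_le]; exact hcP
      exact hle this
    · exact Subgroup.le_centralizer _
  refine ⟨hP11, hcentEq, ?_⟩
  set N := Subgroup.normalizer ((P : Subgroup G) : Set G) with hN
  have hrel := relIndex_dvd_pred G (P : Subgroup G) hP11
  rw [hcentEq, ← hN] at hrel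
  set d := (P : Subgroup G).relIndex N with hd
  have hNcard : Nat.card N = 11 * d := by
    have h1 := Subgroup.relIndex_mul_relIndex ⊥ (P : Subgroup G) N bot_le Subgroup.le_normalizer
    rw [Subgroup.relIndex_bot_left, Subgroup.relIndex_bot_left, hP11] at h1
    exact h1.symm
  have hn1 : Nat.card (Sylow 11 G) ≡ 1 [MOD 11] := card_sylow_modEq_one 11 G
  have hn2 : Nat.card (Sylow 11 G) = N.index := Sylow.card_eq_index_normalizer P
  refine ⟨d, Nat.card (Sylow 11 G), hrel, rfl, hNcard, rfl, hn1, ?_⟩
  rw [← hNcard, hn2]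
  exact Subgroup.index_mul_card N

end Cfsg.Agent.Lib.Helper24.Deg11
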