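/- helper24: transitive groups of degree 11 (S0679), part D: the index of `P` in its normalizer is
`5` or `10`; the candidate orders -/
import Mathlib
import Cfsg.Agent.Lib.Helper24.Deg11C
import Cfsg.Agent.S0676

set_option autoImplicit false
set_option linter.unusedSectionVars false
set_option linter.style.haveILetI false

namespace Cfsg.Agent.Lib.Helper24.Deg11

open Equiv Equiv.Perm MulAction

variable {α : Type*} [Fintype α] [DecidableEq α]

theorem sqf_of_dvd_110 {n : ℕ} (h : n ∣ 110) : Squarefree n := by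
  have h110 : Squarefree (110 : ℕ) := by
    rw [Nat.squarefree_iff_prime_squarefree]
    intro p hp hdvd
    have hle : p * p ≤ 110 := Nat.le_of_dvd (by norm_num) hdvd
    have hp7 : p < 11 := by nlinarith
    have hp2 := hp.two_le
    interval_cases p <;> norm_num at hdvd
  exact h110.squarefree_of_dvd h

/-- the structure of the Sylow `11`-normalizer -/
theorem sylow11_cases (hα : Fintype.card α = 11) (G : Subgroup (Perm α)) [Fact (Nat.Prime 11)]
    (h2t : IsMultiplyPretransitive G α 2) (hG : ¬ Group.IsSolvable G) (P : Sylow 11 G) :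
    Nat.card P = 11 ∧
    ∃ d n : ℕ, (d = 5 ∨ d = 10) ∧
      (P : Subgroup G).relIndex (Subgroup.normalizer ((P : Subgroup G) : Set G)) = d ∧
      Nat.card (Subgroup.normalizer ((P : Subgroup G) : Set G)) = 11 * d ∧
      Nat.card (Sylow 11 G) = n ∧ n % 11 = 1 ∧ n ≠ 1 ∧ n * (11 * d) = Nat.card G := by
  have hprim : IsPreprimitive G α := isPreprimitive_of_is_two_pretransitive h2t
  obtain ⟨hP11, hcent, d, n, hd10, hrel, hN, hn, hn11, hnG⟩ := sylow11_data hα G h2t P
  refine ⟨hP11, d, n, ?_, hrel, hN, hn, hn11, ?_, hnG⟩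
  · have hd : d = 1 ∨ d = 2 ∨ d = 5 ∨ d = 10 := by
      have hle : d ≤ 10 := Nat.le_of_dvd (by norm_num) hd10
      have hpos : 0 < d := Nat.pos_of_dvd_of_pos hd10 (by norm_num)
      interval_cases d <;> omega
    rcases hd with rfl | rfl | rfl | rfl
    · -- `d = 1`: transfer
      exfalso
      have hNP : (P : Subgroup G) = Subgroup.normalizer ((P : Subgroup G) : Set G) := by
        apply Subgroup.eq_of_le_of_card_ge Subgroup.le_normalizer
        rw [hN, hP11]
      have hle : Subgroup.normalizer ((P : Subgroup G) : Set G) ≤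
          Subgroup.centralizer ((P : Subgroup G) : Set G) := by
        rw [hcent, ← hNP]
      have hcompl := MonoidHom.ker_transferSylow_isComplement' P hle
      set Kc := (MonoidHom.transferSylow P hle).ker with hKc
      have hKcard : Nat.card Kc * Nat.card P = Nat.card G := hcompl.card_mul_card
      by_cases hKb : Kc = ⊥
      · rw [hKb, Subgroup.card_bot, one_mul, hP11] at hKcard
        apply hG
        haveI : IsZGroup G := IsZGroup.of_squarefree (by
          rw [← hKcard]; exact sqf_of_dvd_110 (by norm_num))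
        infer_instance
      · have h11 := (eleven_dvd_of_normal hα G hprim Kc hKb).2
        have h121 : 121 ∣ Nat.card G := by
          rw [← hKcard, hP11]
          obtain ⟨j, hj⟩ := h11
          exact ⟨j, by rw [hj]; ring⟩
        have := h121.trans (card_dvd_factorial hα G)
        norm_num at this
    · -- `d = 2`
      exfalso
      have h := Cfsg.Agent.S4706.result (by norm_num) hα G P (by rw [hN])
      rcases h with hnorm | ⟨a, F, _, _, ha, -, -⟩
      · have hNtop : Subgroup.normalizer ((P : Subgroup G) : Set G) = ⊤ :=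
          Subgroup.normalizer_eq_top_iff.mpr hnorm
        rw [hNtop, Subgroup.card_top] at hN
        apply hG
        haveI : IsZGroup G := IsZGroup.of_squarefree (by
          rw [hN]; exact sqf_of_dvd_110 (by norm_num))
        infer_instance
      · have h10 : 2 ^ a = 10 := by omega
        have ha4 : a < 4 := by
          by_contra hcon
          push Not at hcon
          have : 2 ^ 4 ≤ 2 ^ a := Nat.pow_le_pow_right (by norm_num) hcon
          omega
        interval_cases a <;> omega
    · left; rfl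
    · right; rfl
  · rintro rfl
    rw [one_mul] at hnG
    apply hG
    haveI : IsZGroup G := IsZGroup.of_squarefree (by
      rw [← hnG]
      exact sqf_of_dvd_110 (by
        obtain ⟨j, hj⟩ := hd10
        exact ⟨j, by rw [show (110 : ℕ) = 11 * 10 by norm_num, hj]; ring⟩))
    infer_instance

theorem dvd_10368 {k : ℕ} (h : k ∣ 10368) : ∃ i j : ℕ, i ≤ 7 ∧ j ≤ 4 ∧ k = 2 ^ i * 3 ^ j := by
  have h' : k ∣ 2 ^ 7 * 3 ^ 4 := by norm_num; exact h
  obtain ⟨a, b, ha, hb, rfl⟩ := (Nat.dvd_mul).mp h'
  obtain ⟨i, hi, rfl⟩ := (Nat.dvd_prime_pow Nat.prime_two).mp ha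
  obtain ⟨j, hj, rfl⟩ := (Nat.dvd_prime_pow Nat.prime_three).mp hb
  exact ⟨i, j, hi, hj, rfl⟩

theorem arith_five {k : ℕ} (hk : k ∣ 10368) (h : (2 * k) % 11 = 1) :
    k = 6 ∨ k = 72 ∨ k = 864 ∨ k = 10368 := by
  obtain ⟨i, j, hi, hj, rfl⟩ := dvd_10368 hk
  interval_cases i <;> interval_cases j <;> omega

theorem arith_ten {k : ℕ} (hk : k ∣ 10368) (h : k % 11 = 1) :
    k = 1 ∨ k = 12 ∨ k = 144 ∨ k = 1728 := by
  obtain ⟨i, j, hi, hj, rfl⟩ := dvd_10368 hk
  interval_cases i <;> interval_cases j <;> omega

/-- the candidate orders -/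
theorem card_candidates (hα : Fintype.card α = 11) (G : Subgroup (Perm α)) [Fact (Nat.Prime 11)]
    [IsPretransitive G α] (hG : ¬ Group.IsSolvable G) (hA : ¬ alternatingGroup α ≤ G) (P : Sylow 11 G) :
    IsMultiplyPretransitive G α 2 ∧ Nat.card P = 11 ∧ 1 < Nat.card (Sylow 11 G) ∧
    ((Nat.card (Subgroup.normalizer ((P : Subgroup G) : Set G)) = 55 ∧
        (P : Subgroup G).relIndex (Subgroup.normalizer ((P : Subgroup G) : Set G)) = 5 ∧
        (Nat.card G = 660 ∨ Nat.card G = 7920 ∨ Nat.card G = 95040 ∨ Nat.card G = 1140480)) ∨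
      (Nat.card (Subgroup.normalizer ((P : Subgroup G) : Set G)) = 110 ∧
        (Nat.card G = 15840 ∨ Nat.card G = 190080))) := by
  have h2t : IsMultiplyPretransitive G α 2 :=
    (Cfsg.Agent.S0675.result (by rw [hα]; norm_num) G).resolve_left hG
  have hprim : IsPreprimitive G α := isPreprimitive_of_is_two_pretransitive h2t
  obtain ⟨hP11, d, n, hd, hrel, hN, hn, hn11, hn1, hnG⟩ := sylow11_cases hα G h2t hG P
  obtain ⟨x⟩ : Nonempty (Fin 2 ↪ α) :=
    Function.Embedding.nonempty_of_card_le (by rw [Fintype.card_fin, hα]; norm_num)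
  have hGK := card_eq_mul_stab hα G h2t x
  set k := Nat.card (stabilizer G x) with hk
  have hdvd := card_dvd_factorial hα G
  have h7 := not_seven_dvd hα G hprim hA
  have h25 := not_25_dvd hα G hprim hA
  have hk1 : k ∣ 362880 := by
    rw [hGK] at hdvd
    exact (Nat.mul_dvd_mul_iff_left (by norm_num : 0 < 110)).1 (by simpa using hdvd)
  have hk7 : ¬ 7 ∣ k := fun h => h7 (by rw [hGK]; exact Dvd.dvd.mul_left h _)
  have hk5 : ¬ 5 ∣ k := by
    rintro ⟨j, hj⟩
    apply h25
    rw [hGK, hj]
    exact ⟨22 * j, by ring⟩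
  have hk2 : k ∣ 10368 := by
    have hcop : Nat.Coprime k 35 := by
      rw [show (35 : ℕ) = 5 * 7 by norm_num]
      apply Nat.Coprime.mul_right
      · exact ((Nat.Prime.coprime_iff_not_dvd (by norm_num : Nat.Prime 5)).mpr hk5).symm
      · exact ((Nat.Prime.coprime_iff_not_dvd (by norm_num : Nat.Prime 7)).mpr hk7).symm
    have : k ∣ 35 * 10368 := by norm_num; exact hk1
    exact hcop.dvd_of_dvd_mul_left this
  have hn1' : 1 < Nat.card (Sylow 11 G) := by
    rw [hn]
    have : 0 < n := by
      rcases Nat.eq_zero_or_pos n with h | h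
      · rw [h] at hn11; omega
      · exact h
    omega
  refine ⟨h2t, hP11, hn1', ?_⟩
  rcases hd with rfl | rfl
  · left
    refine ⟨hN, hrel, ?_⟩
    have hn2 : n = 2 * k := by
      rw [hGK] at hnG
      omega
    rw [hn2] at hn11
    rcases arith_five hk2 hn11 with h | h | h | h <;> rw [hGK, h] <;> simp
  · right
    refine ⟨hN, ?_⟩
    have hn2 : n = k := by
      rw [hGK] at hnG
      omega
    rw [hn2] at hn11 hn1
    have h3t : IsMultiplyPretransitive G α 3 :=
      Cfsg.Agent.S0676.result hα G hG P (by rw [hN]; exact ⟨55, by norm_num⟩)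
    -- `990` divides the order
    obtain ⟨y⟩ : Nonempty (Fin 3 ↪ α) :=
      Function.Embedding.nonempty_of_card_le (by rw [Fintype.card_fin, hα]; norm_num)
    have h990 : 990 ∣ Nat.card G := by
      have h1 : (stabilizer G y).index = Nat.card (Fin 3 ↪ α) :=
        @index_stabilizer_of_transitive G (Fin 3 ↪ α) _ _ y h3t
      have h2 : Nat.card (Fin 3 ↪ α) = 990 := by
        rw [Nat.card_eq_fintype_card, Fintype.card_embedding_eq, Fintype.card_fin, hα]
        rfl
      rw [← h2, ← h1]
      exact Subgroup.index_dvd_card _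
    rcases arith_ten hk2 hn11 with h | h | h | h
    · exact absurd h hn1
    · exfalso
      rw [hGK, h] at h990
      omega
    · left; rw [hGK, h]
    · right; rw [hGK, h]

end Cfsg.Agent.Lib.Helper24.Deg11
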