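/- helper24: transitive groups of degree 11 (S0679), part E: the Sylow 5-subgroup -/
import Mathlib
import Cfsg.Agent.Lib.Helper24.Deg11D

set_option autoImplicit false
set_option linter.unusedSectionVars false
set_option linter.style.haveILetI false

namespace Cfsg.Agent.Lib.Helper24.Deg11

open Equiv Equiv.Perm MulAction

variable {α : Type*} [Fintype α] [DecidableEq α]

/-- the centralizer in the symmetric group of an element of type `5, 5` has order `50` -/
theorem card_centralizer_55 (hα : Fintype.card α = 11) (g : Perm α) (hg : g.cycleType = {5, 5}) :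
    Nat.card (Subgroup.centralizer ({g} : Set (Perm α))) = 50 := by
  rw [Equiv.Perm.nat_card_centralizer, hg, hα]
  decide

/-- its intersection with the alternating group has order `25` -/
theorem card_centralizer_55_alt (hα : Fintype.card α = 11) (g : Perm α)
    (hg : g.cycleType = {5, 5}) :
    Nat.card ↥(Subgroup.centralizer ({g} : Set (Perm α)) ⊓ alternatingGroup α) = 25 := by
  haveI : Nontrivial α := by
    rw [← Fintype.one_lt_card_iff_nontrivial, hα]; norm_num
  set C := Subgroup.centralizer ({g} : Set (Perm α)) with hC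
  have h50 := card_centralizer_55 hα g hg
  have hnle : ¬ C ≤ alternatingGroup α := by
    rw [hC, Equiv.Perm.centralizer_le_alternating_iff, hg]
    rintro ⟨-, -, h⟩
    have := h 5
    revert this
    decide
  have hrel : (alternatingGroup α).relIndex C = 2 := by
    have h1 : (alternatingGroup α).relIndex C ∣ 2 := by
      rw [← alternatingGroup.index_eq_two (α := α)]
      exact Subgroup.relIndex_dvd_index_of_normal _ _
    have h2 : (alternatingGroup α).relIndex C ≠ 1 := by
      rw [Ne, Subgroup.relIndex_eq_one]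
      exact hnle
    have h3 : (alternatingGroup α).relIndex C ≤ 2 := Nat.le_of_dvd (by norm_num) h1
    have h4 : 0 < (alternatingGroup α).relIndex C := Nat.pos_of_dvd_of_pos h1 (by norm_num)
    omega
  have hmul := Subgroup.relIndex_mul_relIndex ⊥ (C ⊓ alternatingGroup α) C bot_le inf_le_left
  rw [Subgroup.relIndex_bot_left, Subgroup.relIndex_bot_left, h50, inf_comm,
    Subgroup.inf_relIndex_right, hrel] at hmul
  rw [inf_comm]
  omega

/-- Sylow 5 data -/
theorem sylow5_data (hα : Fintype.card α = 11) (G : Subgroup (Perm α)) [Fact (Nat.Prime 5)]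
    (h2t : IsMultiplyPretransitive G α 2) (hA : ¬ alternatingGroup α ≤ G) (Q : Sylow 5 G) :
    Nat.card Q = 5 ∧ ∃ c r n : ℕ, (c = 1 ∨ c = 2) ∧ r ∣ 4 ∧
      Nat.card (Subgroup.centralizer ((Q : Subgroup G) : Set G)) = 5 * c ∧
      Nat.card (Subgroup.normalizer ((Q : Subgroup G) : Set G)) = 5 * c * r ∧
      Nat.card (Sylow 5 G) = n ∧ n % 5 = 1 ∧ n * (5 * c * r) = Nat.card G ∧
      (G ≤ alternatingGroup α → c = 1) := by
  have hprim : IsPreprimitive G α := isPreprimitive_of_is_two_pretransitive h2t
  obtain ⟨x⟩ : Nonempty (Fin 2 ↪ α) :=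
    Function.Embedding.nonempty_of_card_le (by rw [Fintype.card_fin, hα]; norm_num)
  have hGK := card_eq_mul_stab hα G h2t x
  have h25 := not_25_dvd hα G hprim hA
  have h5G : 5 ∣ Nat.card G := by rw [hGK]; exact Dvd.dvd.mul_right (by norm_num) _
  have hQ5 : Nat.card Q = 5 := by
    obtain ⟨k, hk⟩ := Q.2.exists_card_eq
    have h1 : 5 ∣ Nat.card Q := Q.dvd_card_of_dvd_card h5G
    have h2 : Nat.card Q ∣ Nat.card G := Subgroup.card_subgroup_dvd_card _
    rw [hk] at h1 h2 ⊢
    have hk1 : k ≠ 0 := by
      rintro rfl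
      norm_num at h1
    have hk2 : k < 2 := by
      by_contra hcon
      push Not at hcon
      exact h25 ((pow_dvd_pow 5 hcon).trans h2)
    have : k = 1 := by omega
    rw [this, pow_one]
  refine ⟨hQ5, ?_⟩
  obtain ⟨q, hq⟩ := exists_prime_orderOf_dvd_card' (G := Q) 5 (by rw [hQ5])
  have hqQ : (q : G) ∈ (Q : Subgroup G) := q.2
  have hoq : orderOf (((q : G)) : Perm α) = 5 := by
    rw [Subgroup.orderOf_coe, Subgroup.orderOf_coe, hq]
  obtain ⟨hct, -⟩ := cycleType_of_order_five hα hprim hA (q : G).2 hoq
  set C := Subgroup.centralizer ((Q : Subgroup G) : Set G) with hC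
  set N := Subgroup.normalizer ((Q : Subgroup G) : Set G) with hN
  have hmaple : C.map G.subtype ≤ Subgroup.centralizer ({((q : G) : Perm α)} : Set (Perm α)) := by
    rintro _ ⟨g, hg, rfl⟩
    rw [Subgroup.mem_centralizer_singleton_iff]
    have h := hg (q : G) hqQ
    have h' := congrArg (fun z : G => (z : Perm α)) h
    simp only [Subgroup.coe_mul] at h'
    exact h'.symm
  have hcardmap : Nat.card (C.map G.subtype) = Nat.card C :=
    Subgroup.card_map_of_injective G.subtype_injective
  have hC50 : Nat.card C ∣ 50 := by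
    rw [← hcardmap, ← card_centralizer_55 hα _ hct]
    exact Subgroup.card_dvd_of_le hmaple
  haveI : IsCyclic Q := isCyclic_of_prime_card hQ5
  have hQC : (Q : Subgroup G) ≤ C := Subgroup.le_centralizer _
  have h5C : 5 ∣ Nat.card C := by
    have := Subgroup.card_dvd_of_le hQC
    rwa [hQ5] at this
  have h25C : ¬ 25 ∣ Nat.card C := fun h => h25 (h.trans (Subgroup.card_subgroup_dvd_card _))
  obtain ⟨c, hc⟩ := h5C
  have hc12 : c = 1 ∨ c = 2 := by
    rw [hc] at hC50 h25C
    have hc10 : c ∣ 10 := by
      have : 5 * c ∣ 5 * 10 := by norm_num; exact hC50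
      exact (Nat.mul_dvd_mul_iff_left (by norm_num : 0 < 5)).1 this
    have hle : c ≤ 10 := Nat.le_of_dvd (by norm_num) hc10
    have hpos : 0 < c := Nat.pos_of_dvd_of_pos hc10 (by norm_num)
    have h5c : ¬ 5 ∣ c := by
      rintro ⟨j, hj⟩
      exact h25C ⟨j, by rw [hj]; ring⟩
    interval_cases c <;> omega
  have hrel := relIndex_dvd_pred G (Q : Subgroup G) hQ5
  rw [← hC, ← hN] at hrel
  set r := C.relIndex N with hr
  have hNcard : Nat.card N = 5 * c * r := by
    have h1 := Subgroup.relIndex_mul_relIndex ⊥ C N bot_le (Subgroup.centralizer_le_normalizer _)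
    rw [Subgroup.relIndex_bot_left, Subgroup.relIndex_bot_left, hc] at h1
    exact h1.symm
  have hn1 : Nat.card (Sylow 5 G) ≡ 1 [MOD 5] := card_sylow_modEq_one 5 G
  have hn2 : Nat.card (Sylow 5 G) = N.index := Sylow.card_eq_index_normalizer Q
  refine ⟨c, r, Nat.card (Sylow 5 G), hc12, hrel, hc, hNcard, rfl, hn1, ?_, ?_⟩
  · rw [← hNcard, hn2]
    exact Subgroup.index_mul_card N
  · intro hle
    have hmaple2 : C.map G.subtype ≤
        Subgroup.centralizer ({((q : G) : Perm α)} : Set (Perm α)) ⊓ alternatingGroup α := by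
      apply le_inf hmaple
      rintro _ ⟨g, -, rfl⟩
      exact hle g.2
    have h1 := Subgroup.card_dvd_of_le hmaple2
    rw [hcardmap, card_centralizer_55_alt hα _ hct, hc] at h1
    rcases hc12 with rfl | rfl
    · rfl
    · omega

end Cfsg.Agent.Lib.Helper24.Deg11
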