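/- helper24: transitive groups of degree 11 (S0679), part F: the possible orders are 660, 7920 and
(to be excluded later) 15840 -/
import Mathlib
import Cfsg.Agent.Lib.Helper24.Deg11E

set_option autoImplicit false
set_option linter.unusedSectionVars false
set_option linter.style.haveILetI false

namespace Cfsg.Agent.Lib.Helper24.Deg11

open Equiv Equiv.Perm MulAction

variable {α : Type*} [Fintype α] [DecidableEq α]

/-- a normal subgroup of prime index in a non-solvable 2-transitive group of degree 11 has order
divisible by 110 -/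
theorem dvd_card_of_normal_prime_index (hα : Fintype.card α = 11) (G : Subgroup (Perm α))
    (h2t : IsMultiplyPretransitive G α 2) (hG : ¬ Group.IsSolvable G) (K : Subgroup G) [K.Normal]
    {p : ℕ} (hp : p.Prime) (hK : K.index = p) : 110 ∣ Nat.card K := by
  have hprim : IsPreprimitive G α := isPreprimitive_of_is_two_pretransitive h2t
  have hKb : K ≠ ⊥ := by
    rintro rfl
    rw [Subgroup.index_bot] at hK
    apply hG
    haveI : Fact p.Prime := ⟨hp⟩
    haveI : IsCyclic G := isCyclic_of_prime_card hK
    have hcm : IsMulCommutative G := IsCyclic.isMulCommutative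
    exact Group.isSolvable_of_comm (fun a b => hcm.is_comm.comm a b)
  obtain ⟨htr, -⟩ := eleven_dvd_of_normal hα G hprim K hKb
  set K' : Subgroup (Perm α) := K.map G.subtype with hK'
  have hcard : Nat.card K' = Nat.card K := Subgroup.card_map_of_injective G.subtype_injective
  haveI : IsPretransitive K' α := by
    refine ⟨fun a b => ?_⟩
    obtain ⟨k, hk⟩ := htr.exists_smul_eq a b
    exact ⟨⟨((k : G) : Perm α), ⟨(k : G), k.2, rfl⟩⟩, hk⟩
  have hns : ¬ Group.IsSolvable K' := by
    intro hs
    apply hG
    have hsK : Group.IsSolvable K :=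
      Group.isSolvable_of_isSolvable_injective
        (f := (Subgroup.equivMapOfInjective K G.subtype G.subtype_injective).toMonoidHom)
        (Subgroup.equivMapOfInjective K G.subtype G.subtype_injective).injective
    have hq : Group.IsSolvable (G ⧸ K) := by
      haveI : Fact p.Prime := ⟨hp⟩
      have hc : Nat.card (G ⧸ K) = p := by rw [← Subgroup.index_eq_card, hK]
      haveI : IsCyclic (G ⧸ K) := isCyclic_of_prime_card hc
      have hcm : IsMulCommutative (G ⧸ K) := IsCyclic.isMulCommutative
      exact Group.isSolvable_of_comm (fun a b => hcm.is_comm.comm a b)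
    exact Group.isSolvable_of_ker_le_range K.subtype (QuotientGroup.mk' K)
      (by rw [QuotientGroup.ker_mk', Subgroup.range_subtype])
  have h2t' : IsMultiplyPretransitive K' α 2 :=
    (Cfsg.Agent.S0675.result (by rw [hα]; norm_num) K').resolve_left hns
  obtain ⟨x⟩ : Nonempty (Fin 2 ↪ α) :=
    Function.Embedding.nonempty_of_card_le (by rw [Fintype.card_fin, hα]; norm_num)
  rw [← hcard, card_eq_mul_stab hα K' h2t' x]
  exact Dvd.intro _ rfl

/-- a Sylow 5-subgroup is not self-normalizing -/
theorem card_normalizer_five_ne (hα : Fintype.card α = 11) (G : Subgroup (Perm α))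
    [Fact (Nat.Prime 5)] (h2t : IsMultiplyPretransitive G α 2) (hG : ¬ Group.IsSolvable G)
    (hA : ¬ alternatingGroup α ≤ G) (Q : Sylow 5 G) :
    Nat.card (Subgroup.normalizer ((Q : Subgroup G) : Set G)) ≠ 5 := by
  intro h5
  have hprim : IsPreprimitive G α := isPreprimitive_of_is_two_pretransitive h2t
  obtain ⟨hQ5, -⟩ := sylow5_data hα G h2t hA Q
  have hNQ : (Q : Subgroup G) = Subgroup.normalizer ((Q : Subgroup G) : Set G) := by
    apply Subgroup.eq_of_le_of_card_ge Subgroup.le_normalizer
    rw [h5, hQ5]
  haveI : IsCyclic Q := isCyclic_of_prime_card hQ5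
  have hle : Subgroup.normalizer ((Q : Subgroup G) : Set G) ≤
      Subgroup.centralizer ((Q : Subgroup G) : Set G) := by
    rw [← hNQ]
    exact Subgroup.le_centralizer _
  have hcompl := MonoidHom.ker_transferSylow_isComplement' Q hle
  set Kc := (MonoidHom.transferSylow Q hle).ker with hKc
  have hKcard : Nat.card Kc * Nat.card Q = Nat.card G := hcompl.card_mul_card
  have hidx : Kc.index = 5 := by
    have h1 := Subgroup.card_mul_index Kc
    rw [← hKcard, hQ5] at h1
    have hpos : 0 < Nat.card Kc := Nat.card_pos
    exact Nat.eq_of_mul_eq_mul_left hpos h1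
  have h110 := dvd_card_of_normal_prime_index hα G h2t hG Kc (by norm_num : Nat.Prime 5) hidx
  apply not_25_dvd hα G hprim hA
  rw [← hKcard, hQ5]
  obtain ⟨j, hj⟩ := h110
  exact ⟨22 * j, by rw [hj]; ring⟩

/-- if the Sylow 11-normalizer has odd order then `G` consists of even permutations -/
theorem le_alternating_of_normalizer (hα : Fintype.card α = 11) (G : Subgroup (Perm α))
    [Fact (Nat.Prime 11)] (h2t : IsMultiplyPretransitive G α 2) (hG : ¬ Group.IsSolvable G)
    (P : Sylow 11 G)
    (hN : Nat.card (Subgroup.normalizer ((P : Subgroup G) : Set G)) = 55) :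
    G ≤ alternatingGroup α := by
  haveI : Nontrivial α := by
    rw [← Fintype.one_lt_card_iff_nontrivial, hα]; norm_num
  have hprim : IsPreprimitive G α := isPreprimitive_of_is_two_pretransitive h2t
  set A' : Subgroup G := (alternatingGroup α).subgroupOf G with hA'
  haveI : A'.Normal := by rw [hA']; infer_instance
  have hidx2 : A'.index ∣ 2 := by
    have : A'.index = (alternatingGroup α).relIndex G := rfl
    rw [this, ← alternatingGroup.index_eq_two (α := α)]
    exact Subgroup.relIndex_dvd_index_of_normal _ _
  suffices h : A'.index = 1 by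
    rw [Subgroup.index_eq_one, hA', Subgroup.subgroupOf_eq_top] at h
    exact h
  by_contra hne
  have hidx : A'.index = 2 := by
    have h3 : A'.index ≤ 2 := Nat.le_of_dvd (by norm_num) hidx2
    have h4 : 0 < A'.index := Nat.pos_of_dvd_of_pos hidx2 (by norm_num)
    omega
  have h110 := dvd_card_of_normal_prime_index hα G h2t hG A' Nat.prime_two hidx
  -- a Sylow 11-subgroup of `A'`
  obtain ⟨P₀⟩ : Nonempty (Sylow 11 A') := inferInstance
  have h11A : 11 ∣ Nat.card A' := dvd_trans (by norm_num) h110
  have hP₀ : Nat.card P₀ = 11 := by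
    obtain ⟨k, hk⟩ := P₀.2.exists_card_eq
    have h1 : 11 ∣ Nat.card P₀ := P₀.dvd_card_of_dvd_card h11A
    have h2 : Nat.card P₀ ∣ 39916800 :=
      ((Subgroup.card_subgroup_dvd_card _).trans (Subgroup.card_subgroup_dvd_card _)).trans
        (card_dvd_factorial hα G)
    rw [hk] at h1 h2 ⊢
    have hk1 : k ≠ 0 := by
      rintro rfl
      norm_num at h1
    have hk2 : k < 2 := by
      by_contra hcon
      push Not at hcon
      have : 11 ^ 2 ∣ 39916800 := (pow_dvd_pow 11 hcon).trans h2
      norm_num at this
    have : k = 1 := by omega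
    rw [this, pow_one]
  set H : Subgroup G := (P₀ : Subgroup A').map A'.subtype with hH
  have hHcard : Nat.card H = 11 := by
    rw [hH, Subgroup.card_map_of_injective A'.subtype_injective, hP₀]
  have hfr := Sylow.normalizer_sup_eq_top P₀
  rw [← hH] at hfr
  -- `H` is a Sylow 11-subgroup of `G`
  have hHp : IsPGroup 11 H := IsPGroup.of_card (n := 1) (by rw [hHcard, pow_one])
  obtain ⟨P', hP'⟩ := hHp.exists_le_sylow
  obtain ⟨hP11, d, n, hd, hrel, hNc, hn, hn11, hn1, hnG⟩ := sylow11_cases hα G h2t hG P
  obtain ⟨hP11', d', n', hd', hrel', hNc', hn', hn11', hn1', hnG'⟩ := sylow11_cases hα G h2t hG P'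
  have hHP' : H = (P' : Subgroup G) := by
    apply Subgroup.eq_of_le_of_card_ge hP'
    rw [hHcard, hP11']
  have hnn : n' = n := by rw [← hn', hn]
  have hd5 : d = 5 := by rw [hNc] at hN; omega
  have hdd : d' = d := by
    rw [hnn, ← hnG] at hnG'
    have hn0 : 0 < n := by
      rcases Nat.eq_zero_or_pos n with h | h
      · rw [h] at hn11; omega
      · exact h
    have := Nat.eq_of_mul_eq_mul_left hn0 hnG'
    omega
  have hNH : Nat.card (Subgroup.normalizer (H : Set G)) = 55 := by
    rw [hHP', hNc', hdd, hd5]
  have h1 : A'.index = A'.relIndex (Subgroup.normalizer (H : Set G)) := by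
    have h2 : A'.relIndex ((Subgroup.normalizer (H : Set G)) ⊔ A') =
        A'.relIndex (Subgroup.normalizer (H : Set G)) := Subgroup.relIndex_sup_right _ _
    rw [hfr, Subgroup.relIndex_top_right] at h2
    exact h2
  have h3 : A'.relIndex (Subgroup.normalizer (H : Set G)) ∣ 55 := by
    rw [← hNH]
    exact Subgroup.relIndex_dvd_card _ _
  rw [← h1, hidx] at h3
  omega

end Cfsg.Agent.Lib.Helper24.Deg11
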