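/- helper24: transitive groups of degree 11 (S0679), part G: classification of the orders -/
import Mathlib
import Cfsg.Agent.Lib.Helper24.Deg11F

set_option autoImplicit false
set_option linter.unusedSectionVars false
set_option linter.style.haveILetI false

namespace Cfsg.Agent.Lib.Helper24.Deg11

open Equiv Equiv.Perm MulAction

variable {α : Type*} [Fintype α] [DecidableEq α]

/-- the possible orders -/
theorem classify (hα : Fintype.card α = 11) (G : Subgroup (Perm α)) [Fact (Nat.Prime 11)]
    [Fact (Nat.Prime 5)] [IsPretransitive G α] (hG : ¬ Group.IsSolvable G)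
    (hA : ¬ alternatingGroup α ≤ G) (P : Sylow 11 G) :
    IsMultiplyPretransitive G α 2 ∧ Nat.card P = 11 ∧ 1 < Nat.card (Sylow 11 G) ∧
    (((P : Subgroup G).relIndex (Subgroup.normalizer ((P : Subgroup G) : Set G)) = 5 ∧
        G ≤ alternatingGroup α ∧ (Nat.card G = 660 ∨ Nat.card G = 7920)) ∨
      (Nat.card G = 15840 ∧ ¬ G ≤ alternatingGroup α)) := by
  obtain ⟨h2t, hP11, hn1, hcases⟩ := card_candidates hα G hG hA P
  refine ⟨h2t, hP11, hn1, ?_⟩
  obtain ⟨Q⟩ : Nonempty (Sylow 5 G) := inferInstance
  obtain ⟨hQ5, c, r, n, hc, hr, hC, hN, hn, hn5, hnG, halt⟩ := sylow5_data hα G h2t hA Q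
  have hne := card_normalizer_five_ne hα G h2t hG hA Q
  rw [hN] at hne
  have hr124 : r = 1 ∨ r = 2 ∨ r = 4 := by
    have hle : r ≤ 4 := Nat.le_of_dvd (by norm_num) hr
    have hpos : 0 < r := Nat.pos_of_dvd_of_pos hr (by norm_num)
    interval_cases r <;> omega
  rcases hcases with ⟨hN55, hrel, hord⟩ | ⟨hN110, hord⟩
  · left
    have hle := le_alternating_of_normalizer hα G h2t hG P hN55
    have hc1 := halt hle
    subst hc1
    refine ⟨hrel, hle, ?_⟩
    rcases hord with h | h | h | h
    · left; exact h
    · right; exact h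
    · exfalso
      rw [h] at hnG
      rcases hr124 with rfl | rfl | rfl <;> omega
    · exfalso
      rw [h] at hnG
      rcases hr124 with rfl | rfl | rfl <;> omega
  · right
    rcases hord with h | h
    · refine ⟨h, fun hle => ?_⟩
      have hc1 := halt hle
      subst hc1
      rw [h] at hnG
      rcases hr124 with rfl | rfl | rfl <;> omega
    · exfalso
      rw [h] at hnG
      rcases hc with rfl | rfl <;> rcases hr124 with rfl | rfl | rfl <;> omega

end Cfsg.Agent.Lib.Helper24.Deg11
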