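/- helper24: simple groups of order 7920: ALL irreducible characters of degree 10 take the value
2 or -2 at the involutions (uniformly) and 1 at the elements of order 3 (variant of M11VecB.table_data
with a stronger conclusion; used for S0679) -/
import Mathlib
import Cfsg.Agent.Lib.Helper24.M11ThreeB
import Cfsg.Agent.Lib.Helper5.M11H

set_option autoImplicit false
set_option linter.unusedSectionVars false

namespace Cfsg.Agent.Lib.Helper24.Deg11

open Cfsg Cfsg.Agent.CharLib Cfsg.Agent.Lib.Helper24 Cfsg.Agent.Lib.Helper24.M11Inv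
  Cfsg.Agent.Lib.Helper24.M11Three
open scoped ComplexConjugate

universe u

variable {G : Type u} [Group G] [Finite G]

set_option maxHeartbeats 3200000 in
/-- simple groups of order `7920`: every irreducible character of degree `10` has value `2` at all
involutions or value `-2` at all involutions, and value `1` at the elements of order `3`. -/
theorem table_ten [IsSimpleGroup G] (hord : Nat.card G = 7920) (ψ : IrrCharacter G)
    (hψ : charDegree (ψ : G → ℂ) = 10) :
    ((∀ t : G, orderOf t = 2 → (ψ : G → ℂ) t = 2) ∨ (∀ t : G, orderOf t = 2 → (ψ : G → ℂ) t = -2)) ∧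
      (∀ z : G, orderOf z = 3 → (ψ : G → ℂ) z = 1) := by
  classical
  let _ : Fintype G := Fintype.ofFinite G
  let _ : Fintype (IrrCharacter G) := fintypeIrr G
  have hperf := Cfsg.Agent.Lib.Helper24.Ord7920.perfect_of_simple_7920 hord
  have : Fact (Nat.Prime 2) := ⟨Nat.prime_two⟩
  obtain ⟨t0, ht0⟩ := exists_prime_orderOf_dvd_card' (G := G) 2 (by rw [hord]; norm_num)
  obtain ⟨y, u, hy, hu, huy, hnc, hcent⟩ := exists_eleven_data hord
  choose s m hs hsm hs44 using eleven_value hy hu huy hnc hcent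
  have hM := Cfsg.Agent.Lib.Helper5.M11.degrees_multiset hord
  obtain ⟨x0, x1, x2, x3, x4, x5, x6, x7, x8, x9, ⟨d0, d1, d2, d3, d4, d5, d6, d7, d8, d9⟩, hval⟩ :=
    exists_ten (fun χ : IrrCharacter G => charDegree (χ : G → ℂ)) 11 44 55 10 10 10 45 1 16 16 hM
  have hsum := fun F : IrrCharacter G → ℤ => sum_ten x0 x1 x2 x3 x4 x5 x6 x7 x8 x9 hval F
  obtain ⟨v11, v44, v55, v10, v45, v1, v16⟩ := sval_vals
  have s0 : s x0 = 0 := by
    rw [s_eq_sval _ _ _ (hsm x0) (hs44 x0) (by rw [d0]; norm_num), d0, v11]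
  have s1 : s x1 = 0 := by
    rw [s_eq_sval _ _ _ (hsm x1) (hs44 x1) (by rw [d1]; norm_num), d1, v44]
  have s2 : s x2 = 0 := by
    rw [s_eq_sval _ _ _ (hsm x2) (hs44 x2) (by rw [d2]; norm_num), d2, v55]
  have s3 : s x3 = -2 := by
    rw [s_eq_sval _ _ _ (hsm x3) (hs44 x3) (by rw [d3]; norm_num), d3, v10]
  have s4 : s x4 = -2 := by
    rw [s_eq_sval _ _ _ (hsm x4) (hs44 x4) (by rw [d4]; norm_num), d4, v10]
  have s5 : s x5 = -2 := by
    rw [s_eq_sval _ _ _ (hsm x5) (hs44 x5) (by rw [d5]; norm_num), d5, v10]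
  have s6 : s x6 = 2 := by
    rw [s_eq_sval _ _ _ (hsm x6) (hs44 x6) (by rw [d6]; norm_num), d6, v45]
  have s7 : s x7 = 2 := by
    rw [s_eq_sval _ _ _ (hsm x7) (hs44 x7) (by rw [d7]; norm_num), d7, v1]
  have s8 : s x8 = -1 := by
    rw [s_eq_sval _ _ _ (hsm x8) (hs44 x8) (by rw [d8]; norm_num), d8, v16]
  have s9 : s x9 = -1 := by
    rw [s_eq_sval _ _ _ (hsm x9) (hs44 x9) (by rw [d9]; norm_num), d9, v16]
  have hyi : orderOf y⁻¹ = 11 := by rw [orderOf_inv, hy]
  -- the column of an involution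
  have colT : ∀ t : G, orderOf t = 2 → ∃ c : IrrCharacter G → ℤ,
      (∀ χ : IrrCharacter G, (χ : G → ℂ) t = (c χ : ℂ)) ∧ c x0 = 3 ∧ c x1 = 4 ∧ c x2 = -1 ∧
      c x6 = -3 ∧ c x7 = 1 ∧ c x8 = 0 ∧ c x9 = 0 ∧
      ((c x3 = 2 ∧ c x4 = -2 ∧ c x5 = -2) ∨ (c x3 = -2 ∧ c x4 = 2 ∧ c x5 = -2) ∨
        (c x3 = -2 ∧ c x4 = -2 ∧ c x5 = 2)) := by
    intro t ht
    choose c j hc hcj hcb using invol_value hperf t ht
    refine ⟨c, hc, ?_⟩
    have ht1 : t ≠ 1 := by
      intro h
      rw [h, orderOf_one] at ht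
      omega
    have hty : ¬ IsConj t y := by
      intro h
      have := orderOf_eq_of_isConj h
      rw [ht, hy] at this
      omega
    have hty' : ¬ IsConj t y⁻¹ := by
      intro h
      have := orderOf_eq_of_isConj h
      rw [ht, hyi] at this
      omega
    have hp1 : ∀ a b : G, ¬ IsConj (a * t * a⁻¹ * (b * t * b⁻¹)) y :=
      fun a b => not_isConj_mul_invol hord t y ht hy a b
    have hp2 : ∀ a b : G, ¬ IsConj (a * t * a⁻¹ * (b * t * b⁻¹)) y⁻¹ :=
      fun a b => not_isConj_mul_invol hord t y⁻¹ ht hyi a b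
    have Eb := eq_b t ht1 c hc
    have Ee := eq_e t c hc
    have Ec := eq_c t y hty hty' c s hc hs
    have Ed := eq_d t y hp1 hp2 c s hc hs
    rw [hsum] at Eb Ee Ec Ed
    rw [hord] at Ed
    rw [d0, d1, d2, d3, d4, d5, d6, d7, d8, d9] at Eb Ed
    rw [s0, s1, s2, s3, s4, s5, s6, s7, s8, s9] at Ec Ed
    norm_num at Ed
    have k0 := hcj x0
    have k1 := hcj x1
    have k2 := hcj x2
    have k3 := hcj x3
    have k4 := hcj x4
    have k5 := hcj x5
    have k6 := hcj x6
    have k7 := hcj x7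
    have k8 := hcj x8
    have k9 := hcj x9
    have b0 := hcb x0
    have b1 := hcb x1
    have b2 := hcb x2
    have b3 := hcb x3
    have b4 := hcb x4
    have b5 := hcb x5
    have b6 := hcb x6
    have b7 := hcb x7
    have b8 := hcb x8
    have b9 := hcb x9
    rw [d0] at k0 b0
    rw [d1] at k1 b1
    rw [d2] at k2 b2
    rw [d3] at k3 b3
    rw [d4] at k4 b4
    rw [d5] at k5 b5
    rw [d6] at k6 b6
    rw [d7] at k7 b7
    rw [d8] at k8 b8
    rw [d9] at k9 b9
    have hdvd : Nat.card ↥(Subgroup.centralizer ({t} : Set G)) ∣ 7920 := by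
      rw [← hord]; exact Subgroup.card_subgroup_dvd_card _
    obtain ⟨c0, c1, c2, c6, c7, c8, c9, cabc⟩ :=
      column_values (c x0) (c x1) (c x2) (c x3) (c x4) (c x5) (c x6) (c x7) (c x8) (c x9)
      (j x0) (j x1) (j x2) (j x3) (j x4) (j x5) (j x6) (j x7) (j x8) (j x9)
      (by push_cast at k0; linarith) (by push_cast at b0; linarith)
      (by push_cast at k1; linarith) (by push_cast at b1; linarith)
      (by push_cast at k2; linarith) (by push_cast at b2; linarith)
      (by push_cast at k3; linarith) (by push_cast at b3; linarith)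
      (by push_cast at k4; linarith) (by push_cast at b4; linarith)
      (by push_cast at k5; linarith) (by push_cast at b5; linarith)
      (by push_cast at k6; linarith)
      (by push_cast at k7; linarith) (by push_cast at b7; linarith)
      (by push_cast at k8; linarith) (by push_cast at b8; linarith)
      (by push_cast at k9; linarith) (by push_cast at b9; linarith)
      (by push_cast at Eb; linarith) (by linarith) (by linarith)
      (Nat.card ↥(Subgroup.centralizer ({t} : Set G))) (by rw [← Ee]; ring) hdvd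
    exact ⟨c0, c1, c2, c6, c7, c8, c9, cabc⟩
  -- all involutions are conjugate
  have hconj : ∀ a b : G, orderOf a = 2 → orderOf b = 2 → IsConj a b := by
    intro a b ha hb
    obtain ⟨ca, hca, a0, a1, a2, a6, a7, a8, a9, aabc⟩ := colT a ha
    obtain ⟨cb, hcb, e0, e1, e2, e6, e7, e8, e9, eabc⟩ := colT b hb
    by_contra hncj
    have E := eq_orth a b hncj ca cb hca hcb
    rw [hsum, a0, a1, a2, a6, a7, a8, a9, e0, e1, e2, e6, e7, e8, e9] at E
    rcases aabc with ⟨p3, p4, p5⟩ | ⟨p3, p4, p5⟩ | ⟨p3, p4, p5⟩ <;>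
    rcases eabc with ⟨q3, q4, q5⟩ | ⟨q3, q4, q5⟩ | ⟨q3, q4, q5⟩ <;>
    · rw [p3, p4, p5, q3, q4, q5] at E
      norm_num at E
  obtain ⟨c, hc, c0, c1, c2, c6, c7, c8, c9, cabc⟩ := colT t0 ht0
  have ht01 : t0 ≠ 1 := by
    intro h
    rw [h, orderOf_one] at ht0
    omega
  -- the column of an element of order `3`
  have key : ∀ z : G, orderOf z = 3 → ∃ w : IrrCharacter G → ℤ,
      (∀ χ : IrrCharacter G, (χ : G → ℂ) z = (w χ : ℂ)) ∧ w x3 = 1 ∧ w x4 = 1 ∧ w x5 = 1 ∧
      Nat.card ↥(Subgroup.centralizer ({z} : Set G)) = 18 := by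
    intro z hz
    have hr : IsConj z z⁻¹ := by
      obtain ⟨r, -, hr⟩ := Cfsg.Agent.Lib.Helper5.M11.exists_invol_inverting_order_three hord z hz
      exact isConj_iff.mpr ⟨r, hr⟩
    choose w mm hw hwm hwle using real_three_value z hz hr
    refine ⟨w, hw, ?_⟩
    have hz1 : z ≠ 1 := by
      intro h
      rw [h, orderOf_one] at hz
      omega
    have hzt : ¬ IsConj z t0 := by
      intro h
      have := orderOf_eq_of_isConj h
      rw [hz, ht0] at this
      omega
    have hzy : ¬ IsConj z y := by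
      intro h
      have := orderOf_eq_of_isConj h
      rw [hz, hy] at this
      omega
    have hzy' : ¬ IsConj z y⁻¹ := by
      intro h
      have := orderOf_eq_of_isConj h
      rw [hz, hyi] at this
      omega
    have EL := eq_b z hz1 w hw
    have EN := eq_e z w hw
    have EY := eq_c z y hzy hzy' w s hw hs
    have ET := eq_orth z t0 hzt w c hw hc
    obtain ⟨K, EZT⟩ := pair_count z t0 w c hw hc
    obtain ⟨K', EZZ⟩ := pair_count z z w w hw hw
    have hdvdz : Nat.card ↥(Subgroup.centralizer ({z} : Set G)) ∣ 7920 := by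
      rw [← hord]; exact Subgroup.card_subgroup_dvd_card _
    generalize Nat.card ↥(Subgroup.centralizer ({z} : Set G)) = N at EN EZT EZZ hdvdz ⊢
    rw [hsum] at EL EN EY ET EZT EZZ
    rw [hord] at EZT EZZ
    rw [d0, d1, d2, d3, d4, d5, d6, d7, d8, d9] at EL EZT EZZ
    rw [s0, s1, s2, s3, s4, s5, s6, s7, s8, s9] at EY
    rw [c0, c1, c2, c6, c7, c8, c9] at ET EZT
    norm_num at EZT EZZ
    have m0 := hwm x0
    have m1 := hwm x1
    have m2 := hwm x2
    have m3 := hwm x3
    have m4 := hwm x4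
    have m5 := hwm x5
    have m6 := hwm x6
    have m7 := hwm x7
    have m8 := hwm x8
    have m9 := hwm x9
    have l0 := hwle x0
    have l3 := hwle x3
    have l4 := hwle x4
    have l5 := hwle x5
    have l7 := hwle x7
    have l8 := hwle x8
    have l9 := hwle x9
    rw [d0] at m0 l0
    rw [d1] at m1
    rw [d2] at m2
    rw [d3] at m3 l3
    rw [d4] at m4 l4
    rw [d5] at m5 l5
    rw [d6] at m6
    rw [d7] at m7 l7
    rw [d8] at m8 l8
    rw [d9] at m9 l9
    push_cast at m0 m3 m4 m5 m7 m8 m9 l0 l3 l4 l5 l7 l8 l9 EL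
    rcases cabc with ⟨p3, p4, p5⟩ | ⟨p3, p4, p5⟩ | ⟨p3, p4, p5⟩
    · rw [p3, p4, p5] at ET EZT
      obtain ⟨q0, q1, q2, q3, q4, q5, q6, q7, q8, q9, qN⟩ :=
        three_column_unique (w x0) (w x1) (w x2) (w x3) (w x4) (w x5) (w x6) (w x7) (w x8) (w x9)
          (mm x0) (mm x3) (mm x4) (mm x5) (mm x8) (mm x9) (mm x7)
          m0 m3 m4 m5 m8 m9 m7 l7 l0 l3 l4 l5 l8 l9
          (by linarith) (by linarith) (by linarith)
          N (by rw [← EN]; ring) hdvdz K K'
          (by rw [← EZT]; ring) (by rw [← EZZ]; ring)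
      exact ⟨q3, q4, q5, qN⟩
    · rw [p3, p4, p5] at ET EZT
      obtain ⟨q0, q1, q2, q3, q4, q5, q6, q7, q8, q9, qN⟩ :=
        three_column_unique (w x0) (w x1) (w x2) (w x4) (w x3) (w x5) (w x6) (w x7) (w x8) (w x9)
          (mm x0) (mm x4) (mm x3) (mm x5) (mm x8) (mm x9) (mm x7)
          m0 m4 m3 m5 m8 m9 m7 l7 l0 l4 l3 l5 l8 l9
          (by linarith) (by linarith) (by linarith)
          N (by rw [← EN]; ring) hdvdz K K'
          (by rw [← EZT]; ring) (by rw [← EZZ]; ring)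
      exact ⟨q4, q3, q5, qN⟩
    · rw [p3, p4, p5] at ET EZT
      obtain ⟨q0, q1, q2, q3, q4, q5, q6, q7, q8, q9, qN⟩ :=
        three_column_unique (w x0) (w x1) (w x2) (w x5) (w x3) (w x4) (w x6) (w x7) (w x8) (w x9)
          (mm x0) (mm x5) (mm x3) (mm x4) (mm x8) (mm x9) (mm x7)
          m0 m5 m3 m4 m8 m9 m7 l7 l0 l5 l3 l4 l8 l9
          (by linarith) (by linarith) (by linarith)
          N (by rw [← EN]; ring) hdvdz K K'
          (by rw [← EZT]; ring) (by rw [← EZZ]; ring)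
      exact ⟨q4, q5, q3, qN⟩
  -- transport of values along conjugacy
  have hval2 : ∀ (χ : IrrCharacter G) (t : G), orderOf t = 2 → (χ : G → ℂ) t = (χ : G → ℂ) t0 := by
    intro χ t ht
    have hcl : IsClassFunction G (χ : G → ℂ) :=
      IsCharacter.isClassFunction (IsIrrCharacter.isCharacter χ.2)
    exact apply_eq_of_isConj hcl (hconj t t0 ht ht0)
  -- `ψ` is one of `x3, x4, x5`
  have hmem : ψ ∈ (Finset.univ : Finset (IrrCharacter G)).val := Finset.mem_univ_val ψ
  rw [hval] at hmem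
  have hψ345 : ψ = x3 ∨ ψ = x4 ∨ ψ = x5 := by
    simp only [Multiset.mem_coe, List.mem_cons, List.not_mem_nil, or_false] at hmem
    rcases hmem with h | h | h | h | h | h | h | h | h | h
    · rw [h, d0] at hψ; omega
    · rw [h, d1] at hψ; omega
    · rw [h, d2] at hψ; omega
    · exact Or.inl h
    · exact Or.inr (Or.inl h)
    · exact Or.inr (Or.inr h)
    · rw [h, d6] at hψ; omega
    · rw [h, d7] at hψ; omega
    · rw [h, d8] at hψ; omega
    · rw [h, d9] at hψ; omega
  have hthree : ∀ z : G, orderOf z = 3 → (ψ : G → ℂ) z = 1 := by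
    intro z hz
    obtain ⟨w, hw, w3, w4, w5, -⟩ := key z hz
    rcases hψ345 with rfl | rfl | rfl
    · rw [hw, w3]; norm_num
    · rw [hw, w4]; norm_num
    · rw [hw, w5]; norm_num
  refine ⟨?_, hthree⟩
  have hv3 : c x3 = 2 ∨ c x3 = -2 := by
    rcases cabc with ⟨p3, p4, p5⟩ | ⟨p3, p4, p5⟩ | ⟨p3, p4, p5⟩
    · left; exact p3
    · right; exact p3
    · right; exact p3
  have hv4 : c x4 = 2 ∨ c x4 = -2 := by
    rcases cabc with ⟨p3, p4, p5⟩ | ⟨p3, p4, p5⟩ | ⟨p3, p4, p5⟩
    · right; exact p4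
    · left; exact p4
    · right; exact p4
  have hv5 : c x5 = 2 ∨ c x5 = -2 := by
    rcases cabc with ⟨p3, p4, p5⟩ | ⟨p3, p4, p5⟩ | ⟨p3, p4, p5⟩
    · right; exact p5
    · right; exact p5
    · left; exact p5
  have hvψ : c ψ = 2 ∨ c ψ = -2 := by
    rcases hψ345 with rfl | rfl | rfl
    · exact hv3
    · exact hv4
    · exact hv5
  rcases hvψ with h | h
  · left
    intro t ht
    rw [hval2 ψ t ht, hc ψ, h]
    norm_num
  · right
    intro t ht
    rw [hval2 ψ t ht, hc ψ, h]
    norm_num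

end Cfsg.Agent.Lib.Helper24.Deg11
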