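/- helper24: transitive groups of degree 11 (S0679), part I: order 7920 (sharply 4-transitive) and
order 660 (PSL(2,11)) -/
import Mathlib
import Cfsg.Agent.Lib.Helper24.Deg11G
import Cfsg.Agent.Lib.Helper24.Deg11H
import Cfsg.Agent.Lib.Helper2.M11PermB
import Cfsg.Agent.Lib.Lead.PermChar
import Cfsg.Agent.S1013
import Cfsg.Agent.S0498

set_option autoImplicit false
set_option linter.unusedSectionVars false
set_option linter.style.haveILetI false

namespace Cfsg.Agent.Lib.Helper24.Deg11

open Equiv Equiv.Perm MulAction Cfsg Cfsg.Agent.CharLib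

variable {α : Type*} [Fintype α] [DecidableEq α]

/-- simplicity when the index of `P` in its normalizer is `5` -/
theorem simple_of_relIndex (hα : Fintype.card α = 11) (G : Subgroup (Perm α))
    [Fact (Nat.Prime 11)] [IsPretransitive G α] (P : Sylow 11 G)
    (hn : 1 < Nat.card (Sylow 11 G))
    (hrel : (P : Subgroup G).relIndex (Subgroup.normalizer ((P : Subgroup G) : Set G)) = 5) :
    IsSimpleGroup G := by
  apply Cfsg.Agent.S1013.result hα G P hn
  have : ((P : Subgroup G).subgroupOf (Subgroup.normalizer ((P : Subgroup G) : Set G))).index = 5 :=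
    hrel
  rw [this]
  norm_num

/-- order `7920`: sharply `4`-transitive -/
theorem sharp_of_card (hα : Fintype.card α = 11) (G : Subgroup (Perm α)) [IsPretransitive G α]
    (hG : ¬ Group.IsSolvable G) (hA : ¬ alternatingGroup α ≤ G) (hord : Nat.card G = 7920) :
    IsMultiplyPretransitive G α 4 ∧ ∀ x : Fin 4 ↪ α, stabilizer G x = ⊥ := by
  haveI : Fact (Nat.Prime 11) := ⟨by norm_num⟩
  haveI : Fact (Nat.Prime 5) := ⟨by norm_num⟩
  obtain ⟨P⟩ : Nonempty (Sylow 11 G) := inferInstance
  obtain ⟨h2t, hP11, hn1, hcases⟩ := classify hα G hG hA P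
  have hrel : (P : Subgroup G).relIndex (Subgroup.normalizer ((P : Subgroup G) : Set G)) = 5 := by
    rcases hcases with ⟨h, -, -⟩ | ⟨h, -⟩
    · exact h
    · omega
  haveI : IsSimpleGroup G := simple_of_relIndex hα G P hn1 hrel
  have hΩ : Nat.card α = 11 := by rw [Nat.card_eq_fintype_card, hα]
  have hirr : IsIrrCharacter G (fun g : G => (Nat.card (fixedBy α g) : ℂ) - 1) :=
    (isIrrCharacter_card_fixedBy_sub_one_iff (G := G) (X := α) (by rw [hΩ]; norm_num)).mpr h2t
  set ψ : IrrCharacter G := ⟨fun g : G => (Nat.card (fixedBy α g) : ℂ) - 1, hirr⟩ with hψdef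
  have hψ : ∀ g : G, (ψ : G → ℂ) g = (Nat.card (fixedBy α g) : ℂ) - 1 := fun g => rfl
  have hψ1 : (ψ : G → ℂ) 1 = 10 := by
    rw [hψ]
    have : fixedBy α (1 : G) = Set.univ := by
      ext u
      simp
    rw [this, Nat.card_coe_set_eq, Set.ncard_univ, hΩ]
    norm_num
  have hdeg : charDegree (ψ : G → ℂ) = 10 := by
    have h1 := Cfsg.Agent.Lib.Helper24.irr_apply_one ψ
    rw [hψ1] at h1
    exact_mod_cast h1.symm
  obtain ⟨h2, h3⟩ := table_ten hord ψ hdeg
  have hfix2 : ∀ t : G, orderOf t = 2 → Nat.card (fixedBy α t) = 3 := by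
    intro t ht
    rcases h2 with h | h
    · have := h t ht
      rw [hψ] at this
      have h' : (Nat.card (fixedBy α t) : ℂ) = ((3 : ℕ) : ℂ) := by
        push_cast
        linear_combination this
      exact_mod_cast h'
    · exfalso
      have := h t ht
      rw [hψ] at this
      have h' : ((Nat.card (fixedBy α t) + 1 : ℕ) : ℂ) = ((0 : ℕ) : ℂ) := by
        push_cast
        linear_combination this
      have h'' : Nat.card (fixedBy α t) + 1 = 0 := by exact_mod_cast h'
      omega
  have hfix3 : ∀ z : G, orderOf z = 3 → Nat.card (fixedBy α z) = 2 := by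
    intro z hz
    have := h3 z hz
    rw [hψ] at this
    have h' : (Nat.card (fixedBy α z) : ℂ) = ((2 : ℕ) : ℂ) := by
      push_cast
      linear_combination this
    exact_mod_cast h'
  exact ⟨Cfsg.Agent.Lib.Helper2.M11Perm.isMultiplyPretransitive_four hord hΩ hfix2 hfix3 h2t,
    fun x => Cfsg.Agent.Lib.Helper2.M11Perm.stabilizer_four_eq_bot hord hΩ hfix2 hfix3 h2t x⟩

/-- order `660`: `PSL(2,11)` -/
theorem iso_of_card (hα : Fintype.card α = 11) (G : Subgroup (Perm α)) [IsPretransitive G α]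
    (hG : ¬ Group.IsSolvable G) (hA : ¬ alternatingGroup α ≤ G) (hord : Nat.card G = 660) :
    Nonempty (G ≃* Matrix.ProjectiveSpecialLinearGroup (Fin 2) (ZMod 11)) := by
  haveI : Fact (Nat.Prime 11) := ⟨by norm_num⟩
  haveI : Fact (Nat.Prime 5) := ⟨by norm_num⟩
  obtain ⟨P⟩ : Nonempty (Sylow 11 G) := inferInstance
  obtain ⟨h2t, hP11, hn1, hcases⟩ := classify hα G hG hA P
  have hrel : (P : Subgroup G).relIndex (Subgroup.normalizer ((P : Subgroup G) : Set G)) = 5 := by
    rcases hcases with ⟨h, -, -⟩ | ⟨h, -⟩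
    · exact h
    · omega
  haveI : IsSimpleGroup G := simple_of_relIndex hα G P hn1 hrel
  exact Cfsg.Agent.S0498.result 11 (Or.inl rfl) (by rw [hord]; norm_num) (ZMod.card 11)

end Cfsg.Agent.Lib.Helper24.Deg11
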