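/- helper24: transitive groups of degree 11 (S0679), part J: order 15840 is impossible -/
import Mathlib
import Cfsg.Agent.Lib.Helper24.Deg11I

set_option autoImplicit false
set_option linter.unusedSectionVars false
set_option linter.style.haveILetI false

namespace Cfsg.Agent.Lib.Helper24.Deg11

open Equiv Equiv.Perm MulAction Cfsg

variable {α : Type*} [Fintype α] [DecidableEq α]

/-- the even part of `G` as a permutation group -/
theorem even_part (hα : Fintype.card α = 11) (G : Subgroup (Perm α)) [IsPretransitive G α]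
    (hG : ¬ Group.IsSolvable G) (hnA : ¬ G ≤ alternatingGroup α) :
    ∃ G₀ : Subgroup (Perm α), G₀ = G ⊓ alternatingGroup α ∧ IsPretransitive G₀ α ∧
      ¬ Group.IsSolvable G₀ ∧ 2 * Nat.card G₀ = Nat.card G := by
  haveI : Nontrivial α := by
    rw [← Fintype.one_lt_card_iff_nontrivial, hα]; norm_num
  have h2t : IsMultiplyPretransitive G α 2 :=
    (Cfsg.Agent.S0675.result (by rw [hα]; norm_num) G).resolve_left hG
  have hprim : IsPreprimitive G α := isPreprimitive_of_is_two_pretransitive h2t
  set A' : Subgroup G := (alternatingGroup α).subgroupOf G with hA'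
  haveI : A'.Normal := by rw [hA']; infer_instance
  have hidx2 : A'.index ∣ 2 := by
    have : A'.index = (alternatingGroup α).relIndex G := rfl
    rw [this, ← alternatingGroup.index_eq_two (α := α)]
    exact Subgroup.relIndex_dvd_index_of_normal _ _
  have hne : A'.index ≠ 1 := by
    intro h
    rw [Subgroup.index_eq_one, hA', Subgroup.subgroupOf_eq_top] at h
    exact hnA h
  have hidx : A'.index = 2 := by
    have h3 : A'.index ≤ 2 := Nat.le_of_dvd (by norm_num) hidx2
    have h4 : 0 < A'.index := Nat.pos_of_dvd_of_pos hidx2 (by norm_num)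
    omega
  have hKb : A' ≠ ⊥ := by
    intro hb
    rw [hb, Subgroup.index_bot] at hidx
    apply hG
    haveI : Fact (Nat.Prime 2) := ⟨Nat.prime_two⟩
    haveI : IsCyclic G := isCyclic_of_prime_card hidx
    have hcm : IsMulCommutative G := IsCyclic.isMulCommutative
    exact Group.isSolvable_of_comm (fun a b => hcm.is_comm.comm a b)
  obtain ⟨htr, -⟩ := eleven_dvd_of_normal hα G hprim A' hKb
  have hmap : A'.map G.subtype = G ⊓ alternatingGroup α := by
    rw [hA', Subgroup.subgroupOf_map_subtype, inf_comm]
  refine ⟨G ⊓ alternatingGroup α, rfl, ?_, ?_, ?_⟩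
  · refine ⟨fun a b => ?_⟩
    obtain ⟨k, hk⟩ := htr.exists_smul_eq a b
    refine ⟨⟨((k : G) : Perm α), ?_⟩, hk⟩
    rw [← hmap]
    exact ⟨(k : G), k.2, rfl⟩
  · intro hs
    apply hG
    rw [← hmap] at hs
    have hsK : Group.IsSolvable A' :=
      Group.isSolvable_of_isSolvable_injective
        (f := (Subgroup.equivMapOfInjective A' G.subtype G.subtype_injective).toMonoidHom)
        (Subgroup.equivMapOfInjective A' G.subtype G.subtype_injective).injective
    have hq : Group.IsSolvable (G ⧸ A') := by
      haveI : Fact (Nat.Prime 2) := ⟨Nat.prime_two⟩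
      have hc : Nat.card (G ⧸ A') = 2 := by rw [← Subgroup.index_eq_card, hidx]
      haveI : IsCyclic (G ⧸ A') := isCyclic_of_prime_card hc
      have hcm : IsMulCommutative (G ⧸ A') := IsCyclic.isMulCommutative
      exact Group.isSolvable_of_comm (fun a b => hcm.is_comm.comm a b)
    exact Group.isSolvable_of_ker_le_range A'.subtype (QuotientGroup.mk' A')
      (by rw [QuotientGroup.ker_mk', Subgroup.range_subtype])
  · rw [← hmap, Subgroup.card_map_of_injective G.subtype_injective, ← hidx, mul_comm]
    exact Subgroup.card_mul_index A'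

theorem eq_of_card_two {K : Type*} [Group K] (hK : Nat.card K = 2) {a b : K} (ha : a ≠ 1)
    (hb : b ≠ 1) : a = b := by
  obtain ⟨y, -, hy⟩ := (Nat.card_eq_two_iff' (1 : K)).mp hK
  rw [hy a ha, hy b hb]

/-- an odd involution of `G` with at least four fixed points moves exactly six points -/
theorem support_of_odd_involution (hα : Fintype.card α = 11) {G : Subgroup (Perm α)}
    (hprim : IsPreprimitive G α) (hA : ¬ alternatingGroup α ≤ G) {s : Perm α} (hs : s ∈ G)
    (h2 : orderOf s = 2) (hodd : s ∉ alternatingGroup α) (hfix : s.support.card ≤ 7) :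
    s.support.card = 6 := by
  obtain ⟨k, hk1, hk, hk11, hsup⟩ := cycleType_of_prime_order hα Nat.prime_two s h2
  have hk3 : k = 1 ∨ k = 2 ∨ k = 3 := by omega
  rcases hk3 with rfl | rfl | rfl
  · exfalso
    have hc : s.IsCycle := by
      rw [← Equiv.Perm.card_cycleType_eq_one, hk]
      simp
    exact no_prime_cycle hα hprim hA Nat.prime_two (by norm_num) hs hc (by omega)
  · exfalso
    apply hodd
    rw [Equiv.Perm.mem_alternatingGroup, Equiv.Perm.sign_of_cycleType, hk]
    have h6 : (-1 : ℤˣ) ^ 6 = 1 := by decide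
    simpa using h6
  · omega

/-- order `15840` is impossible -/
theorem no_15840 (hα : Fintype.card α = 11) (G : Subgroup (Perm α)) [IsPretransitive G α]
    (hG : ¬ Group.IsSolvable G) (hA : ¬ alternatingGroup α ≤ G) (hord : Nat.card G = 15840)
    (hnA : ¬ G ≤ alternatingGroup α) : False := by
  classical
  have h2t : IsMultiplyPretransitive G α 2 :=
    (Cfsg.Agent.S0675.result (by rw [hα]; norm_num) G).resolve_left hG
  have hprim : IsPreprimitive G α := isPreprimitive_of_is_two_pretransitive h2t
  obtain ⟨G₀, hG₀, htr₀, hns₀, hcard₀⟩ := even_part hα G hG hnA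
  have hle₀ : G₀ ≤ G := by rw [hG₀]; exact inf_le_left
  have hA₀ : ¬ alternatingGroup α ≤ G₀ := fun h => hA (h.trans hle₀)
  have hord₀ : Nat.card G₀ = 7920 := by omega
  obtain ⟨h4₀, hst₀⟩ := sharp_of_card hα G₀ hns₀ hA₀ hord₀
  -- `G` is 4-transitive
  have h4 : IsMultiplyPretransitive G α 4 := by
    refine ⟨fun x y => ?_⟩
    obtain ⟨g, hg⟩ := h4₀.exists_smul_eq x y
    exact ⟨⟨(g : Perm α), hle₀ g.2⟩, hg⟩
  have hst : ∀ x : Fin 4 ↪ α, Nat.card (stabilizer G x) = 2 := by
    intro x
    have h1 : (stabilizer G x).index = Nat.card (Fin 4 ↪ α) :=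
      @index_stabilizer_of_transitive G (Fin 4 ↪ α) _ _ x h4
    have h2 : Nat.card (Fin 4 ↪ α) = 7920 := by
      rw [Nat.card_eq_fintype_card, Fintype.card_embedding_eq, Fintype.card_fin, hα]
      rfl
    have h3 := Subgroup.card_mul_index (stabilizer G x)
    rw [h1, h2, hord] at h3
    omega
  -- an embedding and the involution
  obtain ⟨x⟩ : Nonempty (Fin 4 ↪ α) :=
    Function.Embedding.nonempty_of_card_le (by rw [Fintype.card_fin, hα]; norm_num)
  obtain ⟨s, hs1⟩ : ∃ s : stabilizer G x, s ≠ 1 := by
    by_contra hcon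
    push Not at hcon
    have : Subsingleton (stabilizer G x) := ⟨fun a b => by rw [hcon a, hcon b]⟩
    have := hst x
    rw [Nat.card_unique] at this
    omega
  have hso : orderOf s = 2 := by
    have h1 : orderOf s ∣ 2 := by rw [← hst x]; exact orderOf_dvd_natCard s
    have h2 : orderOf s ≠ 1 := by rw [Ne, orderOf_eq_one_iff]; exact hs1
    have h3 : orderOf s ≤ 2 := Nat.le_of_dvd (by norm_num) h1
    have h4 : 0 < orderOf s := orderOf_pos s
    omega
  set s' : Perm α := ((s : G) : Perm α) with hs'
  have hs'G : s' ∈ G := (s : G).2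
  have hs'o : orderOf s' = 2 := by
    rw [hs', Subgroup.orderOf_coe, Subgroup.orderOf_coe, hso]
  have hsx : ∀ i, s' (x i) = x i := by
    intro i
    have : (s : G) • x = x := s.2
    exact congrArg (fun e : Fin 4 ↪ α => e i) this
  -- `s'` is odd
  have hs'odd : s' ∉ alternatingGroup α := by
    intro hmem
    have hmem₀ : s' ∈ G₀ := by rw [hG₀]; exact ⟨hs'G, hmem⟩
    have hstab : (⟨s', hmem₀⟩ : G₀) ∈ stabilizer G₀ x := by
      rw [mem_stabilizer_iff]
      ext i
      exact hsx i
    rw [hst₀ x, Subgroup.mem_bot] at hstab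
    apply hs1
    apply Subtype.ext
    apply Subtype.ext
    have := congrArg (fun z : G₀ => (z : Perm α)) hstab
    exact this
  -- the support of `s'`
  have hsup7 : s'.support.card ≤ 7 := by
    have h1 : (Finset.univ.map x).card = 4 := by rw [Finset.card_map, Finset.card_univ, Fintype.card_fin]
    have h2 : Disjoint (Finset.univ.map x) s'.support := by
      rw [Finset.disjoint_left]
      intro a ha
      rw [Finset.mem_map] at ha
      obtain ⟨i, -, rfl⟩ := ha
      rw [Equiv.Perm.mem_support, not_not]
      exact hsx i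
    have h3 := Finset.card_union_of_disjoint h2
    have h4 : (Finset.univ.map x ∪ s'.support).card ≤ Fintype.card α := Finset.card_le_univ _
    omega
  have hsup6 := support_of_odd_involution hα hprim hA hs'G hs'o hs'odd hsup7
  -- the fixed points of `s'`
  set F : Finset α := s'.supportᶜ with hF
  have hFcard : F.card = 5 := by rw [hF, Finset.card_compl, hα, hsup6]
  have hFmem : ∀ a, a ∈ F ↔ s' a = a := by
    intro a
    rw [hF, Finset.mem_compl, Equiv.Perm.mem_support, not_not]
  let e : F ≃ Fin 5 := Finset.equivFinOfCardEq hFcard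
  let f : Fin 5 → α := fun i => (e.symm i : α)
  have hfinj : Function.Injective f := by
    intro i j hij
    exact e.symm.injective (Subtype.ext hij)
  have hfF : ∀ i, f i ∈ F := fun i => (e.symm i).2
  have hfsurj : ∀ a ∈ F, ∃ i, f i = a := by
    intro a ha
    exact ⟨e ⟨a, ha⟩, by simp [f]⟩
  let y : Fin 4 ↪ α := ⟨fun i => f i.castSucc, fun i j hij => Fin.castSucc_injective _ (hfinj hij)⟩
  let y' : Fin 4 ↪ α := ⟨fun i => f i.succ, fun i j hij => Fin.succ_injective _ (hfinj hij)⟩
  obtain ⟨g, hg⟩ := h4.exists_smul_eq y y'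
  have hgy : ∀ i : Fin 4, (g : Perm α) (f i.castSucc) = f i.succ := by
    intro i
    exact congrArg (fun e : Fin 4 ↪ α => e i) hg
  -- `g` centralizes `s`
  have hsy' : (s : G) ∈ stabilizer G y' := by
    rw [mem_stabilizer_iff]
    ext i
    exact (hFmem _).mp (hfF _)
  have hconj : g * (s : G) * g⁻¹ ∈ stabilizer G y' := by
    rw [mem_stabilizer_iff]
    ext i
    show (g * (s : G) * g⁻¹ : G) • (y' i) = y' i
    have h1 : (g⁻¹ : G) • (y' i) = y i := by
      rw [inv_smul_eq_iff]
      exact (congrArg (fun e : Fin 4 ↪ α => e i) hg).symm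
    rw [mul_smul, mul_smul, h1]
    have h2 : (s : G) • (y i) = y i := (hFmem _).mp (hfF _)
    rw [h2]
    exact congrArg (fun e : Fin 4 ↪ α => e i) hg
  have hcomm : g * (s : G) * g⁻¹ = (s : G) := by
    have h1 : (⟨g * (s : G) * g⁻¹, hconj⟩ : stabilizer G y') ≠ 1 := by
      intro h
      have h' := congrArg (fun z : stabilizer G y' => (z : G)) h
      simp only [Subgroup.coe_one] at h'
      have : (s : G) = 1 := by
        have h'' : g * (s : G) = g := by
          rw [mul_inv_eq_one] at h'
          exact h'
        exact mul_left_cancel (a := g) (by rw [h'', mul_one])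
      exact hs1 (Subtype.ext this)
    have h2 : (⟨(s : G), hsy'⟩ : stabilizer G y') ≠ 1 := by
      intro h
      have h' := congrArg (fun z : stabilizer G y' => (z : G)) h
      exact hs1 (Subtype.ext h')
    have := eq_of_card_two (hst y') h1 h2
    exact congrArg (fun z : stabilizer G y' => (z : G)) this
  have hcomm' : ∀ a, s' ((g : Perm α) a) = (g : Perm α) (s' a) := by
    intro a
    have h1 : g * (s : G) = (s : G) * g := by
      calc g * (s : G) = (g * (s : G) * g⁻¹) * g := by group
        _ = (s : G) * g := by rw [hcomm]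
    have h2 := congrArg (fun z : G => (z : Perm α) a) h1
    simp only [Subgroup.coe_mul, Equiv.Perm.mul_apply] at h2
    exact h2.symm
  have hgF : ∀ a ∈ F, (g : Perm α) a ∈ F := by
    intro a ha
    rw [hFmem] at ha ⊢
    rw [hcomm', ha]
  -- `g` cycles the five points
  have hstep : ∀ i : Fin 5, (g : Perm α) (f i) = f (i + 1) := by
    have h0 := hgy 0
    have h1 := hgy 1
    have h2 := hgy 2
    have h3 := hgy 3
    have e0 : (g : Perm α) (f 0) = f 1 := h0
    have e1 : (g : Perm α) (f 1) = f 2 := h1
    have e2 : (g : Perm α) (f 2) = f 3 := h2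
    have e3 : (g : Perm α) (f 3) = f 4 := h3
    have e4 : (g : Perm α) (f 4) = f 0 := by
      obtain ⟨j, hj⟩ := hfsurj _ (hgF _ (hfF 4))
      have hinj := (g : Perm α).injective
      fin_cases j
      · exact hj.symm
      · exfalso
        have : f 4 = f 0 := hinj (by rw [← hj, e0]; rfl)
        have := hfinj this
        revert this; decide
      · exfalso
        have : f 4 = f 1 := hinj (by rw [← hj, e1]; rfl)
        have := hfinj this
        revert this; decide
      · exfalso
        have : f 4 = f 2 := hinj (by rw [← hj, e2]; rfl)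
        have := hfinj this
        revert this; decide
      · exfalso
        have : f 4 = f 3 := hinj (by rw [← hj, e3]; rfl)
        have := hfinj this
        revert this; decide
    intro i
    fin_cases i
    · exact e0
    · exact e1
    · exact e2
    · exact e3
    · exact e4
  have hpow : ∀ k : ℕ, ((g : Perm α) ^ k) (f 0) = f (Fin.ofNat 5 k) := by
    intro k
    induction k with
    | zero => rfl
    | succ k ih =>
      rw [pow_succ', Equiv.Perm.mul_apply, ih, hstep]
      congr 1
      apply Fin.ext
      rw [Fin.val_add]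
      show (k % 5 + 1 % 5) % 5 = (k + 1) % 5
      omega
  have h5g : 5 ∣ orderOf (g : Perm α) := by
    have h1 := hpow (orderOf (g : Perm α))
    rw [pow_orderOf_eq_one, Equiv.Perm.one_apply] at h1
    have h2 := hfinj h1
    have h3 := congrArg Fin.val h2
    have h4 : (0 : ℕ) = orderOf (g : Perm α) % 5 := h3
    omega
  -- an element of order `5` commuting with `s'`
  set w : Perm α := (g : Perm α) ^ (orderOf (g : Perm α) / 5) with hw
  have hwo : orderOf w = 5 := orderOf_pow_orderOf_div (orderOf_pos _).ne' h5g
  have hwG : w ∈ G := Subgroup.pow_mem _ g.2 _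
  have hwcomm : ∀ a, s' (w a) = w (s' a) := by
    intro a
    have hc : Commute s' (g : Perm α) := by
      ext b
      simp only [Equiv.Perm.mul_apply]
      exact hcomm' b
    have hc' : Commute s' w := hc.pow_right _
    have := congrArg (fun z : Perm α => z a) hc'.eq
    simpa [Equiv.Perm.mul_apply] using this
  obtain ⟨-, hw10⟩ := cycleType_of_order_five hα hprim hA hwG hwo
  -- `w` preserves the support of `s'`
  have hM : ∀ a, w a ∈ s'.support ↔ a ∈ s'.support := by
    intro a
    rw [Equiv.Perm.mem_support, Equiv.Perm.mem_support, hwcomm]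
    exact w.injective.ne_iff
  set σ : Perm s'.support := w.subtypePerm hM with hσ
  have hw5 : w ^ 5 = 1 := by
    have := pow_orderOf_eq_one w
    rwa [hwo] at this
  have hσ5 : σ ^ 5 ^ 1 = 1 := by
    rw [pow_one, hσ, Equiv.Perm.subtypePerm_pow]
    ext a
    simp [hw5]
  haveI : Fact (Nat.Prime 5) := ⟨by norm_num⟩
  have hmod := Equiv.Perm.card_compl_support_modEq hσ5
  rw [Fintype.card_coe, hsup6] at hmod
  -- a fixed point of `w` in the support of `s'`
  have hne : σ.supportᶜ.Nonempty := by
    rw [← Finset.card_pos]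
    by_contra h0
    have : σ.supportᶜ.card = 0 := by omega
    rw [this] at hmod
    have := hmod
    unfold Nat.ModEq at this
    omega
  obtain ⟨m, hm⟩ := hne
  rw [Finset.mem_compl, Equiv.Perm.mem_support, not_not] at hm
  have hwm : w (m : α) = m := by
    have := congrArg (fun z : s'.support => (z : α)) hm
    simpa [hσ] using this
  have hsm : s' (m : α) ≠ m := Equiv.Perm.mem_support.mp m.2
  have hwsm : w (s' (m : α)) = s' m := by rw [← hwcomm, hwm]
  -- two fixed points of `w`
  have h2fix : 2 ≤ w.supportᶜ.card := by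
    have hsub : ({(m : α), s' (m : α)} : Finset α) ⊆ w.supportᶜ := by
      intro a ha
      rw [Finset.mem_insert, Finset.mem_singleton] at ha
      rw [Finset.mem_compl, Equiv.Perm.mem_support, not_not]
      rcases ha with rfl | rfl
      · exact hwm
      · exact hwsm
    have hc2 : ({(m : α), s' (m : α)} : Finset α).card = 2 := Finset.card_pair hsm.symm
    rw [← hc2]
    exact Finset.card_le_card hsub
  rw [Finset.card_compl, hα, hw10] at h2fix
  omega

end Cfsg.Agent.Lib.Helper24.Deg11
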