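import Cfsg.Agent.Lib.Helper24.FrCGrow
import Cfsg.Agent.Lib.Helper15.FrCS

/-!
# CORE13 (S5679 + S5696; helper17's market): leaf G1 `rt_of_transU` (exact signature)
-/

set_option autoImplicit false
set_option linter.unusedSectionVars false
set_option linter.unusedVariables false

namespace Cfsg.Agent.Lib.Helper24.FrCLeaf

open Module QuadraticMap Matrix Cfsg.Agent.Lib.Helper25.CD Cfsg.Agent.Lib.Helper25.Spin
  Cfsg.Agent.Lib.Helper5.NSMax Cfsg.Agent.Lib.Helper5.PairMax Cfsg.Agent.Lib.Helper17.OC2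
  Cfsg.Agent.Lib.Helper29.FrStd Cfsg.Agent.Lib.Helper11.Mono Cfsg.Agent.Lib.Helper17.FrC

variable {κ : Type} [Fintype κ] [DecidableEq κ] {F : Type*} [Field F] [Fintype F]
  {c : F} {M : Subgroup ↥(Cfsg.isometryGroup F ⇑(stdQ κ F c))}

/-- G1.  `TransU` moves a root of `U` onto any unit vector of `U` -/
theorem rt_of_transU (h : Ctx c M) {U : Submodule F (κ → F)} (hU : TransU c M U) {u v : κ → F} (hu : u ∈ U)
    (hv : v ∈ U) (hru : Rt c M u) (hv1 : v ⬝ᵥ v = 1) : Rt c M v :=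
  gr_rt_of_transU (fun g hg a ha => Cfsg.Agent.Lib.Helper15.FrCLeaf.rt_conj h hg ha) hU hu hv hru hv1

end Cfsg.Agent.Lib.Helper24.FrCLeaf
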