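import Mathlib
import Cfsg.Prelude.Def_ClassicalGeometry
import Cfsg.Prelude.Def_GeometricClasses
import Cfsg.Agent.Lib.Helper5.SpMax
import Cfsg.Agent.Lib.Helper22.C3Defs
import Cfsg.Agent.Lib.Helper22.C3Tool
import Cfsg.Agent.Lib.Helper23.C3E
import Cfsg.Agent.Lib.Helper26.C3Gcore

/-!
# S5804 conjunct (6) GU_3(q).2 < Sp_6(q) (helper22's market `notes/S5804_GU3_leaves.lean`): leaf E3

`exists_sing_of3` = helper13's `exists_sing5` with `exists_nonsing_perp5 … W` replaced by the hypothesis `hE1p x u`.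
Exact signature of the notes file.
-/

set_option autoImplicit false

namespace Cfsg.Agent.Lib.Helper24.GU3Leaf
open Cfsg Matrix Cfsg.Agent.Lib.Helper5 Cfsg.Agent.Lib.Helper5.SpMax Cfsg.Agent.Lib.Helper22.C3
  Cfsg.Agent.Lib.Helper22.C3Leaf Cfsg.Agent.Lib.Helper23.C3Leaf Cfsg.Agent.Lib.Helper26.C3Leaf

variable {F : Type*} [Field F] {m : ℕ}

local notation "𝕍" => (Fin m ⊕ Fin m → F)
local notation "𝕄" => Matrix (Fin m ⊕ Fin m) (Fin m ⊕ Fin m) F

/-- **E3** = helper13's `exists_sing5` with `exists_nonsing_perp5 … W` replaced by `hE1p x u` (u non-singular there). -/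
theorem exists_sing_of3 [Fintype F] (S : CS m F) (h2 : (2 : F) ≠ 0)
    (hE1p : ∀ x u : 𝕍, S.N x ≠ 0 → S.N u ≠ 0 → sympForm m F u x = 0 →
      sympForm m F u (S.J *ᵥ x) = 0 →
      ∃ y : 𝕍, S.N y ≠ 0 ∧ sympForm m F y x = 0 ∧ sympForm m F y (S.J *ᵥ x) = 0 ∧
        sympForm m F y u = 0 ∧ sympForm m F y (S.J *ᵥ u) = 0)
    (x w : 𝕍) (hx : S.N x ≠ 0) (hw : w ≠ 0) (hwx : sympForm m F w x = 0)
    (hwJx : sympForm m F w (S.J *ᵥ x) = 0) :
    ∃ a : 𝕍, S.N a = 0 ∧ sympForm m F a x = 0 ∧ sympForm m F a (S.J *ᵥ x) = 0 ∧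
      sympForm m F w a ≠ 0 := by
  -- a vector `u ⊥ x, J x` with `f(w, u) ≠ 0`
  obtain ⟨u₀, hu₀⟩ := sympForm_nondeg w hw
  set α := sympForm m F u₀ (S.J *ᵥ x) / S.N x with hα
  set β := -(sympForm m F u₀ x) / S.N x with hβ
  set u := u₀ - α • x - β • (S.J *ᵥ x) with hu
  have hux : sympForm m F u x = 0 := by
    rw [hu, sympForm_sub_left, sympForm_sub_left, sympForm_smul_left, sympForm_smul_left,
      sympForm_self, S.form_J_self, hβ]
    field_simp
    ring
  have huJx : sympForm m F u (S.J *ᵥ x) = 0 := by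
    rw [hu, sympForm_sub_left, sympForm_sub_left, sympForm_smul_left, sympForm_smul_left,
      S.form_JJ, sympForm_self, hα]
    have : sympForm m F x (S.J *ᵥ x) = S.N x := rfl
    rw [this]
    field_simp
    ring
  have hwu : sympForm m F w u ≠ 0 := by
    rw [hu, sympForm_sub_right, sympForm_sub_right, sympForm_smul_right, sympForm_smul_right, hwx,
      hwJx, mul_zero, mul_zero, sub_zero, sub_zero]
    exact hu₀
  by_cases hNu : S.N u = 0
  · exact ⟨u, hNu, hux, huJx, hwu⟩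
  -- a non-singular `u'` orthogonal to `x, Jx, u, Ju`
  obtain ⟨u', hNu', p0, p1, p2, p3⟩ := hE1p x u hx hNu hux huJx
  -- rescale by `K`
  obtain ⟨s, t, hst⟩ := exists_norm S (-(S.N u) / S.N u')
  set u'' := S.act s t u' with hu''
  have hNu'' : S.N u'' = -(S.N u) := by
    rw [hu'', N_act, hst]
    field_simp
  have hJu'' : S.J *ᵥ u'' = s • (S.J *ᵥ u') + (t * S.δ) • u' := by
    rw [hu'']
    unfold CS.act
    rw [Matrix.mulVec_add, Matrix.mulVec_smul, Matrix.mulVec_smul, S.JJ, smul_smul]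
  have q2 : sympForm m F u u' = 0 := by rw [sympForm_swap, p2, neg_zero]
  have q3 : sympForm m F u (S.J *ᵥ u') = 0 := by rw [form_J_symm, p3]
  have hβuu'' : sympForm m F u (S.J *ᵥ u'') = 0 := by
    rw [hJu'', sympForm_add_right, sympForm_smul_right, sympForm_smul_right, q2, q3]
    ring
  have hNp : S.N (u + u'') = 0 := by
    rw [N_add, hNu'', hβuu'']
    ring
  have hNm : S.N (u - u'') = 0 := by
    have h1 : u - u'' = u + (-1 : F) • u'' := by rw [neg_one_smul, sub_eq_add_neg]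
    have h3 : S.J *ᵥ ((-1 : F) • u'') = (-1 : F) • (S.J *ᵥ u'') := Matrix.mulVec_smul _ _ _
    have h4 : S.N ((-1 : F) • u'') = S.N u'' := by
      unfold CS.N
      rw [h3, sympForm_smul_left, sympForm_smul_right]
      ring
    rw [h1, N_add, h4, hNu'', h3, sympForm_smul_right, hβuu'']
    ring
  have hu''x : sympForm m F u'' x = 0 := by
    rw [hu'']
    unfold CS.act
    rw [sympForm_add_left, sympForm_smul_left, sympForm_smul_left, p0, S.skew, p1]
    ring
  have hu''Jx : sympForm m F u'' (S.J *ᵥ x) = 0 := by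
    rw [hu'']
    unfold CS.act
    rw [sympForm_add_left, sympForm_smul_left, sympForm_smul_left, p1, S.form_JJ, p0]
    ring
  by_cases hp : sympForm m F w (u + u'') ≠ 0
  · refine ⟨u + u'', hNp, ?_, ?_, hp⟩
    · rw [sympForm_add_left, hux, hu''x, add_zero]
    · rw [sympForm_add_left, huJx, hu''Jx, add_zero]
  · rw [not_not] at hp
    refine ⟨u - u'', hNm, ?_, ?_, ?_⟩
    · rw [sympForm_sub_left, hux, hu''x, sub_zero]
    · rw [sympForm_sub_left, huJx, hu''Jx, sub_zero]
    · intro hm'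
      apply hwu
      rw [sympForm_add_right] at hp
      rw [sympForm_sub_right] at hm'
      have h5 : (2 : F) * sympForm m F w u = 0 := by linear_combination hp + hm'
      exact (mul_eq_zero.mp h5).resolve_left h2

end Cfsg.Agent.Lib.Helper24.GU3Leaf
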