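import Mathlib
import Cfsg.Agent.Lib.Helper24.HKKDefs

/-!
# Higman–Kreknin–Kostrikin: basic lemmas on `lnb`, `brk`, `der`, `lcs` and gradings (helper24, S3779)
-/

set_option autoImplicit false

namespace Cfsg.Agent.Lib.Helper24.HKK

section basic

variable {L : Type*} [LieRing L]

theorem lnb_nil (x : L) : lnb x [] = x := rfl

theorem lnb_cons (x y : L) (l : List L) : lnb x (y :: l) = lnb ⁅x, y⁆ l := rfl

theorem lnb_append_singleton (x : L) (l : List L) (y : L) :
    lnb x (l ++ [y]) = ⁅lnb x l, y⁆ := by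
  simp [lnb, List.foldl_append]

theorem mem_brk {X Y : AddSubgroup L} {x y : L} (hx : x ∈ X) (hy : y ∈ Y) : ⁅x, y⁆ ∈ brk X Y :=
  AddSubgroup.subset_closure ⟨x, hx, y, hy, rfl⟩

theorem brk_le {X Y Z : AddSubgroup L} (h : ∀ x ∈ X, ∀ y ∈ Y, ⁅x, y⁆ ∈ Z) : brk X Y ≤ Z := by
  unfold brk
  rw [AddSubgroup.closure_le]
  rintro z ⟨x, hx, y, hy, rfl⟩
  exact h x hx y hy

theorem brk_mono {X X' Y Y' : AddSubgroup L} (hX : X ≤ X') (hY : Y ≤ Y') :
    brk X Y ≤ brk X' Y' :=
  brk_le fun x hx y hy => mem_brk (hX hx) (hY hy)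

theorem lnb_mem_lcs (x : L) (l : List L) : lnb x l ∈ lcs (⊤ : AddSubgroup L) l.length := by
  induction l using List.reverseRecOn with
  | nil => exact AddSubgroup.mem_top _
  | append_singleton l y ih =>
    rw [lnb_append_singleton, List.length_append, List.length_singleton]
    exact mem_brk ih (AddSubgroup.mem_top _)

theorem der_succ' (M : AddSubgroup L) (k : ℕ) : der M (k + 1) = der (brk M M) k := by
  induction k with
  | zero => rfl
  | succ k ih =>
    show brk (der M (k + 1)) (der M (k + 1)) = brk (der (brk M M) k) (der (brk M M) k)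
    rw [ih]

end basic

section graded

variable {p : ℕ} [NeZero p] {L : Type*} [LieRing L]

theorem Grading.pi_lie_pi (gr : Grading p L) (k a b : ZMod p) (x y : L) :
    gr.π k ⁅gr.π a x, gr.π b y⁆ = if a + b = k then ⁅gr.π a x, gr.π b y⁆ else 0 := by
  split_ifs with h
  · rw [← h, gr.lie]
  · rw [← gr.lie a b x y, gr.orth k (a + b) (fun h' => h h'.symm)]

theorem Grading.lie_eq_sum (gr : Grading p L) (x y : L) :
    ⁅x, y⁆ = ∑ a, ∑ b, ⁅gr.π a x, gr.π b y⁆ := by
  conv_lhs => rw [← gr.sum x, ← gr.sum y]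
  rw [sum_lie]
  refine Finset.sum_congr rfl fun a _ => ?_
  rw [lie_sum]

theorem isGradedSubring_brk (gr : Grading p L) (M : AddSubgroup L) (hM : IsGradedSubring gr M) :
    IsGradedSubring gr (brk M M) := by
  have hle : brk M M ≤ M := brk_le hM.2
  refine ⟨?_, fun x hx y hy => mem_brk (hle hx) (hle hy)⟩
  intro k z hz
  unfold brk at hz
  induction hz using AddSubgroup.closure_induction with
  | mem z hz =>
    obtain ⟨x, hx, y, hy, rfl⟩ := hz
    rw [gr.lie_eq_sum x y, map_sum]
    refine AddSubgroup.sum_mem _ fun a _ => ?_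
    rw [map_sum]
    refine AddSubgroup.sum_mem _ fun b _ => ?_
    rw [gr.pi_lie_pi]
    split_ifs
    · exact mem_brk (hM.1 a x hx) (hM.1 b y hy)
    · exact AddSubgroup.zero_mem _
  | zero => rw [map_zero]; exact AddSubgroup.zero_mem _
  | add a b _ _ ha hb => rw [map_add]; exact AddSubgroup.add_mem _ ha hb
  | neg a _ ha => rw [map_neg]; exact AddSubgroup.neg_mem _ ha

theorem isGradedSubring_top (gr : Grading p L) : IsGradedSubring gr (⊤ : AddSubgroup L) :=
  ⟨fun _ _ _ => AddSubgroup.mem_top _, fun _ _ _ _ => AddSubgroup.mem_top _⟩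

end graded


section more

variable {L : Type*} [LieRing L]

theorem der_mono {M N : AddSubgroup L} (h : M ≤ N) : ∀ s, der M s ≤ der N s
  | 0 => h
  | (s + 1) => brk_mono (der_mono h s) (der_mono h s)

theorem der_add (M : AddSubgroup L) (s : ℕ) : ∀ t, der M (s + t) = der (der M s) t
  | 0 => rfl
  | (t + 1) => by
    show brk (der M (s + t)) (der M (s + t)) = brk (der (der M s) t) (der (der M s) t)
    rw [der_add M s t]

theorem lcs_mono {M N : AddSubgroup L} (h : M ≤ N) : ∀ s, lcs M s ≤ lcs N s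
  | 0 => h
  | (s + 1) => brk_mono (lcs_mono h s) h

theorem brk_bot_left (Y : AddSubgroup L) : brk ⊥ Y = ⊥ := by
  refine le_bot_iff.1 (brk_le fun x hx y _ => ?_)
  rw [AddSubgroup.mem_bot.1 hx, zero_lie]
  exact AddSubgroup.zero_mem _

theorem brk_bot_right (X : AddSubgroup L) : brk X ⊥ = ⊥ := by
  refine le_bot_iff.1 (brk_le fun x _ y hy => ?_)
  rw [AddSubgroup.mem_bot.1 hy, lie_zero]
  exact AddSubgroup.zero_mem _

/-- Bi-additive induction for `brk`: a property of `⁅x, y⁆` for generators extends to closures. -/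
theorem lie_mem_of_closure {S T : Set L} {Z : AddSubgroup L}
    (h : ∀ x ∈ S, ∀ y ∈ T, ⁅x, y⁆ ∈ Z) :
    ∀ x ∈ AddSubgroup.closure S, ∀ y ∈ AddSubgroup.closure T, ⁅x, y⁆ ∈ Z := by
  intro x hx y hy
  induction hx using AddSubgroup.closure_induction with
  | mem x hx =>
    induction hy using AddSubgroup.closure_induction with
    | mem y hy => exact h x hx y hy
    | zero => rw [lie_zero]; exact AddSubgroup.zero_mem _
    | add a b _ _ ha hb => rw [lie_add]; exact AddSubgroup.add_mem _ ha hb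
    | neg a _ ha => rw [lie_neg]; exact AddSubgroup.neg_mem _ ha
  | zero => rw [zero_lie]; exact AddSubgroup.zero_mem _
  | add a b _ _ ha hb => rw [add_lie]; exact AddSubgroup.add_mem _ ha hb
  | neg a _ ha => rw [neg_lie]; exact AddSubgroup.neg_mem _ ha

end more

end Cfsg.Agent.Lib.Helper24.HKK
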