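import Mathlib
import Cfsg.Agent.Lib.Helper24.HKKBasic
import Cfsg.Agent.Lib.Helper9.HKA
import Cfsg.Agent.Lib.Helper26.HKB

/-!
# S3779 (helper24): the graded Higman–Kreknin–Kostrikin theorem, from Kreknin's theorem (helper9's
leaf HKA) and the class recursion (helper26's leaf HKB).
-/

set_option autoImplicit false

namespace Cfsg.Agent.Lib.Helper24.HKK

section main

variable {p : ℕ} [Fact p.Prime] {L : Type*} [LieRing L]

theorem lcs_of_der (gr : Grading p L) : ∀ (k : ℕ) (M : AddSubgroup L), IsGradedSubring gr M →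
    der M k = ⊥ → lcs M (∑ i ∈ Finset.range k, (p - 1) ^ i) = ⊥ := by
  intro k
  induction k with
  | zero =>
    intro M _ h
    simpa [der, lcs] using h
  | succ k ih =>
    intro M hM h
    rw [der_succ'] at h
    have h1 := ih (brk M M) (isGradedSubring_brk gr M hM) h
    have h2 := Cfsg.Agent.Lib.Helper26.HKKLeaf.lcs_of_lcs_brk gr M hM _ h1
    have e : ∑ i ∈ Finset.range (k + 1), (p - 1) ^ i
        = (p - 1) * ∑ i ∈ Finset.range k, (p - 1) ^ i + 1 := by
      rw [Finset.sum_range_succ', Finset.mul_sum]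
      simp [pow_succ, mul_comm]
    rw [e]
    exact h2

/-- The graded form of the Higman–Kreknin–Kostrikin theorem. -/
theorem graded_class (gr : Grading p L) (x : L) (l : List L) (hl : l.length = hkk p) :
    lnb x l = 0 := by
  have h1 := Cfsg.Agent.Lib.Helper9.HKKLeaf.kreknin gr ⊤ (isGradedSubring_top gr)
  have h2 := lcs_of_der gr _ ⊤ (isGradedSubring_top gr) h1
  have h3 := lnb_mem_lcs x l
  rw [hl] at h3
  unfold hkk at h3
  rw [h2] at h3
  exact (AddSubgroup.mem_bot).1 h3

end main

end Cfsg.Agent.Lib.Helper24.HKK
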