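import Mathlib
import Cfsg.Agent.Lib.Helper24.HKKBasic

/-!
# S3779 leaf HP2 (helper24): transfer from graded Lie rings to a Lie ring with an automorphism
of prime order `p` whose trace `1 + φ + … + φ^(p-1)` vanishes and whose additive exponent is prime to `p`.

Base change to `ℤ[ω] = AdjoinRoot (cyclotomic p ℤ)` and eigen-projections.
-/

set_option autoImplicit false

open Cfsg.Agent.Lib.Helper24.HKK

namespace Cfsg.Agent.Lib.Helper24.HKKLeaf


section zmodpow

variable {p : ℕ} [Fact p.Prime]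

theorem sum_zmod_val {B : Type*} [AddCommMonoid B] (f : ℕ → B) :
    ∑ k : ZMod p, f k.val = ∑ i ∈ Finset.range p, f i := by
  haveI : NeZero p := ⟨(Fact.out : p.Prime).ne_zero⟩
  refine Finset.sum_nbij' (fun k => k.val) (fun i => (i : ZMod p)) ?_ ?_ ?_ ?_ ?_
  · intro k _
    exact Finset.mem_range.2 (ZMod.val_lt k)
  · intro i _
    exact Finset.mem_univ _
  · intro k _
    exact ZMod.natCast_zmod_val k
  · intro i hi
    exact ZMod.val_natCast_of_lt (Finset.mem_range.1 hi)
  · intro k _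
    rfl

theorem zpw_add {G : Type*} [Monoid G] {g : G} (hg : g ^ p = 1) (j k : ZMod p) :
    g ^ (j + k).val = g ^ j.val * g ^ k.val := by
  rw [ZMod.val_add, ← pow_add, ← pow_eq_pow_mod _ hg]

theorem zpw_mul {G : Type*} [Monoid G] {g : G} (hg : g ^ p = 1) (j k : ZMod p) :
    g ^ (j * k).val = (g ^ j.val) ^ k.val := by
  rw [ZMod.val_mul, ← pow_mul, ← pow_eq_pow_mod _ hg]

theorem zpw_zero {G : Type*} [Monoid G] (g : G) : g ^ (0 : ZMod p).val = 1 := by
  rw [ZMod.val_zero, pow_zero]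

theorem zpw_one {G : Type*} [Monoid G] (g : G) : g ^ (1 : ZMod p).val = g := by
  haveI : Fact (1 < p) := ⟨(Fact.out : p.Prime).one_lt⟩
  rw [ZMod.val_one, pow_one]

/-- Orthogonality: `∑ₖ g^(j*k) = 0` for `j ≠ 0`. -/
theorem sum_zpw_mul {R : Type*} [Ring R] {g : R} (hN : ∑ i ∈ Finset.range p, g ^ i = 0)
    {j : ZMod p} (hj : j ≠ 0) : ∑ k : ZMod p, g ^ (j * k).val = 0 := by
  rw [← hN, ← sum_zmod_val (p := p) (fun i => g ^ i)]
  exact Fintype.sum_equiv (Equiv.mulLeft₀ j hj) _ _ (fun k => rfl)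

theorem pow_p_eq_one {R : Type*} [Ring R] {g : R} (hN : ∑ i ∈ Finset.range p, g ^ i = 0) :
    g ^ p = 1 := by
  have := mul_geom_sum g p
  rw [hN, mul_zero] at this
  exact (sub_eq_zero.1 this.symm)

end zmodpow

section abstract

variable {p : ℕ} [Fact p.Prime] {A : Type*} [CommRing A] {M : Type*} [LieRing M] [LieAlgebra A M]
variable (ω : A) (Φ : Module.End A M) (m : ℕ)

/-- The eigen-projection for the eigenvalue `ω ^ k`. -/
noncomputable def proj (k : ZMod p) : Module.End A M :=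
  m • ∑ j : ZMod p, ω ^ (-(j * k)).val • Φ ^ j.val

variable {ω Φ}

theorem Phi_mul_proj (hω1 : ω ^ p = 1) (hΦp : Φ ^ p = 1) (k : ZMod p) :
    Φ * proj ω Φ m k = ω ^ k.val • proj ω Φ m k := by
  unfold proj
  rw [mul_smul_comm, smul_comm (ω ^ k.val) m]
  congr 1
  rw [Finset.mul_sum, Finset.smul_sum]
  refine Fintype.sum_equiv (Equiv.addLeft (1 : ZMod p))
    (fun j => Φ * ω ^ (-(j * k)).val • Φ ^ j.val)
    (fun i => ω ^ k.val • ω ^ (-(i * k)).val • Φ ^ i.val) (fun j => ?_)
  show Φ * ω ^ (-(j * k)).val • Φ ^ j.val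
    = ω ^ k.val • ω ^ (-((1 + j) * k)).val • Φ ^ (1 + j).val
  rw [mul_smul_comm, zpw_add hΦp 1 j, zpw_one, smul_smul]
  congr 1
  have e : -(j * k) = k + -((1 + j) * k) := by ring
  rw [e, zpw_add hω1]

theorem pow_apply_of_eigen {c : A} {v : M} (h : Φ v = c • v) (a : ℕ) : (Φ ^ a) v = c ^ a • v := by
  induction a with
  | zero => simp
  | succ a ih =>
    rw [pow_succ, Module.End.mul_apply, h, map_smul, ih, smul_smul, pow_succ, mul_comm]

theorem proj_of_eigen (hω : ∑ i ∈ Finset.range p, ω ^ i = 0) (hm : ∀ u : M, (m * p) • u = u)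
    {k : ZMod p} {v : M} (h : Φ v = ω ^ k.val • v) (i : ZMod p) :
    proj ω Φ m i v = if i = k then v else 0 := by
  have hω1 := pow_p_eq_one hω
  have h1 : ∀ j : ZMod p, ω ^ (-(j * i)).val • (Φ ^ j.val) v = ω ^ ((k - i) * j).val • v := by
    intro j
    rw [pow_apply_of_eigen h, smul_smul, ← zpw_mul hω1, ← zpw_add hω1]
    congr 3
    ring
  unfold proj
  rw [LinearMap.smul_apply, LinearMap.sum_apply]
  simp only [LinearMap.smul_apply]
  rw [Finset.sum_congr rfl (fun j _ => h1 j), ← Finset.sum_smul]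
  split_ifs with hik
  · subst hik
    simp only [sub_self, zero_mul, zpw_zero, Finset.sum_const, Finset.card_univ, ZMod.card]
    rw [nsmul_eq_mul, mul_one, Nat.cast_smul_eq_nsmul, ← mul_nsmul', hm]
  · rw [sum_zpw_mul hω (sub_ne_zero.2 (Ne.symm hik)), zero_smul, smul_zero]

theorem sum_proj (hω : ∑ i ∈ Finset.range p, ω ^ i = 0) (hm : ∀ u : M, (m * p) • u = u) (x : M) :
    ∑ k : ZMod p, proj ω Φ m k x = x := by
  have h1 : ∀ j : ZMod p, ∑ k : ZMod p, ω ^ (-(j * k)).val = if j = 0 then (p : A) else 0 := by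
    intro j
    split_ifs with hj
    · subst hj
      simp
    · have : ∀ k : ZMod p, -(j * k) = (-j) * k := fun k => by ring
      simp only [this]
      exact sum_zpw_mul hω (neg_ne_zero.2 hj)
  unfold proj
  simp only [LinearMap.smul_apply, LinearMap.sum_apply]
  rw [← Finset.smul_sum, Finset.sum_comm]
  simp only [← Finset.sum_smul, h1]
  rw [Finset.sum_eq_single (0 : ZMod p)]
  · rw [if_pos rfl, zpw_zero, Nat.cast_smul_eq_nsmul, Module.End.one_apply, ← mul_nsmul', hm]
  · intro j _ hj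
    rw [if_neg hj, zero_smul]
  · intro h
    exact absurd (Finset.mem_univ _) h

theorem proj_zero (hΦN : ∑ j ∈ Finset.range p, Φ ^ j = 0) (x : M) : proj ω Φ m (0 : ZMod p) x = 0 := by
  unfold proj
  simp only [mul_zero, neg_zero, zpw_zero, one_smul]
  rw [sum_zmod_val (p := p) (fun i => Φ ^ i), hΦN, smul_zero, LinearMap.zero_apply]

theorem Phi_proj (hω1 : ω ^ p = 1) (hΦp : Φ ^ p = 1) (k : ZMod p) (x : M) :
    Φ (proj ω Φ m k x) = ω ^ k.val • proj ω Φ m k x := by
  have := LinearMap.congr_fun (Phi_mul_proj m hω1 hΦp k) x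
  rwa [Module.End.mul_apply, LinearMap.smul_apply] at this

/-- The grading by eigen-projections. -/
noncomputable def gradingOf (hω : ∑ i ∈ Finset.range p, ω ^ i = 0) (hΦp : Φ ^ p = 1)
    (hΦN : ∑ j ∈ Finset.range p, Φ ^ j = 0) (hΦl : ∀ u v : M, Φ ⁅u, v⁆ = ⁅Φ u, Φ v⁆)
    (hm : ∀ u : M, (m * p) • u = u) : Grading p M where
  π k := (proj ω Φ m k).toAddMonoidHom
  idem k x := by
    show proj ω Φ m k (proj ω Φ m k x) = proj ω Φ m k x
    rw [proj_of_eigen m hω hm (Phi_proj m (pow_p_eq_one hω) hΦp k x) k, if_pos rfl]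
  orth j k hjk x := by
    show proj ω Φ m j (proj ω Φ m k x) = 0
    rw [proj_of_eigen m hω hm (Phi_proj m (pow_p_eq_one hω) hΦp k x) j, if_neg hjk]
  sum x := sum_proj m hω hm x
  lie j k x y := by
    show proj ω Φ m (j + k) ⁅proj ω Φ m j x, proj ω Φ m k y⁆ = ⁅proj ω Φ m j x, proj ω Φ m k y⁆
    have hω1 := pow_p_eq_one hω
    have h : Φ ⁅proj ω Φ m j x, proj ω Φ m k y⁆
        = ω ^ (j + k).val • ⁅proj ω Φ m j x, proj ω Φ m k y⁆ := by
      rw [hΦl, Phi_proj m hω1 hΦp, Phi_proj m hω1 hΦp, smul_lie, lie_smul, smul_smul,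
        zpw_add hω1]
    rw [proj_of_eigen m hω hm h (j + k), if_pos rfl]
  zero x := proj_zero m hΦN x

end abstract



section tensor

open TensorProduct

universe u

/-- The scalar extension `A ⊗[ℤ] L`, as a Lie ring (type synonym fixing the instances). -/
def TM (A : Type) [CommRing A] (L : Type u) [LieRing L] : Type u := A ⊗[ℤ] L

variable {L : Type u} [LieRing L] (A : Type) [CommRing A]

noncomputable instance instLieRingTM : LieRing (TM A L) :=
  LieAlgebra.ExtendScalars.instLieRing ℤ A L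

noncomputable instance instLieAlgebraTM : LieAlgebra A (TM A L) :=
  LieAlgebra.ExtendScalars.instLieAlgebra ℤ A L

variable {A}

/-- Pure tensors. -/
def tm (a : A) (x : L) : TM A L := a ⊗ₜ[ℤ] x

theorem tm_lie (a b : A) (x y : L) : ⁅tm a x, tm b y⁆ = tm (a * b) ⁅x, y⁆ :=
  LieAlgebra.ExtendScalars.bracket_tmul ℤ A L L a b x y

theorem tm_induction {P : TM A L → Prop} (h0 : P 0) (ht : ∀ a x, P (tm a x))
    (ha : ∀ u v, P u → P v → P (u + v)) : ∀ u, P u :=
  fun u => TensorProduct.induction_on u h0 ht ha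

theorem tm_add (a : A) (x y : L) : tm a (x + y) = tm a x + tm a y := TensorProduct.tmul_add a x y

theorem tm_zero (a : A) : tm a (0 : L) = 0 := TensorProduct.tmul_zero L a

theorem tm_sum {ι : Type*} (s : Finset ι) (a : A) (f : ι → L) :
    tm a (∑ i ∈ s, f i) = ∑ i ∈ s, tm a (f i) := TensorProduct.tmul_sum a s f

theorem tm_nsmul (k : ℕ) (a : A) (x : L) : tm a (k • x) = k • tm a x :=
  TensorProduct.tmul_smul k a x

variable (A)

/-- Base change of an additive endomorphism of `L`. -/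
noncomputable def bc (φ : L →+ L) : Module.End A (TM A L) :=
  LinearMap.baseChange A φ.toIntLinearMap

variable {A}

theorem bc_tm (φ : L →+ L) (a : A) (x : L) : bc A φ (tm a x) = tm a (φ x) :=
  LinearMap.baseChange_tmul _ _ _

theorem bc_pow_tm (φ : L →+ L) (j : ℕ) (a : A) (x : L) :
    (bc A φ ^ j) (tm a x) = tm a ((⇑φ)^[j] x) := by
  induction j generalizing x with
  | zero => simp
  | succ j ih =>
    rw [pow_succ, Module.End.mul_apply, bc_tm, ih, Function.iterate_succ_apply]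

theorem bc_lie (φ : L →+ L) (hφl : ∀ x y, φ ⁅x, y⁆ = ⁅φ x, φ y⁆) (u v : TM A L) :
    bc A φ ⁅u, v⁆ = ⁅bc A φ u, bc A φ v⁆ := by
  induction u using tm_induction with
  | h0 => simp
  | ht a x =>
    induction v using tm_induction with
    | h0 => simp
    | ht b y => rw [tm_lie, bc_tm, bc_tm, bc_tm, tm_lie, hφl]
    | ha v w hv hw => rw [lie_add, map_add, hv, hw, map_add, lie_add]
  | ha u w hu hw => rw [add_lie, map_add, hu, hw, map_add, add_lie]

theorem bc_pow_p (φ : L →+ L) (p : ℕ) (hφp : ∀ v, (⇑φ)^[p] v = v) : bc A φ ^ p = 1 := by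
  refine LinearMap.ext fun u => ?_
  induction u using tm_induction with
  | h0 => simp
  | ht a x => rw [bc_pow_tm, hφp, Module.End.one_apply]
  | ha u w hu hw => rw [map_add, hu, hw, map_add]

theorem bc_sum_pow (φ : L →+ L) (p : ℕ) (hφN : ∀ v, ∑ j ∈ Finset.range p, (⇑φ)^[j] v = 0) :
    ∑ j ∈ Finset.range p, bc A φ ^ j = 0 := by
  refine LinearMap.ext fun u => ?_
  induction u using tm_induction with
  | h0 => simp
  | ht a x =>
    rw [LinearMap.sum_apply]
    simp only [bc_pow_tm]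
    rw [← tm_sum, hφN, tm_zero, LinearMap.zero_apply]
  | ha u w hu hw => rw [map_add, hu, hw, map_add]

theorem nsmul_tm (k : ℕ) (h : ∀ v : L, k • v = v) (u : TM A L) : k • u = u := by
  induction u using tm_induction with
  | h0 => simp
  | ht a x => rw [← tm_nsmul, h]
  | ha u w hu hw => rw [smul_add, hu, hw]

variable (A)

/-- The embedding `x ↦ 1 ⊗ x`. -/
noncomputable def emb : L →+ TM A L where
  toFun x := tm 1 x
  map_zero' := tm_zero 1
  map_add' := tm_add 1

theorem emb_apply (x : L) : emb A x = tm (1 : A) x := rfl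

theorem emb_lie (x y : L) : emb A ⁅x, y⁆ = ⁅emb A x, emb A y⁆ := by
  rw [emb_apply, emb_apply, emb_apply, tm_lie, mul_one]

theorem emb_lnb (x : L) (l : List L) : emb A (lnb x l) = lnb (emb A x) (l.map (emb A)) := by
  induction l generalizing x with
  | nil => rfl
  | cons y l ih => rw [lnb_cons, ih, emb_lie, List.map_cons, lnb_cons]

theorem emb_injective (r : A →ₗ[ℤ] ℤ) (hr : r 1 = 1) : Function.Injective (emb (L := L) A) := by
  intro x y hxy
  have h := congrArg (fun u : A ⊗[ℤ] L => TensorProduct.lid ℤ L (LinearMap.rTensor L r u)) hxy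
  simpa [emb_apply, tm, hr] using h

end tensor



section final

open Polynomial

theorem root_sum (p : ℕ) {f : ℤ[X]} (hf : f = ∑ i ∈ Finset.range p, X ^ i) :
    ∑ i ∈ Finset.range p, (AdjoinRoot.root f) ^ i = 0 := by
  calc ∑ i ∈ Finset.range p, (AdjoinRoot.root f) ^ i
      = eval₂ (AdjoinRoot.of f) (AdjoinRoot.root f) (∑ i ∈ Finset.range p, X ^ i) := by
        simp [eval₂_finset_sum]
    _ = eval₂ (AdjoinRoot.of f) (AdjoinRoot.root f) f := by rw [← hf]
    _ = 0 := AdjoinRoot.eval₂_root f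

theorem exists_retraction (p : ℕ) [Fact p.Prime] :
    ∃ r : AdjoinRoot (cyclotomic p ℤ) →ₗ[ℤ] ℤ, r 1 = 1 := by
  let pb := AdjoinRoot.powerBasis' (cyclotomic.monic p ℤ)
  have hd : 0 < pb.dim := by
    rw [AdjoinRoot.powerBasis'_dim, natDegree_cyclotomic, Nat.totient_prime Fact.out]
    exact Nat.sub_pos_of_lt (Fact.out : p.Prime).one_lt
  refine ⟨pb.basis.coord ⟨0, hd⟩, ?_⟩
  have : (1 : AdjoinRoot (cyclotomic p ℤ)) = pb.basis ⟨0, hd⟩ := by
    rw [pb.basis_eq_pow]
    simp
  rw [this, Module.Basis.coord_apply, Module.Basis.repr_self, Finsupp.single_eq_same]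

theorem exists_inverse_smul {L : Type*} [AddCommGroup L] (p n : ℕ) (hp : p.Prime)
    (hn : n.Coprime p) (hnL : ∀ v : L, n • v = 0) : ∃ m : ℕ, ∀ v : L, (m * p) • v = v := by
  rcases Nat.lt_or_ge 1 n with h1 | h1
  · obtain ⟨m, -, hm⟩ := Nat.exists_mul_mod_eq_one_of_coprime hn.symm h1
    refine ⟨m, fun v => ?_⟩
    have e : m * p = n * (p * m / n) + 1 := by
      rw [mul_comm m p]
      conv_lhs => rw [← Nat.div_add_mod (p * m) n, hm]
    rw [e, add_nsmul, one_nsmul, mul_comm n, mul_nsmul, hnL, zero_add]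
  · refine ⟨0, fun v => ?_⟩
    have hn1 : n = 1 := by
      rcases Nat.eq_zero_or_pos n with h0 | h0
      · subst h0
        rw [Nat.coprime_zero_left] at hn
        exact absurd hn hp.one_lt.ne'
      · omega
    have := hnL v
    rw [hn1, one_nsmul] at this
    rw [this, smul_zero]

end final


section transfer

open Polynomial

universe u

/-- P2: transfer from graded Lie rings to a Lie ring with an automorphism of order `p`. -/
theorem transfer {L : Type u} [LieRing L] (p : ℕ) [Fact p.Prime] (n : ℕ) (hn : n.Coprime p)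
    (hnL : ∀ v : L, n • v = 0) (φ : L →+ L) (hφl : ∀ x y, φ ⁅x, y⁆ = ⁅φ x, φ y⁆)
    (hφp : ∀ v, (⇑φ)^[p] v = v) (hφN : ∀ v, ∑ j ∈ Finset.range p, (⇑φ)^[j] v = 0) (c : ℕ)
    (H : ∀ (M : Type u) [LieRing M] (_ : Grading p M), ∀ x : M, ∀ l : List M,
      l.length = c → lnb x l = 0) :
    ∀ x : L, ∀ l : List L, l.length = c → lnb x l = 0 := by
  intro x l hl
  obtain ⟨m, hm⟩ := exists_inverse_smul p n Fact.out hn hnL
  obtain ⟨r, hr⟩ := exists_retraction p
  have gr : Grading p (TM (AdjoinRoot (cyclotomic p ℤ)) L) :=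
    gradingOf (ω := AdjoinRoot.root (cyclotomic p ℤ)) (Φ := bc _ φ) m
      (root_sum p (cyclotomic_prime ℤ p)) (bc_pow_p φ p hφp) (bc_sum_pow φ p hφN) (bc_lie φ hφl)
      (nsmul_tm _ hm)
  have h := H (TM (AdjoinRoot (cyclotomic p ℤ)) L) gr (emb _ x) (l.map (emb _))
    (by rw [List.length_map]; exact hl)
  rw [← emb_lnb] at h
  exact emb_injective _ r hr (h.trans (map_zero _).symm)

end transfer

end Cfsg.Agent.Lib.Helper24.HKKLeaf
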