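import Mathlib
import Cfsg.Agent.Lib.Helper24.HKKDefs
import Cfsg.Agent.Lib.Helper24.HP2
import Cfsg.Agent.Lib.Helper8.ThNilpD

/-!
# S3779 (helper24): from a Lie-ring model of the lower central series to the class bound of a finite
group with a fixed-point-free automorphism of prime order (Thompson nilpotency = helper8's ThNilpD,
transfer = leaf HP2).
-/

set_option autoImplicit false

namespace Cfsg.Agent.Lib.Helper24.HKK

universe u

section group

variable {G : Type u} [Group G]

local notation "γ" => Subgroup.lowerCentralSeries (⊤ : Subgroup G)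

theorem iterate_eq_pow (α : MulAut G) (j : ℕ) (g : G) : (⇑α)^[j] g = (α ^ j) g := by
  induction j generalizing g with
  | zero => rfl
  | succ j ih => rw [Function.iterate_succ_apply, ih, pow_succ, MulAut.mul_apply]

theorem aut_mem_lcs (α : MulAut G) (d : ℕ) {x : G} (hx : x ∈ γ d) : α x ∈ γ d := by
  have hchar : (γ d).Characteristic := inferInstance
  have h1 : (γ d).comap α.symm.toMonoidHom = γ d := hchar.fixed α.symm
  rw [← h1, Subgroup.mem_comap]
  simpa using hx

theorem pow_aut_mem_lcs (α : MulAut G) (d j : ℕ) {x : G} (hx : x ∈ γ d) : (α ^ j) x ∈ γ d := by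
  induction j with
  | zero => simpa using hx
  | succ j ih =>
    rw [pow_succ', MulAut.mul_apply]
    exact aut_mem_lcs α d ih

/-- The map `g ↦ g⁻¹ α(g)` is surjective for a fixed-point-free automorphism of a finite
group. -/
theorem exists_inv_mul_eq [Finite G] (α : MulAut G) (hfpf : ∀ g : G, α g = g → g = 1) (x : G) :
    ∃ g : G, g⁻¹ * α g = x := by
  have hinj : Function.Injective (fun g : G => g⁻¹ * α g) := by
    intro g h hgh
    have h1 : α (h * g⁻¹) = h * g⁻¹ := by
      have h2 : g⁻¹ * α g = h⁻¹ * α h := hgh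
      rw [map_mul, map_inv]
      have h3 : α h = h * (g⁻¹ * α g) := by rw [h2]; group
      rw [h3]; group
    have := hfpf _ h1
    exact (mul_inv_eq_one.1 this).symm
  exact Finite.surjective_of_injective hinj x

/-- Telescoping product. -/
theorem prod_range_telescope (α : MulAut G) (g : G) (n : ℕ) :
    ((List.range n).map (fun j => (α ^ j) (g⁻¹ * α g))).prod = g⁻¹ * (α ^ n) g := by
  induction n with
  | zero => simp
  | succ n ih =>
    rw [List.range_succ, List.map_append, List.prod_append, ih]
    simp only [List.map_cons, List.map_nil, List.prod_cons, List.prod_nil, mul_one]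
    rw [map_mul, map_inv, ← MulAut.mul_apply, ← pow_succ]
    group

/-- The norm identity `x α(x) ⋯ α^{p-1}(x) = 1`. -/
theorem prod_range_eq_one [Finite G] (α : MulAut G) (p : ℕ) (hα : α ^ p = 1)
    (hfpf : ∀ g : G, α g = g → g = 1) (x : G) :
    ((List.range p).map (fun j => (α ^ j) x)).prod = 1 := by
  obtain ⟨g, rfl⟩ := exists_inv_mul_eq α hfpf x
  rw [prod_range_telescope, hα]
  simp

/-- The order of the group is prime to `p`. -/
theorem coprime_card [Finite G] (α : MulAut G) (p : ℕ) (hp : p.Prime) (hα : α ^ p = 1)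
    (hfpf : ∀ g : G, α g = g → g = 1) : (Nat.card G).Coprime p := by
  haveI : Fact p.Prime := ⟨hp⟩
  rw [Nat.coprime_comm, Nat.Prime.coprime_iff_not_dvd hp]
  intro hdvd
  -- the cyclic group generated by `α` is a `p`-group acting on `G` with the fixed point `1`
  have hpg : IsPGroup p (Subgroup.zpowers α) := by
    apply IsPGroup.of_card_dvd_pow (n := 1)
    rw [Nat.card_zpowers, pow_one]
    exact orderOf_dvd_of_pow_eq_one hα
  have h1 : (1 : G) ∈ MulAction.fixedPoints (Subgroup.zpowers α) G := by
    intro q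
    exact map_one (q : MulAut G)
  obtain ⟨b, hb, hb1⟩ := hpg.exists_fixed_point_of_prime_dvd_card_of_fixed_point G hdvd h1
  have := hfpf b (hb ⟨α, Subgroup.mem_zpowers α⟩)
  exact hb1 this.symm

/-- If `γ c ≤ γ (c+1)` in a nilpotent group then `γ c = ⊥`. -/
theorem lcs_eq_bot_of_le [hnil : Group.IsNilpotent G] (c : ℕ) (h : γ c ≤ γ (c + 1)) :
    γ c = ⊥ := by
  have key : ∀ m, γ c ≤ γ (c + m) := by
    intro m
    induction m with
    | zero => exact le_rfl
    | succ m ih =>
      calc γ c ≤ γ (c + 1) := h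
        _ = ⁅γ c, ⊤⁆ := rfl
        _ ≤ ⁅γ (c + m), ⊤⁆ := Subgroup.commutator_mono ih le_rfl
        _ = γ (c + m + 1) := rfl
  obtain ⟨n, hn⟩ := nilpotent_iff_lowerCentralSeries.1 hnil
  have h1 : γ (c + n) ≤ γ n :=
    (Subgroup.lowerCentralSeries_antitone (⊤ : Subgroup G)) (Nat.le_add_left n c)
  rw [hn] at h1
  exact le_bot_iff.1 ((key n).trans h1)

end group


section main

variable {G : Type u} [Group G]

local notation "γ" => Subgroup.lowerCentralSeries (⊤ : Subgroup G)

/-- additivity of `ι d` on list products -/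
theorem iota_list_prod {L : Type u} [LieRing L] (ι : ℕ → G → L) (d : ℕ)
    (hmul : ∀ x ∈ γ d, ∀ y ∈ γ d, ι d (x * y) = ι d x + ι d y) (l : List G)
    (hl : ∀ x ∈ l, x ∈ γ d) : ι d l.prod = (l.map (ι d)).sum := by
  have h1 : ι d 1 = 0 := by
    have := hmul 1 (Subgroup.one_mem _) 1 (Subgroup.one_mem _)
    rw [mul_one] at this
    exact left_eq_add.1 this
  induction l with
  | nil => simpa using h1
  | cons a l ih =>
    rw [List.prod_cons, List.map_cons, List.sum_cons,
      hmul a (hl a (by simp)) l.prod (Subgroup.list_prod_mem _ fun x hx => hl x (by simp [hx])),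
      ih fun x hx => hl x (by simp [hx])]

theorem list_sum_map_range {A : Type*} [AddCommMonoid A] (f : ℕ → A) (n : ℕ) :
    ((List.range n).map f).sum = ∑ j ∈ Finset.range n, f j := by
  induction n with
  | zero => simp
  | succ n ih => rw [List.range_succ, List.map_append, List.sum_append, ih, Finset.sum_range_succ]; simp

theorem class_bound_of_model [Finite G] {p : ℕ} [hpf : Fact p.Prime] (α : MulAut G)
    (hα : orderOf α = p) (hfpf : ∀ g : G, α g = g → g = 1) (c : ℕ)
    (Hc : ∀ (M : Type u) [LieRing M] (_ : Grading p M), ∀ x : M, ∀ l : List M,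
      l.length = c → lnb x l = 0)
    (hmodel : ∃ (L : Type u) (_ : LieRing L) (ι : ℕ → G → L),
      (∀ d, ∀ x ∈ (⊤ : Subgroup G).lowerCentralSeries d,
        ∀ y ∈ (⊤ : Subgroup G).lowerCentralSeries d, ι d (x * y) = ι d x + ι d y) ∧
      (∀ d, ∀ x ∈ (⊤ : Subgroup G).lowerCentralSeries d, ι d x = 0 →
        x ∈ (⊤ : Subgroup G).lowerCentralSeries (d + 1)) ∧
      (∀ i j, ∀ x ∈ (⊤ : Subgroup G).lowerCentralSeries i,
        ∀ y ∈ (⊤ : Subgroup G).lowerCentralSeries j,
          ⁅ι i x, ι j y⁆ = ι (i + j + 1) (x * y * x⁻¹ * y⁻¹)) ∧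
      (∀ v : L, v ∈ AddSubgroup.closure
        {v : L | ∃ d, ∃ x ∈ (⊤ : Subgroup G).lowerCentralSeries d, v = ι d x}) ∧
      (∀ α : MulAut G, ∃ φ : L →+ L, (∀ v w, φ ⁅v, w⁆ = ⁅φ v, φ w⁆) ∧
        ∀ d, ∀ x ∈ (⊤ : Subgroup G).lowerCentralSeries d, φ (ι d x) = ι d (α x))) :
    (⊤ : Subgroup G).lowerCentralSeries c = ⊥ := by
  have hp : p.Prime := hpf.out
  have hαp : α ^ p = 1 := by rw [← hα]; exact pow_orderOf_eq_one α
  -- Thompson
  haveI hnil : Group.IsNilpotent G := by
    apply Cfsg.Agent.Lib.Helper8.ThNilp.isNilpotent_of_fpf α.toMonoidHom hp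
    · intro g
      have : (⇑α.toMonoidHom)^[p] g = (⇑α)^[p] g := rfl
      rw [this, iterate_eq_pow, hαp]; rfl
    · exact hfpf
  apply lcs_eq_bot_of_le
  -- the Lie model
  obtain ⟨L, instL, ι, hmul, hker, hlie, hspan, hfun⟩ := hmodel
  obtain ⟨φ, hφl, hφι⟩ := hfun α
  have hι1 : ∀ d, ι d 1 = 0 := by
    intro d
    have := hmul d 1 (Subgroup.one_mem _) 1 (Subgroup.one_mem _)
    rw [mul_one] at this
    exact left_eq_add.1 this
  have hιinv : ∀ d, ∀ x ∈ γ d, ι d x⁻¹ = - ι d x := by
    intro d x hx
    have := hmul d x hx x⁻¹ (Subgroup.inv_mem _ hx)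
    rw [mul_inv_cancel, hι1] at this
    exact eq_neg_of_add_eq_zero_right this.symm
  -- iterates of φ on generators
  have hiter : ∀ j d, ∀ x ∈ γ d, (⇑φ)^[j] (ι d x) = ι d ((α ^ j) x) := by
    intro j
    induction j with
    | zero => intro d x _; simp
    | succ j ih =>
      intro d x hx
      rw [Function.iterate_succ_apply', ih d x hx, hφι d _ (pow_aut_mem_lcs α d j hx), pow_succ',
        MulAut.mul_apply]
  -- a general principle: an additive identity checked on generators
  have hgen : ∀ (P : L → Prop), P 0 → (∀ a b, P a → P b → P (a + b)) → (∀ a, P a → P (-a)) →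
      (∀ d, ∀ x ∈ γ d, P (ι d x)) → ∀ v, P v := by
    intro P h0 hadd hneg hg v
    have hv := hspan v
    induction hv using AddSubgroup.closure_induction with
    | mem z hz =>
      obtain ⟨d, x, hx, rfl⟩ := hz
      exact hg d x hx
    | zero => exact h0
    | add a b _ _ ha hb => exact hadd a b ha hb
    | neg a _ ha => exact hneg a ha
  have hφp : ∀ v, (⇑φ)^[p] v = v := by
    apply hgen
    · exact iterate_map_zero φ p
    · intro a b ha hb; rw [iterate_map_add, ha, hb]
    · intro a ha; rw [iterate_map_neg, ha]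
    · intro d x hx; rw [hiter p d x hx, hαp]; rfl
  have hφN : ∀ v, ∑ j ∈ Finset.range p, (⇑φ)^[j] v = 0 := by
    apply hgen
    · simp [iterate_map_zero]
    · intro a b ha hb
      simp only [iterate_map_add, Finset.sum_add_distrib, ha, hb, add_zero]
    · intro a ha
      simp only [iterate_map_neg, Finset.sum_neg_distrib, ha, neg_zero]
    · intro d x hx
      have h1 := iota_list_prod ι d (hmul d) ((List.range p).map (fun j => (α ^ j) x))
        (by
          intro y hy
          obtain ⟨j, -, rfl⟩ := List.mem_map.1 hy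
          exact pow_aut_mem_lcs α d j hx)
      rw [prod_range_eq_one α p hαp hfpf x, hι1, List.map_map, list_sum_map_range] at h1
      rw [Finset.sum_congr rfl (fun j _ => hiter j d x hx)]
      exact h1.symm
  have hnL : ∀ v : L, Nat.card G • v = 0 := by
    apply hgen
    · simp
    · intro a b ha hb; rw [smul_add, ha, hb, add_zero]
    · intro a ha; rw [smul_neg, ha, neg_zero]
    · intro d x hx
      have h1 := iota_list_prod ι d (hmul d) (List.replicate (Nat.card G) x)
        (by intro y hy; rw [List.eq_of_mem_replicate hy]; exact hx)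
      rw [List.prod_replicate, pow_card_eq_one', hι1, List.map_replicate, List.sum_replicate] at h1
      exact h1.symm
  have hvan := Cfsg.Agent.Lib.Helper24.HKKLeaf.transfer p (Nat.card G) (coprime_card α p hp hαp hfpf) hnL φ hφl hφp hφN c Hc
  -- `ι d` of the `d`-th term lies in the span of the `(d+1)`-fold brackets
  have hbr : ∀ d, ∀ x ∈ γ d, ι d x ∈ AddSubgroup.closure {v : L | ∃ y l, l.length = d ∧ v = lnb y l} := by
    intro d
    induction d with
    | zero =>
      intro x _
      exact AddSubgroup.subset_closure ⟨ι 0 x, [], rfl, rfl⟩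
    | succ d ih =>
      intro x hx
      have hx' : x ∈ Subgroup.closure
          {z | ∃ a ∈ γ d, ∃ g ∈ (⊤ : Subgroup G), a * g * a⁻¹ * g⁻¹ = z} := hx
      induction hx' using Subgroup.closure_induction with
      | mem z hz =>
        obtain ⟨a, ha, g, -, rfl⟩ := hz
        have h1 : ι (d + 1) (a * g * a⁻¹ * g⁻¹) = ⁅ι d a, ι 0 g⁆ :=
          (hlie d 0 a ha g (Subgroup.mem_top g)).symm
        rw [h1]
        have h2 := ih a ha
        generalize ι d a = w at h2
        induction h2 using AddSubgroup.closure_induction with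
        | mem v hv =>
          obtain ⟨y, l, hl, rfl⟩ := hv
          refine AddSubgroup.subset_closure ⟨y, l ++ [ι 0 g], ?_, ?_⟩
          · simp [hl]
          · simp [lnb, List.foldl_append]
        | zero => rw [zero_lie]; exact AddSubgroup.zero_mem _
        | add u v _ _ hu hv => rw [add_lie]; exact AddSubgroup.add_mem _ hu hv
        | neg u _ hu => rw [neg_lie]; exact AddSubgroup.neg_mem _ hu
      | one => rw [hι1]; exact AddSubgroup.zero_mem _
      | mul u v hu hv hu' hv' =>
        rw [hmul (d + 1) u hu v hv]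
        exact AddSubgroup.add_mem _ (hu' hu) (hv' hv)
      | inv u hu hu' =>
        rw [hιinv (d + 1) u hu]
        exact AddSubgroup.neg_mem _ (hu' hu)
  intro x hx
  apply hker c x hx
  have h1 := hbr c x hx
  have h2 : AddSubgroup.closure {v : L | ∃ y l, l.length = c ∧ v = lnb y l} = ⊥ := by
    rw [AddSubgroup.closure_eq_bot_iff]
    rintro v ⟨y, l, hl, rfl⟩
    exact hvan y l hl
  rw [h2] at h1
  exact AddSubgroup.mem_bot.1 h1

end main

end Cfsg.Agent.Lib.Helper24.HKK
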