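/-
helper24: S3928 leaf F (planner helper25): a normal subgroup `N` meeting `JJ a` trivially has
`[N, a]` inside a normal 2-subgroup of the whole group contained in `N` (namely `O_2(N)`).
Baer-Suzuki in the form `Cfsg.Agent.S0200.result`, applied inside `N ⊔ zpowers a`.
-/
import Cfsg.Agent.Lib.Helper25.InvAutDefs
import Cfsg.Agent.Lib.Helper16.PCore
import Cfsg.Agent.S0200

set_option autoImplicit false

namespace Cfsg.Agent.Lib.Helper24.IAF

open Cfsg.Agent.Lib.Helper25.InvAut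

/-- an element of odd order whose square lies in a subgroup lies in that subgroup -/
theorem mem_of_sq_mem_of_odd {H : Type*} [Group H] (N : Subgroup H) {h : H}
    (hodd : Odd (orderOf h)) (hsq : h ^ 2 ∈ N) : h ∈ N := by
  obtain ⟨m, hm⟩ := hodd
  have h1 : h ^ (2 * m + 1) = 1 := by rw [← hm]; exact pow_orderOf_eq_one h
  have h2 : h = (h ^ 2) ^ (m + 1) := by
    rw [← pow_mul]
    have : 2 * (m + 1) = (2 * m + 1) + 1 := by ring
    rw [this, pow_succ, h1, one_mul]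
  rw [h2]
  exact N.pow_mem hsq _

/-- squares of elements of `N ⊔ zpowers a` lie in the normal subgroup `N` when `a * a = 1` -/
theorem sq_mem_of_mem_sup {H : Type*} [Group H] {a : H} (ha : a * a = 1)
    (N : Subgroup H) [N.Normal] {x : H} (hx : x ∈ N ⊔ Subgroup.zpowers a) : x ^ 2 ∈ N := by
  have hle : N ⊔ Subgroup.zpowers a ≤
      (Subgroup.zpowers ((QuotientGroup.mk' N) a)).comap (QuotientGroup.mk' N) := by
    apply sup_le
    · intro y hy
      rw [Subgroup.mem_comap]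
      have : (QuotientGroup.mk' N) y = 1 := by
        rw [QuotientGroup.mk'_apply]
        exact (QuotientGroup.eq_one_iff y).mpr hy
      rw [this]
      exact Subgroup.one_mem _
    · rw [Subgroup.zpowers_le]
      rw [Subgroup.mem_comap]
      exact Subgroup.mem_zpowers _
  have h1 := hle hx
  rw [Subgroup.mem_comap] at h1
  obtain ⟨k, hk⟩ := Subgroup.mem_zpowers_iff.mp h1
  have h2 : ((QuotientGroup.mk' N) a) ^ 2 = 1 := by
    rw [← map_pow, pow_two, ha, map_one]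
  have h3 : ((QuotientGroup.mk' N) x) ^ 2 = 1 := by
    rw [← hk, ← zpow_natCast, ← zpow_mul, mul_comm, zpow_mul, zpow_natCast, h2, one_zpow]
  rw [← map_pow, QuotientGroup.mk'_apply] at h3
  exact (QuotientGroup.eq_one_iff _).mp h3

/-- LEAF F (Baer-Suzuki). -/
theorem exists_normal_two_subgroup {H : Type*} [Group H] [Finite H] {a : H} (ha : a * a = 1)
    (N : Subgroup H) [N.Normal] (hN : ∀ x ∈ JJ a, x ∈ N → x = 1) :
    ∃ P : Subgroup H, P.Normal ∧ P ≤ N ∧ IsPGroup 2 P ∧ ∀ n ∈ N, n * a * n⁻¹ * a⁻¹ ∈ P := by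
  have : Fact (Nat.Prime 2) := ⟨Nat.prime_two⟩
  by_cases ha1 : a = 1
  · subst ha1
    exact ⟨⊥, inferInstance, bot_le, IsPGroup.of_bot, fun n _ => by simp⟩
  have hord : orderOf a = 2 := orderOf_eq_prime (by rw [pow_two]; exact ha) ha1
  have haM : a ∈ N ⊔ Subgroup.zpowers a :=
    (le_sup_right : Subgroup.zpowers a ≤ N ⊔ Subgroup.zpowers a) (Subgroup.mem_zpowers a)
  have hNM : N ≤ N ⊔ Subgroup.zpowers a := le_sup_left
  -- Baer-Suzuki inside `M = N ⊔ zpowers a`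
  have hQ : ∃ Q : Subgroup ↥(N ⊔ Subgroup.zpowers a), Q.Normal ∧ IsPGroup 2 Q ∧
      (⟨a, haM⟩ : ↥(N ⊔ Subgroup.zpowers a)) ∈ Q := by
    by_contra hcon
    have hO : ∀ Q : Subgroup ↥(N ⊔ Subgroup.zpowers a), Q.Normal → IsPGroup 2 Q →
        (⟨a, haM⟩ : ↥(N ⊔ Subgroup.zpowers a)) ∉ Q := by
      intro Q hQn hQp hmem
      exact hcon ⟨Q, hQn, hQp, hmem⟩
    have hordt : orderOf (⟨a, haM⟩ : ↥(N ⊔ Subgroup.zpowers a)) = 2 := by
      rw [Subgroup.orderOf_mk]; exact hord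
    obtain ⟨h, hne, hodd, hinv⟩ := Cfsg.Agent.S0200.result _ hordt hO
    have hodd' : Odd (orderOf (h : H)) := by
      rw [Subgroup.orderOf_coe]; exact hodd
    have hinv' : a * (h : H) * a⁻¹ = (h : H)⁻¹ := by
      have := congrArg Subtype.val hinv
      simpa using this
    have hhN : (h : H) ∈ N :=
      mem_of_sq_mem_of_odd N hodd' (sq_mem_of_mem_sup ha N h.2)
    have h1 : (h : H) = 1 := hN _ ⟨hodd', hinv'⟩ hhN
    exact hne (Subtype.ext h1)
  obtain ⟨Q, hQn, hQp, haQ⟩ := hQ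
  -- the normal 2-subgroup `R = Q ∩ N` of `N`
  have hRn : (Q.comap (Subgroup.inclusion hNM)).Normal := hQn.comap _
  have hRp : IsPGroup 2 (Q.comap (Subgroup.inclusion hNM)) :=
    hQp.comap_of_injective _ (Subgroup.inclusion_injective hNM)
  have hRle : Q.comap (Subgroup.inclusion hNM) ≤ Cfsg.pCore 2 ↥N :=
    Cfsg.Agent.Lib.Helper16.le_pCore hRn hRp
  refine ⟨(Cfsg.pCore 2 ↥N).map N.subtype, ?_, Subgroup.map_subtype_le _, ?_, ?_⟩
  · exact ConjAct.normal_of_characteristic_of_normal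
  · exact (Cfsg.Agent.Lib.Helper16.pCore_isPGroup (G := ↥N) (p := 2)).map _
  · intro n hn
    have hxN : n * a * n⁻¹ * a⁻¹ ∈ N := by
      have h1 : a * n⁻¹ * a⁻¹ ∈ N := ‹N.Normal›.conj_mem _ (N.inv_mem hn) a
      have h2 : n * a * n⁻¹ * a⁻¹ = n * (a * n⁻¹ * a⁻¹) := by group
      rw [h2]; exact N.mul_mem hn h1
    refine ⟨⟨n * a * n⁻¹ * a⁻¹, hxN⟩, hRle ?_, rfl⟩
    rw [Subgroup.mem_comap]
    have h3 : (Subgroup.inclusion hNM) ⟨n * a * n⁻¹ * a⁻¹, hxN⟩ =
        (⟨n, hNM hn⟩ : ↥(N ⊔ Subgroup.zpowers a)) * ⟨a, haM⟩ * (⟨n, hNM hn⟩)⁻¹ *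
          (⟨a, haM⟩)⁻¹ := by
      apply Subtype.ext
      simp
    rw [h3]
    exact Q.mul_mem (hQn.conj_mem _ haQ _) (Q.inv_mem haQ)

end Cfsg.Agent.Lib.Helper24.IAF
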