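/-
helper24: S3928 leaf G (planner helper25): Brauer–Fowler for a nonabelian minimal normal subgroup.
`|C_H(a)| ≤ c`, `a * a = 1`, `N` a nonabelian minimal normal subgroup of `H`  ⟹  `|N| ≤ (c (c + 1))!`.
-/
import Cfsg.Agent.Lib.Helper25.InvAutDefs
import Cfsg.Agent.Lib.Helper29.DCG6a
import Cfsg.Agent.Lib.Helper7.DCG1

set_option autoImplicit false

universe u

namespace Cfsg.Agent.Lib.Helper24.IAG

open Cfsg Cfsg.Agent.S0233 Cfsg.Agent.Lib.Helper29.DCG6a
open scoped commutatorElement

/-- Brauer–Fowler for a perfect minimal normal subgroup with trivial centralizer (the version of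
helper29's `card_simple_le_of_involution` with "minimal normal" in place of "simple"). -/
theorem card_minimal_le_of_involution {Y : Type u} [Group Y] [Finite Y] (S : Subgroup Y)
    [S.Normal] (hmin : ∀ M : Subgroup Y, M.Normal → M ≤ S → M = ⊥ ∨ M = S)
    (hperf : ⁅S, S⁆ = S) (hcent : Subgroup.centralizer (S : Set Y) = ⊥) (t : Y)
    (ht : orderOf t = 2) (c : ℕ) (hc : Nat.card (Subgroup.centralizer ({t} : Set Y)) ≤ c) :
    Nat.card S ≤ (c * (c + 1)).factorial := by
  classical
  have : Fintype Y := Fintype.ofFinite Y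
  have hinv : (invs Y).Nonempty := ⟨t, (mem_invs t).mpr ht⟩
  obtain ⟨x, hx1, -, hlt⟩ := core (G := Y) hinv
  have hcardI : Nat.card {s : Y // orderOf s = 2} = (invs Y).card := by
    rw [Nat.card_eq_fintype_card, Fintype.card_subtype]
    rfl
  have hk := Cfsg.Agent.S0212.card_le_invs_mul_cent t ht
  rw [hcardI] at hk
  set n := (invs Y).card with hn
  set m := Nat.card Y with hm
  set h := (extCent x).index with hh
  have hnpos : 0 < n := Finset.card_pos.mpr hinv
  have hk' : m ≤ n * c := le_trans hk (Nat.mul_le_mul_left _ hc)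
  have h4 : m * (m + n) ≤ n ^ 2 * (c * (c + 1)) := by
    calc m * (m + n) ≤ (n * c) * (n * c + n) :=
          Nat.mul_le_mul hk' (Nat.add_le_add_right hk' n)
      _ = n ^ 2 * (c * (c + 1)) := by ring
  have h5 : h ≤ c * (c + 1) := by
    have h6 : n ^ 2 * (2 * h) < n ^ 2 * (c * (c + 1)) := by
      calc n ^ 2 * (2 * h) = 2 * h * n ^ 2 := by ring
        _ < m * (m + n) := hlt
        _ ≤ _ := h4
    have := lt_of_mul_lt_mul_left h6 (Nat.zero_le _)
    omega
  -- `S` is not inside `C*(x)`
  have hnle : ¬ S ≤ extCent x := by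
    intro htop
    have h7 := le_cent_of_le_extCent S hperf x htop
    have hx : x ∈ Subgroup.centralizer (S : Set Y) := by
      rw [Subgroup.mem_centralizer_iff]
      intro s hs
      have := h7 hs
      rw [Subgroup.mem_centralizer_iff] at this
      exact (this x rfl).symm
    rw [hcent, Subgroup.mem_bot] at hx
    exact hx1 hx
  -- the core of `C*(x)` meets `S` trivially
  have hSK : S ⊓ (extCent x).normalCore = ⊥ := by
    rcases hmin (S ⊓ (extCent x).normalCore) inferInstance inf_le_left with h' | h'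
    · exact h'
    · exfalso
      apply hnle
      intro s hs
      have hs' : s ∈ S ⊓ (extCent x).normalCore := by rw [h']; exact hs
      exact (extCent x).normalCore_le hs'.2
  -- `S` acts faithfully on the cosets of `C*(x)`
  let f : S → Equiv.Perm (Y ⧸ extCent x) := fun s =>
    MulAction.toPermHom Y (Y ⧸ extCent x) (s : Y)
  have hf : Function.Injective f := by
    intro s s' hss
    have hss' : MulAction.toPermHom Y (Y ⧸ extCent x) (s : Y) =
        MulAction.toPermHom Y (Y ⧸ extCent x) (s' : Y) := hss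
    have h1 : (s : Y)⁻¹ * (s' : Y) ∈ (MulAction.toPermHom Y (Y ⧸ extCent x)).ker := by
      rw [MonoidHom.mem_ker, map_mul, map_inv, hss']
      exact inv_mul_cancel _
    rw [← Subgroup.normalCore_eq_ker] at h1
    have h2 : (s : Y)⁻¹ * (s' : Y) ∈ S ⊓ (extCent x).normalCore :=
      ⟨S.mul_mem (S.inv_mem s.2) s'.2, h1⟩
    rw [hSK, Subgroup.mem_bot] at h2
    exact Subtype.ext (inv_mul_eq_one.mp h2)
  have h8 := Nat.card_le_card_of_injective f hf
  rw [Nat.card_perm, ← Subgroup.index_eq_card] at h8
  exact le_trans h8 (Nat.factorial_le h5)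

/-- LEAF G (Brauer–Fowler for a nonabelian minimal normal subgroup). -/
theorem card_le_of_minimal_normal_nonabelian {H : Type u} [Group H] [Finite H] (a : H)
    (ha : a * a = 1) (c : ℕ) (hc : Nat.card (Subgroup.centralizer ({a} : Set H)) ≤ c)
    (N : Subgroup H) [N.Normal]
    (hmin : ∀ M : Subgroup H, M.Normal → M ≤ N → M = ⊥ ∨ M = N)
    (hnc : ¬ ∀ x ∈ N, ∀ y ∈ N, x * y = y * x) :
    Nat.card N ≤ (c * (c + 1)).factorial := by
  classical
  -- a subgroup of the centralizer of `N` that equals `N` would make `N` abelian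
  have hab_of_le : N ≤ Subgroup.centralizer (N : Set H) → False := by
    intro hle
    apply hnc
    intro x hx y hy
    have := hle hy
    rw [Subgroup.mem_centralizer_iff] at this
    exact this x hx
  -- `N` is perfect
  have hperfN : ⁅N, N⁆ = N := by
    rcases hmin ⁅N, N⁆ inferInstance (Subgroup.commutator_le_left N N) with h | h
    · exfalso
      exact hab_of_le (Subgroup.commutator_eq_bot_iff_le_centralizer.mp h)
    · exact h
  set Z := Subgroup.centralizer (N : Set H) with hZ
  have hNZ : N ⊓ Z = ⊥ := by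
    rcases hmin (N ⊓ Z) inferInstance inf_le_left with h | h
    · exact h
    · exfalso
      apply hab_of_le
      intro n hn
      have : n ∈ N ⊓ Z := by rw [h]; exact hn
      exact this.2
  set π := QuotientGroup.mk' Z with hπ
  have hπsurj : Function.Surjective π := QuotientGroup.mk'_surjective Z
  have hker : ∀ g : H, π g = 1 ↔ g ∈ Z := fun g => QuotientGroup.eq_one_iff g
  set S := N.map π with hS
  haveI hSn : S.Normal := Subgroup.Normal.map inferInstance π hπsurj
  -- `|S| = |N|`
  have hcard : Nat.card N = Nat.card S := by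
    let f : N → S := fun n => ⟨π (n : H), Subgroup.mem_map_of_mem π n.2⟩
    have hf : Function.Bijective f := by
      constructor
      · intro n n' hnn
        have h1 : π (n : H) = π (n' : H) := congrArg Subtype.val hnn
        have h2 : π ((n : H)⁻¹ * (n' : H)) = 1 := by
          rw [map_mul, map_inv, h1]
          exact inv_mul_cancel _
        have h3 : (n : H)⁻¹ * (n' : H) ∈ N ⊓ Z :=
          ⟨N.mul_mem (N.inv_mem n.2) n'.2, (hker _).mp h2⟩
        rw [hNZ, Subgroup.mem_bot] at h3
        exact Subtype.ext (inv_mul_eq_one.mp h3)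
      · rintro ⟨s, hs⟩
        obtain ⟨n, hn, rfl⟩ := Subgroup.mem_map.mp hs
        exact ⟨⟨n, hn⟩, rfl⟩
    exact Nat.card_congr (Equiv.ofBijective f hf)
  -- `S` is perfect
  have hperfS : ⁅S, S⁆ = S := by
    rw [hS, ← Subgroup.map_commutator, hperfN]
  -- `C_Y(S) = 1`
  have hcentS : Subgroup.centralizer (S : Set (H ⧸ Z)) = ⊥ := by
    rw [eq_bot_iff]
    intro ybar hy
    obtain ⟨y, rfl⟩ := hπsurj ybar
    rw [Subgroup.mem_bot, hker]
    rw [Subgroup.mem_centralizer_iff] at hy
    show y ∈ Subgroup.centralizer (N : Set H)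
    rw [Subgroup.mem_centralizer_iff]
    intro n hn
    have hn' : n ∈ N := hn
    have hk1 : y⁻¹ * n⁻¹ * y * n ∈ N := by
      have h1 : y⁻¹ * n⁻¹ * y⁻¹⁻¹ ∈ N :=
        (inferInstance : N.Normal).conj_mem n⁻¹ (N.inv_mem hn') y⁻¹
      rw [inv_inv] at h1
      exact N.mul_mem h1 hn'
    have hk2 : π (y⁻¹ * n⁻¹ * y * n) = 1 := by
      have hc' : π n * π y = π y * π n := hy (π n) (Subgroup.mem_map_of_mem π hn')
      simp only [map_mul, map_inv]
      calc (π y)⁻¹ * (π n)⁻¹ * π y * π n = (π y)⁻¹ * (π n)⁻¹ * (π y * π n) := by group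
        _ = (π y)⁻¹ * (π n)⁻¹ * (π n * π y) := by rw [hc']
        _ = 1 := by group
    have hk3 : y⁻¹ * n⁻¹ * y * n ∈ N ⊓ Z := ⟨hk1, (hker _).mp hk2⟩
    rw [hNZ, Subgroup.mem_bot] at hk3
    calc n * y = n * y * (y⁻¹ * n⁻¹ * y * n) := by rw [hk3, mul_one]
      _ = y * n := by group
  -- minimality of `S`
  have hminS : ∀ M : Subgroup (H ⧸ Z), M.Normal → M ≤ S → M = ⊥ ∨ M = S := by
    intro Mb hMb hle
    haveI : (Mb.comap π).Normal := Subgroup.Normal.comap hMb π
    rcases hmin (Mb.comap π ⊓ N) inferInstance inf_le_right with h | h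
    · left
      rw [eq_bot_iff]
      intro mb hmb
      obtain ⟨n, hn, rfl⟩ := Subgroup.mem_map.mp (hle hmb)
      have : n ∈ Mb.comap π ⊓ N := ⟨hmb, hn⟩
      rw [h, Subgroup.mem_bot] at this
      rw [Subgroup.mem_bot, this, map_one]
    · right
      apply le_antisymm hle
      intro s hs
      obtain ⟨n, hn, rfl⟩ := Subgroup.mem_map.mp hs
      have : n ∈ Mb.comap π ⊓ N := by rw [h]; exact hn
      exact this.1
  by_cases hab : π a = 1
  · -- `a` centralizes `N`
    have haZ : a ∈ Z := (hker a).mp hab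
    rw [hZ, Subgroup.mem_centralizer_iff] at haZ
    have hle : N ≤ Subgroup.centralizer ({a} : Set H) := by
      intro n hn
      rw [Subgroup.mem_centralizer_iff]
      intro b hb
      rw [Set.mem_singleton_iff] at hb
      subst hb
      exact (haZ n hn).symm
    have h1 : Nat.card N ≤ c := le_trans (Subgroup.card_le_of_le hle) hc
    have h2 : c ≤ (c * (c + 1)).factorial :=
      le_trans (Nat.le_mul_of_pos_right c (Nat.succ_pos c)) (Nat.self_le_factorial _)
    exact le_trans h1 h2
  · have ho : orderOf (π a) = 2 := by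
      haveI : Fact (Nat.Prime 2) := ⟨Nat.prime_two⟩
      apply orderOf_eq_prime
      · rw [pow_two, ← map_mul, ha, map_one]
      · exact hab
    have hcY : Nat.card (Subgroup.centralizer ({π a} : Set (H ⧸ Z))) ≤ c :=
      le_trans (Cfsg.Agent.Lib.Helper7.DCG1.card_centralizer_quotient_singleton_le Z a) hc
    rw [hcard]
    exact card_minimal_le_of_involution S hminS hperfS hcentS (π a) ho c hcY

end Cfsg.Agent.Lib.Helper24.IAG
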