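/-
helper24: the Frobenius–Schur sum of a character induced from a subgroup `I` containing a normal
subgroup `N`, when the conjugates of the restriction to `N` by elements outside `I` are orthogonal
to its dual (e.g. `I` the inertia group of a real irreducible character of `N`).
-/
import Mathlib
import Cfsg.Agent.Lib.Helper6.IndFun
import Cfsg.Agent.Lib.Helper6.CliffordCorr

set_option autoImplicit false

namespace Cfsg.Agent.Lib.Helper24

open Cfsg Cfsg.Agent.CharLib Cfsg.Agent.Lib.Helper6
open scoped Kronecker

universe u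

/-- An idempotent complex matrix of trace zero vanishes. -/
theorem matrix_eq_zero_of_idempotent_of_trace_eq_zero {ι : Type*} [Fintype ι] [DecidableEq ι]
    (P : Matrix ι ι ℂ) (h : P * P = P) (ht : P.trace = 0) : P = 0 := by
  have hidem : IsIdempotentElem (Matrix.toLin' P) := by
    unfold IsIdempotentElem
    rw [Module.End.mul_eq_comp, ← Matrix.toLin'_mul, h]
  have htr : LinearMap.trace ℂ (ι → ℂ) (Matrix.toLin' P) = 0 := by
    rw [Matrix.trace_toLin'_eq]
    exact ht
  have := LinearMap.IsIdempotentElem.eq_zero_of_trace_eq_zero hidem htr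
  have h2 : Matrix.toLin' P = Matrix.toLin' (0 : Matrix ι ι ℂ) := by rw [this, map_zero]
  exact Matrix.toLin'.injective h2

/-- Schur orthogonality in matrix form: if the product of the characters of two matrix
representations `A`, `B` of a finite group has no trivial constituent (the sum of the products of
traces vanishes), then `∑ n, A n * B n = 0`. -/
theorem sum_mul_eq_zero_of_sum_trace {N : Type*} [Group N] [Fintype N] {k : ℕ}
    (A B : N →* Matrix (Fin k) (Fin k) ℂ)
    (h : ∑ n : N, (A n).trace * (B n).trace = 0) : ∑ n : N, A n * B n = 0 := by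
  classical
  set P : Matrix (Fin k × Fin k) (Fin k × Fin k) ℂ := ∑ n : N, (A n) ⊗ₖ (B n) with hP
  have hcard : (Fintype.card N : ℂ) ≠ 0 := Nat.cast_ne_zero.mpr Fintype.card_ne_zero
  have hPP : P * P = (Fintype.card N : ℂ) • P := by
    rw [hP, Finset.sum_mul]
    simp_rw [Finset.mul_sum, ← Matrix.mul_kronecker_mul, ← map_mul]
    have : ∀ n : N, ∑ m : N, A (n * m) ⊗ₖ B (n * m) = ∑ m : N, A m ⊗ₖ B m := by
      intro n
      exact Fintype.sum_equiv (Equiv.mulLeft n) _ _ (fun m => rfl)
    simp_rw [this]
    rw [Finset.sum_const, Finset.card_univ, ← Nat.cast_smul_eq_nsmul ℂ]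
  have htr : P.trace = 0 := by
    rw [hP, Matrix.trace_sum]
    simp_rw [Matrix.trace_kronecker]
    exact h
  set Q : Matrix (Fin k × Fin k) (Fin k × Fin k) ℂ := (Fintype.card N : ℂ)⁻¹ • P with hQ
  have hQQ : Q * Q = Q := by
    rw [hQ, Matrix.smul_mul, Matrix.mul_smul, hPP, smul_smul, smul_smul]
    congr 1
    field_simp
  have hQtr : Q.trace = 0 := by
    rw [hQ, Matrix.trace_smul, htr, smul_zero]
  have hQ0 := matrix_eq_zero_of_idempotent_of_trace_eq_zero Q hQQ hQtr
  have hP0 : P = 0 := by
    have : P = (Fintype.card N : ℂ) • Q := by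
      rw [hQ, smul_smul, mul_inv_cancel₀ hcard, one_smul]
    rw [this, hQ0, smul_zero]
  ext i l
  rw [Matrix.sum_apply, Matrix.zero_apply]
  simp_rw [Matrix.mul_apply]
  rw [Finset.sum_comm]
  apply Finset.sum_eq_zero
  intro j _
  have := congrFun (congrFun hP0 (i, j)) (j, l)
  rw [hP, Matrix.sum_apply, Matrix.zero_apply] at this
  simpa [Matrix.kronecker_apply] using this

/-- The matrix form of a representation on a coordinate space. -/
noncomputable def repMatrix {H : Type*} [Group H] {k : ℕ} (ρ : Representation ℂ H (Fin k → ℂ)) :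
    H →* Matrix (Fin k) (Fin k) ℂ :=
  (LinearMap.toMatrixAlgEquiv' (R := ℂ) (n := Fin k)).toAlgHom.toRingHom.toMonoidHom.comp ρ

theorem trace_repMatrix {H : Type*} [Group H] {k : ℕ} (ρ : Representation ℂ H (Fin k → ℂ)) (h : H) :
    (repMatrix ρ h).trace = ρ.character h := by
  unfold repMatrix Representation.character
  simp only [MonoidHom.coe_comp, Function.comp_apply]
  rw [LinearMap.trace_eq_matrix_trace ℂ (Pi.basisFun ℂ (Fin k))]
  rfl

section
variable {G : Type u} [Group G]

/-- `n ↦ g⁻¹ n g` as a homomorphism from a normal subgroup `N` into an overgroup `I`. -/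
def conjIncl (N I : Subgroup G) [hN : N.Normal] (hNI : N ≤ I) (g : G) : N →* I where
  toFun n := ⟨g⁻¹ * n * g, hNI (by simpa using hN.conj_mem n n.2 g⁻¹)⟩
  map_one' := by ext; simp
  map_mul' a b := by ext; simp only [Subgroup.coe_mul]; group

theorem coe_conjIncl (N I : Subgroup G) [hN : N.Normal] (hNI : N ≤ I) (g : G) (n : N) :
    ((conjIncl N I hNI g n : I) : G) = g⁻¹ * n * g := rfl

variable [Fintype G]

theorem sum_coset_sq_eq_zero (N I : Subgroup G) [hN : N.Normal] [Fintype N] (hNI : N ≤ I) {k : ℕ}
    (ρ : Representation ℂ I (Fin k → ℂ)) (g : G)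
    (horth : ∑ n : N, ρ.character (conjIncl N I hNI g n) * ρ.character (Subgroup.inclusion hNI n) = 0) :
    ∑ n : N, extendByZero I ρ.character ((g * n) * (g * n)) = 0 := by
  have hkey : ∀ n : N, (g * n) * (g * n) = (g * g) * (g⁻¹ * n * g) * n := by intro n; group
  by_cases hgg : g * g ∈ I
  · have h1 : ∀ n : N, extendByZero I ρ.character ((g * n) * (g * n)) =
        (repMatrix ρ ⟨g * g, hgg⟩ * (((repMatrix ρ).comp (conjIncl N I hNI g)) n *
          ((repMatrix ρ).comp (Subgroup.inclusion hNI)) n)).trace := by
      intro n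
      have hmem : (g * n) * (g * n) ∈ I := by
        rw [hkey]
        exact I.mul_mem (I.mul_mem hgg (conjIncl N I hNI g n).2) (hNI n.2)
      rw [extendByZero_mem I _ hmem]
      have : (⟨(g * n) * (g * n), hmem⟩ : I) =
          ⟨g * g, hgg⟩ * (conjIncl N I hNI g n * Subgroup.inclusion hNI n) := by
        apply Subtype.ext
        simp only [Subgroup.coe_mul, coe_conjIncl, Subgroup.coe_inclusion]
        rw [hkey]; group
      rw [this, ← trace_repMatrix, map_mul, map_mul]
      rfl
    simp_rw [h1]
    rw [← Matrix.trace_sum, ← Finset.mul_sum]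
    rw [sum_mul_eq_zero_of_sum_trace _ _ (by
      simp only [MonoidHom.coe_comp, Function.comp_apply, trace_repMatrix]
      exact horth)]
    simp
  · apply Finset.sum_eq_zero
    intro n _
    apply extendByZero_not_mem
    intro hmem
    apply hgg
    have : g * g = ((g * n) * (g * n)) * (n : G)⁻¹ * (g⁻¹ * n * g)⁻¹ := by group
    rw [this]
    exact I.mul_mem (I.mul_mem hmem (I.inv_mem (hNI n.2))) (I.inv_mem (conjIncl N I hNI g n).2)

theorem sum_extendByZero_sq (N I : Subgroup G) [hN : N.Normal] [Fintype N] [Fintype I]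
    (hNI : N ≤ I) {k : ℕ}
    (ρ : Representation ℂ I (Fin k → ℂ))
    (horth : ∀ g : G, g ∉ I →
      ∑ n : N, ρ.character (conjIncl N I hNI g n) * ρ.character (Subgroup.inclusion hNI n) = 0) :
    ∑ g : G, extendByZero I ρ.character (g * g) = ∑ x : I, ρ.character (x * x) := by
  classical
  set θ := ρ.character with hθ
  have hsplit : ∀ g : G, extendByZero I θ (g * g) =
      (if g ∈ I then extendByZero I θ (g * g) else 0) +
      (if g ∈ I then 0 else extendByZero I θ (g * g)) := by
    intro g; split_ifs <;> simp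
  rw [Finset.sum_congr rfl (fun g _ => hsplit g), Finset.sum_add_distrib]
  have hA : ∑ g : G, (if g ∈ I then extendByZero I θ (g * g) else 0) = ∑ x : I, θ (x * x) := by
    rw [← Finset.sum_filter]
    rw [Finset.sum_subtype (Finset.univ.filter (fun y : G => y ∈ I)) (p := fun y => y ∈ I)
      (fun x => by simp)]
    apply Finset.sum_congr rfl
    intro x _
    have : (x : G) * (x : G) = ((x * x : I) : G) := rfl
    rw [this, extendByZero_coe]
  set F : G → ℂ := fun g => if g ∈ I then 0 else extendByZero I θ (g * g) with hF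
  have hB : ∑ g : G, F g = 0 := by
    have hcard : (Fintype.card N : ℂ) ≠ 0 := Nat.cast_ne_zero.mpr Fintype.card_ne_zero
    have h1 : (Fintype.card N : ℂ) * ∑ g : G, F g = ∑ n : N, ∑ g : G, F (g * n) := by
      have : ∀ n : N, ∑ g : G, F (g * n) = ∑ g : G, F g := by
        intro n
        exact Fintype.sum_equiv (Equiv.mulRight (n : G)) _ _ (fun g => rfl)
      simp_rw [this]
      rw [Finset.sum_const, Finset.card_univ, nsmul_eq_mul]
    have h2 : ∑ n : N, ∑ g : G, F (g * n) = 0 := by
      rw [Finset.sum_comm]
      apply Finset.sum_eq_zero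
      intro g _
      by_cases hg : g ∈ I
      · apply Finset.sum_eq_zero
        intro n _
        have : g * n ∈ I := I.mul_mem hg (hNI n.2)
        simp [hF, this]
      · have hn : ∀ n : N, g * (n : G) ∉ I := by
          intro n hmem
          apply hg
          have : g = g * n * (n : G)⁻¹ := by group
          rw [this]
          exact I.mul_mem hmem (I.inv_mem (hNI n.2))
        have : ∀ n : N, F (g * n) = extendByZero I θ ((g * n) * (g * n)) := by
          intro n
          simp [hF, hn n]
        simp_rw [this]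
        exact sum_coset_sq_eq_zero N I hNI ρ g (horth g hg)
    rw [h2] at h1
    rcases mul_eq_zero.mp h1 with h | h
    · exact absurd h hcard
    · exact h
  rw [hA, hB, add_zero]

end

section final
variable {G : Type u} [Group G] [Fintype G]

/-- Sum of an induced function over the squares. -/
theorem sum_indFun_sq (I : Subgroup G) (θ : I → ℂ) :
    ∑ g : G, indFun I θ (g * g) =
      (Nat.card G : ℂ) * (Nat.card I : ℂ)⁻¹ * ∑ g : G, extendByZero I θ (g * g) := by
  simp_rw [indFun_apply, ← Finset.mul_sum]
  rw [Finset.sum_comm]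
  have h : ∀ x : G, ∑ g : G, extendByZero I θ (x⁻¹ * (g * g) * x) =
      ∑ g : G, extendByZero I θ (g * g) := by
    intro x
    refine Fintype.sum_equiv (MulAut.conj x⁻¹).toEquiv _ _ (fun g => ?_)
    congr 1
    simp [MulAut.conj_apply]
    group
  simp_rw [h]
  rw [Finset.sum_const, Finset.card_univ, nsmul_eq_mul, ← Nat.card_eq_fintype_card (α := G)]
  ring

/-- **Frobenius–Schur sum of an induced character.**  Let `N ≤ I ≤ G` with `N` normal in `G`, and
`ρ` a representation of `I` such that for every `g ∉ I` the product of the character of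
`n ↦ ρ (g⁻¹ n g)` with the character of `ρ|_N` has no trivial constituent.  Then the
Frobenius–Schur sum of the induced character equals that of `ρ`. -/
theorem indicator_indFun (N I : Subgroup G) [hN : N.Normal] [Fintype N] [Fintype I]
    (hNI : N ≤ I) {k : ℕ} (ρ : Representation ℂ I (Fin k → ℂ))
    (horth : ∀ g : G, g ∉ I →
      ∑ n : N, ρ.character (conjIncl N I hNI g n) * ρ.character (Subgroup.inclusion hNI n) = 0) :
    (Nat.card G : ℂ)⁻¹ * ∑ g : G, indFun I ρ.character (g * g) =
      (Nat.card I : ℂ)⁻¹ * ∑ x : I, ρ.character (x * x) := by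
  have hG : (Nat.card G : ℂ) ≠ 0 := Nat.cast_ne_zero.mpr Nat.card_pos.ne'
  rw [sum_indFun_sq, sum_extendByZero_sq N I hNI ρ horth]
  field_simp

end final

end Cfsg.Agent.Lib.Helper24
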