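/-
helper24: S4651 leaf (LB): the local count
`|H| (k(b_H) - l(b_H)) = sum over nontrivial p-elements u of H of |C_G(u) ⊓ H| Lam(C_G(u) ⊓ H)`,
from (B0) (helper13), (B1), (B2) (helper8).
-/
import Mathlib
import Cfsg.Agent.Lib.Helper24.KRDefs
import Cfsg.Agent.Lib.Helper13.KRB0
import Cfsg.Agent.Lib.Helper8.KRB1
import Cfsg.Agent.Lib.Helper8.KRB2

set_option autoImplicit false

namespace Cfsg.Agent.Lib.Helper24.KRLB

open Cfsg Cfsg.Agent.Lib.Helper24.KR

universe u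

variable {G : Type u} [Group G] [Finite G] {p : ℕ} [hpp : Fact p.Prime] {M : Ideal AlgInt}

omit [Finite G] in
theorem Cz_one_inf (H : Subgroup G) : Cz (1 : G) ⊓ H = H := by
  have : Cz (1 : G) = ⊤ := by
    rw [eq_top_iff]
    intro g _
    change g ∈ Subgroup.centralizer ({(1 : G)} : Set G)
    rw [Subgroup.mem_centralizer_singleton_iff]
    simp
  rw [this, top_inf_eq]

omit [Finite G] in
theorem card_Cz_nested (H : Subgroup G) (u : H) :
    Nat.card (Cz u) = Nat.card (Cz (u : G) ⊓ H : Subgroup G) := by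
  have h1 : Cz u = (Cz (u : G) ⊓ H).subgroupOf H := by
    ext x
    rw [Subgroup.mem_subgroupOf]
    change x ∈ Subgroup.centralizer ({u} : Set H) ↔ (x : G) ∈ Cz (u : G) ⊓ H
    rw [Subgroup.mem_inf]
    change _ ↔ (x : G) ∈ Subgroup.centralizer ({(u : G)} : Set G) ∧ _
    rw [Subgroup.mem_centralizer_singleton_iff, Subgroup.mem_centralizer_singleton_iff]
    constructor
    · intro h
      refine ⟨?_, x.2⟩
      have := congrArg (Subtype.val) h
      simpa using this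
    · intro h
      apply Subtype.ext
      simpa using h.1
  rw [h1]
  exact Nat.card_congr (Subgroup.subgroupOfEquivOfLe inf_le_right).toEquiv

/-- (LB) the local count. -/
theorem local_count (hM : IsPModular p M) (b : Set (IrrCharacter G)) (H : Subgroup G) :
    (Nat.card H : ℤ) * ((Nat.card (indChars M b H) : ℤ) - (blockRank p (indChars M b H) : ℤ)) =
      ∑ᶠ u ∈ {u : G | u ∈ H ∧ u ≠ 1 ∧ ∃ k : ℕ, orderOf u = p ^ k},
        (Nat.card (Cz u ⊓ H : Subgroup G) : ℤ) * (Lam p M b (Cz u ⊓ H) : ℤ) := by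
  classical
  -- the count in `ℕ`, all `p`-elements
  have hN : Nat.card H * Nat.card (indChars M b H) =
      ∑ᶠ u ∈ {u : G | u ∈ H ∧ ∃ k : ℕ, orderOf u = p ^ k},
        Nat.card (Cz u ⊓ H : Subgroup G) * Lam p M b (Cz u ⊓ H) := by
    rw [Cfsg.Agent.Lib.Helper8.KRB2.card_indChars hM b H, mul_finsum_mem' _ _ (Set.toFinite _)]
    have h1 : ∀ β ∈ {β : Set (IrrCharacter H) | IsInducedBlock M H β b},
        Nat.card H * Nat.card β =
          ∑ᶠ u ∈ {u : H | ∃ k : ℕ, orderOf u = p ^ k}, Nat.card (Cz u) * Lam p M β (Cz u) :=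
      fun β hβ => Cfsg.Agent.Lib.Helper13.KRB0.card_mul_card_block_eq hM β hβ.1
    rw [finsum_mem_congr rfl h1, finsum_mem_comm _ (Set.toFinite _) (Set.toFinite _)]
    have h2 : ∀ u ∈ {u : H | ∃ k : ℕ, orderOf u = p ^ k},
        ∑ᶠ β ∈ {β : Set (IrrCharacter H) | IsInducedBlock M H β b},
          Nat.card (Cz u) * Lam p M β (Cz u) =
        Nat.card (Cz (u : G) ⊓ H : Subgroup G) * Lam p M b (Cz (u : G) ⊓ H) := by
      intro u hu
      rw [← mul_finsum_mem' _ _ (Set.toFinite _), Cfsg.Agent.Lib.Helper8.KRB1.finsum_Lam_nested hM b H u hu,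
        card_Cz_nested]
    rw [finsum_mem_congr rfl h2]
    -- reindex
    apply finsum_mem_eq_of_bijOn (fun u : H => (u : G))
    · refine ⟨?_, ?_, ?_⟩
      · intro u hu
        obtain ⟨k, hk⟩ := hu
        exact ⟨u.2, k, by rw [← hk, Subgroup.orderOf_coe]⟩
      · intro u _ v _ huv
        exact Subtype.ext huv
      · rintro u ⟨huH, k, hk⟩
        exact ⟨⟨u, huH⟩, ⟨k, by rw [← hk, ← Subgroup.orderOf_coe]⟩, rfl⟩
    · intro u _
      rfl
  -- split off `u = 1`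
  have hsplit : {u : G | u ∈ H ∧ ∃ k : ℕ, orderOf u = p ^ k} =
      insert (1 : G) {u : G | u ∈ H ∧ u ≠ 1 ∧ ∃ k : ℕ, orderOf u = p ^ k} := by
    ext u
    simp only [Set.mem_ofPred_eq, Set.mem_insert_iff]
    constructor
    · rintro ⟨h1, h2⟩
      by_cases hu : u = 1
      · exact Or.inl hu
      · exact Or.inr ⟨h1, hu, h2⟩
    · rintro (rfl | h)
      · exact ⟨H.one_mem, 0, by simp⟩
      · exact ⟨h.1, h.2.2⟩
  have hnot : (1 : G) ∉ {u : G | u ∈ H ∧ u ≠ 1 ∧ ∃ k : ℕ, orderOf u = p ^ k} :=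
    fun h => h.2.1 rfl
  rw [hsplit, finsum_mem_insert _ hnot (Set.toFinite _), Cz_one_inf] at hN
  rw [Cfsg.Agent.Lib.Helper8.KRB2.blockRank_indChars hM b H, mul_sub]
  have hN' := congrArg (fun n : ℕ => (n : ℤ)) hN
  simp only [Nat.cast_mul, Nat.cast_add] at hN'
  rw [hN']
  have : ((∑ᶠ u ∈ {u : G | u ∈ H ∧ u ≠ 1 ∧ ∃ k : ℕ, orderOf u = p ^ k},
      Nat.card (Cz u ⊓ H : Subgroup G) * Lam p M b (Cz u ⊓ H) : ℕ) : ℤ) =
      ∑ᶠ u ∈ {u : G | u ∈ H ∧ u ≠ 1 ∧ ∃ k : ℕ, orderOf u = p ^ k},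
        (Nat.card (Cz u ⊓ H : Subgroup G) : ℤ) * (Lam p M b (Cz u ⊓ H) : ℤ) := by
    rw [finsum_mem_eq_finite_toFinset_sum _ (Set.toFinite _),
      finsum_mem_eq_finite_toFinset_sum _ (Set.toFinite _)]
    push_cast
    rfl
  rw [this]
  ring

end Cfsg.Agent.Lib.Helper24.KRLB
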