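/-
helper24: S4651 (Knorr-Robinson alternating chain sum for k(b) - l(b)): the assembly.
Leaves: (B0) helper13, (B1)+(B2) helper8, (LT)+(LC) helper9, (C1) helper5, (C2) helper5 (twins helper7, helper9), (LB) helper24.
-/
import Mathlib
import Cfsg.Agent.Lib.Helper24.KRDefs
import Cfsg.Agent.Lib.Helper24.KRLB
import Cfsg.Agent.Lib.Helper13.KRB0
import Cfsg.Agent.Lib.Helper9.KRLT
import Cfsg.Agent.Lib.Helper9.KRLC
import Cfsg.Agent.Lib.Helper5.KRC1
import Cfsg.Agent.Lib.Helper5.KRC2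

set_option autoImplicit false

namespace Cfsg.Agent.Lib.Helper24.KRMain

open Cfsg Cfsg.Agent.Lib.Helper24.KR

universe u

section aux
variable {G : Type u} [Group G] [Finite G] {p : ℕ} [hpp : Fact p.Prime] {M : Ideal AlgInt}

/-- (LC) the normal chains stabilized by `u`, from (C1) (helper5) and (C2) (helper5) through helper9's
`_of` form. -/
theorem finsum_normal_chains (u : G) (hu1 : u ≠ 1) (hu : ∃ k : ℕ, orderOf u = p ^ k)
    (Φ : Subgroup G → ℤ) :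
    ∑ᶠ s ∈ {s : Finset (Subgroup G) | (IsPChain p s ∧ IsNormalChain s) ∧ u ∈ chainNorm s},
      (-1 : ℤ) ^ (s.card - 1) * Φ (Cz u ⊓ chainNorm s) = Φ (Cz u) :=
  Cfsg.Agent.Lib.Helper9.KRLC.finsum_normal_chains_of
    (fun Ψ => Cfsg.Agent.Lib.Helper5.KRC1.finsum_nonnormal_chains Ψ)
    (fun u h1 h Φ => Cfsg.Agent.Lib.Helper5.KRC2.finsum_chains_cone u h1 h Φ) u hu1 hu Φ

/-- `W L = |L| * Lam L` -/
noncomputable def W (p : ℕ) (M : Ideal AlgInt) (b : Set (IrrCharacter G)) (L : Subgroup G) : ℤ :=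
  (Nat.card L : ℤ) * (Lam p M b L : ℤ)

theorem global_count (hM : IsPModular p M) (b : Set (IrrCharacter G)) (hb : IsPBlock M b) :
    (Nat.card G : ℤ) * ((Nat.card b : ℤ) - (blockRank p b : ℤ)) =
      ∑ᶠ u ∈ {u : G | u ≠ 1 ∧ ∃ k : ℕ, orderOf u = p ^ k}, W p M b (Cz u) := by
  classical
  have h0 := Cfsg.Agent.Lib.Helper13.KRB0.card_mul_card_block_eq hM b hb
  have hfin : {u : G | ∃ k : ℕ, orderOf u = p ^ k}.Finite := Set.toFinite _
  have h1 : (1 : G) ∈ {u : G | ∃ k : ℕ, orderOf u = p ^ k} := ⟨0, by simp⟩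
  have hsplit : {u : G | ∃ k : ℕ, orderOf u = p ^ k} =
      insert (1 : G) {u : G | u ≠ 1 ∧ ∃ k : ℕ, orderOf u = p ^ k} := by
    ext u
    simp only [Set.mem_ofPred_eq, Set.mem_insert_iff]
    constructor
    · intro h
      by_cases hu : u = 1
      · exact Or.inl hu
      · exact Or.inr ⟨hu, h⟩
    · rintro (rfl | h)
      · exact h1
      · exact h.2
  have hnot : (1 : G) ∉ {u : G | u ≠ 1 ∧ ∃ k : ℕ, orderOf u = p ^ k} := fun h => h.1 rfl
  rw [hsplit, finsum_mem_insert _ hnot (Set.toFinite _)] at h0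
  have hC1 : Nat.card (Cz (1 : G)) = Nat.card G := by
    have : Cz (1 : G) = ⊤ := by
      rw [eq_top_iff]
      intro g _
      change g ∈ Subgroup.centralizer ({(1 : G)} : Set G)
      rw [Subgroup.mem_centralizer_singleton_iff]
      simp
    rw [this]
    exact Subgroup.card_top
  rw [Cfsg.Agent.Lib.Helper9.KRLT.Lam_Cz_one hM b hb, hC1] at h0
  have h0' : (Nat.card G : ℤ) * (Nat.card b : ℤ) = (Nat.card G : ℤ) * (blockRank p b : ℤ) +
      ∑ᶠ u ∈ {u : G | u ≠ 1 ∧ ∃ k : ℕ, orderOf u = p ^ k}, W p M b (Cz u) := by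
    have := congrArg (fun n : ℕ => (n : ℤ)) h0
    simp only [Nat.cast_mul, Nat.cast_add] at this
    rw [this]
    congr 1
    unfold W
    rw [finsum_mem_eq_finite_toFinset_sum _ (Set.toFinite _),
      finsum_mem_eq_finite_toFinset_sum _ (Set.toFinite _)]
    push_cast
    rfl
  rw [mul_sub, h0']
  ring

end aux


/-- The frozen statement of S4651. -/
theorem main {G : Type*} [Group G] [Finite G] (p : ℕ) [Fact p.Prime] (M : Ideal Cfsg.AlgInt) (hM : Cfsg.IsPModular p M) (b : Set (Cfsg.IrrCharacter G)) (hb : Cfsg.IsPBlock M b) : (Nat.card G : ℤ) * ((Nat.card b : ℤ) - (Cfsg.blockRank p b : ℤ)) = ∑ᶠ s ∈ {s : Finset (Subgroup G) | s.Nonempty ∧ (∀ Q ∈ s, ∀ R ∈ s, Q ≤ R ∨ R ≤ Q) ∧ (∀ Q ∈ s, Q ≠ ⊥ ∧ IsPGroup p Q) ∧ ∃ T ∈ s, ∀ Q ∈ s, Q ≤ T ∧ T ≤ Subgroup.normalizer ((Q : Subgroup G) : Set G)}, (-1 : ℤ) ^ (s.card - 1) * (Nat.card (((⨅ Q ∈ s, Subgroup.normalizer ((Q : Subgroup G) : Set G) : Subgroup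 G))) : ℤ) * ((Nat.card {ψ : Cfsg.IrrCharacter (((⨅ Q ∈ s, Subgroup.normalizer ((Q : Subgroup G) : Set G) : Subgroup G))) | ∃ β : Set (Cfsg.IrrCharacter (((⨅ Q ∈ s, Subgroup.normalizer ((Q : Subgroup G) : Set G) : Subgroup G)))), ψ ∈ β ∧ Cfsg.IsInducedBlock M (((⨅ Q ∈ s, Subgroup.normalizer ((Q : Subgroup G) : Set G) : Subgroup G))) β b} : ℤ) - (Cfsg.blockRank p {ψ : Cfsg.IrrCharacter (((⨅ Q ∈ s, Subgroup.normalizer ((Q : Subgroup G) : Set G) : Subgroup G))) | ∃ β : Set (Cfsg.IrrCharacter (((⨅ Q ∈ s, Subgroup.normalizer ((Q : Subgroup G) : Set G) : Subgroup G)))), ψ ∈ β ∧ Cfsg.IsInducedBlock M (((⨅ Q ∈ s, Subgroup.normalizer ((Q : Subgroup G) : Set G) : Subgroup G))) β b} : ℤ)) := by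
  classical
  rw [global_count hM b hb]
  have hset : {s : Finset (Subgroup G) | s.Nonempty ∧ (∀ Q ∈ s, ∀ R ∈ s, Q ≤ R ∨ R ≤ Q) ∧
      (∀ Q ∈ s, Q ≠ ⊥ ∧ IsPGroup p Q) ∧ ∃ T ∈ s, ∀ Q ∈ s, Q ≤ T ∧
        T ≤ Subgroup.normalizer ((Q : Subgroup G) : Set G)} =
      {s : Finset (Subgroup G) | IsPChain p s ∧ IsNormalChain s} := by
    ext s
    simp only [IsPChain, IsNormalChain, Set.mem_ofPred_eq]
    tauto
  rw [hset]
  -- rewrite each term by the local count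
  have hterm : ∀ s : Finset (Subgroup G),
      (-1 : ℤ) ^ (s.card - 1) * (Nat.card (chainNorm s) : ℤ) *
        ((Nat.card (indChars M b (chainNorm s)) : ℤ) -
          (blockRank p (indChars M b (chainNorm s)) : ℤ)) =
      ∑ᶠ u ∈ {u : G | u ∈ chainNorm s ∧ u ≠ 1 ∧ ∃ k : ℕ, orderOf u = p ^ k},
        (-1 : ℤ) ^ (s.card - 1) * W p M b (Cz u ⊓ chainNorm s) := by
    intro s
    rw [mul_assoc, Cfsg.Agent.Lib.Helper24.KRLB.local_count hM b (chainNorm s), mul_finsum_mem' _ _ (Set.toFinite _)]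
    rfl
  change _ = ∑ᶠ s ∈ {s : Finset (Subgroup G) | IsPChain p s ∧ IsNormalChain s},
    (-1 : ℤ) ^ (s.card - 1) * (Nat.card (chainNorm s) : ℤ) *
      ((Nat.card (indChars M b (chainNorm s)) : ℤ) -
        (blockRank p (indChars M b (chainNorm s)) : ℤ))
  rw [finsum_mem_congr rfl (fun s _ => hterm s)]
  -- to finite sums
  rw [finsum_mem_eq_finite_toFinset_sum _ (Set.toFinite _),
    finsum_mem_eq_finite_toFinset_sum _ (Set.toFinite _)]
  have h1 : ∀ s : Finset (Subgroup G),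
      ∑ᶠ u ∈ {u : G | u ∈ chainNorm s ∧ u ≠ 1 ∧ ∃ k : ℕ, orderOf u = p ^ k},
        (-1 : ℤ) ^ (s.card - 1) * W p M b (Cz u ⊓ chainNorm s) =
      ∑ u ∈ (Set.toFinite {u : G | u ∈ chainNorm s ∧ u ≠ 1 ∧
          ∃ k : ℕ, orderOf u = p ^ k}).toFinset,
        (-1 : ℤ) ^ (s.card - 1) * W p M b (Cz u ⊓ chainNorm s) :=
    fun s => finsum_mem_eq_finite_toFinset_sum _ _
  rw [Finset.sum_congr rfl (fun s _ => h1 s)]
  have h2 : ∀ u : G, u ∈ (Set.toFinite {u : G | u ≠ 1 ∧ ∃ k : ℕ, orderOf u = p ^ k}).toFinset →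
      W p M b (Cz u) =
      ∑ s ∈ (Set.toFinite {s : Finset (Subgroup G) | (IsPChain p s ∧ IsNormalChain s) ∧
          u ∈ chainNorm s}).toFinset,
        (-1 : ℤ) ^ (s.card - 1) * W p M b (Cz u ⊓ chainNorm s) := by
    intro u hu
    rw [Set.Finite.mem_toFinset] at hu
    rw [← finsum_mem_eq_finite_toFinset_sum _ (Set.toFinite _)]
    exact (finsum_normal_chains (p := p) u hu.1 hu.2 (W p M b)).symm
  rw [Finset.sum_congr rfl h2]
  symm
  apply Finset.sum_comm'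
  intro s u
  simp only [Set.Finite.mem_toFinset, Set.mem_ofPred_eq]
  tauto

end Cfsg.Agent.Lib.Helper24.KRMain
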