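/- helper24: p-subgroups of GL_n(q) in cross characteristic: derived length <= log_p(n/e) + 1 (e = order of q mod p).
   Key: eigenspace_bound (Frobenius-stable charpoly), cross_main. Also matRep (matrix hom -> Representation). -/
import Mathlib
import Cfsg.Agent.Lib.Helper24.LinPGroup

set_option autoImplicit false

namespace Cfsg.Agent.Lib.Helper24.LinPGroupCross

open Module Polynomial Cfsg.Agent.Lib.Helper24.LinPGroup

universe u v w

/-- the representation attached to a matrix group homomorphism -/
noncomputable def matRep {P : Type u} [Group P] {K : Type v} [Field K] {n : ℕ}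
    (σ : P →* Matrix.GeneralLinearGroup (Fin n) K) : Representation K P (Fin n → K) :=
  ((Matrix.toLinAlgEquiv' : Matrix (Fin n) (Fin n) K ≃ₐ[K] _).toAlgHom : _ →* _).comp
    ((Units.coeHom _).comp σ)

theorem matRep_apply {P : Type u} [Group P] {K : Type v} [Field K] {n : ℕ}
    (σ : P →* Matrix.GeneralLinearGroup (Fin n) K) (g : P) :
    matRep σ g = Matrix.toLin' (σ g : Matrix (Fin n) (Fin n) K) := rfl

theorem matRep_ker {P : Type u} [Group P] {K : Type v} [Field K] {n : ℕ}
    (σ : P →* Matrix.GeneralLinearGroup (Fin n) K) (hσ : Function.Injective σ) :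
    (matRep σ : P →* Module.End K (Fin n → K)).ker = ⊥ := by
  rw [eq_bot_iff]
  intro g hg
  rw [MonoidHom.mem_ker] at hg
  rw [Subgroup.mem_bot]
  apply hσ
  rw [map_one]
  apply Units.ext
  have h1 : (Matrix.toLinAlgEquiv' : Matrix (Fin n) (Fin n) K ≃ₐ[K] _)
      ((σ g : Matrix (Fin n) (Fin n) K)) = 1 := hg
  exact (Matrix.toLinAlgEquiv' : Matrix (Fin n) (Fin n) K ≃ₐ[K] _).injective
    (h1.trans (map_one _).symm)

/-- a nontrivial representation of a finite `p`-group has an element acting centrally and
nontrivially -/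
theorem exists_central_nontrivial {F : Type v} [Field F] {P : Type u} [Group P] [Finite P]
    {p : ℕ} [hp : Fact p.Prime] (hP : IsPGroup p P) {V : Type w} [AddCommGroup V] [Module F V]
    (ρ : Representation F P V) (hnt : (ρ : P →* Module.End F V).ker ≠ ⊤) :
    ∃ z : P, z ∉ (ρ : P →* Module.End F V).ker ∧ ∀ g : P, ρ z * ρ g = ρ g * ρ z := by
  set N := (ρ : P →* Module.End F V).ker with hN
  haveI : Nontrivial (P ⧸ N) := by
    rw [← not_subsingleton_iff_nontrivial]
    intro hsub
    apply hnt
    rw [eq_top_iff]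
    intro a _
    rw [← QuotientGroup.eq_one_iff]
    exact Subsingleton.elim _ _
  have hPq : IsPGroup p (P ⧸ N) := hP.to_quotient N
  have hcn : Nontrivial (Subgroup.center (P ⧸ N)) := hPq.center_nontrivial
  obtain ⟨⟨zbar, hzc⟩, hzne⟩ := exists_ne (1 : Subgroup.center (P ⧸ N))
  obtain ⟨z, rfl⟩ := QuotientGroup.mk_surjective zbar
  refine ⟨z, ?_, ?_⟩
  · intro hz
    apply hzne
    apply Subtype.ext
    exact (QuotientGroup.eq_one_iff z).mpr hz
  · intro g
    have h1 := (Subgroup.mem_center_iff.mp hzc) (g : P ⧸ N)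
    -- ↑g * ↑z = ↑z * ↑g
    have h2 : ((g * z : P) : P ⧸ N) = ((z * g : P) : P ⧸ N) := by
      rw [QuotientGroup.mk_mul, QuotientGroup.mk_mul, h1]
    have h3 : (g * z)⁻¹ * (z * g) ∈ N := QuotientGroup.eq.mp h2
    have h4 : ρ ((g * z)⁻¹ * (z * g)) = 1 := MonoidHom.mem_ker.mp h3
    have h5 : ρ (g * z) * ρ ((g * z)⁻¹ * (z * g)) = ρ (z * g) := by
      rw [← map_mul, mul_inv_cancel_left]
    rw [h4, mul_one, map_mul, map_mul] at h5
    exact h5.symm

theorem sum_count_le_card {α : Type*} [DecidableEq α] (S : Finset α) (m : Multiset α) :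
    ∑ a ∈ S, m.count a ≤ Multiset.card m := by
  have h1 : ∑ a ∈ S ∪ m.toFinset, m.count a = Multiset.card m :=
    Multiset.sum_count_eq_card (fun a ha => Finset.mem_union_right _ (Multiset.mem_toFinset.mpr ha))
  rw [← h1]
  exact Finset.sum_le_sum_of_subset Finset.subset_union_left

/-- Frobenius invariance of root multiplicities for polynomials with coefficients in a finite
field. -/
theorem rootMultiplicity_pow_card {F : Type u} [Field F] [Fintype F] {K : Type v} [Field K]
    [Algebra F K] (Q0 : F[X]) (a : K) :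
    (Q0.map (algebraMap F K)).rootMultiplicity (a ^ Fintype.card F) =
      (Q0.map (algebraMap F K)).rootMultiplicity a := by
  classical
  obtain ⟨ℓ, hℓ⟩ := CharP.exists F
  haveI : Fact ℓ.Prime := ⟨CharP.char_is_prime F ℓ⟩
  obtain ⟨r, hr1, hr2⟩ := FiniteField.card F ℓ
  haveI : CharP K ℓ := charP_of_injective_algebraMap (algebraMap F K).injective ℓ
  let φ : K →+* K := iterateFrobenius K ℓ r
  have hφ : ∀ x : K, φ x = x ^ Fintype.card F := by
    intro x
    rw [hr2]
    exact iterateFrobenius_def ℓ r x
  have hφinj : Function.Injective φ := φ.injective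
  have hcomp : φ.comp (algebraMap F K) = algebraMap F K := by
    ext x
    rw [RingHom.comp_apply, hφ, ← map_pow, FiniteField.pow_card]
  have hmap : (Q0.map (algebraMap F K)).map φ = Q0.map (algebraMap F K) := by
    rw [Polynomial.map_map, hcomp]
  have := Polynomial.eq_rootMultiplicity_map (p := Q0.map (algebraMap F K)) hφinj a
  rw [hmap, hφ] at this
  exact this.symm

theorem rootMultiplicity_pow_card_pow {F : Type u} [Field F] [Fintype F] {K : Type v} [Field K]
    [Algebra F K] (Q0 : F[X]) (a : K) (i : ℕ) :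
    (Q0.map (algebraMap F K)).rootMultiplicity (a ^ (Fintype.card F) ^ i) =
      (Q0.map (algebraMap F K)).rootMultiplicity a := by
  induction i with
  | zero => simp
  | succ i ih =>
    rw [pow_succ, pow_mul, rootMultiplicity_pow_card, ih]

/-- Key bound: eigenspaces for `p`-power roots of unity of a matrix over a finite field. -/
theorem eigenspace_bound {F : Type u} [Field F] [Fintype F] {K : Type v} [Field K] [Algebra F K]
    (n : ℕ) (M : Matrix (Fin n) (Fin n) F) (ζ : K) (p : ℕ) [hp : Fact p.Prime] (j : ℕ)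
    (hj : 1 ≤ j) (hζ : orderOf ζ = p ^ j) :
    orderOf ((Fintype.card F : ℕ) : ZMod p) *
      finrank K (Module.End.eigenspace (Matrix.toLin' (M.map (algebraMap F K))) ζ) ≤ n := by
  classical
  set q := Fintype.card F with hq
  set e := orderOf ((q : ℕ) : ZMod p) with he
  set A := M.map (algebraMap F K) with hA
  set Q := A.charpoly with hQ
  have hQmap : Q = M.charpoly.map (algebraMap F K) := by
    rw [hQ, hA]
    exact Matrix.charpoly_map M (algebraMap F K)
  have hdeg : Q.natDegree = n := by
    rw [hQ, Matrix.charpoly_natDegree_eq_dim, Fintype.card_fin]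
  have hle : finrank K (Module.End.eigenspace (Matrix.toLin' A) ζ) ≤ Q.rootMultiplicity ζ := by
    have := LinearMap.finrank_genEigenspace_le (Matrix.toLin' A) ζ 1
    rw [Matrix.charpoly_toLin'] at this
    exact this
  have hmult : ∀ i : ℕ, Q.rootMultiplicity (ζ ^ q ^ i) = Q.rootMultiplicity ζ := by
    intro i
    rw [hQmap]
    exact rootMultiplicity_pow_card_pow M.charpoly ζ i
  have hinj : Set.InjOn (fun i : ℕ => ζ ^ q ^ i) (Finset.range e : Set ℕ) := by
    intro a ha b hb hab
    have hab' : ζ ^ (q ^ a) = ζ ^ (q ^ b) := hab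
    have hN : 0 < orderOf ζ := by rw [hζ]; exact pow_pos hp.out.pos j
    have h1 : q ^ a ≡ q ^ b [MOD orderOf ζ] := by
      rw [← pow_mod_orderOf ζ (q ^ a), ← pow_mod_orderOf ζ (q ^ b)] at hab'
      exact pow_injOn_Iio_orderOf (Nat.mod_lt _ hN) (Nat.mod_lt _ hN) hab'
    rw [hζ] at h1
    have h2 : q ^ a ≡ q ^ b [MOD p] := h1.of_dvd (dvd_pow_self p (by omega))
    have h3 : ((q ^ a : ℕ) : ZMod p) = ((q ^ b : ℕ) : ZMod p) :=
      (ZMod.natCast_eq_natCast_iff _ _ _).mpr h2
    rw [Nat.cast_pow, Nat.cast_pow] at h3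
    exact pow_injOn_Iio_orderOf (Finset.mem_range.mp ha) (Finset.mem_range.mp hb) h3
  have hQ0 : Q ≠ 0 := by
    rw [hQ]
    exact (Matrix.charpoly_monic A).ne_zero
  calc e * finrank K (Module.End.eigenspace (Matrix.toLin' A) ζ)
      ≤ e * Q.rootMultiplicity ζ := Nat.mul_le_mul_left e hle
    _ = ∑ _i ∈ Finset.range e, Q.rootMultiplicity ζ := by
        rw [Finset.sum_const, Finset.card_range, smul_eq_mul]
    _ = ∑ i ∈ Finset.range e, Q.roots.count (ζ ^ q ^ i) := by
        refine Finset.sum_congr rfl fun i _ => ?_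
        rw [Polynomial.count_roots, hmult i]
    _ = ∑ a ∈ (Finset.range e).image (fun i : ℕ => ζ ^ q ^ i), Q.roots.count a :=
        (Finset.sum_image (f := fun a => Q.roots.count a) hinj).symm
    _ ≤ Multiset.card Q.roots := sum_count_le_card _ _
    _ ≤ Q.natDegree := Polynomial.card_roots' Q
    _ = n := hdeg


/-- **Cross-characteristic bound** for `p`-subgroups of `GL_n(q)`. -/
theorem cross_main {F : Type u} [Field F] [Fintype F] (p : ℕ) [hp : Fact p.Prime]
    (hpq : ¬ p ∣ Fintype.card F) (n : ℕ) (P : Subgroup (GL (Fin n) F)) (hP : IsPGroup p P) :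
    derivedSeries ↥P
      (Nat.log p (n / orderOf ((Fintype.card F : ℕ) : ZMod p)) + 1) = ⊥ := by
  classical
  set q := Fintype.card F with hq
  set e := orderOf ((q : ℕ) : ZMod p) with he
  let K := AlgebraicClosure F
  let σ : ↥P →* Matrix.GeneralLinearGroup (Fin n) K :=
    (Matrix.GeneralLinearGroup.map (algebraMap F K)).comp P.subtype
  have hσval : ∀ g : ↥P, ((σ g : Matrix.GeneralLinearGroup (Fin n) K) : Matrix (Fin n) (Fin n) K) =
      ((g : GL (Fin n) F) : Matrix (Fin n) (Fin n) F).map (algebraMap F K) := by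
    intro g
    ext i j
    simp [σ, Matrix.GeneralLinearGroup.map_apply]
  have hσ : Function.Injective σ := by
    intro a b hab
    apply Subtype.ext
    apply Units.ext
    have h1 : ((σ a : Matrix (Fin n) (Fin n) K)) = (σ b : Matrix (Fin n) (Fin n) K) := by rw [hab]
    rw [hσval, hσval] at h1
    ext i j
    have h2 := congrFun (congrFun h1 i) j
    simp only [Matrix.map_apply] at h2
    exact (algebraMap F K).injective h2
  -- characteristic
  have hpF : (p : F) ≠ 0 := by
    intro h0
    apply hpq
    obtain ⟨ℓ, hℓ⟩ := CharP.exists F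
    haveI : Fact ℓ.Prime := ⟨CharP.char_is_prime F ℓ⟩
    obtain ⟨r, hr1, hr2⟩ := FiniteField.card F ℓ
    have h1 : ℓ ∣ p := (CharP.cast_eq_zero_iff F ℓ p).mp h0
    have h2 : ℓ = p := (Nat.prime_dvd_prime_iff_eq hr1 hp.out).mp h1
    rw [hq, hr2, h2]
    exact dvd_pow_self p r.ne_zero
  have hpK : (p : K) ≠ 0 := by
    intro h
    apply hpF
    apply (algebraMap F K).injective
    rw [map_natCast, map_zero, h]
  have hepos : 0 < e := by
    rw [he, orderOf_pos_iff, isOfFinOrder_iff_pow_eq_one]
    refine ⟨p - 1, Nat.sub_pos_of_lt hp.out.one_lt, ?_⟩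
    apply ZMod.pow_card_sub_one_eq_one
    rw [Ne, ZMod.natCast_eq_zero_iff]
    exact hpq
  set ρ := matRep σ with hρ
  obtain ⟨k, hk⟩ := hP.exists_card_eq
  have hcard : (Nat.card ↥P : K) ≠ 0 := by
    rw [hk, Nat.cast_pow]
    exact pow_ne_zero _ hpK
  set D := derivedSeries ↥P (Nat.log p (n / e) + 1) with hD
  -- the claim, by induction on the dimension
  have claim : ∀ d : ℕ, ∀ (W : Submodule K (Fin n → K)) (hW : Inv ρ W), finrank K W = d →
      D ≤ (resRep ρ W hW : ↥P →* Module.End K W).ker := by
    intro d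
    induction d using Nat.strong_induction_on with
    | _ d ih =>
    intro W hW hd
    by_cases hred : ∃ W1 : Submodule K (Fin n → K), Inv ρ W1 ∧ W1 ≤ W ∧ W1 ≠ ⊥ ∧ W1 ≠ W
    · obtain ⟨W1, hW1, hW1W, hW1bot, hW1W'⟩ := hred
      obtain ⟨W1', hW1', hcompl⟩ := exists_inv_compl hcard ρ W1 hW1
      set W2 := W ⊓ W1' with hW2
      have hW2inv : Inv ρ W2 := fun g w hw =>
        Submodule.mem_inf.mpr ⟨hW g w (Submodule.mem_inf.mp hw).1, hW1' g w (Submodule.mem_inf.mp hw).2⟩
      have hsup : W1 ⊔ W2 = W := by
        rw [hW2, inf_comm, ← sup_inf_assoc_of_le W1' hW1W, hcompl.sup_eq_top, top_inf_eq]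
      have hinf : W1 ⊓ W2 = ⊥ := by
        rw [eq_bot_iff, ← hcompl.inf_eq_bot]
        exact inf_le_inf_left W1 inf_le_right
      have hdim := Submodule.finrank_sup_add_finrank_inf_eq W1 W2
      rw [hsup, hinf, finrank_bot, add_zero, hd] at hdim
      have h1pos : 0 < finrank K W1 := by
        rw [Nat.pos_iff_ne_zero, Ne, Submodule.finrank_eq_zero]
        exact hW1bot
      have h1lt : finrank K W1 < d := by
        rw [← hd]
        exact Submodule.finrank_lt_finrank_of_lt (lt_of_le_of_ne hW1W hW1W')
      have ih1 := ih _ h1lt W1 hW1 rfl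
      have ih2 := ih (finrank K W2) (by omega) W2 hW2inv rfl
      intro g hg
      have hg1 := ih1 hg
      have hg2 := ih2 hg
      rw [mem_ker_iff] at hg1 hg2 ⊢
      rintro ⟨w, hw⟩
      apply Subtype.ext
      rw [resRep_apply]
      have hw' : w ∈ W1 ⊔ W2 := by rw [hsup]; exact hw
      obtain ⟨a, ha, b, hb, rfl⟩ := Submodule.mem_sup.mp hw'
      have ha' := congrArg Subtype.val (hg1 ⟨a, ha⟩)
      have hb' := congrArg Subtype.val (hg2 ⟨b, hb⟩)
      simp only [resRep_apply] at ha' hb'
      rw [map_add, ha', hb']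
    · -- irreducible
      push Not at hred
      set ρW := resRep ρ W hW with hρW
      by_cases hnt : (ρW : ↥P →* Module.End K W).ker = ⊤
      · rw [hnt]; exact le_top
      · obtain ⟨z, hzker, hzc⟩ := exists_central_nontrivial hP ρW hnt
        -- `W` is nontrivial
        have hWnt : Nontrivial W := by
          by_contra hns
          rw [not_nontrivial_iff_subsingleton] at hns
          apply hzker
          rw [mem_ker_iff]
          intro v
          exact Subsingleton.elim _ _
        have hirr : ∀ W' : Submodule K W, Inv ρW W' → W' = ⊥ ∨ W' = ⊤ := by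
          intro W' hW'
          have hinv : Inv ρ (W'.map W.subtype) := by
            rintro g _ ⟨w', hw', rfl⟩
            exact ⟨ρW g w', hW' g w' hw', rfl⟩
          have h1 := hred _ hinv (Submodule.map_subtype_le W W')
          by_cases hb : W'.map W.subtype = ⊥
          · left
            apply Submodule.map_injective_of_injective (Submodule.injective_subtype W)
            rw [hb, Submodule.map_bot]
          · right
            have h2 := h1 hb
            apply Submodule.map_injective_of_injective (Submodule.injective_subtype W)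
            rw [h2, Submodule.map_subtype_top]
        obtain ⟨ζ, hζ⟩ := exists_scalar_of_commute ρW hirr (ρW z) hzc
        have hζ1 : ζ ≠ 1 := by
          intro h1
          apply hzker
          rw [mem_ker_iff]
          intro v
          rw [hζ, h1, one_smul]
        have hpow : ∀ (m : ℕ) (v : W), ρW (z ^ m) v = ζ ^ m • v := by
          intro m
          induction m with
          | zero => intro v; simp
          | succ m ihm =>
            intro v
            rw [pow_succ, map_mul, Module.End.mul_apply, hζ, map_smul, ihm, smul_smul, pow_succ,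
              mul_comm]
        have hζpow : ζ ^ Nat.card ↥P = 1 := by
          obtain ⟨v, hv⟩ := exists_ne (0 : W)
          have h1 := hpow (Nat.card ↥P) v
          rw [pow_card_eq_one', map_one, Module.End.one_apply] at h1
          apply smul_left_injective K hv
          simp only
          rw [one_smul]
          exact h1.symm
        have hord : orderOf ζ ∣ p ^ k := hk ▸ orderOf_dvd_of_pow_eq_one hζpow
        obtain ⟨j, hjk, hj⟩ := (Nat.dvd_prime_pow hp.out).mp hord
        have hj1 : 1 ≤ j := by
          rw [Nat.one_le_iff_ne_zero]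
          intro h0
          rw [h0, pow_zero, orderOf_eq_one_iff] at hj
          exact hζ1 hj
        -- `W` sits inside an eigenspace
        have hWle : W ≤ Module.End.eigenspace (Matrix.toLin'
            (((z : GL (Fin n) F) : Matrix (Fin n) (Fin n) F).map (algebraMap F K))) ζ := by
          intro w hw
          rw [Module.End.mem_eigenspace_iff, ← hσval z, ← matRep_apply]
          have := congrArg Subtype.val (hζ ⟨w, hw⟩)
          exact this
        have hb := eigenspace_bound (K := K) n ((z : GL (Fin n) F) : Matrix (Fin n) (Fin n) F) ζ p j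
          hj1 hj
        have hdle : d ≤ n / e := by
          rw [Nat.le_div_iff_mul_le hepos, mul_comm]
          refine le_trans (Nat.mul_le_mul_left e ?_) hb
          rw [← hd]
          exact Submodule.finrank_mono hWle
        have hmain := coprime_main (F := K) p hpK d ↥P hP W ρW hd
        refine le_trans (derivedSeries_antitone (G := ↥P) ?_) hmain
        exact Nat.add_le_add_right (Nat.log_mono_right hdle) 1
  -- conclusion
  rw [eq_bot_iff, ← matRep_ker σ hσ]
  intro g hg
  have h1 := claim (finrank K (⊤ : Submodule K (Fin n → K))) ⊤ (fun _ _ _ => Submodule.mem_top) rfl hg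
  rw [mem_ker_iff] at h1 ⊢
  intro v
  exact congrArg Subtype.val (h1 ⟨v, Submodule.mem_top⟩)

end Cfsg.Agent.Lib.Helper24.LinPGroupCross
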