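/- helper24: lower bound for derived length of Sylow p-subgroups of GL_n(F), p not dividing |F|:
   wrRep (representation of W wr C on C -> U), wrRep_ker, Model, exists_model (iterated wreath products
   in GL_{e p^k}), exists_hom_GL (faithful rep of dim <= n embeds in GL_n),
   sylow_derived_ne_bot_of_embedding, sylow_GL_derived_ne_bot. -/
import Mathlib
import Cfsg.Agent.Lib.Helper24.LinPGroupCross
import Cfsg.Agent.Lib.Helper20.WreathDerived

set_option autoImplicit false

namespace Cfsg.Agent.Lib.Helper24.LinWreath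

open Module RegularWreathProduct Cfsg.Agent.Lib.Helper24.LinPGroup

universe u

section wr

variable {F : Type u} [Field F] {W : Type u} [Group W] {U : Type u} [AddCommGroup U] [Module F U]
  {C : Type} [Group C]

/-- the wreath (induced-type) representation of `W ≀ᵣ C` on `C → U` -/
noncomputable def wrRep (ρ : Representation F W U) : Representation F (W ≀ᵣ C) (C → U) where
  toFun a :=
    { toFun := fun u x => ρ (a.left x) (u (a.right⁻¹ * x))
      map_add' := by
        intro u v
        funext x
        simp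
      map_smul' := by
        intro c u
        funext x
        simp }
  map_one' := by
    ext u x
    simp
  map_mul' a b := by
    ext u x
    simp [RegularWreathProduct.mul_def, mul_assoc]

@[simp] theorem wrRep_apply (ρ : Representation F W U) (a : W ≀ᵣ C) (u : C → U) (x : C) :
    wrRep ρ a u x = ρ (a.left x) (u (a.right⁻¹ * x)) := rfl

theorem wrRep_ker [Nontrivial U] [DecidableEq C] (ρ : Representation F W U)
    (hρ : (ρ : W →* Module.End F U).ker = ⊥) :
    (wrRep ρ : (W ≀ᵣ C) →* Module.End F (C → U)).ker = ⊥ := by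
  rw [eq_bot_iff]
  intro a ha
  rw [mem_ker_iff] at ha
  rw [Subgroup.mem_bot]
  obtain ⟨v, hv⟩ := exists_ne (0 : U)
  have hright : a.right = 1 := by
    by_contra hne
    have h1 := congrFun (ha (Pi.single 1 v)) a.right
    rw [wrRep_apply, inv_mul_cancel, Pi.single_eq_same, Pi.single_eq_of_ne hne] at h1
    apply hv
    have h2 := congrArg (ρ (a.left a.right)⁻¹) h1
    rwa [rho_inv_apply, map_zero] at h2
  have hleft : ∀ x, a.left x = 1 := by
    intro x
    have hx : a.left x ∈ (ρ : W →* Module.End F U).ker := by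
      rw [mem_ker_iff]
      intro w
      have h1 := congrFun (ha (Pi.single x w)) x
      rw [wrRep_apply, hright, inv_one, one_mul, Pi.single_eq_same] at h1
      exact h1
    rw [hρ, Subgroup.mem_bot] at hx
    exact hx
  ext x
  · exact hleft x
  · exact hright

end wr

open Cfsg.Agent.Lib.Helper24.LinPGroupCross

/-- a linear model of large derived length -/
structure Model (F : Type u) [Field F] (p d k : ℕ) where
  U : Type u
  [acg : AddCommGroup U]
  [mod : Module F U]
  [fd : FiniteDimensional F U]
  W : Type u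
  [grp : Group W]
  [fin : Finite W]
  ρ : Representation F W U
  hker : (ρ : W →* Module.End F U).ker = ⊥
  hdim : finrank F U = d * p ^ k
  hP : IsPGroup p W
  hder : derivedSeries W k ≠ ⊥

theorem exists_model {F : Type u} [Field F] [Fintype F] (p : ℕ) [hp : Fact p.Prime]
    (hpq : ¬ p ∣ Fintype.card F) :
    ∀ k : ℕ, Nonempty (Model F p (orderOf ((Fintype.card F : ℕ) : ZMod p)) k) := by
  classical
  set q := Fintype.card F with hq
  set e := orderOf ((q : ℕ) : ZMod p) with he
  have hepos : 0 < e := by
    rw [he, orderOf_pos_iff, isOfFinOrder_iff_pow_eq_one]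
    refine ⟨p - 1, Nat.sub_pos_of_lt hp.out.one_lt, ?_⟩
    apply ZMod.pow_card_sub_one_eq_one
    rw [Ne, ZMod.natCast_eq_zero_iff]
    exact hpq
  haveI : NeZero p := ⟨hp.out.ne_zero⟩
  intro k
  induction k with
  | zero =>
    -- an element of order `p` in `GL_e(F)`
    have hdvd : p ∣ Nat.card (GL (Fin e) F) := by
      rw [Matrix.card_GL_field e]
      have h1 : p ∣ q ^ e - q ^ ((⟨0, hepos⟩ : Fin e) : ℕ) := by
        rw [pow_zero, ← ZMod.natCast_eq_zero_iff, Nat.cast_sub (Nat.one_le_pow _ _ Fintype.card_pos),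
          Nat.cast_pow, Nat.cast_one, he, pow_orderOf_eq_one, sub_self]
      exact dvd_trans h1 (Finset.dvd_prod_of_mem _ (Finset.mem_univ (⟨0, hepos⟩ : Fin e)))
    obtain ⟨c, hc⟩ := exists_prime_orderOf_dvd_card' p hdvd
    let W0 := Subgroup.zpowers c
    have hcard : Nat.card W0 = p := by rw [Nat.card_zpowers, hc]
    refine ⟨{ U := Fin e → F, W := W0, ρ := matRep W0.subtype, hker := ?_, hdim := ?_, hP := ?_,
              hder := ?_ }⟩
    · exact matRep_ker _ W0.subtype_injective
    · rw [pow_zero, mul_one, Module.finrank_fin_fun]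
    · exact IsPGroup.of_card (n := 1) (by rw [hcard, pow_one])
    · rw [derivedSeries_zero]
      intro htop
      have h1 : Nat.card W0 = 1 := by
        rw [← Subgroup.card_top (G := W0), htop, Subgroup.card_bot]
      rw [hcard] at h1
      exact hp.out.one_lt.ne' h1
  | succ k ih =>
    obtain ⟨M⟩ := ih
    letI := M.acg
    letI := M.mod
    letI := M.fd
    letI := M.grp
    letI := M.fin
    let C := Multiplicative (ZMod p)
    have hcardC : Nat.card C = p := by
      rw [Nat.card_eq_fintype_card, Fintype.card_multiplicative, ZMod.card]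
    obtain ⟨c0, hc0⟩ : ∃ c0 : C, c0 ≠ 1 := by
      haveI : Nontrivial C := by
        rw [← Finite.one_lt_card_iff_nontrivial, hcardC]; exact hp.out.one_lt
      exact exists_ne 1
    have hUnt : Nontrivial M.U := by
      rw [← finrank_pos_iff (R := F), M.hdim]
      exact Nat.mul_pos hepos (pow_pos hp.out.pos k)
    refine ⟨{ U := C → M.U, W := M.W ≀ᵣ C, ρ := wrRep M.ρ, hker := ?_, hdim := ?_, hP := ?_,
              hder := ?_ }⟩
    · exact wrRep_ker M.ρ M.hker
    · rw [Module.finrank_pi_fintype, Finset.sum_const, Finset.card_univ, smul_eq_mul, M.hdim,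
        ← Nat.card_eq_fintype_card, hcardC, pow_succ]
      ring
    · obtain ⟨a, ha⟩ := (IsPGroup.iff_card).mp M.hP
      apply IsPGroup.of_card (n := a * p + 1)
      rw [RegularWreathProduct.card, ha, hcardC, ← pow_mul, pow_succ]
    · exact Cfsg.Agent.Lib.Helper20.WrD.derivedSeries_wreath_ne_bot (D := M.W) hc0 k M.hder

/-- an injective representation on a space of dimension `≤ n` gives an embedding into `GL_n` -/
theorem exists_hom_GL {F : Type u} [Field F] {W : Type u} [Group W] {U : Type u} [AddCommGroup U]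
    [Module F U] [FiniteDimensional F U] (ρ : Representation F W U)
    (hker : (ρ : W →* Module.End F U).ker = ⊥) (n : ℕ) (hn : finrank F U ≤ n) :
    ∃ φ : W →* GL (Fin n) F, Function.Injective φ := by
  classical
  set m := n - finrank F U with hm
  have hfin : finrank F (U × (Fin m → F)) = finrank F (Fin n → F) := by
    rw [Module.finrank_prod, Module.finrank_fin_fun, Module.finrank_fin_fun]; omega
  let ε : (U × (Fin m → F)) ≃ₗ[F] (Fin n → F) := LinearEquiv.ofFinrankEq _ _ hfin
  let ρ' : W →* Module.End F (U × (Fin m → F)) :=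
    { toFun := fun g => (ρ g).prodMap LinearMap.id
      map_one' := by rw [map_one]; exact LinearMap.prodMap_one
      map_mul' := fun g h => by
        rw [map_mul]
        ext x <;> simp }
  let ψ : W →* Matrix (Fin n) (Fin n) F :=
    ((LinearMap.toMatrixAlgEquiv' (R := F) (n := Fin n)).toRingEquiv.toMonoidHom.comp
      (ε.conjRingEquiv.toMonoidHom)).comp ρ'
  refine ⟨ψ.toHomUnits, ?_⟩
  intro g h hgh
  have h1 : ψ g = ψ h := by
    have := congrArg (fun x : GL (Fin n) F => (x : Matrix (Fin n) (Fin n) F)) hgh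
    exact this
  have h2 : ρ' g = ρ' h := by
    have h3 : ε.conjRingEquiv (ρ' g) = ε.conjRingEquiv (ρ' h) :=
      (LinearMap.toMatrixAlgEquiv' (R := F) (n := Fin n)).injective h1
    exact ε.conjRingEquiv.injective h3
  have h4 : ρ g = ρ h := by
    ext u
    have := congrArg (fun f : Module.End F (U × (Fin m → F)) => (f (u, 0)).1) h2
    exact this
  exact (MonoidHom.ker_eq_bot_iff _).mp hker h4

/-- a `p`-group embedded in `G` embeds in any Sylow `p`-subgroup; so derived length is bounded
below -/
theorem sylow_derived_ne_bot_of_embedding {G : Type u} [Group G] [Finite G] {W : Type u} [Group W]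
    (p : ℕ) [hp : Fact p.Prime] (hW : IsPGroup p W) (φ : W →* G) (hφ : Function.Injective φ)
    (k : ℕ) (hder : derivedSeries W k ≠ ⊥) (P : Sylow p G) :
    derivedSeries ↥P k ≠ ⊥ := by
  classical
  have hQ : IsPGroup p φ.range :=
    IsPGroup.of_surjective hW φ.rangeRestrict φ.rangeRestrict_surjective
  obtain ⟨Q', hQ'⟩ := hQ.exists_le_sylow
  obtain ⟨c, hc⟩ := MulAction.exists_smul_eq G Q' P
  have hmem : ∀ x : W, ((MulAut.conj c).toMonoidHom.comp φ) x ∈ (P : Subgroup G) := by
    intro x
    have h1 : φ x ∈ (Q' : Subgroup G) := hQ' ⟨x, rfl⟩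
    rw [← hc, Sylow.coe_subgroup_smul]
    exact Subgroup.smul_mem_pointwise_smul _ _ _ h1
  let ψ : W →* ↥P := MonoidHom.codRestrict ((MulAut.conj c).toMonoidHom.comp φ) (P : Subgroup G) hmem
  have hψ : Function.Injective ψ := by
    intro x y hxy
    have h1 := congrArg (fun z : ↥P => (z : G)) hxy
    have h2 : c * φ x * c⁻¹ = c * φ y * c⁻¹ := h1
    apply hφ
    exact mul_left_cancel (mul_right_cancel h2)
  intro hbot
  apply hder
  have h1 := map_derivedSeries_le_derivedSeries ψ k
  rw [hbot, le_bot_iff, Subgroup.map_eq_bot_iff, (MonoidHom.ker_eq_bot_iff ψ).mpr hψ, le_bot_iff] at h1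
  exact h1

/-- the Sylow `p`-subgroups of `GL_n(F)`, `p ∤ |F|`, have derived length at least
`log_p (n / e) + 1` where `e` is the order of `|F|` mod `p` -/
theorem sylow_GL_derived_ne_bot {F : Type u} [Field F] [Fintype F] (p : ℕ) [hp : Fact p.Prime]
    (hpq : ¬ p ∣ Fintype.card F) (n : ℕ)
    (hn : orderOf ((Fintype.card F : ℕ) : ZMod p) ≤ n) (P : Sylow p (GL (Fin n) F)) :
    derivedSeries ↥P (Nat.log p (n / orderOf ((Fintype.card F : ℕ) : ZMod p))) ≠ ⊥ := by
  classical
  have hepos : 0 < orderOf ((Fintype.card F : ℕ) : ZMod p) := by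
    rw [orderOf_pos_iff, isOfFinOrder_iff_pow_eq_one]
    refine ⟨p - 1, Nat.sub_pos_of_lt hp.out.one_lt, ?_⟩
    apply ZMod.pow_card_sub_one_eq_one
    rw [Ne, ZMod.natCast_eq_zero_iff]
    exact hpq
  obtain ⟨M⟩ := exists_model (F := F) p hpq
    (Nat.log p (n / orderOf ((Fintype.card F : ℕ) : ZMod p)))
  letI := M.acg
  letI := M.mod
  letI := M.fd
  letI := M.grp
  letI := M.fin
  have hne : n / orderOf ((Fintype.card F : ℕ) : ZMod p) ≠ 0 := by
    rw [Ne, Nat.div_eq_zero_iff]
    push_neg
    exact ⟨hepos.ne', hn⟩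
  have hle : finrank F M.U ≤ n := by
    rw [M.hdim]
    calc orderOf ((Fintype.card F : ℕ) : ZMod p)
          * p ^ Nat.log p (n / orderOf ((Fintype.card F : ℕ) : ZMod p))
        ≤ orderOf ((Fintype.card F : ℕ) : ZMod p)
          * (n / orderOf ((Fintype.card F : ℕ) : ZMod p)) :=
          Nat.mul_le_mul_left _ (Nat.pow_log_le_self p hne)
      _ ≤ n := Nat.mul_div_le _ _
  obtain ⟨φ, hφ⟩ := exists_hom_GL M.ρ M.hker n hle
  haveI : Finite (GL (Fin n) F) := inferInstance
  exact sylow_derived_ne_bot_of_embedding p M.hP φ hφ _ M.hder P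

end Cfsg.Agent.Lib.Helper24.LinWreath
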