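/-
Helper24 library: finite p-solvable groups all of whose maximal subgroups have a normal p-complement or prime
index have a normal series with factors p', p, p', p (p-length at most 2).  Also: Frattini argument with
complements (`exists_normal_complement_of_le_frattini`), quotient/lifting lemmas for such series.
-/
import Mathlib
import Cfsg.Prelude.Def_Solvable
import Cfsg.Prelude.Def_Local
import Cfsg.Agent.Lib.Helper12.Cores
import Cfsg.Agent.Lib.Helper24.PSolvable
import Cfsg.Agent.Lib.Helper25.PSolvableSub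
import Cfsg.Agent.Lib.Helper1.SZConj

set_option autoImplicit false

open scoped Pointwise

namespace Cfsg.Agent.Lib.Helper24.MaxPNilp

universe u

/-- every maximal subgroup has a normal `p`-complement or prime index -/
def Hyp (p : ℕ) (G : Type*) [Group G] : Prop :=
  ∀ M : Subgroup G, IsCoatom M →
    (∃ K : Subgroup ↥M, K.Normal ∧ ¬ p ∣ Nat.card K ∧ ∃ k : ℕ, K.index = p ^ k) ∨ (M.index).Prime

/-- a normal chain `1 ≤ A ≤ B ≤ C ≤ G` with factors `p'`, `p`, `p'`, `p` -/
def Conc (p : ℕ) (G : Type*) [Group G] : Prop :=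
  ∃ A B C : Subgroup G, A.Normal ∧ B.Normal ∧ C.Normal ∧ A ≤ B ∧ B ≤ C ∧ ¬ p ∣ Nat.card A ∧
    (∃ k : ℕ, A.relIndex B = p ^ k) ∧ ¬ p ∣ B.relIndex C ∧ ∃ k : ℕ, C.index = p ^ k

section basic

variable {G : Type*} [Group G]

theorem relIndex_comap_comap {G' : Type*} [Group G'] (f : G →* G') (hf : Function.Surjective f)
    (A B : Subgroup G') : (A.comap f).relIndex (B.comap f) = A.relIndex B := by
  rw [Subgroup.relIndex_comap, Subgroup.map_comap_eq_self_of_surjective hf]

theorem comap_bot_mk' (N : Subgroup G) [N.Normal] :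
    (⊥ : Subgroup (G ⧸ N)).comap (QuotientGroup.mk' N) = N := by
  have := QuotientGroup.ker_mk' N
  rwa [MonoidHom.ker] at this

theorem le_comap_mk' (N : Subgroup G) [N.Normal] (A : Subgroup (G ⧸ N)) :
    N ≤ A.comap (QuotientGroup.mk' N) := by
  have h : (⊥ : Subgroup (G ⧸ N)).comap (QuotientGroup.mk' N) ≤ A.comap (QuotientGroup.mk' N) :=
    Subgroup.comap_mono bot_le
  rwa [comap_bot_mk'] at h

theorem relIndex_comap_mk' (N : Subgroup G) [N.Normal] (A : Subgroup (G ⧸ N)) :
    N.relIndex (A.comap (QuotientGroup.mk' N)) = Nat.card ↥A := by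
  have h := relIndex_comap_comap (QuotientGroup.mk' N) (QuotientGroup.mk'_surjective N) ⊥ A
  rwa [comap_bot_mk', Subgroup.relIndex_bot_left] at h

theorem isCoatom_comap_mk' (N : Subgroup G) [N.Normal] (M : Subgroup (G ⧸ N)) (hM : IsCoatom M) :
    IsCoatom (M.comap (QuotientGroup.mk' N)) := by
  have hsurj := QuotientGroup.mk'_surjective N
  constructor
  · intro h
    apply hM.1
    rw [← Subgroup.map_comap_eq_self_of_surjective hsurj M, h, Subgroup.map_top_of_surjective _ hsurj]
  · intro L hL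
    have hNL : (QuotientGroup.mk' N).ker ≤ L := by
      refine le_trans ?_ hL.le
      intro x hx
      rw [Subgroup.mem_comap, MonoidHom.mem_ker.mp hx]
      exact M.one_mem
    have h1 : M ≤ L.map (QuotientGroup.mk' N) := by
      rw [← Subgroup.map_comap_eq_self_of_surjective hsurj M]
      exact Subgroup.map_mono hL.le
    have h2 : M ≠ L.map (QuotientGroup.mk' N) := by
      intro h
      have : L ≤ M.comap (QuotientGroup.mk' N) := by
        rw [h]
        exact Subgroup.le_comap_map _ _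
      exact absurd hL (not_lt_of_ge this)
    have h3 := hM.2 _ (lt_of_le_of_ne h1 h2)
    rw [← Subgroup.comap_map_eq_self hNL, h3, Subgroup.comap_top]

theorem hyp_quotient (p : ℕ) [hp : Fact p.Prime] (N : Subgroup G) [N.Normal] (h : Hyp p G) :
    Hyp p (G ⧸ N) := by
  intro M hM
  have hsurj := QuotientGroup.mk'_surjective N
  rcases h _ (isCoatom_comap_mk' N M hM) with ⟨K, hK, hKc, k, hKi⟩ | hprime
  · left
    let φ : ↥(M.comap (QuotientGroup.mk' N)) →* ↥M := (QuotientGroup.mk' N).subgroupComap M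
    have hφ : Function.Surjective φ :=
      (QuotientGroup.mk' N).subgroupComap_surjective_of_surjective M hsurj
    refine ⟨K.map φ, hK.map φ hφ, ?_, ?_⟩
    · intro hd
      exact hKc (dvd_trans hd (Subgroup.card_map_dvd K φ))
    · have hd : (K.map φ).index ∣ p ^ k := hKi ▸ Subgroup.index_map_dvd K hφ
      obtain ⟨j, _, hj⟩ := (Nat.dvd_prime_pow hp.out).mp hd
      exact ⟨j, hj⟩
  · right
    rwa [Subgroup.index_comap_of_surjective M hsurj] at hprime

theorem conc_lift (p : ℕ) [hp : Fact p.Prime] (N : Subgroup G) [N.Normal]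
    (A B C : Subgroup (G ⧸ N)) (hA : A.Normal) (hB : B.Normal) (hC : C.Normal) (hAB : A ≤ B)
    (hBC : B ≤ C) (h2 : ∃ k : ℕ, A.relIndex B = p ^ k) (h3 : ¬ p ∣ B.relIndex C)
    (h4 : ∃ k : ℕ, C.index = p ^ k)
    (hN : (¬ p ∣ Nat.card N ∧ ¬ p ∣ Nat.card A) ∨ (IsPGroup p N ∧ Finite N ∧ A = ⊥)) : Conc p G := by
  have hsurj := QuotientGroup.mk'_surjective N
  have hB' : (B.comap (QuotientGroup.mk' N)).Normal := hB.comap _
  have hC' : (C.comap (QuotientGroup.mk' N)).Normal := hC.comap _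
  have e3 : ¬ p ∣ (B.comap (QuotientGroup.mk' N)).relIndex (C.comap (QuotientGroup.mk' N)) := by
    rwa [relIndex_comap_comap _ hsurj]
  have e4 : ∃ k : ℕ, (C.comap (QuotientGroup.mk' N)).index = p ^ k := by
    rwa [Subgroup.index_comap_of_surjective C hsurj]
  rcases hN with ⟨hN1, hA1⟩ | ⟨hN1, hN2, hA1⟩
  · refine ⟨A.comap (QuotientGroup.mk' N), B.comap (QuotientGroup.mk' N),
      C.comap (QuotientGroup.mk' N), hA.comap _, hB', hC', Subgroup.comap_mono hAB,
      Subgroup.comap_mono hBC, ?_, ?_, e3, e4⟩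
    · rw [Cfsg.Agent.Lib.Helper12.card_comap_mk']
      intro hd
      rcases (Nat.Prime.dvd_mul hp.out).mp hd with h | h
      · exact hN1 h
      · exact hA1 h
    · rwa [relIndex_comap_comap _ hsurj]
  · refine ⟨⊥, B.comap (QuotientGroup.mk' N), C.comap (QuotientGroup.mk' N), inferInstance, hB',
      hC', bot_le, Subgroup.comap_mono hBC, ?_, ?_, e3, e4⟩
    · rw [Subgroup.card_bot]
      exact hp.out.one_lt.ne' ∘ Nat.dvd_one.mp
    · obtain ⟨k, hk⟩ := h2
      obtain ⟨j, hj⟩ := (IsPGroup.iff_card).mp hN1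
      refine ⟨j + k, ?_⟩
      rw [Subgroup.relIndex_bot_left, Cfsg.Agent.Lib.Helper12.card_comap_mk', hj, pow_add]
      congr 1
      rw [← hk, hA1, Subgroup.relIndex_bot_left]

end basic

section star

variable {G : Type u} [Group G] [Finite G]

/-- In a `p`-solvable group with `O_{p'} = 1`, every nontrivial normal subgroup meets `O_p`. -/
theorem inf_pCore_ne_bot (p : ℕ) [hp : Fact p.Prime] (hG : Cfsg.IsPSolvable p G)
    (hO : Cfsg.pPrimeCore p G = ⊥) (X : Subgroup G) [hXn : X.Normal] (hX : X ≠ ⊥) :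
    X ⊓ Cfsg.pCore p G ≠ ⊥ := by
  haveI : Nontrivial ↥X := (Subgroup.nontrivial_iff_ne_bot X).mpr hX
  have hXs : Cfsg.IsPSolvable p ↥X := Cfsg.Agent.Lib.Helper25.isPSolvable_subgroup p hG X
  haveI := Cfsg.Agent.Lib.Helper12.pPrimeCore_characteristic (G := ↥X) p
  haveI := Cfsg.Agent.Lib.Helper12.pCore_characteristic' (G := ↥X) p
  have hY : ((Cfsg.pPrimeCore p ↥X).map X.subtype).Normal :=
    ConjAct.normal_of_characteristic_of_normal
  have hYc : (Nat.card ↥((Cfsg.pPrimeCore p ↥X).map X.subtype)).Coprime p := by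
    rw [Subgroup.card_map_of_injective X.subtype_injective]
    exact Cfsg.Agent.Lib.Helper12.pPrimeCore_coprime p
  have hY0 : Cfsg.pPrimeCore p ↥X = ⊥ := by
    have := Cfsg.Agent.Lib.Helper12.le_pPrimeCore p _ hY hYc
    rw [hO, le_bot_iff] at this
    exact (Subgroup.map_eq_bot_iff_of_injective _ X.subtype_injective).mp this
  have hZ0 : Cfsg.pCore p ↥X ≠ ⊥ := pCore_ne_bot_of_isPSolvable p hXs hY0
  have hZ : ((Cfsg.pCore p ↥X).map X.subtype).Normal :=
    ConjAct.normal_of_characteristic_of_normal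
  have hZp : IsPGroup p ↥((Cfsg.pCore p ↥X).map X.subtype) :=
    (Cfsg.Agent.Lib.Helper12.pCore_isPGroup' p).map _
  have hZle : (Cfsg.pCore p ↥X).map X.subtype ≤ X ⊓ Cfsg.pCore p G :=
    le_inf (Subgroup.map_subtype_le _) (Cfsg.Agent.Lib.Helper12.le_pCore' p _ hZ hZp)
  intro h
  rw [h, le_bot_iff] at hZle
  exact hZ0 ((Subgroup.map_eq_bot_iff_of_injective _ X.subtype_injective).mp hZle)

end star

section indexp

variable {G : Type*} [Group G] [Finite G]

theorem prime_sq_not_dvd_factorial {p : ℕ} (hp : p.Prime) : ¬ p * p ∣ p.factorial := by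
  intro h
  obtain ⟨q, rfl⟩ : ∃ q, p = q + 1 := ⟨p - 1, (Nat.succ_pred_eq_of_pos hp.pos).symm⟩
  rw [Nat.factorial_succ] at h
  have h1 : (q + 1) ∣ q.factorial := Nat.dvd_of_mul_dvd_mul_left (Nat.succ_pos q) h
  have := (Nat.Prime.dvd_factorial hp).mp h1
  omega

theorem index_normalCore_dvd_factorial (M : Subgroup G) :
    M.normalCore.index ∣ (M.index).factorial := by
  rw [Subgroup.normalCore_eq_ker, Subgroup.index_ker, Subgroup.index_eq_card, ← Nat.card_perm]
  exact Subgroup.card_subgroup_dvd_card _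

/-- A Sylow `p`-subgroup lies in `F · core(M)` when `M` has index `p` and does not contain the normal
`p`-subgroup `F`. -/
theorem sylow_le_sup_normalCore (p : ℕ) [hp : Fact p.Prime] (F : Subgroup G) [F.Normal]
    (hF : IsPGroup p F) (M : Subgroup G) (hM : M.index = p) (hFM : ¬ F ≤ M) (P : Sylow p G) :
    (P : Subgroup G) ≤ F ⊔ M.normalCore := by
  set c := M.normalCore with hc
  haveI : c.Normal := Subgroup.normalCore_normal M
  have h1 : c.index ∣ p.factorial := hM ▸ index_normalCore_dvd_factorial M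
  have h2 : p ∣ c.relIndex (F ⊔ c) := by
    rw [Subgroup.relIndex_sup_right]
    obtain ⟨a, ha⟩ := (IsPGroup.iff_card).mp hF
    have hd : c.relIndex F ∣ p ^ a := ha ▸ Subgroup.relIndex_dvd_card c F
    obtain ⟨j, _, hj⟩ := (Nat.dvd_prime_pow hp.out).mp hd
    rcases Nat.eq_zero_or_pos j with h0 | h0
    · exfalso
      rw [h0, pow_zero, Subgroup.relIndex_eq_one] at hj
      exact hFM (le_trans hj (Subgroup.normalCore_le M))
    · rw [hj]
      exact dvd_pow_self p h0.ne'
  have h3 : ¬ p ∣ (F ⊔ c).index := by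
    intro hd
    have h4 : c.relIndex (F ⊔ c) * (F ⊔ c).index = c.index :=
      Subgroup.relIndex_mul_index le_sup_right
    have h5 : p * p ∣ c.index := h4 ▸ Nat.mul_dvd_mul h2 hd
    exact prime_sq_not_dvd_factorial hp.out (dvd_trans h5 h1)
  have h6 : (F ⊔ c).relIndex (P : Subgroup G) = 1 := by
    have ha : (F ⊔ c).relIndex (P : Subgroup G) ∣ (F ⊔ c).index :=
      Subgroup.relIndex_dvd_index_of_normal _ _
    obtain ⟨b, hb⟩ := (IsPGroup.iff_card).mp P.isPGroup'
    have hb' : (F ⊔ c).relIndex (P : Subgroup G) ∣ p ^ b :=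
      hb ▸ Subgroup.relIndex_dvd_card (F ⊔ c) (P : Subgroup G)
    obtain ⟨j, _, hj⟩ := (Nat.dvd_prime_pow hp.out).mp hb'
    rcases Nat.eq_zero_or_pos j with h0 | h0
    · rw [hj, h0, pow_zero]
    · exfalso
      apply h3
      refine dvd_trans ?_ ha
      rw [hj]
      exact dvd_pow_self p h0.ne'
  exact Subgroup.relIndex_eq_one.mp h6

theorem pow_card_mem_of_mem_sup (F c : Subgroup G) [c.Normal] (t : G) (ht : t ∈ F ⊔ c) :
    t ^ Nat.card F ∈ c := by
  have h1 : t ∈ ((F ⊔ c : Subgroup G) : Set G) := ht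
  rw [Subgroup.mul_normal] at h1
  obtain ⟨f, hf, c', hc', rfl⟩ := Set.mem_mul.mp h1
  rw [← QuotientGroup.eq_one_iff]
  have h2 : ((c' : G) : G ⧸ c) = 1 := (QuotientGroup.eq_one_iff c').mpr hc'
  have h3 : f ^ Nat.card F = 1 := by
    have := pow_card_eq_one' (G := ↥F) (x := ⟨f, hf⟩)
    exact congrArg Subtype.val this
  rw [QuotientGroup.mk_pow, QuotientGroup.mk_mul, h2, mul_one, ← QuotientGroup.mk_pow, h3]
  rfl

end indexp

section frattiniArg

variable {G : Type u} [Group G] [Finite G]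

/-- Frattini argument with complements: a normal subgroup `A` containing a normal `p`-subgroup `W ≤ Φ(G)`
with `A/W` a `p'`-group has a normal (in `G`) complement to `W`. -/
theorem exists_normal_complement_of_le_frattini (p : ℕ) [hp : Fact p.Prime] (W A : Subgroup G)
    [hWn : W.Normal] [hAn : A.Normal] (hWA : W ≤ A) (hWp : IsPGroup p W) (hWf : W ≤ frattini G)
    (hcop : ¬ p ∣ W.relIndex A) :
    ∃ H : Subgroup G, H.Normal ∧ Nat.card H = W.relIndex A := by
  set N₁ : Subgroup ↥A := W.subgroupOf A with hN₁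
  haveI : N₁.Normal := hWn.subgroupOf A
  have hN₁p : IsPGroup p ↥N₁ := hWp.comap_subtype
  obtain ⟨a, ha⟩ := (IsPGroup.iff_card).mp hN₁p
  have hN₁i : N₁.index = W.relIndex A := rfl
  have hcop' : (Nat.card ↥N₁).Coprime N₁.index := by
    rw [ha, hN₁i]
    exact Nat.Coprime.pow_left _ ((Nat.Prime.coprime_iff_not_dvd hp.out).mpr hcop)
  obtain ⟨H₀, hH₀⟩ := Subgroup.exists_right_complement'_of_coprime hcop'
  have hcardH₀ : Nat.card ↥H₀ = W.relIndex A := by
    rw [← hN₁i]
    exact (hH₀.symm.index_eq_card).symm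
  haveI : Group.IsSolvable ↥N₁ := by
    haveI := hN₁p.isNilpotent
    infer_instance
  refine ⟨H₀.map A.subtype, ?_, ?_⟩
  swap
  · rw [Subgroup.card_map_of_injective A.subtype_injective, hcardH₀]
  -- normality via the Frattini argument
  rw [← Subgroup.normalizer_eq_top_iff]
  apply frattini_nongenerating
  rw [eq_top_iff]
  intro g _
  -- the conjugate complement
  let φ : ↥A ≃* ↥A := MulAut.conjNormal g
  have hcardK : Nat.card ↥(H₀.map φ.toMonoidHom) = Nat.card ↥H₀ :=
    Subgroup.card_map_of_injective (show Function.Injective φ.toMonoidHom from φ.injective)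
  have hK₀ : Subgroup.IsComplement' N₁ (H₀.map φ.toMonoidHom) := by
    apply Subgroup.isComplement'_of_coprime
    · rw [hcardK]
      exact hH₀.card_mul_card
    · rw [hcardK, hcardH₀, ← hN₁i]
      exact hcop'
  obtain ⟨x, hx⟩ := Cfsg.Agent.Lib.Helper1.sz_conj N₁ hcop' (Or.inl inferInstance) H₀
    (H₀.map φ.toMonoidHom) hH₀ hK₀
  -- `x⁻¹ g` normalizes `H`
  have hnorm : (x : G)⁻¹ * g ∈ Subgroup.normalizer ((H₀.map A.subtype : Subgroup G) : Set G) := by
    rw [Subgroup.mem_normalizer_iff_map_conj_eq]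
    apply Subgroup.eq_of_le_of_card_ge
    · rintro _ ⟨_, ⟨h₀, hh₀, rfl⟩, rfl⟩
      have h1 : φ h₀ ∈ H₀.map φ.toMonoidHom := Subgroup.mem_map_of_mem _ hh₀
      rw [← hx, Subgroup.mem_pointwise_smul_iff_inv_smul_mem] at h1
      refine ⟨_, h1, ?_⟩
      have h2 : ((φ h₀ : ↥A) : G) = g * (h₀ : G) * g⁻¹ := MulAut.conjNormal_apply g h₀
      simp only [Subgroup.coe_subtype, MulAut.smul_def, MulAut.conj_inv_apply, Subgroup.coe_mul,
        Subgroup.coe_inv, h2]
      show _ = ((x : G)⁻¹ * g) * (h₀ : G) * ((x : G)⁻¹ * g)⁻¹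
      group
    · refine le_of_eq (Subgroup.card_map_of_injective ?_).symm
      exact (MulAut.conj ((x : G)⁻¹ * g)).injective
  -- decompose `x = w h`
  obtain ⟨⟨⟨w, hw⟩, ⟨h, hh⟩⟩, hwh⟩ := hH₀.2 x
  have hwh' : (w : G) * (h : G) = (x : G) := by
    have := congrArg Subtype.val hwh
    simpa using this
  have hg : g = (w : G) * ((h : G) * ((x : G)⁻¹ * g)) := by
    rw [← mul_assoc, hwh']
    group
  rw [hg]
  refine Subgroup.mul_mem _ (Subgroup.mem_sup_right (hWf hw)) (Subgroup.mem_sup_left ?_)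
  refine Subgroup.mul_mem _ ?_ hnorm
  exact Subgroup.le_normalizer (Subgroup.mem_map_of_mem A.subtype hh)

end frattiniArg

section main

theorem not_dvd_one_of_prime {p : ℕ} (hp : p.Prime) : ¬ p ∣ 1 :=
  fun h => hp.one_lt.ne' (Nat.dvd_one.mp h)

/-- Main theorem: a finite `p`-solvable group all of whose maximal subgroups have a normal `p`-complement or
prime index has a normal series `1 ≤ A ≤ B ≤ C ≤ G` with factors `p'`, `p`, `p'`, `p`. -/
theorem main (p : ℕ) [hp : Fact p.Prime] : ∀ (n : ℕ) (G : Type u) [Group G] [Finite G],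
    Nat.card G = n → Cfsg.IsPSolvable p G → Hyp p G → Conc p G := by
  intro n
  induction n using Nat.strong_induction_on with
  | _ n ih =>
  intro G _ _ hn hsolv hyp
  have hp1 := not_dvd_one_of_prime hp.out
  rcases subsingleton_or_nontrivial G with hs | hnt
  · refine ⟨⊤, ⊤, ⊤, inferInstance, inferInstance, inferInstance, le_rfl, le_rfl, ?_, ⟨0, ?_⟩, ?_,
      ⟨0, ?_⟩⟩
    · rw [Subgroup.card_top, Nat.card_of_subsingleton (1 : G)]
      exact hp1
    · rw [Subgroup.relIndex_self, pow_zero]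
    · rw [Subgroup.relIndex_self]
      exact hp1
    · rw [Subgroup.index_top, pow_zero]
  by_cases hO : Cfsg.pPrimeCore p G = ⊥
  swap
  · -- Case 1: `O_{p'}(G) ≠ 1`
    haveI := pPrimeCore_normal' (G := G) p
    have hlt : Nat.card (G ⧸ Cfsg.pPrimeCore p G) < n :=
      hn ▸ Cfsg.Agent.Lib.Helper1.card_quotient_lt_of_ne_bot hO
    obtain ⟨A, B, C, hA, hB, hC, hAB, hBC, h1, h2, h3, h4⟩ :=
      ih _ hlt (G ⧸ Cfsg.pPrimeCore p G) rfl
        (isPSolvable_of_surjective p (QuotientGroup.mk' _) (QuotientGroup.mk'_surjective _) hsolv)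
        (hyp_quotient p _ hyp)
    refine conc_lift p _ A B C hA hB hC hAB hBC h2 h3 h4 (Or.inl ⟨?_, h1⟩)
    exact (Nat.Prime.coprime_iff_not_dvd hp.out).mp
      (Cfsg.Agent.Lib.Helper12.pPrimeCore_coprime p).symm
  -- Case 2: `O_{p'}(G) = 1`
  haveI hFn := pCore_normal' (G := G) p
  have hF1 : Cfsg.pCore p G ≠ ⊥ := pCore_ne_bot_of_isPSolvable p hsolv hO
  have hFp : IsPGroup p ↥(Cfsg.pCore p G) := Cfsg.Agent.Lib.Helper12.pCore_isPGroup' p
  set F := Cfsg.pCore p G with hF
  by_cases h2a : ∃ M : Subgroup G, IsCoatom M ∧ ¬ F ≤ M ∧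
      ∃ K : Subgroup ↥M, K.Normal ∧ ¬ p ∣ Nat.card K ∧ ∃ k : ℕ, K.index = p ^ k
  · -- Case 2a
    obtain ⟨M, hM, hFM, K, hK, hKc, k, hKi⟩ := h2a
    have htop : M ⊔ F = ⊤ := by
      apply hM.2
      refine lt_of_le_of_ne le_sup_left ?_
      intro h
      exact hFM (h ▸ le_sup_right)
    let f : ↥M →* G ⧸ F := (QuotientGroup.mk' F).comp M.subtype
    have hf : Function.Surjective f := by
      intro y
      obtain ⟨g, rfl⟩ := QuotientGroup.mk'_surjective F y
      have hg : g ∈ ((M ⊔ F : Subgroup G) : Set G) := by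
        rw [htop]
        exact Set.mem_univ g
      rw [Subgroup.mul_normal] at hg
      obtain ⟨m, hm, f', hf', rfl⟩ := Set.mem_mul.mp hg
      refine ⟨⟨m, hm⟩, ?_⟩
      show QuotientGroup.mk' F m = QuotientGroup.mk' F (m * f')
      have h1 : QuotientGroup.mk' F f' = 1 := (QuotientGroup.eq_one_iff f').mpr hf'
      rw [map_mul, h1, mul_one]
    refine conc_lift p F ⊥ ⊥ (K.map f) inferInstance inferInstance (hK.map f hf) le_rfl bot_le
      ⟨0, by rw [Subgroup.relIndex_self, pow_zero]⟩ ?_ ?_ (Or.inr ⟨hFp, inferInstance, rfl⟩)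
    · rw [Subgroup.relIndex_bot_left]
      intro hd
      exact hKc (dvd_trans hd (Subgroup.card_map_dvd K f))
    · have hd : (K.map f).index ∣ p ^ k := hKi ▸ Subgroup.index_map_dvd K hf
      obtain ⟨j, _, hj⟩ := (Nat.dvd_prime_pow hp.out).mp hd
      exact ⟨j, hj⟩
  -- Case 2b
  push_neg at h2a
  have hidx : ∀ M : Subgroup G, IsCoatom M → ¬ F ≤ M → M.index = p := by
    intro M hM hFM
    rcases hyp M hM with ⟨K, hK, hKc, k, hKi⟩ | hprime
    · exact absurd hKi (h2a M hM hFM K hK hKc k)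
    · have htop : M ⊔ F = ⊤ := by
        apply hM.2
        refine lt_of_le_of_ne le_sup_left ?_
        intro h
        exact hFM (h ▸ le_sup_right)
      have h1 : Nat.card ↥(M ⊔ F) ∣ Nat.card ↥M * Nat.card ↥F :=
        Cfsg.Agent.Lib.Helper12.card_sup_dvd_of_normal M F
      rw [htop, Subgroup.card_top, ← Subgroup.card_mul_index M] at h1
      have h2 : M.index ∣ Nat.card ↥F :=
        Nat.dvd_of_mul_dvd_mul_left Nat.card_pos h1
      obtain ⟨a, ha⟩ := (IsPGroup.iff_card).mp hFp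
      rw [ha] at h2
      exact ((Nat.prime_dvd_prime_iff_eq hp.out hprime).mp
        (((Nat.Prime.dvd_of_dvd_pow hprime h2) |> fun h =>
          (Nat.prime_dvd_prime_iff_eq hprime hp.out).mp h) ▸ dvd_rfl)).symm
  -- the family of maximal subgroups not containing `F`
  let X : Subgroup G :=
    ⨅ M : {M : Subgroup G // IsCoatom M ∧ ¬ F ≤ M}, (M : Subgroup G).normalCore
  haveI hXn : X.Normal := Subgroup.normal_iInf_normal (fun M => Subgroup.normalCore_normal _)
  have hWf : F ⊓ X ≤ frattini G := by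
    unfold frattini Order.radical
    refine le_iInf₂ (fun M hM => ?_)
    by_cases hFM : F ≤ M
    · exact le_trans inf_le_left hFM
    · refine le_trans inf_le_right ?_
      exact le_trans (iInf_le _ ⟨M, hM, hFM⟩) (Subgroup.normalCore_le M)
  by_cases hW : F ⊓ X = ⊥
  · -- Case 2b-i
    have hX : X = ⊥ := by
      by_contra h
      exact inf_pCore_ne_bot p hsolv hO X h (by rw [inf_comm]; exact hW)
    let T : Subgroup G :=
      ⨅ M : {M : Subgroup G // IsCoatom M ∧ ¬ F ≤ M}, F ⊔ (M : Subgroup G).normalCore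
    have hTn : T.Normal := Subgroup.normal_iInf_normal (fun M => by
      haveI := Subgroup.normalCore_normal (M : Subgroup G)
      infer_instance)
    obtain ⟨a, ha⟩ := (IsPGroup.iff_card).mp hFp
    have hTp : IsPGroup p ↥T := by
      intro t
      refine ⟨a, Subtype.ext ?_⟩
      have h1 : (t : G) ^ Nat.card ↥F ∈ X := by
        rw [Subgroup.mem_iInf]
        intro M
        haveI := Subgroup.normalCore_normal (M : Subgroup G)
        exact pow_card_mem_of_mem_sup F _ _ ((Subgroup.mem_iInf.mp t.2) M)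
      rw [hX, Subgroup.mem_bot, ha] at h1
      simpa using h1
    have hTF : T ≤ F := Cfsg.Agent.Lib.Helper12.le_pCore' p T hTn hTp
    obtain ⟨P⟩ : Nonempty (Sylow p G) := inferInstance
    have hPT : (P : Subgroup G) ≤ T := by
      refine le_iInf (fun M => ?_)
      exact sylow_le_sup_normalCore p F hFp M (hidx M M.2.1 M.2.2) M.2.2 P
    have hFi : ¬ p ∣ F.index := by
      intro hd
      exact P.not_dvd_index (dvd_trans hd (Subgroup.index_dvd_of_le (le_trans hPT hTF)))
    refine ⟨⊥, F, ⊤, inferInstance, hFn, inferInstance, bot_le, le_top, ?_, ⟨a, ?_⟩, ?_, ⟨0, ?_⟩⟩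
    · rw [Subgroup.card_bot]
      exact hp1
    · rw [Subgroup.relIndex_bot_left, ha]
    · rw [Subgroup.relIndex_top_right]
      exact hFi
    · rw [Subgroup.index_top, pow_zero]
  · -- Case 2b-ii
    haveI hWn : (F ⊓ X).Normal := inferInstance
    have hWp : IsPGroup p ↥(F ⊓ X) := hFp.to_le inf_le_left
    have hlt : Nat.card (G ⧸ (F ⊓ X)) < n :=
      hn ▸ Cfsg.Agent.Lib.Helper1.card_quotient_lt_of_ne_bot hW
    obtain ⟨A, B, C, hA, hB, hC, hAB, hBC, h1, h2, h3, h4⟩ :=
      ih _ hlt (G ⧸ (F ⊓ X)) rfl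
        (isPSolvable_of_surjective p (QuotientGroup.mk' _) (QuotientGroup.mk'_surjective _) hsolv)
        (hyp_quotient p _ hyp)
    have hA0 : A = ⊥ := by
      haveI : (A.comap (QuotientGroup.mk' (F ⊓ X))).Normal := hA.comap _
      have hWA : F ⊓ X ≤ A.comap (QuotientGroup.mk' (F ⊓ X)) := le_comap_mk' _ A
      have hrel : (F ⊓ X).relIndex (A.comap (QuotientGroup.mk' (F ⊓ X))) = Nat.card ↥A :=
        relIndex_comap_mk' _ A
      obtain ⟨H, hHn, hHc⟩ := exists_normal_complement_of_le_frattini p (F ⊓ X) _ hWA hWp hWf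
        (hrel ▸ h1)
      have hH0 : H = ⊥ := by
        have hc : (Nat.card ↥H).Coprime p := by
          rw [hHc, hrel]
          exact ((Nat.Prime.coprime_iff_not_dvd hp.out).mpr h1).symm
        have := Cfsg.Agent.Lib.Helper12.le_pPrimeCore p H hHn hc
        rwa [hO, le_bot_iff] at this
      rw [hH0, Subgroup.card_bot, hrel] at hHc
      exact Subgroup.card_eq_one.mp hHc.symm
    exact conc_lift p (F ⊓ X) A B C hA hB hC hAB hBC h2 h3 h4 (Or.inr ⟨hWp, inferInstance, hA0⟩)

end main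

end Cfsg.Agent.Lib.Helper24.MaxPNilp
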