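import Mathlib
import Cfsg.Prelude.Def_Solvable
import Cfsg.Agent.Lib.Helper26.McLDefs
import Cfsg.Agent.Lib.Helper26.McLBasic
import Cfsg.Agent.Lib.Helper26.McLMore

/-!
# S5075 (McLaughlin over `ZMod p`): leaf EXT (`exists_ext`)

Every functional of `Nsp K` vanishing at the centre `v` is the restriction of an element of `Phi K v`
(when all non-zero vectors of `Nsp K` are centres and independent centres are adjacent).
-/

set_option autoImplicit false
set_option linter.unusedSectionVars false
set_option linter.unusedVariables false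

namespace Cfsg.Agent.Lib.Helper24.McLLeaf
open Module Cfsg.Agent.Lib.Helper26.McL

universe u
variable {p : ℕ} [Fact p.Prime] {V : Type u} [AddCommGroup V] [Module (ZMod p) V]
variable {K : Subgroup (V ≃ₗ[ZMod p] V)}

/-- **EXT**. -/
theorem exists_ext [Finite V]
    (hall : ∀ x ∈ Nsp K, x ≠ 0 → IsCtr K x)
    (hadj : ∀ v y, IsCtr K v → IsCtr K y →
      (∀ a b : ZMod p, a • v + b • y = 0 → a = 0 ∧ b = 0) → Arr K v y)
    {v : V} (hv : v ∈ Nsp K) (hv0 : v ≠ 0) (ψ : Dual (ZMod p) ↥(Nsp K)) (hψ : ψ ⟨v, hv⟩ = 0) :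
    ∃ φ ∈ Phi K v, φ ∘ₗ (Nsp K).subtype = ψ := by
  have : Module.Finite (ZMod p) V := Module.Finite.of_finite
  set R : Submodule (ZMod p) (Dual (ZMod p) ↥(Nsp K)) :=
    (Phi K v).map (Nsp K).subtype.dualMap with hR
  have hcoann : R.dualCoannihilator ≤ Submodule.span (ZMod p) {(⟨v, hv⟩ : ↥(Nsp K))} := by
    intro y hy
    rw [Submodule.mem_dualCoannihilator] at hy
    by_contra hyspan
    have hy0 : (y : V) ≠ 0 := by
      intro h0
      apply hyspan
      have : y = 0 := Subtype.ext h0
      rw [this]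
      exact Submodule.zero_mem _
    have hind : ∀ a b : ZMod p, a • v + b • (y : V) = 0 → a = 0 ∧ b = 0 := by
      intro a b hab
      by_cases hb : b = 0
      · subst hb
        rw [zero_smul, add_zero, smul_eq_zero] at hab
        exact ⟨hab.resolve_right hv0, rfl⟩
      · exfalso
        apply hyspan
        rw [Submodule.mem_span_singleton]
        refine ⟨-(b⁻¹ * a), ?_⟩
        apply Subtype.ext
        have h1 : b • (y : V) = -(a • v) := eq_neg_of_add_eq_zero_right hab
        have h2 : (y : V) = b⁻¹ • (b • (y : V)) := by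
          rw [smul_smul, inv_mul_cancel₀ hb, one_smul]
        rw [Submodule.coe_smul]
        show -(b⁻¹ * a) • v = (y : V)
        rw [h2, h1, smul_neg, smul_smul, neg_smul]
    obtain ⟨φ, hφ, hφy⟩ := hadj v y (hall v hv hv0) (hall y y.2 hy0) hind
    apply hφy
    have := hy ((Nsp K).subtype.dualMap φ) ⟨φ, hφ, rfl⟩
    simpa using this
  have hψR : ψ ∈ R := by
    rw [← Subspace.dualCoannihilator_dualAnnihilator_eq (W := R)]
    rw [Submodule.mem_dualAnnihilator]
    intro y hy
    obtain ⟨c, rfl⟩ := Submodule.mem_span_singleton.mp (hcoann hy)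
    rw [map_smul, hψ, smul_zero]
  obtain ⟨φ, hφ, rfl⟩ := hψR
  exact ⟨φ, hφ, rfl⟩

end Cfsg.Agent.Lib.Helper24.McLLeaf
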