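import Mathlib
import Cfsg.Prelude.Def_Solvable
import Cfsg.Agent.Lib.Helper26.McLDefs
import Cfsg.Agent.Lib.Helper26.McLBasic
import Cfsg.Agent.Lib.Helper26.McLMore

/-!
S5075 (McLaughlin over `ZMod p`), leaf F7 (`arr_of_two_le`, helper26's market): if `dim Phi K v ≥ 2` for
all centres, two linearly independent centres are adjacent.
-/

set_option autoImplicit false
set_option linter.unusedSectionVars false
set_option linter.unusedVariables false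

namespace Cfsg.Agent.Lib.Helper24.McLLeaf
open Module Cfsg.Agent.Lib.Helper26.McL

universe u
variable {p : ℕ} [Fact p.Prime] {V : Type u} [AddCommGroup V] [Module (ZMod p) V]
variable {K : Subgroup (V ≃ₗ[ZMod p] V)}

/-- (L0, one direction) `v → u`, `¬ v → y`: a functional of `Phi K u` vanishing at `v` lies in `Phi K v`
and vanishes at `y` -/
lemma f7_zero_of_zero {v y u : V} (hvu : Arr K v u) (hvy : ¬ Arr K v y) {φ : Dual (ZMod p) V}
    (hφ : φ ∈ Phi K u) (hφv : φ v = 0) : φ ∈ Phi K v ∧ φ y = 0 := by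
  obtain ⟨ψ, hψ, hψu⟩ := hvu
  have h1 : φ ∈ Phi K v := mem_Phi_of_arr hψ hψu hφ hφv
  exact ⟨h1, not_arr_iff.mp hvy φ h1⟩

/-- a subspace of the dual of dimension at least two contains a non-zero functional vanishing at a
given vector -/
lemma f7_exists_ne_zero [Finite V] (P : Submodule (ZMod p) (Dual (ZMod p) V))
    (hP : 2 ≤ finrank (ZMod p) P) (v : V) : ∃ φ ∈ P, φ ≠ 0 ∧ φ v = 0 := by
  haveI : Module.Finite (ZMod p) V := Module.Finite.of_finite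
  set e : ↥P →ₗ[ZMod p] ZMod p := (Dual.eval (ZMod p) V v).comp P.subtype with he
  have hker : LinearMap.ker e ≠ ⊥ := by
    intro h
    have hinj : Function.Injective e := LinearMap.ker_eq_bot.mp h
    have := LinearMap.finrank_le_finrank_of_injective hinj
    rw [Module.finrank_self] at this
    omega
  obtain ⟨φ, hφ, hφ0⟩ := Submodule.exists_mem_ne_zero_of_ne_bot hker
  refine ⟨φ.1, φ.2, fun h => hφ0 (Subtype.ext h), ?_⟩
  exact LinearMap.mem_ker.mp hφ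

/-- **F7** -/
theorem arr_of_two_le [Finite V] (hG : Geo K)
    (hcn : ∀ v w, IsCtr K v → IsCtr K w → ∃ u, IsCtr K u ∧ Arr K u v ∧ Arr K u w)
    (hd : ∀ v, IsCtr K v → 2 ≤ finrank (ZMod p) (Phi K v)) {v y : V} (hv : IsCtr K v)
    (hy : IsCtr K y) (hli : ∀ a b : ZMod p, a • v + b • y = 0 → a = 0 ∧ b = 0) : Arr K v y := by
  by_contra hvy
  have hyv : ¬ Arr K y v := fun h => hvy (hG.symm y v hy hv h)
  obtain ⟨u, hu, huv, huy⟩ := hcn v y hv hy
  have hvu : Arr K v u := hG.symm u v hu hv huv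
  have hyu : Arr K y u := hG.symm u y hu hy huy
  obtain ⟨φ₀, hφ₀u, hφ₀ne, hφ₀v⟩ := f7_exists_ne_zero (Phi K u) (hd u hu) v
  obtain ⟨hφ₀Pv, hφ₀y⟩ := f7_zero_of_zero hvu hvy hφ₀u hφ₀v
  obtain ⟨hφ₀Py, -⟩ := f7_zero_of_zero hyu hyv hφ₀u hφ₀y
  obtain ⟨x, hx, hφ₀x⟩ := hG.noN u hu.1 φ₀ hφ₀u hφ₀ne
  have hvx : Arr K v x := ⟨φ₀, hφ₀Pv, hφ₀x⟩
  have hyx : Arr K y x := ⟨φ₀, hφ₀Py, hφ₀x⟩
  have hxv : Arr K x v := hG.symm v x hv hx hvx
  have hxy : Arr K x y := hG.symm y x hy hx hyx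
  -- the functionals `ψ ↦ ψ v`, `ψ ↦ ψ y` on `Phi K x` are proportional
  obtain ⟨ψ₁, hψ₁, hψ₁y⟩ := hxy
  set c := ψ₁ v / ψ₁ y with hc
  have hprop : ∀ ψ ∈ Phi K x, ψ v = c * ψ y := by
    intro ψ hψ
    have h1 : ψ - (ψ y / ψ₁ y) • ψ₁ ∈ Phi K x :=
      (Phi K x).sub_mem hψ ((Phi K x).smul_mem _ hψ₁)
    have h2 : (ψ - (ψ y / ψ₁ y) • ψ₁) y = 0 := by
      simp only [LinearMap.sub_apply, LinearMap.smul_apply, smul_eq_mul]
      field_simp
      ring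
    have h3 := (f7_zero_of_zero hyx hyv h1 h2).2
    simp only [LinearMap.sub_apply, LinearMap.smul_apply, smul_eq_mul] at h3
    rw [hc]
    field_simp
    field_simp at h3
    linear_combination h3
  -- the vector `z₀ = v - c y`
  set z₀ := (1 : ZMod p) • v + (-c) • y with hz₀
  have hz₀0 : z₀ ≠ 0 := by
    intro h
    have := (hli 1 (-c) h).1
    exact one_ne_zero this
  have hφ₀z : φ₀ ∈ Phi K z₀ := Phi_inf_le v y 1 (-c) ⟨hφ₀Pv, hφ₀Py⟩
  have hz₀c : IsCtr K z₀ := isCtr_iff.mpr ⟨hz₀0, φ₀, hφ₀z, hφ₀ne⟩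
  have hzx : Arr K z₀ x := ⟨φ₀, hφ₀z, hφ₀x⟩
  obtain ⟨ψ, hψ, hψz⟩ := hG.symm z₀ x hz₀c hx hzx
  apply hψz
  rw [hz₀, map_add, map_smul, map_smul, hprop ψ hψ]
  simp only [smul_eq_mul]
  ring

end Cfsg.Agent.Lib.Helper24.McLLeaf
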