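import Mathlib
import Cfsg.Prelude.Def_Solvable
import Cfsg.Agent.Lib.Helper26.McLDefs
import Cfsg.Agent.Lib.Helper26.McLBasic
import Cfsg.Agent.Lib.Helper26.McLMore

/-!
S5075 (McLaughlin over `ZMod p`), leaf F8b (`isCtr_line_of_one`, helper26's market): `d = 1`, `p` odd;
the line through two perpendicular independent centres consists of centres.
-/

set_option autoImplicit false
set_option linter.unusedSectionVars false
set_option linter.unusedVariables false

namespace Cfsg.Agent.Lib.Helper24.McLLeaf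
open Module Cfsg.Agent.Lib.Helper26.McL

universe u
variable {p : ℕ} [Fact p.Prime] {V : Type u} [AddCommGroup V] [Module (ZMod p) V]
variable {K : Subgroup (V ≃ₗ[ZMod p] V)}

/-- in a one-dimensional `Phi K v` every element is a multiple of a given non-zero one -/
lemma exists_smul_of_finrank_one {v : V} (h1 : finrank (ZMod p) (Phi K v) = 1)
    {α : Dual (ZMod p) V} (hα : α ∈ Phi K v) (hα0 : α ≠ 0) {φ : Dual (ZMod p) V}
    (hφ : φ ∈ Phi K v) : ∃ c : ZMod p, φ = c • α := by
  have hne : (⟨α, hα⟩ : ↥(Phi K v)) ≠ 0 := fun h => hα0 (congrArg Subtype.val h)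
  obtain ⟨c, hc⟩ := (finrank_eq_one_iff_of_nonzero' (⟨α, hα⟩ : ↥(Phi K v)) hne).mp h1 ⟨φ, hφ⟩
  exact ⟨c, (congrArg Subtype.val hc).symm⟩

/-- `d = 1`: `v → x` iff the generator does not vanish at `x` -/
lemma arr_iff_of_finrank_one {v x : V} (h1 : finrank (ZMod p) (Phi K v) = 1)
    {α : Dual (ZMod p) V} (hα : α ∈ Phi K v) (hα0 : α ≠ 0) : Arr K v x ↔ α x ≠ 0 := by
  constructor
  · rintro ⟨φ, hφ, hφx⟩
    obtain ⟨c, rfl⟩ := exists_smul_of_finrank_one h1 hα hα0 hφ
    intro h
    apply hφx
    rw [LinearMap.smul_apply, h, smul_zero]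
  · intro h
    exact ⟨α, hα, h⟩

/-- **F8b** -/
theorem isCtr_line_of_one [Finite V] (hp : p ≠ 2) (hG : Geo K)
    (hcn : ∀ v w, IsCtr K v → IsCtr K w → ∃ u, IsCtr K u ∧ Arr K u v ∧ Arr K u w)
    (hline : ∀ v w u, IsCtr K v → IsCtr K w → IsCtr K u → ¬ Arr K w v → Arr K u w → Arr K u v →
      ∀ φ' ∈ Phi K u, ∀ e : ZMod p, φ' (w + e • v) ≠ 0 → IsCtr K (w + e • v))
    (hnd : ∀ v z, IsCtr K v → z ∈ Wsp K → z ≠ 0 → ¬ IsCtr K (v + z))
    (hd : ∀ v, IsCtr K v → finrank (ZMod p) (Phi K v) = 1)
    {v w : V} (hv : IsCtr K v) (hw : IsCtr K w)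
    (hli : ∀ a b : ZMod p, a • v + b • w = 0 → a = 0 ∧ b = 0) (hvw : ¬ Arr K v w)
    (a b : ZMod p) (hab : a • v + b • w ≠ 0) : IsCtr K (a • v + b • w) := by
  have hwv : ¬ Arr K w v := fun h => hvw (hG.symm w v hw hv h)
  have h2 : (2 : ZMod p) ≠ 0 := by
    intro h
    have h3 : ((2 : ℕ) : ZMod p) = 0 := by exact_mod_cast h
    rw [ZMod.natCast_eq_zero_iff] at h3
    have hp' := (Fact.out : p.Prime)
    have := (Nat.prime_dvd_prime_iff_eq hp' Nat.prime_two).mp h3
    exact hp this
  -- Step A: centres on the line are perpendicular to the line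
  have hperp : ∀ a' b' : ZMod p, IsCtr K (a' • v + b' • w) →
      ∀ φ ∈ Phi K (a' • v + b' • w), φ v = 0 ∧ φ w = 0 := by
    intro a' b' hP
    have hvP : ¬ Arr K v (a' • v + b' • w) := by
      rw [not_arr_iff]
      intro φ hφ
      rw [map_add, map_smul, map_smul, hφ.1, not_arr_iff.mp hvw φ hφ, smul_zero, smul_zero, add_zero]
    have hwP : ¬ Arr K w (a' • v + b' • w) := by
      rw [not_arr_iff]
      intro φ hφ
      rw [map_add, map_smul, map_smul, hφ.1, not_arr_iff.mp hwv φ hφ, smul_zero, smul_zero, add_zero]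
    have hPv : ¬ Arr K (a' • v + b' • w) v := fun h => hvP (hG.symm _ _ hP hv h)
    have hPw : ¬ Arr K (a' • v + b' • w) w := fun h => hwP (hG.symm _ _ hP hw h)
    intro φ hφ
    exact ⟨not_arr_iff.mp hPv φ hφ, not_arr_iff.mp hPw φ hφ⟩
  -- the common neighbour
  obtain ⟨u, hu, huv, huw⟩ := hcn v w hv hw
  obtain ⟨hu0, φu, hφu, hφu0⟩ := isCtr_iff.mp hu
  have hφuv : φu v ≠ 0 := (arr_iff_of_finrank_one (hd u hu) hφu hφu0).mp huv
  have hφuw : φu w ≠ 0 := (arr_iff_of_finrank_one (hd u hu) hφu hφu0).mp huw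
  -- Step B: the points where a functional of a common neighbour does not vanish
  have hgood : ∀ (u' : V), IsCtr K u' → ∀ (v' w' : V), IsCtr K v' → IsCtr K w' → ¬ Arr K w' v' →
      Arr K u' w' → Arr K u' v' → ∀ φ' ∈ Phi K u', ∀ a' b' : ZMod p,
      φ' (a' • v' + b' • w') ≠ 0 → IsCtr K (a' • v' + b' • w') := by
    intro u' hu' v' w' hv' hw' hw'v' hu'w' hu'v' φ' hφ' a' b' hne
    by_cases hb : b' = 0
    · subst hb
      rw [zero_smul, add_zero] at hne ⊢
      have ha : a' ≠ 0 := by
        rintro rfl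
        rw [zero_smul, map_zero] at hne
        exact hne rfl
      exact (isCtr_smul ha).mpr hv'
    · have heq : a' • v' + b' • w' = b' • (w' + (a' / b') • v') := by
        rw [smul_add, smul_smul, mul_div_cancel₀ _ hb, add_comm]
      rw [heq] at hne ⊢
      rw [isCtr_smul hb]
      apply hline v' w' u' hv' hw' hu' hw'v' hu'w' hu'v' φ' hφ' (a' / b')
      intro h0
      apply hne
      rw [map_smul, h0, smul_zero]
  -- Step C: the remaining point
  set zu := (φu w) • v + (-(φu v)) • w with hzu
  have hzu0 : zu ≠ 0 := by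
    intro h
    exact hφuw (hli _ _ h).1
  have hφuzu : φu zu = 0 := by
    rw [hzu, map_add, map_smul, map_smul]
    simp only [smul_eq_mul]
    ring
  have hzuC : IsCtr K zu := by
    by_cases hW : zu ∈ Wsp K
    · exfalso
      have h3 : IsCtr K ((φu v) • w) := (isCtr_smul hφuv).mpr hw
      have h4 : (φu v) • w + zu = (φu w) • v := by
        rw [hzu, neg_smul]
        abel
      have h5 := hnd _ zu h3 hW hzu0
      rw [h4] at h5
      exact h5 ((isCtr_smul hφuw).mpr hv)
    · rw [mem_Wsp] at hW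
      push Not at hW
      obtain ⟨u'', hu''0, φ'', hφ'', hφ''z⟩ := hW
      have hφ''0 : φ'' ≠ 0 := by
        rintro rfl
        exact hφ''z rfl
      have hu'' : IsCtr K u'' := isCtr_iff.mpr ⟨hu''0, φ'', hφ'', hφ''0⟩
      set s := φ'' v with hs
      set t := φ'' w with ht
      set D := φu w * s - φu v * t with hD
      have hDz : φ'' zu = D := by
        rw [hzu, map_add, map_smul, map_smul]
        simp only [smul_eq_mul]
        rw [hD, hs, ht]
        ring
      have hD0 : D ≠ 0 := by rw [← hDz]; exact hφ''z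
      -- the two points `v' = z_u + z''`, `w' = z_u - z''`, `z'' = t v - s w`
      set v' := (φu w + t) • v + (-(φu v) - s) • w with hv'
      set w' := (φu w - t) • v + (-(φu v) + s) • w with hw'
      have hφuv' : φu v' = -D := by
        rw [hv', map_add, map_smul, map_smul]
        simp only [smul_eq_mul]
        rw [hD]
        ring
      have hφuw' : φu w' = D := by
        rw [hw', map_add, map_smul, map_smul]
        simp only [smul_eq_mul]
        rw [hD]
        ring
      have hv'C : IsCtr K v' :=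
        hgood u hu v w hv hw hwv huw huv φu hφu _ _ (by rw [← hv', hφuv']; exact neg_ne_zero.mpr hD0)
      have hw'C : IsCtr K w' :=
        hgood u hu v w hv hw hwv huw huv φu hφu _ _ (by rw [← hw', hφuw']; exact hD0)
      have hφ''v' : φ'' v' = D := by
        rw [hv', map_add, map_smul, map_smul]
        simp only [smul_eq_mul]
        rw [hD, hs, ht]
        ring
      have hφ''w' : φ'' w' = D := by
        rw [hw', map_add, map_smul, map_smul]
        simp only [smul_eq_mul]
        rw [hD, hs, ht]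
        ring
      have hu''v' : Arr K u'' v' := ⟨φ'', hφ'', by rw [hφ''v']; exact hD0⟩
      have hu''w' : Arr K u'' w' := ⟨φ'', hφ'', by rw [hφ''w']; exact hD0⟩
      have hw'v' : ¬ Arr K w' v' := by
        rw [not_arr_iff]
        intro φ hφ
        obtain ⟨e1, e2⟩ := hperp _ _ hw'C φ hφ
        rw [hv', map_add, map_smul, map_smul, e1, e2, smul_zero, smul_zero, add_zero]
      have hsum : w' + (1 : ZMod p) • v' = (2 : ZMod p) • zu := by
        rw [hv', hw', hzu, one_smul]
        module
      have h6 := hline v' w' u'' hv'C hw'C hu'' hw'v' hu''w' hu''v' φ'' hφ'' 1 (by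
        rw [hsum, map_smul, hDz, smul_eq_mul]
        exact mul_ne_zero h2 hD0)
      rw [hsum] at h6
      exact (isCtr_smul h2).mp h6
  -- Step D
  by_cases hne : φu (a • v + b • w) ≠ 0
  · exact hgood u hu v w hv hw hwv huw huv φu hφu a b hne
  · push Not at hne
    rw [map_add, map_smul, map_smul] at hne
    simp only [smul_eq_mul] at hne
    set c := a / φu w with hc
    have heq : a • v + b • w = c • zu := by
      rw [hzu, smul_add, smul_smul, smul_smul]
      have e1 : c * φu w = a := by rw [hc]; field_simp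
      have e2 : c * -(φu v) = b := by
        rw [hc]
        field_simp
        linear_combination -hne
      rw [e1, e2]
    have hc0 : c ≠ 0 := by
      rintro h0
      rw [heq, h0, zero_smul] at hab
      exact hab rfl
    rw [heq]
    exact (isCtr_smul hc0).mpr hzuC

end Cfsg.Agent.Lib.Helper24.McLLeaf
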