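import Mathlib
import Cfsg.Prelude.Def_Solvable
import Cfsg.Agent.Lib.Helper26.McLDefs
import Cfsg.Agent.Lib.Helper26.McLBasic
import Cfsg.Agent.Lib.Helper26.McLMore
import Cfsg.Agent.Lib.Helper24.McLF8b

/-!
S5075 (McLaughlin over `ZMod p`), leaf F8a (`no_double_lift`, helper26's market): `d = 1`; a centre
cannot be moved by a non-zero vector of `Wsp K` to a centre.
-/

set_option autoImplicit false
set_option linter.unusedSectionVars false
set_option linter.unusedVariables false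

namespace Cfsg.Agent.Lib.Helper24.McLLeaf
open Module Cfsg.Agent.Lib.Helper26.McL

universe u
variable {p : ℕ} [Fact p.Prime] {V : Type u} [AddCommGroup V] [Module (ZMod p) V]
variable {K : Subgroup (V ≃ₗ[ZMod p] V)}

/-- (♠): the generators of `Phi K v` and `Phi K (v + z)` have the same zeros on the centres -/
lemma f8a_spade (hG : Geo K) (hd : ∀ v, IsCtr K v → finrank (ZMod p) (Phi K v) = 1)
    {v z : V} (hv : IsCtr K v) (hz : z ∈ Wsp K) (hvz : IsCtr K (v + z))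
    {α β : Dual (ZMod p) V} (hα : α ∈ Phi K v) (hα0 : α ≠ 0) (hβ : β ∈ Phi K (v + z)) (hβ0 : β ≠ 0)
    {x : V} (hx : IsCtr K x) : α x = 0 ↔ β x = 0 := by
  have h1 : Arr K v x ↔ α x ≠ 0 := arr_iff_of_finrank_one (hd v hv) hα hα0
  have h2 : Arr K (v + z) x ↔ β x ≠ 0 := arr_iff_of_finrank_one (hd _ hvz) hβ hβ0
  have h3 : Arr K x v ↔ Arr K x (v + z) := by
    constructor
    · rintro ⟨ψ, hψ, h⟩
      exact ⟨ψ, hψ, by rwa [map_add, hz x hx.1 ψ hψ, add_zero]⟩
    · rintro ⟨ψ, hψ, h⟩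
      exact ⟨ψ, hψ, by rwa [map_add, hz x hx.1 ψ hψ, add_zero] at h⟩
  have h4 : Arr K v x ↔ Arr K x v := ⟨hG.symm v x hv hx, hG.symm x v hx hv⟩
  have h5 : Arr K (v + z) x ↔ Arr K x (v + z) := ⟨hG.symm _ x hvz hx, hG.symm x _ hx hvz⟩
  have h6 : α x ≠ 0 ↔ β x ≠ 0 := by
    rw [← h1, ← h2, h4, h5, h3]
  exact not_iff_not.mp h6

/-- (3): the cross relation for adjacent centres outside `ker α` -/
lemma f8a_cross (hG : Geo K) (hd : ∀ v, IsCtr K v → finrank (ZMod p) (Phi K v) = 1)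
    {v z : V} (hv : IsCtr K v) (hz : z ∈ Wsp K) (hvz : IsCtr K (v + z))
    {α β : Dual (ZMod p) V} (hα : α ∈ Phi K v) (hα0 : α ≠ 0) (hβ : β ∈ Phi K (v + z)) (hβ0 : β ≠ 0)
    {x w' : V} (hx : IsCtr K x) (hw' : IsCtr K w') (hαx : α x ≠ 0) (hαw' : α w' ≠ 0)
    (hw'x : Arr K w' x) : α x * β w' = β x * α w' := by
  obtain ⟨ψ, hψ, hψx⟩ := hw'x
  set l := α x / (α w' * ψ x) with hl
  have hlψ : l • ψ ∈ Phi K w' := (Phi K w').smul_mem l hψ
  set t := tv (l • ψ) w' with ht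
  have htK : t ∈ K := hlψ.2
  have htinv : t⁻¹ = tv (-(l • ψ)) w' := tv_inv hlψ.1
  have hneg : (-(l • ψ)) w' = 0 := by
    rw [LinearMap.neg_apply, hlψ.1, neg_zero]
  have htz : t (v + z) = t v + z := by
    rw [map_add]
    congr 1
    rw [ht, tv_apply hlψ.1, LinearMap.smul_apply, hz w' hw'.1 ψ hψ, smul_zero, zero_smul, add_zero]
  have hα' : dconj t α ∈ Phi K (t v) := dconj_mem_Phi htK hα
  have hβ' : dconj t β ∈ Phi K (t v + z) := by
    rw [← htz]
    exact dconj_mem_Phi htK hβ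
  have hα'0 : dconj t α ≠ 0 := by
    intro h
    apply hα0
    rw [← dconj_inv_dconj t α, h]
    apply LinearMap.ext
    intro y
    simp
  have hβ'0 : dconj t β ≠ 0 := by
    intro h
    apply hβ0
    rw [← dconj_inv_dconj t β, h]
    apply LinearMap.ext
    intro y
    simp
  have htv : IsCtr K (t v) := (isCtr_conj htK).mpr hv
  have htvz : IsCtr K (t v + z) := by
    rw [← htz]
    exact (isCtr_conj htK).mpr hvz
  have hinvx : (t⁻¹ : V ≃ₗ[ZMod p] V) x = x + (-(l • ψ)) x • w' := by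
    rw [htinv, tv_apply hneg]
  have e1 : dconj t α x = 0 := by
    rw [dconj_apply, hinvx, map_add, map_smul, LinearMap.neg_apply, LinearMap.smul_apply]
    simp only [smul_eq_mul]
    rw [hl]
    field_simp
    ring
  have e2 := (f8a_spade hG hd htv hz htvz hα' hα'0 hβ' hβ'0 hx).mp e1
  rw [dconj_apply, hinvx, map_add, map_smul, LinearMap.neg_apply, LinearMap.smul_apply] at e2
  simp only [smul_eq_mul] at e2
  rw [hl] at e2
  field_simp at e2
  linear_combination (-1 : ZMod p) * e2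

/-- the cross relation through a common neighbour outside `ker α` -/
lemma f8a_via (hG : Geo K) (hd : ∀ v, IsCtr K v → finrank (ZMod p) (Phi K v) = 1)
    {v z : V} (hv : IsCtr K v) (hz : z ∈ Wsp K) (hvz : IsCtr K (v + z))
    {α β : Dual (ZMod p) V} (hα : α ∈ Phi K v) (hα0 : α ≠ 0) (hβ : β ∈ Phi K (v + z)) (hβ0 : β ≠ 0)
    {x y m : V} (hx : IsCtr K x) (hy : IsCtr K y) (hm : IsCtr K m) (hαx : α x ≠ 0) (hαy : α y ≠ 0)
    (hαm : α m ≠ 0) (hmx : Arr K m x) (hmy : Arr K m y) : α x * β y = β x * α y := by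
  have h1 := f8a_cross hG hd hv hz hvz hα hα0 hβ hβ0 hx hm hαx hαm hmx
  have h2 := f8a_cross hG hd hv hz hvz hα hα0 hβ hβ0 hy hm hαy hαm hmy
  have h3 : α m * (α x * β y - β x * α y) = 0 := by
    linear_combination (α y) * h1 - (α x) * h2
  rcases mul_eq_zero.mp h3 with h | h
  · exact absurd h hαm
  · exact sub_eq_zero.mp h

/-- (4): the ratio `β / α` is constant on the centres outside `ker α` -/
lemma f8a_ratio (hG : Geo K)
    (hcn : ∀ v w, IsCtr K v → IsCtr K w → ∃ u, IsCtr K u ∧ Arr K u v ∧ Arr K u w)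
    (hd : ∀ v, IsCtr K v → finrank (ZMod p) (Phi K v) = 1)
    {v z : V} (hv : IsCtr K v) (hz : z ∈ Wsp K) (hvz : IsCtr K (v + z))
    {α β : Dual (ZMod p) V} (hα : α ∈ Phi K v) (hα0 : α ≠ 0) (hβ : β ∈ Phi K (v + z)) (hβ0 : β ≠ 0)
    {x y : V} (hx : IsCtr K x) (hy : IsCtr K y) (hαx : α x ≠ 0) (hαy : α y ≠ 0) :
    α x * β y = β x * α y := by
  by_cases hyx : Arr K y x
  · exact f8a_cross hG hd hv hz hvz hα hα0 hβ hβ0 hx hy hαx hαy hyx
  · obtain ⟨u₁, hu₁, hu₁x, hu₁y⟩ := hcn x y hx hy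
    by_cases hαu : α u₁ = 0
    · -- replace `u₁` by `x + u₁`
      have hm : IsCtr K (x + (1 : ZMod p) • u₁) := isCtr_add_smul hu₁x hx 1
      have hαm : α (x + (1 : ZMod p) • u₁) ≠ 0 := by
        rw [map_add, map_smul, hαu, smul_zero, add_zero]
        exact hαx
      have hxu₁ : Arr K x u₁ := hG.symm u₁ x hu₁ hx hu₁x
      have hyu₁ : Arr K y u₁ := hG.symm u₁ y hu₁ hy hu₁y
      have hxm : Arr K x (x + (1 : ZMod p) • u₁) := by
        obtain ⟨φ, hφ, hφu⟩ := hxu₁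
        refine ⟨φ, hφ, ?_⟩
        rw [map_add, map_smul, hφ.1, zero_add, one_smul]
        exact hφu
      have hym : Arr K y (x + (1 : ZMod p) • u₁) := by
        obtain ⟨φ, hφ, hφu⟩ := hyu₁
        refine ⟨φ, hφ, ?_⟩
        rw [map_add, map_smul, not_arr_iff.mp hyx φ hφ, zero_add, one_smul]
        exact hφu
      exact f8a_via hG hd hv hz hvz hα hα0 hβ hβ0 hx hy hm hαx hαy hαm
        (hG.symm x _ hx hm hxm) (hG.symm y _ hy hm hym)
    · exact f8a_via hG hd hv hz hvz hα hα0 hβ hβ0 hx hy hu₁ hαx hαy hαu hu₁x hu₁y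

/-- **F8a** -/
theorem no_double_lift [Finite V] (hG : Geo K)
    (hU : UProp K)
    (hcn : ∀ v w, IsCtr K v → IsCtr K w → ∃ u, IsCtr K u ∧ Arr K u v ∧ Arr K u w)
    (hd : ∀ v, IsCtr K v → finrank (ZMod p) (Phi K v) = 1)
    {v z : V} (hv : IsCtr K v) (hz : z ∈ Wsp K) (hz0 : z ≠ 0) : ¬ IsCtr K (v + z) := by
  intro hvz
  obtain ⟨hv0, α, hα, hα0⟩ := isCtr_iff.mp hv
  obtain ⟨hvz0, β, hβ, hβ0⟩ := isCtr_iff.mp hvz
  have hαz : α z = 0 := hz v hv0 α hα
  have hβz : β z = 0 := hz _ hvz0 β hβ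
  have hβv : β v = 0 := by
    have := hβ.1
    rwa [map_add, hβz, add_zero] at this
  -- a centre outside `ker α`
  obtain ⟨x₀, hx₀, hαx₀⟩ := hG.noN v hv0 α hα hα0
  set c := β x₀ / α x₀ with hc
  set θ := β - c • α with hθ
  have hθC : ∀ x, IsCtr K x → θ x = 0 := by
    intro x hx
    rw [hθ, LinearMap.sub_apply, LinearMap.smul_apply, smul_eq_mul]
    by_cases hαx : α x = 0
    · rw [hαx, mul_zero, sub_zero]
      exact (f8a_spade hG hd hv hz hvz hα hα0 hβ hβ0 hx).mp hαx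
    · have := f8a_ratio hG hcn hd hv hz hvz hα hα0 hβ hβ0 hx₀ hx hαx₀ hαx
      rw [hc]
      field_simp
      linear_combination this
  have hθN : ∀ x ∈ Nsp K, θ x = 0 := fun x hx => eq_zero_on_Nsp hθC hx
  -- the element `g`
  have hcα : c • α ∈ Phi K v := (Phi K v).smul_mem c hα
  set g := tv β (v + z) * (tv (c • α) v)⁻¹ with hg
  have hgK : g ∈ K := K.mul_mem hβ.2 (K.inv_mem hcα.2)
  have hgx : ∀ x, g x = x + θ x • v + β x • z := by
    intro x
    have hneg : (-(c • α)) v = 0 := by rw [LinearMap.neg_apply, hcα.1, neg_zero]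
    rw [hg, LinearEquiv.mul_apply, tv_inv hcα.1, tv_apply hneg, tv_apply hβ.1, map_add, map_smul,
      hβv, smul_zero, add_zero, hθ, LinearMap.sub_apply, LinearMap.neg_apply]
    module
  have hvN : v ∈ Nsp K := isCtr_mem_Nsp hv
  have hzN : z ∈ Nsp K := by
    have h1 : v + z ∈ Nsp K := isCtr_mem_Nsp hvz
    have h2 := (Nsp K).sub_mem h1 hvN
    rwa [add_sub_cancel_left] at h2
  have hg1 : g = 1 := by
    apply hU (Nsp K ⊓ Wsp K) (Nsp K) inf_le_left
    · intro k hk x hx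
      exact ⟨Nsp_invariant hk hx.1, Wsp_invariant hk hx.2⟩
    · intro k hk x hx
      exact Nsp_invariant hk hx
    · exact hgK
    · intro x
      rw [hgx, add_assoc, add_sub_cancel_left]
      exact (Nsp K).add_mem ((Nsp K).smul_mem _ hvN) ((Nsp K).smul_mem _ hzN)
    · intro x hx
      rw [hgx, hθN x hx, zero_smul, add_zero, add_sub_cancel_left]
      exact ⟨(Nsp K).smul_mem _ hzN, (Wsp K).smul_mem _ hz⟩
    · intro x hx
      rw [hgx, hθN x hx.1, zero_smul, add_zero]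
      have : β x = 0 := hx.2 _ hvz0 β hβ
      rw [this, zero_smul, add_zero]
  -- contradiction
  obtain ⟨x, hβx⟩ : ∃ x, β x ≠ 0 := by
    by_contra hcon
    push Not at hcon
    exact hβ0 (LinearMap.ext hcon)
  have h1 : θ x • v + β x • z = 0 := by
    have h2 := hgx x
    rw [hg1, LinearEquiv.coe_one, id_eq] at h2
    have h3 : x + (θ x • v + β x • z) = x + 0 := by
      rw [add_zero, ← add_assoc]
      exact h2.symm
    exact add_left_cancel h3
  by_cases hθx : θ x = 0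
  · rw [hθx, zero_smul, zero_add] at h1
    rcases smul_eq_zero.mp h1 with h | h
    · exact hβx h
    · exact hz0 h
  · apply hG.noW v hv
    have h4 : v = (-(β x / θ x)) • z := by
      have h5 : θ x • v = -(β x • z) := eq_neg_of_add_eq_zero_left h1
      have h6 := congrArg (fun y : V => (θ x)⁻¹ • y) h5
      simp only [smul_smul, inv_mul_cancel₀ hθx, one_smul, smul_neg] at h6
      rw [h6, neg_smul, div_eq_inv_mul]
    rw [h4]
    exact (Wsp K).smul_mem _ hz

end Cfsg.Agent.Lib.Helper24.McLLeaf
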