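import Mathlib
import Cfsg.Prelude.Def_Solvable
import Cfsg.Agent.Lib.Helper26.McLDefs
import Cfsg.Agent.Lib.Helper26.McLBasic
import Cfsg.Agent.Lib.Helper26.McLMore

/-!
# S5075 (McLaughlin over `ZMod p`): leaf FORM (`exists_form`)

When `dim Phi K v = 1` and all non-zero vectors of `Nsp K` are centres, the polarity datum
`x ↦ (Phi K x)` restricted to `Nsp K` satisfies the hypotheses of the polarity theorem `hpol`.
-/

set_option autoImplicit false
set_option linter.unusedSectionVars false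
set_option linter.unusedVariables false

namespace Cfsg.Agent.Lib.Helper24.McLLeaf
open Module Cfsg.Agent.Lib.Helper26.McL

universe u
variable {p : ℕ} [Fact p.Prime] {V : Type u} [AddCommGroup V] [Module (ZMod p) V]
variable {K : Subgroup (V ≃ₗ[ZMod p] V)}

/-- `dconj (tv φ v) ψ = ψ - ψ v • φ` -/
theorem dconj_tv_eq {φ ψ : Dual (ZMod p) V} {v : V} (h : φ v = 0) :
    dconj (tv φ v) ψ = ψ - ψ v • φ := by
  apply LinearMap.ext
  intro x
  rw [dconj_apply, tv_inv' h, tv_apply (by simp [h])]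
  simp only [map_add, map_smul, map_neg, smul_eq_mul, LinearMap.sub_apply, LinearMap.smul_apply]
  ring

/-- the restriction to `Nsp K` is injective on `Phi K x` -/
theorem res_ne_zero (hG : Geo K) {x : V} (hx : x ≠ 0) {φ : Dual (ZMod p) V} (hφ : φ ∈ Phi K x)
    (hφ0 : φ ≠ 0) : LinearMap.dualMap (Nsp K).subtype φ ≠ 0 := by
  intro h
  obtain ⟨w, hw, hφw⟩ := hG.noN x hx φ hφ hφ0
  apply hφw
  have := LinearMap.congr_fun h ⟨w, isCtr_mem_Nsp hw⟩
  simpa using this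

/-- **FORM**. -/
theorem exists_form [Finite V] (hG : Geo K) (hall : ∀ x ∈ Nsp K, x ≠ 0 → IsCtr K x)
    (hd : ∀ v, IsCtr K v → finrank (ZMod p) (Phi K v) = 1)
    (hpol : ∀ (Φ : ↥(Nsp K) → Submodule (ZMod p) (Dual (ZMod p) ↥(Nsp K))),
      (∀ v, v ≠ 0 → finrank (ZMod p) (Φ v) = 1) → (∀ v, ∀ φ ∈ Φ v, φ v = 0) →
      (∀ v w, v ≠ 0 → w ≠ 0 → ∀ φ ∈ Φ v, ∀ ψ ∈ Φ w, ψ - ψ v • φ ∈ Φ (w + φ w • v)) →
      ∃ B : LinearMap.BilinForm (ZMod p) ↥(Nsp K), B.IsAlt ∧ B.Nondegenerate ∧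
        ∀ v, v ≠ 0 → Φ v = Submodule.span (ZMod p) {B v}) :
    ∃ B : LinearMap.BilinForm (ZMod p) ↥(Nsp K), B.IsAlt ∧ B.Nondegenerate ∧
      ∀ (v : V) (hv : v ∈ Nsp K), v ≠ 0 →
        (Phi K v).map (LinearMap.dualMap (Nsp K).subtype) =
          Submodule.span (ZMod p) {B ⟨v, hv⟩} := by
  have : Module.Finite (ZMod p) V := Module.Finite.of_finite
  have h1 : ∀ x : ↥(Nsp K), x ≠ 0 →
      finrank (ZMod p) ((Phi K (x : V)).map (LinearMap.dualMap (Nsp K).subtype)) = 1 := by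
    intro x hx0
    have hx0' : (x : V) ≠ 0 := fun h => hx0 (Subtype.ext h)
    have h1 := hd x (hall x x.2 hx0')
    obtain ⟨φ₀, hφ₀, hspan⟩ := finrank_eq_one_iff'.mp h1
    have hφ₀' : (φ₀ : Dual (ZMod p) V) ≠ 0 := fun h => hφ₀ (Subtype.ext h)
    have hmap : (Phi K (x : V)).map (LinearMap.dualMap (Nsp K).subtype) =
        Submodule.span (ZMod p) {LinearMap.dualMap (Nsp K).subtype (φ₀ : Dual (ZMod p) V)} := by
      apply le_antisymm
      · rintro _ ⟨φ, hφ, rfl⟩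
        obtain ⟨c, hc⟩ := hspan ⟨φ, hφ⟩
        have hc' : c • (φ₀ : Dual (ZMod p) V) = φ := congrArg Subtype.val hc
        rw [← hc', map_smul]
        exact Submodule.smul_mem _ _ (Submodule.subset_span rfl)
      · rw [Submodule.span_le, Set.singleton_subset_iff]
        exact ⟨φ₀, φ₀.2, rfl⟩
    rw [hmap]
    exact finrank_span_singleton (res_ne_zero hG hx0' φ₀.2 hφ₀')
  have h0 : ∀ x : ↥(Nsp K), ∀ φ ∈ (Phi K (x : V)).map (LinearMap.dualMap (Nsp K).subtype),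
      φ x = 0 := by
    rintro x _ ⟨φ, hφ, rfl⟩
    have := phi_self hφ
    simpa using this
  have h2 : ∀ v w : ↥(Nsp K), v ≠ 0 → w ≠ 0 →
      ∀ φ ∈ (Phi K (v : V)).map (LinearMap.dualMap (Nsp K).subtype),
      ∀ ψ ∈ (Phi K (w : V)).map (LinearMap.dualMap (Nsp K).subtype),
      ψ - ψ v • φ ∈
        (Phi K ((w + φ w • v : ↥(Nsp K)) : V)).map (LinearMap.dualMap (Nsp K).subtype) := by
    rintro v w hv0 hw0 _ ⟨φ, hφ, rfl⟩ _ ⟨ψ, hψ, rfl⟩
    have hg : tv φ (v : V) ∈ K := tv_mem_of_mem_Phi hφ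
    have h1 := dconj_mem_Phi hg hψ
    rw [dconj_tv_eq (phi_self hφ), tv_apply (phi_self hφ)] at h1
    refine ⟨ψ - ψ (v : V) • φ, ?_, ?_⟩
    · simpa using h1
    · apply LinearMap.ext
      intro y
      simp
  obtain ⟨B, hA, hN, hB⟩ := hpol
    (fun x => (Phi K (x : V)).map (LinearMap.dualMap (Nsp K).subtype)) h1 h0 h2
  refine ⟨B, hA, hN, ?_⟩
  intro v hv hv0
  have hne : (⟨v, hv⟩ : ↥(Nsp K)) ≠ 0 := by
    intro h
    exact hv0 (congrArg Subtype.val h)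
  exact hB ⟨v, hv⟩ hne

end Cfsg.Agent.Lib.Helper24.McLLeaf
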