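import Mathlib
import Cfsg.Agent.Lib.Helper24.MultA

/-!
# Characters multiplicative on coprime prime-power elements: the exceptional prime (helper24)
-/

set_option autoImplicit false

namespace Cfsg.Agent.Lib.Helper24.Mult

open Cfsg Cfsg.Agent.CharLib Cfsg.Agent.Lib.Helper6 Cfsg.Agent.Lib.Helper24
open scoped ComplexConjugate

universe u
variable {G : Type u} [Group G]

/-- hypothesis (1) of S4756 -/
def MultHyp (G : Type u) [Group G] : Prop :=
  ∀ (x y : G) (χ : IrrCharacter G), x ≠ 1 → y ≠ 1 →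
    (∃ p q a b : ℕ, p.Prime ∧ q.Prime ∧ p ≠ q ∧ orderOf x = p ^ a ∧ orderOf y = q ^ b) →
    (χ : G → ℂ) (x * y) = (χ : G → ℂ) x * (χ : G → ℂ) y

theorem orderOf_conj' (a x : G) : orderOf (a * x * a⁻¹) = orderOf x :=
  orderOf_injective (MulAut.conj a).toMonoidHom (MulAut.conj a).injective x

theorem MultHyp.prod_eq_zero [Finite G] (h : MultHyp G) (χ : IrrCharacter G)
    (hχ : (χ : G → ℂ) 1 ≠ 1) (x y : G) (hx : x ≠ 1) (hy : y ≠ 1)
    (hxy : ∃ p q a b : ℕ, p.Prime ∧ q.Prime ∧ p ≠ q ∧ orderOf x = p ^ a ∧ orderOf y = q ^ b) :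
    (χ : G → ℂ) x * (χ : G → ℂ) y = 0 := by
  apply mul_eq_zero_of_mult χ hχ x y
  intro a b
  obtain ⟨p, q, i, j, hp, hq, hpq, hi, hj⟩ := hxy
  apply h
  · intro h1
    apply hx
    have : a * x * a⁻¹ = a * 1 * a⁻¹ := by rw [h1]; group
    have h2 := (MulAut.conj a).injective (a₁ := x) (a₂ := 1) (by simpa using this)
    exact h2
  · intro h1
    apply hy
    have : b * y * b⁻¹ = b * 1 * b⁻¹ := by rw [h1]; group
    exact (MulAut.conj b).injective (a₁ := y) (a₂ := 1) (by simpa using this)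
  · exact ⟨p, q, i, j, hp, hq, hpq, by rw [orderOf_conj', hi], by rw [orderOf_conj', hj]⟩

/-- `χ` does not vanish on some nonidentity `p`-element -/
def Sees (χ : IrrCharacter G) (p : ℕ) : Prop :=
  ∃ x : G, x ≠ 1 ∧ (∃ a : ℕ, orderOf x = p ^ a) ∧ (χ : G → ℂ) x ≠ 0

theorem MultHyp.sees_unique [Finite G] (h : MultHyp G) (χ : IrrCharacter G)
    (hχ : (χ : G → ℂ) 1 ≠ 1) {p q : ℕ} (hp : p.Prime) (hq : q.Prime) (h1 : Sees χ p)
    (h2 : Sees χ q) : p = q := by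
  by_contra hpq
  obtain ⟨x, hx, ⟨a, ha⟩, hxv⟩ := h1
  obtain ⟨y, hy, ⟨b, hb⟩, hyv⟩ := h2
  have := h.prod_eq_zero χ hχ x y hx hy ⟨p, q, a, b, hp, hq, hpq, ha, hb⟩
  rcases mul_eq_zero.mp this with h3 | h3
  · exact hxv h3
  · exact hyv h3

theorem pow_factorization_dvd_of_not_sees [Finite G] (χ : IrrCharacter G) (t : ℕ) (ht : t.Prime)
    (hns : ¬ Sees χ t) : t ^ (Nat.card G).factorization t ∣ charDegree (χ : G → ℂ) := by
  have : Fact t.Prime := ⟨ht⟩
  obtain ⟨T⟩ : Nonempty (Sylow t G) := inferInstance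
  rw [← T.card_eq_multiplicity]
  apply card_dvd_degree_of_vanish χ (T : Subgroup G)
  intro z hz hz1
  by_contra hne
  apply hns
  refine ⟨z, hz1, ?_, hne⟩
  obtain ⟨k, hk⟩ := (IsPGroup.iff_orderOf.mp T.isPGroup') ⟨z, hz⟩
  refine ⟨k, ?_⟩
  rw [← hk]
  exact (Subgroup.orderOf_mk z hz).symm

theorem card_dvd_of_forall_prime [Finite G] (N : ℕ)
    (h : ∀ t : ℕ, t.Prime → t ^ (Nat.card G).factorization t ∣ N) : Nat.card G ∣ N := by
  rw [Nat.dvd_iff_prime_pow_dvd_dvd]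
  intro t k ht hk
  have h0 : Nat.card G ≠ 0 := Nat.card_pos.ne'
  have h1 := (ht.pow_dvd_iff_le_factorization h0).mp hk
  exact dvd_trans (pow_dvd_pow t h1) (h t ht)

theorem MultHyp.exists_sees [Finite G] (χ : IrrCharacter G)
    (hχ : (χ : G → ℂ) 1 ≠ 1) : ∃ p : ℕ, p.Prime ∧ Sees χ p := by
  by_contra hcon
  push Not at hcon
  have h1 : Nat.card G ∣ charDegree (χ : G → ℂ) :=
    card_dvd_of_forall_prime _ (fun t ht => pow_factorization_dvd_of_not_sees χ t ht (hcon t ht))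
  have h2 := degree_sq_le χ
  have h3 := irr_charDegree_pos χ
  have h4 := Nat.le_of_dvd h3 h1
  have h5 : charDegree (χ : G → ℂ) = 1 := by nlinarith
  apply hχ
  rw [irr_apply_one, h5]
  simp

theorem MultHyp.sees_eq [Finite G] (h : MultHyp G) (χ ψ : IrrCharacter G)
    (hχ : (χ : G → ℂ) 1 ≠ 1) (hψ : (ψ : G → ℂ) 1 ≠ 1) {p q : ℕ} (hp : p.Prime) (hq : q.Prime)
    (h1 : Sees χ p) (h2 : Sees ψ q) : p = q := by
  by_contra hpq
  have hne : χ ≠ ψ := by
    intro he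
    subst he
    exact hpq (h.sees_unique χ hχ hp hq h1 h2)
  have h3 : Nat.card G ∣ charDegree (χ : G → ℂ) * charDegree (ψ : G → ℂ) := by
    apply card_dvd_of_forall_prime
    intro t ht
    by_cases htp : t = p
    · subst htp
      apply dvd_mul_of_dvd_right
      apply pow_factorization_dvd_of_not_sees ψ t ht
      intro hs
      exact hpq (h.sees_unique ψ hψ ht hq hs h2)
    · apply dvd_mul_of_dvd_left
      apply pow_factorization_dvd_of_not_sees χ t ht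
      intro hs
      exact htp (h.sees_unique χ hχ ht hp hs h1)
  have h4 := degree_sq_add_le χ ψ hne
  have h5 := irr_charDegree_pos χ
  have h6 := irr_charDegree_pos ψ
  have h7 := Nat.le_of_dvd (Nat.mul_pos h5 h6) h3
  nlinarith [sq_nonneg ((charDegree (χ : G → ℂ) : ℤ) - charDegree (ψ : G → ℂ))]

/-- the exceptional prime -/
theorem MultHyp.exists_prime [Finite G] (h : MultHyp G) (χ₀ : IrrCharacter G)
    (hχ₀ : (χ₀ : G → ℂ) 1 ≠ 1) :
    ∃ r : ℕ, r.Prime ∧ ∀ χ : IrrCharacter G, (χ : G → ℂ) 1 ≠ 1 → ∀ y : G, y ≠ 1 →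
      ∀ q b : ℕ, q.Prime → q ≠ r → orderOf y = q ^ b → (χ : G → ℂ) y = 0 := by
  obtain ⟨r, hr, hs⟩ := MultHyp.exists_sees χ₀ hχ₀
  refine ⟨r, hr, ?_⟩
  intro χ hχ y hy q b hq hqr hyo
  by_contra hne
  have : Sees χ q := ⟨y, hy, ⟨b, hyo⟩, hne⟩
  exact hqr (h.sees_eq χ χ₀ hχ hχ₀ hq hr this hs)

end Cfsg.Agent.Lib.Helper24.Mult
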