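import Mathlib
import Cfsg.Agent.Lib.Helper9.FittingHall
import Cfsg.Agent.Lib.Helper17.CoprimeGen
import Cfsg.Agent.Lib.Helper29.PrimePowerElement
import Cfsg.Agent.Lib.Helper1.Noncyclic
import Cfsg.Agent.Lib.Helper1.Commutator

/-!
# Groups in which every prime-power-order `r'`-element has centralizer of order `|G : G'|` (helper24)
-/

set_option autoImplicit false

namespace Cfsg.Agent.Lib.Helper24.Mult

open Subgroup
open scoped commutatorElement

universe u
variable {G : Type u} [Group G]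

theorem card_sup_mul_card_inf (C D : Subgroup G) [D.Normal] :
    Nat.card ↥(C ⊔ D) * Nat.card ↥(C ⊓ D) = Nat.card C * Nat.card D := by
  have h1 := Cfsg.Agent.Lib.Helper9.card_eq_card_mul_relIndex (le_sup_right : D ≤ C ⊔ D)
  rw [relIndex_sup_right] at h1
  have h2 := Cfsg.Agent.Lib.Helper9.card_eq_card_mul_relIndex (inf_le_left : C ⊓ D ≤ C)
  rw [inf_relIndex_left] at h2
  rw [h1, h2]
  ring

theorem normal_of_commutator_le (H : Subgroup G) (h : commutator G ≤ H) : H.Normal := by
  refine ⟨fun n hn g => ?_⟩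
  have e : g * n * g⁻¹ = ⁅g, n⁆ * n := by
    rw [commutatorElement_def]; group
  rw [e]
  refine mul_mem (h ?_) hn
  rw [commutator_def]
  exact commutator_mem_commutator (mem_top g) (mem_top n)

section
variable [Finite G] (r : ℕ) [hr : Fact r.Prime]

/-- hypothesis: all nonidentity `r'`-elements of prime power order have centralizer of order
`|G : G'|` -/
def CentHyp (G : Type u) [Group G] (r : ℕ) : Prop :=
  ∀ y : G, y ≠ 1 → ∀ q b : ℕ, q.Prime → q ≠ r → orderOf y = q ^ b →
    Nat.card (centralizer ({y} : Set G)) = (commutator G).index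

omit hr in
theorem CentHyp.isPGroup_commutator (hV : CentHyp G r) : IsPGroup r (commutator G) := by
  have key : ∀ q : ℕ, q.Prime → q ∣ Nat.card (commutator G) → q = r := by
    intro q hq hdvd
    by_contra hqr
    have : Fact q.Prime := ⟨hq⟩
    obtain ⟨Q⟩ : Nonempty (Sylow q G) := inferInstance
    have hqG : q ∣ Nat.card G := dvd_trans hdvd (Subgroup.card_subgroup_dvd_card _)
    have hG0 : Nat.card G ≠ 0 := Nat.card_pos.ne'
    have hv : 0 < (Nat.card G).factorization q :=
      (hq.factorization_pos_of_dvd hG0 hqG)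
    have hQcard := Q.card_eq_multiplicity
    have hQnt : Nontrivial (Q : Subgroup G) := by
      rw [← Finite.one_lt_card_iff_nontrivial, hQcard]
      exact Nat.one_lt_pow hv.ne' hq.one_lt
    have hcn := IsPGroup.center_nontrivial Q.isPGroup'
    obtain ⟨z, hz1⟩ := exists_ne (1 : Subgroup.center (Q : Subgroup G))
    have hzc : ∀ w : (Q : Subgroup G), w * (z : (Q : Subgroup G)) = (z : (Q : Subgroup G)) * w := by
      intro w
      exact (Subgroup.mem_center_iff.mp z.2 w)
    set y : G := ((z : (Q : Subgroup G)) : G) with hy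
    have hy1 : y ≠ 1 := by
      intro h
      apply hz1
      apply Subtype.ext
      apply Subtype.ext
      exact h
    obtain ⟨k, hk⟩ := (IsPGroup.iff_orderOf.mp Q.isPGroup') (z : (Q : Subgroup G))
    have hyo : orderOf y = q ^ k := by
      rw [← hk]
      exact Subgroup.orderOf_coe (z : (Q : Subgroup G))
    have hle : (Q : Subgroup G) ≤ centralizer ({y} : Set G) := by
      intro w hw
      rw [mem_centralizer_iff]
      intro m hm
      rw [Set.mem_singleton_iff] at hm
      subst hm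
      have := hzc ⟨w, hw⟩
      have h2 := congrArg (Subtype.val) this
      simpa using h2.symm
    have hc := hV y hy1 q k hq hqr hyo
    have h1 : Nat.card (Q : Subgroup G) ∣ (commutator G).index := by
      rw [← hc]
      exact Subgroup.card_dvd_of_le hle
    rw [hQcard] at h1
    have h2 : q ^ ((Nat.card G).factorization q + 1) ∣ Nat.card G := by
      have h3 := mul_dvd_mul hdvd h1
      rw [(commutator G).card_mul_index] at h3
      rw [pow_succ, mul_comm]
      exact h3
    exact Nat.pow_succ_factorization_not_dvd hG0 hq h2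
  have h0 : Nat.card (commutator G) ≠ 0 := Nat.card_pos.ne'
  have := Nat.eq_prime_pow_of_unique_prime_dvd h0 (fun {d} hd hdd => key d hd hdd)
  exact IsPGroup.of_card this


theorem CentHyp.structure (hV : CentHyp G r) (hnr : ¬ IsPGroup r G) (hnab : commutator G ≠ ⊥) :
    ∃ (P : Sylow r G) (A : Subgroup G), (P : Subgroup G).Normal ∧ IsCyclic ↥A ∧ A ≠ ⊥ ∧
      (Nat.card ↥A).Coprime r ∧ A ⊔ (P : Subgroup G) = ⊤ ∧
      IsMulCommutative ↥((P : Subgroup G) ⊓ Subgroup.centralizer (A : Set G)) ∧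
      (⁅A, (P : Subgroup G)⁆).Normal ∧
      ((P : Subgroup G) ⊓ Subgroup.centralizer (A : Set G)) ⊔ ⁅A, (P : Subgroup G)⁆ =
        (P : Subgroup G) ∧
      ((P : Subgroup G) ⊓ Subgroup.centralizer (A : Set G)) ⊓ ⁅A, (P : Subgroup G)⁆ = ⊥ ∧
      ∀ a ∈ A, a ≠ 1 → ∀ d ∈ ⁅A, (P : Subgroup G)⁆, a * d = d * a → d = 1 := by
  have hrp : r.Prime := hr.out
  have hDp := hV.isPGroup_commutator r
  obtain ⟨P, hDP⟩ := hDp.exists_le_sylow
  have hPn : (P : Subgroup G).Normal := normal_of_commutator_le _ hDP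
  have hcop : (Nat.card (P : Subgroup G)).Coprime (P : Subgroup G).index := P.card_coprime_index
  obtain ⟨A, hA⟩ := Subgroup.exists_right_complement'_of_coprime hcop
  have hdisj : A ⊓ (P : Subgroup G) = ⊥ := by rw [inf_comm]; exact hA.disjoint.eq_bot
  have hsup : A ⊔ (P : Subgroup G) = ⊤ := by rw [sup_comm]; exact hA.sup_eq_top
  have hAcomm : ∀ a ∈ A, ∀ b ∈ A, a * b = b * a := by
    intro a ha b hb
    have h1 : ⁅a, b⁆ ∈ A ⊓ (P : Subgroup G) := by
      refine ⟨commutator_mem_commutator ha hb |> fun h => (commutator_le.mpr (fun x hx y hy => ?_)) h, hDP ?_⟩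
      · exact A.mul_mem (A.mul_mem (A.mul_mem hx hy) (A.inv_mem hx)) (A.inv_mem hy)
      · rw [commutator_def]
        exact commutator_mem_commutator (mem_top a) (mem_top b)
    rw [hdisj, mem_bot, commutatorElement_eq_one_iff_mul_comm] at h1
    exact h1
  have hcardG : Nat.card (P : Subgroup G) * Nat.card A = Nat.card G := hA.card_mul_card
  have hAidx : Nat.card A = (P : Subgroup G).index := by
    have := (P : Subgroup G).card_mul_index
    rw [← hcardG] at this
    exact (Nat.eq_of_mul_eq_mul_left Nat.card_pos this).symm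
  have hAr : (Nat.card A).Coprime r := by
    rw [hAidx]
    exact (hrp.coprime_iff_not_dvd.mpr P.not_dvd_index).symm
  have hAne : A ≠ ⊥ := by
    intro h
    apply hnr
    have : (P : Subgroup G) = ⊤ := by rw [← hsup, h, bot_sup_eq]
    intro g
    obtain ⟨k, hk⟩ := P.isPGroup' ⟨g, this ▸ mem_top g⟩
    exact ⟨k, by simpa using congrArg Subtype.val hk⟩
  -- prime power order elements of A
  have hq_ne : ∀ y ∈ A, y ≠ 1 → ∀ q b : ℕ, q.Prime → orderOf y = q ^ b → q ≠ r := by
    intro y hy hy1 q b hq hyo hqr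
    have hb : b ≠ 0 := by
      rintro rfl
      rw [pow_zero, orderOf_eq_one_iff] at hyo
      exact hy1 hyo
    have h1 : q ∣ Nat.card A := dvd_trans (dvd_pow_self q hb) (hyo ▸ Subgroup.orderOf_dvd_natCard A hy)
    rw [hqr] at h1
    exact (hrp.coprime_iff_not_dvd.mp hAr.symm) h1
  have hpp : ∀ a ∈ A, a ≠ 1 → ∃ y ∈ A, y ≠ 1 ∧ y ∈ zpowers a ∧ ∃ q b : ℕ, q.Prime ∧ orderOf y = q ^ b := by
    intro a ha ha1
    obtain ⟨y, hy, hyb, q, b, hq, hyo⟩ :=
      Cfsg.Agent.Lib.Helper29.exists_prime_pow_order_not_mem (⊥ : Subgroup G) (orderOf a) a rfl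
        (by rw [mem_bot]; exact ha1)
    refine ⟨y, ?_, ?_, hy, q, b, hq, hyo⟩
    · exact (zpowers_le.mpr ha) hy
    · intro h; exact hyb (by rw [mem_bot]; exact h)
  set D : Subgroup G := commutator G with hD
  set C : Subgroup G := (P : Subgroup G) ⊓ centralizer (A : Set G) with hC
  have hApos : 0 < Nat.card A := Nat.card_pos
  have hcent : ∀ y ∈ A, y ≠ 1 → ∀ q b : ℕ, q.Prime → orderOf y = q ^ b →
      Nat.card ↥((P : Subgroup G) ⊓ centralizer ({y} : Set G)) * Nat.card D =
        Nat.card (P : Subgroup G) := by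
    intro y hy hy1 q b hq hyo
    have hc := hV y hy1 q b hq (hq_ne y hy hy1 q b hq hyo) hyo
    have hAle : A ≤ centralizer ({y} : Set G) := by
      intro a ha
      rw [mem_centralizer_iff]
      intro m hm
      rw [Set.mem_singleton_iff] at hm
      subst hm
      exact hAcomm m hy a ha
    have htop : centralizer ({y} : Set G) ⊔ (P : Subgroup G) = ⊤ :=
      top_unique (hsup ▸ sup_le_sup_right hAle _)
    have h1 := Cfsg.Agent.Lib.Helper9.card_eq_card_mul_relIndex
      (inf_le_right : (P : Subgroup G) ⊓ centralizer ({y} : Set G) ≤ centralizer ({y} : Set G))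
    rw [inf_relIndex_right] at h1
    have h2 : (P : Subgroup G).relIndex (centralizer ({y} : Set G)) = Nat.card A := by
      rw [← relIndex_sup_right, htop, relIndex_top_right, hAidx]
    have h3 := D.card_mul_index
    rw [← hc, h1, h2, ← hcardG] at h3
    have : (Nat.card ↥((P : Subgroup G) ⊓ centralizer ({y} : Set G)) * Nat.card D) * Nat.card A =
        Nat.card (P : Subgroup G) * Nat.card A := by rw [← h3]; ring
    exact Nat.eq_of_mul_eq_mul_right hApos this
  have hAsolv : Group.IsSolvable A :=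
    Group.isSolvable_of_comm (fun a b => Subtype.ext (hAcomm a a.2 b b.2))
  have hAN : A ≤ normalizer ((P : Subgroup G) : Set G) := by
    rw [normalizer_eq_top_iff.mpr hPn]; exact le_top
  obtain ⟨n, hn⟩ := IsPGroup.iff_card.mp P.isPGroup'
  have hcopAP : (Nat.card A).Coprime (Nat.card (P : Subgroup G)) := by
    rw [hn]; exact Nat.Coprime.pow_right n hAr
  have hle1 : (P : Subgroup G) ≤ C ⊔ ⁅(P : Subgroup G), A⁆ :=
    Cfsg.Agent.Lib.Helper17.le_centralizer_sup_commutator A (P : Subgroup G) hAN hcopAP (Or.inl hAsolv)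
  have hE_le_D : ⁅(P : Subgroup G), A⁆ ≤ D := by
    rw [hD, commutator_def]; exact commutator_mono le_top le_top
  have hle2 : (P : Subgroup G) ≤ C ⊔ D := le_trans hle1 (sup_le_sup_left hE_le_D _)
  have hprod := card_sup_mul_card_inf C D
  have hP_le : Nat.card (P : Subgroup G) ≤ Nat.card ↥(C ⊔ D) := Subgroup.card_le_of_le hle2
  obtain ⟨a₀, ha₀⟩ := (Subgroup.ne_bot_iff_exists_ne_one).mp hAne
  obtain ⟨y₀, hy₀A, hy₀1, -, q₀, b₀, hq₀, hy₀o⟩ := hpp a₀ a₀.2 (fun h => ha₀ (Subtype.ext h))
  have hCy : ∀ y ∈ A, C ≤ (P : Subgroup G) ⊓ centralizer ({y} : Set G) := fun y hy =>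
    inf_le_inf_left _ (centralizer_le (Set.singleton_subset_iff.mpr hy))
  have hy0 := hcent y₀ hy₀A hy₀1 q₀ b₀ hq₀ hy₀o
  have hCcard : Nat.card C ≤ Nat.card ↥((P : Subgroup G) ⊓ centralizer ({y₀} : Set G)) :=
    Subgroup.card_le_of_le (hCy y₀ hy₀A)
  have hPpos : 0 < Nat.card (P : Subgroup G) := Nat.card_pos
  have hDpos : 0 < Nat.card D := Nat.card_pos
  have hCDle : Nat.card C * Nat.card D ≤ Nat.card (P : Subgroup G) := by
    rw [← hy0]; exact Nat.mul_le_mul_right _ hCcard
  have hinf : Nat.card ↥(C ⊓ D) ≤ 1 := by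
    have h1 : Nat.card (P : Subgroup G) * Nat.card ↥(C ⊓ D) ≤ Nat.card (P : Subgroup G) * 1 := by
      calc Nat.card (P : Subgroup G) * Nat.card ↥(C ⊓ D)
          ≤ Nat.card ↥(C ⊔ D) * Nat.card ↥(C ⊓ D) := Nat.mul_le_mul_right _ hP_le
        _ = Nat.card C * Nat.card D := hprod
        _ ≤ Nat.card (P : Subgroup G) * 1 := by rw [mul_one]; exact hCDle
    exact Nat.le_of_mul_le_mul_left h1 hPpos
  have hCD : C ⊓ D = ⊥ := (C ⊓ D).eq_bot_of_card_le hinf
  have hCDeq : Nat.card C * Nat.card D = Nat.card (P : Subgroup G) := by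
    apply le_antisymm hCDle
    rw [← hprod, hCD, card_bot, mul_one]
    exact hP_le
  -- E = D
  have hEn : (⁅(P : Subgroup G), A⁆).Normal := by
    rw [← normalizer_eq_top_iff]
    apply top_unique
    rw [← hsup]
    exact sup_le (Cfsg.Agent.Lib.Helper1.le_normalizer_commutator_right _ _)
      (Cfsg.Agent.Lib.Helper1.le_normalizer_commutator_left _ _)
  have hED : ⁅(P : Subgroup G), A⁆ = D := by
    apply eq_of_le_of_card_ge hE_le_D
    have hprodE := card_sup_mul_card_inf C ⁅(P : Subgroup G), A⁆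
    have hCE : C ⊓ ⁅(P : Subgroup G), A⁆ = ⊥ := by
      apply le_bot_iff.mp
      rw [← hCD]
      exact inf_le_inf_left _ hE_le_D
    rw [hCE, card_bot, mul_one] at hprodE
    have h1 : Nat.card (P : Subgroup G) ≤ Nat.card C * Nat.card ↥⁅(P : Subgroup G), A⁆ := by
      rw [← hprodE]; exact Subgroup.card_le_of_le hle1
    rw [← hCDeq] at h1
    exact Nat.le_of_mul_le_mul_left h1 Nat.card_pos
  have hcomm : ⁅A, (P : Subgroup G)⁆ = D := by rw [commutator_comm]; exact hED
  -- centralizers of prime power elements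
  have hCeq : ∀ y ∈ A, y ≠ 1 → ∀ q b : ℕ, q.Prime → orderOf y = q ^ b →
      C = (P : Subgroup G) ⊓ centralizer ({y} : Set G) := by
    intro y hy hy1 q b hq hyo
    apply eq_of_le_of_card_ge (hCy y hy)
    have h1 := hcent y hy hy1 q b hq hyo
    rw [← hCDeq] at h1
    exact (Nat.eq_of_mul_eq_mul_right hDpos h1).le
  have hfpf : ∀ a ∈ A, a ≠ 1 → ∀ d ∈ D, a * d = d * a → d = 1 := by
    intro a ha ha1 d hd hcomm'
    obtain ⟨y, hyA, hy1, hyz, q, b, hq, hyo⟩ := hpp a ha ha1
    have h1 : d ∈ (P : Subgroup G) ⊓ centralizer ({y} : Set G) := by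
      refine Subgroup.mem_inf.mpr ⟨hDP hd, ?_⟩
      rw [mem_centralizer_iff]
      intro m hm
      rw [Set.mem_singleton_iff] at hm
      subst hm
      obtain ⟨k, rfl⟩ := mem_zpowers_iff.mp hyz
      exact ((Commute.zpow_left (show Commute a d from hcomm') k)).eq
    rw [← hCeq y hyA hy1 q b hq hyo] at h1
    have : d ∈ C ⊓ D := ⟨h1, hd⟩
    rw [hCD, mem_bot] at this
    exact this
  refine ⟨P, A, hPn, ?_, hAne, hAr, hsup, ?_, ?_, ?_, ?_, ?_⟩
  · -- cyclic
    by_contra hnc
    let _ : CommGroup A := { (inferInstance : Group A) with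
      mul_comm := fun a b => Subtype.ext (hAcomm a a.2 b b.2) }
    obtain ⟨q, hq, a, b, haq, hbq, hb1, hab⟩ := Cfsg.Agent.Lib.Helper1.exists_noncyclic_pair hnc
    have : IsMulCommutative A := ⟨⟨fun x y => Subtype.ext (hAcomm x x.2 y y.2)⟩⟩
    have : Fact q.Prime := ⟨hq⟩
    have hqA : q ∣ Nat.card A := by
      have h1 : orderOf b = q := orderOf_eq_prime hbq hb1
      rw [← h1]
      exact orderOf_dvd_natCard b
    have hqr : q ≠ r := by
      intro h
      rw [h] at hqA
      exact (hrp.coprime_iff_not_dvd.mp hAr.symm) hqA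
    have hqD : ¬ q ∣ Nat.card D := by
      intro h
      obtain ⟨k, hk⟩ := IsPGroup.iff_card.mp hDp
      rw [hk] at h
      exact hqr ((Nat.prime_dvd_prime_iff_eq hq hrp).mp (hq.dvd_of_dvd_pow h))
    have hDN : A ≤ normalizer (D : Set G) := by
      rw [normalizer_eq_top_iff.mpr (inferInstance : D.Normal)]; exact le_top
    have hcopAD : (Nat.card A).Coprime (Nat.card D) :=
      Nat.Coprime.coprime_dvd_right (Subgroup.card_dvd_of_le hDP) hcopAP
    have hone : (1 : G) ∈ centralizer (D : Set G) := one_mem _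
    have h1 := Cfsg.Agent.Lib.Helper17.le_iSup_centralizer_pair A D hDN hcopAD q hqD (a : G) (b : G)
      a.2 b.2 (by rw [← Subgroup.coe_pow, haq]; exact hone) (by rw [← Subgroup.coe_pow, hbq]; exact hone)
    have h2 : (⨆ j : ℕ, D ⊓ centralizer {(a : G) * (b : G) ^ j}) ⊔ (D ⊓ centralizer {(b : G)}) = ⊥ := by
      rw [sup_eq_bot_iff, iSup_eq_bot]
      constructor
      · intro j
        rw [eq_bot_iff]
        intro d hd
        rw [mem_bot]
        apply hfpf ((a : G) * (b : G) ^ j) (A.mul_mem a.2 (A.pow_mem b.2 j)) _ d hd.1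
        · have := mem_centralizer_iff.mp hd.2 _ (Set.mem_singleton _)
          exact this
        · intro h
          apply hab j
          apply Subtype.ext
          simpa using h
      · rw [eq_bot_iff]
        intro d hd
        rw [mem_bot]
        apply hfpf (b : G) b.2 _ d hd.1
        · exact mem_centralizer_iff.mp hd.2 _ (Set.mem_singleton _)
        · intro h
          exact hb1 (Subtype.ext h)
    rw [h2] at h1
    exact hnab (le_bot_iff.mp h1)
  · -- C commutative
    refine ⟨⟨fun x y => Subtype.ext ?_⟩⟩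
    have h1 : ⁅(x : G), (y : G)⁆ ∈ C ⊓ D := by
      refine ⟨?_, ?_⟩
      · exact C.mul_mem (C.mul_mem (C.mul_mem x.2 y.2) (C.inv_mem x.2)) (C.inv_mem y.2)
      · rw [hD, _root_.commutator_def]
        exact commutator_mem_commutator (mem_top _) (mem_top _)
    rw [hCD, mem_bot, commutatorElement_eq_one_iff_mul_comm] at h1
    exact h1
  · rw [hcomm]; infer_instance
  · rw [hcomm]
    exact le_antisymm (sup_le inf_le_left hDP) hle2
  · rw [hcomm]; exact hCD
  · rw [hcomm]; exact hfpf

end

end Cfsg.Agent.Lib.Helper24.Mult
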