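import Mathlib
import Cfsg.Agent.Lib.Helper24.MultB
import Cfsg.Agent.Lib.Helper24.MultC

/-!
# Converse direction: the structure (2) forces multiplicativity (helper24)
-/

set_option autoImplicit false

namespace Cfsg.Agent.Lib.Helper24.Mult

open Cfsg Subgroup
open scoped commutatorElement

universe u
variable {G : Type u} [Group G]

/-- join of two commuting commutative subgroups is commutative -/
theorem comm_sup (A C : Subgroup G) (hA : ∀ a ∈ A, ∀ b ∈ A, a * b = b * a)
    (hC : ∀ a ∈ C, ∀ b ∈ C, a * b = b * a) (hAC : C ≤ centralizer (A : Set G)) :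
    ∀ a ∈ A ⊔ C, ∀ b ∈ A ⊔ C, a * b = b * a := by
  have hAA : A ≤ centralizer (A : Set G) := by
    intro a ha
    rw [mem_centralizer_iff]
    intro b hb
    exact hA b hb a ha
  have hCC : C ≤ centralizer (C : Set G) := by
    intro a ha
    rw [mem_centralizer_iff]
    intro b hb
    exact hC b hb a ha
  have hCA : A ≤ centralizer (C : Set G) := le_centralizer_iff.mp hAC
  have h1 : A ⊔ C ≤ centralizer (A : Set G) := sup_le hAA hAC
  have h2 : A ⊔ C ≤ centralizer (C : Set G) := sup_le hCA hCC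
  have h3 : A ≤ centralizer ((A ⊔ C : Subgroup G) : Set G) := le_centralizer_iff.mp h1
  have h4 : C ≤ centralizer ((A ⊔ C : Subgroup G) : Set G) := le_centralizer_iff.mp h2
  have h5 : A ⊔ C ≤ centralizer ((A ⊔ C : Subgroup G) : Set G) := sup_le h3 h4
  intro a ha b hb
  exact (mem_centralizer_iff.mp (h5 hb) a ha)

/-- Lang-type lemma: if `s` centralizes no nonidentity element of the finite normal subgroup `D`
then every element of the coset `s D` is `D`-conjugate to `s`. -/
theorem exists_conj_of_fpf (D : Subgroup G) [D.Normal] [Finite D] (s : G)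
    (hs : ∀ w ∈ D, s * w = w * s → w = 1) (d : G) (hd : d ∈ D) :
    ∃ u ∈ D, u * s * u⁻¹ = s * d := by
  let f : D → D := fun u => ⟨s⁻¹ * (u : G) * s * (u : G)⁻¹, by
    have h1 : s⁻¹ * (u : G) * s ∈ D := by
      have := (inferInstance : D.Normal).conj_mem (u : G) u.2 s⁻¹
      simpa using this
    exact D.mul_mem h1 (D.inv_mem u.2)⟩
  have hinj : Function.Injective f := by
    intro u v huv
    have h1 : s⁻¹ * (u : G) * s * (u : G)⁻¹ = s⁻¹ * (v : G) * s * (v : G)⁻¹ :=
      congrArg Subtype.val huv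
    have h2 : s * ((v : G)⁻¹ * (u : G)) = ((v : G)⁻¹ * (u : G)) * s := by
      have h3 : (u : G) * s * (u : G)⁻¹ = (v : G) * s * (v : G)⁻¹ := by
        have := congrArg (fun z => s * z) h1
        simpa [mul_assoc] using this
      calc s * ((v : G)⁻¹ * (u : G)) = (v : G)⁻¹ * ((v : G) * s * (v : G)⁻¹) * (u : G) := by group
        _ = (v : G)⁻¹ * ((u : G) * s * (u : G)⁻¹) * (u : G) := by rw [h3]
        _ = ((v : G)⁻¹ * (u : G)) * s := by group
    have h4 := hs _ (D.mul_mem (D.inv_mem v.2) u.2) h2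
    apply Subtype.ext
    have : (u : G) = (v : G) := by
      have := congrArg (fun z => (v : G) * z) h4
      simpa using this
    exact this
  have hsurj : Function.Surjective f := Finite.injective_iff_surjective.mp hinj
  obtain ⟨u, hu⟩ := hsurj ⟨d, hd⟩
  refine ⟨u, u.2, ?_⟩
  have h1 : s⁻¹ * (u : G) * s * (u : G)⁻¹ = d := congrArg Subtype.val hu
  rw [← h1]
  group

theorem fpf_mul (D : Subgroup G) [D.Normal] [Finite D] (s : G)
    (hs : ∀ w ∈ D, s * w = w * s → w = 1) (d : G) (hd : d ∈ D) :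
    ∀ w ∈ D, (s * d) * w = w * (s * d) → w = 1 := by
  obtain ⟨u, hu, he⟩ := exists_conj_of_fpf D s hs d hd
  intro w hw hc
  rw [← he] at hc
  have h1 : s * (u⁻¹ * w * u) = (u⁻¹ * w * u) * s := by
    calc s * (u⁻¹ * w * u) = u⁻¹ * ((u * s * u⁻¹) * w) * u := by group
      _ = u⁻¹ * (w * (u * s * u⁻¹)) * u := by rw [hc]
      _ = (u⁻¹ * w * u) * s := by group
  have h2 := hs _ (D.mul_mem (D.mul_mem (D.inv_mem hu) hw) hu) h1
  have : w = u * (u⁻¹ * w * u) * u⁻¹ := by group
  rw [this, h2]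
  group

theorem card_centralizer_le_index [Finite G] (N : Subgroup G) [N.Normal] (g : G)
    (h : ∀ w ∈ N, g * w = w * g → w = 1) :
    Nat.card (centralizer ({g} : Set G)) ≤ N.index := by
  have h1 := card_sup_mul_card_inf (centralizer ({g} : Set G)) N
  have h2 : centralizer ({g} : Set G) ⊓ N = ⊥ := by
    rw [eq_bot_iff]
    intro w hw
    rw [mem_bot]
    apply h w hw.2
    exact mem_centralizer_iff.mp hw.1 g (Set.mem_singleton g)
  rw [h2, card_bot, mul_one] at h1
  have h3 : Nat.card ↥(centralizer ({g} : Set G) ⊔ N) ∣ Nat.card G := Subgroup.card_subgroup_dvd_card _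
  rw [h1, ← N.card_mul_index, mul_comm] at h3
  have h4 := Nat.le_of_dvd (Nat.mul_pos Nat.card_pos (Nat.pos_of_ne_zero N.index_ne_zero_of_finite)) h3
  exact Nat.le_of_mul_le_mul_left h4 Nat.card_pos

section
variable [Finite G] (p : ℕ) [hp : Fact p.Prime]

theorem multHyp_of_structure (P : Sylow p G) (A : Subgroup G) (hPn : (P : Subgroup G).Normal)
    (hAc : IsCyclic ↥A) (hcop : (Nat.card ↥A).Coprime p) (hsup : A ⊔ (P : Subgroup G) = ⊤)
    (hCc : IsMulCommutative ↥((P : Subgroup G) ⊓ Subgroup.centralizer (A : Set G)))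
    (hDn : (⁅A, (P : Subgroup G)⁆).Normal)
    (hCD : ((P : Subgroup G) ⊓ Subgroup.centralizer (A : Set G)) ⊔ ⁅A, (P : Subgroup G)⁆ =
        (P : Subgroup G))
    (hfpf : ∀ a ∈ A, a ≠ 1 → ∀ d ∈ ⁅A, (P : Subgroup G)⁆, a * d = d * a → d = 1) :
    MultHyp G := by
  have hpp : p.Prime := hp.out
  set C : Subgroup G := (P : Subgroup G) ⊓ Subgroup.centralizer (A : Set G) with hC
  set D : Subgroup G := ⁅A, (P : Subgroup G)⁆ with hD
  have hAcomm : ∀ a ∈ A, ∀ b ∈ A, a * b = b * a := by
    intro a ha b hb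
    obtain ⟨g, hg⟩ := hAc.exists_generator
    obtain ⟨m, hm⟩ := Subgroup.mem_zpowers_iff.mp (hg ⟨a, ha⟩)
    obtain ⟨n, hn⟩ := Subgroup.mem_zpowers_iff.mp (hg ⟨b, hb⟩)
    have h1 : (⟨a, ha⟩ : A) * ⟨b, hb⟩ = ⟨b, hb⟩ * ⟨a, ha⟩ := by
      rw [← hm, ← hn]
      exact (Commute.zpow_zpow (Commute.refl g) m n).eq
    exact congrArg Subtype.val h1
  have hCcomm : ∀ a ∈ C, ∀ b ∈ C, a * b = b * a := by
    intro a ha b hb
    have := hCc.is_comm.comm (⟨a, ha⟩ : C) ⟨b, hb⟩
    exact congrArg Subtype.val this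
  have hScomm := comm_sup A C hAcomm hCcomm inf_le_right
  -- commutator G ≤ D
  have hSD : D ⊔ (A ⊔ C) = ⊤ := by
    apply top_unique
    rw [← hsup, ← hCD]
    refine sup_le (le_trans le_sup_left le_sup_right) (sup_le ?_ le_sup_left)
    exact le_trans le_sup_right le_sup_right
  have hcomD : commutator G ≤ D :=
    hDn.commutator_le_of_self_sup_commutative_eq_top hSD
      ⟨⟨fun a b => Subtype.ext (hScomm a a.2 b b.2)⟩⟩
  have hDP : D ≤ (P : Subgroup G) := hCD ▸ le_sup_right
  -- elements outside P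
  have hcent : ∀ g : G, g ∉ (P : Subgroup G) →
      Nat.card (centralizer ({g} : Set G)) ≤ (commutator G).index := by
    intro g hg
    refine le_trans ?_ (Nat.le_of_dvd (Nat.pos_of_ne_zero (Subgroup.index_ne_zero_of_finite))
      (Subgroup.index_dvd_of_le hcomD))
    apply card_centralizer_le_index D g
    -- g = a * c * d
    have hgtop : g ∈ (A ⊔ C) ⊔ D := by
      rw [sup_comm, hSD]; exact mem_top g
    obtain ⟨s, hs, d, hd, rfl⟩ := (Subgroup.mem_sup_of_normal_right).mp hgtop
    have hCn : C ≤ normalizer (A : Set G) := le_trans inf_le_right (centralizer_le_normalizer _)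
    have hs' : s ∈ ((A ⊔ C : Subgroup G) : Set G) := hs
    rw [coe_mul_of_right_le_normalizer_left A C hCn] at hs'
    obtain ⟨a, ha, c, hc, rfl⟩ := Set.mem_mul.mp hs'
    have ha : a ∈ A := ha
    have hc : c ∈ C := hc
    have hcP : c ∈ (P : Subgroup G) := hc.1
    have ha1 : a ≠ 1 := by
      rintro rfl
      apply hg
      rw [one_mul]
      exact (P : Subgroup G).mul_mem hcP (hDP hd)
    have hac : Commute a c := by
      have := mem_centralizer_iff.mp hc.2 a ha
      exact this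
    set n := Nat.card (P : Subgroup G) with hn
    have hcn : c ^ n = 1 := by
      have := pow_card_eq_one' (G := (P : Subgroup G)) (x := ⟨c, hcP⟩)
      exact congrArg Subtype.val this
    have hsn : (a * c) ^ n = a ^ n := by
      rw [hac.mul_pow, hcn, mul_one]
    have han : a ^ n ≠ 1 := by
      intro h
      have h1 : orderOf a ∣ n := orderOf_dvd_of_pow_eq_one h
      have h2 : orderOf a ∣ Nat.card A := Subgroup.orderOf_dvd_natCard A ha
      obtain ⟨k, hk⟩ := IsPGroup.iff_card.mp P.isPGroup'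
      rw [hn, hk] at h1
      have h3 : (Nat.card A).Coprime (p ^ k) := Nat.Coprime.pow_right k hcop
      have h4 : orderOf a = 1 := Nat.eq_one_of_dvd_coprimes h3 h2 h1
      exact ha1 (orderOf_eq_one_iff.mp h4)
    apply fpf_mul D (a * c) _ d hd
    intro w hw hcw
    apply hfpf (a ^ n) (A.pow_mem ha n) han w hw
    rw [← hsn]
    exact ((show Commute (a * c) w from hcw).pow_left n).eq
  -- prime of an element of P
  have hprime : ∀ x : G, x ∈ (P : Subgroup G) → x ≠ 1 → ∀ t a : ℕ, t.Prime → orderOf x = t ^ a →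
      t = p := by
    intro x hx hx1 t a ht hxo
    obtain ⟨k, hk⟩ := (IsPGroup.iff_orderOf.mp P.isPGroup') ⟨x, hx⟩
    have hk' : orderOf x = p ^ k := by
      rw [← hk]; exact (Subgroup.orderOf_mk x hx).symm
    have ha0 : a ≠ 0 := by
      rintro rfl
      rw [pow_zero, orderOf_eq_one_iff] at hxo
      exact hx1 hxo
    have h1 : t ∣ p ^ k := by
      rw [← hk', hxo]; exact dvd_pow_self t ha0
    exact (Nat.prime_dvd_prime_iff_eq ht hpp).mp (ht.dvd_of_dvd_pow h1)
  intro x y χ hx hy ⟨t, q, a, b, ht, hq, hne, hxo, hyo⟩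
  by_cases hχ : (χ : G → ℂ) 1 = 1
  · exact lin_mul χ hχ x y
  have hvan : ∀ g : G, g ∉ (P : Subgroup G) → (χ : G → ℂ) g = 0 := fun g hg =>
    eq_zero_of_card_centralizer_le g (hcent g hg) χ hχ
  have hnot : ¬ (x ∈ (P : Subgroup G) ∧ y ∈ (P : Subgroup G)) := by
    rintro ⟨h1, h2⟩
    exact hne ((hprime x h1 hx t a ht hxo).trans (hprime y h2 hy q b hq hyo).symm)
  have hxy : x * y ∉ (P : Subgroup G) := by
    intro h
    have hmk : (QuotientGroup.mk' (P : Subgroup G)) x * (QuotientGroup.mk' (P : Subgroup G)) y = 1 := by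
      rw [← map_mul]
      exact (QuotientGroup.eq_one_iff _).mpr h
    have e1 : (QuotientGroup.mk' (P : Subgroup G)) x = ((QuotientGroup.mk' (P : Subgroup G)) y)⁻¹ :=
      eq_inv_of_mul_eq_one_left hmk
    have d1 : orderOf ((QuotientGroup.mk' (P : Subgroup G)) x) ∣ t ^ a := by
      rw [← hxo]; exact orderOf_map_dvd _ x
    have d2 : orderOf ((QuotientGroup.mk' (P : Subgroup G)) x) ∣ q ^ b := by
      rw [e1, orderOf_inv, ← hyo]; exact orderOf_map_dvd _ y
    have hcop' : (t ^ a).Coprime (q ^ b) :=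
      Nat.Coprime.pow a b ((Nat.coprime_primes ht hq).mpr hne)
    have h1 : orderOf ((QuotientGroup.mk' (P : Subgroup G)) x) = 1 :=
      Nat.eq_one_of_dvd_coprimes hcop' d1 d2
    have hx1 : (QuotientGroup.mk' (P : Subgroup G)) x = 1 := orderOf_eq_one_iff.mp h1
    have hy1 : (QuotientGroup.mk' (P : Subgroup G)) y = 1 := by
      rw [hx1, one_mul] at hmk; exact hmk
    exact hnot ⟨(QuotientGroup.eq_one_iff _).mp hx1, (QuotientGroup.eq_one_iff _).mp hy1⟩
  rw [hvan _ hxy]
  by_cases hxP : x ∈ (P : Subgroup G)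
  · have hyP : y ∉ (P : Subgroup G) := fun h => hnot ⟨hxP, h⟩
    rw [hvan y hyP, mul_zero]
  · rw [hvan x hxP, zero_mul]

end

end Cfsg.Agent.Lib.Helper24.Mult
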