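/-
helper24: centralizers inside a normal subgroup `N` of `G`.  For `Q' ≤ N` with image `Q` in `G`:
`C_N(Q') ≃ C_G(Q) ∩ N`, the latter as the normal subgroup `N.subgroupOf C_G(Q)` of `C_G(Q)`
(`centEquivN`); the conjugation action of `N_G(Q)` on it (`actN`); the Brauer functional of an
element supported on `N` computed through a constituent on `C_G(Q) ∩ N` (`brauerOmega_eq_of_over`);
conjugates of constituents; stabilizers of blocks of `C_N(Q')` (`stabilizesBlock_centEquivN`); and
characters over the same block of a normal subgroup of `p`-power index lie in the same block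
(`sameBlock_of_over_ppower`).
-/
import Mathlib
import Cfsg.Agent.Lib.Helper24.TChain
import Cfsg.Agent.Lib.Helper24.NormalDegrees
import Cfsg.Agent.Lib.Helper23.Covering
import Cfsg.Agent.Lib.Helper6.PComplementBlock
import Cfsg.Agent.Lib.Helper6.NormalPBlock

set_option autoImplicit false
open Cfsg Cfsg.Agent.CharLib Cfsg.Agent.Lib.Helper6 Cfsg.Agent.Lib.Helper23
open scoped ComplexConjugate

namespace Cfsg.Agent.Lib.Helper24
universe u

section centN
variable {G : Type u} [Group G] (N : Subgroup G) (Q : Subgroup G) (Q' : Subgroup N)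

theorem mem_centralizer_map_subtype_iff (hQ : Q = Q'.map N.subtype) (n : N) :
    (n : G) ∈ Subgroup.centralizer (Q : Set G) ↔ n ∈ Subgroup.centralizer (Q' : Set N) := by
  constructor
  · intro hn
    rw [Subgroup.mem_centralizer_iff]
    intro d hd
    apply Subtype.ext
    have hdQ : ((d : N) : G) ∈ Q := by
      rw [hQ]; exact ⟨d, hd, rfl⟩
    exact Subgroup.mem_centralizer_iff.mp hn _ hdQ
  · intro hn
    rw [Subgroup.mem_centralizer_iff]
    intro r hr
    rw [hQ] at hr
    obtain ⟨d, hd, rfl⟩ := hr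
    have := Subgroup.mem_centralizer_iff.mp hn d hd
    exact congrArg Subtype.val this

/-- `C_N(Q') ≃ C_G(Q) ∩ N`, the latter as a subgroup of `C_G(Q)`. -/
noncomputable def centEquivN (hQ : Q = Q'.map N.subtype) :
    Subgroup.centralizer (Q' : Set N) ≃* N.subgroupOf (Subgroup.centralizer (Q : Set G)) where
  toFun k := ⟨⟨((k : N) : G), (mem_centralizer_map_subtype_iff N Q Q' hQ _).mpr k.2⟩,
    Subgroup.mem_subgroupOf.mpr (k : N).2⟩
  invFun h := ⟨⟨((h : Subgroup.centralizer (Q : Set G)) : G), Subgroup.mem_subgroupOf.mp h.2⟩,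
    (mem_centralizer_map_subtype_iff N Q Q' hQ _).mp (h : Subgroup.centralizer (Q : Set G)).2⟩
  left_inv _ := rfl
  right_inv _ := rfl
  map_mul' _ _ := rfl

theorem centEquivN_coe (hQ : Q = Q'.map N.subtype) (k : Subgroup.centralizer (Q' : Set N)) :
    (((centEquivN N Q Q' hQ k : N.subgroupOf (Subgroup.centralizer (Q : Set G))) :
      Subgroup.centralizer (Q : Set G)) : G) = ((k : N) : G) := rfl

theorem centEquivN_symm_coe (hQ : Q = Q'.map N.subtype)
    (h : N.subgroupOf (Subgroup.centralizer (Q : Set G))) :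
    ((((centEquivN N Q Q' hQ).symm h : Subgroup.centralizer (Q' : Set N)) : N) : G) =
      ((h : Subgroup.centralizer (Q : Set G)) : G) := rfl

end centN

section actN
variable {G : Type u} [Group G] (N : Subgroup G) [hN : N.Normal] (Q : Subgroup G)

theorem conj_mem_centralizer_of_mem_normalizer {g : G}
    (hg : g ∈ Subgroup.normalizer (Q : Set G)) {k : G}
    (hk : k ∈ Subgroup.centralizer (Q : Set G)) :
    g * k * g⁻¹ ∈ Subgroup.centralizer (Q : Set G) := by
  rw [Subgroup.mem_centralizer_iff]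
  intro q hq
  have h1 : g⁻¹ * q * g ∈ Q := by
    have := (Subgroup.mem_normalizer_iff.mp (Subgroup.inv_mem _ hg) q).mp hq
    simpa using this
  have h2 := Subgroup.mem_centralizer_iff.mp hk _ h1
  calc q * (g * k * g⁻¹) = g * ((g⁻¹ * q * g) * k) * g⁻¹ := by group
    _ = g * (k * (g⁻¹ * q * g)) * g⁻¹ := by rw [h2]
    _ = g * k * g⁻¹ * q := by group

/-- Conjugation by `g ∈ N_G(Q)` on `C_G(Q) ∩ N`. -/
noncomputable def actN (g : G) (hg : g ∈ Subgroup.normalizer (Q : Set G)) :
    N.subgroupOf (Subgroup.centralizer (Q : Set G)) ≃*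
      N.subgroupOf (Subgroup.centralizer (Q : Set G)) where
  toFun h := ⟨⟨g * ((h : Subgroup.centralizer (Q : Set G)) : G) * g⁻¹,
      conj_mem_centralizer_of_mem_normalizer Q hg (h : Subgroup.centralizer (Q : Set G)).2⟩,
    Subgroup.mem_subgroupOf.mpr (hN.conj_mem _ (Subgroup.mem_subgroupOf.mp h.2) g)⟩
  invFun h := ⟨⟨g⁻¹ * ((h : Subgroup.centralizer (Q : Set G)) : G) * g, by
      have := conj_mem_centralizer_of_mem_normalizer Q (Subgroup.inv_mem _ hg)
        (h : Subgroup.centralizer (Q : Set G)).2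
      simpa using this⟩,
    Subgroup.mem_subgroupOf.mpr (by
      have := hN.conj_mem _ (Subgroup.mem_subgroupOf.mp h.2) g⁻¹
      simpa using this)⟩
  left_inv h := by
    apply Subtype.ext; apply Subtype.ext
    simp [mul_assoc]
  right_inv h := by
    apply Subtype.ext; apply Subtype.ext
    simp [mul_assoc]
  map_mul' a b := by
    apply Subtype.ext; apply Subtype.ext
    simp [mul_assoc]

theorem actN_coe (g : G) (hg : g ∈ Subgroup.normalizer (Q : Set G))
    (h : N.subgroupOf (Subgroup.centralizer (Q : Set G))) :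
    (((actN N Q g hg h : N.subgroupOf (Subgroup.centralizer (Q : Set G))) :
      Subgroup.centralizer (Q : Set G)) : G) =
      g * ((h : Subgroup.centralizer (Q : Set G)) : G) * g⁻¹ := rfl

theorem actN_symm_coe (g : G) (hg : g ∈ Subgroup.normalizer (Q : Set G))
    (h : N.subgroupOf (Subgroup.centralizer (Q : Set G))) :
    ((((actN N Q g hg).symm h : N.subgroupOf (Subgroup.centralizer (Q : Set G))) :
      Subgroup.centralizer (Q : Set G)) : G) =
      g⁻¹ * ((h : Subgroup.centralizer (Q : Set G)) : G) * g := rfl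

theorem actN_mul (g₁ g₂ : G) (h₁ : g₁ ∈ Subgroup.normalizer (Q : Set G))
    (h₂ : g₂ ∈ Subgroup.normalizer (Q : Set G))
    (h : N.subgroupOf (Subgroup.centralizer (Q : Set G))) :
    actN N Q (g₁ * g₂) (Subgroup.mul_mem _ h₁ h₂) h = actN N Q g₁ h₁ (actN N Q g₂ h₂ h) := by
  apply Subtype.ext; apply Subtype.ext
  rw [actN_coe, actN_coe, actN_coe]
  group

end actN

section omegaN
variable {G : Type u} [Group G] (N : Subgroup G) [hN : N.Normal] (Q : Subgroup G)
  (Q' : Subgroup N)

/-- The Brauer functional at `Q` of a class function supported on `N`, computed through a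
constituent on `C_G(Q) ∩ N` and transported to `C_N(Q')`. -/
theorem brauerOmega_eq_of_over [Fintype (Subgroup.centralizer (Q : Set G))]
    [Fintype (N.subgroupOf (Subgroup.centralizer (Q : Set G)))]
    [Fintype (Subgroup.centralizer (Q' : Set N))]
    (hQ : Q = Q'.map N.subtype) (β : G → ℂ)
    (hβ : IsClassFunction G β) (hsupp : ∀ g, g ∉ N → β g = 0) (β' : N → ℂ)
    (hβ' : ∀ n : N, β' n = β n)
    (ξ : IrrCharacter (Subgroup.centralizer (Q : Set G)))
    (θ : IrrCharacter (N.subgroupOf (Subgroup.centralizer (Q : Set G))))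
    (hover : classInner (resFun (N.subgroupOf (Subgroup.centralizer (Q : Set G)))
      (ξ : Subgroup.centralizer (Q : Set G) → ℂ))
      (θ : N.subgroupOf (Subgroup.centralizer (Q : Set G)) → ℂ) ≠ 0) :
    brauerOmega Q β (ξ : Subgroup.centralizer (Q : Set G) → ℂ) =
      brauerOmega Q' β' ((irrCompIso (centEquivN N Q Q' hQ) θ : IrrCharacter _) : _ → ℂ) := by
  classical
  let C := Subgroup.centralizer (Q : Set G)
  let C₀ := N.subgroupOf C
  let a : C₀ → ℂ := fun h => β ((h : C) : G)
  have ha : ∀ (g : C) (n : C₀), a (conjN C₀ g n) = a n := by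
    intro g n
    change β ((g : G) * ((n : C) : G) * ((g : G))⁻¹) = β ((n : C) : G)
    exact hβ _ _
  have h1 : brauerOmega Q β (ξ : C → ℂ) = (∑ n : C₀, a n * (ξ : C → ℂ) n) / (ξ : C → ℂ) 1 := by
    unfold brauerOmega
    rw [finsum_eq_sum_of_fintype, ← Finset.sum_div, ← sum_extN_mul C₀ a]
    congr 1
    apply Finset.sum_congr rfl
    intro y _
    by_cases hy : y ∈ C₀
    · have : y = ((⟨y, hy⟩ : C₀) : C) := rfl
      rw [this, extN_apply_mem]
    · rw [extN_apply_not_mem C₀ a hy]
      have : (y : G) ∉ N := fun hc => hy (Subgroup.mem_subgroupOf.mpr hc)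
      rw [hsupp _ this]
  have h2 := omega_restrict_eq C₀ ξ.2 θ.2 hover a ha
  rw [h1, h2]
  unfold brauerOmega
  rw [finsum_eq_sum_of_fintype, ← Finset.sum_div]
  congr 1
  · rw [← Equiv.sum_comp (centEquivN N Q Q' hQ).toEquiv]
    apply Finset.sum_congr rfl
    intro k _
    rw [irrCompIso_apply, hβ']
    rfl

end omegaN

section conjN
variable {G : Type u} [Group G] (N : Subgroup G) [hN : N.Normal] (Q : Subgroup G)
  (Q' : Subgroup N)

/-- Conjugation by `g ∈ N_G(Q)` carries constituents on `C_G(Q) ∩ N` to constituents. -/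
theorem classInner_conj_actN [Fintype (N.subgroupOf (Subgroup.centralizer (Q : Set G)))]
    (g : G) (hg : g ∈ Subgroup.normalizer (Q : Set G))
    (ξ ξ' : Subgroup.centralizer (Q : Set G) → ℂ)
    (hξ : IsConjCharOf (Subgroup.centralizer (Q : Set G)) g ξ ξ')
    (θ : IrrCharacter (N.subgroupOf (Subgroup.centralizer (Q : Set G)))) :
    classInner (resFun (N.subgroupOf (Subgroup.centralizer (Q : Set G))) ξ')
      ((irrCompIso (actN N Q g hg).symm θ : IrrCharacter _) : _ → ℂ) =
    classInner (resFun (N.subgroupOf (Subgroup.centralizer (Q : Set G))) ξ)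
      (θ : N.subgroupOf (Subgroup.centralizer (Q : Set G)) → ℂ) := by
  unfold classInner
  congr 1
  rw [← Equiv.sum_comp (actN N Q g hg).toEquiv]
  apply Finset.sum_congr rfl
  intro h _
  rw [irrCompIso_apply, resFun_apply, resFun_apply]
  have e1 : (actN N Q g hg).symm ((actN N Q g hg).toEquiv h) = h :=
    (actN N Q g hg).symm_apply_apply h
  rw [e1]
  congr 1
  exact hξ (h : Subgroup.centralizer (Q : Set G))
    (((actN N Q g hg).toEquiv h : N.subgroupOf (Subgroup.centralizer (Q : Set G))) :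
      Subgroup.centralizer (Q : Set G)) rfl

theorem mem_normalizer_map_subtype_iff (hQ : Q = Q'.map N.subtype) (w : N) :
    (w : G) ∈ Subgroup.normalizer (Q : Set G) ↔ w ∈ Subgroup.normalizer (Q' : Set N) := by
  have key : ∀ n : N, n ∈ Q' ↔ (n : G) ∈ Q := by
    intro n
    rw [hQ]
    constructor
    · intro h; exact ⟨n, h, rfl⟩
    · rintro ⟨m, hm, hmn⟩
      have : m = n := Subtype.ext hmn
      rwa [← this]
  constructor
  · intro hw
    rw [Subgroup.mem_normalizer_iff]
    intro n
    rw [key, key]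
    exact Subgroup.mem_normalizer_iff.mp hw n
  · intro hw
    rw [Subgroup.mem_normalizer_iff]
    intro x
    constructor
    · intro hx
      have hxN : x ∈ N := by
        rw [hQ] at hx; obtain ⟨m, -, rfl⟩ := hx; exact m.2
      have := (Subgroup.mem_normalizer_iff.mp hw ⟨x, hxN⟩).mp ((key _).mpr hx)
      exact (key _).mp this
    · intro hx
      have hxN' : (w : G) * x * (w : G)⁻¹ ∈ N := by
        rw [hQ] at hx; obtain ⟨m, -, hm⟩ := hx; rw [← hm]; exact m.2
      have hxN : x ∈ N := by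
        have := hN.conj_mem _ hxN' (w : G)⁻¹
        simpa [mul_assoc] using this
      have := (Subgroup.mem_normalizer_iff.mp hw ⟨x, hxN⟩).mpr ((key _).mpr hx)
      exact (key _).mp this

/-- An element normalizing `R` normalizes `C(R)`. -/
theorem mem_normalizer_centralizer_of_normalizes {H : Type u} [Group H] (R : Subgroup H)
    (w : H) (hw : w ∈ Subgroup.normalizer (R : Set H)) :
    w ∈ Subgroup.normalizer ((Subgroup.centralizer (R : Set H) : Subgroup H) : Set H) := by
  rw [Subgroup.mem_normalizer_iff]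
  intro k
  constructor
  · intro hk
    exact conj_mem_centralizer_of_mem_normalizer R hw hk
  · intro hk
    have := conj_mem_centralizer_of_mem_normalizer R (Subgroup.inv_mem _ hw) hk
    simpa [mul_assoc] using this

/-- From the action on `C_G(Q) ∩ N` to `StabilizesBlock` inside the group `N`. -/
theorem stabilizesBlock_centEquivN (hQ : Q = Q'.map N.subtype) (w : N)
    (hw : (w : G) ∈ Subgroup.normalizer (Q : Set G))
    (φ₀ : Set (IrrCharacter (N.subgroupOf (Subgroup.centralizer (Q : Set G)))))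
    (h : ∀ θ ∈ φ₀, irrCompIso (actN N Q (w : G) hw).symm θ ∈ φ₀) :
    StabilizesBlock (Subgroup.centralizer (Q' : Set N))
      (BlockIso.pullBlock (centEquivN N Q Q' hQ) φ₀) w := by
  refine ⟨mem_normalizer_centralizer_of_normalizes Q' w
    ((mem_normalizer_map_subtype_iff N Q Q' hQ w).mp hw), ?_⟩
  intro χ hχ
  have h1 : irrCompIso (centEquivN N Q Q' hQ).symm χ ∈ φ₀ :=
    (BlockIso.mem_pullBlock_iff _ φ₀ χ).mp hχ
  refine ⟨irrCompIso (centEquivN N Q Q' hQ) (irrCompIso (actN N Q (w : G) hw).symm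
    (irrCompIso (centEquivN N Q Q' hQ).symm χ)), BlockIso.irrCompIso_mem_pullBlock _ (h _ h1), ?_⟩
  intro k k' hk
  rw [irrCompIso_apply, irrCompIso_apply, irrCompIso_apply]
  have e : (centEquivN N Q Q' hQ).symm ((actN N Q (w : G) hw).symm
      ((centEquivN N Q Q' hQ) k')) = k := by
    apply Subtype.ext; apply Subtype.ext
    rw [centEquivN_symm_coe, actN_symm_coe, centEquivN_coe, hk]
    push_cast
    group
  rw [e]

/-- From `StabilizesBlock` inside the group `N` to the action on `C_G(Q) ∩ N`. -/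
theorem actN_mem_of_stabilizesBlock (hQ : Q = Q'.map N.subtype) (w : N)
    (hw : (w : G) ∈ Subgroup.normalizer (Q : Set G))
    (φ' : Set (IrrCharacter (Subgroup.centralizer (Q' : Set N))))
    (hst : StabilizesBlock (Subgroup.centralizer (Q' : Set N)) φ' w)
    (θ : IrrCharacter (N.subgroupOf (Subgroup.centralizer (Q : Set G))))
    (hθ : irrCompIso (centEquivN N Q Q' hQ) θ ∈ φ') :
    irrCompIso (centEquivN N Q Q' hQ) (irrCompIso (actN N Q (w : G) hw).symm θ) ∈ φ' := by
  obtain ⟨χ', hχ', hconj⟩ := hst.2 _ hθ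
  have : irrCompIso (centEquivN N Q Q' hQ) (irrCompIso (actN N Q (w : G) hw).symm θ) = χ' := by
    apply Subtype.ext
    funext k'
    have h1 := hconj ((centEquivN N Q Q' hQ).symm ((actN N Q (w : G) hw).symm
      (centEquivN N Q Q' hQ k'))) k' (by
        apply Subtype.ext
        push_cast
        rw [centEquivN_symm_coe, actN_symm_coe, centEquivN_coe]
        group)
    rw [h1, irrCompIso_apply, irrCompIso_apply, irrCompIso_apply, MulEquiv.apply_symm_apply]
  rw [this]
  exact hχ'

end conjN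

section ppower
variable {H : Type u} [Group H] [Fintype H] (N₁ : Subgroup H) [hN₁ : N₁.Normal] [Fintype N₁]
  {M : Ideal AlgInt} {p : ℕ} [hpp : Fact p.Prime]

/-- If `H / N₁` is a `p`-group, two irreducible characters of `H` lying over characters of `N₁`
in the same block lie in the same block. -/
theorem sameBlock_of_over_ppower (hM : IsPModular p M) (hidx : ∃ k : ℕ, N₁.index = p ^ k)
    (ξ₁ ξ₂ : IrrCharacter H) (θ₁ θ₂ : IrrCharacter N₁)
    (h₁ : classInner (fun n : N₁ => (ξ₁ : H → ℂ) n) (θ₁ : N₁ → ℂ) ≠ 0)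
    (h₂ : classInner (fun n : N₁ => (ξ₂ : H → ℂ) n) (θ₂ : N₁ → ℂ) ≠ 0)
    (hsame : SameBlock M (θ₁ : N₁ → ℂ) (θ₂ : N₁ → ℂ)) :
    SameBlock M (ξ₁ : H → ℂ) (ξ₂ : H → ℂ) := by
  have hp : M.IsPrime := isPrime_of_isPModular hM
  apply sameBlock_of_forall_pRegular hM
  intro y hy
  have hyN : y ∈ N₁ := mem_of_pRegular_of_index N₁ hidx hy
  have hb : IsPBlock M (blockOf M (θ₁ : N₁ → ℂ)) := ⟨θ₁, rfl⟩
  have e1 := passman_forward N₁ hM (B := blockOf M (ξ₁ : H → ℂ)) ⟨ξ₁, rfl⟩ hb ξ₁
    (mem_blockOf_self ξ₁) θ₁ (mem_blockOf_self θ₁) h₁ ξ₁ (mem_blockOf_self ξ₁) θ₁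
    (mem_blockOf_self θ₁) ⟨y, hyN⟩
  have e2 := passman_forward N₁ hM (B := blockOf M (ξ₂ : H → ℂ)) ⟨ξ₂, rfl⟩ hb ξ₂
    (mem_blockOf_self ξ₂) θ₂ hsame h₂ ξ₂ (mem_blockOf_self ξ₂) θ₁
    (mem_blockOf_self θ₁) ⟨y, hyN⟩
  have e3 := memLocalIdeal_sub e1 e2
  have e4 : centralChar (ξ₁ : H → ℂ) ((⟨y, hyN⟩ : N₁) : H) -
      inducedCentralChar N₁ (θ₁ : N₁ → ℂ) ((⟨y, hyN⟩ : N₁) : H) -
      (centralChar (ξ₂ : H → ℂ) ((⟨y, hyN⟩ : N₁) : H) -
        inducedCentralChar N₁ (θ₁ : N₁ → ℂ) ((⟨y, hyN⟩ : N₁) : H)) =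
      centralChar (ξ₁ : H → ℂ) y - centralChar (ξ₂ : H → ℂ) y := by ring
  rwa [e4] at e3

end ppower

end Cfsg.Agent.Lib.Helper24
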