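import Mathlib
import Cfsg.Agent.Lib.Lead.OEDefs
import Cfsg.Agent.Lib.Helper4.AschA1
import Cfsg.Agent.Lib.Helper20.AschTS
import Cfsg.Agent.Lib.Helper29.AschKF2
import Cfsg.Agent.Lib.Helper29.AschS1K1
import Cfsg.Agent.Lib.Helper24.AschONIL

/-!
OMEGA-EVEN project (planner lead), block **E-NIL** `egeo_of_nilpotent` (helper24): the nilpotent case gives the class `.c6`
(`structure_of_nilpotent_sq`: a scalar isometry of a non-zero quadratic form has square `1`).
Exact signature of notes/OmEven_leaves.lean.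
-/

set_option autoImplicit false
set_option linter.unusedSectionVars false
set_option linter.unusedVariables false

namespace Cfsg.Agent.Lib.Helper24.OELeaf
open Matrix Cfsg Cfsg.Geo Cfsg.Agent.Lib.Helper20.Asch Cfsg.Agent.Lib.Lead.OE
open scoped Kronecker

variable {F : Type*} [Field F] [Fintype F] {n : ℕ} {Q : (Fin n → F) → F}
  {H N : Subgroup (GL (Fin n) F)}

/-- a non-degenerate quadratic form on a non-zero space does not vanish identically -/
theorem exists_quad_ne_zero (hQ : IsNondegenerateQuadraticForm Q) (hn : 0 < n) : ∃ v : Fin n → F, Q v ≠ 0 := by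
  by_contra hall
  push Not at hall
  have hv : (Pi.single (⟨0, hn⟩ : Fin n) (1 : F) : Fin n → F) ≠ 0 := by
    intro h0
    have := congrFun h0 ⟨0, hn⟩
    rw [Pi.single_eq_same, Pi.zero_apply] at this
    exact one_ne_zero this
  obtain ⟨⟨x, hx⟩, -⟩ := hQ.nondegenerate _ hv
  apply hx
  unfold QuadraticMap.polar
  rw [hall, hall, hall, sub_zero, sub_zero]

/-- a scalar isometry of a non-degenerate quadratic form has square `1` -/
theorem sq_eq_one_of_scalar_isometry (hQ : IsNondegenerateQuadraticForm Q) (hn : 0 < n) {x : GL (Fin n) F}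
    (hx : x ∈ isometryGroup F Q) (hs : x ∈ scalars (Fin n) F) : x * x = 1 := by
  obtain ⟨c, hc⟩ := (mem_scalars_iff x).mp hs
  obtain ⟨v, hv⟩ := exists_quad_ne_zero hQ hn
  have h1 : Q ((x : Matrix (Fin n) (Fin n) F) *ᵥ v) = Q v := hx v v
  rw [hc, Matrix.smul_mulVec, Matrix.one_mulVec, hQ.smul] at h1
  have hc2 : (c : F) ^ 2 = 1 := by
    have h2 : ((c : F) ^ 2 - 1) * Q v = 0 := by linear_combination h1
    rcases mul_eq_zero.mp h2 with h3 | h3
    · linear_combination h3
    · exact absurd h3 hv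
  apply Units.ext
  rw [Units.val_mul, hc, Units.val_one, Matrix.smul_mul, Matrix.mul_smul, Matrix.mul_one, smul_smul, ← pow_two, hc2,
    one_smul]

/-- [E-NIL] -/
theorem egeo_of_nilpotent (h : ECtx Q H) (hn : 3 ≤ n) (hirr : Irr H) (hqp : QP H) (hN : N ≤ H)
    (hnorm : NormBy H N) (hns : ¬ N ≤ scalars (Fin n) F)
    (hmin : ∀ M : Subgroup (GL (Fin n) F), M ≤ N → NormBy H M → M = N ∨ M ≤ scalars (Fin n) F)
    (hcomm : ⁅N, N⁆ ≤ scalars (Fin n) F) : EGeo Q H := by
  have hn0 : 0 < n := by omega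
  obtain ⟨habs, hst, hZ, h2, k, hk, hcard, hnk⟩ :=
    Cfsg.Agent.Lib.Helper24.AschOLeaf.structure_of_nilpotent_sq hn0
      (fun x hx hs => sq_eq_one_of_scalar_isometry h.nd hn0 (h.le (hN hx)) hs) hqp hN hnorm hns hmin hcomm
  exact EGeo.c6 N k hN hnorm habs hst hZ h2 hk hcard hnk

end Cfsg.Agent.Lib.Helper24.OELeaf
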