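import Mathlib
import Cfsg.Agent.Lib.Helper26.OOMinStageDefs
import Cfsg.Agent.Lib.Helper24.OPMinWS
import Cfsg.Agent.Lib.Helper13.SLMinW

/-!
# S2344 leaves H2, H1 (planner helper26): the Heisenberg group on a weight space of its centre

`Q = {sho c * rad R}` with centre `Z = rad`; on the weight space `W = M_v` of `Z` with `v (i, j) ≠ 0`
the `q` eigenspaces of the short root group `sho (F e_i)` are permuted transitively by `sho (F e_j)`.
-/

set_option autoImplicit false
set_option linter.unusedSectionVars false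

namespace Cfsg.Agent.Lib.Helper24.OOMin

open Matrix Module Cfsg.Agent.Lib.Helper27.OPMin Cfsg.Agent.Lib.Helper16.SLMin
  Cfsg.Agent.Lib.Helper26.OOMin Cfsg.Agent.Lib.Helper13.SLMin Cfsg.Agent.Lib.Helper24.OPMin

section H

variable {F : Type*} [Field F] [Fintype F] [DecidableEq F] {n : ℕ} {H : Type*} [Group H]
  {M : Type*} [AddCommGroup M] [Module ℂ M] [FiniteDimensional ℂ M]
  (D : SiegelB F n H) (ρ : Representation ℂ H M)

/-- the root map of the short root group `sho (F e_i)` -/
def shoI (i : Fin n) (r : Unit → F) : H := D.sho (Pi.single i (r ()))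

theorem vecMulVec_single_single (i j : Fin n) (s t : F) :
    vecMulVec (Pi.single i s : Fin n → F) (Pi.single j t) = Matrix.single i j (s * t) := by
  ext a b
  rw [vecMulVec_apply, Matrix.single_apply, Pi.single_apply, Pi.single_apply]
  by_cases ha : a = i
  · by_cases hb : b = j
    · subst ha; subst hb; simp
    · have : ¬ (i = a ∧ j = b) := fun h => hb h.2.symm
      rw [if_neg hb, if_neg this, mul_zero]
  · have : ¬ (i = a ∧ j = b) := fun h => ha h.1.symm
    rw [if_neg ha, if_neg this, zero_mul]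

theorem sho_single_add (i : Fin n) (s t : F) :
    D.sho (Pi.single i (s + t)) = D.sho (Pi.single i s) * D.sho (Pi.single i t) := by
  rw [D.sho_mul, ← Pi.single_add, vecMulVec_single_single,
    D.toSiegel.rad_of_symm _ (Matrix.transpose_single _ _ _), mul_one]

theorem shoI_add (i : Fin n) (r s : Unit → F) :
    shoI D i (r + s) = shoI D i r * shoI D i s := sho_single_add D i _ _

theorem sho_single_zero (i : Fin n) : D.sho (Pi.single i (0 : F)) = 1 := by
  rw [Pi.single_zero]; exact D.sho_zero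

theorem wt_shoI_zero (i : Fin n) : wt ρ (shoI D i) 0 = shoFix D ρ i := by
  ext m
  rw [mem_wt, mem_shoFix]
  constructor
  · intro h s
    have := h (fun _ => s)
    rwa [zero_dotProduct, AddChar.map_zero_eq_one, one_smul] at this
  · intro h r
    rw [zero_dotProduct, AddChar.map_zero_eq_one, one_smul]
    exact h (r ())

/-- the Heisenberg commutation relation -/
theorem sho_comm_rel (c c' : Fin n → F) :
    D.sho c * D.sho c' = D.sho c' * D.sho c * D.rad (vecMulVec c' c - vecMulVec c c') := by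
  rw [D.sho_mul c c', D.sho_mul c' c, mul_assoc, ← D.toSiegel.rad_add, add_sub_cancel,
    add_comm c' c]

/-- `sho` preserves the weight spaces of the centre -/
theorem sho_mem_wt (v : Fin n × Fin n → F) (c : Fin n → F) (m : M)
    (hm : m ∈ wt ρ D.toSiegel.radv v) : ρ (D.sho c) m ∈ wt ρ D.toSiegel.radv v := by
  intro r
  have h1 : D.toSiegel.radv r * D.sho c = D.sho c * D.toSiegel.radv r := D.rad_sho _ _
  calc ρ (D.toSiegel.radv r) (ρ (D.sho c) m) = ρ (D.toSiegel.radv r * D.sho c) m := by
        rw [map_mul]; rfl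
    _ = ρ (D.sho c) (ρ (D.toSiegel.radv r) m) := by rw [h1, map_mul]; rfl
    _ = _ := by rw [hm r, map_smul]

/-- the key lemma: `sho (t e_j)` shifts the `sho (F e_i)`-weight on `M_v` by `t (v_ji - v_ij)` -/
theorem sho_map_wt (v : Fin n × Fin n → F) (i j : Fin n) (t : F) (a : Unit → F) (m : M)
    (hm : m ∈ wt ρ D.toSiegel.radv v ⊓ wt ρ (shoI D i) a) :
    ρ (D.sho (Pi.single j t)) m ∈ wt ρ D.toSiegel.radv v ⊓
      wt ρ (shoI D i) (a + fun _ => t * (v (j, i) - v (i, j))) := by
  obtain ⟨hmW, hma⟩ := hm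
  refine ⟨sho_mem_wt D ρ v _ m hmW, ?_⟩
  intro r
  have h1 := sho_comm_rel D (Pi.single i (r ())) (Pi.single j t)
  rw [vecMulVec_single_single, vecMulVec_single_single] at h1
  set R : Matrix (Fin n) (Fin n) F :=
    Matrix.single j i (t * r ()) - Matrix.single i j (r () * t) with hR
  have hRad : ρ (D.rad R) m = (eps F (v (j, i) * (t * r ()) - v (i, j) * (r () * t)) : ℂ) • m := by
    have h2 := hmW (ofM R)
    have h3 : D.toSiegel.radv (ofM R) = D.rad R := by
      unfold Siegel.radv; rw [toM_ofM]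
    rw [h3] at h2
    rw [h2]
    congr 2
    have : ofM R = ofM (Matrix.single j i (t * r ())) + ofM (Matrix.single i j (-(r () * t))) := by
      rw [← ofM_add, hR, sub_eq_add_neg]
      congr 2
      ext a b
      simp only [Matrix.neg_apply, Matrix.single_apply]
      split_ifs <;> simp
    rw [this, dotProduct_add, dotProduct_ofM_single, dotProduct_ofM_single]
    ring
  show ρ (D.sho (Pi.single i (r ()))) (ρ (D.sho (Pi.single j t)) m) = _
  calc ρ (D.sho (Pi.single i (r ()))) (ρ (D.sho (Pi.single j t)) m)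
      = ρ (D.sho (Pi.single i (r ())) * D.sho (Pi.single j t)) m := by rw [map_mul]; rfl
    _ = ρ (D.sho (Pi.single j t)) (ρ (D.sho (Pi.single i (r ()))) (ρ (D.rad R) m)) := by
        rw [h1, map_mul, map_mul]; rfl
    _ = _ := by
        have h4 : ρ (D.sho (Pi.single i (r ()))) m = (eps F (a ⬝ᵥ r) : ℂ) • m := hma r
        rw [hRad, map_smul, h4, map_smul, map_smul, smul_smul, ← AddChar.map_add_eq_mul]
        congr 2
        simp only [dotProduct, Finset.univ_unique, Finset.sum_singleton, Pi.add_apply]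
        have : (default : Unit) = () := rfl
        rw [this]
        ring

/-- all `sho (F e_i)`-weight parts of `M_v` have the same dimension when `v_ji ≠ v_ij` -/
theorem finrank_wt_inf_shoI (v : Fin n × Fin n → F) (i j : Fin n)
    (hκ : v (j, i) - v (i, j) ≠ 0) (a : Unit → F) :
    finrank ℂ ↥(wt ρ D.toSiegel.radv v ⊓ wt ρ (shoI D i) a) =
      finrank ℂ ↥(wt ρ D.toSiegel.radv v ⊓ wt ρ (shoI D i) 0) := by
  have key : ∀ (a : Unit → F) (t : F),
      finrank ℂ ↥(wt ρ D.toSiegel.radv v ⊓ wt ρ (shoI D i) a) ≤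
        finrank ℂ ↥(wt ρ D.toSiegel.radv v ⊓
          wt ρ (shoI D i) (a + fun _ => t * (v (j, i) - v (i, j)))) := by
    intro a t
    rw [← finrank_map_rho ρ (D.sho (Pi.single j t))]
    apply Submodule.finrank_mono
    rintro _ ⟨m, hm, rfl⟩
    exact sho_map_wt D ρ v i j t a m hm
  apply le_antisymm
  · have h := key a (-(a ()) / (v (j, i) - v (i, j)))
    have h0 : (a + fun _ => -(a ()) / (v (j, i) - v (i, j)) * (v (j, i) - v (i, j))) = 0 := by
      funext u
      cases u
      simp [div_mul_cancel₀ _ hκ]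
    rwa [h0] at h
  · have h := key 0 (a () / (v (j, i) - v (i, j)))
    have h0 : ((0 : Unit → F) + fun _ => a () / (v (j, i) - v (i, j)) * (v (j, i) - v (i, j)))
        = a := by
      funext u
      cases u
      simp [div_mul_cancel₀ _ hκ]
    rwa [h0] at h

/-- for an occurring weight `v` with `v (i, j) ≠ 0` (odd characteristic) `v_ji - v_ij ≠ 0` -/
theorem sub_ne_zero_of_wt_ne_bot (hchar : (2 : F) ≠ 0) (v : Fin n × Fin n → F) (i j : Fin n)
    (hij : v (i, j) ≠ 0) (hW : wt ρ D.toSiegel.radv v ≠ ⊥) : v (j, i) - v (i, j) ≠ 0 := by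
  have halt := isAltM_of_wt_ne_bot D.toSiegel ρ v hW
  have h1 : v (j, i) = - v (i, j) := halt.2 i j
  rw [h1]
  intro h
  have h2 : (2 : F) * v (i, j) = 0 := by linear_combination -h
  rcases mul_eq_zero.mp h2 with h3 | h3
  · exact hchar h3
  · exact hij h3

theorem shoI_mem_wt (v : Fin n × Fin n → F) (i : Fin n) (r : Unit → F) (m : M)
    (hm : m ∈ wt ρ D.toSiegel.radv v) : ρ (shoI D i r) m ∈ wt ρ D.toSiegel.radv v :=
  sho_mem_wt D ρ v _ m hm

/-- H2 (equidistribution): on `M_v`, `v (i, j) ≠ 0`, the `q` eigenspaces of the short root group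
`sho (F e_i)` are permuted transitively by `sho (F e_j)`; the fixed space is one of them. -/
theorem card_mul_finrank_wt_inf_shoFix (hchar : (2 : F) ≠ 0) (v : Fin n × Fin n → F) (i j : Fin n)
    (hij : v (i, j) ≠ 0) :
    Fintype.card F * finrank ℂ ↥(wt ρ D.toSiegel.radv v ⊓ shoFix D ρ i) =
      finrank ℂ ↥(wt ρ D.toSiegel.radv v) := by
  by_cases hW : wt ρ D.toSiegel.radv v = ⊥
  · rw [hW, bot_inf_eq]
    simp
  · have hκ := sub_ne_zero_of_wt_ne_bot D ρ hchar v i j hij hW
    rw [finrank_eq_sum_inf_wt ρ (shoI D i) (shoI_add D i) (wt ρ D.toSiegel.radv v)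
      (fun r m hm => shoI_mem_wt D ρ v i r m hm)]
    rw [Finset.sum_congr rfl (fun a _ => finrank_wt_inf_shoI D ρ v i j hκ a)]
    rw [Finset.sum_const, Finset.card_univ, wt_shoI_zero, smul_eq_mul]
    congr 1
    rw [Fintype.card_fun]
    simp

/-- H1: `q` divides the multiplicity of every non-zero weight. -/
theorem card_dvd_finrank_wt (hchar : (2 : F) ≠ 0) (v : Fin n × Fin n → F) (hv : v ≠ 0) :
    Fintype.card F ∣ finrank ℂ ↥(wt ρ D.toSiegel.radv v) := by
  obtain ⟨⟨i, j⟩, hij⟩ : ∃ p, v p ≠ 0 := by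
    by_contra h
    push Not at h
    exact hv (funext h)
  exact ⟨_, (card_mul_finrank_wt_inf_shoFix D ρ hchar v i j hij).symm⟩

end H

end Cfsg.Agent.Lib.Helper24.OOMin
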