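/-
S2345 (minimal degree of `Ω⁺_{2n}(q)`; planner helper27), leaf CON3 `exists_root_set` (helper24):
the set `L` of long root elements of `Ω⁺_{2n}(F)`: it is closed under conjugation, has `Lcount`
elements, and each of its members is conjugate into the Siegel radical.
-/
import Mathlib
import Cfsg.Agent.Lib.Helper27.OPMinDefs
import Cfsg.Agent.Lib.Helper25.Siegel2
import Cfsg.Agent.Lib.Helper10.OPMinCntL

set_option autoImplicit false
set_option linter.unusedSectionVars false
set_option linter.unusedVariables false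

namespace Cfsg.Agent.Lib.Helper24.OPMin

open Matrix Module QuadraticMap Cfsg.Agent.Lib.Helper27.OPMin
  Cfsg.Agent.Lib.Helper25.CD Cfsg.Agent.Lib.Helper25.Siegel Cfsg.Agent.Lib.Helper25.MaxTS

/-! ### conjugates of long root elements (any quadratic form) -/

section conj

variable {ι : Type} [Fintype ι] [DecidableEq ι] {F : Type*} [Field F]
  (Q : QuadraticForm F (ι → F))

/-- `k · sieg(u, v, c) · k⁻¹ = sieg(k u, k v, c)` (the equation inside helper25's `conj_siegG`). -/
theorem conj_siegG_eq (k : ↥(Cfsg.isometryGroup F ⇑Q)) (u v : ι → F) (c : F) (hu : Q u = 0)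
    (hv : Q v = 0) (huv : polar Q u v = 0)
    (hu' : Q (toOG Q k u) = 0) (hv' : Q (toOG Q k v) = 0)
    (huv' : polar Q (toOG Q k u) (toOG Q k v) = 0) :
    k * siegG Q u v c hu hv huv * k⁻¹ =
      siegG Q (toOG Q k u) (toOG Q k v) c hu' hv' huv' := by
  have hk : ∀ x, Q (toOG Q k x) = Q x := toOG_mem_OG Q k
  have hpol : ∀ x y, polar Q (toOG Q k x) (toOG Q k y) = polar Q x y :=
    polar_of_iso Q hk
  apply toOG_injective
  ext1 x
  rw [map_mul, map_mul, map_inv, LinearEquiv.mul_apply, LinearEquiv.mul_apply, toOG_siegG,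
    toOG_siegG]
  unfold siegF
  have h1 : polar Q (toOG Q k u) x = polar Q u ((toOG Q k)⁻¹ x) := by
    have := hpol u ((toOG Q k)⁻¹ x)
    rw [apply_inv_self'] at this
    exact this
  have h2 : polar Q (toOG Q k v) x = polar Q v ((toOG Q k)⁻¹ x) := by
    have := hpol v ((toOG Q k)⁻¹ x)
    rw [apply_inv_self'] at this
    exact this
  rw [h1, h2, map_add, map_smul, map_sub, map_smul, map_smul, apply_inv_self']

end conj

/-! ### the hyperbolic form -/

section plus

variable {F : Type*} [Field F] {n : ℕ}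

/-- the polar vector of the hyperbolic form is the swap of the two halves -/
theorem polarVec_plusQ (u : Fin n ⊕ Fin n → F) :
    Cfsg.polarVec ⇑(plusQ n (F := F)) u = fun j => u (Sum.swap j) := by
  funext j
  unfold Cfsg.polarVec
  have h := polar_plusQ (F := F) n u (Pi.single j 1)
  have h' : QuadraticMap.polar (⇑(plusQ n (F := F))) u (Pi.single j 1) =
      ∑ i, (u (Sum.inl i) * (Pi.single j (1 : F) : Fin n ⊕ Fin n → F) (Sum.inr i) +
        (Pi.single j (1 : F) : Fin n ⊕ Fin n → F) (Sum.inl i) * u (Sum.inr i)) := h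
  rw [h']
  rcases j with k | k
  · simp only [Pi.single_apply, Sum.inl.injEq, reduceCtorEq, if_false, mul_zero, zero_add,
      Sum.swap_inl]
    rw [Finset.sum_eq_single k]
    · simp
    · intro b _ hb
      rw [if_neg hb, zero_mul]
    · intro h0; exact absurd (Finset.mem_univ k) h0
  · simp only [Pi.single_apply, Sum.inr.injEq, reduceCtorEq, if_false, zero_mul, add_zero,
      Sum.swap_inr]
    rw [Finset.sum_eq_single k]
    · simp
    · intro b _ hb
      rw [if_neg hb, mul_zero]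
    · intro h0; exact absurd (Finset.mem_univ k) h0

/-- the entries of a long root element of the hyperbolic form, in terms of the bivector -/
theorem siegelMatrix_plusQ_apply (u v : Fin n ⊕ Fin n → F) (c : F) (i j : Fin n ⊕ Fin n) :
    Cfsg.siegelMatrix ⇑(plusQ n (F := F)) u v c i j =
      (1 : Matrix (Fin n ⊕ Fin n) (Fin n ⊕ Fin n) F) i j -
        c * Cfsg.Agent.Lib.Helper10.OPMinCnt.wedge u v i (Sum.swap j) := by
  unfold Cfsg.siegelMatrix
  rw [polarVec_plusQ, polarVec_plusQ]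
  simp only [Matrix.add_apply, Matrix.smul_apply, Matrix.sub_apply, Matrix.vecMulVec_apply,
    smul_eq_mul, Cfsg.Agent.Lib.Helper10.OPMinCnt.wedge_apply]
  ring

/-- a long root element depends only on the bivector `u ∧ v` -/
theorem siegelMatrix_plusQ_congr (u v u' v' : Fin n ⊕ Fin n → F) (c : F)
    (h : Cfsg.Agent.Lib.Helper10.OPMinCnt.wedge u v = Cfsg.Agent.Lib.Helper10.OPMinCnt.wedge u' v') :
    Cfsg.siegelMatrix ⇑(plusQ n (F := F)) u v c = Cfsg.siegelMatrix ⇑(plusQ n (F := F)) u' v' c := by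
  ext i j
  rw [siegelMatrix_plusQ_apply, siegelMatrix_plusQ_apply, h]

/-- ... and determines it (for `c = 1`) -/
theorem wedge_eq_of_siegelMatrix_plusQ_eq (u v u' v' : Fin n ⊕ Fin n → F)
    (h : Cfsg.siegelMatrix ⇑(plusQ n (F := F)) u v 1 = Cfsg.siegelMatrix ⇑(plusQ n (F := F)) u' v' 1) :
    Cfsg.Agent.Lib.Helper10.OPMinCnt.wedge u v = Cfsg.Agent.Lib.Helper10.OPMinCnt.wedge u' v' := by
  ext i j
  have h1 := congrFun (congrFun h i) (Sum.swap j)
  rw [siegelMatrix_plusQ_apply, siegelMatrix_plusQ_apply, Sum.swap_swap, one_mul, one_mul] at h1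
  exact neg_injective (add_left_cancel (a := (1 : Matrix _ _ F) i (Sum.swap j))
    (by rw [← sub_eq_add_neg, ← sub_eq_add_neg]; exact h1))

/-- the embedding of `F^n` as the totally singular subspace `E = {y = 0}` -/
def embE (a : Fin n → F) : Fin n ⊕ Fin n → F := Sum.elim a 0

theorem plusQ_embE (a : Fin n → F) : plusQ n (F := F) (embE a) = 0 := by
  rw [plusQ_apply]
  unfold Cfsg.quadFormPlus embE
  simp

theorem polar_plusQ_embE (a b : Fin n → F) : polar (plusQ n (F := F)) (embE a) (embE b) = 0 := by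
  rw [polar_plusQ]
  unfold embE
  simp

/-- a long root element with `u, v ∈ E` is an element of the Siegel radical -/
theorem siegelMatrix_embE (a b : Fin n → F) :
    Cfsg.siegelMatrix ⇑(plusQ n (F := F)) (embE a) (embE b) 1 = radMat (vecMulVec b a) := by
  ext i j
  rw [siegelMatrix_plusQ_apply, one_mul, Cfsg.Agent.Lib.Helper10.OPMinCnt.wedge_apply]
  unfold radMat embE
  rcases i with i | i <;> rcases j with j | j
  · simp [Matrix.one_apply]
  · simp [Matrix.vecMulVec_apply]
  · simp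
  · simp [Matrix.one_apply]

end plus

/-! ### moving a totally singular pair into `E` -/

section trans

variable {F : Type*} [Field F] [Fintype F] {n : ℕ}

theorem embE_add (a b : Fin n → F) : embE (a + b) = embE a + embE b := by
  funext j
  rcases j with j | j <;> simp [embE]

theorem embE_smul (c : F) (a : Fin n → F) : embE (c • a) = c • embE a := by
  funext j
  rcases j with j | j <;> simp [embE]

theorem embE_injective : Function.Injective (embE : (Fin n → F) → _) := by
  intro a b h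
  funext i
  have := congrFun h (Sum.inl i)
  simpa [embE] using this

theorem embE_mem_stdE (a : Fin n → F) : embE a ∈ stdE n (F := F) := by
  unfold stdE
  rw [LinearMap.mem_ker]
  funext i
  simp [embE, LinearMap.funLeft_apply]

theorem eq_embE_of_mem_stdE (x : Fin n ⊕ Fin n → F) (hx : x ∈ stdE n (F := F)) :
    x = embE (fun i => x (Sum.inl i)) := by
  unfold stdE at hx
  rw [LinearMap.mem_ker] at hx
  funext j
  rcases j with j | j
  · simp [embE]
  · have := congrFun hx j
    simp only [LinearMap.funLeft_apply, Pi.zero_apply] at this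
    simp [embE, this]

/-- every totally singular independent pair is moved into `E` by an element of `Ω` -/
theorem exists_omega_map_embE (hn : 4 ≤ n) (u v : Fin n ⊕ Fin n → F)
    (huv : LinearIndependent F ![u, v]) (hu : plusQ n (F := F) u = 0) (hv : plusQ n (F := F) v = 0)
    (hp : polar (plusQ n (F := F)) u v = 0) :
    ∃ g : ↥(Cfsg.isometryGroup F ⇑(plusQ n (F := F))), g ∈ Cfsg.Omega F ⇑(plusQ n (F := F)) ∧
      ∃ a b : Fin n → F, LinearIndependent F ![a, b] ∧
        toOG (plusQ n (F := F)) g u = embE a ∧ toOG (plusQ n (F := F)) g v = embE b := by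
  classical
  set Q := plusQ n (F := F) with hQdef
  have hQ : (polarBilin Q).Nondegenerate := plusQ_nondegenerate n
  -- the source plane
  set U : Submodule F (Fin n ⊕ Fin n → F) := Submodule.span F (Set.range ![u, v]) with hU
  have hUrk : finrank F U = 2 := by
    rw [hU, finrank_span_eq_card huv]
    simp
  have hUts : TS Q U := by
    intro x hx
    rw [hU, Submodule.mem_span_range_iff_exists_fun] at hx
    obtain ⟨c, rfl⟩ := hx
    rw [Fin.sum_univ_two]
    show Q (c 0 • u + c 1 • v) = 0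
    rw [QuadraticMap.map_add (⇑Q), QuadraticMap.map_smul, QuadraticMap.map_smul, hu, hv,
      polar_smul_left, polar_smul_right, hp]
    simp
  -- the target plane
  let i0 : Fin n := ⟨0, by omega⟩
  let i1 : Fin n := ⟨1, by omega⟩
  have hi01 : i0 ≠ i1 := by
    intro h
    have := congrArg Fin.val h
    simp [i0, i1] at this
  have hind : LinearIndependent F ![embE (Pi.single i0 (1 : F)), embE (Pi.single i1 (1 : F))] := by
    rw [LinearIndependent.pair_iff]
    intro s t hst
    have h0 := congrFun hst (Sum.inl i0)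
    have h1 := congrFun hst (Sum.inl i1)
    simp only [embE, Pi.add_apply, Pi.smul_apply, Sum.elim_inl, Pi.single_apply, smul_eq_mul,
      Pi.zero_apply] at h0 h1
    rw [if_neg hi01] at h0
    rw [if_neg hi01.symm] at h1
    constructor
    · simpa using h0
    · simpa using h1
  set W : Submodule F (Fin n ⊕ Fin n → F) :=
    Submodule.span F (Set.range ![embE (Pi.single i0 (1 : F)), embE (Pi.single i1 (1 : F))]) with hW
  have hWrk : finrank F W = 2 := by
    rw [hW, finrank_span_eq_card hind]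
    simp
  have hWle : W ≤ stdE n (F := F) := by
    rw [hW, Submodule.span_le]
    rintro x ⟨i, rfl⟩
    fin_cases i
    · exact embE_mem_stdE _
    · exact embE_mem_stdE _
  have hWts : TS Q W := fun x hx => stdE_ts n x (hWle hx)
  obtain ⟨g, hgΩ, hmap⟩ := Cfsg.Agent.Lib.Helper25.Fam.omega_trans_ts Q hQ
    (Or.inr (by simp; omega)) (k := 2) (by simp; omega) hUrk hWrk hUts hWts
  refine ⟨g, hgΩ, ?_⟩
  have hgu : toOG Q g u ∈ stdE n (F := F) := by
    apply hWle
    rw [← hmap]
    refine Submodule.mem_map_of_mem ?_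
    exact Submodule.subset_span ⟨0, rfl⟩
  have hgv : toOG Q g v ∈ stdE n (F := F) := by
    apply hWle
    rw [← hmap]
    refine Submodule.mem_map_of_mem ?_
    exact Submodule.subset_span ⟨1, rfl⟩
  refine ⟨fun i => toOG Q g u (Sum.inl i), fun i => toOG Q g v (Sum.inl i), ?_,
    eq_embE_of_mem_stdE _ hgu, eq_embE_of_mem_stdE _ hgv⟩
  rw [LinearIndependent.pair_iff]
  intro s t hst
  have h1 : embE (s • (fun i => toOG Q g u (Sum.inl i)) + t • fun i => toOG Q g v (Sum.inl i))
      = 0 := by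
    rw [hst]
    funext j
    rcases j with j | j <;> simp [embE]
  rw [embE_add, embE_smul, embE_smul, ← eq_embE_of_mem_stdE _ hgu, ← eq_embE_of_mem_stdE _ hgv,
    ← map_smul, ← map_smul, ← map_add] at h1
  have h2 : s • u + t • v = 0 := by
    have := (toOG Q g).injective (h1.trans (map_zero _).symm)
    exact this
  exact LinearIndependent.pair_iff.mp huv s t h2

end trans

/-! ### the set of long root elements -/

section rootset

variable {F : Type*} [Field F] [Fintype F] {n : ℕ}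

open Cfsg.Agent.Lib.Helper10.OPMinCnt Cfsg.Agent.Lib.Helper10.OPMinCntL

/-- the matrix of an element of `Ω` -/
def omM {q0 : (Fin n ⊕ Fin n → F) → F} (x : ↥(Cfsg.Omega F q0)) :
    Matrix (Fin n ⊕ Fin n) (Fin n ⊕ Fin n) F :=
  ((x : ↥(Cfsg.isometryGroup F q0)) : GL (Fin n ⊕ Fin n) F)

theorem omM_injective {q0 : (Fin n ⊕ Fin n → F) → F} :
    Function.Injective (omM : ↥(Cfsg.Omega F q0) → _) := by
  intro x y h
  exact Subtype.ext (Subtype.ext (Units.ext h))

/-- the long root element `sieg(u, v, 1)` as an element of `Ω` -/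
noncomputable def rootOm (hn : 4 ≤ n) (u v : Fin n ⊕ Fin n → F) (hu : plusQ n (F := F) u = 0)
    (hv : plusQ n (F := F) v = 0) (hp : polar (plusQ n (F := F)) u v = 0) :
    ↥(Cfsg.Omega F ⇑(plusQ n (F := F))) :=
  ⟨siegG (plusQ n (F := F)) u v 1 hu hv hp,
    siegG_mem_omega (plusQ n (F := F)) (plusQ_nondegenerate n) (by simp; omega) u v 1 hu hv hp⟩

theorem omM_rootOm (hn : 4 ≤ n) (u v : Fin n ⊕ Fin n → F) (hu : plusQ n (F := F) u = 0)
    (hv : plusQ n (F := F) v = 0) (hp : polar (plusQ n (F := F)) u v = 0) :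
    omM (rootOm hn u v hu hv hp) = Cfsg.siegelMatrix ⇑(plusQ n (F := F)) u v 1 := rfl

/-- conjugation of a long root element inside `Ω` (any quadratic form) -/
theorem coe_conj_siegel {ι : Type} [Fintype ι] [DecidableEq ι] (Q : QuadraticForm F (ι → F))
    (g y : ↥(Cfsg.Omega F ⇑Q)) (u v : ι → F) (hu : Q u = 0) (hv : Q v = 0)
    (hp : polar Q u v = 0)
    (hy : (((y : ↥(Cfsg.isometryGroup F ⇑Q)) : GL ι F) : Matrix ι ι F) =
      Cfsg.siegelMatrix ⇑Q u v 1) :
    Q (toOG Q g.1 u) = 0 ∧ Q (toOG Q g.1 v) = 0 ∧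
    polar Q (toOG Q g.1 u) (toOG Q g.1 v) = 0 ∧
    ((((g * y * g⁻¹ : ↥(Cfsg.Omega F ⇑Q)) : ↥(Cfsg.isometryGroup F ⇑Q)) : GL ι F) : Matrix ι ι F) =
      Cfsg.siegelMatrix ⇑Q (toOG Q g.1 u) (toOG Q g.1 v) 1 := by
  have hk : ∀ x, Q (toOG Q g.1 x) = Q x := toOG_mem_OG Q g.1
  have hpol : ∀ x y, polar Q (toOG Q g.1 x) (toOG Q g.1 y) = polar Q x y :=
    polar_of_iso Q hk
  have hu' : Q (toOG Q g.1 u) = 0 := by rw [hk, hu]
  have hv' : Q (toOG Q g.1 v) = 0 := by rw [hk, hv]
  have hp' : polar Q (toOG Q g.1 u) (toOG Q g.1 v) = 0 := by rw [hpol, hp]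
  refine ⟨hu', hv', hp', ?_⟩
  have hy1 : y.1 = siegG Q u v 1 hu hv hp := eq_siegG_of_coe Q hu hv hp hy
  have h1 : (g * y * g⁻¹ : ↥(Cfsg.Omega F ⇑Q)).1 = g.1 * y.1 * (g.1)⁻¹ := rfl
  have h2 : (g * y * g⁻¹ : ↥(Cfsg.Omega F ⇑Q)).1 =
      siegG Q (toOG Q g.1 u) (toOG Q g.1 v) 1 hu' hv' hp' := by
    rw [h1, hy1]
    exact conj_siegG_eq Q g.1 u v 1 hu hv hp hu' hv' hp'
  rw [h2]
  rfl

/-- the core of CON3, for the coerced Mathlib form -/
theorem exists_root_set_core (hn : 4 ≤ n) (q0 : (Fin n ⊕ Fin n → F) → F)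
    (h0 : ⇑(plusQ n (F := F)) = q0)
    (D : Siegel F n ↥(Cfsg.Omega F q0)) (hD : ∀ R, omM (D.rad R) = radMat R) :
    ∃ L : Finset ↥(Cfsg.Omega F q0),
      (∀ g y, y ∈ L → g * y * g⁻¹ ∈ L) ∧ L.card = Lcount (Fintype.card F) n ∧
      ∀ y ∈ L, ∃ (g : ↥(Cfsg.Omega F q0)) (a b : Fin n → F),
        LinearIndependent F ![a, b] ∧ g * y * g⁻¹ = D.rad (vecMulVec a b) := by
  classical
  subst h0
  set Q := plusQ n (F := F) with hQdef
  -- the conversion of `TS2`
  have hT : ∀ p : IPair F (Fin n ⊕ Fin n), TS2 n F p →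
      Q p.1.1 = 0 ∧ Q p.1.2 = 0 ∧ polar Q p.1.1 p.1.2 = 0 := by
    rintro p ⟨h1, h2, h3⟩
    refine ⟨by rw [plusQ_apply]; exact h1, by rw [plusQ_apply]; exact h2, ?_⟩
    rw [polar_plusQ]
    exact h3
  have hT' : ∀ u v : Fin n ⊕ Fin n → F, Q u = 0 → Q v = 0 → polar Q u v = 0 →
      Cfsg.quadFormPlus n F u = 0 ∧ Cfsg.quadFormPlus n F v = 0 ∧
        Cfsg.Agent.Lib.Helper14.plusPolar n F u v = 0 := by
    intro u v h1 h2 h3
    refine ⟨by rw [← plusQ_apply]; exact h1, by rw [← plusQ_apply]; exact h2, ?_⟩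
    rw [polar_plusQ] at h3
    exact h3
  -- the map `Y ↦ root element`
  let S := rk2Sub (TS2 n F)
  have : Fintype S := Fintype.ofFinite S
  let f : S → ↥(Cfsg.Omega F ⇑Q) := fun Y =>
    rootOm hn (repSub (TS2 n F) Y).1.1 (repSub (TS2 n F) Y).1.2
      (hT _ (repSub_spec (TS2 n F) Y).1).1 (hT _ (repSub_spec (TS2 n F) Y).1).2.1
      (hT _ (repSub_spec (TS2 n F) Y).1).2.2
  have hfM : ∀ Y : S, omM (f Y) =
      Cfsg.siegelMatrix ⇑Q (repSub (TS2 n F) Y).1.1 (repSub (TS2 n F) Y).1.2 1 := fun Y => rfl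
  have hfinj : Function.Injective f := by
    intro Y Y' h
    have h1 : omM (f Y) = omM (f Y') := by rw [h]
    rw [hfM, hfM] at h1
    have h2 := wedge_eq_of_siegelMatrix_plusQ_eq _ _ _ _ h1
    rw [(repSub_spec (TS2 n F) Y).2, (repSub_spec (TS2 n F) Y').2] at h2
    exact Subtype.ext h2
  -- membership in the image
  have hmem : ∀ (y : ↥(Cfsg.Omega F ⇑Q)) (u v : Fin n ⊕ Fin n → F),
      LinearIndependent F ![u, v] → Q u = 0 → Q v = 0 → polar Q u v = 0 →
      omM y = Cfsg.siegelMatrix ⇑Q u v 1 → y ∈ Finset.univ.image f := by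
    intro y u v huv hu hv hp hy
    have hYmem : wedge u v ∈ S := by
      rw [mem_rk2Sub_ts2]
      obtain ⟨h1, h2, h3⟩ := hT' u v hu hv hp
      exact ⟨u, v, huv, h1, h2, h3, rfl⟩
    rw [Finset.mem_image]
    refine ⟨⟨wedge u v, hYmem⟩, Finset.mem_univ _, ?_⟩
    apply omM_injective
    rw [hfM, hy]
    apply siegelMatrix_plusQ_congr
    exact (repSub_spec (TS2 n F) ⟨wedge u v, hYmem⟩).2
  have hmem' : ∀ y ∈ Finset.univ.image f, ∃ u v : Fin n ⊕ Fin n → F,
      LinearIndependent F ![u, v] ∧ Q u = 0 ∧ Q v = 0 ∧ polar Q u v = 0 ∧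
      omM y = Cfsg.siegelMatrix ⇑Q u v 1 := by
    intro y hy
    rw [Finset.mem_image] at hy
    obtain ⟨Y, _, rfl⟩ := hy
    obtain ⟨h1, h2, h3⟩ := hT _ (repSub_spec (TS2 n F) Y).1
    exact ⟨_, _, (repSub (TS2 n F) Y).2, h1, h2, h3, hfM Y⟩
  refine ⟨Finset.univ.image f, ?_, ?_, ?_⟩
  · -- closed under conjugation
    intro g y hy
    obtain ⟨u, v, huv, hu, hv, hp, hyM⟩ := hmem' y hy
    obtain ⟨hu', hv', hp', hM⟩ := coe_conj_siegel Q g y u v hu hv hp hyM
    refine hmem _ _ _ ?_ hu' hv' hp' hM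
    have := huv.map' (toOG Q g.1 : (Fin n ⊕ Fin n → F) →ₗ[F] (Fin n ⊕ Fin n → F))
      (LinearMap.ker_eq_bot.mpr (toOG Q g.1).injective)
    have h3 : ((toOG Q g.1 : (Fin n ⊕ Fin n → F) →ₗ[F] (Fin n ⊕ Fin n → F)) ∘ ![u, v])
        = ![toOG Q g.1 u, toOG Q g.1 v] := by
      funext i
      fin_cases i <;> rfl
    rw [h3] at this
    exact this
  · -- the count
    rw [Finset.card_image_of_injective _ hfinj, Finset.card_univ, Fintype.card_eq_nat_card,
      card_ts2 (F := F) (m := n) (by omega)]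
    unfold Lcount
    congr 1
    ring
  · -- conjugation into the radical
    intro y hy
    obtain ⟨u, v, huv, hu, hv, hp, hyM⟩ := hmem' y hy
    obtain ⟨g, hgΩ, a, b, hab, hga, hgb⟩ := exists_omega_map_embE hn u v huv hu hv hp
    refine ⟨⟨g, hgΩ⟩, b, a, ?_, ?_⟩
    · rw [LinearIndependent.pair_iff] at hab ⊢
      intro s t hst
      have := hab t s (by rw [add_comm]; exact hst)
      exact ⟨this.2, this.1⟩
    · obtain ⟨hu', hv', hp', hM⟩ := coe_conj_siegel Q ⟨g, hgΩ⟩ y u v hu hv hp hyM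
      apply omM_injective
      rw [hD]
      refine Eq.trans hM ?_
      show Cfsg.siegelMatrix ⇑Q (toOG Q g u) (toOG Q g v) 1 = _
      rw [hga, hgb]
      exact siegelMatrix_embE a b

/-- CON3: the set of long root elements. -/
theorem exists_root_set (hn : 4 ≤ n) (hq : 3 < Fintype.card F)
    (D : Siegel F n ↥(Cfsg.Omega F (Cfsg.quadFormPlus n F)))
    (hD : ∀ R, omM (D.rad R) = radMat R) :
    ∃ L : Finset ↥(Cfsg.Omega F (Cfsg.quadFormPlus n F)),
      (∀ g y, y ∈ L → g * y * g⁻¹ ∈ L) ∧ L.card = Lcount (Fintype.card F) n ∧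
      ∀ y ∈ L, ∃ (g : ↥(Cfsg.Omega F (Cfsg.quadFormPlus n F))) (a b : Fin n → F),
        LinearIndependent F ![a, b] ∧ g * y * g⁻¹ = D.rad (vecMulVec a b) :=
  exists_root_set_core hn (Cfsg.quadFormPlus n F) (funext (plusQ_apply n)) D hD

end rootset

end Cfsg.Agent.Lib.Helper24.OPMin
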