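import Mathlib
import Cfsg.Agent.Lib.Helper17.OSubDefs
import Cfsg.Agent.Lib.Helper15.QuadClass
import Cfsg.Agent.Lib.Helper24.OSubB1
import Cfsg.Agent.Lib.Helper6.OSubB

/-!
S5659 leaf B5 (helper24): a rational isotropic vector separating an independent rational pair.
-/

set_option autoImplicit false
set_option linter.unusedSectionVars false
set_option linter.unusedVariables false

namespace Cfsg.Agent.Lib.Helper24.OSubLeaf
open Cfsg Matrix Cfsg.Agent.Lib.Helper5.SpMax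
  Cfsg.Agent.Lib.Helper5.UForm Cfsg.Agent.Lib.Helper5.HermBridge
  Cfsg.Agent.Lib.Helper5.SUGen Cfsg.Agent.Lib.Helper5.SUMax Cfsg.Agent.Lib.Helper5.USub
  Cfsg.Agent.Lib.Helper17.OSub

/-- Pure linear algebra behind B5: in a symmetric bilinear space, given dual vectors `a', b'` of
`a, b` and a hyperbolic pair `z5, z5'` with `z5` orthogonal to `a, b, a', b'`, there is an
isotropic `z` with `B a z = 1`, `B b z = 0`. -/
theorem sing_sep_core {K V : Type*} [Field K] [AddCommGroup V] [Module K V]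
    (B : LinearMap.BilinForm K V) (hB : ∀ u v, B u v = B v u) (h2 : (2 : K) ≠ 0)
    {a b a' b' z5 z5' : V} (h1 : B a a' = 1) (h3 : B b a' = 0) (h4 : B b b' = 1)
    (h5 : B a b' = 0) (h6 : B z5 z5 = 0) (h7 : B z5 a = 0) (h8 : B z5 b = 0) (h9 : B z5 a' = 0)
    (h10 : B z5 b' = 0) (h11 : B z5' z5' = 0) (h12 : B z5 z5' = 1) :
    ∃ z, B z z = 0 ∧ B a z = 1 ∧ B b z = 0 := by
  obtain ⟨s, hs⟩ : ∃ s : K, 2 * s = 1 := ⟨2⁻¹, mul_inv_cancel₀ h2⟩
  set a1 := a' - B a' z5' • z5 with ha1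
  set b1 := b' - B b' z5' • z5 with hb1
  have e1 : B a1 z5 = 0 := by
    simp only [ha1, map_sub, map_smul, LinearMap.sub_apply, LinearMap.smul_apply, smul_eq_mul]
    rw [hB a' z5, h9, h6]; ring
  have e2 : B a1 z5' = 0 := by
    simp only [ha1, map_sub, map_smul, LinearMap.sub_apply, LinearMap.smul_apply, smul_eq_mul]
    rw [h12]; ring
  have e3 : B b1 z5 = 0 := by
    simp only [hb1, map_sub, map_smul, LinearMap.sub_apply, LinearMap.smul_apply, smul_eq_mul]
    rw [hB b' z5, h10, h6]; ring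
  have e4 : B b1 z5' = 0 := by
    simp only [hb1, map_sub, map_smul, LinearMap.sub_apply, LinearMap.smul_apply, smul_eq_mul]
    rw [h12]; ring
  have e5 : B a a1 = 1 := by
    simp only [ha1, map_sub, map_smul, smul_eq_mul]
    rw [h1, hB a z5, h7]; ring
  have e6 : B b a1 = 0 := by
    simp only [ha1, map_sub, map_smul, smul_eq_mul]
    rw [h3, hB b z5, h8]; ring
  have e7 : B a b1 = 0 := by
    simp only [hb1, map_sub, map_smul, smul_eq_mul]
    rw [h5, hB a z5, h7]; ring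
  have e8 : B b b1 = 1 := by
    simp only [hb1, map_sub, map_smul, smul_eq_mul]
    rw [h4, hB b z5, h8]; ring
  clear_value a1 b1
  set u := (1 - B a z5') • a1 + (- B b z5') • b1 with hu
  have e9 : B u z5 = 0 := by
    simp only [hu, map_add, map_smul, LinearMap.add_apply, LinearMap.smul_apply, smul_eq_mul]
    rw [e1, e3]; ring
  have e10 : B u z5' = 0 := by
    simp only [hu, map_add, map_smul, LinearMap.add_apply, LinearMap.smul_apply, smul_eq_mul]
    rw [e2, e4]; ring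
  have e11 : B a u = 1 - B a z5' := by
    simp only [hu, map_add, map_smul, smul_eq_mul]
    rw [e5, e7]; ring
  have e12 : B b u = - B b z5' := by
    simp only [hu, map_add, map_smul, smul_eq_mul]
    rw [e6, e8]; ring
  clear_value u
  refine ⟨z5' + u - (s * B u u) • z5, ?_, ?_, ?_⟩
  · simp only [map_add, map_sub, map_smul, LinearMap.add_apply, LinearMap.sub_apply,
      LinearMap.smul_apply, smul_eq_mul]
    rw [hB z5' u, hB z5 u, hB z5' z5, e9, e10, h11, h12, h6]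
    linear_combination (- B u u) * hs
  · simp only [map_add, map_sub, map_smul, smul_eq_mul]
    rw [e11, hB a z5, h7]; ring
  · simp only [map_add, map_sub, map_smul, smul_eq_mul]
    rw [e12, hB b z5, h8]; ring

variable {F : Type*} [Field F] [Fintype F] {q n : ℕ}

theorem exists_pm_eq {F₀ : Subfield F} {P : GL (Fin n) F} {x : Fin n → F} (hx : IsRat F₀ P x) :
    ∃ u : Fin n → F₀, pm F₀ P u = x :=
  ⟨fun i => ⟨_, hx i⟩, by rw [pm_apply]; exact mul_inv_mulVec P x⟩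

theorem ind_symm {F₀ : Subfield F} {a b : Fin n → F} (h : Ind F₀ a b) : Ind F₀ b a := by
  intro s t hs ht hst
  have := h t s ht hs (by rw [add_comm]; exact hst)
  exact ⟨this.2, this.1⟩

section Rat
variable {hF : Fintype.card F = q ^ 2} {F₀ : Subfield F} {P : GL (Fin n) F}
  (S : Setup hF F₀ P)
include S

theorem ratForm_symm (u v : Fin n → F₀) : ratForm S u v = ratForm S v u :=
  Subtype.ext (S.sym (isRat_pm F₀ P u) (isRat_pm F₀ P v)).symm

theorem ratForm_eq_iff (u v : Fin n → F₀) (c : F₀) :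
    ratForm S u v = c ↔ Cfsg.hermForm n F q (pm F₀ P u) (pm F₀ P v) = (c : F) :=
  ⟨fun h => by rw [← h]; rfl, fun h => Subtype.ext h⟩

/-- B5 with B2 and B3 as hypotheses (exact leaf forms). -/
theorem exists_sing_sep_core (hn : 13 ≤ n)
    (hB2 : ∀ {a b : Fin n → F}, IsRat F₀ P a → IsRat F₀ P b → Ind F₀ a b →
      ∃ p, IsRat F₀ P p ∧ Cfsg.hermForm n F q a p = 1 ∧ Cfsg.hermForm n F q b p = 0)
    (hB3 : ∀ {z : Fin n → F}, RS q F₀ P z →
      ∃ z', RS q F₀ P z' ∧ Cfsg.hermForm n F q z z' = 1)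
    {a b : Fin n → F} (ha : IsRat F₀ P a)
    (hb : IsRat F₀ P b) (hind : Ind F₀ a b) :
    ∃ z, RS q F₀ P z ∧ Cfsg.hermForm n F q b z = 0 ∧ Cfsg.hermForm n F q a z = 1 := by
  obtain ⟨a', ha', h1, h3⟩ := hB2 ha hb hind
  obtain ⟨b', hb', h4, h5⟩ := hB2 hb ha (ind_symm hind)
  obtain ⟨z5, hz5, hperp⟩ := exists_sing_perp S hn ![a, b, a', b', 0]
  obtain ⟨z5', hz5', h12⟩ := hB3 hz5
  have h7 := hperp 0
  have h8 := hperp 1
  have h9 := hperp 2
  have h10 := hperp 3
  simp only [Matrix.cons_val_zero, Matrix.cons_val_one, Matrix.cons_val] at h7 h8 h9 h10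
  have h6 := hz5.2.2
  have h11 := hz5'.2.2
  obtain ⟨ua, rfl⟩ := exists_pm_eq ha
  obtain ⟨ub, rfl⟩ := exists_pm_eq hb
  obtain ⟨ua', rfl⟩ := exists_pm_eq ha'
  obtain ⟨ub', rfl⟩ := exists_pm_eq hb'
  obtain ⟨uz, rfl⟩ := exists_pm_eq hz5.1
  obtain ⟨uz', rfl⟩ := exists_pm_eq hz5'.1
  have h2F : (2 : F₀) ≠ 0 := by
    intro h
    apply S.two_ne_zero
    have := congrArg (fun t : F₀ => (t : F)) h
    push_cast at this
    exact this
  obtain ⟨z, hzz, haz, hbz⟩ := sing_sep_core (ratForm S) (ratForm_symm S) h2F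
    (a := ua) (b := ub) (a' := ua') (b' := ub') (z5 := uz) (z5' := uz')
    ((ratForm_eq_iff S _ _ 1).2 h1) ((ratForm_eq_iff S _ _ 0).2 h3)
    ((ratForm_eq_iff S _ _ 1).2 h4) ((ratForm_eq_iff S _ _ 0).2 h5)
    ((ratForm_eq_iff S _ _ 0).2 h6) ((ratForm_eq_iff S _ _ 0).2 h7)
    ((ratForm_eq_iff S _ _ 0).2 h8) ((ratForm_eq_iff S _ _ 0).2 h9)
    ((ratForm_eq_iff S _ _ 0).2 h10) ((ratForm_eq_iff S _ _ 0).2 h11)
    ((ratForm_eq_iff S _ _ 1).2 h12)
  have haz' := (ratForm_eq_iff S _ _ 1).1 haz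
  refine ⟨pm F₀ P z, ⟨isRat_pm _ _ z, ?_, (ratForm_eq_iff S _ _ 0).1 hzz⟩,
    (ratForm_eq_iff S _ _ 0).1 hbz, haz'⟩
  intro h0
  rw [h0] at haz'
  have hf := herm_unitary (n := n) hF
  rw [u_zero_right hf] at haz'
  exact zero_ne_one haz'

/-- LEAF B5: a rational isotropic vector separating an independent rational pair. -/
theorem exists_sing_sep (hn : 13 ≤ n) {a b : Fin n → F} (ha : IsRat F₀ P a)
    (hb : IsRat F₀ P b) (hind : Ind F₀ a b) :
    ∃ z, RS q F₀ P z ∧ Cfsg.hermForm n F q b z = 0 ∧ Cfsg.hermForm n F q a z = 1 :=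
  exists_sing_sep_core S hn
    (fun ha hb hind => Cfsg.Agent.Lib.Helper6.OSubLeaf.exists_dual S ha hb hind)
    (fun hz => Cfsg.Agent.Lib.Helper6.OSubLeaf.exists_partner S hz) ha hb hind

end Rat

end Cfsg.Agent.Lib.Helper24.OSubLeaf
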