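/-
Helper24 library: orbit-stabilizer and orbit sums for an explicit action function of a finite group.
-/
import Mathlib

set_option autoImplicit false
set_option linter.unusedSectionVars false

namespace Cfsg.Agent.Lib.Helper24.OrbitSum

/-- orbit–stabilizer for an explicit action function -/
theorem card_orbit_mul_card_stab {Γ X : Type*} [Group Γ] [Fintype Γ] [DecidableEq X]
    (act : Γ → X → X) (act_one : ∀ x, act 1 x = x)
    (act_mul : ∀ a b x, act (a * b) x = act a (act b x)) (x : X) :
    (Finset.univ.image (fun γ => act γ x)).card * (Finset.univ.filter (fun γ => act γ x = x)).card =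
      Fintype.card Γ := by
  classical
  have hmaps : ∀ γ ∈ (Finset.univ : Finset Γ), (fun γ => act γ x) γ ∈ Finset.univ.image (fun γ => act γ x) :=
    fun γ _ => Finset.mem_image_of_mem _ (Finset.mem_univ _)
  have h1 := Finset.card_eq_sum_card_fiberwise hmaps
  rw [Finset.card_univ] at h1
  rw [h1]
  have h2 : ∀ y ∈ Finset.univ.image (fun γ => act γ x),
      ((Finset.univ : Finset Γ).filter (fun γ => (fun γ => act γ x) γ = y)).card =
        (Finset.univ.filter (fun γ => act γ x = x)).card := by
    intro y hy
    obtain ⟨δ, -, rfl⟩ := Finset.mem_image.mp hy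
    apply Finset.card_bij (fun γ _ => δ⁻¹ * γ)
    · intro γ hγ
      rw [Finset.mem_filter] at hγ ⊢
      refine ⟨Finset.mem_univ _, ?_⟩
      have : act γ x = act δ x := hγ.2
      rw [act_mul, this, ← act_mul, inv_mul_cancel, act_one]
    · intro a _ b _ h
      exact mul_left_cancel h
    · intro γ hγ
      rw [Finset.mem_filter] at hγ
      refine ⟨δ * γ, ?_, by group⟩
      rw [Finset.mem_filter]
      refine ⟨Finset.mem_univ _, ?_⟩
      show act (δ * γ) x = act δ x
      rw [act_mul, hγ.2]
  rw [Finset.sum_congr rfl h2, Finset.sum_const, smul_eq_mul]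

/-- Sum of an invariant function `Q` over an invariant finite set, where `Q x` is an integer multiple of the order
of the stabilizer of `x`: the sum is an integer multiple of the group order. -/
theorem sum_eq_card_mul_int {Γ X : Type*} [Group Γ] [Fintype Γ] [DecidableEq X]
    (act : Γ → X → X) (act_one : ∀ x, act 1 x = x)
    (act_mul : ∀ a b x, act (a * b) x = act a (act b x))
    (Q : X → ℂ) :
    ∀ (S : Finset X), (∀ γ, ∀ x ∈ S, act γ x ∈ S) → (∀ γ, ∀ x ∈ S, Q (act γ x) = Q x) →
      (∀ x ∈ S, ∃ c : ℤ, Q x = ((Finset.univ.filter (fun γ => act γ x = x)).card : ℂ) * c) →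
      ∃ m : ℤ, ∑ x ∈ S, Q x = (Fintype.card Γ : ℂ) * m := by
  intro S
  induction S using Finset.strongInduction with
  | H S ih =>
    intro hinv hQinv hQ
    rcases S.eq_empty_or_nonempty with rfl | ⟨x, hx⟩
    · exact ⟨0, by simp⟩
    · let O : Finset X := Finset.univ.image (fun γ => act γ x)
      have hOS : O ⊆ S := by
        intro y hy
        obtain ⟨γ, -, rfl⟩ := Finset.mem_image.mp hy
        exact hinv γ x hx
      have hxO : x ∈ O := Finset.mem_image.mpr ⟨1, Finset.mem_univ _, act_one x⟩
      have hO_inv : ∀ γ, ∀ y ∈ O, act γ y ∈ O := by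
        intro γ y hy
        obtain ⟨δ, -, rfl⟩ := Finset.mem_image.mp hy
        exact Finset.mem_image.mpr ⟨γ * δ, Finset.mem_univ _, act_mul γ δ x⟩
      have hsub : S \ O ⊂ S := by
        refine Finset.ssubset_iff_subset_ne.mpr ⟨Finset.sdiff_subset, ?_⟩
        intro h
        have : x ∈ S \ O := by rw [h]; exact hx
        exact (Finset.mem_sdiff.mp this).2 hxO
      obtain ⟨m, hsum⟩ := ih (S \ O) hsub
        (by
          intro γ y hy
          obtain ⟨hyS, hyO⟩ := Finset.mem_sdiff.mp hy
          refine Finset.mem_sdiff.mpr ⟨hinv γ y hyS, ?_⟩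
          intro h
          apply hyO
          have := hO_inv γ⁻¹ _ h
          rwa [← act_mul, inv_mul_cancel, act_one] at this)
        (fun γ y hy => hQinv γ y (Finset.mem_sdiff.mp hy).1)
        (fun y hy => hQ y (Finset.mem_sdiff.mp hy).1)
      obtain ⟨c, hc⟩ := hQ x hx
      refine ⟨c + m, ?_⟩
      rw [← Finset.sum_sdiff hOS, hsum]
      have hconst : ∀ y ∈ O, Q y = Q x := by
        intro y hy
        obtain ⟨γ, -, rfl⟩ := Finset.mem_image.mp hy
        exact hQinv γ x hx
      rw [Finset.sum_congr rfl hconst, Finset.sum_const, nsmul_eq_mul, hc, ← mul_assoc]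
      have := card_orbit_mul_card_stab act act_one act_mul x
      have h3 : ((O.card : ℂ) * ((Finset.univ.filter (fun γ => act γ x = x)).card : ℂ)) =
          (Fintype.card Γ : ℂ) := by exact_mod_cast this
      rw [h3]
      push_cast
      ring

end Cfsg.Agent.Lib.Helper24.OrbitSum
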