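/- helper24: S0977 (order 4320) support file Ord4320Ar: the arithmetic of the four exceptional characters -/
import Mathlib

set_option autoImplicit false

namespace Cfsg.Agent.Lib.Helper24.Ord4320

theorem sq_bound8 (c : ℤ) (h : c ^ 2 ≤ 64) : -8 ≤ c ∧ c ≤ 8 := by
  constructor <;> nlinarith

theorem z_bound65 (z : ℤ) (h0 : 0 ≤ z) (h : z ^ 2 ≤ 4320) : z ≤ 65 := by
  nlinarith

/-- pattern `(-9, -4, -4, 16)` -/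
theorem pat1 (c1 c2 c3 c4 z : ℤ) (h1 : (4 : ℤ) ∣ 9 - c1) (h2 : (4 : ℤ) ∣ 4 - c2) (h3 : (4 : ℤ) ∣ 4 - c3)
    (h4 : (4 : ℤ) ∣ 16 - c4) (hE3 : 1 + c1 ^ 2 + c2 ^ 2 + c3 ^ 2 + c4 ^ 2 ≤ z)
    (hE5 : 1 - c1 - c2 - c3 + c4 = 0)
    (hq : (z : ℚ) ^ 2 = 864 - 96 * (c1 : ℚ) ^ 2 - 216 * (c2 : ℚ) ^ 2 - 216 * (c3 : ℚ) ^ 2 + 54 * (c4 : ℚ) ^ 2)
    (hz : z ^ 2 ≤ 4320) (hz0 : 0 ≤ z) : False := by
  have hz2 : z ^ 2 = 864 - 96 * c1 ^ 2 - 216 * c2 ^ 2 - 216 * c3 ^ 2 + 54 * c4 ^ 2 := by exact_mod_cast hq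
  have hz65 := z_bound65 z hz0 hz
  obtain ⟨hl1, hu1⟩ := sq_bound8 c1 (by nlinarith [sq_nonneg c2, sq_nonneg c3, sq_nonneg c4])
  obtain ⟨hl2, hu2⟩ := sq_bound8 c2 (by nlinarith [sq_nonneg c1, sq_nonneg c3, sq_nonneg c4])
  obtain ⟨hl3, hu3⟩ := sq_bound8 c3 (by nlinarith [sq_nonneg c2, sq_nonneg c1, sq_nonneg c4])
  obtain ⟨hl4, hu4⟩ := sq_bound8 c4 (by nlinarith [sq_nonneg c2, sq_nonneg c3, sq_nonneg c1])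
  interval_cases c1 <;> try omega
  all_goals (interval_cases c2 <;> try omega)
  all_goals (interval_cases c3 <;> try omega)
  all_goals (interval_cases c4 <;> try omega)
  all_goals (interval_cases z <;> omega)

/-- pattern `(-24, -9, -4, 36)` -/
theorem pat2 (c1 c2 c3 c4 z : ℤ) (h1 : (4 : ℤ) ∣ 24 - c1) (h2 : (4 : ℤ) ∣ 9 - c2) (h3 : (4 : ℤ) ∣ 4 - c3)
    (h4 : (4 : ℤ) ∣ 36 - c4) (hE3 : 1 + c1 ^ 2 + c2 ^ 2 + c3 ^ 2 + c4 ^ 2 ≤ z)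
    (hE5 : 1 - c1 - c2 - c3 + c4 = 0)
    (hq : (z : ℚ) ^ 2 = 864 - 36 * (c1 : ℚ) ^ 2 - 96 * (c2 : ℚ) ^ 2 - 216 * (c3 : ℚ) ^ 2 + 24 * (c4 : ℚ) ^ 2)
    (hz : z ^ 2 ≤ 4320) (hz0 : 0 ≤ z) : False := by
  have hz2 : z ^ 2 = 864 - 36 * c1 ^ 2 - 96 * c2 ^ 2 - 216 * c3 ^ 2 + 24 * c4 ^ 2 := by exact_mod_cast hq
  have hz65 := z_bound65 z hz0 hz
  obtain ⟨hl1, hu1⟩ := sq_bound8 c1 (by nlinarith [sq_nonneg c2, sq_nonneg c3, sq_nonneg c4])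
  obtain ⟨hl2, hu2⟩ := sq_bound8 c2 (by nlinarith [sq_nonneg c1, sq_nonneg c3, sq_nonneg c4])
  obtain ⟨hl3, hu3⟩ := sq_bound8 c3 (by nlinarith [sq_nonneg c2, sq_nonneg c1, sq_nonneg c4])
  obtain ⟨hl4, hu4⟩ := sq_bound8 c4 (by nlinarith [sq_nonneg c2, sq_nonneg c3, sq_nonneg c1])
  interval_cases c1 <;> try omega
  all_goals (interval_cases c2 <;> try omega)
  all_goals (interval_cases c3 <;> try omega)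
  all_goals (interval_cases c4 <;> try omega)
  all_goals (interval_cases z <;> omega)

/-- pattern `(-9, -4, 6, 6)` -/
theorem pat3 (c1 c2 c3 c4 z : ℤ) (h1 : (4 : ℤ) ∣ 9 - c1) (h2 : (4 : ℤ) ∣ 4 - c2) (h3 : (4 : ℤ) ∣ 6 - c3)
    (h4 : (4 : ℤ) ∣ 6 - c4) (hE3 : 1 + c1 ^ 2 + c2 ^ 2 + c3 ^ 2 + c4 ^ 2 ≤ z)
    (hE5 : 1 - c1 - c2 + c3 + c4 = 0)
    (hq : (z : ℚ) ^ 2 = 864 - 96 * (c1 : ℚ) ^ 2 - 216 * (c2 : ℚ) ^ 2 + 144 * (c3 : ℚ) ^ 2 + 144 * (c4 : ℚ) ^ 2)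
    (hz : z ^ 2 ≤ 4320) (hz0 : 0 ≤ z) : False := by
  have hz2 : z ^ 2 = 864 - 96 * c1 ^ 2 - 216 * c2 ^ 2 + 144 * c3 ^ 2 + 144 * c4 ^ 2 := by exact_mod_cast hq
  have hz65 := z_bound65 z hz0 hz
  obtain ⟨hl1, hu1⟩ := sq_bound8 c1 (by nlinarith [sq_nonneg c2, sq_nonneg c3, sq_nonneg c4])
  obtain ⟨hl2, hu2⟩ := sq_bound8 c2 (by nlinarith [sq_nonneg c1, sq_nonneg c3, sq_nonneg c4])
  obtain ⟨hl3, hu3⟩ := sq_bound8 c3 (by nlinarith [sq_nonneg c2, sq_nonneg c1, sq_nonneg c4])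
  obtain ⟨hl4, hu4⟩ := sq_bound8 c4 (by nlinarith [sq_nonneg c2, sq_nonneg c3, sq_nonneg c1])
  interval_cases c1 <;> try omega
  all_goals (interval_cases c2 <;> try omega)
  all_goals (interval_cases c3 <;> try omega)
  all_goals (interval_cases c4 <;> try omega)
  all_goals (interval_cases z <;> omega)

/-- pattern `(-24, -9, 16, 16)` -/
theorem pat4 (c1 c2 c3 c4 z : ℤ) (h1 : (4 : ℤ) ∣ 24 - c1) (h2 : (4 : ℤ) ∣ 9 - c2) (h3 : (4 : ℤ) ∣ 16 - c3)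
    (h4 : (4 : ℤ) ∣ 16 - c4) (hE3 : 1 + c1 ^ 2 + c2 ^ 2 + c3 ^ 2 + c4 ^ 2 ≤ z)
    (hE5 : 1 - c1 - c2 + c3 + c4 = 0)
    (hq : (z : ℚ) ^ 2 = 864 - 36 * (c1 : ℚ) ^ 2 - 96 * (c2 : ℚ) ^ 2 + 54 * (c3 : ℚ) ^ 2 + 54 * (c4 : ℚ) ^ 2)
    (hz : z ^ 2 ≤ 4320) (hz0 : 0 ≤ z) : False := by
  have hz2 : z ^ 2 = 864 - 36 * c1 ^ 2 - 96 * c2 ^ 2 + 54 * c3 ^ 2 + 54 * c4 ^ 2 := by exact_mod_cast hq
  have hz65 := z_bound65 z hz0 hz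
  obtain ⟨hl1, hu1⟩ := sq_bound8 c1 (by nlinarith [sq_nonneg c2, sq_nonneg c3, sq_nonneg c4])
  obtain ⟨hl2, hu2⟩ := sq_bound8 c2 (by nlinarith [sq_nonneg c1, sq_nonneg c3, sq_nonneg c4])
  obtain ⟨hl3, hu3⟩ := sq_bound8 c3 (by nlinarith [sq_nonneg c2, sq_nonneg c1, sq_nonneg c4])
  obtain ⟨hl4, hu4⟩ := sq_bound8 c4 (by nlinarith [sq_nonneg c2, sq_nonneg c3, sq_nonneg c1])
  interval_cases c1 <;> try omega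
  all_goals (interval_cases c2 <;> try omega)
  all_goals (interval_cases c3 <;> try omega)
  all_goals (interval_cases c4 <;> try omega)
  all_goals (interval_cases z <;> omega)

theorem deg_opt (a f : ℤ) (ha : a = 1 ∨ a = -1) (hf : 2 ≤ f) (hf65 : f ≤ 65) (hd : f ∣ 4320)
    (h5 : (5 : ℤ) ∣ f - a) :
    (a = 1 ∧ (f = 6 ∨ f = 16 ∨ f = 36)) ∨ (a = -1 ∧ (f = 4 ∨ f = 9 ∨ f = 24 ∨ f = 54)) := by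
  rcases ha with rfl | rfl
  · left
    refine ⟨rfl, ?_⟩
    interval_cases f <;> omega
  · right
    refine ⟨rfl, ?_⟩
    interval_cases f <;> omega

theorem f_bound65 (f g h k : ℤ) (hs : f ^ 2 + g ^ 2 + h ^ 2 + k ^ 2 ≤ 4319) : f ≤ 65 := by
  nlinarith [sq_nonneg g, sq_nonneg h, sq_nonneg k]

/-- the arithmetic core for four exceptional characters, ordered by signed degree -/
theorem arith_four (a1 a2 a3 a4 c1 c2 c3 c4 f1 f2 f3 f4 z : ℤ)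
    (ha1 : a1 = 1 ∨ a1 = -1) (ha2 : a2 = 1 ∨ a2 = -1) (ha3 : a3 = 1 ∨ a3 = -1) (ha4 : a4 = 1 ∨ a4 = -1)
    (hf1 : 2 ≤ f1) (hf2 : 2 ≤ f2) (hf3 : 2 ≤ f3) (hf4 : 2 ≤ f4)
    (hd1 : f1 ∣ 4320) (hd2 : f2 ∣ 4320) (hd3 : f3 ∣ 4320) (hd4 : f4 ∣ 4320)
    (h51 : (5 : ℤ) ∣ f1 - a1) (h52 : (5 : ℤ) ∣ f2 - a2) (h53 : (5 : ℤ) ∣ f3 - a3) (h54 : (5 : ℤ) ∣ f4 - a4)
    (h41 : (4 : ℤ) ∣ f1 - c1) (h42 : (4 : ℤ) ∣ f2 - c2) (h43 : (4 : ℤ) ∣ f3 - c3) (h44 : (4 : ℤ) ∣ f4 - c4)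
    (hsq : f1 ^ 2 + f2 ^ 2 + f3 ^ 2 + f4 ^ 2 ≤ 4319)
    (hs12 : a1 * f1 ≤ a2 * f2) (hs23 : a2 * f2 ≤ a3 * f3) (hs34 : a3 * f3 ≤ a4 * f4)
    (hE2 : 1 + f1 * a1 + f2 * a2 + f3 * a3 + f4 * a4 = 0)
    (hE3 : 1 + c1 ^ 2 + c2 ^ 2 + c3 ^ 2 + c4 ^ 2 ≤ z)
    (hE5 : 1 + a1 * c1 + a2 * c2 + a3 * c3 + a4 * c4 = 0)
    (hE4 : (1 : ℚ) + (c1 : ℚ) ^ 2 * (a1 : ℚ) / (f1 : ℚ) + (c2 : ℚ) ^ 2 * (a2 : ℚ) / (f2 : ℚ) +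
      (c3 : ℚ) ^ 2 * (a3 : ℚ) / (f3 : ℚ) + (c4 : ℚ) ^ 2 * (a4 : ℚ) / (f4 : ℚ) = 5 * (z : ℚ) ^ 2 / 4320)
    (hz : z ^ 2 ≤ 4320) (hz0 : 0 ≤ z) : False := by
  have hb1 := f_bound65 f1 f2 f3 f4 hsq
  have hb2 := f_bound65 f2 f1 f3 f4 (by linarith)
  have hb3 := f_bound65 f3 f1 f2 f4 (by linarith)
  have hb4 := f_bound65 f4 f1 f2 f3 (by linarith)
  have o1 := deg_opt a1 f1 ha1 hf1 hb1 hd1 h51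
  have o2 := deg_opt a2 f2 ha2 hf2 hb2 hd2 h52
  have o3 := deg_opt a3 f3 ha3 hf3 hb3 hd3 h53
  have o4 := deg_opt a4 f4 ha4 hf4 hb4 hd4 h54
  have hpat : (a1 = -1 ∧ f1 = 9 ∧ a2 = -1 ∧ f2 = 4 ∧ a3 = -1 ∧ f3 = 4 ∧ a4 = 1 ∧ f4 = 16) ∨
      (a1 = -1 ∧ f1 = 24 ∧ a2 = -1 ∧ f2 = 9 ∧ a3 = -1 ∧ f3 = 4 ∧ a4 = 1 ∧ f4 = 36) ∨
      (a1 = -1 ∧ f1 = 9 ∧ a2 = -1 ∧ f2 = 4 ∧ a3 = 1 ∧ f3 = 6 ∧ a4 = 1 ∧ f4 = 6) ∨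
      (a1 = -1 ∧ f1 = 24 ∧ a2 = -1 ∧ f2 = 9 ∧ a3 = 1 ∧ f3 = 16 ∧ a4 = 1 ∧ f4 = 16) := by
    clear hE4 hE3 hE5 h41 h42 h43 h44 hd1 hd2 hd3 hd4 h51 h52 h53 h54 hsq hz
    rcases o1 with ⟨rfl, (rfl | rfl | rfl)⟩ | ⟨rfl, (rfl | rfl | rfl | rfl)⟩ <;>
    rcases o2 with ⟨rfl, (rfl | rfl | rfl)⟩ | ⟨rfl, (rfl | rfl | rfl | rfl)⟩ <;>
    rcases o3 with ⟨rfl, (rfl | rfl | rfl)⟩ | ⟨rfl, (rfl | rfl | rfl | rfl)⟩ <;>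
    rcases o4 with ⟨rfl, (rfl | rfl | rfl)⟩ | ⟨rfl, (rfl | rfl | rfl | rfl)⟩ <;>
    omega
  rcases hpat with ⟨rfl, rfl, rfl, rfl, rfl, rfl, rfl, rfl⟩ | ⟨rfl, rfl, rfl, rfl, rfl, rfl, rfl, rfl⟩ |
    ⟨rfl, rfl, rfl, rfl, rfl, rfl, rfl, rfl⟩ | ⟨rfl, rfl, rfl, rfl, rfl, rfl, rfl, rfl⟩
  · refine pat1 c1 c2 c3 c4 z h41 h42 h43 h44 hE3 (by linarith) ?_ hz hz0
    push_cast at hE4
    linarith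
  · refine pat2 c1 c2 c3 c4 z h41 h42 h43 h44 hE3 (by linarith) ?_ hz hz0
    push_cast at hE4
    linarith
  · refine pat3 c1 c2 c3 c4 z h41 h42 h43 h44 hE3 (by linarith) ?_ hz hz0
    push_cast at hE4
    linarith
  · refine pat4 c1 c2 c3 c4 z h41 h42 h43 h44 hE3 (by linarith) ?_ hz hz0
    push_cast at hE4
    linarith

end Cfsg.Agent.Lib.Helper24.Ord4320
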