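/- helper24: S0977 (order 4320) support file Ord4320B: 16 Sylow 5-subgroups; 216 with |C(P)| = 10 -/
import Mathlib
import Cfsg.Agent.Lib.Helper24.Ord4320A
import Cfsg.Agent.Lib.Helper19.Derangement

set_option autoImplicit false
set_option linter.unusedSectionVars false
set_option linter.style.haveILetI false

namespace Cfsg.Agent.Lib.Helper24.Ord4320

open MulAction Cfsg.Agent.Lib.Helper7 Cfsg.Agent.Lib.Helper8.SmallSimple Cfsg.Agent.Lib.Helper8.SmallSimple2

variable {G : Type*} [Group G] [Finite G]

/-- the case of 16 Sylow 5-subgroups -/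
theorem case16 [IsSimpleGroup G] (hG : Nat.card G = 4320) [Fact (Nat.Prime 5)] (P : Sylow 5 G)
    (hP : Nat.card ↥(P : Subgroup G) = 5)
    (hNc : Nat.card ↥(Subgroup.normalizer ((P : Subgroup G) : Set G)) = 270)
    (hCc : Nat.card ↥(Subgroup.centralizer ((P : Subgroup G) : Set G)) = 135) : False := by
  classical
  haveI : Fact (Nat.Prime 3) := ⟨by norm_num⟩
  set N := Subgroup.normalizer ((P : Subgroup G) : Set G) with hN
  set C := Subgroup.centralizer ((P : Subgroup G) : Set G) with hC
  have hidx : N.index = 16 := by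
    have := N.card_mul_index
    rw [hNc, hG] at this
    omega
  have hNtop : N ≠ ⊤ := by
    intro h
    rw [h, Subgroup.index_top] at hidx
    omega
  have hCN : C ≤ N := Subgroup.centralizer_le_normalizer _
  obtain ⟨T0, hT0⟩ := Sylow.exists_subgroup_card_pow_prime (G := ↥C) 3 (n := 3)
    (by rw [hCc]; norm_num)
  set T : Subgroup G := T0.map C.subtype with hT
  have hTc : Nat.card ↥T = 3 ^ 3 := by
    rw [hT, Subgroup.card_map_of_injective C.subtype_injective]
    exact hT0
  have hTC : T ≤ C := by
    rintro _ ⟨c, -, rfl⟩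
    exact c.2
  have hTp : IsPGroup 3 T := IsPGroup.of_card hTc
  have hcardX : Nat.card (G ⧸ N) = 16 := by rw [← hidx, Subgroup.index]
  have hfix : ∀ g ∈ T, g ≠ 1 → Nat.card (fixedBy (G ⧸ N) g) = 1 := by
    intro g hg hg1
    have h5 := card_fixedBy_modEq_one P hP g (hTC hg)
    rw [← hN] at h5
    have hgp : IsPGroup 3 (Subgroup.zpowers g) :=
      hTp.to_le (by rw [Subgroup.zpowers_le]; exact hg)
    have h3 := card_modEq_card_fixedBy (X := G ⧸ N) g hgp
    rw [hcardX] at h3
    have hle : Nat.card (fixedBy (G ⧸ N) g) ≤ 16 := by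
      rw [← hcardX]
      exact Nat.card_le_card_of_injective _ Subtype.val_injective
    have hne : Nat.card (fixedBy (G ⧸ N) g) ≠ 16 := by
      intro h
      apply hg1
      apply eq_one_of_smul_eq N hNtop
      apply smul_eq_of_card_fixedBy
      rw [h, hcardX]
    unfold Nat.ModEq at h5 h3
    omega
  haveI : Fintype ↥T := Fintype.ofFinite _
  have hB := Cfsg.Agent.Lib.Helper19.burnside_natCard (G := ↥T) (Ω := G ⧸ N)
  have hsum : ∑ g : ↥T, Nat.card (fixedBy (G ⧸ N) g) = 42 := by
    have h1 : ∀ g : ↥T, Nat.card (fixedBy (G ⧸ N) g) = 1 + (if g = 1 then 15 else 0) := by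
      intro g
      by_cases hg : g = 1
      · subst hg
        rw [if_pos rfl]
        have : Nat.card (fixedBy (G ⧸ N) (1 : ↥T)) = Nat.card (G ⧸ N) := by
          apply Nat.card_congr
          exact
            { toFun := fun a => a.1
              invFun := fun a => ⟨a, by rw [mem_fixedBy, one_smul]⟩
              left_inv := fun a => rfl
              right_inv := fun a => rfl }
        rw [this, hcardX]
      · rw [if_neg hg, add_zero]
        have hg' : (g : G) ≠ 1 := fun h => hg (Subtype.ext h)
        exact hfix (g : G) g.2 hg'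
    rw [Finset.sum_congr rfl (fun g _ => h1 g), Finset.sum_add_distrib, Finset.sum_ite_eq']
    simp only [Finset.sum_const, Finset.card_univ, smul_eq_mul, mul_one, Finset.mem_univ, if_true]
    rw [← Nat.card_eq_fintype_card, hTc]
    norm_num
  rw [hsum, hTc] at hB
  omega

/-- the case of 216 Sylow 5-subgroups with `|C(P)| = 10` -/
theorem case216A [IsSimpleGroup G] (hG : Nat.card G = 4320)
    [Fact (Nat.Prime 5)] (P : Sylow 5 G)
    (hP : Nat.card ↥(P : Subgroup G) = 5)
    (hNc : Nat.card ↥(Subgroup.normalizer ((P : Subgroup G) : Set G)) = 20)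
    (hCc : Nat.card ↥(Subgroup.centralizer ((P : Subgroup G) : Set G)) = 10) : False := by
  set N := Subgroup.normalizer ((P : Subgroup G) : Set G) with hN
  set C := Subgroup.centralizer ((P : Subgroup G) : Set G) with hC
  have hCN : C ≤ N := Subgroup.centralizer_le_normalizer _
  have hG2 : 2 < Nat.card G := by rw [hG]; norm_num
  have hidx : N.index = 216 := by
    have := N.card_mul_index
    rw [hNc, hG] at this
    omega
  have hNtop : N ≠ ⊤ := by
    intro h
    rw [h, Subgroup.index_top] at hidx
    omega
  obtain ⟨t, htC, ht⟩ := exists_invol_mem C (by rw [hCc]; norm_num)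
  have huniq : ∀ s ∈ C, orderOf s = 2 → s = t := fun s hs hs2 =>
    invol_unique_of_card (p := 5) (by norm_num) (P : Subgroup G) hP (by rw [← hC, hCc]) s t hs htC
      hs2 ht
  set M := Subgroup.centralizer ({t} : Set G) with hMdef
  have hNM : N ≤ M := by
    intro n hn
    have h1 : n * t * n⁻¹ ∈ C := conj_mem_centralizer_of_mem_normalizer (P : Subgroup G) hn htC
    have h2 : orderOf (n * t * n⁻¹) = 2 := by
      have := MulEquiv.orderOf_eq (MulAut.conj n) t
      rw [MulAut.conj_apply] at this
      rw [this, ht]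
    have h3 := huniq _ h1 h2
    rw [hMdef, Subgroup.mem_centralizer_singleton_iff]
    calc n * t = n * t * n⁻¹ * n := by group
      _ = t * n := by rw [h3]
  have hPM : (P : Subgroup G) ≤ M := (Subgroup.le_normalizer (H := (P : Subgroup G))).trans hNM
  have hcount := card_sylow_subgroup_mul P M hPM
  rw [← hN, inf_eq_left.mpr hNM, hNc] at hcount
  have hmodM : Nat.card (Sylow 5 ↥M) % 5 = 1 := by
    have := card_sylow_modEq_one 5 ↥M
    unfold Nat.ModEq at this
    omega
  have hMdvd : Nat.card ↥M ∣ 4320 := by
    rw [← hG]; exact Subgroup.card_subgroup_dvd_card M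
  obtain ⟨h1, ⟨s, ⟨k4, hk4⟩, hs⟩, h3⟩ := invol_fix_data hG2 P hP hNtop t htC ht
  rw [← hN] at h1 hs h3
  rw [hidx] at hs h3
  have hformula := card_fixedBy_mul_card N t
  rw [hNc, ← hMdef, ← hcount] at hformula
  set a := Nat.card (Sylow 5 ↥M) with ha
  set k := Nat.card {s : G // s ∈ N ∧ IsConj t s} with hk
  set fx := Nat.card (fixedBy (G ⧸ N) t) with hfx
  have hfk : fx = k * a := by
    have : fx * 20 = (k * a) * 20 := by rw [hformula]; ring
    exact Nat.eq_of_mul_eq_mul_right (by norm_num) this
  have hle := card_conj_invol_le (p := 5) (P : Subgroup G) hP t ht huniq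
  rw [← hN, ← hC, ← hk, hCc] at hle
  -- possible values of a
  have hadvd : a ∣ 216 := by
    have h216 : a * 20 ∣ 216 * 20 := by rw [hcount]; exact hMdvd
    exact Nat.dvd_of_mul_dvd_mul_right (by norm_num) h216
  have hale : a ≤ 216 := Nat.le_of_dvd (by norm_num) hadvd
  have hacases : a = 1 ∨ a = 6 ∨ a = 36 ∨ a = 216 := by
    have key : ∀ b : ℕ, b ≤ 216 → b ∣ 216 → b % 5 = 1 → b = 1 ∨ b = 6 ∨ b = 36 ∨ b = 216 := by
      intro b hb1 hb2 hb3
      interval_cases b <;> omega
    exact key a hale hadvd hmodM
  have hMtop : M ≠ ⊤ := by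
    intro h
    have hcen : t ∈ Subgroup.center G := by
      rw [Subgroup.mem_center_iff]
      intro g
      have : g ∈ M := by rw [h]; trivial
      exact Subgroup.mem_centralizer_singleton_iff.mp this
    have hnc : ¬ IsMulCommutative G := by
      apply not_comm_of_card_not_prime
      rw [hG]; norm_num
    rw [center_eq_bot hnc, Subgroup.mem_bot] at hcen
    rw [hcen, orderOf_one] at ht
    omega
  rcases hacases with h | h | h | h
  · -- a = 1 : fx = k ≤ 11 but fx ≥ 16
    rw [h] at hfk
    omega
  · -- a = 6 : k = 6, |M| = 120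
    rw [h] at hfk hcount
    have hk6 : k = 6 := by omega
    -- a second conjugate of t in N
    have hex : ∃ w : G, w ∈ N ∧ IsConj t w ∧ w ≠ t := by
      by_contra hcon
      push Not at hcon
      have hsub : Subsingleton {s : G // s ∈ N ∧ IsConj t s} := by
        constructor
        intro u v
        apply Subtype.ext
        rw [hcon u.1 u.2.1 u.2.2, hcon v.1 v.2.1 v.2.2]
      have : k ≤ 1 := Finite.card_le_one_iff_subsingleton.mpr hsub
      omega
    obtain ⟨w, hwN, hwt, hwne⟩ := hex
    have hwo : orderOf w = 2 := by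
      obtain ⟨c, rfl⟩ := isConj_iff.mp hwt
      have := MulEquiv.orderOf_eq (MulAut.conj c) t
      rw [MulAut.conj_apply] at this
      rw [this, ht]
    have hww : w * w = 1 := mul_self_of_orderOf_two hwo
    have hwC : w ∉ C := fun h => hwne (huniq w h hwo)
    have hinv := invol_inverts (p := 5) (P : Subgroup G) hP w hww hwN hwC
    have hb := invol_invert_bound (p := 5) (by norm_num) (P : Subgroup G) hP w hww hinv
    rw [card_centralizer_of_isConj hwt, ← hMdef, ← hcount, hG, ← hC, hCc] at hb
    norm_num at hb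
  · -- a = 36 : index 6
    rw [h] at hcount
    have hidxM : M.index = 6 := by
      have := M.card_mul_index
      rw [← hcount, hG] at this
      omega
    have := card_dvd_factorial_index M hMtop
    rw [hidxM, hG] at this
    revert this
    decide
  · -- a = 216 : M = G
    rw [h] at hcount
    apply hMtop
    apply Subgroup.eq_top_of_card_eq
    rw [← hcount, hG]

end Cfsg.Agent.Lib.Helper24.Ord4320
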