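/- helper24: S0977 (order 4320) support file Ord4320C: 36 Sylow 5-subgroups -/
import Mathlib
import Cfsg.Agent.Lib.Helper24.Ord4320A

set_option autoImplicit false
set_option linter.unusedSectionVars false
set_option linter.style.haveILetI false

namespace Cfsg.Agent.Lib.Helper24.Ord4320

open MulAction Cfsg.Agent.Lib.Helper7 Cfsg.Agent.Lib.Helper8.SmallSimple Cfsg.Agent.Lib.Helper8.SmallSimple2

variable {G : Type*} [Group G] [Finite G]

/-- 36 Sylow 5-subgroups: a unique subgroup of order 3 in `C(P)` is impossible -/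
theorem case36_unique [IsSimpleGroup G] (hG : Nat.card G = 4320) [Fact (Nat.Prime 5)] (P : Sylow 5 G)
    (hNc : Nat.card ↥(Subgroup.normalizer ((P : Subgroup G) : Set G)) = 120)
    (R : Subgroup G) (hR : Nat.card ↥R = 3)
    (hRC : R ≤ Subgroup.centralizer ((P : Subgroup G) : Set G))
    (huniq : ∀ R' : Subgroup G, R' ≤ Subgroup.centralizer ((P : Subgroup G) : Set G) → Nat.card ↥R' = 3 →
      R' = R) : False := by
  haveI : Fact (Nat.Prime 3) := ⟨by norm_num⟩
  set N := Subgroup.normalizer ((P : Subgroup G) : Set G) with hN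
  set C := Subgroup.centralizer ((P : Subgroup G) : Set G) with hC
  set H := Subgroup.normalizer (R : Set G) with hH
  have key : ∀ n ∈ N, ∀ h ∈ R, n * h * n⁻¹ ∈ R := by
    intro n hn h hh
    set R' : Subgroup G := R.map (MulAut.conj n).toMonoidHom with hR'
    have h1 : R' ≤ C := by
      rintro _ ⟨y, hy, rfl⟩
      show n * y * n⁻¹ ∈ C
      exact conj_mem_centralizer_of_mem_normalizer (P : Subgroup G) hn (hRC hy)
    have h2 : Nat.card ↥R' = 3 := by
      rw [hR', Subgroup.card_map_of_injective (MulAut.conj n).injective]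
      exact hR
    have h3 := huniq R' h1 h2
    rw [← h3]
    exact ⟨h, hh, rfl⟩
  have hNH : N ≤ H := by
    intro n hn
    rw [hH, Subgroup.mem_normalizer_iff]
    intro h
    constructor
    · exact key n hn h
    · intro h1
      have h2 := key n⁻¹ (N.inv_mem hn) _ h1
      have h3 : n⁻¹ * (n * h * n⁻¹) * n⁻¹⁻¹ = h := by group
      rwa [h3] at h2
  have hPH : (P : Subgroup G) ≤ H := (Subgroup.le_normalizer (H := (P : Subgroup G))).trans hNH
  have hcount := card_sylow_subgroup_mul P H hPH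
  rw [← hN, inf_eq_left.mpr hNH, hNc] at hcount
  have hmodH : Nat.card (Sylow 5 ↥H) % 5 = 1 := by
    have := card_sylow_modEq_one 5 ↥H
    unfold Nat.ModEq at this
    omega
  have hHdvd : Nat.card ↥H ∣ 4320 := by
    rw [← hG]; exact Subgroup.card_subgroup_dvd_card H
  -- 9 divides |H|
  obtain ⟨K, hK, hRK⟩ := Sylow.exists_subgroup_card_pow_succ (G := G) (p := 3) (n := 1)
    (by rw [hG]; norm_num) (H := R) (by rw [hR, pow_one])
  have hKcomm := comm_of_card_prime_sq (p := 3) K hK
  have hKH : K ≤ H := by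
    intro k hk
    rw [hH, Subgroup.mem_normalizer_iff]
    intro h
    constructor
    · intro hh
      have : k * h * k⁻¹ = h := by
        rw [hKcomm k hk h (hRK hh)]; group
      rw [this]; exact hh
    · intro hh
      have h1 : k⁻¹ * (k * h * k⁻¹) * k⁻¹⁻¹ = k * h * k⁻¹ := by
        have := hKcomm k⁻¹ (K.inv_mem hk) _ (hRK hh)
        rw [this]; group
      have h2 : k⁻¹ * (k * h * k⁻¹) * k⁻¹⁻¹ = h := by group
      rw [← h2, h1]; exact hh
  have h9 : 9 ∣ Nat.card ↥H := by
    have := Subgroup.card_dvd_of_le hKH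
    rwa [hK] at this
  set a := Nat.card (Sylow 5 ↥H) with ha
  have hadvd : a ∣ 36 := by
    have h36 : a * 120 ∣ 36 * 120 := by rw [hcount]; exact hHdvd
    exact Nat.dvd_of_mul_dvd_mul_right (by norm_num) h36
  have hale : a ≤ 36 := Nat.le_of_dvd (by norm_num) hadvd
  have hacases : a = 1 ∨ a = 6 ∨ a = 36 := by
    have key : ∀ b : ℕ, b ≤ 36 → b ∣ 36 → b % 5 = 1 → b = 1 ∨ b = 6 ∨ b = 36 := by
      intro b hb1 hb2 hb3
      interval_cases b <;> omega
    exact key a hale hadvd hmodH
  have hHtop : H ≠ ⊤ := by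
    intro h
    have hn : R.Normal := Subgroup.normalizer_eq_top_iff.mp h
    rcases hn.eq_bot_or_eq_top with hb | ht
    · rw [hb, Subgroup.card_bot] at hR; omega
    · rw [ht, Subgroup.card_top, hG] at hR; omega
  rcases hacases with h | h | h
  · rw [h] at hcount
    rw [← hcount] at h9
    omega
  · rw [h] at hcount
    have hidxH : H.index = 6 := by
      have := H.card_mul_index
      rw [← hcount, hG] at this
      omega
    have := card_dvd_factorial_index H hHtop
    rw [hidxH, hG] at this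
    revert this
    decide
  · rw [h] at hcount
    apply hHtop
    apply Subgroup.eq_top_of_card_eq
    rw [← hcount, hG]

/-- subgroups of order 3 in a group `C` of order `15 e`, `e ∈ {2, 4}`, with a central subgroup `P` of order 5:
either there is a unique one, or `e = 4` and there are two different ones -/
theorem sylow3_cases (P C : Subgroup G) (hP : Nat.card ↥P = 5) (hPC : P ≤ C)
    (hcent : ∀ z ∈ P, ∀ c ∈ C, z * c = c * z) (hCc : Nat.card ↥C = 60 ∨ Nat.card ↥C = 30) :
    (∃ R : Subgroup G, Nat.card ↥R = 3 ∧ R ≤ C ∧ ∀ R' : Subgroup G, R' ≤ C → Nat.card ↥R' = 3 → R' = R) ∨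
    (Nat.card ↥C = 60 ∧ ∃ R1 R2 : Subgroup G, Nat.card ↥R1 = 3 ∧ Nat.card ↥R2 = 3 ∧ R1 ≤ C ∧ R2 ≤ C ∧
      R1 ≠ R2) := by
  haveI : Fact (Nat.Prime 3) := ⟨by norm_num⟩
  obtain ⟨R0⟩ : Nonempty (Sylow 3 ↥C) := inferInstance
  have hcard3 : ∀ Q : Sylow 3 ↥C, Nat.card ↥(Q : Subgroup ↥C) = 3 := by
    intro Q
    rcases hCc with h | h
    · exact (sylow_card_index_of_exact (p := 3) (m := 20) (by rw [h]) (by norm_num) Q).1
    · exact (sylow_card_index_of_exact (p := 3) (m := 10) (by rw [h]) (by norm_num) Q).1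
  by_cases hsub : Subsingleton (Sylow 3 ↥C)
  · left
    refine ⟨(R0 : Subgroup ↥C).map C.subtype, ?_, ?_, ?_⟩
    · rw [Subgroup.card_map_of_injective C.subtype_injective]
      exact hcard3 R0
    · rintro _ ⟨c, -, rfl⟩
      exact c.2
    · intro R' hR'C hR'
      have h1 : Nat.card ↥(R'.subgroupOf C) = 3 := by
        rw [Nat.card_congr (Subgroup.subgroupOfEquivOfLe hR'C).toEquiv, hR']
      have h2 : IsPGroup 3 ↥(R'.subgroupOf C) := IsPGroup.of_card (n := 1) (by rw [h1, pow_one])
      obtain ⟨Q, hQ⟩ := h2.exists_le_sylow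
      have hQR : Q = R0 := Subsingleton.elim _ _
      rw [hQR] at hQ
      have h3 : R'.subgroupOf C = (R0 : Subgroup ↥C) :=
        Subgroup.eq_of_le_of_card_ge hQ (by rw [h1, hcard3 R0])
      rw [← h3, Subgroup.map_subgroupOf_eq_of_le hR'C]
  · right
    have hex : ∃ Q1 Q2 : Sylow 3 ↥C, Q1 ≠ Q2 := by
      by_contra hcon
      push Not at hcon
      exact hsub ⟨hcon⟩
    obtain ⟨Q1, Q2, hne⟩ := hex
    have h60 : Nat.card ↥C = 60 := by
      rcases hCc with h | h
      · exact h
      · exfalso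
        -- the normalizer of R0 in C has order divisible by 15
        have hmul := card_sylow_mul_card_normalizer R0
        rw [h] at hmul
        set NR := Subgroup.normalizer ((R0 : Subgroup ↥C) : Set ↥C) with hNR
        have h3 : 3 ∣ Nat.card ↥NR := by
          have := Subgroup.card_dvd_of_le (Subgroup.le_normalizer (H := (R0 : Subgroup ↥C)))
          rwa [hcard3 R0] at this
        have h5 : 5 ∣ Nat.card ↥NR := by
          have hle : P.subgroupOf C ≤ NR := by
            intro z hz
            rw [hNR, Subgroup.mem_normalizer_iff]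
            intro c
            have hzc : z * c * z⁻¹ = c := by
              apply Subtype.ext
              have := hcent (z : G) (Subgroup.mem_subgroupOf.mp hz) (c : G) c.2
              simp only [Subgroup.coe_mul, Subgroup.coe_inv]
              rw [this]; group
            rw [hzc]
          have := Subgroup.card_dvd_of_le hle
          rwa [Nat.card_congr (Subgroup.subgroupOfEquivOfLe hPC).toEquiv, hP] at this
        have h15 : 15 ∣ Nat.card ↥NR :=
          Nat.Coprime.mul_dvd_of_dvd_of_dvd (by norm_num : Nat.Coprime 3 5) h3 h5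
        have hmod : Nat.card (Sylow 3 ↥C) % 3 = 1 := by
          have := card_sylow_modEq_one 3 ↥C
          unfold Nat.ModEq at this
          omega
        have hne1 : Nat.card (Sylow 3 ↥C) ≠ 1 := by
          intro h1
          exact hsub (Nat.card_eq_one_iff_unique.mp h1).1
        obtain ⟨k, hk⟩ := h15
        rw [hk] at hmul
        have hn2 : Nat.card (Sylow 3 ↥C) * k = 2 := by
          have : 15 * (Nat.card (Sylow 3 ↥C) * k) = 15 * 2 := by
            calc 15 * (Nat.card (Sylow 3 ↥C) * k) = Nat.card (Sylow 3 ↥C) * (15 * k) := by ring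
              _ = 15 * 2 := hmul
          exact Nat.eq_of_mul_eq_mul_left (by norm_num) this
        have hle2 : Nat.card (Sylow 3 ↥C) ≤ 2 := by
          have hkpos : 0 < k := by
            rcases Nat.eq_zero_or_pos k with h0 | h0
            · rw [h0] at hn2; omega
            · exact h0
          calc Nat.card (Sylow 3 ↥C) ≤ Nat.card (Sylow 3 ↥C) * k := Nat.le_mul_of_pos_right _ hkpos
            _ = 2 := hn2
        omega
    refine ⟨h60, (Q1 : Subgroup ↥C).map C.subtype, (Q2 : Subgroup ↥C).map C.subtype, ?_, ?_, ?_, ?_, ?_⟩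
    · rw [Subgroup.card_map_of_injective C.subtype_injective]
      exact hcard3 Q1
    · rw [Subgroup.card_map_of_injective C.subtype_injective]
      exact hcard3 Q2
    · rintro _ ⟨c, -, rfl⟩
      exact c.2
    · rintro _ ⟨c, -, rfl⟩
      exact c.2
    · intro h
      apply hne
      apply Sylow.ext
      exact Subgroup.map_injective C.subtype_injective h

/-- at most 7 involutions in a group `C` of order 60 with a central subgroup of order 5 and two different subgroups
of order 3 -/
theorem card_invol_le_seven (P C : Subgroup G) (hP : Nat.card ↥P = 5) (hPC : P ≤ C)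
    (hcent : ∀ z ∈ P, ∀ c ∈ C, z * c = c * z) (hCc : Nat.card ↥C = 60)
    (R1 R2 : Subgroup G) (h1 : Nat.card ↥R1 = 3) (h2 : Nat.card ↥R2 = 3) (hR1 : R1 ≤ C) (hR2 : R2 ≤ C)
    (hne : R1 ≠ R2) : Nat.card {c : G // c ∈ C ∧ orderOf c = 2} ≤ 7 := by
  have hA := card_pow_six_mul_le P C hP hPC hcent
  rw [hCc] at hA
  set A : Set G := {c : G | c ∈ C ∧ c ^ 6 = 1} with hAdef
  set SI : Set G := {c : G | c ∈ C ∧ orderOf c = 2} with hSI
  have hAc : A.ncard * 5 ≤ 60 := by
    rw [← Nat.card_coe_set_eq]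
    exact hA
  have hcube : ∀ R : Subgroup G, Nat.card ↥R = 3 → ∀ c ∈ R, c ^ 3 = 1 := by
    intro R hR c hc
    have := orderOf_dvd_iff_pow_eq_one.mp (Subgroup.orderOf_dvd_natCard R hc)
    rwa [hR] at this
  have hsub : SI ∪ ((R1 : Set G) ∪ (R2 : Set G)) ⊆ A := by
    rintro c (hc | hc | hc)
    · refine ⟨hc.1, ?_⟩
      have : c ^ 2 = 1 := by rw [← hc.2]; exact pow_orderOf_eq_one c
      calc c ^ 6 = (c ^ 2) ^ 3 := by rw [← pow_mul]
        _ = 1 := by rw [this, one_pow]
    · refine ⟨hR1 hc, ?_⟩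
      calc c ^ 6 = (c ^ 3) ^ 2 := by rw [← pow_mul]
        _ = 1 := by rw [hcube R1 h1 c hc, one_pow]
    · refine ⟨hR2 hc, ?_⟩
      calc c ^ 6 = (c ^ 3) ^ 2 := by rw [← pow_mul]
        _ = 1 := by rw [hcube R2 h2 c hc, one_pow]
  have hinf : R1 ⊓ R2 = ⊥ := by
    have hd : Nat.card ↥(R1 ⊓ R2) ∣ 3 := by
      have := Subgroup.card_dvd_of_le (inf_le_left : R1 ⊓ R2 ≤ R1)
      rwa [h1] at this
    rcases (Nat.dvd_prime (by norm_num : Nat.Prime 3)).mp hd with h | h
    · exact Subgroup.card_eq_one.mp h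
    · exfalso
      apply hne
      have e1 : R1 ⊓ R2 = R1 := Subgroup.eq_of_le_of_card_ge inf_le_left (by rw [h, h1])
      have hle : R1 ≤ R2 := by rw [← e1]; exact inf_le_right
      exact Subgroup.eq_of_le_of_card_ge hle (by rw [h1, h2])
  have hinter : ((R1 : Set G) ∩ (R2 : Set G)).ncard = 1 := by
    have : ((R1 : Set G) ∩ (R2 : Set G)) = {(1 : G)} := by
      rw [← Subgroup.coe_inf, hinf]
      rfl
    rw [this, Set.ncard_singleton]
  have hunion : ((R1 : Set G) ∪ (R2 : Set G)).ncard = 5 := by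
    have := Set.ncard_union_add_ncard_inter (R1 : Set G) (R2 : Set G) (Set.toFinite _) (Set.toFinite _)
    rw [hinter] at this
    have e1 : (R1 : Set G).ncard = 3 := by rw [← Nat.card_coe_set_eq]; exact h1
    have e2 : (R2 : Set G).ncard = 3 := by rw [← Nat.card_coe_set_eq]; exact h2
    omega
  have hdisj : Disjoint SI ((R1 : Set G) ∪ (R2 : Set G)) := by
    rw [Set.disjoint_left]
    rintro c hc (h | h)
    · have h3 := hcube R1 h1 c h
      have h4 : orderOf c ∣ 3 := orderOf_dvd_of_pow_eq_one h3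
      rw [hc.2] at h4
      omega
    · have h3 := hcube R2 h2 c h
      have h4 : orderOf c ∣ 3 := orderOf_dvd_of_pow_eq_one h3
      rw [hc.2] at h4
      omega
  have hcardU := Set.ncard_union_eq hdisj (Set.toFinite _) (Set.toFinite _)
  have hle := Set.ncard_le_ncard hsub (Set.toFinite _)
  have : Nat.card {c : G // c ∈ C ∧ orderOf c = 2} = SI.ncard := by
    rw [← Nat.card_coe_set_eq]
    rfl
  rw [this]
  omega

/-- an involution centralizing `P` has exactly 16 fixed points (36 Sylow 5-subgroups) -/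
theorem fix16 [IsSimpleGroup G] (hG : Nat.card G = 4320) [Fact (Nat.Prime 5)] (P : Sylow 5 G)
    (hP : Nat.card ↥(P : Subgroup G) = 5)
    (hNc : Nat.card ↥(Subgroup.normalizer ((P : Subgroup G) : Set G)) = 120) (t : G)
    (htC : t ∈ Subgroup.centralizer ((P : Subgroup G) : Set G)) (ht : orderOf t = 2) :
    Nat.card (fixedBy (G ⧸ Subgroup.normalizer ((P : Subgroup G) : Set G)) t) = 16 := by
  set N := Subgroup.normalizer ((P : Subgroup G) : Set G) with hN
  have hG2 : 2 < Nat.card G := by rw [hG]; norm_num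
  have hidx : N.index = 36 := by
    have := N.card_mul_index
    rw [hNc, hG] at this
    omega
  have hNtop : N ≠ ⊤ := by
    intro h
    rw [h, Subgroup.index_top] at hidx
    omega
  obtain ⟨h1, ⟨s, ⟨k, hk⟩, hs⟩, h3⟩ := invol_fix_data hG2 P hP hNtop t htC ht
  rw [← hN, hidx] at hs h3
  rw [← hN] at h1
  omega

/-- the case of 36 Sylow 5-subgroups with `|C(P)| = 60` and at most 7 involutions in `C(P)` -/
theorem case36_main [IsSimpleGroup G] (hG : Nat.card G = 4320)
    [Fact (Nat.Prime 5)] (P : Sylow 5 G)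
    (hP : Nat.card ↥(P : Subgroup G) = 5)
    (hNc : Nat.card ↥(Subgroup.normalizer ((P : Subgroup G) : Set G)) = 120)
    (hCc : Nat.card ↥(Subgroup.centralizer ((P : Subgroup G) : Set G)) = 60)
    (hr : (Subgroup.centralizer ((P : Subgroup G) : Set G)).relIndex
          (Subgroup.normalizer ((P : Subgroup G) : Set G)) = 2)
    (h7 : Nat.card {c : G // c ∈ Subgroup.centralizer ((P : Subgroup G) : Set G) ∧ orderOf c = 2} ≤ 7) :
    False := by
  haveI : Fact (Nat.Prime 2) := ⟨Nat.prime_two⟩
  set N := Subgroup.normalizer ((P : Subgroup G) : Set G) with hN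
  set C := Subgroup.centralizer ((P : Subgroup G) : Set G) with hC
  have hCN : C ≤ N := Subgroup.centralizer_le_normalizer _
  -- a subgroup T of order 4 of C
  obtain ⟨T0, hT0⟩ := Sylow.exists_subgroup_card_pow_prime (G := ↥C) 2 (n := 2)
    (by rw [hCc]; norm_num)
  set T : Subgroup G := T0.map C.subtype with hT
  have hTc : Nat.card ↥T = 2 ^ 2 := by
    rw [hT, Subgroup.card_map_of_injective C.subtype_injective]
    exact hT0
  have hTC : T ≤ C := by
    rintro _ ⟨c, -, rfl⟩
    exact c.2
  have hcommT := comm_of_card_prime_sq (p := 2) T hTc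
  obtain ⟨t, htT, ht⟩ := exists_invol_mem T (by rw [hTc]; norm_num)
  have hf := fix16 hG P hP hNc t (hTC htT) ht
  rw [← hN] at hf
  have hTp : IsPGroup 2 T := IsPGroup.of_card hTc
  obtain ⟨g, hgN, hgT⟩ := exists_conj_le_of_not_modEq N T hTp (hTC.trans hCN) t (hCN (hTC htT))
    (fun y hy => hcommT t htT y hy) (by rw [hf]; norm_num)
  -- the conjugate T' of T inside N
  set T' : Subgroup G := T.map (MulAut.conj g⁻¹).toMonoidHom with hT'
  have hT'c : Nat.card ↥T' = 2 ^ 2 := by
    rw [hT', Subgroup.card_map_of_injective (MulAut.conj g⁻¹).injective]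
    exact hTc
  have hT'N : T' ≤ N := by
    rintro _ ⟨y, hy, rfl⟩
    have := hgT y hy
    simpa [MulAut.conj_apply] using this
  have hT'comm := comm_of_card_prime_sq (p := 2) T' hT'c
  have hT'p : IsPGroup 2 T' := IsPGroup.of_card hT'c
  -- a Sylow 2-subgroup S of N containing T'
  have hT'Np : IsPGroup 2 ↥(T'.subgroupOf N) := by
    apply IsPGroup.of_card (n := 2)
    rw [Nat.card_congr (Subgroup.subgroupOfEquivOfLe hT'N).toEquiv, hT'c]
  obtain ⟨S0, hS0⟩ := hT'Np.exists_le_sylow
  have hS0c : Nat.card ↥(S0 : Subgroup ↥N) = 2 ^ 3 :=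
    (sylow_card_index_of_pow (p := 2) (k := 3) (m := 15) (by rw [hNc]; norm_num) (by norm_num) S0).1
  set S : Subgroup G := (S0 : Subgroup ↥N).map N.subtype with hS
  have hSc : Nat.card ↥S = 2 ^ 3 := by
    rw [hS, Subgroup.card_map_of_injective N.subtype_injective]
    exact hS0c
  have hSN : S ≤ N := by
    rintro _ ⟨c, -, rfl⟩
    exact c.2
  have hT'S : T' ≤ S := by
    intro y hy
    exact ⟨⟨y, hT'N hy⟩, hS0 (Subgroup.mem_subgroupOf.mpr hy), rfl⟩
  have hSp : IsPGroup 2 S := IsPGroup.of_card hSc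
  -- T' is normal in S
  have hT'norm : ∀ s ∈ S, ∀ d ∈ T', s * d * s⁻¹ ∈ T' := by
    have hidx2 : (T'.subgroupOf S).index = 2 := by
      have h1 := card_inf_mul_relIndex T' S
      rw [inf_eq_left.mpr hT'S, hT'c, hSc] at h1
      have : T'.relIndex S = 2 := by omega
      exact this
    have hn : (T'.subgroupOf S).Normal := Subgroup.normal_of_index_eq_two hidx2
    intro s hs d hd
    have := hn.conj_mem ⟨d, hT'S hd⟩ (Subgroup.mem_subgroupOf.mpr hd) ⟨s, hs⟩
    exact Subgroup.mem_subgroupOf.mp this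
  -- D = C ⊓ T'
  have hdvd := relIndex_centralizer_dvd (P : Subgroup G) T' hT'N
  rw [← hC, ← hN, hr] at hdvd
  have hK := card_inf_mul_relIndex C T'
  rw [hT'c] at hK
  have h2K : 2 ∣ Nat.card ↥(C ⊓ T') := by
    have hle := Nat.le_of_dvd (by norm_num) hdvd
    have hpos' : 0 < C.relIndex T' := Nat.pos_of_ne_zero (fun h => by rw [h] at hK; omega)
    interval_cases hrr : C.relIndex T'
    · exact ⟨2, by omega⟩
    · exact ⟨1, by omega⟩
  have hDne : C ⊓ T' ≠ ⊥ := by
    intro h
    rw [h, Subgroup.card_bot] at h2K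
    omega
  have hDnorm : ∀ s ∈ S, ∀ d ∈ C ⊓ T', s * d * s⁻¹ ∈ C ⊓ T' := by
    intro s hs d hd
    obtain ⟨hd1, hd2⟩ := Subgroup.mem_inf.mp hd
    exact Subgroup.mem_inf.mpr
      ⟨conj_mem_centralizer_of_mem_normalizer (P : Subgroup G) (hSN hs) hd1, hT'norm s hs d hd2⟩
  obtain ⟨t0, ht0K, ht0, ht0cen⟩ := exists_central_of_normal (p := 2) S (C ⊓ T') hSp
    (inf_le_right.trans hT'S) hDnorm hDne
  obtain ⟨ht0C, ht0T'⟩ := Subgroup.mem_inf.mp ht0K
  obtain ⟨y0, hy0, hy0t⟩ := ht0T'
  have hy0t' : g⁻¹ * y0 * g = t0 := by simpa [MulAut.conj_apply] using hy0t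
  set M := Subgroup.centralizer ({t0} : Set G) with hMdef
  have hPM : (P : Subgroup G) ≤ M := by
    intro x hx
    rw [hMdef, Subgroup.mem_centralizer_singleton_iff]
    exact (Subgroup.mem_centralizer_iff.mp ht0C) x hx
  have hSM : S ≤ M := by
    intro x hx
    rw [hMdef, Subgroup.mem_centralizer_singleton_iff]
    exact ht0cen x hx
  -- the second Sylow subgroup
  set R : Sylow 5 G := g⁻¹ • P with hR
  have hRne : R ≠ P := by
    intro h
    rw [hR, Sylow.smul_eq_iff_mem_normalizer] at h
    apply hgN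
    have := Subgroup.inv_mem _ h
    rwa [inv_inv] at this
  have hRM : (R : Subgroup G) ≤ M := by
    intro x hx
    rw [hR, Sylow.coe_subgroup_smul, Subgroup.mem_pointwise_smul_iff_inv_smul_mem] at hx
    have hz : g * x * g⁻¹ ∈ (P : Subgroup G) := by simpa [MulAut.smul_def] using hx
    have hcz : (g * x * g⁻¹) * y0 = y0 * (g * x * g⁻¹) :=
      (Subgroup.mem_centralizer_iff.mp (hTC hy0)) _ hz
    rw [hMdef, Subgroup.mem_centralizer_singleton_iff, ← hy0t']
    calc x * (g⁻¹ * y0 * g) = g⁻¹ * ((g * x * g⁻¹) * y0) * g := by group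
      _ = g⁻¹ * (y0 * (g * x * g⁻¹)) * g := by rw [hcz]
      _ = g⁻¹ * y0 * g * x := by group
  have hcount := card_sylow_subgroup_mul P M hPM
  rw [← hN] at hcount
  have hmodM : Nat.card (Sylow 5 ↥M) % 5 = 1 := by
    have := card_sylow_modEq_one 5 ↥M
    unfold Nat.ModEq at this
    omega
  have hneM : Nat.card (Sylow 5 ↥M) ≠ 1 := by
    intro h
    have hsub : Subsingleton (Sylow 5 ↥M) := (Nat.card_eq_one_iff_unique.mp h).1
    have e : P.subtype hPM = R.subtype hRM := Subsingleton.elim _ _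
    exact hRne (Sylow.subtype_injective e).symm
  have h5 : 5 ∣ Nat.card ↥(N ⊓ M) := by
    have := Subgroup.card_dvd_of_le (le_inf (Subgroup.le_normalizer (H := (P : Subgroup G))) hPM)
    rwa [hP] at this
  have h8 : 8 ∣ Nat.card ↥(N ⊓ M) := by
    have := Subgroup.card_dvd_of_le (le_inf hSN hSM)
    rwa [hSc] at this
  have h120 : Nat.card ↥(N ⊓ M) ∣ 120 := by
    have := Subgroup.card_dvd_of_le (inf_le_left : N ⊓ M ≤ N)
    rwa [hNc] at this
  have hMdvd : Nat.card ↥M ∣ 4320 := by
    rw [← hG]; exact Subgroup.card_subgroup_dvd_card M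
  have hf0 := fix16 hG P hP hNc t0 ht0C ht0
  rw [← hN] at hf0
  have hformula := card_fixedBy_mul_card N t0
  rw [hf0, hNc, ← hMdef] at hformula
  have hMdvd2 : Nat.card ↥M ∣ 16 * 120 := by rw [hformula]; exact dvd_mul_left _ _
  set a := Nat.card (Sylow 5 ↥M) with ha
  set b := Nat.card ↥(N ⊓ M) with hb
  have hbcases : b = 40 ∨ b = 120 := by
    have key : ∀ k : ℕ, k ∣ 120 → 5 ∣ k → 8 ∣ k → k = 40 ∨ k = 120 := by
      intro k hk h5' h8'
      have hle := Nat.le_of_dvd (by norm_num) hk
      interval_cases k <;> omega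
    exact key _ h120 h5 h8
  have hab480 : a * b ∣ 480 := by
    have : a * b ∣ Nat.gcd (16 * 120) 4320 := Nat.dvd_gcd (by rw [hcount]; exact hMdvd2) (by rw [hcount]; exact hMdvd)
    have h480 : Nat.gcd (16 * 120) 4320 = 480 := by norm_num
    rwa [h480] at this
  have hfin : a = 6 ∧ b = 40 := by
    rcases hbcases with h | h
    · rw [h] at hab480
      have h12 : a ∣ 12 := Nat.dvd_of_mul_dvd_mul_right (by norm_num : 0 < 40) (by simpa using hab480)
      have hle := Nat.le_of_dvd (by norm_num) h12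
      refine ⟨?_, h⟩
      interval_cases a <;> omega
    · exfalso
      rw [h] at hab480
      have h4 : a ∣ 4 := Nat.dvd_of_mul_dvd_mul_right (by norm_num : 0 < 120) (by simpa using hab480)
      have hle := Nat.le_of_dvd (by norm_num) h4
      interval_cases a <;> omega
  obtain ⟨ha6, hb40⟩ := hfin
  rw [ha6, hb40] at hcount
  rw [← hcount] at hformula
  set k := Nat.card {s : G // s ∈ N ∧ IsConj t0 s} with hk
  have hk8 : k = 8 := by omega
  -- a conjugate of t0 in N outside C
  have hex : ∃ w : G, w ∈ N ∧ IsConj t0 w ∧ w ∉ C := by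
    by_contra hcon
    push Not at hcon
    have hord : ∀ s : G, IsConj t0 s → orderOf s = 2 := by
      intro s hs
      obtain ⟨c, rfl⟩ := isConj_iff.mp hs
      have := MulEquiv.orderOf_eq (MulAut.conj c) t0
      rw [MulAut.conj_apply] at this
      rw [this, ht0]
    have hinj : Function.Injective (fun s : {s : G // s ∈ N ∧ IsConj t0 s} =>
        (⟨s.1, hcon s.1 s.2.1 s.2.2, hord s.1 s.2.2⟩ : {c : G // c ∈ C ∧ orderOf c = 2})) := by
      intro u v huv
      apply Subtype.ext
      exact congrArg (fun z : {c : G // c ∈ C ∧ orderOf c = 2} => (z : G)) huv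
    have := Nat.card_le_card_of_injective _ hinj
    omega
  obtain ⟨w, hwN, hwt, hwC⟩ := hex
  have hwo : orderOf w = 2 := by
    obtain ⟨c, rfl⟩ := isConj_iff.mp hwt
    have := MulEquiv.orderOf_eq (MulAut.conj c) t0
    rw [MulAut.conj_apply] at this
    rw [this, ht0]
  have hww : w * w = 1 := mul_self_of_orderOf_two hwo
  have hinv := invol_inverts (p := 5) (P : Subgroup G) hP w hww hwN hwC
  have hbd := invol_invert_bound (p := 5) (by norm_num) (P : Subgroup G) hP w hww hinv
  rw [card_centralizer_of_isConj hwt, ← hMdef, ← hcount, hG, ← hC, hCc] at hbd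
  norm_num at hbd

/-- the case of 36 Sylow 5-subgroups -/
theorem case36 [IsSimpleGroup G] (hG : Nat.card G = 4320)
    [Fact (Nat.Prime 5)] (P : Sylow 5 G)
    (hP : Nat.card ↥(P : Subgroup G) = 5)
    (hNc : Nat.card ↥(Subgroup.normalizer ((P : Subgroup G) : Set G)) = 120)
    (hCc : Nat.card ↥(Subgroup.centralizer ((P : Subgroup G) : Set G)) = 60 ∨
      Nat.card ↥(Subgroup.centralizer ((P : Subgroup G) : Set G)) = 30)
    (hr : Nat.card ↥(Subgroup.centralizer ((P : Subgroup G) : Set G)) = 60 →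
      (Subgroup.centralizer ((P : Subgroup G) : Set G)).relIndex
          (Subgroup.normalizer ((P : Subgroup G) : Set G)) = 2) : False := by
  have hPC : (P : Subgroup G) ≤ Subgroup.centralizer ((P : Subgroup G) : Set G) := by
    intro a ha
    rw [Subgroup.mem_centralizer_iff]
    intro b hb
    exact comm_of_card_prime (P : Subgroup G) hP b hb a ha
  have hcent : ∀ z ∈ (P : Subgroup G), ∀ c ∈ Subgroup.centralizer ((P : Subgroup G) : Set G),
      z * c = c * z := by
    intro z hz c hc
    exact (Subgroup.mem_centralizer_iff.mp hc) z hz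
  rcases sylow3_cases (P : Subgroup G) _ hP hPC hcent hCc with ⟨R, hR, hRC, huniq⟩ | ⟨h60, R1, R2, h1, h2, hR1, hR2, hne⟩
  · exact case36_unique hG P hNc R hR hRC huniq
  · have h7 := card_invol_le_seven (P : Subgroup G) _ hP hPC hcent h60 R1 R2 h1 h2 hR1 hR2 hne
    exact case36_main hG P hP hNc h60 (hr h60) h7

end Cfsg.Agent.Lib.Helper24.Ord4320
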