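/- helper24: S0977 (order 4320) support file Ord4320Core: abstract column arithmetic -/
import Mathlib
import Cfsg.Agent.Lib.Helper24.Ord4320Ar

set_option autoImplicit false

namespace Cfsg.Agent.Lib.Helper24.Ord4320

/-- a finite family of nonzero integers whose squares sum to 4 consists of a single `±2` or of four `±1` -/
theorem sq_sum_four {I : Type*} [DecidableEq I] (S : Finset I) (a : I → ℤ) (hne : ∀ i ∈ S, a i ≠ 0)
    (hs : ∑ i ∈ S, a i ^ 2 = 4) :
    (∃ i0, S = {i0} ∧ a i0 ^ 2 = 4) ∨ (S.card = 4 ∧ ∀ i ∈ S, a i ^ 2 = 1) := by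
  have hge : ∀ i ∈ S, 1 ≤ a i ^ 2 := by
    intro i hi
    have := hne i hi
    have h0 : 0 < a i ^ 2 := by positivity
    omega
  by_cases hall : ∀ i ∈ S, a i ^ 2 = 1
  · right
    refine ⟨?_, hall⟩
    rw [Finset.sum_congr rfl hall, Finset.sum_const, nsmul_eq_mul, mul_one] at hs
    exact_mod_cast hs
  · left
    push Not at hall
    obtain ⟨i0, hi0, h1⟩ := hall
    have h4 : 4 ≤ a i0 ^ 2 := by
      have h2 := hge i0 hi0
      by_contra hlt
      push Not at hlt
      have hlt2 : a i0 ^ 2 < 4 := hlt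
      have hb : -2 < a i0 ∧ a i0 < 2 := by constructor <;> nlinarith
      obtain ⟨hb1, hb2⟩ := hb
      have hne0 := hne i0 hi0
      interval_cases (a i0) <;> simp_all
    have hsplit := Finset.add_sum_erase S (fun i => a i ^ 2) hi0
    rw [hs] at hsplit
    have hrest_nonneg : 0 ≤ ∑ i ∈ S.erase i0, a i ^ 2 := Finset.sum_nonneg (fun i _ => sq_nonneg _)
    have hrest : ∑ i ∈ S.erase i0, a i ^ 2 = 0 := by omega
    have hsq : a i0 ^ 2 = 4 := by omega
    refine ⟨i0, ?_, hsq⟩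
    have hempty : S.erase i0 = ∅ := by
      by_contra hne'
      obtain ⟨j, hj⟩ := Finset.nonempty_iff_ne_empty.mpr hne'
      have hj1 := hge j (Finset.mem_of_mem_erase hj)
      have := Finset.single_le_sum (f := fun i => a i ^ 2) (fun i _ => sq_nonneg (a i)) hj
      omega
    rw [← Finset.insert_erase hi0, hempty]
    rfl

/-- the abstract arithmetic core: column data of a character table which cannot exist -/
theorem arith_core {I : Type*} [Fintype I] [DecidableEq I] (a c : I → ℤ) (f : I → ℕ) (triv : I) (z : ℕ)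
    (ha1 : a triv = 1) (hc1 : c triv = 1) (hf1 : f triv = 1)
    (hftriv : ∀ i, f i = 1 → i = triv)
    (hfd : ∀ i, f i ∣ 4320)
    (hfsq : ∑ i, f i ^ 2 = 4320)
    (h5 : ∀ i, (5 : ℤ) ∣ (f i : ℤ) - a i)
    (h4 : ∀ i, (4 : ℤ) ∣ (f i : ℤ) - c i)
    (hE1 : ∑ i, a i ^ 2 = 5)
    (hE2 : ∑ i, (f i : ℤ) * a i = 0)
    (hE3 : ∑ i, c i ^ 2 = (z : ℤ))
    (hE5 : ∑ i, a i * c i = 0)
    (hE4 : ∑ i, ((c i : ℚ) ^ 2 * (a i : ℚ) / (f i : ℚ)) = 5 * (z : ℚ) ^ 2 / 4320)
    (hz : z ^ 2 ≤ 4320) : False := by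
  set S : Finset I := Finset.univ.filter (fun i => i ≠ triv ∧ a i ≠ 0) with hS
  have htS : triv ∉ S := by
    rw [hS, Finset.mem_filter]
    rintro ⟨-, h, -⟩
    exact h rfl
  -- splitting sums
  have hsplit : ∀ {M : Type} [AddCommMonoid M] (F : I → M), (∀ i, a i = 0 → F i = 0) →
      ∑ i, F i = F triv + ∑ i ∈ S, F i := by
    intro M _ F hF
    rw [← Finset.sum_insert htS]
    symm
    apply Finset.sum_subset (Finset.subset_univ _)
    intro i _ hi
    apply hF
    by_contra h0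
    apply hi
    by_cases hit : i = triv
    · rw [hit]; exact Finset.mem_insert_self _ _
    · apply Finset.mem_insert_of_mem
      rw [hS, Finset.mem_filter]
      exact ⟨Finset.mem_univ _, hit, h0⟩
  have hS1 : ∑ i ∈ S, a i ^ 2 = 4 := by
    have := hsplit (fun i => a i ^ 2) (fun i hi => by simp [hi])
    rw [hE1] at this
    simp only [ha1] at this
    omega
  have hS2 : 1 + ∑ i ∈ S, (f i : ℤ) * a i = 0 := by
    have := hsplit (fun i => (f i : ℤ) * a i) (fun i hi => by simp [hi])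
    rw [hE2] at this
    simp only [ha1, hf1] at this
    rw [this]; simp
  have hS5 : 1 + ∑ i ∈ S, a i * c i = 0 := by
    have := hsplit (fun i => a i * c i) (fun i hi => by simp [hi])
    rw [hE5] at this
    simp only [ha1, hc1] at this
    rw [this]; simp
  have hS4 : 1 + ∑ i ∈ S, ((c i : ℚ) ^ 2 * (a i : ℚ) / (f i : ℚ)) = 5 * (z : ℚ) ^ 2 / 4320 := by
    have := hsplit (fun i => ((c i : ℚ) ^ 2 * (a i : ℚ) / (f i : ℚ))) (fun i hi => by simp [hi])
    rw [hE4] at this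
    simp only [ha1, hc1, hf1] at this
    rw [this]; simp
  have hS3 : 1 + ∑ i ∈ S, c i ^ 2 ≤ (z : ℤ) := by
    rw [← hE3]
    have h1 : ∑ i ∈ insert triv S, c i ^ 2 ≤ ∑ i, c i ^ 2 :=
      Finset.sum_le_sum_of_subset_of_nonneg (Finset.subset_univ _) (fun i _ _ => sq_nonneg _)
    rw [Finset.sum_insert htS, hc1] at h1
    linarith
  have hSf : ∑ i ∈ S, (f i : ℤ) ^ 2 ≤ 4319 := by
    have h1 : ∑ i ∈ insert triv S, (f i : ℤ) ^ 2 ≤ ∑ i, (f i : ℤ) ^ 2 :=
      Finset.sum_le_sum_of_subset_of_nonneg (Finset.subset_univ _) (fun i _ _ => sq_nonneg _)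
    rw [Finset.sum_insert htS, hf1] at h1
    have h2 : ∑ i, (f i : ℤ) ^ 2 = 4320 := by exact_mod_cast hfsq
    rw [h2] at h1
    push_cast at h1
    linarith
  rcases sq_sum_four S a (fun i hi => (Finset.mem_filter.mp hi).2.2) hS1 with ⟨i0, hSi, hai⟩ | ⟨hcard, hall⟩
  · rw [hSi, Finset.sum_singleton] at hS2
    have h2 : a i0 = 2 ∨ a i0 = -2 := by
      have : (a i0 - 2) * (a i0 + 2) = 0 := by ring_nf; linarith
      rcases mul_eq_zero.mp this with h | h
      · left; linarith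
      · right; linarith
    rcases h2 with h | h <;> rw [h] at hS2 <;> omega
  · -- four exceptional characters
    let e : S ≃ Fin 4 := S.equivFinOfCardEq hcard
    let ψ0 : Fin 4 → I := fun j => ((e.symm j : S) : I)
    let σ : Equiv.Perm (Fin 4) := Tuple.sort (fun j => a (ψ0 j) * (f (ψ0 j) : ℤ))
    have hmono : Monotone ((fun j => a (ψ0 j) * (f (ψ0 j) : ℤ)) ∘ σ) := Tuple.monotone_sort _
    let ψ : Fin 4 → I := fun j => ψ0 (σ j)
    have hψS : ∀ j, ψ j ∈ S := fun j => (e.symm (σ j)).2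
    have hsum : ∀ {M : Type} [AddCommMonoid M] (F : I → M), ∑ i ∈ S, F i = F (ψ 0) + F (ψ 1) + F (ψ 2) + F (ψ 3) := by
      intro M _ F
      rw [← Finset.sum_coe_sort S F, ← Equiv.sum_comp e.symm, ← Equiv.sum_comp σ, Fin.sum_univ_four]
    have hprop : ∀ j, (a (ψ j) = 1 ∨ a (ψ j) = -1) ∧ (2 : ℤ) ≤ (f (ψ j) : ℤ) := by
      intro j
      have hj := hψS j
      have h1 := hall _ hj
      constructor
      · have : (a (ψ j) - 1) * (a (ψ j) + 1) = 0 := by ring_nf; linarith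
        rcases mul_eq_zero.mp this with h | h
        · left; linarith
        · right; linarith
      · have hne : ψ j ≠ triv := (Finset.mem_filter.mp hj).2.1
        have hf0 : f (ψ j) ≠ 1 := fun h => hne (hftriv _ h)
        have hpos : 0 < f (ψ j) := Nat.pos_of_dvd_of_pos (hfd _) (by norm_num)
        have : 2 ≤ f (ψ j) := by omega
        exact_mod_cast this
    have hdvd : ∀ j, ((f (ψ j) : ℕ) : ℤ) ∣ 4320 := by
      intro j
      exact_mod_cast hfd (ψ j)
    rw [hsum] at hS2 hS5 hS4 hS3 hSf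
    have hz' : (z : ℤ) ^ 2 ≤ 4320 := by exact_mod_cast hz
    have hm01 := hmono (show (0 : Fin 4) ≤ 1 by decide)
    have hm12 := hmono (show (1 : Fin 4) ≤ 2 by decide)
    have hm23 := hmono (show (2 : Fin 4) ≤ 3 by decide)
    simp only [Function.comp] at hm01 hm12 hm23
    exact arith_four (a (ψ 0)) (a (ψ 1)) (a (ψ 2)) (a (ψ 3)) (c (ψ 0)) (c (ψ 1)) (c (ψ 2)) (c (ψ 3))
      (f (ψ 0)) (f (ψ 1)) (f (ψ 2)) (f (ψ 3)) z
      (hprop 0).1 (hprop 1).1 (hprop 2).1 (hprop 3).1 (hprop 0).2 (hprop 1).2 (hprop 2).2 (hprop 3).2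
      (hdvd 0) (hdvd 1) (hdvd 2) (hdvd 3) (h5 _) (h5 _) (h5 _) (h5 _) (h4 _) (h4 _) (h4 _) (h4 _)
      hSf hm01 hm12 hm23 (by linarith) (by linarith) (by linarith)
      (by push_cast; linarith) hz' (by positivity)

end Cfsg.Agent.Lib.Helper24.Ord4320
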