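/- helper24: S0977 (order 4320) support file Ord4320D: local data for a Frobenius normalizer of order 20 -/
import Mathlib
import Cfsg.Agent.Lib.Helper24.Ord4320A

set_option autoImplicit false
set_option linter.unusedSectionVars false
set_option linter.style.haveILetI false

namespace Cfsg.Agent.Lib.Helper24.Ord4320

open MulAction Cfsg.Agent.Lib.Helper7 Cfsg.Agent.Lib.Helper8.SmallSimple Cfsg.Agent.Lib.Helper8.SmallSimple2

variable {G : Type*} [Group G] [Finite G]

/-- local data in the case of a self-centralizing Sylow 5-subgroup with normalizer of order 20 -/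
theorem frob20_data (hG : Nat.card G = 4320) [Fact (Nat.Prime 5)] (P : Sylow 5 G)
    (hP : Nat.card ↥(P : Subgroup G) = 5)
    (hNc : Nat.card ↥(Subgroup.normalizer ((P : Subgroup G) : Set G)) = 20)
    (hCc : Nat.card ↥(Subgroup.centralizer ((P : Subgroup G) : Set G)) = 5) :
    ∃ x w : G, x ∈ (P : Subgroup G) ∧ orderOf x = 5 ∧ orderOf w = 2 ∧
      Nat.card ↥(Subgroup.centralizer ({x} : Set G)) = 5 ∧
      (∀ f ∈ (P : Subgroup G), f ≠ 1 → IsConj x f) ∧
      Nat.card {s : G // IsConj w s ∧ IsConj w (s⁻¹ * x)} = 5 ∧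
      Nat.card ↥(Subgroup.centralizer ({w} : Set G)) ^ 2 ≤ 4320 := by
  classical
  set N := Subgroup.normalizer ((P : Subgroup G) : Set G) with hN
  set C := Subgroup.centralizer ((P : Subgroup G) : Set G) with hC
  have hPC : (P : Subgroup G) ≤ C := by
    intro a ha
    rw [hC, Subgroup.mem_centralizer_iff]
    intro b hb
    exact comm_of_card_prime (P : Subgroup G) hP b hb a ha
  have hCP : C = (P : Subgroup G) := (Subgroup.eq_of_le_of_card_ge hPC (by rw [hCc, hP])).symm
  obtain ⟨x0, hx0⟩ := exists_prime_orderOf_dvd_card' (G := ↥(P : Subgroup G)) 5 (by rw [hP])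
  set x : G := (x0 : G) with hx
  have hxo : orderOf x = 5 := by rw [hx, Subgroup.orderOf_coe]; exact hx0
  have hxP : x ∈ (P : Subgroup G) := x0.2
  have hPx : Subgroup.zpowers x = (P : Subgroup G) := Cfsg.Agent.S1018.zpowers_eq 5 P hP x hxo hxP
  -- the centralizer of x
  have hCx : Subgroup.centralizer ({x} : Set G) = C := by
    apply le_antisymm
    · intro c hc
      rw [hC, ← hPx]
      apply mem_centralizer_zpowers
      have := Subgroup.mem_centralizer_singleton_iff.mp hc
      calc c * x * c⁻¹ = x * c * c⁻¹ := by rw [this]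
        _ = x := by group
    · intro c hc
      rw [Subgroup.mem_centralizer_singleton_iff]
      exact ((Subgroup.mem_centralizer_iff.mp hc) x hxP).symm
  have hCxc : Nat.card ↥(Subgroup.centralizer ({x} : Set G)) = 5 := by rw [hCx, hCc]
  -- all nonidentity elements of P are conjugate to x
  have hconj : ∀ f ∈ (P : Subgroup G), f ≠ 1 → IsConj x f := by
    have hfix := Cfsg.Agent.S1018.part1 5 P hP x hxo
    have hformula := card_fixedBy_mul_card N x
    rw [← hN] at hfix
    rw [hfix, hNc, hCxc] at hformula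
    have hk : Nat.card {s : G // s ∈ N ∧ IsConj x s} = 4 := by omega
    have hmem : ∀ s : {s : G // s ∈ N ∧ IsConj x s}, s.1 ∈ (P : Subgroup G) ∧ s.1 ≠ 1 := by
      intro s
      have ho : orderOf s.1 = 5 := by
        obtain ⟨c, hc⟩ := isConj_iff.mp s.2.2
        have := MulEquiv.orderOf_eq (MulAut.conj c) x
        rw [MulAut.conj_apply, hc] at this
        rw [this, hxo]
      refine ⟨Cfsg.Agent.S1018.mem_of_mem_normalizer 5 P s.1 ho s.2.1, ?_⟩
      intro h1
      rw [h1, orderOf_one] at ho
      omega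
    let φ : {s : G // s ∈ N ∧ IsConj x s} → {f : ↥(P : Subgroup G) // f ≠ 1} := fun s =>
      ⟨⟨s.1, (hmem s).1⟩, fun h => (hmem s).2 (congrArg Subtype.val h)⟩
    have hφ : Function.Injective φ := by
      intro u v huv
      apply Subtype.ext
      have := congrArg (fun z : {f : ↥(P : Subgroup G) // f ≠ 1} => ((z : ↥(P : Subgroup G)) : G)) huv
      exact this
    have hcard : Nat.card {f : ↥(P : Subgroup G) // f ≠ 1} = 4 := by
      have e := Nat.card_congr (Equiv.optionSubtypeNe (1 : ↥(P : Subgroup G)))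
      rw [Finite.card_option, hP] at e
      omega
    have hbij := hφ.bijective_of_nat_card_le (by rw [hcard, hk])
    intro f hf hf1
    obtain ⟨s, hs⟩ := hbij.2 ⟨⟨f, hf⟩, fun h => hf1 (congrArg Subtype.val h)⟩
    have : s.1 = f := congrArg (fun z : {f : ↥(P : Subgroup G) // f ≠ 1} => ((z : ↥(P : Subgroup G)) : G)) hs
    rw [← this]
    exact s.2.2
  -- an involution of N
  obtain ⟨w, hwN, hwo⟩ := exists_invol_mem N (by rw [hNc]; norm_num)
  have hww : w * w = 1 := mul_self_of_orderOf_two hwo
  have hwinv : w⁻¹ = w := inv_eq_of_mul_eq_one_left hww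
  have hwC : w ∉ C := by
    intro h
    rw [hCP] at h
    have := Subgroup.orderOf_dvd_natCard (P : Subgroup G) h
    rw [hwo, hP] at this
    omega
  have hinv := invol_inverts (p := 5) (P : Subgroup G) hP w hww hwN hwC
  have hbd := invol_invert_bound (p := 5) (by norm_num) (P : Subgroup G) hP w hww hinv
  rw [hG, ← hC, hCc] at hbd
  have hbd' : Nat.card ↥(Subgroup.centralizer ({w} : Set G)) ^ 2 ≤ 4320 := by omega
  refine ⟨x, w, hxP, hxo, hwo, hCxc, hconj, ?_, hbd'⟩
  -- the involutions of N
  have hpow5 : ∀ f ∈ (P : Subgroup G), f ^ 5 = 1 := by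
    intro f hf
    have := orderOf_dvd_iff_pow_eq_one.mp (Subgroup.orderOf_dvd_natCard (P : Subgroup G) hf)
    rwa [hP] at this
  have hA : ∀ f ∈ (P : Subgroup G), IsConj w (w * f) := by
    intro f hf
    rw [isConj_iff]
    refine ⟨f * f, ?_⟩
    have h1 : w * f⁻¹ = f * w := by
      have := hinv f⁻¹ (Subgroup.inv_mem _ hf)
      rw [inv_inv] at this
      calc w * f⁻¹ = w * f⁻¹ * w⁻¹ * w := by group
        _ = f * w := by rw [this]
    have h2 : w * f = f⁻¹ * w := by
      have := hinv f hf
      calc w * f = w * f * w⁻¹ * w := by group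
        _ = f⁻¹ * w := by rw [this]
    have h5 := hpow5 f hf
    have h4 : f * f * f * f = f⁻¹ := by
      have : f * f * f * f * f = 1 := by
        rw [← h5, pow_succ, pow_succ, pow_succ, pow_succ, pow_one]
      exact eq_inv_of_mul_eq_one_left this
    calc f * f * w * (f * f)⁻¹ = f * f * (w * f⁻¹) * f⁻¹ := by group
      _ = f * f * (f * w) * f⁻¹ := by rw [h1]
      _ = f * f * f * (w * f⁻¹) := by group
      _ = f * f * f * (f * w) := by rw [h1]
      _ = (f * f * f * f) * w := by group
      _ = f⁻¹ * w := by rw [h4]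
      _ = w * f := h2.symm
  have hB : ∀ f ∈ (P : Subgroup G), (w * f)⁻¹ * x = w * (x * f) := by
    intro f hf
    have h1 := hinv (x * f) (Subgroup.mul_mem _ hxP hf)
    -- w (x f) w⁻¹ = (x f)⁻¹
    have h2 : w * (x * f) = (x * f)⁻¹ * w := by
      calc w * (x * f) = w * (x * f) * w⁻¹ * w := by group
        _ = (x * f)⁻¹ * w := by rw [h1]
    have h3 : x * f = f * x := comm_of_card_prime (P : Subgroup G) hP x hxP f hf
    have h4 := hinv x hxP
    have h5 : w * x = x⁻¹ * w := by
      calc w * x = w * x * w⁻¹ * w := by group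
        _ = x⁻¹ * w := by rw [h4]
    calc (w * f)⁻¹ * x = f⁻¹ * (w⁻¹ * x) := by group
      _ = f⁻¹ * (w * x) := by rw [hwinv]
      _ = f⁻¹ * (x⁻¹ * w) := by rw [h5]
      _ = (x * f)⁻¹ * w := by group
      _ = w * (x * f) := h2.symm
  have hord2 : ∀ s : G, IsConj w s → s * s = 1 := by
    intro s hs
    obtain ⟨c, rfl⟩ := isConj_iff.mp hs
    calc c * w * c⁻¹ * (c * w * c⁻¹) = c * (w * w) * c⁻¹ := by group
      _ = 1 := by rw [hww]; group
  have hback : ∀ s : G, IsConj w s → IsConj w (s⁻¹ * x) → w * s ∈ (P : Subgroup G) := by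
    intro s hs1 hs2
    have hss := hord2 s hs1
    have hsinv : s⁻¹ = s := inv_eq_of_mul_eq_one_left hss
    have htt := hord2 _ hs2
    rw [hsinv] at htt
    -- s x s x = 1, so s x s⁻¹ = x⁻¹
    have h1 : s * x * s⁻¹ = x⁻¹ := by
      rw [hsinv]
      have : s * x * s * x = 1 := by rw [← htt]; group
      exact eq_inv_of_mul_eq_one_left this
    have h2 : w * s ∈ Subgroup.centralizer ({x} : Set G) := by
      rw [Subgroup.mem_centralizer_singleton_iff]
      have h3 := hinv x⁻¹ (Subgroup.inv_mem _ hxP)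
      rw [inv_inv] at h3
      calc w * s * x = w * (s * x * s⁻¹) * s := by group
        _ = w * x⁻¹ * s := by rw [h1]
        _ = (w * x⁻¹ * w⁻¹) * w * s := by group
        _ = x * (w * s) := by rw [h3]; group
    rw [hCx, hCP] at h2
    exact h2
  rw [← hP]
  refine Nat.card_congr
    { toFun := fun s => ⟨w * s.1, hback s.1 s.2.1 s.2.2⟩
      invFun := fun f => ⟨w * f.1, hA f.1 f.2, by
        rw [hB f.1 f.2]
        exact hA _ (Subgroup.mul_mem _ hxP f.2)⟩
      left_inv := fun s => by
        apply Subtype.ext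
        show w * (w * s.1) = s.1
        rw [← mul_assoc, hww, one_mul]
      right_inv := fun f => by
        apply Subtype.ext
        show w * (w * f.1) = f.1
        rw [← mul_assoc, hww, one_mul] }

end Cfsg.Agent.Lib.Helper24.Ord4320
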