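/- helper24: S0977 (order 4320) support file Ord4320Inv -/
import Mathlib
import Cfsg.Agent.Lib.Helper24.PerfectLemmas

set_option autoImplicit false

namespace Cfsg.Agent.Lib.Helper24.Ord4320

open Module LinearMap Cfsg

universe u

/-- an involutory endomorphism: trace and determinant in terms of the dimension of the `-1`-eigenspace -/
theorem involution_trace_det {K V : Type*} [Field K] (h2 : (2 : K) ≠ 0) [AddCommGroup V] [Module K V]
    [FiniteDimensional K V] (A : V →ₗ[K] V) (hA : A * A = 1) :
    ∃ b : ℕ, LinearMap.trace K V A = (finrank K V : K) - 2 * (b : K) ∧ LinearMap.det A = (-1) ^ b := by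
  set E : V →ₗ[K] V := (2 : K)⁻¹ • (1 - A) with hE
  have hidem : IsIdempotentElem E := by
    show E * E = E
    rw [hE, smul_mul_smul_comm, mul_sub, sub_mul, sub_mul, one_mul, mul_one, one_mul, hA]
    have : (1 : V →ₗ[K] V) - A - (A - 1) = (2 : K) • (1 - A) := by
      rw [two_smul]; abel
    rw [this, smul_smul]
    congr 1
    field_simp
  have hAE : A = 1 - (2 : K) • E := by
    rw [hE, smul_smul, mul_inv_cancel₀ h2, one_smul]; abel
  have hproj := IsIdempotentElem.isProj_range E hidem
  set p := range E with hp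
  refine ⟨finrank K p, ?_, ?_⟩
  · rw [hAE, map_sub, map_smul, hproj.trace, LinearMap.trace_one, smul_eq_mul]
  · have h1 := hproj.eq_conj_prodMap
    have h3 : A = (p.prodEquivOfIsCompl (ker E) hproj.isCompl).conj
        (prodMap (-(LinearMap.id : p →ₗ[K] p)) (LinearMap.id : ker E →ₗ[K] ker E)) := by
      have h4 : prodMap (-(LinearMap.id : p →ₗ[K] p)) (LinearMap.id : ker E →ₗ[K] ker E) =
          LinearMap.id - (2 : K) • prodMap (LinearMap.id : p →ₗ[K] p) (0 : ker E →ₗ[K] ker E) := by
        ext x
        all_goals simp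
        all_goals module
      rw [h4, map_sub, map_smul, ← h1, LinearEquiv.conj_id]
      exact hAE
    rw [h3, LinearEquiv.conj_apply, LinearMap.comp_assoc, LinearMap.det_conj, LinearMap.det_prodMap,
      LinearMap.det_id, mul_one]
    have : (-(LinearMap.id : p →ₗ[K] p)) = (-1 : K) • (LinearMap.id : p →ₗ[K] p) := by ext x; simp
    rw [this, LinearMap.det_smul, LinearMap.det_id, mul_one]

/-- in a perfect group, the value of an irreducible character at an involution is an integer congruent to the
degree modulo `4` (the determinant of the representation is trivial) -/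
theorem irr_invol_mod_four {G : Type u} [Group G] (hperf : commutator G = ⊤) (χ : IrrCharacter G)
    (w : G) (hw : w * w = 1) :
    ∃ c k : ℤ, (χ : G → ℂ) w = (c : ℂ) ∧ (charDegree (χ : G → ℂ) : ℤ) - c = 4 * k := by
  have hdeg := irr_apply_one χ
  obtain ⟨χf, n, ρ, hirr, rfl⟩ := χ
  change ρ.character 1 = (charDegree ρ.character : ℂ) at hdeg
  rw [Representation.char_one] at hdeg
  have hdeg' : finrank ℂ (Fin n → ℂ) = charDegree ρ.character := by exact_mod_cast hdeg
  show ∃ c k : ℤ, ρ.character w = (c : ℂ) ∧ (charDegree ρ.character : ℤ) - c = 4 * k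
  have hA : ρ w * ρ w = 1 := by rw [← map_mul, hw, map_one]
  let φ : G →* ℂ := (LinearMap.det : ((Fin n → ℂ) →ₗ[ℂ] (Fin n → ℂ)) →* ℂ).comp ρ
  have hφ : ∀ g : G, φ.toHomUnits g = 1 :=
    hom_eq_one_of_perfect hperf φ.toHomUnits (fun a b => mul_comm _ _)
  have hdet : LinearMap.det (ρ w) = 1 := by
    have := congrArg (fun u : ℂˣ => (u : ℂ)) (hφ w)
    simpa [φ] using this
  obtain ⟨b, hb1, hb2⟩ := involution_trace_det (K := ℂ) two_ne_zero (ρ w) hA
  rw [hdet] at hb2
  have heven : Even b := by
    have := (neg_one_pow_eq_one_iff_even (R := ℂ) (by norm_num)).mp hb2.symm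
    exact this
  obtain ⟨k, hk⟩ := heven
  refine ⟨(charDegree ρ.character : ℤ) - 4 * k, k, ?_, by ring⟩
  show LinearMap.trace ℂ (Fin n → ℂ) (ρ w) = _
  rw [hb1, hdeg', hk]
  push_cast
  ring

end Cfsg.Agent.Lib.Helper24.Ord4320
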