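/- helper24: S0977 (order 4320) support file Ord4320E: 216 Sylow 5-subgroups, self-centralizing (characters) -/
import Mathlib
import Cfsg.Agent.Lib.Helper24.Ord4320D
import Cfsg.Agent.Lib.Helper24.Ord4320Inv
import Cfsg.Agent.Lib.Helper24.Ord4320Cnt
import Cfsg.Agent.Lib.Helper24.Ord4320Core
import Cfsg.Agent.Lib.Helper24.IntLemmas
import Cfsg.Agent.Lib.Helper12.BSFDeg

set_option autoImplicit false
set_option linter.unusedSectionVars false
set_option linter.style.haveILetI false

namespace Cfsg.Agent.Lib.Helper24.Ord4320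

open Cfsg Cfsg.Agent.Lib.Helper7
open scoped ComplexConjugate

universe u

variable {G : Type u} [Group G] [Finite G]

/-- the value of an irreducible character at a generator `x` of a subgroup `P` of order 5 all of whose nonidentity
elements are conjugate to `x` is an integer congruent to the degree modulo 5 -/
theorem irr_value_order_five (P : Subgroup G) (hP : Nat.card ↥P = 5) (x : G)
    (hconj : ∀ f ∈ P, f ≠ 1 → IsConj x f) (χ : IrrCharacter G) :
    ∃ a : ℤ, (χ : G → ℂ) x = (a : ℂ) ∧ (5 : ℤ) ∣ (charDegree (χ : G → ℂ) : ℤ) - a := by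
  classical
  haveI : Fintype ↥P := Fintype.ofFinite _
  obtain ⟨m, hm⟩ := irr_sum_subgroup χ P
  have hval : ∀ z : ↥P, z ≠ 1 → (χ : G → ℂ) (z : G) = (χ : G → ℂ) x := by
    intro z hz
    have hz' : (z : G) ≠ 1 := fun h => hz (Subtype.ext h)
    obtain ⟨g, hg⟩ := isConj_iff.mp (hconj z z.2 hz')
    rw [← hg]
    exact irr_conj χ x g
  have hsum : ∑ z : ↥P, (χ : G → ℂ) (z : G) = (χ : G → ℂ) 1 + 4 * (χ : G → ℂ) x := by
    rw [← Finset.add_sum_erase Finset.univ _ (Finset.mem_univ (1 : ↥P))]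
    congr 1
    have h1 : ∀ z ∈ (Finset.univ : Finset ↥P).erase 1, (χ : G → ℂ) (z : G) = (χ : G → ℂ) x := by
      intro z hz
      exact hval z (Finset.ne_of_mem_erase hz)
    rw [Finset.sum_congr rfl h1, Finset.sum_const, Finset.card_erase_of_mem (Finset.mem_univ _),
      Finset.card_univ, ← Nat.card_eq_fintype_card, hP]
    simp
  rw [hsum, hP, irr_apply_one χ] at hm
  set f := charDegree (χ : G → ℂ) with hf
  have h4 : (((5 * (m : ℤ) - (f : ℤ)) : ℤ) : ℂ) = ((4 : ℤ) : ℂ) * (χ : G → ℂ) x := by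
    push_cast
    push_cast at hm
    linear_combination -hm
  obtain ⟨a, ha⟩ := int_dvd_of_eq_mul_isIntegral (by norm_num) (irr_isIntegral χ x) h4
  refine ⟨a, ?_, ⟨(m : ℤ) - a, by linarith⟩⟩
  rw [ha] at h4
  push_cast at h4
  have h4' : (4 : ℂ) * (χ : G → ℂ) x = 4 * (a : ℂ) := by linear_combination -h4
  exact mul_left_cancel₀ (by norm_num) h4'

/-- the case of 216 Sylow 5-subgroups with `C(P) = P` -/
theorem case216B [IsSimpleGroup G] (hG : Nat.card G = 4320) [Fact (Nat.Prime 5)] (P : Sylow 5 G)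
    (hP : Nat.card ↥(P : Subgroup G) = 5)
    (hNc : Nat.card ↥(Subgroup.normalizer ((P : Subgroup G) : Set G)) = 20)
    (hCc : Nat.card ↥(Subgroup.centralizer ((P : Subgroup G) : Set G)) = 5) : False := by
  classical
  obtain ⟨x, w, hxP, hxo, hwo, hCx, hconj, hcnt, hzb⟩ := frob20_data hG P hP hNc hCc
  haveI : Fintype G := Fintype.ofFinite G
  haveI : Fintype (IrrCharacter G) := Cfsg.Agent.CharLib.fintypeIrr G
  have hcardG : Fintype.card G = 4320 := by rw [← Nat.card_eq_fintype_card, hG]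
  have hnc : ¬ IsMulCommutative G := by
    apply not_comm_of_card_not_prime
    rw [hG]; norm_num
  have hperf : commutator G = ⊤ := Cfsg.Agent.Lib.Helper12.BSF.commutator_eq_top_of_simple hnc
  have hww : w * w = 1 := Cfsg.Agent.Lib.Helper8.SmallSimple.mul_self_of_orderOf_two hwo
  choose a ha1 ha2 using fun χ : IrrCharacter G => irr_value_order_five (P : Subgroup G) hP x hconj χ
  choose c k hc1 hc2 using fun χ : IrrCharacter G => irr_invol_mod_four hperf χ w hww
  set z := Nat.card ↥(Subgroup.centralizer ({w} : Set G)) with hz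
  have hx1 : x ≠ 1 := by
    intro h
    rw [h, orderOf_one] at hxo
    omega
  have hxw : ¬ IsConj x w := by
    intro h
    obtain ⟨g, hg⟩ := isConj_iff.mp h
    have := MulEquiv.orderOf_eq (MulAut.conj g) x
    rw [MulAut.conj_apply, hg, hwo, hxo] at this
    omega
  have hdeg : ∀ χ : IrrCharacter G, (χ : G → ℂ) 1 = (charDegree (χ : G → ℂ) : ℂ) := irr_apply_one
  apply arith_core a c (fun χ => charDegree (χ : G → ℂ)) (trivIrr G) z
  · -- a triv = 1
    have := ha1 (trivIrr G)
    have h1 : ((trivIrr G : IrrCharacter G) : G → ℂ) x = 1 := rfl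
    rw [h1] at this
    exact_mod_cast this.symm
  · have := hc1 (trivIrr G)
    have h1 : ((trivIrr G : IrrCharacter G) : G → ℂ) w = 1 := rfl
    rw [h1] at this
    exact_mod_cast this.symm
  · exact charDegree_trivIrr
  · intro χ h1
    apply Subtype.ext
    exact Cfsg.Agent.Lib.Helper12.BSF.eq_one_of_charDegree_one hperf χ h1
  · intro χ
    have := irr_charDegree_dvd_card χ
    rwa [hG] at this
  · rw [sum_charDegree_sq, hcardG]
  · exact ha2
  · intro χ
    exact ⟨k χ, hc2 χ⟩
  · -- E1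
    have h := Cfsg.Agent.CharLib.sum_irr_mul_conj x x
    simp only [Cfsg.Agent.CharLib.classIndicator, IsConj.refl, if_true, one_mul] at h
    rw [hCx] at h
    have h2 : ∑ χ : IrrCharacter G, (χ : G → ℂ) x * conj ((χ : G → ℂ) x) =
        ((∑ χ : IrrCharacter G, a χ ^ 2 : ℤ) : ℂ) := by
      push_cast
      apply Finset.sum_congr rfl
      intro χ _
      rw [ha1 χ, map_intCast]
      ring
    rw [h2] at h
    exact_mod_cast h
  · -- E2
    have h := sum_irr_degree_mul (G := G) x
    rw [if_neg hx1] at h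
    have h2 : ∑ χ : IrrCharacter G, (χ : G → ℂ) 1 * (χ : G → ℂ) x =
        ((∑ χ : IrrCharacter G, (charDegree (χ : G → ℂ) : ℤ) * a χ : ℤ) : ℂ) := by
      push_cast
      apply Finset.sum_congr rfl
      intro χ _
      rw [ha1 χ, hdeg χ]
    rw [h2] at h
    exact_mod_cast h
  · -- E3
    have h := Cfsg.Agent.CharLib.sum_irr_mul_conj w w
    simp only [Cfsg.Agent.CharLib.classIndicator, IsConj.refl, if_true, one_mul] at h
    have h2 : ∑ χ : IrrCharacter G, (χ : G → ℂ) w * conj ((χ : G → ℂ) w) =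
        ((∑ χ : IrrCharacter G, c χ ^ 2 : ℤ) : ℂ) := by
      push_cast
      apply Finset.sum_congr rfl
      intro χ _
      rw [hc1 χ, map_intCast]
      ring
    rw [h2, ← hz] at h
    exact_mod_cast h
  · -- E5
    have h := Cfsg.Agent.CharLib.sum_irr_mul_conj x w
    simp only [Cfsg.Agent.CharLib.classIndicator, if_neg hxw, zero_mul] at h
    have h2 : ∑ χ : IrrCharacter G, (χ : G → ℂ) x * conj ((χ : G → ℂ) w) =
        ((∑ χ : IrrCharacter G, a χ * c χ : ℤ) : ℂ) := by
      push_cast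
      apply Finset.sum_congr rfl
      intro χ _
      rw [ha1 χ, hc1 χ, map_intCast]
    rw [h2] at h
    exact_mod_cast h
  · -- E4
    have h := class_mul_count (G := G) w w x
    rw [card_pairs_conj, hcnt, ← hz, hcardG] at h
    have h2 : ∑ χ : IrrCharacter G, (χ : G → ℂ) w * (χ : G → ℂ) w * (χ : G → ℂ) x⁻¹ / (χ : G → ℂ) 1 =
        ((∑ χ : IrrCharacter G, ((c χ : ℚ) ^ 2 * (a χ : ℚ) / (charDegree (χ : G → ℂ) : ℚ)) : ℚ) : ℂ) := by
      push_cast
      apply Finset.sum_congr rfl
      intro χ _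
      rw [irr_apply_inv, ha1 χ, hc1 χ, hdeg χ, map_intCast]
      ring
    rw [h2] at h
    have h3 : (((5 * (z * z) : ℕ) : ℚ) : ℂ) = (((4320 : ℚ) *
        ∑ χ : IrrCharacter G, ((c χ : ℚ) ^ 2 * (a χ : ℚ) / (charDegree (χ : G → ℂ) : ℚ)) : ℚ) : ℂ) := by
      push_cast
      push_cast at h
      exact h
    have h4 : ((5 * (z * z) : ℕ) : ℚ) = (4320 : ℚ) *
        ∑ χ : IrrCharacter G, ((c χ : ℚ) ^ 2 * (a χ : ℚ) / (charDegree (χ : G → ℂ) : ℚ)) := by
      exact_mod_cast h3
    push_cast at h4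
    linarith
  · exact hzb

end Cfsg.Agent.Lib.Helper24.Ord4320
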