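/- helper24: typed nondegenerate subspaces A: existence in all characteristics -/
import Mathlib
import Cfsg.Agent.Lib.Helper12.OrNF
import Cfsg.Agent.Lib.Helper24.OrH

set_option autoImplicit false

namespace Cfsg.Agent.Lib.Helper24.Ot

open Module QuadraticMap Cfsg.Agent.Lib.Helper12.Elus Cfsg.Agent.Lib.Helper12.Un
  Cfsg.Agent.Lib.Helper12.OrN
  Cfsg.Agent.Lib.Helper15 Cfsg.Agent.Lib.Helper15.QuadType Cfsg.Agent.Lib.Helper15.OrthSemi
  Cfsg.Agent.Lib.Helper15.PolarForms

universe u

section typed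

variable {F : Type u} [Field F] [Fintype F] {V : Type*} [AddCommGroup V] [Module F V]
  [FiniteDimensional F V] (Q : QuadraticForm F V)

/-- the sign of a type is `1` or `-1`, as integers these are different -/
theorem sign_cases {ε : ℤ} (hε : ε = 1 ∨ ε = -1) : ε * ε = 1 := by
  rcases hε with rfl | rfl <;> norm_num

/-- nondegenerate subspaces of every admissible dimension and type inside a nondegenerate
even-dimensional subspace, all characteristics -/
theorem exists_typed_sub' (U : Submodule F V) (hU : Nd Q U) (a : ℕ) (hdim : finrank F U = 2 * a)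
    (εU : ℤ) (hεU : εU = 1 ∨ εU = -1) (htU : TypeOn Q U εU) (s : ℕ) (hs : s ≤ a) (ε : ℤ)
    (hε : ε = 1 ∨ ε = -1) (h0 : s = 0 → ε = 1) (hfull : s = a → ε = εU) :
    ∃ T : Submodule F V, T ≤ U ∧ Nd Q T ∧ finrank F T = 2 * s ∧ TypeOn Q T ε := by
  rcases Nat.eq_zero_or_pos s with rfl | hspos
  · refine ⟨⊥, bot_le, nd_bot Q, by simp, ?_⟩
    rw [h0 rfl]
    apply (typeOn_one_iff Q ⊥ (nd_bot Q) (by simp)).2
    exact ⟨⊥, le_rfl, fun u hu => by rw [(Submodule.mem_bot F).1 hu, QuadraticMap.map_zero],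
      by simp⟩
  rcases Nat.lt_or_ge s a with hlt | hge
  · -- the model
    obtain ⟨C₁, _, _, _, Q₁, hnd₁, hdim₁, ht₁⟩ := Or.exists_std_of_type (F := F) ε hε s
      (fun h => by omega)
    have hε' : ε * εU = 1 ∨ ε * εU = -1 := by
      rcases hε with rfl | rfl <;> rcases hεU with rfl | rfl <;> simp
    obtain ⟨C₂, _, _, _, Q₂, hnd₂, hdim₂, ht₂⟩ := Or.exists_std_of_type (F := F) (ε * εU) hε'
      (a - s) (fun h => by omega)
    have : Finite C₁ := Module.finite_of_finite F
    have : Finite C₂ := Module.finite_of_finite F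
    have htp := ht₁.prod ht₂
    have e1 : ε * (ε * εU) = εU := by
      rw [← mul_assoc, sign_cases hε, one_mul]
    have e2 : s + (a - s) = a := by omega
    rw [e1, e2] at htp
    have hndp : (polarBilin (Q₁.prod Q₂)).Nondegenerate := QuadReal.nondegenerate_prod Q₁ Q₂ hnd₁ hnd₂
    have hdimp : finrank F (C₁ × C₂) = 2 * a := by
      rw [Module.finrank_prod, hdim₁, hdim₂]; omega
    have hndU := nondegenerate_resQ Q U ((nd_iff Q U).1 hU)
    have htU' : HasType εU a (fun v => resQ Q U v) := by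
      unfold TypeOn at htU
      have : finrank F U / 2 = a := by omega
      rw [this] at htU
      exact htU
    obtain ⟨e, he⟩ := exists_equiv_of_same_type (resQ Q U) hndU (Q₁.prod Q₂) hndp a (by omega)
      hdim hdimp εU hεU htU' htp
    -- the embedding of the first factor
    let f : C₁ →ₗ[F] V := U.subtype.comp ((e : (C₁ × C₂) →ₗ[F] U).comp (LinearMap.inl F C₁ C₂))
    have hf : Function.Injective f := by
      intro x y hxy
      have h1 : e (x, 0) = e (y, 0) := Subtype.ext hxy
      have h2 := e.injective h1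
      exact (Prod.ext_iff.1 h2).1
    have hfQ : ∀ v, Q (f v) = Q₁ v := by
      intro v
      have h1 := he (v, 0)
      have h2 : (Q₁.prod Q₂) (v, 0) = Q₁ v := by
        show Q₁ v + Q₂ 0 = Q₁ v
        rw [QuadraticMap.map_zero, add_zero]
      rw [h2] at h1
      exact h1
    have hmap : (⊤ : Submodule F C₁).map f ≤ U := by
      rintro _ ⟨v, -, rfl⟩
      exact (e (v, 0)).2
    have hnd₁' : Nd Q₁ ⊤ := nd_top Q₁ hnd₁
    have htop : finrank F (⊤ : Submodule F C₁) = 2 * s := by rw [finrank_top, hdim₁]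
    have ht₁' : TypeOn Q₁ ⊤ ε := by
      unfold TypeOn
      have : finrank F (⊤ : Submodule F C₁) / 2 = s := by omega
      rw [this]
      exact ht₁.congr (LinearEquiv.ofTop ⊤ rfl).symm.toEquiv (fun v => rfl)
    refine ⟨(⊤ : Submodule F C₁).map f, hmap, (nd_map Q₁ Q f hf hfQ ⊤).2 hnd₁', ?_,
      typeOn_map Q₁ Q f hf hfQ ⊤ ε ht₁'⟩
    rw [← (Submodule.equivMapOfInjective f hf ⊤).finrank_eq, htop]
  · have hsa : s = a := by omega
    refine ⟨U, le_rfl, hU, by rw [hdim, hsa], ?_⟩
    rw [hfull hsa]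
    exact htU

end typed

end Cfsg.Agent.Lib.Helper24.Ot
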