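/- helper24: typed nondegenerate subspaces B: block decomposition of the moved space in all characteristics -/
import Mathlib
import Cfsg.Agent.Lib.Helper12.OrNF

set_option autoImplicit false
set_option linter.unusedSectionVars false

namespace Cfsg.Agent.Lib.Helper24.Ot

open Module Polynomial QuadraticMap Cfsg.Agent.Lib.Helper12.Elus Cfsg.Agent.Lib.Helper12.Un
  Cfsg.Agent.Lib.Helper12 Cfsg.Agent.Lib.Helper12.OrN
  Cfsg.Agent.Lib.Helper15

section ss

variable {F V : Type*} [Field F] [Fintype F] [AddCommGroup V] [Module F V]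
  [FiniteDimensional F V] {p : ℕ} [Fact p.Prime] [CharP F p]
  (Q : QuadraticForm F V) (y : V →ₗ[F] V) (r : ℕ) [Fact r.Prime]

theorem pow_mem_of_invariant (M : Submodule F V) (hM : ∀ u ∈ M, y u ∈ M) (k : ℕ) :
    ∀ u ∈ M, (y ^ k) u ∈ M := by
  induction k with
  | zero => intro u hu; simpa using hu
  | succ k ih =>
    intro u hu
    rw [pow_succ', Module.End.mul_apply]
    exact hM _ (ih u hu)

/-- on a nonzero nondegenerate invariant subspace of the moved space some vector is not
perpendicular to its image, all characteristics -/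
theorem exists_polar_shift_ne (hx : ∀ v, Q (y v) = Q v) (hrp : r ≠ p) (hr2 : r ≠ 2)
    (hy : y ^ r = 1) (M : Submodule F V) (hM : ∀ u ∈ M, y u ∈ M) (hMmov : M ≤ movR y)
    (hMnd : Nd Q M) (hM0 : M ≠ ⊥) : ∃ v ∈ M, polar Q v (y v) ≠ 0 := by
  have hr : r.Prime := Fact.out
  have hr0 : (r : F) ≠ 0 := cast_ne_zero_of_ne r hrp
  by_contra hcon
  push Not at hcon
  have hiso : ∀ u v, polar Q (y u) (y v) = polar Q u v := fun u v => pB_iso Q y hx u v
  -- polarisation
  have hpol : ∀ u ∈ M, ∀ w ∈ M, polar Q u (y w) + polar Q w (y u) = 0 := by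
    intro u hu w hw
    have h1 := hcon (u + w) (M.add_mem hu hw)
    rw [map_add, polar_add_left, polar_add_right, polar_add_right, hcon u hu, hcon w hw] at h1
    linear_combination h1
  obtain ⟨r', hr'⟩ : ∃ r', r = r' + 1 := ⟨r - 1, by have := hr.pos; omega⟩
  -- `y (y w) = - w` on `M`
  have hsq : ∀ w ∈ M, y (y w) = -w := by
    intro w hw
    have hmem : y (y w) + w ∈ M := M.add_mem (hM _ (hM _ hw)) hw
    by_contra hne
    have hne' : y (y w) + w ≠ 0 := fun h0 => hne (eq_neg_of_add_eq_zero_left h0)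
    obtain ⟨u, hu, hune⟩ := hMnd _ hmem hne'
    apply hune
    have hu' : (y ^ r') u ∈ M := pow_mem_of_invariant y M hM r' u hu
    have huy : u = y ((y ^ r') u) := by
      rw [← Module.End.mul_apply, ← pow_succ', ← hr', hy, Module.End.one_apply]
    rw [pB_apply, huy, polar_add_left, hiso, polar_comm Q (y w)]
    exact hpol _ hu' w hw
  -- hence `M` is fixed pointwise
  have hpow : ∀ k : ℕ, ∀ w ∈ M, (y ^ (2 * k)) w = (-1 : F) ^ k • w := by
    intro k
    induction k with
    | zero => intro w _; simp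
    | succ k ih =>
      intro w hw
      have e : 2 * (k + 1) = 2 * k + 1 + 1 := by ring
      rw [e, pow_succ, pow_succ, Module.End.mul_apply, Module.End.mul_apply, hsq w hw, map_neg,
        ih w hw, pow_succ]
      simp
  have hzero : ∀ w ∈ M, w = 0 := by
    intro w hw
    obtain ⟨k, hk⟩ := hr.odd_of_ne_two hr2
    have h1 : (y ^ r) w = (-1 : F) ^ k • y w := by
      rw [hk, pow_succ, Module.End.mul_apply, hpow k (y w) (hM w hw)]
    rw [hy, Module.End.one_apply] at h1
    rcases neg_one_pow_eq_or F k with h2 | h2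
    · rw [h2, one_smul] at h1
      have : w ∈ fixE y ⊓ movR y := ⟨(mem_fixE y w).2 h1.symm, hMmov hw⟩
      rw [fix_inf_mov y r hy hr0] at this
      exact (Submodule.mem_bot F).1 this
    · rw [h2, neg_one_smul] at h1
      have h3 : y w = -w := by
        have := congrArg Neg.neg h1
        rw [neg_neg] at this
        exact this.symm
      have h4 : y (y w) = y w := by rw [hsq w hw, h3]
      have : y w ∈ fixE y ⊓ movR y := ⟨(mem_fixE y _).2 h4, hMmov (hM w hw)⟩
      rw [fix_inf_mov y r hy hr0] at this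
      have h5 : y w = 0 := (Submodule.mem_bot F).1 this
      rw [h5] at h3
      exact neg_eq_zero.1 h3.symm
  apply hM0
  rw [eq_bot_iff]
  intro w hw
  rw [Submodule.mem_bot]
  exact hzero w hw

/-- peeling a minimal invariant nondegenerate subspace off the moved space -/
theorem peel' (hx : ∀ v, Q (y v) = Q v) (hrp : r ≠ p) (hr2 : r ≠ 2)
    (hy : y ^ r = 1) (R : Submodule F V) (hR : ∀ u ∈ R, y u ∈ R) (hRM : R ≤ movR y)
    (hRnd : Nd Q R) (hR0 : R ≠ ⊥) :
    ∃ C : Submodule F V, (∀ u ∈ C, y u ∈ C) ∧ Nd Q C ∧ C ≤ R ∧ C ≠ ⊥ ∧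
      finrank F C = Sp.blockDim (Fintype.card F) r := by
  classical
  have hr : r.Prime := Fact.out
  have hr0 : (r : F) ≠ 0 := cast_ne_zero_of_ne r hrp
  have hiso := pB_iso Q y hx
  set i₀ := orderOf (Fintype.card F : ZMod r) with hi₀
  have hipos : 0 < i₀ := orderOf_card_pos r hrp
  by_cases hev : Even i₀
  · -- the self-dual case
    have hcd : Sp.blockDim (Fintype.card F) r = i₀ := by
      unfold Sp.blockDim
      rw [if_pos hev]
    rw [hcd]
    obtain ⟨m, hm'⟩ := hev
    have hm0 : 0 < m := by omega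
    have hdvd : r ∣ Fintype.card F ^ m + 1 :=
      Sp.dvd_pow_half_add_one r (Fintype.card F) m hm0 (by rw [← hi₀, hm']; ring)
    have hq0 : ((Fintype.card F : ℕ) : ZMod r) ≠ 0 := by
      rw [Ne, ZMod.natCast_eq_zero_iff]
      exact card_not_dvd (F := F) r hr hrp
    have hidvd : i₀ ∣ r - 1 := orderOf_dvd_of_pow_eq_one (ZMod.pow_card_sub_one_eq_one hq0)
    set t := (r - 1) / i₀ with ht
    have hti : t * i₀ = r - 1 := Nat.div_mul_cancel hidvd
    obtain ⟨h, hmon, hirr, hnone, hdeg, hprod⟩ :=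
      PrimeOrderClasses.exists_factor_family (F := F) (p := p) rfl r i₀ t hr hrp hi₀ hti
    have hsq : Squarefree (∏ o, h o) := by
      rw [hprod]
      have := (separable_X_pow_sub_C (1 : F) hr0 one_ne_zero).squarefree
      rwa [map_one] at this
    have hcop := PrimeOrderClasses.family_coprime h hmon hirr hsq
    have hkill : ∀ u ∈ R, aeval y (∏ j ∈ (Finset.univ : Finset (Fin t)), h (some j)) u = 0 := by
      intro u hu
      obtain ⟨w, rfl⟩ := hRM hu
      have h1 : (y - 1) w = aeval y (h none) w := by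
        rw [hnone, map_sub, aeval_X, map_one]
      rw [h1, ← Module.End.mul_apply, ← map_mul]
      have h2' : (∏ j : Fin t, h (some j)) * h none = X ^ r - 1 := by
        rw [← hprod, Fintype.prod_option, mul_comm]
      rw [h2', map_sub, map_pow, aeval_X, map_one, hy, sub_self, LinearMap.zero_apply]
    -- a nonzero primary component
    obtain ⟨j₀, hj₀⟩ : ∃ j₀ : Fin t, R ⊓ LinearMap.ker (aeval y (h (some j₀))) ≠ ⊥ := by
      by_contra hcon
      push Not at hcon
      have hmain := Sp.finrank_le_of_family y (fun j : Fin t => h (some j)) 0 R (by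
        intro j' N' _ hN'R hN'h
        have : N' ≤ R ⊓ LinearMap.ker (aeval y (h (some j'))) :=
          le_inf hN'R (fun u hu => LinearMap.mem_ker.2 (hN'h u hu))
        rw [hcon j', le_bot_iff] at this
        rw [this, finrank_bot]) Finset.univ (by
        intro j₁ _ j₂ _ hne
        exact hcop (some j₁) (some j₂) (fun h' => hne (Option.some_injective _ h'))) R hR le_rfl
        hkill
      rw [zero_mul, Nat.le_zero] at hmain
      exact hR0 (Submodule.finrank_eq_zero.1 hmain)
    set M' := R ⊓ LinearMap.ker (aeval y (h (some j₀))) with hM'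
    have hM'inv : ∀ u ∈ M', y u ∈ M' :=
      Sp.inf_invariant y _ _ hR (Sp.ker_aeval_invariant y _)
    set g := ∏ j ∈ (Finset.univ : Finset (Fin t)).erase j₀, h (some j) with hg
    have hcg : IsCoprime (h (some j₀)) g := by
      apply IsCoprime.prod_right
      intro j' hj'
      exact hcop (some j₀) (some j')
        (fun h' => (Finset.ne_of_mem_erase hj') (Option.some_injective _ h').symm)
    have hkill' : ∀ u ∈ R, aeval y (h (some j₀) * g) u = 0 := by
      intro u hu
      rw [hg, Finset.mul_prod_erase Finset.univ (fun j => h (some j)) (Finset.mem_univ j₀)]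
      exact hkill u hu
    have hM'nd : Nd Q M' := by
      apply ndOn_of_orth_sum (pB Q) M' (R ⊓ LinearMap.ker (aeval y g)) R
      · apply le_antisymm
        · exact sup_le inf_le_left inf_le_left
        · exact Sp.split_coprime y R hR _ _ hcg hkill'
      · intro a ha c hc
        exact ker_orth Q y r hx hy m hdvd _ _ hcg a ha.2 c hc.2
      · exact hRnd
    obtain ⟨v, hvM', hvv⟩ := exists_polar_shift_ne Q y r hx hrp hr2 hy M' hM'inv
      (inf_le_left.trans hRM) hM'nd hj₀
    have hv0 : v ≠ 0 := by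
      intro h0
      rw [h0, map_zero, polar_zero_left] at hvv
      exact hvv rfl
    obtain ⟨hUinv, -⟩ := Sp.cyc_of_aeval y v (h (some j₀)) (hmon _) i₀ (hdeg j₀)
      (LinearMap.mem_ker.1 hvM'.2)
    have hUR : cyc y v i₀ ≤ R := Sp.cyc_le y v i₀ R hR hvM'.1
    have hvU : v ∈ cyc y v i₀ := self_mem_cyc y v i₀ hipos
    have hU0 : cyc y v i₀ ≠ ⊥ := by
      intro h0
      rw [h0] at hvU
      exact hv0 ((Submodule.mem_bot F).1 hvU)
    have hUdim : finrank F (cyc y v i₀) = i₀ :=
      Sp.finrank_eq_of_le y r hy hr0 _ hUinv (hUR.trans hRM) hU0 (finrank_cyc_le y v i₀)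
    refine ⟨cyc y v i₀, hUinv, ?_, hUR, hU0, hUdim⟩
    have hOinv := orth_invariant (pB Q) y hiso r hr.pos hy _ hUinv
    rcases Sp.irred_sub y r hy hr0 (cyc y v i₀) (hUR.trans hRM) hUdim
      (cyc y v i₀ ⊓ orth (pB Q) (cyc y v i₀)) (Sp.inf_invariant y _ _ hUinv hOinv) inf_le_left with
      h0 | h1
    · show NdOn (pB Q) _
      rw [ndOn_iff_disjoint (pB Q) (pB_sym Q), disjoint_iff]
      exact h0
    · exfalso
      have : v ∈ cyc y v i₀ ⊓ orth (pB Q) (cyc y v i₀) := by rw [h1]; exact hvU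
      apply hvv
      have h9 := this.2 (y v) (hUinv v hvU)
      rw [pB_apply, polar_comm] at h9
      exact h9
  · -- the non-self-dual case
    have hcd : Sp.blockDim (Fintype.card F) r = 2 * i₀ := by
      unfold Sp.blockDim
      rw [if_neg hev]
    rw [hcd]
    obtain ⟨I, hIR, hIinv, hIdim⟩ := Sp.exists_irred_sub y r hrp hy hr0 R hR hRM hR0
    have hOinv := orth_invariant (pB Q) y hiso r hr.pos hy _ hIinv
    have hIiso : I ≤ orth (pB Q) I := by
      rcases Sp.irred_sub y r hy hr0 I (hIR.trans hRM) hIdim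
        (I ⊓ orth (pB Q) I) (Sp.inf_invariant y _ _ hIinv hOinv) inf_le_left with h0 | h1
      · exfalso
        have hInd : Nd Q I := by
          show NdOn (pB Q) _
          rw [ndOn_iff_disjoint (pB Q) (pB_sym Q), disjoint_iff]
          exact h0
        have := OrthSemi.even_finrank_of_fpf Q y hx r hr2 hy hr0 I hIinv (hIR.trans hRM)
          ((nd_iff Q I).1 hInd)
        rw [hIdim] at this
        exact hev this
      · exact inf_eq_left.1 h1
    obtain ⟨N, hNR, -, hNinv, hNnd, hNdim, -⟩ := peel_iso (pB Q) pB_id (pB_sym Q) y hiso r hr.pos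
      hy hr0 R hR hRnd I hIR hIinv hIiso
    have hCdim := finrank_inf_orth (pB Q) pB_id (pB_sym Q) R N hNR hNnd
    refine ⟨R ⊓ orth (pB Q) N,
      Sp.inf_invariant y _ _ hR (orth_invariant (pB Q) y hiso r hr.pos hy N hNinv),
      ndOn_inf_orth (pB Q) pB_id (pB_sym Q) R N hRnd hNR hNnd, inf_le_left, ?_, ?_⟩
    · intro h0
      rw [h0, finrank_bot] at hCdim
      omega
    · omega

/-- the moved space is an orthogonal sum of minimal invariant nondegenerate subspaces -/
theorem chain' (hx : ∀ v, Q (y v) = Q v) (hrp : r ≠ p) (hr2 : r ≠ 2)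
    (hy : y ^ r = 1) (R : Submodule F V) (hR : ∀ u ∈ R, y u ∈ R) (hRM : R ≤ movR y)
    (hRnd : Nd Q R) :
    ∃ t : ℕ, finrank F R = Sp.blockDim (Fintype.card F) r * t ∧
      ∀ j : ℕ, j ≤ t → ∃ W : Submodule F V, (∀ u ∈ W, y u ∈ W) ∧ Nd Q W ∧ W ≤ R ∧
        finrank F W = Sp.blockDim (Fintype.card F) r * j := by
  have hr : r.Prime := Fact.out
  have hiso := pB_iso Q y hx
  obtain ⟨t, ht, hsel⟩ := Cfsg.Agent.Lib.Helper22.NdUn.gdl_const (pB Q) pB_id (pB_sym Q)
    (fun W => (∀ u ∈ W, y u ∈ W) ∧ Nd Q W ∧ W ≤ movR y) (Sp.blockDim (Fintype.card F) r)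
    (fun _ h => h.2.1)
    (fun U C hU hC hCU =>
      ⟨Sp.inf_invariant y _ _ hU.1 (orth_invariant (pB Q) y hiso r hr.pos hy C hC.1),
        ndOn_inf_orth (pB Q) pB_id (pB_sym Q) U C hU.2.1 hCU hC.2.1, inf_le_left.trans hU.2.2⟩)
    (fun C W hC hW hWC => ⟨sup_invariant y C W hC.1 hW.1,
      ndOn_sup (pB Q) (pB_sym Q) C W hC.2.1 hW.2.1 (fun a ha c hc => hWC hc a ha),
      sup_le hC.2.2 hW.2.2⟩)
    (fun U hU hU0 => by
      obtain ⟨C, hC1, hC2, hC3, hC4, hC5⟩ := peel' Q y r hx hrp hr2 hy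
        U hU.1 hU.2.2 hU.2.1 hU0
      exact ⟨C, ⟨hC1, hC2, hC3.trans hU.2.2⟩, hC3, hC4, hC5⟩) R ⟨hR, hRnd, hRM⟩
  refine ⟨t, ht, fun j hj => ?_⟩
  obtain ⟨W, hW, hWR, hWdim⟩ := hsel j hj
  exact ⟨W, hW.1, hW.2.1, hWR, hWdim⟩

end ss

end Cfsg.Agent.Lib.Helper24.Ot
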