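/- helper24: typed nondegenerate subspaces C: the criterion for semisimple isometries of odd prime order -/
import Mathlib
import Cfsg.Agent.Lib.Helper24.OtA
import Cfsg.Agent.Lib.Helper24.OtB

set_option autoImplicit false
set_option linter.unusedSectionVars false

namespace Cfsg.Agent.Lib.Helper24.Ot

open Module Polynomial QuadraticMap Cfsg.Agent.Lib.Helper12.Elus Cfsg.Agent.Lib.Helper12.Un
  Cfsg.Agent.Lib.Helper12 Cfsg.Agent.Lib.Helper12.OrN
  Cfsg.Agent.Lib.Helper15 Cfsg.Agent.Lib.Helper15.QuadType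

/-- the sign of a block: `-1` when `ord_r(q)` is even, `1` otherwise -/
noncomputable def ec (q r : ℕ) : ℤ := if Even (orderOf (q : ZMod r)) then -1 else 1

theorem ec_cases (q r : ℕ) : ec q r = 1 ∨ ec q r = -1 := by
  unfold ec
  split_ifs <;> simp

theorem ec_pow_cases (q r j : ℕ) : ec q r ^ j = 1 ∨ ec q r ^ j = -1 := by
  rcases ec_cases q r with h | h
  · left; rw [h, one_pow]
  · rw [h]
    rcases Nat.even_or_odd j with hj | hj
    · left; exact hj.neg_one_pow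
    · right; exact hj.neg_one_pow

theorem one_ne_neg_one_zmod (r : ℕ) [Fact r.Prime] (hr2 : r ≠ 2) : (1 : ZMod r) ≠ -1 := by
  have hr : r.Prime := Fact.out
  intro h
  have h3 : ((2 : ℕ) : ZMod r) = 0 := by
    push_cast
    linear_combination h
  rw [ZMod.natCast_eq_zero_iff] at h3
  have := Nat.le_of_dvd (by norm_num) h3
  have := hr.two_le
  omega

theorem sign_eq_of_zmod (r : ℕ) [Fact r.Prime] (hr2 : r ≠ 2) {ε ε' : ℤ}
    (hε : ε = 1 ∨ ε = -1) (hε' : ε' = 1 ∨ ε' = -1) (h : (ε : ZMod r) = (ε' : ZMod r)) :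
    ε = ε' := by
  have hne := one_ne_neg_one_zmod r hr2
  rcases hε with rfl | rfl <;> rcases hε' with rfl | rfl
  · rfl
  · exfalso; apply hne; push_cast at h; exact h
  · exfalso; apply hne; push_cast at h; exact h.symm
  · rfl

/-- the power of `q` attached to `j` blocks -/
theorem pow_block (q r : ℕ) [Fact r.Prime] (hr2 : r ≠ 2) (hq : ¬ r ∣ q) (j : ℕ) :
    ((q : ℕ) : ZMod r) ^ (Sp.blockDim q r * j / 2) = ((ec q r ^ j : ℤ) : ZMod r) := by
  have hr : r.Prime := Fact.out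
  have hq0 : ((q : ℕ) : ZMod r) ≠ 0 := by
    rw [Ne, ZMod.natCast_eq_zero_iff]
    exact hq
  have hipos : 0 < orderOf ((q : ℕ) : ZMod r) := by
    have h1 := ZMod.pow_card_sub_one_eq_one hq0
    have h2 := orderOf_dvd_of_pow_eq_one h1
    have h3 : 0 < r - 1 := by have := hr.two_le; omega
    exact Nat.pos_of_dvd_of_pos h2 h3
  unfold Sp.blockDim ec
  split_ifs with hev
  · obtain ⟨m, hm⟩ := hev
    have hm0 : 0 < m := by omega
    have hdvd := Sp.dvd_pow_half_add_one r q m hm0 (by rw [hm]; ring)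
    have h1 : ((q : ℕ) : ZMod r) ^ m = -1 := by
      have : (((q ^ m + 1 : ℕ)) : ZMod r) = 0 := (ZMod.natCast_eq_zero_iff _ _).2 hdvd
      push_cast at this
      linear_combination this
    have e : orderOf ((q : ℕ) : ZMod r) * j / 2 = m * j := by
      rw [hm]
      have : (m + m) * j = 2 * (m * j) := by ring
      rw [this, Nat.mul_div_cancel_left _ (by norm_num : 0 < 2)]
    rw [e, pow_mul, h1]
    push_cast
    rfl
  · have e : 2 * orderOf ((q : ℕ) : ZMod r) * j / 2 = orderOf ((q : ℕ) : ZMod r) * j := by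
      rw [mul_assoc, Nat.mul_div_cancel_left _ (by norm_num : 0 < 2)]
    rw [e, pow_mul, pow_orderOf_eq_one, one_pow, one_pow]
    push_cast
    rfl

section ss

variable {F V : Type*} [Field F] [Fintype F] [AddCommGroup V] [Module F V]
  [FiniteDimensional F V] {p : ℕ} [Fact p.Prime] [CharP F p]
  (Q : QuadraticForm F V) (y : V →ₗ[F] V) (r : ℕ) [Fact r.Prime]

/-- the type of an invariant nondegenerate sum of `j` blocks -/
theorem type_block (hx : ∀ v, Q (y v) = Q v) (hrp : r ≠ p) (hr2 : r ≠ 2) (hy : y ^ r = 1)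
    (W : Submodule F V) (hW : ∀ u ∈ W, y u ∈ W) (hWM : W ≤ movR y) (ε : ℤ)
    (hε : ε = 1 ∨ ε = -1) (ht : TypeOn Q W ε) (j : ℕ)
    (hdim : finrank F W = Sp.blockDim (Fintype.card F) r * j) :
    ε = ec (Fintype.card F) r ^ j := by
  have hr : r.Prime := Fact.out
  have h1 := type_of_fpf Q y r hx hrp hy W hW hWM ε ht
  rw [hdim, pow_block (Fintype.card F) r hr2 (card_not_dvd (F := F) r hr hrp) j] at h1
  exact (sign_eq_of_zmod r hr2 (ec_pow_cases _ _ _) hε h1).symm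

end ss

end Cfsg.Agent.Lib.Helper24.Ot

namespace Cfsg.Agent.Lib.Helper24.Ot

open Module Polynomial QuadraticMap Cfsg.Agent.Lib.Helper12.Elus Cfsg.Agent.Lib.Helper12.Un
  Cfsg.Agent.Lib.Helper12 Cfsg.Agent.Lib.Helper12.OrN
  Cfsg.Agent.Lib.Helper15 Cfsg.Agent.Lib.Helper15.QuadType

section crit

variable {F V : Type*} [Field F] [Fintype F] [AddCommGroup V] [Module F V]
  [FiniteDimensional F V] {p : ℕ} [Fact p.Prime] [CharP F p]
  (Q : QuadraticForm F V) (y : V →ₗ[F] V) (r : ℕ) [Fact r.Prime]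

theorem typeOn_bot : TypeOn Q (⊥ : Submodule F V) 1 := by
  apply (typeOn_one_iff Q ⊥ (nd_bot Q) (by simp)).2
  exact ⟨⊥, le_rfl, fun u hu => by rw [(Submodule.mem_bot F).1 hu, QuadraticMap.map_zero],
    by simp⟩

theorem blockDim_even' (q : ℕ) : Even (Sp.blockDim q r) := by
  unfold Sp.blockDim
  split_ifs with h
  · exact h
  · exact ⟨orderOf (q : ZMod r), by ring⟩

/-- the structure of a semisimple isometry of odd prime order: fixed space and moved space -/
theorem ss_parts (hQ : Nd Q ⊤) (hx : ∀ v, Q (y v) = Q v) (hrp : r ≠ p) (hr2 : r ≠ 2)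
    (hy : y ^ r = 1) (n : ℕ) (hn : finrank F V = 2 * n) (εV : ℤ) (hεV : εV = 1 ∨ εV = -1)
    (htV : TypeOn Q ⊤ εV) :
    ∃ t : ℕ, finrank F (movR y) = Sp.blockDim (Fintype.card F) r * t ∧
      finrank F (fixE y) + Sp.blockDim (Fintype.card F) r * t = 2 * n ∧
      Nd Q (fixE y) ∧ Nd Q (movR y) ∧
      TypeOn Q (fixE y) (εV * ec (Fintype.card F) r ^ t) ∧
      ∀ j : ℕ, j ≤ t → ∃ W : Submodule F V, (∀ u ∈ W, y u ∈ W) ∧ Nd Q W ∧ W ≤ movR y ∧
        finrank F W = Sp.blockDim (Fintype.card F) r * j := by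
  have hr : r.Prime := Fact.out
  have hr0 : (r : F) ≠ 0 := cast_ne_zero_of_ne r hrp
  have hQ' := (nd_iff Q ⊤).1 hQ
  have hMnd : Nd Q (movR y) := (nd_iff Q _).2 (OrthSemi.ndOn_mov Q hQ' y hx r hy hr0)
  have hCnd : Nd Q (fixE y) := (nd_iff Q _).2 (OrthSemi.ndOn_fix Q hQ' y hx r hy hr0)
  obtain ⟨t, ht, hsel⟩ := chain' Q y r hx hrp hr2 hy (movR y) (movR_invariant y) le_rfl hMnd
  have hdims := finrank_fix_add_mov y
  rw [ht, hn] at hdims
  refine ⟨t, ht, hdims, hCnd, hMnd, ?_, hsel⟩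
  obtain ⟨c, hc⟩ : ∃ c, c = Sp.blockDim (Fintype.card F) r := ⟨_, rfl⟩
  have hcev : Even c := by rw [hc]; exact blockDim_even' r _
  rw [← hc] at ht hdims
  have hMev : Even (finrank F (movR y)) := by rw [ht]; exact hcev.mul_right t
  have hCev : Even (finrank F (fixE y)) := by
    obtain ⟨a, ha⟩ := hMev
    rw [ht] at ha
    exact ⟨n - a, by omega⟩
  obtain ⟨εC, hεC, htC⟩ := typeOn_exists Q _ hCnd hCev
  obtain ⟨εM, hεM, htM⟩ := typeOn_exists Q _ hMnd hMev
  have hεM' : εM = ec (Fintype.card F) r ^ t :=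
    type_block Q y r hx hrp hr2 hy (movR y) (movR_invariant y) le_rfl εM hεM htM t
      (by rw [ht, hc])
  have horth : ∀ a ∈ fixE y, ∀ b ∈ movR y, polar Q a b = 0 := by
    rintro a ha _ ⟨w, rfl⟩
    exact OrthSemi.fix_perp_mov Q y hx a ((mem_fixE y a).1 ha) w
  have hsup := typeOn_sup Q (fixE y) (movR y) hCnd horth hCev hMev htC htM
  have htop : fixE y ⊔ movR y = ⊤ := HermPair.fix_sup_mov y r hy hr0
  rw [htop] at hsup
  have h1 : εC * εM = εV := typeOn_unique Q ⊤ hsup htV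
  have h2 : εC = εV * ec (Fintype.card F) r ^ t := by
    rw [← hεM', ← h1, mul_assoc, sign_cases hεM, mul_one]
  rw [← h2]
  exact htC

/-- the criterion for a semisimple isometry of odd prime order to fix a nondegenerate subspace of
given dimension and type -/
theorem ss_fix_iff (hQ : Nd Q ⊤) (hx : ∀ v, Q (y v) = Q v) (hrp : r ≠ p) (hr2 : r ≠ 2)
    (hy : y ^ r = 1) (n : ℕ) (hn : finrank F V = 2 * n) (εV : ℤ) (hεV : εV = 1 ∨ εV = -1)
    (htV : TypeOn Q ⊤ εV) (t : ℕ)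
    (ht : finrank F (movR y) = Sp.blockDim (Fintype.card F) r * t) (m : ℕ) (hme : Even m)
    (eW : ℤ) (heW : eW = 1 ∨ eW = -1) :
    (∃ W : Submodule F V, finrank F W = m ∧ Nd Q W ∧ TypeOn Q W eW ∧ ∀ u ∈ W, y u ∈ W) ↔
    ∃ j : ℕ, j ≤ t ∧ Sp.blockDim (Fintype.card F) r * j ≤ m ∧
      m + Sp.blockDim (Fintype.card F) r * t ≤ 2 * n + Sp.blockDim (Fintype.card F) r * j ∧
      (m = Sp.blockDim (Fintype.card F) r * j → eW = ec (Fintype.card F) r ^ j) ∧
      (m + Sp.blockDim (Fintype.card F) r * t = 2 * n + Sp.blockDim (Fintype.card F) r * j →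
        eW * ec (Fintype.card F) r ^ j = εV * ec (Fintype.card F) r ^ t) := by
  have hr : r.Prime := Fact.out
  have hr0 : (r : F) ≠ 0 := cast_ne_zero_of_ne r hrp
  obtain ⟨t', ht', hdims, hCnd, hMnd, htC, hsel⟩ :=
    ss_parts Q y r hQ hx hrp hr2 hy n hn εV hεV htV
  obtain ⟨c, hc⟩ : ∃ c, c = Sp.blockDim (Fintype.card F) r := ⟨_, rfl⟩
  obtain ⟨e, he⟩ : ∃ e, e = ec (Fintype.card F) r := ⟨_, rfl⟩
  have hcev : Even c := by rw [hc]; exact blockDim_even' r _
  have hcpos : 0 < c := by rw [hc]; exact Sp.blockDim_pos (F := F) r hrp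
  rw [← hc] at ht ht' hdims hsel ⊢
  rw [← he] at htC ⊢
  have htt : t' = t := by
    have : c * t' = c * t := by rw [← ht', ← ht]
    exact Nat.eq_of_mul_eq_mul_left hcpos this
  rw [htt] at hdims htC hsel
  clear ht' htt
  have hiso : ∀ u v, pB Q (y u) (y v) = pB Q u v := pB_iso Q y hx
  constructor
  · rintro ⟨W, hWdim, hWnd, hWt, hWinv⟩
    have hRnd : Nd Q (W ⊓ movR y) :=
      ndOn_inf_mov (pB Q) y (pB_sym Q) hiso r hy hr0 W hWinv hWnd
    have hKnd : Nd Q (W ⊓ fixE y) := ndOn_inf_fix (pB Q) y hiso r hy hr0 W hWinv hWnd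
    have hRinv : ∀ u ∈ W ⊓ movR y, y u ∈ W ⊓ movR y :=
      Sp.inf_invariant y _ _ hWinv (movR_invariant y)
    obtain ⟨j, hj, -⟩ := chain' Q y r hx hrp hr2 hy (W ⊓ movR y) hRinv inf_le_right hRnd
    rw [← hc] at hj
    have hsplit := Sp.inv_split y r hy hr0 W hWinv
    have horth : ∀ a ∈ W ⊓ fixE y, ∀ b ∈ W ⊓ movR y, polar Q a b = 0 := by
      rintro a ha b hb
      obtain ⟨w, rfl⟩ := hb.2
      exact OrthSemi.fix_perp_mov Q y hx a ((mem_fixE y a).1 ha.2) w
    have hdimW := finrank_sup_of_orth Q _ _ hKnd horth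
    rw [hsplit, hWdim, hj] at hdimW
    have hRev : Even (finrank F ↥(W ⊓ movR y)) := by rw [hj]; exact hcev.mul_right j
    have hKev : Even (finrank F ↥(W ⊓ fixE y)) := by
      obtain ⟨a, ha⟩ := hme
      obtain ⟨b, hb⟩ := hRev
      rw [hj] at hb
      exact ⟨a - b, by omega⟩
    obtain ⟨ε₁, hε₁, ht₁⟩ := typeOn_exists Q _ hKnd hKev
    obtain ⟨ε₂, hε₂, ht₂⟩ := typeOn_exists Q _ hRnd hRev
    have hε₂' : ε₂ = e ^ j := by
      rw [he]
      exact type_block Q y r hx hrp hr2 hy _ hRinv inf_le_right ε₂ hε₂ ht₂ j (by rw [hj, hc])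
    have hsup := typeOn_sup Q _ _ hKnd horth hKev hRev ht₁ ht₂
    rw [hsplit] at hsup
    have h12 : ε₁ * ε₂ = eW := typeOn_unique Q W hsup hWt
    have hRle : finrank F ↥(W ⊓ movR y) ≤ finrank F (movR y) := Submodule.finrank_mono inf_le_right
    have hKle : finrank F ↥(W ⊓ fixE y) ≤ finrank F (fixE y) := Submodule.finrank_mono inf_le_right
    rw [hj, ht] at hRle
    have hjt : j ≤ t := Nat.le_of_mul_le_mul_left hRle hcpos
    refine ⟨j, hjt, by omega, by omega, ?_, ?_⟩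
    · intro hm
      have h0 : finrank F ↥(W ⊓ fixE y) = 0 := by omega
      have hbot : W ⊓ fixE y = ⊥ := Submodule.finrank_eq_zero.1 h0
      rw [hbot] at ht₁
      have : ε₁ = 1 := typeOn_unique Q ⊥ ht₁ (typeOn_bot Q)
      rw [← h12, this, one_mul, hε₂']
    · intro hm
      have h0 : finrank F ↥(W ⊓ fixE y) = finrank F (fixE y) := by omega
      have heq : W ⊓ fixE y = fixE y := Submodule.eq_of_le_of_finrank_eq inf_le_right h0
      rw [heq] at ht₁
      have : ε₁ = εV * e ^ t := typeOn_unique Q _ ht₁ htC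
      rw [← h12, this, ← hε₂']
      have h9 := sign_cases hε₂
      linear_combination (εV * e ^ t) * h9
  · rintro ⟨j, hjt, hjm, hle, hzero, hfull⟩
    obtain ⟨W₁, hW₁inv, hW₁nd, hW₁M, hW₁dim⟩ := hsel j hjt
    have hW₁ev : Even (finrank F W₁) := by rw [hW₁dim]; exact hcev.mul_right j
    obtain ⟨ε₁, hε₁, ht₁⟩ := typeOn_exists Q W₁ hW₁nd hW₁ev
    have hε₁' : ε₁ = e ^ j := by
      rw [he]
      exact type_block Q y r hx hrp hr2 hy W₁ hW₁inv hW₁M ε₁ hε₁ ht₁ j (by rw [hW₁dim, hc])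
    obtain ⟨a, ha⟩ := hme
    obtain ⟨b, hb⟩ := hW₁ev
    rw [hW₁dim] at hb
    obtain ⟨b', hb'⟩ : ∃ b', c * t = b' + b' := by
      have := hcev.mul_right t
      exact this
    have hCdim : finrank F (fixE y) = 2 * (n - b') := by omega
    have hεC : εV * e ^ t = 1 ∨ εV * e ^ t = -1 := by
      have h1 : e ^ t = 1 ∨ e ^ t = -1 := by rw [he]; exact ec_pow_cases _ _ _
      rcases hεV with rfl | rfl <;> rcases h1 with h | h <;> rw [h] <;> simp
    have hε' : eW * ε₁ = 1 ∨ eW * ε₁ = -1 := by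
      rcases heW with rfl | rfl <;> rcases hε₁ with rfl | rfl <;> simp
    obtain ⟨T, hTF, hTnd, hTdim, hTt⟩ := exists_typed_sub' Q (fixE y) hCnd (n - b') hCdim
      (εV * e ^ t) hεC htC (a - b) (by omega) (eW * ε₁) hε' (by
        intro h0
        have : m = c * j := by omega
        rw [hzero this, hε₁', he]
        exact sign_cases (ec_pow_cases _ _ _)) (by
        intro h0
        have : m + c * t = 2 * n + c * j := by omega
        rw [hε₁']
        exact hfull this)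
    have horth : ∀ u ∈ W₁, ∀ v ∈ T, polar Q u v = 0 := by
      intro u hu v hv
      obtain ⟨w, rfl⟩ := hW₁M hu
      exact OrthSemi.mov_perp_fix Q y hx v ((mem_fixE y v).1 (hTF hv)) w
    refine ⟨W₁ ⊔ T, ?_, nd_sup Q W₁ T hW₁nd hTnd horth, ?_, ?_⟩
    · rw [finrank_sup_of_orth Q W₁ T hW₁nd horth, hTdim, hW₁dim]
      omega
    · have h3 := typeOn_sup Q W₁ T hW₁nd horth ⟨b, by rw [hW₁dim]; exact hb⟩
        (by rw [hTdim]; exact ⟨a - b, by ring⟩) ht₁ hTt
      have h4 : ε₁ * (eW * ε₁) = eW := by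
        rw [mul_comm eW, ← mul_assoc, sign_cases hε₁, one_mul]
      rwa [h4] at h3
    · exact sup_invariant y W₁ T hW₁inv (fixE_invariant y T hTF)

end crit

end Cfsg.Agent.Lib.Helper24.Ot
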