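/- helper24: typed nondegenerate subspaces D: model isometries with a prescribed number of blocks -/
import Mathlib
import Cfsg.Agent.Lib.Helper24.OtC
import Cfsg.Agent.Lib.Helper24.OrJ

set_option autoImplicit false
set_option linter.unusedSectionVars false

namespace Cfsg.Agent.Lib.Helper24.Ot

open Module Polynomial QuadraticMap Cfsg.Agent.Lib.Helper12.Elus Cfsg.Agent.Lib.Helper12.Un
  Cfsg.Agent.Lib.Helper12 Cfsg.Agent.Lib.Helper12.OrN
  Cfsg.Agent.Lib.Helper15 Cfsg.Agent.Lib.Helper15.QuadType Cfsg.Agent.Lib.Helper15.PolarForms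

universe u

section conj

variable {F V V' : Type*} [Field F] [AddCommGroup V] [Module F V] [AddCommGroup V'] [Module F V']

theorem movR_conj (e : V' ≃ₗ[F] V) (y' : V' →ₗ[F] V') :
    movR (e.conj y') = (movR y').map (e : V' →ₗ[F] V) := by
  ext v
  constructor
  · rintro ⟨w, rfl⟩
    refine ⟨(y' - 1) (e.symm w), ⟨e.symm w, rfl⟩, ?_⟩
    simp [LinearEquiv.conj_apply]
  · rintro ⟨_, ⟨w, rfl⟩, rfl⟩
    refine ⟨e w, ?_⟩
    simp [LinearEquiv.conj_apply]

theorem finrank_movR_conj [FiniteDimensional F V'] (e : V' ≃ₗ[F] V) (y' : V' →ₗ[F] V') :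
    finrank F (movR (e.conj y')) = finrank F (movR y') := by
  rw [movR_conj]
  exact LinearEquiv.finrank_map_eq e (movR y')

end conj

section model

variable {F : Type u} [Field F] [Fintype F] {p : ℕ} [Fact p.Prime] [CharP F p]
  {V : Type*} [AddCommGroup V] [Module F V] [FiniteDimensional F V] (Q : QuadraticForm F V)

theorem typeOn_top_iff (n : ℕ) (hn : finrank F V = 2 * n) (ε : ℤ) :
    TypeOn Q ⊤ ε ↔ HasType ε n (fun v => Q v) := by
  unfold TypeOn
  have : finrank F (⊤ : Submodule F V) / 2 = n := by rw [finrank_top, hn]; omega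
  rw [this]
  constructor
  · intro h
    exact h.congr (LinearEquiv.ofTop ⊤ rfl).toEquiv (fun v => rfl)
  · intro h
    exact h.congr (LinearEquiv.ofTop ⊤ rfl).symm.toEquiv (fun v => rfl)

/-- the arithmetic behind the compatibility of types -/
theorem ec_pow_eq_one_iff (q r : ℕ) (hi : 0 < orderOf (q : ZMod r)) (t nM : ℕ)
    (h : 2 * nM = Sp.blockDim q r * t) :
    ec q r ^ t = 1 ↔ orderOf (q : ZMod r) ∣ nM := by
  unfold Sp.blockDim at h
  unfold ec
  split_ifs at h ⊢ with hev
  · obtain ⟨k, hk⟩ := hev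
    have hk0 : 0 < k := by omega
    constructor
    · intro h1
      rcases Nat.even_or_odd t with ht | ht
      · obtain ⟨s, hs⟩ := ht
        refine ⟨s, ?_⟩
        rw [hs, hk] at h
        have : 2 * nM = 2 * ((k + k) * s) := by rw [h]; ring
        rw [hk]
        omega
      · rw [ht.neg_one_pow] at h1
        norm_num at h1
    · rintro ⟨s, hs⟩
      rcases Nat.even_or_odd t with ht | ht
      · exact ht.neg_one_pow
      · exfalso
        obtain ⟨u, hu⟩ := ht
        rw [hs, hk, hu] at h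
        have h2 : 2 * ((k + k) * s) = k * (4 * s) := by ring
        have h3 : (k + k) * (2 * u + 1) = k * (4 * u + 2) := by ring
        rw [h2, h3] at h
        have := Nat.eq_of_mul_eq_mul_left hk0 h
        omega
  · constructor
    · intro _
      refine ⟨t, ?_⟩
      have : 2 * nM = 2 * (orderOf (q : ZMod r) * t) := by rw [h]; ring
      omega
    · intro _
      exact one_pow t

/-- isometries of odd prime order with a prescribed number of blocks -/
theorem exists_model (hQ : (polarBilin Q).Nondegenerate) (n : ℕ) (hn1 : 1 ≤ n)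
    (hn : finrank F V = 2 * n) (εV : ℤ) (hεV : εV = 1 ∨ εV = -1)
    (htV : HasType εV n (fun v => Q v)) (r : ℕ) [Fact r.Prime] (hr2 : r ≠ 2) (hrp : r ≠ p)
    (t : ℕ) (hle : Sp.blockDim (Fintype.card F) r * t ≤ 2 * n)
    (hcompat : Sp.blockDim (Fintype.card F) r * t = 2 * n → εV = ec (Fintype.card F) r ^ t) :
    ∃ y : V →ₗ[F] V, (∀ v, Q (y v) = Q v) ∧ y ^ r = 1 ∧
      finrank F (movR y) = Sp.blockDim (Fintype.card F) r * t := by
  have hipos : 0 < orderOf (Fintype.card F : ZMod r) := orderOf_card_pos r hrp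
  obtain ⟨nM, hnM⟩ : ∃ nM, 2 * nM = Sp.blockDim (Fintype.card F) r * t := by
    obtain ⟨a, ha⟩ := (blockDim_even' r (Fintype.card F)).mul_right t
    exact ⟨a, by omega⟩
  have hdvd : orderOf (Fintype.card F : ZMod r) ∣ 2 * nM := by
    rw [hnM]
    unfold Sp.blockDim
    split_ifs
    · exact Dvd.intro _ rfl
    · exact ⟨2 * t, by ring⟩
  obtain ⟨W, _, _, _, T, QW, hndW, hisoW, hTr, hfpf, hWdim⟩ :=
    Or.exists_mov_D1 (F := F) r hr2 hrp nM hdvd
  obtain ⟨V', _, _, _, Q', y', hnd', hdim', ht', hiso', hy', hmov', -⟩ :=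
    Or.assemble_even QW hndW T hisoW r hrp hr2 hTr hfpf nM hWdim n (by omega) εV hεV (by
      intro h
      rw [← ec_pow_eq_one_iff (Fintype.card F) r hipos t nM hnM]
      have h1 := hcompat (by omega)
      rw [h1])
  obtain ⟨e, he⟩ := exists_equiv_of_same_type Q hQ Q' hnd' n hn1 hn hdim' εV hεV htV ht'
  refine ⟨e.conj y', ?_, ?_, ?_⟩
  · intro v
    rw [LinearEquiv.conj_apply]
    simp only [LinearMap.comp_apply, LinearEquiv.coe_coe]
    rw [he, hiso', ← he, LinearEquiv.apply_symm_apply]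
  · rw [Or.conj_pow'', hy']
    apply LinearMap.ext
    intro v
    simp [LinearEquiv.conj_apply]
  · rw [finrank_movR_conj, hmov', hnM]

end model

end Cfsg.Agent.Lib.Helper24.Ot
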