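/- helper24: typed nondegenerate subspaces E: counting typed subspaces modulo r, all characteristics (after helper12 OrNE/OrNF) -/
import Mathlib
import Cfsg.Agent.Lib.Helper24.OtD

set_option autoImplicit false
set_option linter.unusedSectionVars false

namespace Cfsg.Agent.Lib.Helper24.Ot

open Module Polynomial QuadraticMap Cfsg.Agent.Lib.Helper12.Elus Cfsg.Agent.Lib.Helper12.Un
  Cfsg.Agent.Lib.Helper12 Cfsg.Agent.Lib.Helper12.OrN
  Cfsg.Agent.Lib.Helper15 Cfsg.Agent.Lib.Helper15.QuadType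

section count

variable {F V : Type*} [Field F] [Fintype F] [AddCommGroup V] [Module F V]
  [FiniteDimensional F V] {p : ℕ} [Fact p.Prime] [CharP F p] (Q : QuadraticForm F V)
  (r : ℕ) [Fact r.Prime]

/-- a nontrivial isometry of order `r` moves at least a block -/
theorem le_finrank_mov' (y : V →ₗ[F] V) (hQ : Nd Q ⊤) (hx : ∀ v, Q (y v) = Q v) (hrp : r ≠ p)
    (hr2 : r ≠ 2) (hy : y ^ r = 1) (hy1 : y ≠ 1) :
    Sp.blockDim (Fintype.card F) r ≤ finrank F (movR y) := by
  have hr0 : (r : F) ≠ 0 := cast_ne_zero_of_ne r hrp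
  have hMnd : Nd Q (movR y) :=
    (nd_iff Q _).2 (OrthSemi.ndOn_mov Q ((nd_iff Q ⊤).1 hQ) y hx r hy hr0)
  obtain ⟨t, ht, -⟩ := chain' Q y r hx hrp hr2 hy (movR y) (movR_invariant y) le_rfl hMnd
  rcases Nat.eq_zero_or_pos t with rfl | htpos
  · exfalso
    apply hy1
    rw [mul_zero] at ht
    have h0 : movR y = ⊥ := Submodule.finrank_eq_zero.1 ht
    apply LinearMap.ext
    intro v
    have : (y - 1) v ∈ movR y := ⟨v, rfl⟩
    rw [h0, Submodule.mem_bot, LinearMap.sub_apply, sub_eq_zero] at this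
    exact this
  · rw [ht]
    exact Nat.le_mul_of_pos_right _ htpos

/-- the order of the isometry group of a small space is prime to `r` -/
theorem not_dvd_card_isoGrp' (hQ : Nd Q ⊤) (hrp : r ≠ p) (hr2 : r ≠ 2)
    (hdim : finrank F V < Sp.blockDim (Fintype.card F) r) : ¬ r ∣ Nat.card (isoGrp Q) := by
  intro hdvd
  have : Finite V := Module.finite_of_finite F
  have : Finite (V ≃ₗ[F] V) := DFunLike.finite _
  obtain ⟨g, hg⟩ := exists_prime_orderOf_dvd_card' r hdvd
  have hgr : (g : V ≃ₗ[F] V) ^ r = 1 := by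
    have := pow_orderOf_eq_one g
    rw [hg] at this
    have h3 := congrArg Subtype.val this
    exact h3
  have hy : ((g : V ≃ₗ[F] V) : V →ₗ[F] V) ^ r = 1 := by
    rw [← coe_pow_apply, hgr]
    rfl
  have hy1 : ((g : V ≃ₗ[F] V) : V →ₗ[F] V) ≠ 1 := by
    intro h1
    have h3 : g = 1 := by
      apply Subtype.ext
      apply LinearEquiv.toLinearMap_injective
      exact h1
    rw [h3, orderOf_one] at hg
    exact (Fact.out : r.Prime).one_lt.ne hg
  have h4 := le_finrank_mov' Q r _ hQ (fun v => g.2 v) hrp hr2 hy hy1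
  have h5 := Submodule.finrank_le (movR ((g : V ≃ₗ[F] V) : V →ₗ[F] V))
  omega

/-- in a small space the number of nondegenerate subspaces of given dimension and type is prime
to `r` -/
theorem not_dvd_card_typedSet' (hQ : (polarBilin Q).Nondegenerate) (hrp : r ≠ p)
    (hr2 : r ≠ 2) (hdim : finrank F V < Sp.blockDim (Fintype.card F) r) (m : ℕ) (hm : 2 ≤ m)
    (hme : Even m) (ε : ℤ) (hε : ε = 1 ∨ ε = -1) (hne : (typedSet Q m ε).Nonempty) :
    ¬ r ∣ Nat.card (typedSet Q m ε) := by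
  obtain ⟨W₁, hW₁⟩ := hne
  have h1 := card_orbit_dvd (isoGrp Q) (typedSet Q m ε) W₁
    (typedSet_orbit Q hQ m hm hme ε hε W₁ hW₁)
  intro h3
  exact not_dvd_card_isoGrp' Q r (nd_top Q hQ) hrp hr2 hdim (h3.trans h1)

/-- small fixed nondegenerate subspaces lie in the fixed space -/
theorem le_fix_of_small' (y : V →ₗ[F] V) (hx : ∀ v, Q (y v) = Q v)
    (hrp : r ≠ p) (hr2 : r ≠ 2) (hy : y ^ r = 1) (W : Submodule F V)
    (hWinv : ∀ u ∈ W, y u ∈ W) (hWnd : Nd Q W)
    (hsmall : finrank F W < Sp.blockDim (Fintype.card F) r) : W ≤ fixE y := by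
  have hr0 : (r : F) ≠ 0 := cast_ne_zero_of_ne r hrp
  have hRnd : Nd Q (W ⊓ movR y) :=
    ndOn_inf_mov (pB Q) y (pB_sym Q) (pB_iso Q y hx) r hy hr0 W hWinv hWnd
  obtain ⟨t, ht', -⟩ := chain' Q y r hx hrp hr2 hy (W ⊓ movR y)
    (Sp.inf_invariant y _ _ hWinv (movR_invariant y)) inf_le_right hRnd
  have hle : finrank F ↥(W ⊓ movR y) ≤ finrank F W := Submodule.finrank_mono inf_le_left
  have ht0 : t = 0 := by
    by_contra hne
    have : Sp.blockDim (Fintype.card F) r ≤ Sp.blockDim (Fintype.card F) r * t :=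
      Nat.le_mul_of_pos_right _ (Nat.pos_of_ne_zero hne)
    omega
  rw [ht0, mul_zero] at ht'
  have hbot : W ⊓ movR y = ⊥ := Submodule.finrank_eq_zero.1 ht'
  have hsplit := Sp.inv_split y r hy hr0 W hWinv
  rw [hbot, sup_bot_eq] at hsplit
  rw [← hsplit]
  exact inf_le_right

/-- the number of nondegenerate subspaces of given small dimension and type is prime to `r` if
some element of order dividing `r` with a small fixed space fixes one of them -/
theorem not_dvd_card_of_fixed' (hQ : (polarBilin Q).Nondegenerate)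
    (hrp : r ≠ p) (hr2 : r ≠ 2) (g : V ≃ₗ[F] V) (hg : ∀ v, Q (g v) = Q v) (hgr : g ^ r = 1)
    (hfix : finrank F (fixE ((g : V ≃ₗ[F] V) : V →ₗ[F] V)) < Sp.blockDim (Fintype.card F) r)
    (m : ℕ) (hm : 2 ≤ m) (hme : Even m) (hmc : m < Sp.blockDim (Fintype.card F) r)
    (ε : ℤ) (hε : ε = 1 ∨ ε = -1)
    (hex : ∃ W ∈ typedSet Q m ε, ∀ u ∈ W, g u ∈ W) :
    ¬ r ∣ Nat.card (typedSet Q m ε) := by
  classical
  have hr : r.Prime := Fact.out
  have hr0 : (r : F) ≠ 0 := cast_ne_zero_of_ne r hrp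
  have hVfin : Finite V := Module.finite_of_finite F
  have hSfin : Finite (Submodule F V) := Finite.of_injective (fun W => (W : Set V))
    SetLike.coe_injective
  obtain ⟨y, hydef⟩ : ∃ y : V →ₗ[F] V, y = ((g : V ≃ₗ[F] V) : V →ₗ[F] V) := ⟨_, rfl⟩
  rw [← hydef] at hfix
  have hyg : ∀ v, y v = g v := fun v => by rw [hydef]; rfl
  have hx : ∀ v, Q (y v) = Q v := fun v => by rw [hyg]; exact hg v
  have hy : y ^ r = 1 := by
    rw [hydef, ← coe_pow_apply, hgr]
    rfl
  have hyinj : Function.Injective y := by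
    rw [hydef]
    exact g.injective
  obtain ⟨C, hC⟩ : ∃ C, C = fixE y := ⟨_, rfl⟩
  rw [← hC] at hfix
  have hCnd : Nd Q C := by
    rw [hC]
    exact (nd_iff Q _).2 (OrthSemi.ndOn_fix Q (ndOn_top Q hQ) y hx r hy hr0)
  have hQC : (polarBilin (OrthSemi.resQ Q C)).Nondegenerate :=
    OrthSemi.nondegenerate_resQ Q C ((nd_iff Q C).1 hCnd)
  have hsubQ : ∀ v : C, Q (C.subtype v) = OrthSemi.resQ Q C v := fun v => rfl
  have hsubinj : Function.Injective C.subtype := Submodule.injective_subtype C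
  -- the permutation
  have hmapmem : ∀ W ∈ typedSet Q m ε, W.map y ∈ typedSet Q m ε := by
    rintro W ⟨h1, h3, h4⟩
    refine ⟨?_, (nd_map Q Q y hyinj hx W).2 h3, typeOn_map Q Q y hyinj hx W ε h4⟩
    rw [← h1]
    exact (Submodule.equivMapOfInjective y hyinj W).finrank_eq.symm
  have : Fintype ↥(typedSet Q m ε) := Fintype.ofFinite _
  let f : Function.End ↥(typedSet Q m ε) := fun W => ⟨W.1.map y, hmapmem W.1 W.2⟩
  have hfk : ∀ (k : ℕ) (W : ↥(typedSet Q m ε)), ((f ^ k) W).1 = W.1.map (y ^ k) := by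
    intro k
    induction k with
    | zero =>
      intro W
      show W.1 = W.1.map (1 : V →ₗ[F] V)
      exact (Submodule.map_id W.1).symm
    | succ k ih =>
      intro W
      rw [pow_succ', pow_succ']
      show ((f ^ k) W).1.map y = W.1.map (y * y ^ k)
      rw [ih, Module.End.mul_eq_comp, Submodule.map_comp]
  have hf : f ^ r ^ 1 = 1 := by
    funext W
    apply Subtype.ext
    rw [pow_one, hfk, hy]
    exact Submodule.map_id W.1
  have h1 := Equiv.Perm.card_fixedPoints_modEq hf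
  -- the fixed points
  have φmem : ∀ W' ∈ typedSet (OrthSemi.resQ Q C) m ε, W'.map C.subtype ∈ typedSet Q m ε := by
    rintro W' ⟨h3, h4, h5⟩
    refine ⟨?_, (nd_map (OrthSemi.resQ Q C) Q C.subtype hsubinj hsubQ W').2 h4,
      typeOn_map (OrthSemi.resQ Q C) Q C.subtype hsubinj hsubQ W' ε h5⟩
    rw [Submodule.finrank_map_subtype_eq, h3]
  have hCfix : ∀ v ∈ C, y v = v := by
    intro v hv
    rw [hC] at hv
    exact (mem_fixE y v).1 hv
  have φfix : ∀ W' : Submodule F C, (W'.map C.subtype).map y = W'.map C.subtype := by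
    intro W'
    apply le_antisymm
    · rintro _ ⟨_, ⟨w, hw, rfl⟩, rfl⟩
      have h3 : y (C.subtype w) = C.subtype w := hCfix _ w.2
      rw [h3]
      exact ⟨w, hw, rfl⟩
    · rintro _ ⟨w, hw, rfl⟩
      have h3 : y (C.subtype w) = C.subtype w := hCfix _ w.2
      exact ⟨C.subtype w, ⟨w, hw, rfl⟩, h3⟩
  have ψmem : ∀ W ∈ typedSet Q m ε, W.map y = W →
      W.comap C.subtype ∈ typedSet (OrthSemi.resQ Q C) m ε ∧
        (W.comap C.subtype).map C.subtype = W := by
    rintro W ⟨h3, h4, h5⟩ hWy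
    have hWinv : ∀ u ∈ W, y u ∈ W := by
      intro u hu
      rw [← hWy]
      exact ⟨u, hu, rfl⟩
    have hWC : W ≤ C := by
      rw [hC]
      exact le_fix_of_small' Q r y hx hrp hr2 hy W hWinv h4 (by rw [h3]; exact hmc)
    have h6 : (W.comap C.subtype).map C.subtype = W := by
      rw [Submodule.map_comap_subtype]
      exact inf_eq_right.2 hWC
    refine ⟨⟨?_, ?_, ?_⟩, h6⟩
    · rw [← Submodule.finrank_map_subtype_eq, h6, h3]
    · rw [← nd_map (OrthSemi.resQ Q C) Q C.subtype hsubinj hsubQ, h6]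
      exact h4
    · apply typeOn_of_map (OrthSemi.resQ Q C) Q C.subtype hsubinj hsubQ
      rw [h6]
      exact h5
  have hcard : Fintype.card (Function.fixedPoints f) =
      Nat.card (typedSet (OrthSemi.resQ Q C) m ε) := by
    rw [← Nat.card_eq_fintype_card]
    symm
    apply Nat.card_congr
    refine Equiv.ofBijective (fun W' => ⟨⟨W'.1.map C.subtype, φmem W'.1 W'.2⟩,
      Subtype.ext (φfix W'.1)⟩) ⟨?_, ?_⟩
    · intro W₁ W₂ h12
      have h3 : W₁.1.map C.subtype = W₂.1.map C.subtype :=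
        congrArg (fun z : Function.fixedPoints f => z.1.1) h12
      exact Subtype.ext (Submodule.map_injective_of_injective hsubinj h3)
    · rintro ⟨⟨W, hW⟩, hWfix⟩
      have hWy : W.map y = W := congrArg Subtype.val hWfix
      obtain ⟨h3, h4⟩ := ψmem W hW hWy
      exact ⟨⟨W.comap C.subtype, h3⟩, Subtype.ext (Subtype.ext h4)⟩
  -- the count in the fixed space
  have hne : (typedSet (OrthSemi.resQ Q C) m ε).Nonempty := by
    obtain ⟨W, hW, hWinv⟩ := hex
    have hWy : W.map y = W := by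
      apply le_antisymm
      · rintro _ ⟨u, hu, rfl⟩
        rw [hyg]
        exact hWinv u hu
      · apply (Submodule.eq_of_le_of_finrank_eq _ _).ge
        · rintro _ ⟨u, hu, rfl⟩
          rw [hyg]
          exact hWinv u hu
        · exact (Submodule.equivMapOfInjective y hyinj W).finrank_eq.symm
    exact ⟨_, (ψmem W hW hWy).1⟩
  have h5 := not_dvd_card_typedSet' (OrthSemi.resQ Q C) r hQC hrp hr2 hfix m hm hme ε hε hne
  intro hdvd
  apply h5
  rw [← hcard]
  rw [Nat.card_eq_fintype_card] at hdvd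
  exact (Nat.modEq_zero_iff_dvd).1 (h1.symm.trans ((Nat.modEq_zero_iff_dvd).2 hdvd))

end count

end Cfsg.Agent.Lib.Helper24.Ot
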