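/- helper24: typed nondegenerate subspaces F: all isometries of order r fix a typed subspace iff a combinatorial condition -/
import Mathlib
import Cfsg.Agent.Lib.Helper24.OtE

set_option autoImplicit false
set_option linter.unusedSectionVars false

namespace Cfsg.Agent.Lib.Helper24.Ot

open Module Polynomial QuadraticMap Cfsg.Agent.Lib.Helper12.Elus Cfsg.Agent.Lib.Helper12.Un
  Cfsg.Agent.Lib.Helper12 Cfsg.Agent.Lib.Helper12.OrN
  Cfsg.Agent.Lib.Helper15 Cfsg.Agent.Lib.Helper15.QuadType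

universe u

/-- the combinatorial form of "every isometry of order `r` fixes a nondegenerate `m`-space of type
`eW`" in a space of dimension `N` and type `εV`, with blocks of dimension `c` and sign `e` -/
def Comb (c : ℕ) (e εV eW : ℤ) (N m : ℕ) : Prop :=
  ∀ t : ℕ, 1 ≤ t → c * t ≤ N → (c * t = N → εV = e ^ t) →
    ∃ j : ℕ, j ≤ t ∧ c * j ≤ m ∧ m + c * t ≤ N + c * j ∧ (m = c * j → eW = e ^ j) ∧
      (m + c * t = N + c * j → eW * e ^ j = εV * e ^ t)

section master

variable {F : Type u} [Field F] [Fintype F] {p : ℕ} [Fact p.Prime] [CharP F p]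
  {V : Type*} [AddCommGroup V] [Module F V] [FiniteDimensional F V] (Q : QuadraticForm F V)

/-- the typed fixing property for all nontrivial isometries of order `r` -/
def FixT (m : ℕ) (eW : ℤ) (r : ℕ) : Prop :=
  ∀ y : V →ₗ[F] V, (∀ v, Q (y v) = Q v) → y ^ r = 1 → y ≠ 1 →
    ∃ W : Submodule F V, finrank F W = m ∧ Nd Q W ∧ TypeOn Q W eW ∧ ∀ u ∈ W, y u ∈ W

theorem fixT_iff_comb (hQ : (polarBilin Q).Nondegenerate) (n : ℕ) (hn1 : 1 ≤ n)
    (hn : finrank F V = 2 * n) (εV : ℤ) (hεV : εV = 1 ∨ εV = -1)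
    (htV : HasType εV n (fun v => Q v)) (r : ℕ) [Fact r.Prime] (hr2 : r ≠ 2) (hrp : r ≠ p)
    (m : ℕ) (hme : Even m) (eW : ℤ) (heW : eW = 1 ∨ eW = -1) :
    FixT Q m eW r ↔
      Comb (Sp.blockDim (Fintype.card F) r) (ec (Fintype.card F) r) εV eW (2 * n) m := by
  have hr : r.Prime := Fact.out
  have hr0 : (r : F) ≠ 0 := cast_ne_zero_of_ne r hrp
  have hQ' : Nd Q ⊤ := nd_top Q hQ
  have htV' : TypeOn Q ⊤ εV := (typeOn_top_iff Q n hn εV).2 htV
  have hcpos : 0 < Sp.blockDim (Fintype.card F) r := Sp.blockDim_pos (F := F) r hrp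
  constructor
  · intro h t ht1 htle hcompat
    obtain ⟨y, hiso, hy, hmov⟩ := exists_model Q hQ n hn1 hn εV hεV htV r hr2 hrp t htle hcompat
    have hy1 : y ≠ 1 := Or.ne_one_of_mov y (by
      rw [hmov]
      exact Nat.mul_pos hcpos (by omega))
    have hW := h y hiso hy hy1
    obtain ⟨j, h1, h2, h3, h4, h5⟩ :=
      (ss_fix_iff Q y r hQ' hiso hrp hr2 hy n hn εV hεV htV' t hmov m hme eW heW).1 hW
    exact ⟨j, h1, h2, h3, h4, h5⟩
  · intro h y hiso hy hy1
    obtain ⟨t, ht, hdims, hCnd, hMnd, htC, hsel⟩ :=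
      ss_parts Q y r hQ' hiso hrp hr2 hy n hn εV hεV htV'
    have ht1 : 1 ≤ t := by
      rcases Nat.eq_zero_or_pos t with rfl | h0
      · exfalso
        apply hy1
        rw [mul_zero] at ht
        have h0 : movR y = ⊥ := Submodule.finrank_eq_zero.1 ht
        apply LinearMap.ext
        intro v
        have : (y - 1) v ∈ movR y := ⟨v, rfl⟩
        rw [h0, Submodule.mem_bot, LinearMap.sub_apply, sub_eq_zero] at this
        exact this
      · exact h0
    have hcompat : Sp.blockDim (Fintype.card F) r * t = 2 * n →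
        εV = ec (Fintype.card F) r ^ t := by
      intro hfull
      have h0 : finrank F (fixE y) = 0 := by omega
      have hbot : fixE y = ⊥ := Submodule.finrank_eq_zero.1 h0
      rw [hbot] at htC
      have h1 : εV * ec (Fintype.card F) r ^ t = 1 := typeOn_unique Q ⊥ htC (typeOn_bot Q)
      have h2 := sign_cases (ec_pow_cases (Fintype.card F) r t)
      calc εV = εV * (ec (Fintype.card F) r ^ t * ec (Fintype.card F) r ^ t) := by
            rw [h2, mul_one]
        _ = (εV * ec (Fintype.card F) r ^ t) * ec (Fintype.card F) r ^ t := by ring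
        _ = ec (Fintype.card F) r ^ t := by rw [h1, one_mul]
    obtain ⟨j, h1, h2, h3, h4, h5⟩ := h t ht1 (by omega) hcompat
    exact (ss_fix_iff Q y r hQ' hiso hrp hr2 hy n hn εV hεV htV' t ht m hme eW heW).2
      ⟨j, h1, h2, h3, h4, h5⟩

end master

end Cfsg.Agent.Lib.Helper24.Ot
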