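/- helper24: typed nondegenerate subspaces G: the combinatorial condition in closed form (pure arithmetic) -/
import Mathlib

set_option autoImplicit false

namespace Cfsg.Agent.Lib.Helper24.Ot

/-- the combinatorial condition, in terms of parities -/
def CombN (c w vV vW N m : ℕ) : Prop :=
  ∀ t : ℕ, 1 ≤ t → c * t ≤ N → (c * t = N → (vV + w * t) % 2 = 0) →
    ∃ j : ℕ, j ≤ t ∧ c * j ≤ m ∧ m + c * t ≤ N + c * j ∧ (m = c * j → (vW + w * j) % 2 = 0) ∧
      (m + c * t = N + c * j → (vW + w * j + vV + w * t) % 2 = 0)

/-- the closed form of the combinatorial condition -/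
def ClosedN (c w vV vW N m : ℕ) : Prop :=
  (N % c = 0 ∧ (vV + w * (N / c)) % 2 = 1) ∨
  (N % c = 0 ∧ m % c = 0 ∧ (vW + w * (m / c)) % 2 = 0) ∨
  (0 < m % c ∧ m % c < N % c) ∨
  (m % c = 0 ∧ 0 < N % c ∧ (vW + w * (m / c)) % 2 = 0) ∨
  (0 < m % c ∧ m % c = N % c ∧ (vV + vW + w * (N / c + m / c)) % 2 = 0)

theorem eq_of_mul_sandwich (c x y l : ℕ) (hc : 0 < c) (hl : l < c) (h1 : c * x ≤ c * y + l)
    (h2 : c * y ≤ c * x) : x = y := by
  rcases Nat.lt_trichotomy x y with h | h | h
  · have := Nat.mul_le_mul_left c (Nat.succ_le_of_lt h)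
    rw [Nat.mul_succ] at this
    omega
  · exact h
  · have := Nat.mul_le_mul_left c (Nat.succ_le_of_lt h)
    rw [Nat.mul_succ] at this
    omega

theorem closedN_of_combN (c w vV vW N m : ℕ) (hc : 0 < c) (hw : w ≤ 1) (hm0 : 0 < m)
    (hmN : m < N) (H : CombN c w vV vW N m) : ClosedN c w vV vW N m := by
  obtain ⟨a, ha⟩ : ∃ a, a = N / c := ⟨_, rfl⟩
  obtain ⟨k, hk⟩ : ∃ k, k = N % c := ⟨_, rfl⟩
  obtain ⟨b, hb⟩ : ∃ b, b = m / c := ⟨_, rfl⟩
  obtain ⟨l, hl⟩ : ∃ l, l = m % c := ⟨_, rfl⟩
  have hN : c * a + k = N := by rw [ha, hk]; exact Nat.div_add_mod N c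
  have hm : c * b + l = m := by rw [hb, hl]; exact Nat.div_add_mod m c
  have hkc : k < c := by rw [hk]; exact Nat.mod_lt _ hc
  have hlc : l < c := by rw [hl]; exact Nat.mod_lt _ hc
  unfold ClosedN
  rw [← ha, ← hk, ← hb, ← hl]
  rcases Nat.eq_zero_or_pos a with ha0 | hapos
  · -- no blocks fit
    rw [ha0, mul_zero, zero_add] at hN
    have hb0 : b = 0 := by
      rcases Nat.eq_zero_or_pos b with h | h
      · exact h
      · have := Nat.mul_le_mul_left c h
        omega
    rw [hb0, mul_zero, zero_add] at hm
    right; right; left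
    omega
  · rcases Nat.eq_zero_or_pos k with hk0 | hkpos
    · rw [hk0, add_zero] at hN
      by_cases hpar : (vV + w * a) % 2 = 1
      · left
        exact ⟨hk0, hpar⟩
      · right; left
        obtain ⟨j, hj1, hj2, hj3, hj4, hj5⟩ := H a hapos (by omega) (fun _ => by omega)
        have hmj : m = c * j := by omega
        have hjb : j = b := eq_of_mul_sandwich c j b l hc hlc (by omega) (by omega)
        rw [hjb] at hmj hj4
        exact ⟨hk0, by omega, hj4 hmj⟩
    · obtain ⟨j, hj1, hj2, hj3, hj4, hj5⟩ := H a hapos (by omega) (fun h => by omega)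
      have hjb : j = b := by
        rcases Nat.lt_trichotomy j b with h | h | h
        · have := Nat.mul_le_mul_left c (Nat.succ_le_of_lt h)
          rw [Nat.mul_succ] at this
          omega
        · exact h
        · have := Nat.mul_le_mul_left c (Nat.succ_le_of_lt h)
          rw [Nat.mul_succ] at this
          omega
      rw [hjb] at hj3 hj4 hj5
      have hlk : l ≤ k := by omega
      rcases Nat.eq_zero_or_pos l with hl0 | hlpos
      · right; right; right; left
        exact ⟨hl0, hkpos, hj4 (by omega)⟩
      · rcases Nat.lt_or_ge l k with hlt | hge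
        · right; right; left
          exact ⟨hlpos, hlt⟩
        · right; right; right; right
          have hlk' : l = k := by omega
          refine ⟨hlpos, hlk', ?_⟩
          have h5 := hj5 (by omega)
          rw [Nat.mul_add]
          omega

theorem combN_of_closedN (c w vV vW N m : ℕ) (hc : 0 < c) (hw : w ≤ 1) (hm0 : 0 < m)
    (hmN : m < N) (H : ClosedN c w vV vW N m) : CombN c w vV vW N m := by
  obtain ⟨a, ha⟩ : ∃ a, a = N / c := ⟨_, rfl⟩
  obtain ⟨k, hk⟩ : ∃ k, k = N % c := ⟨_, rfl⟩
  obtain ⟨b, hb⟩ : ∃ b, b = m / c := ⟨_, rfl⟩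
  obtain ⟨l, hl⟩ : ∃ l, l = m % c := ⟨_, rfl⟩
  have hN : c * a + k = N := by rw [ha, hk]; exact Nat.div_add_mod N c
  have hm : c * b + l = m := by rw [hb, hl]; exact Nat.div_add_mod m c
  have hkc : k < c := by rw [hk]; exact Nat.mod_lt _ hc
  have hlc : l < c := by rw [hl]; exact Nat.mod_lt _ hc
  unfold ClosedN at H
  rw [← ha, ← hk, ← hb, ← hl] at H
  intro t ht1 htN hvalid
  -- t ≤ a
  have hta : t ≤ a := by
    by_contra hcon
    push Not at hcon
    have := Nat.mul_le_mul_left c (Nat.succ_le_of_lt hcon)
    rw [Nat.mul_succ] at this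
    omega
  have hmul : ∀ x y : ℕ, x ≤ y → c * x ≤ c * y := fun x y h => Nat.mul_le_mul_left c h
  have hsucc : ∀ x : ℕ, c * (x + 1) = c * x + c := fun x => Nat.mul_succ c x
  have hwab : w * (a + b) = w * a + w * b := Nat.mul_add w a b
  -- the special case
  by_cases hspec : k = 0 ∧ (vV + w * a) % 2 = 1 ∧ l = 0 ∧ (vW + w * b) % 2 = 1
  · obtain ⟨hk0, hpa, hl0, hpb⟩ := hspec
    have hb1 : 1 ≤ b := by
      rcases Nat.eq_zero_or_pos b with h | h
      · rw [h] at hm; omega
      · exact h
    obtain ⟨b', rfl⟩ : ∃ b', b = b' + 1 := ⟨b - 1, by omega⟩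
    have hta' : t + 1 ≤ a := by
      rcases Nat.lt_or_ge t a with h | h
      · exact h
      · exfalso
        have hta2 : t = a := by omega
        rw [hta2] at hvalid
        have := hvalid (by omega)
        omega
    have h1 := hsucc b'
    have h2 := hmul (t + 1) a hta'
    have h3 := hsucc t
    rcases Nat.lt_or_ge t (b' + 1) with htb | htb
    · refine ⟨t, le_rfl, ?_, by omega, ?_, ?_⟩
      · have := hmul t b' (by omega)
        omega
      · intro h
        exfalso
        have := hmul t b' (by omega)
        omega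
      · intro h
        omega
    · refine ⟨b', by omega, by omega, by omega, ?_, ?_⟩
      · intro h
        omega
      · intro h
        have hta3 : t + 1 = a := by
          rcases Nat.lt_or_ge (t + 1) a with h' | h'
          · have := hmul (t + 1 + 1) a h'
            have := hsucc (t + 1)
            omega
          · omega
        have e1 : w * (b' + 1) = w * b' + w := Nat.mul_succ w b'
        have e2 : w * a = w * t + w := by rw [← hta3]; exact Nat.mul_succ w t
        omega
  · -- the generic choice `j = min t b`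
    rcases Nat.lt_or_ge b t with htb | htb
    · -- j = b
      have h2 := hmul (b + 1) t htb
      have h3 := hsucc b
      refine ⟨b, by omega, by omega, ?_, ?_, ?_⟩
      · rcases Nat.lt_or_ge t a with h | h
        · have := hmul (t + 1) a h
          have := hsucc t
          omega
        · have hta2 : t = a := by omega
          rw [hta2]
          rcases H with ⟨h1, h4⟩ | ⟨h1, h4, h5⟩ | ⟨h1, h4⟩ | ⟨h1, h4, h5⟩ | ⟨h1, h4, h5⟩
          · exfalso
            rw [hta2] at hvalid
            have := hvalid (by omega)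
            omega
          all_goals omega
      · intro h
        have hl0 : l = 0 := by omega
        rcases H with ⟨h1, h4⟩ | ⟨h1, h4, h5⟩ | ⟨h1, h4⟩ | ⟨h1, h4, h5⟩ | ⟨h1, h4, h5⟩
        · by_contra hodd
          apply hspec
          refine ⟨h1, h4, hl0, by omega⟩
        all_goals omega
      · intro h
        have hta2 : t = a := by
          rcases Nat.lt_or_ge t a with h' | h'
          · have := hmul (t + 1) a h'
            have := hsucc t
            omega
          · omega
        rw [hta2] at h hvalid ⊢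
        have hlk : l = k := by omega
        rcases H with ⟨h1, h4⟩ | ⟨h1, h4, h5⟩ | ⟨h1, h4⟩ | ⟨h1, h4, h5⟩ | ⟨h1, h4, h5⟩
        · exfalso
          have := hvalid (by omega)
          omega
        · have := hvalid (by omega)
          omega
        all_goals omega
    · -- j = t
      have h2 := hmul t b htb
      refine ⟨t, le_rfl, by omega, by omega, ?_, ?_⟩
      · intro h
        have htb2 : t = b := by
          rcases Nat.lt_or_ge t b with h' | h'
          · have := hmul (t + 1) b h'
            have := hsucc t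
            omega
          · omega
        have hl0 : l = 0 := by rw [htb2] at h; omega
        rw [htb2]
        rcases H with ⟨h1, h4⟩ | ⟨h1, h4, h5⟩ | ⟨h1, h4⟩ | ⟨h1, h4, h5⟩ | ⟨h1, h4, h5⟩
        · by_contra hodd
          apply hspec
          refine ⟨h1, h4, hl0, by omega⟩
        all_goals omega
      · intro h
        omega

theorem combN_iff_closedN (c w vV vW N m : ℕ) (hc : 0 < c) (hw : w ≤ 1) (hm0 : 0 < m)
    (hmN : m < N) : CombN c w vV vW N m ↔ ClosedN c w vV vW N m :=
  ⟨closedN_of_combN c w vV vW N m hc hw hm0 hmN, combN_of_closedN c w vV vW N m hc hw hm0 hmN⟩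

end Cfsg.Agent.Lib.Helper24.Ot
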