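/- helper24: typed nondegenerate subspaces H: signs versus parities -/
import Mathlib
import Cfsg.Agent.Lib.Helper24.OtF
import Cfsg.Agent.Lib.Helper24.OtG

set_option autoImplicit false
set_option linter.unusedSectionVars false

namespace Cfsg.Agent.Lib.Helper24.Ot

open Module Polynomial QuadraticMap Cfsg.Agent.Lib.Helper12.Elus Cfsg.Agent.Lib.Helper12.Un
  Cfsg.Agent.Lib.Helper12 Cfsg.Agent.Lib.Helper12.OrN
  Cfsg.Agent.Lib.Helper15 Cfsg.Agent.Lib.Helper15.QuadType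

theorem neg_one_pow_eq_iff (x y : ℕ) : (-1 : ℤ) ^ x = (-1) ^ y ↔ (x + y) % 2 = 0 := by
  rcases Nat.even_or_odd x with hx | hx <;> rcases Nat.even_or_odd y with hy | hy
  · rw [hx.neg_one_pow, hy.neg_one_pow]
    obtain ⟨a, rfl⟩ := hx
    obtain ⟨b, rfl⟩ := hy
    simp; omega
  · rw [hx.neg_one_pow, hy.neg_one_pow]
    obtain ⟨a, rfl⟩ := hx
    obtain ⟨b, rfl⟩ := hy
    simp; omega
  · rw [hx.neg_one_pow, hy.neg_one_pow]
    obtain ⟨a, rfl⟩ := hx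
    obtain ⟨b, rfl⟩ := hy
    simp; omega
  · rw [hx.neg_one_pow, hy.neg_one_pow]
    obtain ⟨a, rfl⟩ := hx
    obtain ⟨b, rfl⟩ := hy
    simp; omega

theorem comb_iff_combN (c w vV vW N m : ℕ) :
    Comb c ((-1) ^ w) ((-1) ^ vV) ((-1) ^ vW) N m ↔ CombN c w vV vW N m := by
  unfold Comb CombN
  have e1 : ∀ t : ℕ, ((-1 : ℤ) ^ vV = ((-1) ^ w) ^ t) ↔ (vV + w * t) % 2 = 0 := by
    intro t
    rw [← pow_mul, neg_one_pow_eq_iff]
  have e2 : ∀ j : ℕ, ((-1 : ℤ) ^ vW = ((-1) ^ w) ^ j) ↔ (vW + w * j) % 2 = 0 := by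
    intro j
    rw [← pow_mul, neg_one_pow_eq_iff]
  have e3 : ∀ j t : ℕ, ((-1 : ℤ) ^ vW * ((-1) ^ w) ^ j = (-1) ^ vV * ((-1) ^ w) ^ t) ↔
      (vW + w * j + vV + w * t) % 2 = 0 := by
    intro j t
    rw [← pow_mul, ← pow_mul, ← pow_add, ← pow_add, neg_one_pow_eq_iff]
    constructor <;> intro h <;> omega
  constructor
  · intro H t ht1 htN hvalid
    obtain ⟨j, h1, h2, h3, h4, h5⟩ := H t ht1 htN (fun h => (e1 t).2 (hvalid h))
    exact ⟨j, h1, h2, h3, fun h => (e2 j).1 (h4 h), fun h => (e3 j t).1 (h5 h)⟩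
  · intro H t ht1 htN hvalid
    obtain ⟨j, h1, h2, h3, h4, h5⟩ := H t ht1 htN (fun h => (e1 t).1 (hvalid h))
    exact ⟨j, h1, h2, h3, fun h => (e2 j).2 (h4 h), fun h => (e3 j t).2 (h5 h)⟩

/-- the parity weight of a block -/
noncomputable def wt (q r : ℕ) : ℕ := if Even (orderOf (q : ZMod r)) then 1 else 0

theorem ec_eq_pow_wt (q r : ℕ) : ec q r = (-1) ^ wt q r := by
  unfold ec wt
  split_ifs <;> simp

theorem wt_le_one (q r : ℕ) : wt q r ≤ 1 := by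
  unfold wt
  split_ifs <;> omega

end Cfsg.Agent.Lib.Helper24.Ot
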