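/- helper24: typed nondegenerate subspaces I: the master theorem for elements of odd prime order r different from p -/
import Mathlib
import Cfsg.Agent.Lib.Helper24.OtH
import Cfsg.Agent.Lib.Helper24.OrM

set_option autoImplicit false
set_option linter.unusedSectionVars false

namespace Cfsg.Agent.Lib.Helper24.Ot

open Module Polynomial QuadraticMap Cfsg.Agent.Lib.Helper12.Elus Cfsg.Agent.Lib.Helper12.Un
  Cfsg.Agent.Lib.Helper12 Cfsg.Agent.Lib.Helper12.OrN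
  Cfsg.Agent.Lib.Helper15 Cfsg.Agent.Lib.Helper15.QuadType
open scoped MatrixGroups Matrix

universe u

section equiv

variable {F V : Type*} [Field F] [AddCommGroup V] [Module F V]

/-- a linear map of finite order as a linear equivalence -/
noncomputable def equivOfPow (y : V →ₗ[F] V) (r : ℕ) (hr : 0 < r) (hy : y ^ r = 1) : V ≃ₗ[F] V :=
  LinearEquiv.ofLinearMap y (y ^ (r - 1))
    (by
      have : y * y ^ (r - 1) = 1 := by rw [← pow_succ', Nat.sub_add_cancel hr, hy]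
      exact this)
    (by
      have : y ^ (r - 1) * y = 1 := by rw [← pow_succ, Nat.sub_add_cancel hr, hy]
      exact this)

theorem equivOfPow_coe (y : V →ₗ[F] V) (r : ℕ) (hr : 0 < r) (hy : y ^ r = 1) :
    ((equivOfPow y r hr hy : V ≃ₗ[F] V) : V →ₗ[F] V) = y := by
  apply LinearMap.ext
  intro v
  rfl

theorem equivOfPow_pow (y : V →ₗ[F] V) (r : ℕ) (hr : 0 < r) (hy : y ^ r = 1) :
    (equivOfPow y r hr hy) ^ r = 1 := by
  apply LinearEquiv.toLinearMap_injective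
  rw [coe_pow_apply, equivOfPow_coe, hy]
  rfl

end equiv

section master

variable {F : Type u} [Field F] [Fintype F] {p : ℕ} [Fact p.Prime] [CharP F p]
  {ι : Type} [Fintype ι] [DecidableEq ι]

/-- the excluded parameter ranges: the number of typed subspaces is prime to `r` -/
theorem not_dvd_card_excl (Qs : QuadraticForm F (ι → F)) (hnd : (polarBilin Qs).Nondegenerate)
    (n : ℕ) (hn1 : 1 ≤ n) (hcard : Fintype.card ι = 2 * n) (vV : ℕ)
    (htV : HasType ((-1) ^ vV) n (fun v => Qs v)) (r : ℕ) [Fact r.Prime] (hr2 : r ≠ 2)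
    (hrp : r ≠ p) (m : ℕ) (hm2 : 2 ≤ m) (hme : Even m) (hmn : m + 2 ≤ 2 * n) (vW : ℕ)
    (hfix : FixT Qs m ((-1) ^ vW) r)
    (hmc : m < Sp.blockDim (Fintype.card F) r)
    (hk : 0 < (2 * n) % Sp.blockDim (Fintype.card F) r) :
    ¬ r ∣ Nat.card (typedSet Qs m ((-1) ^ vW)) := by
  have hr : r.Prime := Fact.out
  have hn : finrank F (ι → F) = 2 * n := by rw [Module.finrank_fintype_fun_eq_card, hcard]
  have hεV : ((-1 : ℤ) ^ vV = 1 ∨ (-1 : ℤ) ^ vV = -1) := neg_one_pow_eq_or ℤ vV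
  have hεW : ((-1 : ℤ) ^ vW = 1 ∨ (-1 : ℤ) ^ vW = -1) := neg_one_pow_eq_or ℤ vW
  obtain ⟨c, hc⟩ : ∃ c, c = Sp.blockDim (Fintype.card F) r := ⟨_, rfl⟩
  have hcpos : 0 < c := by rw [hc]; exact Sp.blockDim_pos (F := F) r hrp
  rw [← hc] at hmc hk
  have hQ' : Nd Qs ⊤ := nd_top Qs hnd
  have htV' : TypeOn Qs ⊤ ((-1) ^ vV) := (typeOn_top_iff Qs n hn _).2 htV
  rcases Nat.eq_zero_or_pos ((2 * n) / c) with ha0 | hapos
  · -- no element of order r
    have hlt : 2 * n < c := by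
      have := Nat.div_add_mod (2 * n) c
      rw [ha0, mul_zero, zero_add] at this
      have := Nat.mod_lt (2 * n) hcpos
      omega
    obtain ⟨a, ha⟩ := hme
    obtain ⟨T, -, hTnd, hTdim, hTt⟩ := exists_typed_sub' Qs ⊤ hQ' n (by rw [finrank_top, hn])
      ((-1) ^ vV) hεV htV' a (by omega) ((-1) ^ vW) hεW (fun h => by omega) (fun h => by omega)
    apply not_dvd_card_typedSet' Qs r hnd hrp hr2 (by rw [hn, ← hc]; exact hlt) m hm2 ⟨a, ha⟩
      ((-1) ^ vW) hεW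
    exact ⟨T, by rw [hTdim, ha]; ring, hTnd, hTt⟩
  · obtain ⟨a, ha⟩ : ∃ a, a = (2 * n) / c := ⟨_, rfl⟩
    rw [← ha] at hapos
    have hdm := Nat.div_add_mod (2 * n) c
    rw [← ha] at hdm
    obtain ⟨y, hiso, hy, hmov⟩ := exists_model Qs hnd n hn1 hn ((-1) ^ vV) hεV htV r hr2 hrp a
      (by rw [← hc]; omega) (by rw [← hc]; intro h; omega)
    rw [← hc] at hmov
    have hy1 : y ≠ 1 := Or.ne_one_of_mov y (by rw [hmov]; exact Nat.mul_pos hcpos hapos)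
    obtain ⟨W, hWdim, hWnd, hWt, hWinv⟩ := hfix y hiso hy hy1
    have hdims := finrank_fix_add_mov y
    rw [hmov, hn] at hdims
    apply not_dvd_card_of_fixed' Qs r hnd hrp hr2 (equivOfPow y r hr.pos hy)
      (fun v => hiso v) (equivOfPow_pow y r hr.pos hy) ?_ m hm2 hme (by rw [← hc]; exact hmc)
      ((-1) ^ vW) hεW ⟨W, ⟨hWdim, hWnd, hWt⟩, fun u hu => hWinv u hu⟩
    rw [equivOfPow_coe, ← hc]
    have := Nat.mod_lt (2 * n) hcpos
    omega

/-- the fixing property for elements of `Ω` of order `r` modulo scalars, for typed subspaces -/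
def OmegaFixT (Qs : QuadraticForm F (ι → F)) (m : ℕ) (eW : ℤ) (r : ℕ) : Prop :=
  ∀ x : GL ι F, x ∈ Cfsg.Geo.omegaGL ⇑Qs →
    (∃ z : F, ((x ^ r : GL ι F) : Matrix ι ι F) = z • (1 : Matrix ι ι F)) →
    (∀ z : F, (x : Matrix ι ι F) ≠ z • (1 : Matrix ι ι F)) →
    ∃ W : Submodule F (ι → F), (finrank F W = m ∧ Nd Qs W ∧ TypeOn Qs W eW) ∧
      W.map (Matrix.toLin' (x : Matrix ι ι F)) ≤ W

theorem fixT_of_omegaFixT (Qs : QuadraticForm F (ι → F)) (hnd : (polarBilin Qs).Nondegenerate)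
    (hex : Fintype.card F ≠ 2 ∨ Fintype.card ι ≠ 4) (r : ℕ) [Fact r.Prime] (hr2 : r ≠ 2)
    (m : ℕ) (eW : ℤ) (h : OmegaFixT Qs m eW r) : FixT Qs m eW r := by
  intro y hiso hy hy1
  obtain ⟨x, hxΩ, hxy, -, hxr, hxs⟩ := Or.exists_gl_of_isometry Qs hnd hex r hr2 y hiso hy hy1
  obtain ⟨W, ⟨hW1, hW2, hW3⟩, hW4⟩ := h x hxΩ ⟨1, by rw [hxr, one_smul]⟩ hxs
  rw [hxy] at hW4
  exact ⟨W, hW1, hW2, hW3, Or.forall_of_map_le W y hW4⟩

theorem omegaFixT_of_fixT (Qs : QuadraticForm F (ι → F)) (v₀ : ι → F) (hv₀ : Qs v₀ ≠ 0)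
    (r : ℕ) [Fact r.Prime] (hr2 : r ≠ 2) (m : ℕ) (eW : ℤ) (h : FixT Qs m eW r) :
    OmegaFixT Qs m eW r := by
  have hr : r.Prime := Fact.out
  intro x hxΩ ⟨z, hz⟩ hxs
  have hxiso := Or.iso_of_mem_omega _ x hxΩ
  obtain ⟨y, hiso, hy, hyx⟩ := Or.scalar_pow_cases Qs v₀ hv₀ r (hr.odd_of_ne_two hr2) x hxiso z hz
  have hy1 : y ≠ 1 := by
    intro h1
    rcases hyx with h2 | h2
    · apply hxs 1
      rw [one_smul]
      apply Matrix.toLin'.injective
      rw [← h2, h1, Matrix.toLin'_one]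
      rfl
    · apply hxs (-1)
      apply Matrix.toLin'.injective
      have h3 : Matrix.toLin' (x : Matrix ι ι F) = -y := by rw [h2, neg_neg]
      rw [h3, h1, map_smul, Matrix.toLin'_one]
      apply LinearMap.ext
      intro v
      simp
  obtain ⟨W, hW1, hW2, hW3, hW4⟩ := h y hiso hy hy1
  refine ⟨W, ⟨hW1, hW2, hW3⟩, ?_⟩
  rintro _ ⟨u, hu, rfl⟩
  rcases hyx with h2 | h2
  · rw [← h2]
    exact hW4 u hu
  · have h3 : Matrix.toLin' (x : Matrix ι ι F) = -y := by rw [h2, neg_neg]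
    rw [h3, LinearMap.neg_apply]
    exact W.neg_mem (hW4 u hu)

/-- the master theorem for odd primes `r ≠ p` -/
theorem master_odd (Qs : QuadraticForm F (ι → F)) (hnd : (polarBilin Qs).Nondegenerate)
    (n : ℕ) (hn1 : 3 ≤ n) (hcard : Fintype.card ι = 2 * n) (vV : ℕ)
    (htV : HasType ((-1) ^ vV) n (fun v => Qs v)) (v₀ : ι → F) (hv₀ : Qs v₀ ≠ 0)
    (r : ℕ) [Fact r.Prime] (hr2 : r ≠ 2)
    (hrp : r ≠ p) (m : ℕ) (hm2 : 2 ≤ m) (hme : Even m) (hmn : m + 2 ≤ 2 * n) (vW : ℕ)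
    (hrΩ : r ∣ Nat.card (typedSet Qs m ((-1) ^ vW))) :
    OmegaFixT Qs m ((-1) ^ vW) r ↔
      (ClosedN (Sp.blockDim (Fintype.card F) r) (wt (Fintype.card F) r) vV vW (2 * n) m ∧
        (Sp.blockDim (Fintype.card F) r ≤ m ∨ (2 * n) % Sp.blockDim (Fintype.card F) r = 0)) := by
  have hr : r.Prime := Fact.out
  have hn : finrank F (ι → F) = 2 * n := by rw [Module.finrank_fintype_fun_eq_card, hcard]
  have hεV : ((-1 : ℤ) ^ vV = 1 ∨ (-1 : ℤ) ^ vV = -1) := neg_one_pow_eq_or ℤ vV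
  have hεW : ((-1 : ℤ) ^ vW = 1 ∨ (-1 : ℤ) ^ vW = -1) := neg_one_pow_eq_or ℤ vW
  have hcpos : 0 < Sp.blockDim (Fintype.card F) r := Sp.blockDim_pos (F := F) r hrp
  have hex : Fintype.card F ≠ 2 ∨ Fintype.card ι ≠ 4 := Or.inr (by omega)
  have key := fixT_iff_comb Qs hnd n (by omega) hn ((-1) ^ vV) hεV htV r hr2 hrp m hme
    ((-1) ^ vW) hεW
  rw [ec_eq_pow_wt, comb_iff_combN, combN_iff_closedN _ _ _ _ _ _ hcpos (wt_le_one _ _)
    (by omega) (by omega)] at key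
  constructor
  · intro h
    have hfix := fixT_of_omegaFixT Qs hnd hex r hr2 m _ h
    refine ⟨key.1 hfix, ?_⟩
    by_contra hcon
    push Not at hcon
    exact not_dvd_card_excl Qs hnd n (by omega) hcard vV htV r hr2 hrp m hm2 hme hmn vW hfix
      hcon.1 (Nat.pos_of_ne_zero hcon.2) hrΩ
  · rintro ⟨h, -⟩
    exact omegaFixT_of_fixT Qs v₀ hv₀ r hr2 m _ (key.2 h)

end master

end Cfsg.Agent.Lib.Helper24.Ot
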