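/- helper24: typed nondegenerate subspaces J: involutions in odd characteristic fix typed subspaces of all admissible dimensions -/
import Mathlib
import Cfsg.Agent.Lib.Helper24.OtI
import Cfsg.Agent.Lib.Helper24.OrP

set_option autoImplicit false
set_option linter.unusedSectionVars false

namespace Cfsg.Agent.Lib.Helper24.Ot

open Module Polynomial QuadraticMap Cfsg.Agent.Lib.Helper12.Elus Cfsg.Agent.Lib.Helper12.Un
  Cfsg.Agent.Lib.Helper12 Cfsg.Agent.Lib.Helper12.OrN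
  Cfsg.Agent.Lib.Helper15 Cfsg.Agent.Lib.Helper15.QuadType

universe u

section select

variable {F : Type u} [Field F] [Fintype F] {V : Type*} [AddCommGroup V] [Module F V]
  [FiniteDimensional F V] (Q : QuadraticForm F V)

/-- selecting a typed nondegenerate subspace inside an orthogonal sum of two nondegenerate
even-dimensional subspaces, the first of dimension at least four -/
theorem two_part_select (C M : Submodule F V) (hC : Nd Q C) (hM : Nd Q M)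
    (horth : ∀ a ∈ C, ∀ b ∈ M, polar Q a b = 0) (a b : ℕ) (hCdim : finrank F C = 2 * a)
    (hMdim : finrank F M = 2 * b) (ha : 2 ≤ a) (μ : ℕ) (hμ1 : 1 ≤ μ) (hμ2 : μ + 1 ≤ a + b)
    (eW : ℤ) (heW : eW = 1 ∨ eW = -1) :
    ∃ T₁ T₂ : Submodule F V, T₁ ≤ C ∧ T₂ ≤ M ∧ finrank F ↥(T₁ ⊔ T₂) = 2 * μ ∧
      Nd Q (T₁ ⊔ T₂) ∧ TypeOn Q (T₁ ⊔ T₂) eW := by
  obtain ⟨εC, hεC, htC⟩ := typeOn_exists Q C hC ⟨a, by rw [hCdim]; ring⟩
  obtain ⟨εM, hεM, htM⟩ := typeOn_exists Q M hM ⟨b, by rw [hMdim]; ring⟩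
  obtain ⟨s₁, hs₁⟩ : ∃ s₁, s₁ = max 1 (μ - b) := ⟨_, rfl⟩
  have h1 : 1 ≤ s₁ := by rw [hs₁]; exact le_max_left _ _
  have h2 : μ - b ≤ s₁ := by rw [hs₁]; exact le_max_right _ _
  have h3 : s₁ + 1 ≤ a := by
    rw [hs₁]
    rcases max_cases 1 (μ - b) with ⟨h, -⟩ | ⟨h, -⟩ <;> rw [h] <;> omega
  have h4 : s₁ ≤ μ := by
    rw [hs₁]
    rcases max_cases 1 (μ - b) with ⟨h, -⟩ | ⟨h, -⟩ <;> rw [h] <;> omega
  -- the part in `M`
  obtain ⟨ε₂, hε₂, h20, h2f⟩ : ∃ ε₂ : ℤ, (ε₂ = 1 ∨ ε₂ = -1) ∧ (μ - s₁ = 0 → ε₂ = 1) ∧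
      (μ - s₁ = b → ε₂ = εM) := by
    by_cases h0 : μ - s₁ = 0
    · refine ⟨1, Or.inl rfl, fun _ => rfl, fun hb => ?_⟩
      have hb0 : b = 0 := by omega
      rw [hb0, mul_zero] at hMdim
      have hbot : M = ⊥ := Submodule.finrank_eq_zero.1 hMdim
      rw [hbot] at htM
      exact typeOn_unique Q ⊥ (typeOn_bot Q) htM
    · exact ⟨εM, hεM, fun h => absurd h h0, fun _ => rfl⟩
  obtain ⟨T₂, hT₂M, hT₂nd, hT₂dim, hT₂t⟩ := exists_typed_sub' Q M hM b hMdim εM hεM htM (μ - s₁)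
    (by omega) ε₂ hε₂ h20 h2f
  have hε' : eW * ε₂ = 1 ∨ eW * ε₂ = -1 := by
    rcases heW with rfl | rfl <;> rcases hε₂ with rfl | rfl <;> simp
  obtain ⟨T₁, hT₁C, hT₁nd, hT₁dim, hT₁t⟩ := exists_typed_sub' Q C hC a hCdim εC hεC htC s₁
    (by omega) (eW * ε₂) hε' (fun h => by omega) (fun h => by omega)
  have horth' : ∀ u ∈ T₁, ∀ v ∈ T₂, polar Q u v = 0 :=
    fun u hu v hv => horth u (hT₁C hu) v (hT₂M hv)
  refine ⟨T₁, T₂, hT₁C, hT₂M, ?_, nd_sup Q T₁ T₂ hT₁nd hT₂nd horth', ?_⟩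
  · rw [finrank_sup_of_orth Q T₁ T₂ hT₁nd horth', hT₁dim, hT₂dim]
    omega
  · have h5 := typeOn_sup Q T₁ T₂ hT₁nd horth' ⟨s₁, by rw [hT₁dim]; ring⟩
      ⟨μ - s₁, by rw [hT₂dim]; ring⟩ hT₁t hT₂t
    have h6 : eW * ε₂ * ε₂ = eW := by rw [mul_assoc, sign_cases hε₂, mul_one]
    rwa [h6] at h5

end select

section invol

variable {F : Type u} [Field F] [Fintype F] {V : Type*} [AddCommGroup V] [Module F V]
  [FiniteDimensional F V] (Q : QuadraticForm F V) (y : V →ₗ[F] V)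

/-- an involution in odd characteristic with even-dimensional moved space fixes nondegenerate
subspaces of every even dimension strictly between `0` and `dim V`, of both types -/
theorem invol_fix_typed (h2 : (2 : F) ≠ 0) (hQ : Nd Q ⊤) (hiso : ∀ v, Q (y v) = Q v)
    (hy : y ^ 2 = 1) (hev : Even (finrank F (movR y))) (n : ℕ) (hn : finrank F V = 2 * n)
    (hn4 : 4 ≤ n) (μ : ℕ) (hμ1 : 1 ≤ μ) (hμ2 : μ + 1 ≤ n) (eW : ℤ) (heW : eW = 1 ∨ eW = -1) :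
    ∃ W : Submodule F V, finrank F W = 2 * μ ∧ Nd Q W ∧ TypeOn Q W eW ∧ ∀ u ∈ W, y u ∈ W := by
  have : Fact (Nat.Prime 2) := ⟨Nat.prime_two⟩
  have hr0 : ((2 : ℕ) : F) ≠ 0 := by exact_mod_cast h2
  have hQ' := (nd_iff Q ⊤).1 hQ
  have hMnd : Nd Q (movR y) := (nd_iff Q _).2 (OrthSemi.ndOn_mov Q hQ' y hiso 2 hy hr0)
  have hCnd : Nd Q (fixE y) := (nd_iff Q _).2 (OrthSemi.ndOn_fix Q hQ' y hiso 2 hy hr0)
  have hdims := finrank_fix_add_mov y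
  rw [hn] at hdims
  obtain ⟨b, hb⟩ := hev
  obtain ⟨a, ha⟩ : ∃ a, finrank F (fixE y) = 2 * a := ⟨n - b, by omega⟩
  have hMdim : finrank F (movR y) = 2 * b := by rw [hb]; ring
  have horth : ∀ u ∈ fixE y, ∀ v ∈ movR y, polar Q u v = 0 := by
    rintro u hu _ ⟨w, rfl⟩
    exact OrthSemi.fix_perp_mov Q y hiso u ((mem_fixE y u).1 hu) w
  have horth' : ∀ v ∈ movR y, ∀ u ∈ fixE y, polar Q v u = 0 := by
    intro v hv u hu
    rw [polar_comm]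
    exact horth u hu v hv
  rcases Nat.lt_or_ge a 2 with hlt | hge
  · obtain ⟨T₁, T₂, hT₁, hT₂, hdim, hnd, ht⟩ := two_part_select Q (movR y) (fixE y) hMnd hCnd
      horth' b a hMdim ha (by omega) μ hμ1 (by omega) eW heW
    refine ⟨T₁ ⊔ T₂, hdim, hnd, ht, ?_⟩
    exact sup_invariant y T₁ T₂ (Or.mov_sub_invariant y hy T₁ hT₁) (fixE_invariant y T₂ hT₂)
  · obtain ⟨T₁, T₂, hT₁, hT₂, hdim, hnd, ht⟩ := two_part_select Q (fixE y) (movR y) hCnd hMnd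
      horth a b ha hMdim hge μ hμ1 (by omega) eW heW
    refine ⟨T₁ ⊔ T₂, hdim, hnd, ht, ?_⟩
    exact sup_invariant y T₁ T₂ (fixE_invariant y T₁ hT₁) (Or.mov_sub_invariant y hy T₂ hT₂)

end invol

end Cfsg.Agent.Lib.Helper24.Ot
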