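/- helper24: isometries with square -1 (odd characteristic): invariant nondegenerate subspaces and their types -/
import Mathlib
import Cfsg.Agent.Lib.Helper24.OtJ
import Cfsg.Agent.Lib.Helper24.OrT

set_option autoImplicit false
set_option linter.unusedSectionVars false

namespace Cfsg.Agent.Lib.Helper24.Ot

open Module Polynomial QuadraticMap Cfsg.Agent.Lib.Helper12.Elus Cfsg.Agent.Lib.Helper12.Un
  Cfsg.Agent.Lib.Helper12 Cfsg.Agent.Lib.Helper12.OrN
  Cfsg.Agent.Lib.Helper15 Cfsg.Agent.Lib.Helper15.QuadType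

universe u

section chainp

variable {F : Type*} [Field F] [Fintype F] {V : Type*} [AddCommGroup V] [Module F V]
  [FiniteDimensional F V] (Q : QuadraticForm F V) (y : V →ₗ[F] V)

/-- invariant nondegenerate subspaces of all even dimensions from invariant nondegenerate
planes -/
theorem exists_inv_nd_chain (hQ : Nd Q ⊤) (hiso : ∀ v, Q (y v) = Q v) (r : ℕ) (hr : 0 < r)
    (hy : y ^ r = 1)
    (hplane : ∀ K : Submodule F V, (∀ u ∈ K, y u ∈ K) → Nd Q K → K ≠ ⊥ →
      ∃ P : Submodule F V, P ≤ K ∧ (∀ u ∈ P, y u ∈ P) ∧ Nd Q P ∧ finrank F P = 2) :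
    ∀ μ : ℕ, 2 * μ ≤ finrank F V →
      ∃ W : Submodule F V, (∀ u ∈ W, y u ∈ W) ∧ Nd Q W ∧ finrank F W = 2 * μ := by
  have hiso' : ∀ u v, pB Q (y u) (y v) = pB Q u v := pB_iso Q y hiso
  intro μ
  induction μ with
  | zero =>
    intro _
    exact ⟨⊥, fun u hu => by rw [(Submodule.mem_bot F).1 hu, map_zero]; exact Submodule.zero_mem _,
      nd_bot Q, by simp⟩
  | succ μ ih =>
    intro hle
    obtain ⟨W, hWinv, hWnd, hWdim⟩ := ih (by omega)
    have hKnd : Nd Q (⊤ ⊓ orth (pB Q) W) := ndOn_inf_orth (pB Q) pB_id (pB_sym Q) ⊤ W hQ le_top hWnd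
    have hKdim := finrank_inf_orth (pB Q) pB_id (pB_sym Q) ⊤ W le_top hWnd
    rw [finrank_top, hWdim] at hKdim
    have hKinv : ∀ u ∈ ⊤ ⊓ orth (pB Q) W, y u ∈ ⊤ ⊓ orth (pB Q) W := by
      intro u hu
      exact ⟨Submodule.mem_top, orth_invariant (pB Q) y hiso' r hr hy W hWinv u hu.2⟩
    have hK0 : ⊤ ⊓ orth (pB Q) W ≠ ⊥ := by
      intro h0
      rw [h0, finrank_bot] at hKdim
      omega
    obtain ⟨P, hPK, hPinv, hPnd, hPdim⟩ := hplane _ hKinv hKnd hK0
    have horth : ∀ a ∈ W, ∀ b ∈ P, polar Q a b = 0 := by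
      intro a ha b hb
      exact (hPK hb).2 a ha
    refine ⟨W ⊔ P, sup_invariant y W P hWinv hPinv, nd_sup Q W P hWnd hPnd horth, ?_⟩
    rw [finrank_sup_of_orth Q W P hWnd horth, hWdim, hPdim]
    ring

end chainp

section nonsplit

variable {F : Type*} [Field F] [Fintype F] {V : Type*} [AddCommGroup V] [Module F V]
  [FiniteDimensional F V] (Q : QuadraticForm F V) (y : V →ₗ[F] V)

theorem pow_four_of_sqneg (hy : ∀ v, y (y v) = -v) : y ^ 4 = 1 := by
  apply LinearMap.ext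
  intro v
  have : y ^ 4 = y * y * (y * y) := by
    rw [← pow_two, ← pow_two, ← pow_mul]
  rw [this]
  simp [hy]

/-- an invariant nondegenerate plane for an isometry with square `-1`, odd characteristic -/
theorem sqneg_plane (h2 : (2 : F) ≠ 0) (hiso : ∀ v, Q (y v) = Q v)
    (hy : ∀ v, y (y v) = -v) (K : Submodule F V) (hKinv : ∀ u ∈ K, y u ∈ K) (hKnd : Nd Q K)
    (hK0 : K ≠ ⊥) :
    ∃ P : Submodule F V, P ≤ K ∧ (∀ u ∈ P, y u ∈ P) ∧ Nd Q P ∧ finrank F P = 2 := by
  obtain ⟨v, hvK, hQv⟩ := exists_nonsing Q K hKnd hK0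
  have hQyv : Q (y v) ≠ 0 := by rw [hiso]; exact hQv
  have hv0 : v ≠ 0 := by
    rintro rfl
    exact hQv (QuadraticMap.map_zero Q)
  have hyv0 : y v ≠ 0 := by
    intro h0
    rw [h0] at hQyv
    exact hQyv (QuadraticMap.map_zero Q)
  have hperp := Or.polar_self_map Q y h2 hiso hy v
  have horth : ∀ a ∈ Submodule.span F {v}, ∀ b ∈ Submodule.span F {y v}, polar Q a b = 0 := by
    intro a ha b hb
    obtain ⟨α, rfl⟩ := Submodule.mem_span_singleton.1 ha
    obtain ⟨β, rfl⟩ := Submodule.mem_span_singleton.1 hb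
    rw [polar_smul_left, polar_smul_right, hperp, smul_zero, smul_zero]
  have h1 := nd_span_singleton Q h2 v hQv
  have h3 := nd_span_singleton Q h2 (y v) hQyv
  refine ⟨Submodule.span F {v} ⊔ Submodule.span F {y v}, ?_, ?_, nd_sup Q _ _ h1 h3 horth, ?_⟩
  · apply sup_le
    · rw [Submodule.span_singleton_le_iff_mem]; exact hvK
    · rw [Submodule.span_singleton_le_iff_mem]; exact hKinv v hvK
  · intro u hu
    obtain ⟨a, ha, b, hb, rfl⟩ := Submodule.mem_sup.1 hu
    obtain ⟨α, rfl⟩ := Submodule.mem_span_singleton.1 ha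
    obtain ⟨β, rfl⟩ := Submodule.mem_span_singleton.1 hb
    rw [map_add, map_smul, map_smul, hy, add_comm]
    apply Submodule.add_mem_sup
    · rw [smul_neg, ← neg_smul]
      exact Submodule.smul_mem _ _ (Submodule.mem_span_singleton_self v)
    · exact Submodule.smul_mem _ _ (Submodule.mem_span_singleton_self (y v))
  · rw [finrank_sup_of_orth Q _ _ h1 horth, finrank_span_singleton hv0,
      finrank_span_singleton hyv0]

/-- an isometry with square `-1` in odd characteristic fixes nondegenerate subspaces of all even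
dimensions -/
theorem sqneg_exists_inv (h2 : (2 : F) ≠ 0) (hQ : Nd Q ⊤) (hiso : ∀ v, Q (y v) = Q v)
    (hy : ∀ v, y (y v) = -v) (μ : ℕ) (hle : 2 * μ ≤ finrank F V) :
    ∃ W : Submodule F V, (∀ u ∈ W, y u ∈ W) ∧ Nd Q W ∧ finrank F W = 2 * μ :=
  exists_inv_nd_chain Q y hQ hiso 4 (by norm_num) (pow_four_of_sqneg y hy)
    (fun K hKinv hKnd hK0 => sqneg_plane Q y h2 hiso hy K hKinv hKnd hK0) μ hle

/-- the type of an invariant nondegenerate subspace of an isometry with square `-1`,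
`q ≡ 3 (mod 4)` -/
theorem sqneg_type (hq : Fintype.card F % 4 = 3) (hiso : ∀ v, Q (y v) = Q v)
    (hy : ∀ v, y (y v) = -v) (W : Submodule F V) (hWinv : ∀ u ∈ W, y u ∈ W) (μ : ℕ)
    (hdim : finrank F W = 2 * μ) (ε : ℤ) (hε : ε = 1 ∨ ε = -1) (ht : TypeOn Q W ε) :
    (Even μ → ε = 1) ∧ (Odd μ → ε = -1) := by
  have h1 : HasType ε μ (fun w : W => OrthSemi.resQ Q W w) := by
    unfold TypeOn at ht
    have : finrank F W / 2 = μ := by omega
    rw [this] at ht
    exact ht
  exact Or.type_of_sqneg (OrthSemi.resQ Q W) (y.restrict hWinv) hq (fun w => hiso w)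
    (fun w => Subtype.ext (by
      show y (y (w : V)) = -(w : V)
      exact hy w)) μ ε hε h1

end nonsplit

section splitp

variable {F : Type*} [Field F] [Fintype F] {V : Type*} [AddCommGroup V] [Module F V]
  [FiniteDimensional F V] (Q : QuadraticForm F V) (y : V →ₗ[F] V)

/-- when `-1` is a square, every nondegenerate subspace invariant under an isometry with square
`-1` is hyperbolic -/
theorem sqneg_split_plus (h2 : (2 : F) ≠ 0) (ι0 : F) (hι : ι0 * ι0 = -1)
    (hiso : ∀ v, Q (y v) = Q v) (hy : ∀ v, y (y v) = -v) (W : Submodule F V)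
    (hWinv : ∀ u ∈ W, y u ∈ W) (hWnd : Nd Q W) : IsPlus Q W := by
  obtain ⟨E, E', hE, hE', -, hdim⟩ := Or.sqneg_eig (OrthSemi.resQ Q W) (y.restrict hWinv) h2 ι0 hι
    (fun w => hiso w) (fun w => Subtype.ext (by
      show y (y (w : V)) = -(w : V)
      exact hy w))
  have hnd15 : Helper15.NdOn Q W := (nd_iff Q W).1 hWnd
  have hts : ∀ E₀ : Submodule F W, Or.TS (OrthSemi.resQ Q W) E₀ → Or.TS Q (E₀.map W.subtype) := by
    rintro E₀ h _ ⟨u, hu, rfl⟩
    exact h u hu
  have hle : ∀ E₀ : Submodule F W, E₀.map W.subtype ≤ W := by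
    rintro E₀ _ ⟨u, -, rfl⟩
    exact u.2
  have h1 := Or.ts_sub_le Q W (E.map W.subtype) hnd15 (hle E) (hts E hE)
  have h3 := Or.ts_sub_le Q W (E'.map W.subtype) hnd15 (hle E') (hts E' hE')
  rw [Submodule.finrank_map_subtype_eq] at h1 h3
  refine ⟨E.map W.subtype, hle E, hts E hE, ?_⟩
  rw [Submodule.finrank_map_subtype_eq]
  omega

end splitp

end Cfsg.Agent.Lib.Helper24.Ot
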