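/- helper24: unipotent isometries 1 + N with N V totally singular: powers, even rank on invariant nondegenerate subspaces, counts -/
import Mathlib
import Cfsg.Agent.Lib.Helper24.OtK
import Cfsg.Agent.Lib.Helper13.AltForm

set_option autoImplicit false
set_option linter.unusedSectionVars false

namespace Cfsg.Agent.Lib.Helper24.Ot

open Module Polynomial QuadraticMap Cfsg.Agent.Lib.Helper12.Elus Cfsg.Agent.Lib.Helper12.Un
  Cfsg.Agent.Lib.Helper12 Cfsg.Agent.Lib.Helper12.OrN
  Cfsg.Agent.Lib.Helper15 Cfsg.Agent.Lib.Helper15.QuadType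

section unip

variable {F : Type*} [Field F] {V : Type*} [AddCommGroup V] [Module F V]
  [FiniteDimensional F V] (Q : QuadraticForm F V) (y : V →ₗ[F] V)

omit [FiniteDimensional F V] in
/-- powers of a transformation `1 + N` with `N² = 0` -/
theorem unip_pow (E : Submodule F V) (hmov : ∀ z, y z - z ∈ E) (hfix : ∀ e ∈ E, y e = e)
    (k : ℕ) (z : V) : (y ^ k) z = z + k • (y z - z) := by
  induction k with
  | zero => simp
  | succ k ih =>
    rw [pow_succ', Module.End.mul_apply, ih, map_add, map_nsmul, hfix _ (hmov z), succ_nsmul]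
    abel

omit [FiniteDimensional F V] in
theorem unip_pow_char (p : ℕ) [CharP F p] (E : Submodule F V) (hmov : ∀ z, y z - z ∈ E)
    (hfix : ∀ e ∈ E, y e = e) : y ^ p = 1 := by
  apply LinearMap.ext
  intro z
  rw [unip_pow y E hmov hfix, Module.End.one_apply, ← Nat.cast_smul_eq_nsmul F,
    CharP.cast_eq_zero, zero_smul, add_zero]

omit [FiniteDimensional F V] in
/-- `B(u, y u) = 2 Q(u)` when `y u - u` is singular -/
theorem unip_polar_self (hiso : ∀ v, Q (y v) = Q v) (u : V) (hu : Q (y u - u) = 0) :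
    polar Q u (y u - u) = 0 := by
  have h1 : Q (y u - u) = Q (y u) + Q u - polar Q u (y u) := by
    have : y u = (y u - u) + u := by abel
    have h3 : polar Q (y u - u) u = Q (y u) - Q (y u - u) - Q u := by
      rw [QuadraticMap.polar, sub_add_cancel]
    rw [polar_sub_left] at h3
    have h4 : polar Q u u = 2 * Q u := by rw [polar_self]; simp
    rw [polar_comm Q (y u) u, h4] at h3
    linear_combination h3
  rw [hu, hiso] at h1
  rw [polar_sub_right]
  have h4 : polar Q u u = 2 * Q u := by rw [polar_self]; simp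
  rw [h4]
  linear_combination h1

/-- the rank of `y - 1` on an invariant nondegenerate subspace is even when the image of `y - 1`
is totally singular -/
theorem unip_even (hiso : ∀ v, Q (y v) = Q v) (hmovQ : ∀ z, Q (y z - z) = 0)
    (W : Submodule F V) (hWinv : ∀ u ∈ W, y u ∈ W) (hWnd : Nd Q W) :
    Even (finrank F ↥(W.map (y - 1))) := by
  obtain ⟨NW, hNW⟩ : ∃ NW : ↥W →ₗ[F] V, NW = (y - 1).domRestrict W := ⟨_, rfl⟩
  have hNWapp : ∀ w : W, NW w = y (w : V) - (w : V) := by
    intro w
    rw [hNW]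
    rfl
  let β : LinearMap.BilinForm F W := (polarBilin Q).compl₁₂ W.subtype NW
  have hβ : ∀ u v : W, β u v = polar Q (u : V) (NW v) := fun u v => rfl
  have hβalt : β.IsAlt := fun u => by
    rw [hβ, hNWapp]
    exact unip_polar_self Q y hiso _ (hmovQ _)
  obtain ⟨C, hC⟩ := Submodule.exists_isCompl (LinearMap.ker NW)
  have hβC : (β.restrict C).IsAlt := fun c => hβalt (c : W)
  have hright : ∀ c : C, (∀ c' : C, β (c' : W) (c : W) = 0) → c = 0 := by
    intro c hc
    have hall : ∀ w : W, β w (c : W) = 0 := by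
      intro w
      have hw : w ∈ LinearMap.ker NW ⊔ C := by rw [hC.sup_eq_top]; exact Submodule.mem_top
      obtain ⟨k, hk, c', hc', rfl⟩ := Submodule.mem_sup.1 hw
      rw [map_add, LinearMap.add_apply, hc ⟨c', hc'⟩, add_zero]
      have h1 := hβalt.neg_eq k (c : W)
      rw [hβ (c : W) k, LinearMap.mem_ker.1 hk, polar_zero_right] at h1
      exact neg_eq_zero.1 h1
    have hNc : NW (c : W) = 0 := by
      by_contra h0
      have hmem : NW (c : W) ∈ W := by
        rw [hNWapp]
        exact W.sub_mem (hWinv _ (c : W).2) (c : W).2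
      obtain ⟨w, hw, hne⟩ := hWnd _ hmem h0
      apply hne
      have := hall ⟨w, hw⟩
      rw [hβ] at this
      rw [OrN.pB_apply, polar_comm]
      exact this
    have hmem : (c : W) ∈ LinearMap.ker NW ⊓ C := ⟨LinearMap.mem_ker.2 hNc, c.2⟩
    rw [hC.inf_eq_bot] at hmem
    exact Subtype.ext ((Submodule.mem_bot F).1 hmem)
  have hβnd : (β.restrict C).Nondegenerate := by
    constructor
    · intro u hu
      apply hright u
      intro c'
      have h1 := hβalt.neg_eq (c' : W) (u : W)
      have h3 : β (u : W) (c' : W) = 0 := hu c'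
      rw [h3] at h1
      exact neg_eq_zero.1 h1
    · intro v hv
      exact hright v (fun c' => hv c')
  have hev := Cfsg.Agent.Lib.Helper13.even_finrank_of_isAlt_nondegenerate (finrank F C)
    (β.restrict C) hβC hβnd rfl
  have h1 := Submodule.finrank_add_eq_of_isCompl hC
  have h3 := LinearMap.finrank_range_add_finrank_ker NW
  have h4 : LinearMap.range NW = W.map (y - 1) := by
    rw [hNW, LinearMap.range_domRestrict]
  rw [h4] at h3
  have : finrank F ↥(W.map (y - 1)) = finrank F C := by omega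
  rw [this]
  exact hev

end unip

section unip2

variable {F : Type*} [Field F] [Fintype F] {V : Type*} [AddCommGroup V] [Module F V]
  [FiniteDimensional F V] (Q : QuadraticForm F V) (y : V →ₗ[F] V)

/-- the numerical invariants of an invariant nondegenerate subspace for a unipotent isometry
`y = 1 + N` with `N V` totally singular and `N² = 0` -/
theorem unip_counts' (hQ : (polarBilin Q).Nondegenerate) (d : ℕ) (hdim : finrank F V = 2 * d)
    (hiso : ∀ v, Q (y v) = Q v) (E : Submodule F V) (hE : ∀ e ∈ E, Q e = 0)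
    (hmov : ∀ z, y z - z ∈ E) (r : ℕ) (hr : 0 < r) (hyr : y ^ r = 1)
    (W : Submodule F V) (hWinv : ∀ u ∈ W, y u ∈ W) (hWnd : Nd Q W) (μ : ℕ)
    (hWdim : finrank F W = 2 * μ) :
    ∃ a b : ℕ, Even a ∧ Even b ∧ a + b = finrank F (LinearMap.range (y - 1)) ∧ a ≤ μ ∧
      b + μ ≤ d ∧ (a = μ → IsPlus Q W) ∧
      (b + μ = d → ∀ ε : ℤ, TypeOn Q W ε → TypeOn Q ⊤ ε) := by
  obtain ⟨W', hW'⟩ : ∃ W', W' = orth (pB Q) W := ⟨_, rfl⟩
  have hW'inv : ∀ u ∈ W', y u ∈ W' := by
    rw [hW']
    exact orth_invariant (pB Q) y (pB_iso Q y hiso) r hr hyr W hWinv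
  have hW'nd : Nd Q W' := by
    have := ndOn_inf_orth (pB Q) pB_id (pB_sym Q) ⊤ W (nd_top Q hQ) le_top hWnd
    rw [top_inf_eq] at this
    rw [hW']
    exact this
  have hdimW' := finrank_inf_orth (pB Q) pB_id (pB_sym Q) ⊤ W le_top hWnd
  rw [top_inf_eq, finrank_top, ← hW', hdim, hWdim] at hdimW'
  obtain ⟨hsup, hdisj⟩ := sup_inf_orth (pB Q) pB_id (pB_sym Q) ⊤ W le_top hWnd
  rw [top_inf_eq, ← hW'] at hsup hdisj
  have hm1 := map_sub_one_le y W hWinv
  have hm1' := map_sub_one_le y W' hW'inv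
  have hmovQ : ∀ z, Q (y z - z) = 0 := fun z => hE _ (hmov z)
  have e1 : finrank F ↥(W.map (y - 1)) + finrank F ↥(W'.map (y - 1)) =
      finrank F (LinearMap.range (y - 1)) := by
    have h1 := Submodule.finrank_sup_add_finrank_inf_eq (W.map (y - 1)) (W'.map (y - 1))
    have h3 : W.map (y - 1) ⊓ W'.map (y - 1) = ⊥ := by
      rw [eq_bot_iff, ← hdisj.eq_bot]
      exact inf_le_inf hm1 hm1'
    rw [h3, finrank_bot, add_zero, ← Submodule.map_sup, hsup, Submodule.map_top] at h1
    exact h1.symm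
  have hts : ∀ U : Submodule F V, Or.TS Q (U.map (y - 1)) := by
    rintro U _ ⟨u, -, rfl⟩
    rw [LinearMap.sub_apply, Module.End.one_apply]
    exact hmovQ u
  have hle := Or.ts_sub_le Q W (W.map (y - 1)) ((nd_iff Q W).1 hWnd) hm1 (hts W)
  have hle' := Or.ts_sub_le Q W' (W'.map (y - 1)) ((nd_iff Q W').1 hW'nd) hm1' (hts W')
  have horth : ∀ u ∈ W, ∀ v ∈ W', polar Q u v = 0 := by
    intro u hu v hv
    rw [hW'] at hv
    exact hv u hu
  refine ⟨_, _, unip_even Q y hiso hmovQ W hWinv hWnd, unip_even Q y hiso hmovQ W' hW'inv hW'nd,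
    e1, by omega, by omega, ?_, ?_⟩
  · intro ha
    exact ⟨W.map (y - 1), hm1, hts W, by omega⟩
  · intro hb ε hε
    have hplus : IsPlus Q W' := ⟨W'.map (y - 1), hm1', hts W', by omega⟩
    have ht' : TypeOn Q W' 1 :=
      (typeOn_one_iff Q W' hW'nd ⟨d - μ, by omega⟩).2 hplus
    have h5 := typeOn_sup Q W W' hWnd horth ⟨μ, by omega⟩ ⟨d - μ, by omega⟩ hε ht'
    rw [hsup, mul_one] at h5
    exact h5

end unip2

end Cfsg.Agent.Lib.Helper24.Ot
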