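/- helper24: products of long root elements; unipotent elements of order p in the orthogonal groups with totally singular commutator space -/
import Mathlib
import Cfsg.Agent.Lib.Helper24.OtM
import Cfsg.Agent.Lib.Helper25.Siegel2

set_option autoImplicit false
set_option linter.unusedSectionVars false

namespace Cfsg.Agent.Lib.Helper24.Ot

open Module Polynomial QuadraticMap Cfsg.Agent.Lib.Helper12.Elus Cfsg.Agent.Lib.Helper12.Un
  Cfsg.Agent.Lib.Helper12 Cfsg.Agent.Lib.Helper12.OrN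
  Cfsg.Agent.Lib.Helper15 Cfsg.Agent.Lib.Helper15.QuadType
  Cfsg.Agent.Lib.Helper25.Siegel Cfsg.Agent.Lib.Helper25.CD

universe u

section siegel

variable {F : Type*} [Field F] [Fintype F] {ι : Type} [Fintype ι] [DecidableEq ι]
  (Qs : QuadraticForm F (ι → F))

omit [Fintype F] [Fintype ι] [DecidableEq ι] in
theorem polar_siegF_orth (e : ℕ → ι → F) (hBee : ∀ i j, polar Qs (e i) (e j) = 0)
    (i a b : ℕ) (c : F) (z : ι → F) :
    polar Qs (e i) (siegF Qs (e a) (e b) c z) = polar Qs (e i) z := by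
  unfold siegF
  rw [polar_add_right, polar_smul_right, polar_sub_right, polar_smul_right, polar_smul_right,
    hBee, hBee]
  simp

/-- a product of commuting long root elements -/
theorem exists_siegel_prod (hQ : (polarBilin Qs).Nondegenerate) (hn : 7 ≤ Fintype.card ι)
    (e : ℕ → ι → F) (hQe : ∀ i, Qs (e i) = 0) (hBee : ∀ i j, polar Qs (e i) (e j) = 0) (n : ℕ) :
    ∃ g : ↥(Cfsg.isometryGroup F ⇑Qs), g ∈ Cfsg.Omega F ⇑Qs ∧
      ∀ z, toOG Qs g z = z + ∑ j ∈ Finset.range n,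
        (polar Qs (e (2 * j)) z • e (2 * j + 1) - polar Qs (e (2 * j + 1)) z • e (2 * j)) := by
  induction n with
  | zero =>
    refine ⟨1, Subgroup.one_mem _, fun z => ?_⟩
    rw [map_one, Finset.range_zero, Finset.sum_empty, add_zero]
    rfl
  | succ n ih =>
    obtain ⟨g, hg, hgz⟩ := ih
    refine ⟨g * siegG Qs (e (2 * n)) (e (2 * n + 1)) 1 (hQe _) (hQe _) (hBee _ _),
      Subgroup.mul_mem _ hg (siegG_mem_omega Qs hQ hn _ _ _ _ _ _), fun z => ?_⟩
    rw [map_mul, LinearEquiv.mul_apply, toOG_siegG, hgz, Finset.sum_range_succ]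
    have h1 : ∀ j, polar Qs (e (2 * j)) (siegF Qs (e (2 * n)) (e (2 * n + 1)) 1 z) •
        e (2 * j + 1) - polar Qs (e (2 * j + 1)) (siegF Qs (e (2 * n)) (e (2 * n + 1)) 1 z) •
        e (2 * j) = polar Qs (e (2 * j)) z • e (2 * j + 1) -
          polar Qs (e (2 * j + 1)) z • e (2 * j) := by
      intro j
      rw [polar_siegF_orth Qs e hBee, polar_siegF_orth Qs e hBee]
    rw [Finset.sum_congr rfl (fun j _ => h1 j)]
    unfold siegF
    rw [one_smul]
    abel

/-- a unipotent element of `Ω` of order `p` whose commutator space is totally singular of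
dimension at least `2 n` -/
theorem exists_unip_elt (hQ : (polarBilin Qs).Nondegenerate) (hn : 7 ≤ Fintype.card ι)
    (p : ℕ) [CharP F p] (e f : ℕ → ι → F) (hQe : ∀ i, Qs (e i) = 0)
    (hBee : ∀ i j, polar Qs (e i) (e j) = 0) (n : ℕ) (hn1 : 1 ≤ n)
    (hBef : ∀ i j, i < 2 * n → j < 2 * n → polar Qs (e i) (f j) = if i = j then 1 else 0) :
    ∃ x : GL ι F, x ∈ Cfsg.Geo.omegaGL ⇑Qs ∧ ((x ^ p : GL ι F) : Matrix ι ι F) = 1 ∧
      (∀ z : F, (x : Matrix ι ι F) ≠ z • (1 : Matrix ι ι F)) ∧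
      ∃ E : Submodule F (ι → F), (∀ v ∈ E, Qs v = 0) ∧
        (∀ z, Matrix.toLin' (x : Matrix ι ι F) z - z ∈ E) ∧
        2 * n ≤ finrank F (LinearMap.range (Matrix.toLin' (x : Matrix ι ι F) - 1)) := by
  classical
  obtain ⟨g, hg, hgz⟩ := exists_siegel_prod Qs hQ hn e hQe hBee n
  obtain ⟨y, hy⟩ : ∃ y : (ι → F) →ₗ[F] (ι → F), y = Matrix.toLin' ((g : GL ι F) : Matrix ι ι F) :=
    ⟨_, rfl⟩
  have hyz : ∀ z, y z = z + ∑ j ∈ Finset.range n,
      (polar Qs (e (2 * j)) z • e (2 * j + 1) - polar Qs (e (2 * j + 1)) z • e (2 * j)) := by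
    intro z
    rw [← hgz z, hy, toOG_apply, Matrix.toLin'_apply]
  obtain ⟨E, hE⟩ : ∃ E, E = Submodule.span F (Set.range e) := ⟨_, rfl⟩
  have heE : ∀ i, e i ∈ E := fun i => by rw [hE]; exact Submodule.subset_span ⟨i, rfl⟩
  have hts : Or.TS Qs E := by
    rw [hE]
    exact Or.ts_span Qs e hQe hBee
  have hmov : ∀ z, y z - z ∈ E := by
    intro z
    rw [hyz, add_sub_cancel_left]
    apply Submodule.sum_mem
    intro j _
    exact E.sub_mem (E.smul_mem _ (heE _)) (E.smul_mem _ (heE _))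
  have horthE : ∀ v ∈ E, ∀ i, polar Qs (e i) v = 0 := by
    intro v hv i
    rw [hE] at hv
    refine Submodule.span_induction ?_ ?_ ?_ ?_ hv
    · rintro _ ⟨j, rfl⟩
      exact hBee i j
    · rw [polar_zero_right]
    · intro a b _ _ ha hb
      rw [polar_add_right, ha, hb, add_zero]
    · intro c a _ ha
      rw [polar_smul_right, ha, smul_zero]
  have hfix : ∀ v ∈ E, y v = v := by
    intro v hv
    rw [hyz]
    have : ∑ j ∈ Finset.range n,
        (polar Qs (e (2 * j)) v • e (2 * j + 1) - polar Qs (e (2 * j + 1)) v • e (2 * j)) = 0 := by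
      apply Finset.sum_eq_zero
      intro j _
      rw [horthE v hv, horthE v hv, zero_smul, zero_smul, sub_zero]
    rw [this, add_zero]
  -- images of the dual vectors
  have hodd : ∀ j, j < n → y (f (2 * j)) - f (2 * j) = e (2 * j + 1) := by
    intro j hj
    rw [hyz, add_sub_cancel_left, Finset.sum_eq_single j]
    · rw [hBef (2 * j) (2 * j) (by omega) (by omega), hBef (2 * j + 1) (2 * j) (by omega) (by omega),
        if_pos rfl, if_neg (by omega), one_smul, zero_smul, sub_zero]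
    · intro j' hj' hne
      rw [Finset.mem_range] at hj'
      rw [hBef (2 * j') (2 * j) (by omega) (by omega),
        hBef (2 * j' + 1) (2 * j) (by omega) (by omega), if_neg (by omega), if_neg (by omega),
        zero_smul, zero_smul, sub_zero]
    · intro h
      exact absurd (Finset.mem_range.2 hj) h
  have heven : ∀ j, j < n → y (f (2 * j + 1)) - f (2 * j + 1) = -e (2 * j) := by
    intro j hj
    rw [hyz, add_sub_cancel_left, Finset.sum_eq_single j]
    · rw [hBef (2 * j) (2 * j + 1) (by omega) (by omega),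
        hBef (2 * j + 1) (2 * j + 1) (by omega) (by omega),
        if_pos rfl, if_neg (by omega), one_smul, zero_smul, zero_sub]
    · intro j' hj' hne
      rw [Finset.mem_range] at hj'
      rw [hBef (2 * j') (2 * j + 1) (by omega) (by omega),
        hBef (2 * j' + 1) (2 * j + 1) (by omega) (by omega), if_neg (by omega),
        if_neg (by omega), zero_smul, zero_smul, sub_zero]
    · intro h
      exact absurd (Finset.mem_range.2 hj) h
  have hne0 : ∀ i, i < 2 * n → e i ≠ 0 := by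
    intro i hi h0
    have := hBef i i hi hi
    rw [h0, polar_zero_left, if_pos rfl] at this
    exact zero_ne_one this
  -- the rank
  have hmem : ∀ i, i < 2 * n → e i ∈ LinearMap.range (y - 1) := by
    intro i hi
    rcases Nat.even_or_odd' i with ⟨j, rfl | rfl⟩
    · refine ⟨-f (2 * j + 1), ?_⟩
      rw [map_neg, LinearMap.sub_apply, Module.End.one_apply, heven j (by omega), neg_neg]
    · refine ⟨f (2 * j), ?_⟩
      rw [LinearMap.sub_apply, Module.End.one_apply, hodd j (by omega)]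
  have hli : LinearIndependent F (fun i : Fin (2 * n) => e (i : ℕ)) := by
    rw [Fintype.linearIndependent_iff]
    intro c hc i
    have h1 := congrArg (fun v => polarBilin Qs v (f (i : ℕ))) hc
    simp only [map_sum, LinearMap.sum_apply, map_smul, LinearMap.smul_apply, map_zero,
      LinearMap.zero_apply, polarBilin_apply_apply] at h1
    rw [Finset.sum_eq_single i] at h1
    · rw [hBef _ _ i.2 i.2, if_pos rfl, smul_eq_mul, mul_one] at h1
      exact h1
    · intro j _ hji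
      rw [hBef _ _ j.2 i.2, if_neg (fun h => hji (Fin.ext h)), smul_zero]
    · intro h
      exact absurd (Finset.mem_univ i) h
  have hrank : 2 * n ≤ finrank F (LinearMap.range (y - 1)) := by
    have h1 := finrank_span_eq_card hli
    rw [Fintype.card_fin] at h1
    rw [← h1]
    apply Submodule.finrank_mono
    rw [Submodule.span_le]
    rintro _ ⟨i, rfl⟩
    exact hmem i i.2
  refine ⟨(g : GL ι F), Subgroup.mem_map.2 ⟨g, hg, rfl⟩, ?_, ?_, E, hts, ?_, ?_⟩
  · apply Matrix.toLin'.injective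
    rw [Units.val_pow_eq_pow_val, Matrix.toLin'_pow, ← hy, unip_pow_char y p E hmov hfix,
      Matrix.toLin'_one]
    rfl
  · intro z hz
    have hyz' : ∀ v, y v = z • v := by
      intro v
      rw [hy, hz, Matrix.toLin'_apply, Matrix.smul_mulVec, Matrix.one_mulVec]
    have h0 := hfix (e 0) (heE 0)
    rw [hyz'] at h0
    have hz1 : z = 1 := by
      by_contra hne
      have : (z - 1) • e 0 = 0 := by rw [sub_smul, one_smul, h0, sub_self]
      rcases smul_eq_zero.1 this with h | h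
      · exact hne (sub_eq_zero.1 h)
      · exact hne0 0 (by omega) h
    have h1 := hodd 0 (by omega)
    rw [hyz', hz1, one_smul, sub_self] at h1
    exact hne0 1 (by omega) h1.symm
  · intro z
    rw [← hy]
    exact hmov z
  · rw [← hy]
    exact hrank

end siegel

section fams

variable {F : Type*} [Field F]

/-- the standard hyperbolic family of the plus form -/
theorem plus_hyp_fam (d : ℕ) : ∃ e f : ℕ → (Fin d ⊕ Fin d → F),
    (∀ i, plusQF d (e i) = 0) ∧ (∀ i j, polar (plusQF d) (e i) (e j) = 0) ∧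
    ∀ i j, i < d → j < d → polar (plusQF d) (e i) (f j) = if i = j then 1 else 0 := by
  classical
  obtain ⟨e, he⟩ : ∃ e : ℕ → (Fin d ⊕ Fin d → F),
      e = fun i => if h : i < d then Pi.single (Sum.inl ⟨i, h⟩) 1 else 0 := ⟨_, rfl⟩
  obtain ⟨f, hf⟩ : ∃ f : ℕ → (Fin d ⊕ Fin d → F),
      f = fun i => if h : i < d then Pi.single (Sum.inr ⟨i, h⟩) 1 else 0 := ⟨_, rfl⟩
  have he_r : ∀ i l, e i (Sum.inr l) = 0 := by
    intro i l
    rw [he]
    by_cases h : i < d
    · simp [h]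
    · simp [h]
  have hf_l : ∀ i l, f i (Sum.inl l) = 0 := by
    intro i l
    rw [hf]
    by_cases h : i < d
    · simp [h]
    · simp [h]
  have he_l : ∀ i (l : Fin d), i < d → e i (Sum.inl l) = if i = (l : ℕ) then 1 else 0 := by
    intro i l h
    rw [he]
    simp only [h, dite_true, Pi.single_apply, Sum.inl.injEq]
    by_cases hil : i = (l : ℕ)
    · rw [if_pos hil, if_pos (Fin.ext hil.symm)]
    · rw [if_neg hil, if_neg (fun h' => hil (by rw [h']))]
  have hf_r : ∀ i (l : Fin d), i < d → f i (Sum.inr l) = if i = (l : ℕ) then 1 else 0 := by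
    intro i l h
    rw [hf]
    simp only [h, dite_true, Pi.single_apply, Sum.inr.injEq]
    by_cases hil : i = (l : ℕ)
    · rw [if_pos hil, if_pos (Fin.ext hil.symm)]
    · rw [if_neg hil, if_neg (fun h' => hil (by rw [h']))]
  refine ⟨e, f, ?_, ?_, ?_⟩
  · intro i
    rw [plusQF_apply]
    apply Finset.sum_eq_zero
    intro l _
    rw [he_r, mul_zero]
  · intro i j
    rw [polar_plusQF']
    apply Finset.sum_eq_zero
    intro l _
    rw [he_r, he_r, mul_zero, mul_zero, add_zero]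
  · intro i j hi hj
    rw [polar_plusQF', Finset.sum_eq_single ⟨j, hj⟩]
    · rw [he_l i _ hi, hf_r j _ hj, hf_l, he_r]
      simp
    · intro l _ hl
      rw [hf_r j _ hj, hf_l, if_neg, mul_zero, zero_mul, add_zero]
      intro h
      exact hl (Fin.ext h.symm)
    · intro h
      exact absurd (Finset.mem_univ _) h

/-- the standard hyperbolic family of the minus form -/
theorem minus_hyp_fam (k : ℕ) (a b : F) : ∃ e f : ℕ → ((Fin k ⊕ Fin k) ⊕ Fin 2 → F),
    (∀ i, minusQFab k a b (e i) = 0) ∧ (∀ i j, polar (minusQFab k a b) (e i) (e j) = 0) ∧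
    ∀ i j, i < k → j < k → polar (minusQFab k a b) (e i) (f j) = if i = j then 1 else 0 := by
  classical
  obtain ⟨e, he⟩ : ∃ e : ℕ → ((Fin k ⊕ Fin k) ⊕ Fin 2 → F),
      e = fun i => if h : i < k then Pi.single (Sum.inl (Sum.inl ⟨i, h⟩)) 1 else 0 := ⟨_, rfl⟩
  obtain ⟨f, hf⟩ : ∃ f : ℕ → ((Fin k ⊕ Fin k) ⊕ Fin 2 → F),
      f = fun i => if h : i < k then Pi.single (Sum.inl (Sum.inr ⟨i, h⟩)) 1 else 0 := ⟨_, rfl⟩
  have he_r : ∀ i l, e i (Sum.inl (Sum.inr l)) = 0 := by
    intro i l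
    rw [he]
    by_cases h : i < k
    · simp [h]
    · simp [h]
  have he_z : ∀ i l, e i (Sum.inr l) = 0 := by
    intro i l
    rw [he]
    by_cases h : i < k
    · simp [h]
    · simp [h]
  have hf_l : ∀ i l, f i (Sum.inl (Sum.inl l)) = 0 := by
    intro i l
    rw [hf]
    by_cases h : i < k
    · simp [h]
    · simp [h]
  have hf_z : ∀ i l, f i (Sum.inr l) = 0 := by
    intro i l
    rw [hf]
    by_cases h : i < k
    · simp [h]
    · simp [h]
  have he_l : ∀ i (l : Fin k), i < k →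
      e i (Sum.inl (Sum.inl l)) = if i = (l : ℕ) then 1 else 0 := by
    intro i l h
    rw [he]
    simp only [h, dite_true, Pi.single_apply, Sum.inl.injEq]
    by_cases hil : i = (l : ℕ)
    · rw [if_pos hil, if_pos (Fin.ext hil.symm)]
    · rw [if_neg hil, if_neg (fun h' => hil (by rw [h']))]
  have hf_r : ∀ i (l : Fin k), i < k →
      f i (Sum.inl (Sum.inr l)) = if i = (l : ℕ) then 1 else 0 := by
    intro i l h
    rw [hf]
    simp only [h, dite_true, Pi.single_apply, Sum.inl.injEq, Sum.inr.injEq]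
    by_cases hil : i = (l : ℕ)
    · rw [if_pos hil, if_pos (Fin.ext hil.symm)]
    · rw [if_neg hil, if_neg (fun h' => hil (by rw [h']))]
  refine ⟨e, f, ?_, ?_, ?_⟩
  · intro i
    rw [minusQFab_eq]
    unfold Cfsg.quadFormMinus
    rw [he_z, he_z]
    have : ∑ l : Fin k, e i (Sum.inl (Sum.inl l)) * e i (Sum.inl (Sum.inr l)) = 0 := by
      apply Finset.sum_eq_zero
      intro l _
      rw [he_r, mul_zero]
    rw [this]
    ring
  · intro i j
    rw [polar_minusQFab, he_z, he_z, he_z, he_z]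
    have h1 : (fun l => e i (Sum.inl (Sum.inl l))) ⬝ᵥ (fun l => e j (Sum.inl (Sum.inr l))) = 0 := by
      unfold dotProduct
      beta_reduce
      apply Finset.sum_eq_zero
      intro l _
      rw [he_r, mul_zero]
    have h3 : (fun l => e j (Sum.inl (Sum.inl l))) ⬝ᵥ (fun l => e i (Sum.inl (Sum.inr l))) = 0 := by
      unfold dotProduct
      beta_reduce
      apply Finset.sum_eq_zero
      intro l _
      rw [he_r, mul_zero]
    rw [h1, h3]
    ring
  · intro i j hi hj
    rw [polar_minusQFab, he_z, he_z, hf_z, hf_z]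
    have h1 : (fun l => e i (Sum.inl (Sum.inl l))) ⬝ᵥ (fun l => f j (Sum.inl (Sum.inr l))) =
        if i = j then 1 else 0 := by
      unfold dotProduct
      beta_reduce
      rw [Finset.sum_eq_single ⟨j, hj⟩]
      · rw [he_l i _ hi, hf_r j _ hj]
        simp
      · intro l _ hl
        rw [hf_r j _ hj, if_neg, mul_zero]
        intro h
        exact hl (Fin.ext h.symm)
      · intro h
        exact absurd (Finset.mem_univ _) h
    have h3 : (fun l => f j (Sum.inl (Sum.inl l))) ⬝ᵥ (fun l => e i (Sum.inl (Sum.inr l))) = 0 := by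
      unfold dotProduct
      beta_reduce
      apply Finset.sum_eq_zero
      intro l _
      rw [he_r, mul_zero]
    rw [h1, h3]
    ring

end fams

section elusive

variable {F : Type u} [Field F] [Fintype F] {p : ℕ} [Fact p.Prime] [CharP F p]
  {ι : Type} [Fintype ι] [DecidableEq ι] (Qs : QuadraticForm F (ι → F))

/-- the common setup: an element of `Ω` of order `p` together with the numerical invariants of
its invariant nondegenerate subspaces -/
theorem exists_unip_counts (hQ : (polarBilin Qs).Nondegenerate) (d : ℕ) (hd : 4 ≤ d)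
    (hcard : Fintype.card ι = 2 * d)
    (e f : ℕ → ι → F) (hQe : ∀ i, Qs (e i) = 0)
    (hBee : ∀ i j, polar Qs (e i) (e j) = 0) (n : ℕ) (hn1 : 1 ≤ n)
    (hBef : ∀ i j, i < 2 * n → j < 2 * n → polar Qs (e i) (f j) = if i = j then 1 else 0) :
    ∃ x : GL ι F, x ∈ Cfsg.Geo.omegaGL ⇑Qs ∧ ((x ^ p : GL ι F) : Matrix ι ι F) = 1 ∧
      (∀ z : F, (x : Matrix ι ι F) ≠ z • (1 : Matrix ι ι F)) ∧
      ∀ W : Submodule F (ι → F), W.map (Matrix.toLin' (x : Matrix ι ι F)) ≤ W → Nd Qs W →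
        ∀ μ, finrank F W = 2 * μ →
        ∃ a b : ℕ, Even a ∧ Even b ∧ 2 * n ≤ a + b ∧ a ≤ μ ∧
          b + μ ≤ d ∧ (a = μ → IsPlus Qs W) ∧
          (b + μ = d → ∀ ε : ℤ, TypeOn Qs W ε → TypeOn Qs ⊤ ε) := by
  have hp : p.Prime := Fact.out
  obtain ⟨x, hxΩ, hxp, hxs, E, hE, hmov, hrank⟩ := exists_unip_elt Qs hQ (by omega) p e f hQe hBee
    n hn1 hBef
  refine ⟨x, hxΩ, hxp, hxs, fun W hW hWnd μ hWdim => ?_⟩
  have hxiso := Or.iso_of_mem_omega _ x hxΩ
  have hiso : ∀ v, Qs (Matrix.toLin' (x : Matrix ι ι F) v) = Qs v := fun v => Or.toLin_iso _ x hxiso v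
  have hyp : (Matrix.toLin' (x : Matrix ι ι F)) ^ p = 1 := by
    rw [← Matrix.toLin'_pow, ← Units.val_pow_eq_pow_val, hxp, Matrix.toLin'_one]
    rfl
  have hdim : finrank F (ι → F) = 2 * d := by rw [Module.finrank_fintype_fun_eq_card, hcard]
  obtain ⟨a, b, ha, hb, hab, h1, h3, h4, h5⟩ := unip_counts' Qs _ hQ d hdim hiso E hE hmov p
    hp.pos hyp W (Or.forall_of_map_le W _ hW) hWnd μ hWdim
  exact ⟨a, b, ha, hb, by omega, h1, h3, h4, h5⟩

end elusive

section concrete

variable {F : Type u} [Field F] [Fintype F] {p : ℕ} [Fact p.Prime] [CharP F p]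

/-- `Ω⁺_{2d}(q)` has an element of order `p` all of whose invariant nondegenerate
even-dimensional subspaces are hyperbolic -/
theorem elusive_plus_all (d : ℕ) (hd : 4 ≤ d) :
    ∃ x : GL (Fin d ⊕ Fin d) F, x ∈ Cfsg.Geo.omegaGL ⇑(plusQF d (F := F)) ∧
      ((x ^ p : GL (Fin d ⊕ Fin d) F) : Matrix (Fin d ⊕ Fin d) (Fin d ⊕ Fin d) F) = 1 ∧
      (∀ z : F, (x : Matrix (Fin d ⊕ Fin d) (Fin d ⊕ Fin d) F) ≠
        z • (1 : Matrix (Fin d ⊕ Fin d) (Fin d ⊕ Fin d) F)) ∧
      ∀ W : Submodule F (Fin d ⊕ Fin d → F),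
        W.map (Matrix.toLin' (x : Matrix (Fin d ⊕ Fin d) (Fin d ⊕ Fin d) F)) ≤ W →
        Nd (plusQF d) W → ∀ μ, finrank F W = 2 * μ → TypeOn (plusQF d) W 1 := by
  obtain ⟨e, f, hQe, hBee, hBef⟩ := plus_hyp_fam (F := F) d
  obtain ⟨x, hxΩ, hxp, hxs, hW⟩ := exists_unip_counts (p := p) (plusQF d (F := F))
    (plusQF_nondegenerate d) d hd (Or.card_idx_plus d) e f hQe hBee (d / 2) (by omega)
    (fun i j hi hj => hBef i j (by omega) (by omega))
  refine ⟨x, hxΩ, hxp, hxs, fun W hWinv hWnd μ hWdim => ?_⟩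
  obtain ⟨a, b, -, -, hab, h1, h3, h4, h5⟩ := hW W hWinv hWnd μ hWdim
  have hdim : finrank F (Fin d ⊕ Fin d → F) = 2 * d := by
    rw [Module.finrank_fintype_fun_eq_card]
    exact Or.card_idx_plus d
  have htop : TypeOn (plusQF d (F := F)) ⊤ 1 :=
    (typeOn_top_iff (plusQF d (F := F)) d hdim 1).2 (Or.hasType_plusQF d)
  by_cases ha : a = μ
  · exact (typeOn_one_iff _ W hWnd ⟨μ, by omega⟩).2 (h4 ha)
  · obtain ⟨ε, hε, ht⟩ := typeOn_exists (plusQF d (F := F)) W hWnd ⟨μ, by omega⟩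
    have h6 := h5 (by omega) ε ht
    rw [typeOn_unique _ _ h6 htop] at ht
    exact ht

/-- for even `d`, `Ω⁺_{2d}(q)` has an element of order `p` fixing no nondegenerate subspace of
dimension `2 μ` with `μ` odd -/
theorem elusive_plus_even (d : ℕ) (hd : 4 ≤ d) (hde : Even d) :
    ∃ x : GL (Fin d ⊕ Fin d) F, x ∈ Cfsg.Geo.omegaGL ⇑(plusQF d (F := F)) ∧
      ((x ^ p : GL (Fin d ⊕ Fin d) F) : Matrix (Fin d ⊕ Fin d) (Fin d ⊕ Fin d) F) = 1 ∧
      (∀ z : F, (x : Matrix (Fin d ⊕ Fin d) (Fin d ⊕ Fin d) F) ≠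
        z • (1 : Matrix (Fin d ⊕ Fin d) (Fin d ⊕ Fin d) F)) ∧
      ∀ W : Submodule F (Fin d ⊕ Fin d → F),
        W.map (Matrix.toLin' (x : Matrix (Fin d ⊕ Fin d) (Fin d ⊕ Fin d) F)) ≤ W →
        Nd (plusQF d) W → ∀ μ, Odd μ → finrank F W ≠ 2 * μ := by
  obtain ⟨e, f, hQe, hBee, hBef⟩ := plus_hyp_fam (F := F) d
  obtain ⟨d', hd'⟩ := hde
  obtain ⟨x, hxΩ, hxp, hxs, hW⟩ := exists_unip_counts (p := p) (plusQF d (F := F))
    (plusQF_nondegenerate d) d hd (Or.card_idx_plus d) e f hQe hBee d' (by omega)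
    (fun i j hi hj => hBef i j (by omega) (by omega))
  refine ⟨x, hxΩ, hxp, hxs, fun W hWinv hWnd μ hμ hWdim => ?_⟩
  obtain ⟨a, b, ha, -, hab, h1, h3, -, -⟩ := hW W hWinv hWnd μ hWdim
  have : a = μ := by omega
  rw [this] at ha
  exact (Nat.not_even_iff_odd.2 hμ) ha

/-- for even `k` (`d = k + 1` odd), `Ω⁻_{2d}(q)` has an element of order `p` fixing no elliptic
subspace of dimension `2 μ` with `μ` even -/
theorem elusive_minus_odd (k : ℕ) (hk : 3 ≤ k) (hke : Even k) (a b : F)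
    (hab : ∀ x y : F, x ^ 2 + a * x * y + b * y ^ 2 = 0 → x = 0 ∧ y = 0) :
    ∃ x : GL ((Fin k ⊕ Fin k) ⊕ Fin 2) F, x ∈ Cfsg.Geo.omegaGL ⇑(minusQFab k a b) ∧
      ((x ^ p : GL ((Fin k ⊕ Fin k) ⊕ Fin 2) F) :
        Matrix ((Fin k ⊕ Fin k) ⊕ Fin 2) ((Fin k ⊕ Fin k) ⊕ Fin 2) F) = 1 ∧
      (∀ z : F, (x : Matrix ((Fin k ⊕ Fin k) ⊕ Fin 2) ((Fin k ⊕ Fin k) ⊕ Fin 2) F) ≠
        z • (1 : Matrix ((Fin k ⊕ Fin k) ⊕ Fin 2) ((Fin k ⊕ Fin k) ⊕ Fin 2) F)) ∧
      ∀ W : Submodule F ((Fin k ⊕ Fin k) ⊕ Fin 2 → F),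
        W.map (Matrix.toLin' (x : Matrix ((Fin k ⊕ Fin k) ⊕ Fin 2)
          ((Fin k ⊕ Fin k) ⊕ Fin 2) F)) ≤ W →
        Nd (minusQFab k a b) W → ∀ μ, Even μ → finrank F W = 2 * μ →
          ¬ TypeOn (minusQFab k a b) W (-1) := by
  obtain ⟨e, f, hQe, hBee, hBef⟩ := minus_hyp_fam (F := F) k a b
  obtain ⟨k', hk'⟩ := hke
  obtain ⟨x, hxΩ, hxp, hxs, hW⟩ := exists_unip_counts (p := p) (minusQFab k a b)
    (Or.minusQF_nd k a b hab) (k + 1) (by omega) (Or.card_idx_minus k) e f hQe hBee k' (by omega)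
    (fun i j hi hj => hBef i j (by omega) (by omega))
  refine ⟨x, hxΩ, hxp, hxs, fun W hWinv hWnd μ hμ hWdim ht => ?_⟩
  obtain ⟨a', b', ha, -, hab', h1, h3, h4, -⟩ := hW W hWinv hWnd μ hWdim
  by_cases haμ : a' = μ
  · have h6 := (typeOn_one_iff _ W hWnd ⟨μ, by omega⟩).2 (h4 haμ)
    have := typeOn_unique _ _ h6 ht
    norm_num at this
  · obtain ⟨μ', hμ'⟩ := hμ
    obtain ⟨a'', ha''⟩ := ha
    omega

end concrete

end Cfsg.Agent.Lib.Helper24.Ot
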