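/- helper24: involutions of orthogonal spaces in characteristic two: decomposition into invariant planes and hyperbolic blocks, fixed typed subspaces -/
import Mathlib
import Cfsg.Agent.Lib.Helper24.OtK

set_option autoImplicit false
set_option linter.unusedSectionVars false

namespace Cfsg.Agent.Lib.Helper24.Ot

open Module Polynomial QuadraticMap Cfsg.Agent.Lib.Helper12.Elus Cfsg.Agent.Lib.Helper12.Un
  Cfsg.Agent.Lib.Helper12 Cfsg.Agent.Lib.Helper12.OrN
  Cfsg.Agent.Lib.Helper15 Cfsg.Agent.Lib.Helper15.QuadType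

section pieces

variable {F : Type*} [Field F] [Fintype F] {V : Type*} [AddCommGroup V] [Module F V]
  [FiniteDimensional F V] (Q : QuadraticForm F V) (y : V →ₗ[F] V)

/-- the orthogonal complement of an invariant nondegenerate subspace inside an invariant
nondegenerate subspace -/
theorem compl_facts (hiso : ∀ v, Q (y v) = Q v) (r : ℕ) (hr : 0 < r) (hyr : y ^ r = 1)
    (U P : Submodule F V) (hUinv : ∀ u ∈ U, y u ∈ U) (hUnd : Nd Q U) (hPU : P ≤ U)
    (hPinv : ∀ u ∈ P, y u ∈ P) (hPnd : Nd Q P) :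
    ∃ U' : Submodule F V, U' ≤ U ∧ (∀ u ∈ U', y u ∈ U') ∧ Nd Q U' ∧
      finrank F P + finrank F U' = finrank F U ∧ P ⊔ U' = U ∧
      ∀ a ∈ P, ∀ b ∈ U', polar Q a b = 0 := by
  refine ⟨U ⊓ orth (pB Q) P, inf_le_left, ?_, ?_, ?_, ?_, ?_⟩
  · intro u hu
    exact ⟨hUinv u hu.1, orth_invariant (pB Q) y (pB_iso Q y hiso) r hr hyr P hPinv u hu.2⟩
  · exact ndOn_inf_orth (pB Q) pB_id (pB_sym Q) U P hUnd hPU hPnd
  · exact finrank_inf_orth (pB Q) pB_id (pB_sym Q) U P hPU hPnd
  · exact (sup_inf_orth (pB Q) pB_id (pB_sym Q) U P hPU hPnd).1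
  · intro a ha b hb
    exact hb.2 a ha

/-- adjoining an invariant nondegenerate piece to a typed invariant nondegenerate subspace of
its orthogonal complement -/
theorem extend_sel (U P U' W' : Submodule F V) (hPU : P ≤ U) (hU'U : U' ≤ U)
    (hPinv : ∀ u ∈ P, y u ∈ P) (hPnd : Nd Q P) (c : ℕ) (hPdim : finrank F P = 2 * c) (εP : ℤ)
    (htP : TypeOn Q P εP) (horth : ∀ a ∈ P, ∀ b ∈ U', polar Q a b = 0)
    (hW'U' : W' ≤ U') (hW'inv : ∀ u ∈ W', y u ∈ W') (hW'nd : Nd Q W') (s : ℕ)
    (hW'dim : finrank F W' = 2 * s) (ε' : ℤ) (htW' : TypeOn Q W' ε') :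
    ∃ W : Submodule F V, W ≤ U ∧ (∀ u ∈ W, y u ∈ W) ∧ Nd Q W ∧ finrank F W = 2 * (c + s) ∧
      TypeOn Q W (εP * ε') := by
  have horth' : ∀ a ∈ P, ∀ b ∈ W', polar Q a b = 0 := fun a ha b hb => horth a ha b (hW'U' hb)
  refine ⟨P ⊔ W', sup_le hPU (hW'U'.trans hU'U), sup_invariant y P W' hPinv hW'inv,
    nd_sup Q P W' hPnd hW'nd horth', ?_, ?_⟩
  · rw [finrank_sup_of_orth Q P W' hPnd horth', hPdim, hW'dim]
    ring
  · exact typeOn_sup Q P W' hPnd horth' ⟨c, by rw [hPdim]; ring⟩ ⟨s, by rw [hW'dim]; ring⟩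
      htP htW'

end pieces

section char2

variable {F : Type*} [Field F] [Fintype F] {V : Type*} [AddCommGroup V] [Module F V]
  [FiniteDimensional F V] (Q : QuadraticForm F V) (y : V →ₗ[F] V)

omit [Fintype F] [FiniteDimensional F V] in
theorem polar_self_two (h2 : (2 : F) = 0) (v : V) : polar Q v v = 0 := by
  rw [polar_self, two_nsmul, ← two_mul, h2, zero_mul]

omit [Fintype F] [FiniteDimensional F V] in
theorem Q_sub_eq (x z : V) : Q (x - z) = Q x + Q z - polar Q x z := by
  have h1 : polar Q (x - z) z = Q x - Q (x - z) - Q z := by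
    rw [QuadraticMap.polar, sub_add_cancel]
  rw [polar_sub_left] at h1
  have h4 : polar Q z z = 2 * Q z := by rw [polar_self]; simp
  rw [h4] at h1
  linear_combination h1

omit [Fintype F] [FiniteDimensional F V] in
/-- orthogonality of the spans of two pairs -/
theorem span_pair_orth (a w c v : V) (h1 : polar Q a c = 0) (h3 : polar Q a v = 0)
    (h4 : polar Q w c = 0) (h5 : polar Q w v = 0) :
    ∀ x ∈ Submodule.span F {a, w}, ∀ z ∈ Submodule.span F {c, v}, polar Q x z = 0 := by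
  intro x hx z hz
  obtain ⟨s, t, rfl⟩ := Submodule.mem_span_pair.1 hx
  obtain ⟨s', t', rfl⟩ := Submodule.mem_span_pair.1 hz
  simp only [polar_add_left, polar_add_right, polar_smul_left, polar_smul_right, h1, h3, h4, h5,
    smul_zero, add_zero]

omit [Fintype F] [FiniteDimensional F V] in
/-- invariance of a span from its generators -/
theorem span_invariant (S : Set V) (N : Submodule F V) (hS : ∀ g ∈ S, y g ∈ N) :
    ∀ u ∈ Submodule.span F S, y u ∈ N := by
  intro u hu
  exact (Submodule.map_span_le y S N).2 hS (Submodule.mem_map_of_mem hu)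

omit [Fintype F] in
/-- an invariant nondegenerate plane of an involution in characteristic two -/
theorem char2_plane (h2 : (2 : F) = 0) (hy : ∀ v, y (y v) = v) (U : Submodule F V)
    (hUinv : ∀ u ∈ U, y u ∈ U) (v : V) (hvU : v ∈ U) (hne : polar Q v (y v) ≠ 0) :
    ∃ P : Submodule F V, P ≤ U ∧ (∀ u ∈ P, y u ∈ P) ∧ Nd Q P ∧ finrank F P = 2 := by
  obtain ⟨h1, h3⟩ := Un.ndOn_span_pair (pB Q) (pB_sym Q) v (y v)
    (by rw [OrN.pB_apply]; exact polar_self_two Q h2 v) (by rw [OrN.pB_apply]; exact hne)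
  refine ⟨Submodule.span F {v, y v}, ?_, ?_, h1, h3⟩
  · rw [Submodule.span_le]
    rintro x (rfl | hx)
    · exact hvU
    · rw [Set.mem_singleton_iff.1 hx]
      exact hUinv _ hvU
  · apply span_invariant
    rintro g (rfl | hg)
    · exact Submodule.subset_span (by simp)
    · rw [Set.mem_singleton_iff.1 hg, hy]
      exact Submodule.subset_span (by simp)

/-- an invariant nondegenerate hyperbolic four-dimensional block for an involution in
characteristic two all of whose vectors are orthogonal to their images -/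
theorem char2_block (h2 : (2 : F) = 0) (hiso : ∀ v, Q (y v) = Q v) (hy : ∀ v, y (y v) = v)
    (U : Submodule F V) (hUinv : ∀ u ∈ U, y u ∈ U) (hUnd : Nd Q U)
    (hall : ∀ u ∈ U, polar Q u (y u) = 0) (v : V) (hvU : v ∈ U) (hv : y v ≠ v) :
    ∃ B : Submodule F V, B ≤ U ∧ (∀ u ∈ B, y u ∈ B) ∧ Nd Q B ∧ finrank F B = 4 ∧
      TypeOn Q B 1 := by
  have hB : ∀ u u', polar Q (y u) (y u') = polar Q u u' := fun u u' => pB_iso Q y hiso u u'
  obtain ⟨a, ha⟩ : ∃ a, a = y v - v := ⟨_, rfl⟩
  have ha0 : a ≠ 0 := by rw [ha]; exact sub_ne_zero.2 hv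
  have haU : a ∈ U := by rw [ha]; exact U.sub_mem (hUinv v hvU) hvU
  obtain ⟨w, hwU, hα'⟩ := hUnd a haU ha0
  have hα : polar Q a w ≠ 0 := hα'
  obtain ⟨c, hc⟩ : ∃ c, c = y w - w := ⟨_, rfl⟩
  have hcU : c ∈ U := by rw [hc]; exact U.sub_mem (hUinv w hwU) hwU
  have hya : y a = -a := by rw [ha, map_sub, hy]; abel
  have hyc : y c = -c := by rw [hc, map_sub, hy]; abel
  have hyv : y v = a + v := by rw [ha]; abel
  have hyw : y w = c + w := by rw [hc]; abel
  -- scalar facts
  have f2 : polar Q (y v) w = polar Q v (y w) := by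
    have := hB (y v) w
    rw [hy] at this
    exact this.symm
  have f3v : polar Q v (y v) = 0 := hall v hvU
  have f3w : polar Q w (y w) = 0 := hall w hwU
  have f4 : ∀ u, polar Q u u = 0 := polar_self_two Q h2
  have hQa : Q a = 0 := by
    rw [ha, Q_sub_eq, hiso, polar_comm, f3v]
    linear_combination Q v * h2
  have hQc : Q c = 0 := by
    rw [hc, Q_sub_eq, hiso, polar_comm, f3w]
    linear_combination Q w * h2
  have hac : polar Q a c = 0 := by
    rw [ha, hc, polar_sub_left, polar_sub_right, polar_sub_right, hB, f2]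
    linear_combination (polar Q v w - polar Q v (y w)) * h2
  have hav : polar Q a v = 0 := by
    rw [ha, polar_sub_left, f4, polar_comm, f3v, sub_zero]
  have hcw : polar Q c w = 0 := by
    rw [hc, polar_sub_left, f4, polar_comm, f3w, sub_zero]
  have hcv : polar Q c v = polar Q a w := by
    rw [ha, hc, polar_sub_left, polar_sub_left, f2, polar_comm Q (y w) v, polar_comm Q w v]
  obtain ⟨γ, hγ⟩ : ∃ γ, γ = polar Q v w := ⟨_, rfl⟩
  obtain ⟨v', hv'⟩ : ∃ v', v' = v - (γ / polar Q a w) • a := ⟨_, rfl⟩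
  have hv'U : v' ∈ U := by rw [hv']; exact U.sub_mem hvU (U.smul_mem _ haU)
  have hav' : polar Q a v' = 0 := by
    rw [hv', polar_sub_right, polar_smul_right, hav, f4, smul_zero, sub_zero]
  have hwv' : polar Q w v' = 0 := by
    rw [hv', polar_sub_right, polar_smul_right, polar_comm Q w v, polar_comm Q w a, ← hγ,
      smul_eq_mul, div_mul_cancel₀ _ hα, sub_self]
  have hcv' : polar Q c v' = polar Q a w := by
    rw [hv', polar_sub_right, polar_smul_right, hcv, polar_comm Q c a, hac, smul_zero, sub_zero]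
  -- the two planes
  obtain ⟨hP₁nd, hP₁dim⟩ := Un.ndOn_span_pair (pB Q) (pB_sym Q) a w
    (by rw [OrN.pB_apply]; exact f4 a) (by rw [OrN.pB_apply]; exact hα)
  obtain ⟨hP₂nd, hP₂dim⟩ := Un.ndOn_span_pair (pB Q) (pB_sym Q) c v'
    (by rw [OrN.pB_apply]; exact f4 c) (by rw [OrN.pB_apply, hcv']; exact hα)
  have horth := span_pair_orth Q a w c v' hac hav' (by rw [polar_comm]; exact hcw) hwv'
  obtain ⟨B, hBdef⟩ : ∃ B, B = Submodule.span F {a, w} ⊔ Submodule.span F {c, v'} := ⟨_, rfl⟩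
  have haB : a ∈ B := by
    rw [hBdef]
    exact Submodule.mem_sup_left (Submodule.subset_span (by simp))
  have hwB : w ∈ B := by
    rw [hBdef]
    exact Submodule.mem_sup_left (Submodule.subset_span (by simp))
  have hcB : c ∈ B := by
    rw [hBdef]
    exact Submodule.mem_sup_right (Submodule.subset_span (by simp))
  have hv'B : v' ∈ B := by
    rw [hBdef]
    exact Submodule.mem_sup_right (Submodule.subset_span (by simp))
  have hvB : v ∈ B := by
    have : v = v' + (γ / polar Q a w) • a := by rw [hv']; abel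
    rw [this]
    exact B.add_mem hv'B (B.smul_mem _ haB)
  have hBnd : Nd Q B := by
    rw [hBdef]
    exact nd_sup Q _ _ hP₁nd hP₂nd horth
  have hBdim : finrank F B = 4 := by
    rw [hBdef, finrank_sup_of_orth Q _ _ hP₁nd horth, hP₁dim, hP₂dim]
  have hBU : B ≤ U := by
    rw [hBdef]
    apply sup_le
    · rw [Submodule.span_le]
      rintro x (rfl | hx)
      · exact haU
      · rw [Set.mem_singleton_iff.1 hx]; exact hwU
    · rw [Submodule.span_le]
      rintro x (rfl | hx)
      · exact hcU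
      · rw [Set.mem_singleton_iff.1 hx]; exact hv'U
  have hBinv : ∀ u ∈ B, y u ∈ B := by
    have h1 : ∀ u ∈ Submodule.span F {a, w}, y u ∈ B := by
      apply span_invariant
      rintro g (rfl | hg)
      · rw [hya]; exact B.neg_mem haB
      · rw [Set.mem_singleton_iff.1 hg, hyw]
        exact B.add_mem hcB hwB
    have h3 : ∀ u ∈ Submodule.span F {c, v'}, y u ∈ B := by
      apply span_invariant
      rintro g (rfl | hg)
      · rw [hyc]; exact B.neg_mem hcB
      · rw [Set.mem_singleton_iff.1 hg, hv', map_sub, map_smul, hya, hyv]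
        exact B.sub_mem (B.add_mem haB hvB) (B.smul_mem _ (B.neg_mem haB))
    intro u hu
    rw [hBdef] at hu
    obtain ⟨u₁, hu₁, u₂, hu₂, rfl⟩ := Submodule.mem_sup.1 hu
    rw [map_add]
    exact B.add_mem (h1 u₁ hu₁) (h3 u₂ hu₂)
  refine ⟨B, hBU, hBinv, hBnd, hBdim, ?_⟩
  rw [typeOn_one_iff Q B hBnd ⟨2, by rw [hBdim]⟩]
  refine ⟨Submodule.span F {a, c}, ?_, ?_, ?_⟩
  · rw [Submodule.span_le]
    rintro x (rfl | hx)
    · exact haB
    · rw [Set.mem_singleton_iff.1 hx]; exact hcB
  · intro u hu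
    obtain ⟨s, t, rfl⟩ := Submodule.mem_span_pair.1 hu
    rw [QuadraticMap.map_add Q, QuadraticMap.map_smul, QuadraticMap.map_smul, hQa, hQc,
      polar_smul_left, polar_smul_right, hac]
    simp
  · have hli : LinearIndependent F ![a, c] := by
      rw [LinearIndependent.pair_iff]
      intro s t hst
      have e1 : polar Q (s • a + t • c) w = 0 := by rw [hst, polar_zero_left]
      rw [polar_add_left, polar_smul_left, polar_smul_left, hcw, smul_zero, add_zero,
        smul_eq_mul] at e1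
      have e2 : polar Q (s • a + t • c) v = 0 := by rw [hst, polar_zero_left]
      rw [polar_add_left, polar_smul_left, polar_smul_left, hav, smul_zero, zero_add, hcv,
        smul_eq_mul] at e2
      exact ⟨(mul_eq_zero.1 e1).resolve_right hα, (mul_eq_zero.1 e2).resolve_right hα⟩
    have h3 := finrank_span_eq_card hli
    rw [Fintype.card_fin] at h3
    have hset : Set.range ![a, c] = {a, c} := by
      ext x
      simp only [Set.mem_range, Set.mem_insert_iff, Set.mem_singleton_iff]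
      constructor
      · rintro ⟨i, rfl⟩
        fin_cases i
        · left; rfl
        · right; rfl
      · rintro (rfl | rfl)
        · exact ⟨0, rfl⟩
        · exact ⟨1, rfl⟩
    rw [hset] at h3
    rw [h3, hBdim]

/-- decomposition of an involution in characteristic two: `ap` hyperbolic planes, `am` elliptic
planes and `b` hyperbolic four-dimensional blocks, with all the sub-sums available -/
theorem invol2_decomp (h2 : (2 : F) = 0) (hiso : ∀ v, Q (y v) = Q v) (hy : ∀ v, y (y v) = v) :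
    ∀ n : ℕ, ∀ U : Submodule F V, (∀ u ∈ U, y u ∈ U) → Nd Q U → finrank F U = 2 * n →
      ∃ ap am b : ℕ, ap + am + 2 * b = n ∧ TypeOn Q U ((-1) ^ am) ∧
        ∀ sp sm t : ℕ, sp ≤ ap → sm ≤ am → t ≤ b →
          ∃ W : Submodule F V, W ≤ U ∧ (∀ u ∈ W, y u ∈ W) ∧ Nd Q W ∧
            finrank F W = 2 * (sp + sm + 2 * t) ∧ TypeOn Q W ((-1) ^ sm) := by
  have hy2 : y ^ 2 = 1 := by
    apply LinearMap.ext
    intro v
    rw [pow_two, Module.End.mul_apply, hy, Module.End.one_apply]
  intro n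
  induction n using Nat.strong_induction_on with
  | _ n ih =>
    intro U hUinv hUnd hUdim
    by_cases h1 : ∃ v ∈ U, polar Q v (y v) ≠ 0
    · -- an invariant nondegenerate plane
      obtain ⟨v, hvU, hne⟩ := h1
      obtain ⟨P, hPU, hPinv, hPnd, hPdim⟩ := char2_plane Q y h2 hy U hUinv v hvU hne
      obtain ⟨U', hU'U, hU'inv, hU'nd, hdims, hsup, horth⟩ := compl_facts Q y hiso 2 two_pos hy2
        U P hUinv hUnd hPU hPinv hPnd
      have hn1 : 1 ≤ n := by omega
      obtain ⟨ap', am', b', hsum, htU', hsel⟩ := ih (n - 1) (by omega) U' hU'inv hU'nd (by omega)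
      obtain ⟨εP, hεP, htP⟩ := typeOn_exists Q P hPnd ⟨1, by rw [hPdim]⟩
      have htU : TypeOn Q U (εP * (-1) ^ am') := by
        have := typeOn_sup Q P U' hPnd horth ⟨1, by rw [hPdim]⟩ ⟨n - 1, by omega⟩ htP htU'
        rwa [hsup] at this
      rcases hεP with rfl | rfl
      · refine ⟨ap' + 1, am', b', by omega, by rwa [one_mul] at htU, ?_⟩
        intro sp sm t hsp hsm ht
        by_cases hsp' : sp ≤ ap'
        · obtain ⟨W, hWU', hWinv, hWnd, hWdim, htW⟩ := hsel sp sm t hsp' hsm ht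
          exact ⟨W, hWU'.trans hU'U, hWinv, hWnd, hWdim, htW⟩
        · have hsp1 : sp = ap' + 1 := by omega
          subst hsp1
          obtain ⟨W', hW'U', hW'inv, hW'nd, hW'dim, htW'⟩ := hsel ap' sm t le_rfl hsm ht
          obtain ⟨W, hWU, hWinv, hWnd, hWdim, htW⟩ := extend_sel Q y U P U' W' hPU hU'U hPinv hPnd
            1 hPdim 1 htP horth hW'U' hW'inv hW'nd _ hW'dim _ htW'
          refine ⟨W, hWU, hWinv, hWnd, by rw [hWdim]; ring, by rwa [one_mul] at htW⟩
      · refine ⟨ap', am' + 1, b', by omega, by rwa [← pow_succ'] at htU, ?_⟩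
        intro sp sm t hsp hsm ht
        by_cases hsm' : sm ≤ am'
        · obtain ⟨W, hWU', hWinv, hWnd, hWdim, htW⟩ := hsel sp sm t hsp hsm' ht
          exact ⟨W, hWU'.trans hU'U, hWinv, hWnd, hWdim, htW⟩
        · have hsm1 : sm = am' + 1 := by omega
          subst hsm1
          obtain ⟨W', hW'U', hW'inv, hW'nd, hW'dim, htW'⟩ := hsel sp am' t hsp le_rfl ht
          obtain ⟨W, hWU, hWinv, hWnd, hWdim, htW⟩ := extend_sel Q y U P U' W' hPU hU'U hPinv hPnd
            1 hPdim (-1) htP horth hW'U' hW'inv hW'nd _ hW'dim _ htW'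
          refine ⟨W, hWU, hWinv, hWnd, by rw [hWdim]; ring, by rwa [← pow_succ'] at htW⟩
    · push Not at h1
      by_cases h3 : ∃ v ∈ U, y v ≠ v
      · -- a hyperbolic block
        obtain ⟨v, hvU, hv⟩ := h3
        obtain ⟨B, hBU, hBinv, hBnd, hBdim, htB⟩ := char2_block Q y h2 hiso hy U hUinv hUnd h1 v
          hvU hv
        obtain ⟨U', hU'U, hU'inv, hU'nd, hdims, hsup, horth⟩ := compl_facts Q y hiso 2 two_pos hy2
          U B hUinv hUnd hBU hBinv hBnd
        have hn2 : 2 ≤ n := by omega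
        obtain ⟨ap', am', b', hsum, htU', hsel⟩ := ih (n - 2) (by omega) U' hU'inv hU'nd (by omega)
        have htU : TypeOn Q U (1 * (-1) ^ am') := by
          have := typeOn_sup Q B U' hBnd horth ⟨2, by rw [hBdim]⟩ ⟨n - 2, by omega⟩ htB htU'
          rwa [hsup] at this
        refine ⟨ap', am', b' + 1, by omega, by rwa [one_mul] at htU, ?_⟩
        intro sp sm t hsp hsm ht
        by_cases ht' : t ≤ b'
        · obtain ⟨W, hWU', hWinv, hWnd, hWdim, htW⟩ := hsel sp sm t hsp hsm ht'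
          exact ⟨W, hWU'.trans hU'U, hWinv, hWnd, hWdim, htW⟩
        · have ht1 : t = b' + 1 := by omega
          subst ht1
          obtain ⟨W', hW'U', hW'inv, hW'nd, hW'dim, htW'⟩ := hsel sp sm b' hsp hsm le_rfl
          obtain ⟨W, hWU, hWinv, hWnd, hWdim, htW⟩ := extend_sel Q y U B U' W' hBU hU'U hBinv hBnd
            2 hBdim 1 htB horth hW'U' hW'inv hW'nd _ hW'dim _ htW'
          refine ⟨W, hWU, hWinv, hWnd, by rw [hWdim]; ring, by rwa [one_mul] at htW⟩
      · -- the identity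
        push Not at h3
        obtain ⟨εU, hεU, htU⟩ := typeOn_exists Q U hUnd ⟨n, by rw [hUdim]; ring⟩
        have hsub : ∀ s ≤ n, ∀ ε : ℤ, (ε = 1 ∨ ε = -1) → (s = 0 → ε = 1) → (s = n → ε = εU) →
            ∃ W : Submodule F V, W ≤ U ∧ (∀ u ∈ W, y u ∈ W) ∧ Nd Q W ∧
              finrank F W = 2 * s ∧ TypeOn Q W ε := by
          intro s hs ε hε h0 hfull
          obtain ⟨T, hTU, hTnd, hTdim, htT⟩ := exists_typed_sub' Q U hUnd n hUdim εU hεU htU s hs
            ε hε h0 hfull
          refine ⟨T, hTU, fun u hu => ?_, hTnd, hTdim, htT⟩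
          rw [h3 u (hTU hu)]
          exact hu
        rcases hεU with rfl | rfl
        · refine ⟨n, 0, 0, by omega, by rwa [pow_zero], ?_⟩
          intro sp sm t hsp hsm ht
          have hsm0 : sm = 0 := by omega
          have ht0 : t = 0 := by omega
          subst hsm0 ht0
          obtain ⟨W, h⟩ := hsub sp hsp 1 (Or.inl rfl) (fun _ => rfl) (fun _ => rfl)
          refine ⟨W, ?_⟩
          rw [pow_zero]
          simpa using h
        · have hn1 : 1 ≤ n := by
            by_contra hn0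
            have hn0' : n = 0 := by omega
            rw [hn0', mul_zero] at hUdim
            have hbot : U = ⊥ := Submodule.finrank_eq_zero.1 hUdim
            rw [hbot] at htU
            have := typeOn_unique Q ⊥ (typeOn_bot Q) htU
            norm_num at this
          refine ⟨n - 1, 1, 0, by omega, by rwa [pow_one], ?_⟩
          intro sp sm t hsp hsm ht
          have ht0 : t = 0 := by omega
          subst ht0
          obtain ⟨W, h⟩ := hsub (sp + sm) (by omega) ((-1) ^ sm) (neg_one_pow_eq_or ℤ sm)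
            (fun h0 => by
              have : sm = 0 := by omega
              rw [this, pow_zero])
            (fun hfull => by
              have : sm = 1 := by omega
              rw [this, pow_one])
          refine ⟨W, ?_⟩
          simpa using h

end char2

section sel

theorem sel_plus (ap am b n μ : ℕ) (hsum : ap + am + 2 * b = n) (ham : Even am) (hμ : μ ≤ n)
    (hcond : Odd n ∨ Even μ) :
    ∃ sp sm t : ℕ, sp ≤ ap ∧ sm ≤ am ∧ t ≤ b ∧ sp + sm + 2 * t = μ ∧ Even sm := by
  obtain ⟨a', ha'⟩ := ham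
  obtain ⟨u, hu⟩ : ∃ u, u = min (μ / 2) (a' + b) := ⟨_, rfl⟩
  obtain ⟨t, ht⟩ : ∃ t, t = min u b := ⟨_, rfl⟩
  refine ⟨μ - 2 * u, 2 * (u - t), t, ?_, ?_, ?_, ?_, ⟨u - t, by ring⟩⟩
  · rcases hcond with ho | he
    · obtain ⟨n', hn'⟩ := ho
      omega
    · obtain ⟨μ', hμ'⟩ := he
      omega
  · omega
  · omega
  · omega

theorem sel_minus (ap am b n μ : ℕ) (hsum : ap + am + 2 * b = n) (ham : Odd am) (hμ1 : 1 ≤ μ)
    (hμ : μ ≤ n) (hcond : Even n ∨ Odd μ) :
    ∃ sp sm t : ℕ, sp ≤ ap ∧ sm ≤ am ∧ t ≤ b ∧ sp + sm + 2 * t = μ ∧ Odd sm := by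
  obtain ⟨a', ha'⟩ := ham
  obtain ⟨sp, sm, t, h1, h3, h4, h5, h6⟩ := sel_plus ap (am - 1) b (n - 1) (μ - 1) (by omega)
    ⟨a', by omega⟩ (by omega) (by
      rcases hcond with he | ho
      · left
        obtain ⟨n', hn'⟩ := he
        exact ⟨n' - 1, by omega⟩
      · right
        obtain ⟨μ', hμ'⟩ := ho
        exact ⟨μ', by omega⟩)
  refine ⟨sp, sm + 1, t, h1, by omega, h4, by omega, ?_⟩
  obtain ⟨s', hs'⟩ := h6
  exact ⟨s', by omega⟩

end sel

section fix2

variable {F : Type*} [Field F] [Fintype F] {V : Type*} [AddCommGroup V] [Module F V]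
  [FiniteDimensional F V] (Q : QuadraticForm F V) (y : V →ₗ[F] V)

/-- an involution of a hyperbolic space in characteristic two fixes hyperbolic subspaces of
dimension `2 μ` whenever `n` is odd or `μ` is even -/
theorem invol2_fix_plus (h2 : (2 : F) = 0) (hQ : Nd Q ⊤) (hiso : ∀ v, Q (y v) = Q v)
    (hy : ∀ v, y (y v) = v) (n : ℕ) (hn : finrank F V = 2 * n) (htV : TypeOn Q ⊤ 1) (μ : ℕ)
    (hμ : μ ≤ n) (hcond : Odd n ∨ Even μ) :
    ∃ W : Submodule F V, finrank F W = 2 * μ ∧ Nd Q W ∧ TypeOn Q W 1 ∧ ∀ u ∈ W, y u ∈ W := by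
  obtain ⟨ap, am, b, hsum, htU, hsel⟩ := invol2_decomp Q y h2 hiso hy n ⊤
    (fun _ _ => Submodule.mem_top) hQ (by rw [finrank_top, hn])
  have ham : Even am := by
    have := typeOn_unique Q ⊤ htU htV
    exact (neg_one_pow_eq_one_iff_even (by norm_num)).1 this
  obtain ⟨sp, sm, t, h1, h3, h4, h5, h6⟩ := sel_plus ap am b n μ hsum ham hμ hcond
  obtain ⟨W, -, hWinv, hWnd, hWdim, htW⟩ := hsel sp sm t h1 h3 h4
  rw [h5] at hWdim
  rw [h6.neg_one_pow] at htW
  exact ⟨W, hWdim, hWnd, htW, hWinv⟩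

/-- an involution of an elliptic space in characteristic two fixes elliptic subspaces of
dimension `2 μ` whenever `n` is even or `μ` is odd -/
theorem invol2_fix_minus (h2 : (2 : F) = 0) (hQ : Nd Q ⊤) (hiso : ∀ v, Q (y v) = Q v)
    (hy : ∀ v, y (y v) = v) (n : ℕ) (hn : finrank F V = 2 * n) (htV : TypeOn Q ⊤ (-1)) (μ : ℕ)
    (hμ1 : 1 ≤ μ) (hμ : μ ≤ n) (hcond : Even n ∨ Odd μ) :
    ∃ W : Submodule F V, finrank F W = 2 * μ ∧ Nd Q W ∧ TypeOn Q W (-1) ∧
      ∀ u ∈ W, y u ∈ W := by
  obtain ⟨ap, am, b, hsum, htU, hsel⟩ := invol2_decomp Q y h2 hiso hy n ⊤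
    (fun _ _ => Submodule.mem_top) hQ (by rw [finrank_top, hn])
  have ham : Odd am := by
    have := typeOn_unique Q ⊤ htU htV
    rw [← Nat.not_even_iff_odd]
    intro he
    rw [he.neg_one_pow] at this
    norm_num at this
  obtain ⟨sp, sm, t, h1, h3, h4, h5, h6⟩ := sel_minus ap am b n μ hsum ham hμ1 hμ hcond
  obtain ⟨W, -, hWinv, hWnd, hWdim, htW⟩ := hsel sp sm t h1 h3 h4
  rw [h5] at hWdim
  rw [h6.neg_one_pow] at htW
  exact ⟨W, hWdim, hWnd, htW, hWinv⟩

end fix2

end Cfsg.Agent.Lib.Helper24.Ot
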