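/- helper24: the prime two for typed nondegenerate subspaces: reductions to elements with square -1, characteristic two -/
import Mathlib
import Cfsg.Agent.Lib.Helper24.OtN
import Cfsg.Agent.Lib.Helper24.OtP
import Cfsg.Agent.Lib.Helper24.OrU

set_option autoImplicit false
set_option linter.unusedSectionVars false

namespace Cfsg.Agent.Lib.Helper24.Ot

open Module Polynomial QuadraticMap Cfsg.Agent.Lib.Helper12.Elus Cfsg.Agent.Lib.Helper12.Un
  Cfsg.Agent.Lib.Helper12 Cfsg.Agent.Lib.Helper12.OrN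
  Cfsg.Agent.Lib.Helper15 Cfsg.Agent.Lib.Helper15.QuadType

universe u

section two

variable {F : Type u} [Field F] [Fintype F] {ι : Type} [Fintype ι] [DecidableEq ι]
  (Qs : QuadraticForm F (ι → F))

/-- `r = 2`, odd characteristic: it suffices to control the invariant subspaces of the elements
with square `-1` -/
theorem omegaFixT_two_odd (h2 : (2 : F) ≠ 0) (hnd : (polarBilin Qs).Nondegenerate) (n : ℕ)
    (hn4 : 4 ≤ n) (hcard : Fintype.card ι = 2 * n) (v₀ : ι → F) (hv₀ : Qs v₀ ≠ 0) (μ : ℕ)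
    (hμ1 : 1 ≤ μ) (hμ2 : μ + 1 ≤ n) (eW : ℤ) (heW : eW = 1 ∨ eW = -1)
    (H : ∀ x : GL ι F, x ∈ Cfsg.Geo.omegaGL ⇑Qs →
      (∀ v, Matrix.toLin' (x : Matrix ι ι F) (Matrix.toLin' (x : Matrix ι ι F) v) = -v) →
      ∀ W : Submodule F (ι → F), finrank F W = 2 * μ → Nd Qs W →
        (∀ u ∈ W, Matrix.toLin' (x : Matrix ι ι F) u ∈ W) → TypeOn Qs W eW) :
    OmegaFixT Qs (2 * μ) eW 2 := by
  intro x hxΩ ⟨z, hz⟩ _
  have hxiso := Or.iso_of_mem_omega _ x hxΩ
  have hiso : ∀ v, Qs (Matrix.toLin' (x : Matrix ι ι F) v) = Qs v :=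
    fun v => Or.toLin_iso _ x hxiso v
  have hdim : finrank F (ι → F) = 2 * n := by rw [Module.finrank_fintype_fun_eq_card, hcard]
  have hQ : Nd Qs ⊤ := nd_top Qs hnd
  rcases Or.scalar_sq_cases Qs v₀ hv₀ x hxiso z hz with hinv | hneg
  · have hev : Even (finrank F (movR (Matrix.toLin' (x : Matrix ι ι F)))) := by
      rcases Nat.eq_zero_or_pos (finrank F (movR (Matrix.toLin' (x : Matrix ι ι F)))) with h0 | hpos
      · rw [h0]; exact Even.zero
      · obtain ⟨k, hk⟩ := Nat.exists_eq_succ_of_ne_zero hpos.ne'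
        rw [hk]
        exact (Or.omega_invol_struct Qs h2 hnd x hxΩ hinv k hk).1
    obtain ⟨W, hW1, hW2, hW3, hW4⟩ := invol_fix_typed Qs _ h2 hQ hiso hinv hev n hdim hn4 μ hμ1
      hμ2 eW heW
    exact ⟨W, ⟨hW1, hW2, hW3⟩, Or.map_le_of_forall W _ hW4⟩
  · obtain ⟨W, hWinv, hWnd, hWdim⟩ := sqneg_exists_inv Qs _ h2 hQ hiso hneg μ (by omega)
    exact ⟨W, ⟨hWdim, hWnd, H x hxΩ hneg W hWdim hWnd hWinv⟩, Or.map_le_of_forall W _ hWinv⟩

/-- `r = 2`, odd characteristic: an element with square `-1` without invariant subspaces of the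
required type -/
theorem not_omegaFixT_two_odd (h2 : (2 : F) ≠ 0) (v₀ : ι → F) (hv₀ : Qs v₀ ≠ 0) (m : ℕ) (eW : ℤ)
    (x : GL ι F) (hxΩ : x ∈ Cfsg.Geo.omegaGL ⇑Qs)
    (hneg : ∀ v, Matrix.toLin' (x : Matrix ι ι F) (Matrix.toLin' (x : Matrix ι ι F) v) = -v)
    (H : ∀ W : Submodule F (ι → F), finrank F W = m → Nd Qs W →
        (∀ u ∈ W, Matrix.toLin' (x : Matrix ι ι F) u ∈ W) → ¬ TypeOn Qs W eW) :
    ¬ OmegaFixT Qs m eW 2 := by
  intro hfix
  have hxiso := Or.iso_of_mem_omega _ x hxΩ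
  have hiso : ∀ v, Qs (Matrix.toLin' (x : Matrix ι ι F) v) = Qs v :=
    fun v => Or.toLin_iso _ x hxiso v
  have hsc : ∃ z : F, ((x ^ 2 : GL ι F) : Matrix ι ι F) = z • (1 : Matrix ι ι F) := by
    refine ⟨-1, ?_⟩
    apply Matrix.toLin'.injective
    apply LinearMap.ext
    intro v
    rw [Units.val_pow_eq_pow_val, Matrix.toLin'_pow, pow_two, Module.End.mul_apply, hneg, map_smul,
      Matrix.toLin'_one]
    simp
  have hns : ∀ z : F, (x : Matrix ι ι F) ≠ z • (1 : Matrix ι ι F) := by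
    intro z hz
    have hyz : ∀ v, Matrix.toLin' (x : Matrix ι ι F) v = z • v := by
      intro v
      rw [hz, Matrix.toLin'_apply, Matrix.smul_mulVec, Matrix.one_mulVec]
    have h1 := hiso v₀
    rw [hyz, QuadraticMap.map_smul, smul_eq_mul] at h1
    have hzz : z * z = 1 := mul_right_cancel₀ hv₀ (by rw [h1, one_mul])
    have h3 := hneg v₀
    rw [hyz, hyz, smul_smul, hzz, one_smul] at h3
    have hv0 : v₀ ≠ 0 := by
      rintro rfl
      exact hv₀ (QuadraticMap.map_zero Qs)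
    have h4 : (2 : F) • v₀ = 0 := by
      rw [two_smul]
      nth_rewrite 1 [h3]
      exact neg_add_cancel v₀
    rcases smul_eq_zero.1 h4 with h | h
    · exact h2 h
    · exact hv0 h
  obtain ⟨W, ⟨hW1, hW2, hW3⟩, hW4⟩ := hfix x hxΩ hsc hns
  exact H W hW1 hW2 (Or.forall_of_map_le W _ hW4) hW3

/-- `r = 2` in characteristic two, hyperbolic target in a hyperbolic space -/
theorem omegaFixT_two_char2_plus (h2 : (2 : F) = 0) (hnd : (polarBilin Qs).Nondegenerate) (n : ℕ)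
    (hcard : Fintype.card ι = 2 * n) (v₀ : ι → F) (hv₀ : Qs v₀ ≠ 0)
    (htV : HasType 1 n (fun v => Qs v)) (μ : ℕ) (hμ : μ ≤ n) (hcond : Odd n ∨ Even μ) :
    OmegaFixT Qs (2 * μ) 1 2 := by
  intro x hxΩ ⟨z, hz⟩ _
  have hxiso := Or.iso_of_mem_omega _ x hxΩ
  have hiso : ∀ v, Qs (Matrix.toLin' (x : Matrix ι ι F) v) = Qs v :=
    fun v => Or.toLin_iso _ x hxiso v
  have hdim : finrank F (ι → F) = 2 * n := by rw [Module.finrank_fintype_fun_eq_card, hcard]
  have hneg : ∀ v : ι → F, -v = v := by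
    intro v
    have : v + v = 0 := by rw [← two_smul F v, h2, zero_smul]
    exact neg_eq_of_add_eq_zero_left this
  have hy : ∀ v, Matrix.toLin' (x : Matrix ι ι F) (Matrix.toLin' (x : Matrix ι ι F) v) = v := by
    rcases Or.scalar_sq_cases Qs v₀ hv₀ x hxiso z hz with hinv | hneg'
    · intro v
      have := congrArg (fun f : End F (ι → F) => f v) hinv
      simpa [pow_two] using this
    · intro v
      rw [hneg', hneg]
  obtain ⟨W, hW1, hW2, hW3, hW4⟩ := invol2_fix_plus Qs _ h2 (nd_top Qs hnd) hiso hy n hdim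
    ((typeOn_top_iff Qs n hdim 1).2 htV) μ hμ hcond
  exact ⟨W, ⟨hW1, hW2, hW3⟩, Or.map_le_of_forall W _ hW4⟩

/-- `r = 2` in characteristic two, elliptic target in an elliptic space -/
theorem omegaFixT_two_char2_minus (h2 : (2 : F) = 0) (hnd : (polarBilin Qs).Nondegenerate) (n : ℕ)
    (hcard : Fintype.card ι = 2 * n) (v₀ : ι → F) (hv₀ : Qs v₀ ≠ 0)
    (htV : HasType (-1) n (fun v => Qs v)) (μ : ℕ) (hμ1 : 1 ≤ μ) (hμ : μ ≤ n)
    (hcond : Even n ∨ Odd μ) :
    OmegaFixT Qs (2 * μ) (-1) 2 := by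
  intro x hxΩ ⟨z, hz⟩ _
  have hxiso := Or.iso_of_mem_omega _ x hxΩ
  have hiso : ∀ v, Qs (Matrix.toLin' (x : Matrix ι ι F) v) = Qs v :=
    fun v => Or.toLin_iso _ x hxiso v
  have hdim : finrank F (ι → F) = 2 * n := by rw [Module.finrank_fintype_fun_eq_card, hcard]
  have hneg : ∀ v : ι → F, -v = v := by
    intro v
    have : v + v = 0 := by rw [← two_smul F v, h2, zero_smul]
    exact neg_eq_of_add_eq_zero_left this
  have hy : ∀ v, Matrix.toLin' (x : Matrix ι ι F) (Matrix.toLin' (x : Matrix ι ι F) v) = v := by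
    rcases Or.scalar_sq_cases Qs v₀ hv₀ x hxiso z hz with hinv | hneg'
    · intro v
      have := congrArg (fun f : End F (ι → F) => f v) hinv
      simpa [pow_two] using this
    · intro v
      rw [hneg', hneg]
  obtain ⟨W, hW1, hW2, hW3, hW4⟩ := invol2_fix_minus Qs _ h2 (nd_top Qs hnd) hiso hy n hdim
    ((typeOn_top_iff Qs n hdim (-1)).2 htV) μ hμ1 hμ hcond
  exact ⟨W, ⟨hW1, hW2, hW3⟩, Or.map_le_of_forall W _ hW4⟩

end two

end Cfsg.Agent.Lib.Helper24.Ot
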