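/- helper24: the prime two (odd characteristic) and the characteristic prime for S5974, S5988, S5990 -/
import Mathlib
import Cfsg.Agent.Lib.Helper24.OtQ
import Cfsg.Agent.Lib.Helper24.Or87
import Cfsg.Agent.Lib.Helper12.OrPH

set_option autoImplicit false
set_option linter.unusedSectionVars false

namespace Cfsg.Agent.Lib.Helper24.Ot

open Module Polynomial QuadraticMap Cfsg.Agent.Lib.Helper12.Elus Cfsg.Agent.Lib.Helper12.Un
  Cfsg.Agent.Lib.Helper12 Cfsg.Agent.Lib.Helper12.OrN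
  Cfsg.Agent.Lib.Helper15 Cfsg.Agent.Lib.Helper15.QuadType

universe u

section twoplus

variable {F : Type u} [Field F] [Fintype F]

theorem mod_four_cases (hodd : Odd (Fintype.card F)) :
    Fintype.card F % 4 = 1 ∨ Fintype.card F % 4 = 3 := by
  obtain ⟨k, hk⟩ := hodd
  omega

/-- the type of an invariant nondegenerate subspace of an element with square `-1` -/
theorem sqneg_typeOn {V : Type*} [AddCommGroup V] [Module F V] [FiniteDimensional F V]
    (Q : QuadraticForm F V) (y : V →ₗ[F] V) (hodd : Odd (Fintype.card F))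
    (hiso : ∀ v, Q (y v) = Q v) (hy : ∀ v, y (y v) = -v) (W : Submodule F V)
    (hWinv : ∀ u ∈ W, y u ∈ W) (hWnd : Nd Q W) (μ : ℕ) (hdim : finrank F W = 2 * μ) :
    (Fintype.card F % 4 = 1 → TypeOn Q W 1) ∧
    (Fintype.card F % 4 = 3 → Even μ → TypeOn Q W 1) ∧
    (Fintype.card F % 4 = 3 → Odd μ → TypeOn Q W (-1)) := by
  have h2 : (2 : F) ≠ 0 := Or.two_ne_zero_odd hodd
  refine ⟨fun hq => ?_, fun hq hμ => ?_, fun hq hμ => ?_⟩
  · have hsq : IsSquare (-1 : F) := by
      rw [FiniteField.isSquare_neg_one_iff]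
      omega
    obtain ⟨ι0, hι0⟩ := hsq
    exact (typeOn_one_iff Q W hWnd ⟨μ, by rw [hdim]; ring⟩).2
      (sqneg_split_plus Q y h2 ι0 hι0.symm hiso hy W hWinv hWnd)
  · obtain ⟨ε, hε, ht⟩ := typeOn_exists Q W hWnd ⟨μ, by rw [hdim]; ring⟩
    rw [(sqneg_type Q y hq hiso hy W hWinv μ hdim ε hε ht).1 hμ] at ht
    exact ht
  · obtain ⟨ε, hε, ht⟩ := typeOn_exists Q W hWnd ⟨μ, by rw [hdim]; ring⟩
    rw [(sqneg_type Q y hq hiso hy W hWinv μ hdim ε hε ht).2 hμ] at ht
    exact ht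

/-- S5974, `r = 2`, odd characteristic -/
theorem two_iff_74 (hodd : Odd (Fintype.card F)) (d : ℕ) (hd : 4 ≤ d) (μ : ℕ) (hμ1 : 1 ≤ μ)
    (hμ2 : μ + 1 ≤ d) :
    OmegaFixT (plusQF d (F := F)) (2 * μ) 1 2 ↔
      (Odd d ∨ Even μ ∨ Fintype.card F % 4 = 1) := by
  have h2 : (2 : F) ≠ 0 := Or.two_ne_zero_odd hodd
  have hnd := plusQF_nondegenerate (F := F) d
  obtain ⟨v₀, hv₀⟩ := Or.plus_nonzero (F := F) d (by omega)
  constructor
  · intro hfix
    by_contra hcon
    push Not at hcon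
    obtain ⟨hd', hμ', hq⟩ := hcon
    rw [Nat.not_odd_iff_even] at hd'
    rw [Nat.not_even_iff_odd] at hμ'
    have hq3 : Fintype.card F % 4 = 3 := by
      rcases mod_four_cases hodd with h | h
      · exact absurd h hq
      · exact h
    obtain ⟨x, hxΩ, hneg⟩ := OrP.exists_sqneg_plus hodd d (by omega) (Or.inl hd')
    rw [← Or.coe_plusQF] at hxΩ
    refine not_omegaFixT_two_odd (plusQF d (F := F)) h2 v₀ hv₀ (2 * μ) 1 x hxΩ hneg ?_ hfix
    intro W hWdim hWnd hWinv ht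
    have hiso : ∀ v, plusQF d (F := F) (Matrix.toLin' (x : Matrix _ _ F) v) = plusQF d v :=
      fun v => Or.toLin_iso _ x (Or.iso_of_mem_omega _ x hxΩ) v
    have h3 := (sqneg_typeOn (plusQF d (F := F)) _ hodd hiso hneg W hWinv hWnd μ hWdim).2.2 hq3 hμ'
    have := typeOn_unique _ _ ht h3
    norm_num at this
  · intro hcond
    apply omegaFixT_two_odd (plusQF d (F := F)) h2 hnd d hd (Or.card_idx_plus d) v₀ hv₀ μ hμ1 hμ2
      1 (Or.inl rfl)
    intro x hxΩ hneg W hWdim hWnd hWinv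
    have hiso : ∀ v, plusQF d (F := F) (Matrix.toLin' (x : Matrix _ _ F) v) = plusQF d v :=
      fun v => Or.toLin_iso _ x (Or.iso_of_mem_omega _ x hxΩ) v
    have hW := sqneg_typeOn (plusQF d (F := F)) _ hodd hiso hneg W hWinv hWnd μ hWdim
    rcases mod_four_cases hodd with hq | hq
    · exact hW.1 hq
    · have hty := Or.type_of_sqneg (plusQF d (F := F)) _ hq hiso hneg d 1 (Or.inl rfl)
        (Or.hasType_plusQF d)
      have hde : ¬ Odd d := by
        intro ho
        have := hty.2 ho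
        norm_num at this
      rcases hcond with h | h | h
      · exact absurd h hde
      · exact hW.2.1 hq h
      · omega

/-- S5988, `r = 2`, odd characteristic -/
theorem two_iff_88 (hodd : Odd (Fintype.card F)) (d : ℕ) (hd : 4 ≤ d) (μ : ℕ) (hμ1 : 1 ≤ μ)
    (hμ2 : μ + 1 ≤ d) :
    OmegaFixT (plusQF d (F := F)) (2 * μ) (-1) 2 ↔
      ((Even d ∧ Fintype.card F % 4 = 3 ∧ Odd μ) ∨ (Odd d ∧ Fintype.card F % 8 ≠ 1)) := by
  have h2 : (2 : F) ≠ 0 := Or.two_ne_zero_odd hodd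
  have hnd := plusQF_nondegenerate (F := F) d
  obtain ⟨v₀, hv₀⟩ := Or.plus_nonzero (F := F) d (by omega)
  constructor
  · intro hfix
    by_contra hcon
    push Not at hcon
    obtain ⟨hA, hB⟩ := hcon
    have hex : Even d ∨ Fintype.card F % 8 = 1 := by
      rcases Nat.even_or_odd d with he | ho
      · exact Or.inl he
      · exact Or.inr (hB ho)
    obtain ⟨x, hxΩ, hneg⟩ := OrP.exists_sqneg_plus hodd d (by omega) hex
    rw [← Or.coe_plusQF] at hxΩ
    refine not_omegaFixT_two_odd (plusQF d (F := F)) h2 v₀ hv₀ (2 * μ) (-1) x hxΩ hneg ?_ hfix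
    intro W hWdim hWnd hWinv ht
    have hiso : ∀ v, plusQF d (F := F) (Matrix.toLin' (x : Matrix _ _ F) v) = plusQF d v :=
      fun v => Or.toLin_iso _ x (Or.iso_of_mem_omega _ x hxΩ) v
    have hW := sqneg_typeOn (plusQF d (F := F)) _ hodd hiso hneg W hWinv hWnd μ hWdim
    have h1 : TypeOn (plusQF d (F := F)) W 1 := by
      rcases mod_four_cases hodd with hq | hq
      · exact hW.1 hq
      · have hde : Even d := by
          rcases hex with he | h8
          · exact he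
          · omega
        have hμe : Even μ := by
          rw [← Nat.not_odd_iff_even]
          exact hA hde hq
        exact hW.2.1 hq hμe
    have := typeOn_unique _ _ ht h1
    norm_num at this
  · intro hcond
    apply omegaFixT_two_odd (plusQF d (F := F)) h2 hnd d hd (Or.card_idx_plus d) v₀ hv₀ μ hμ1 hμ2
      (-1) (Or.inr rfl)
    intro x hxΩ hneg W hWdim hWnd hWinv
    have hiso : ∀ v, plusQF d (F := F) (Matrix.toLin' (x : Matrix _ _ F) v) = plusQF d v :=
      fun v => Or.toLin_iso _ x (Or.iso_of_mem_omega _ x hxΩ) v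
    have hW := sqneg_typeOn (plusQF d (F := F)) _ hodd hiso hneg W hWinv hWnd μ hWdim
    rcases hcond with ⟨-, hq, hμ⟩ | ⟨hdo, h8⟩
    · exact hW.2.2 hq hμ
    · exfalso
      rw [Or.coe_plusQF] at hxΩ
      exact OrP.no_sqneg_plus hodd d hdo h8 x hxΩ hneg

end twoplus

section twominus

variable {F : Type u} [Field F] [Fintype F]

/-- S5990, `r = 2`, odd characteristic -/
theorem two_iff_90 (hodd : Odd (Fintype.card F)) (k : ℕ) (hk : 3 ≤ k) (a b : F)
    (hab : ∀ x y : F, x ^ 2 + a * x * y + b * y ^ 2 = 0 → x = 0 ∧ y = 0) (μ : ℕ) (hμ1 : 1 ≤ μ)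
    (hμ2 : μ ≤ k) :
    OmegaFixT (minusQFab k a b) (2 * μ) (-1) 2 ↔
      (Even (k + 1) ∨ Fintype.card F % 8 ≠ 7 ∨ Odd μ) := by
  have h2 : (2 : F) ≠ 0 := Or.two_ne_zero_odd hodd
  have hnd := Or.minusQF_nd k a b hab
  obtain ⟨v₀, hv₀⟩ := Or.minus_nonzero (F := F) k a b
  have htV := Or.hasType_minusQF k a b hab
  have hdimV : finrank F ((Fin k ⊕ Fin k) ⊕ Fin 2 → F) = 2 * (k + 1) := by
    rw [Module.finrank_fintype_fun_eq_card]
    exact Or.card_idx_minus k
  constructor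
  · intro hfix
    by_contra hcon
    push Not at hcon
    obtain ⟨hd', h87, hμ'⟩ := hcon
    rw [Nat.not_even_iff_odd] at hd'
    rw [Nat.not_odd_iff_even] at hμ'
    have h43 : Fintype.card F % 4 = 3 := by omega
    have h2sq : IsSquare (2 : F) := by
      rw [FiniteField.isSquare_two_iff]; omega
    obtain ⟨x, hxΩ, hneg⟩ := Or.exists_sqneg_omega (minusQFab k a b) h43 hnd (k + 1)
      (Or.card_idx_minus k) (-1)
      ⟨fun hev => absurd hev (Nat.not_even_iff_odd.2 hd'), fun _ => rfl⟩ (by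
        intro V' _ _ _ Q' hnd'' hdim'' ht''
        obtain ⟨bs, hbs⟩ := univ_minus Q' hnd'' k hdim'' ht'' hab
        exact ⟨bs.equivFun, fun v => by rw [minusQFab_eq]; exact hbs v⟩) (by
        obtain ⟨s, hs⟩ := h2sq
        exact ⟨s ^ (k + 1), by rw [hs, mul_pow]⟩)
    refine not_omegaFixT_two_odd (minusQFab k a b) h2 v₀ hv₀ (2 * μ) (-1) x hxΩ hneg ?_ hfix
    intro W hWdim hWnd hWinv ht
    have hiso : ∀ v, minusQFab k a b (Matrix.toLin' (x : Matrix _ _ F) v) = minusQFab k a b v :=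
      fun v => Or.toLin_iso _ x (Or.iso_of_mem_omega _ x hxΩ) v
    have h3 := (sqneg_typeOn (minusQFab k a b) _ hodd hiso hneg W hWinv hWnd μ hWdim).2.1 h43 hμ'
    have := typeOn_unique _ _ ht h3
    norm_num at this
  · intro hcond
    apply omegaFixT_two_odd (minusQFab k a b) h2 hnd (k + 1) (by omega) (Or.card_idx_minus k) v₀ hv₀
      μ hμ1 (by omega) (-1) (Or.inr rfl)
    intro x hxΩ hneg W hWdim hWnd hWinv
    have hiso : ∀ v, minusQFab k a b (Matrix.toLin' (x : Matrix _ _ F) v) = minusQFab k a b v :=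
      fun v => Or.toLin_iso _ x (Or.iso_of_mem_omega _ x hxΩ) v
    have hW := sqneg_typeOn (minusQFab k a b) _ hodd hiso hneg W hWinv hWnd μ hWdim
    have htop : TypeOn (minusQFab k a b) ⊤ (-1) :=
      (typeOn_top_iff (minusQFab k a b) (k + 1) hdimV (-1)).2 htV
    rcases mod_four_cases hodd with hq | hq
    · exfalso
      have h1 := (sqneg_typeOn (minusQFab k a b) _ hodd hiso hneg ⊤
        (fun _ _ => Submodule.mem_top) (nd_top _ hnd) (k + 1) (by rw [finrank_top, hdimV])).1 hq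
      have := typeOn_unique _ _ htop h1
      norm_num at this
    · have hty := Or.type_of_sqneg (minusQFab k a b) _ hq hiso hneg (k + 1) (-1) (Or.inr rfl) htV
      have hdo : Odd (k + 1) := by
        rw [← Nat.not_even_iff_odd]
        intro he
        have := hty.1 he
        norm_num at this
      rcases hcond with h | h | h
      · exact absurd h (Nat.not_even_iff_odd.2 hdo)
      · exfalso
        have hns : ¬ IsSquare (-1 : F) := by
          rw [FiniteField.isSquare_neg_one_iff]; omega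
        have hΩ : ∃ g : ↥(Cfsg.isometryGroup F ⇑(minusQFab k a b)),
            g ∈ Cfsg.Omega F ⇑(minusQFab k a b) ∧
            ((g : GL ((Fin k ⊕ Fin k) ⊕ Fin 2) F) :
              Matrix ((Fin k ⊕ Fin k) ⊕ Fin 2) ((Fin k ⊕ Fin k) ⊕ Fin 2) F) =
              LinearMap.toMatrix' (Matrix.toLin' (x : Matrix ((Fin k ⊕ Fin k) ⊕ Fin 2)
                ((Fin k ⊕ Fin k) ⊕ Fin 2) F)) := by
          obtain ⟨A, hA, rfl⟩ := Subgroup.mem_map.1 hxΩ
          exact ⟨A, hA, by rw [LinearMap.toMatrix'_toLin']; rfl⟩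
        have h2d := (Or.sqneg_mem_omega_iff (minusQFab k a b) h2 hns hnd _ hiso hneg (k + 1)
          (Or.card_idx_minus k)).1 hΩ
        have h22 := Or.isSquare_two_of_pow h2 (k + 1) hdo h2d
        rw [FiniteField.isSquare_two_iff] at h22
        omega
      · exact hW.2.2 hq h

end twominus

section charp

variable {F : Type u} [Field F] [Fintype F] {p : ℕ} [Fact p.Prime] [CharP F p]

/-- S5988, `r = p` -/
theorem not_fix_88_p (d : ℕ) (hd : 4 ≤ d) (μ : ℕ) :
    ¬ OmegaFixT (plusQF d (F := F)) (2 * μ) (-1) p := by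
  intro hfix
  obtain ⟨x, hxΩ, hxp, hxs, hW⟩ := elusive_plus_all (F := F) (p := p) d hd
  obtain ⟨W, ⟨hW1, hW2, hW3⟩, hW4⟩ := hfix x hxΩ ⟨1, by rw [hxp, one_smul]⟩ hxs
  have := typeOn_unique _ _ hW3 (hW W hW4 hW2 μ hW1)
  norm_num at this

/-- S5974, `r = p` -/
theorem not_fix_74_p (d : ℕ) (hd : 4 ≤ d) (hde : Even d) (μ : ℕ) (hμ : Odd μ) :
    ¬ OmegaFixT (plusQF d (F := F)) (2 * μ) 1 p := by
  intro hfix
  obtain ⟨x, hxΩ, hxp, hxs, hW⟩ := elusive_plus_even (F := F) (p := p) d hd hde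
  obtain ⟨W, ⟨hW1, hW2, -⟩, hW4⟩ := hfix x hxΩ ⟨1, by rw [hxp, one_smul]⟩ hxs
  exact hW W hW4 hW2 μ hμ hW1

/-- S5990, `r = p` -/
theorem not_fix_90_p (k : ℕ) (hk : 3 ≤ k) (hke : Even k) (a b : F)
    (hab : ∀ x y : F, x ^ 2 + a * x * y + b * y ^ 2 = 0 → x = 0 ∧ y = 0) (μ : ℕ) (hμ : Even μ) :
    ¬ OmegaFixT (minusQFab k a b) (2 * μ) (-1) p := by
  intro hfix
  obtain ⟨x, hxΩ, hxp, hxs, hW⟩ := elusive_minus_odd (F := F) (p := p) k hk hke a b hab
  obtain ⟨W, ⟨hW1, hW2, hW3⟩, hW4⟩ := hfix x hxΩ ⟨1, by rw [hxp, one_smul]⟩ hxs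
  exact hW W hW4 hW2 μ hμ hW1 hW3

end charp

end Cfsg.Agent.Lib.Helper24.Ot
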