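/- helper24: arithmetic of the odd-prime conditions of S5974, S5988, S5990 in closed form -/
import Mathlib
import Cfsg.Agent.Lib.Helper24.OtG

set_option autoImplicit false

namespace Cfsg.Agent.Lib.Helper24.Ot

theorem div_key (i a b k N m : ℕ) (hi0 : 0 < i) (hN : i * a + k = N) (hm : i * b + k = m) :
    (N + m - 2 * k) / i = a + b := by
  have : N + m - 2 * k = i * (a + b) := by
    rw [Nat.mul_add]
    omega
  rw [this, Nat.mul_div_cancel_left _ hi0]

theorem le_of_mod_zero (c m : ℕ) (hm : 2 ≤ m) (h : m % c = 0) : c ≤ m :=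
  Nat.le_of_dvd (by omega) (Nat.dvd_of_mod_eq_zero h)

/-- the arithmetic of S5974 for odd primes -/
theorem rhs74 (i c w d m : ℕ) (hi0 : 0 < i) (hm : 2 ≤ m)
    (hc : c = if Even i then i else 2 * i) (hw : w = if Even i then 1 else 0) :
    ((Odd i ∧ c ≤ m ∧ m % c ≤ (2 * d) % c) ∨
     (Even i ∧
       (((2 * d) % c = 0 ∧ (Odd ((2 * d) / i) ∨ (m % c = 0 ∧ Even (m / i)))) ∨
        (i ≤ m ∧ ((m % c < (2 * d) % c ∧ 0 < m % c) ∨
                  ((2 * d) % c = m % c ∧ 0 < m % c ∧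
                    Even ((2 * d + m - 2 * ((2 * d) % c)) / i)) ∨
                  (0 < (2 * d) % c ∧ m % c = 0 ∧ Even (m / i))))))) ↔
    (ClosedN c w 0 0 (2 * d) m ∧ (c ≤ m ∨ (2 * d) % c = 0)) := by
  unfold ClosedN
  have hcm := le_of_mod_zero c m hm
  by_cases hie : Even i
  · rw [if_pos hie] at hc hw
    subst hc hw
    have hio : ¬ Odd c := Nat.not_odd_iff_even.2 hie
    have h1 := Nat.div_add_mod (2 * d) c
    have h3 := Nat.div_add_mod m c
    have hk := Nat.mod_lt (2 * d) hi0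
    have hl := Nat.mod_lt m hi0
    have hkey : (2 * d) % c = m % c → (2 * d + m - 2 * ((2 * d) % c)) / c = (2 * d) / c + m / c := by
      intro h
      exact div_key c _ _ _ _ _ hi0 h1 (by rw [h]; exact h3)
    simp only [hie, hio, false_and, false_or, true_and, one_mul, zero_add, Nat.odd_iff,
      Nat.even_iff]
    constructor
    · rintro (⟨h0, h | ⟨h, h'⟩⟩ | ⟨hle, ⟨h, h'⟩ | ⟨h, h', h''⟩ | ⟨h, h', h''⟩⟩)
      · exact ⟨Or.inl ⟨h0, h⟩, Or.inr h0⟩
      · exact ⟨Or.inr (Or.inl ⟨h0, h, h'⟩), Or.inr h0⟩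
      · exact ⟨Or.inr (Or.inr (Or.inl ⟨h', h⟩)), Or.inl hle⟩
      · rw [hkey h] at h''
        exact ⟨Or.inr (Or.inr (Or.inr (Or.inr ⟨h', h.symm, h''⟩))), Or.inl hle⟩
      · exact ⟨Or.inr (Or.inr (Or.inr (Or.inl ⟨h', h, h''⟩))), Or.inl hle⟩
    · rintro ⟨⟨h0, h⟩ | ⟨h0, h, h'⟩ | ⟨h, h'⟩ | ⟨h, h', h''⟩ | ⟨h, h', h''⟩, hor⟩
      · exact Or.inl ⟨h0, Or.inl h⟩
      · exact Or.inl ⟨h0, Or.inr ⟨h, h'⟩⟩
      · refine Or.inr ⟨?_, Or.inl ⟨h', h⟩⟩
        rcases hor with h | h <;> omega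
      · refine Or.inr ⟨?_, Or.inr (Or.inr ⟨h', h, h''⟩)⟩
        rcases hor with h | h <;> omega
      · refine Or.inr ⟨?_, Or.inr (Or.inl ⟨h'.symm, h, ?_⟩)⟩
        · rcases hor with h | h <;> omega
        · rw [hkey h'.symm]
          exact h''
  · rw [if_neg hie] at hc hw
    subst hw
    have hio : Odd i := Nat.not_even_iff_odd.1 hie
    have hc0 : 0 < c := by omega
    have hk := Nat.mod_lt (2 * d) hc0
    have hl := Nat.mod_lt m hc0
    simp only [hie, hio, false_and, or_false, true_and, zero_mul, add_zero]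
    generalize (2 * d) % c = k at *
    generalize m % c = l at *
    constructor
    · rintro ⟨hle, h⟩
      refine ⟨?_, Or.inl hle⟩
      simp only [Nat.zero_mod, zero_ne_one, and_false, false_or, and_true]
      omega
    · rintro ⟨h, hor⟩
      simp only [Nat.zero_mod, zero_ne_one, and_false, false_or, and_true] at h
      refine ⟨?_, by omega⟩
      rcases hor with h' | h'
      · exact h'
      · exact hcm (by omega)

/-- the arithmetic of S5988 for odd primes -/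
theorem rhs88 (i c w d m : ℕ) (hi0 : 0 < i) (hm : 2 ≤ m)
    (hc : c = if Even i then i else 2 * i) (hw : w = if Even i then 1 else 0) :
    ((Odd i ∧ c ≤ m ∧ 0 < m % c ∧ m % c < (2 * d) % c) ∨
     (Even i ∧
       (((2 * d) % c = 0 ∧ (Odd ((2 * d) / i) ∨ (m % c = 0 ∧ Odd (m / i)))) ∨
        (i ≤ m ∧ ((0 < m % c ∧ m % c < (2 * d) % c) ∨
                  (0 < m % c ∧ m % c = (2 * d) % c ∧
                    Odd ((2 * d + m - 2 * ((2 * d) % c)) / i)) ∨
                  (m % c = 0 ∧ 0 < (2 * d) % c ∧ Odd (m / i))))))) ↔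
    (ClosedN c w 0 1 (2 * d) m ∧ (c ≤ m ∨ (2 * d) % c = 0)) := by
  unfold ClosedN
  have hcm := le_of_mod_zero c m hm
  by_cases hie : Even i
  · rw [if_pos hie] at hc hw
    subst hc hw
    have hio : ¬ Odd c := Nat.not_odd_iff_even.2 hie
    have h1 := Nat.div_add_mod (2 * d) c
    have h3 := Nat.div_add_mod m c
    have hk := Nat.mod_lt (2 * d) hi0
    have hl := Nat.mod_lt m hi0
    have hkey : (2 * d) % c = m % c → (2 * d + m - 2 * ((2 * d) % c)) / c = (2 * d) / c + m / c := by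
      intro h
      exact div_key c _ _ _ _ _ hi0 h1 (by rw [h]; exact h3)
    simp only [hie, hio, false_and, false_or, true_and, one_mul, zero_add, Nat.odd_iff]
    generalize (2 * d + m - 2 * ((2 * d) % c)) / c = X at *
    generalize (2 * d) % c = k at *
    generalize m % c = l at *
    generalize (2 * d) / c = a at *
    generalize m / c = b at *
    clear h1 h3
    constructor
    · rintro (⟨h0, h | ⟨h, h'⟩⟩ | ⟨hle, ⟨h, h'⟩ | ⟨h, h', h''⟩ | ⟨h, h', h''⟩⟩)
      · exact ⟨Or.inl ⟨h0, h⟩, Or.inr h0⟩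
      · exact ⟨Or.inr (Or.inl ⟨h0, h, by omega⟩), Or.inr h0⟩
      · exact ⟨Or.inr (Or.inr (Or.inl ⟨h, h'⟩)), Or.inl hle⟩
      · rw [hkey h'.symm] at h''
        exact ⟨Or.inr (Or.inr (Or.inr (Or.inr ⟨h, h', by omega⟩))), Or.inl hle⟩
      · exact ⟨Or.inr (Or.inr (Or.inr (Or.inl ⟨h, h', by omega⟩))), Or.inl hle⟩
    · rintro ⟨⟨h0, h⟩ | ⟨h0, h, h'⟩ | ⟨h, h'⟩ | ⟨h, h', h''⟩ | ⟨h, h', h''⟩, hor⟩
      · exact Or.inl ⟨h0, Or.inl h⟩
      · exact Or.inl ⟨h0, Or.inr ⟨h, by omega⟩⟩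
      · refine Or.inr ⟨?_, Or.inl ⟨h, h'⟩⟩
        rcases hor with h | h <;> omega
      · refine Or.inr ⟨?_, Or.inr (Or.inr ⟨h, h', by omega⟩)⟩
        rcases hor with h | h <;> omega
      · refine Or.inr ⟨?_, Or.inr (Or.inl ⟨h, h', ?_⟩)⟩
        · rcases hor with h | h <;> omega
        · rw [hkey h'.symm]
          omega
  · rw [if_neg hie] at hc hw
    subst hw
    have hio : Odd i := Nat.not_even_iff_odd.1 hie
    have hc0 : 0 < c := by omega
    have hk := Nat.mod_lt (2 * d) hc0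
    have hl := Nat.mod_lt m hc0
    simp only [hie, hio, false_and, or_false, true_and, zero_mul, add_zero, zero_add]
    generalize (2 * d) % c = k at *
    generalize m % c = l at *
    simp only [Nat.zero_mod, zero_ne_one, and_false, false_or, Nat.one_mod, one_ne_zero, or_false]
    constructor
    · rintro ⟨hle, h, h'⟩
      exact ⟨⟨h, h'⟩, Or.inl hle⟩
    · rintro ⟨⟨h, h'⟩, hor⟩
      refine ⟨?_, h, h'⟩
      rcases hor with h'' | h''
      · exact h''
      · omega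

/-- the arithmetic of S5990 for odd primes -/
theorem rhs90 (i c w d m : ℕ) (hi0 : 0 < i) (hm : 2 ≤ m)
    (hc : c = if Even i then i else 2 * i) (hw : w = if Even i then 1 else 0) :
    ((Odd i ∧ ((2 * d) % c = 0 ∨ (c ≤ m ∧ 0 < m % c ∧ m % c ≤ (2 * d) % c))) ∨
     (Even i ∧
       (((2 * d) % c = 0 ∧ (Even ((2 * d) / i) ∨ (m % c = 0 ∧ Odd (m / i)))) ∨
        (0 < (2 * d) % c ∧ i ≤ m ∧ ((0 < m % c ∧ m % c < (2 * d) % c) ∨
          (m % c = 0 ∧ Odd (m / i)) ∨
          (m % c = (2 * d) % c ∧ Even ((2 * d + m - 2 * ((2 * d) % c)) / i))))))) ↔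
    (ClosedN c w 1 1 (2 * d) m ∧ (c ≤ m ∨ (2 * d) % c = 0)) := by
  unfold ClosedN
  have hcm := le_of_mod_zero c m hm
  by_cases hie : Even i
  · rw [if_pos hie] at hc hw
    subst hc hw
    have hio : ¬ Odd c := Nat.not_odd_iff_even.2 hie
    have h1 := Nat.div_add_mod (2 * d) c
    have h3 := Nat.div_add_mod m c
    have hk := Nat.mod_lt (2 * d) hi0
    have hl := Nat.mod_lt m hi0
    have hkey : (2 * d) % c = m % c → (2 * d + m - 2 * ((2 * d) % c)) / c = (2 * d) / c + m / c := by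
      intro h
      exact div_key c _ _ _ _ _ hi0 h1 (by rw [h]; exact h3)
    simp only [hie, hio, false_and, false_or, true_and, one_mul, Nat.odd_iff,
      Nat.even_iff]
    generalize (2 * d + m - 2 * ((2 * d) % c)) / c = X at *
    generalize (2 * d) % c = k at *
    generalize m % c = l at *
    generalize (2 * d) / c = a at *
    generalize m / c = b at *
    clear h1 h3
    constructor
    · rintro (⟨h0, h | ⟨h, h'⟩⟩ | ⟨hk0, hle, ⟨h, h'⟩ | ⟨h, h'⟩ | ⟨h, h'⟩⟩)
      · exact ⟨Or.inl ⟨h0, by omega⟩, Or.inr h0⟩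
      · exact ⟨Or.inr (Or.inl ⟨h0, h, by omega⟩), Or.inr h0⟩
      · exact ⟨Or.inr (Or.inr (Or.inl ⟨h, h'⟩)), Or.inl hle⟩
      · exact ⟨Or.inr (Or.inr (Or.inr (Or.inl ⟨h, hk0, by omega⟩))), Or.inl hle⟩
      · rw [hkey h.symm] at h'
        exact ⟨Or.inr (Or.inr (Or.inr (Or.inr ⟨by omega, h, by omega⟩))), Or.inl hle⟩
    · rintro ⟨⟨h0, h⟩ | ⟨h0, h, h'⟩ | ⟨h, h'⟩ | ⟨h, h', h''⟩ | ⟨h, h', h''⟩, hor⟩
      · exact Or.inl ⟨h0, Or.inl (by omega)⟩
      · exact Or.inl ⟨h0, Or.inr ⟨h, by omega⟩⟩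
      · refine Or.inr ⟨by omega, ?_, Or.inl ⟨h, h'⟩⟩
        rcases hor with h | h <;> omega
      · refine Or.inr ⟨h', ?_, Or.inr (Or.inl ⟨h, by omega⟩)⟩
        rcases hor with h | h <;> omega
      · refine Or.inr ⟨by omega, ?_, Or.inr (Or.inr ⟨h', ?_⟩)⟩
        · rcases hor with h | h <;> omega
        · rw [hkey h'.symm]
          omega
  · rw [if_neg hie] at hc hw
    subst hw
    have hio : Odd i := Nat.not_even_iff_odd.1 hie
    have hc0 : 0 < c := by omega
    have hk := Nat.mod_lt (2 * d) hc0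
    have hl := Nat.mod_lt m hc0
    simp only [hie, hio, false_and, or_false, true_and, zero_mul, add_zero]
    generalize (2 * d) % c = k at *
    generalize m % c = l at *
    simp only [Nat.one_mod, one_ne_zero, and_false, false_or, and_true]
    constructor
    · rintro (h | ⟨hle, h, h'⟩)
      · exact ⟨Or.inl h, Or.inr h⟩
      · refine ⟨?_, Or.inl hle⟩
        omega
    · rintro ⟨h, hor⟩
      by_cases hk0 : k = 0
      · exact Or.inl hk0
      · refine Or.inr ⟨?_, by omega, by omega⟩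
        rcases hor with h'' | h''
        · exact h''
        · omega

end Cfsg.Agent.Lib.Helper24.Ot
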