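/- helper24: typed nondegenerate subspaces: translation of the hypotheses of S5974, S5988, S5990 -/
import Mathlib
import Cfsg.Agent.Lib.Helper24.OtR
import Cfsg.Agent.Lib.Helper24.OtS

set_option autoImplicit false
set_option linter.unusedSectionVars false

namespace Cfsg.Agent.Lib.Helper24.Ot

open Module Polynomial QuadraticMap Cfsg.Agent.Lib.Helper12.Elus Cfsg.Agent.Lib.Helper12.Un
  Cfsg.Agent.Lib.Helper12 Cfsg.Agent.Lib.Helper12.OrN
  Cfsg.Agent.Lib.Helper15 Cfsg.Agent.Lib.Helper15.QuadType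

universe u

section glue

variable {F : Type u} [Field F] [Fintype F] {ι : Type} [Fintype ι] [DecidableEq ι]
  (Qs : QuadraticForm F (ι → F))

theorem geo_nd_iff' (W : Submodule F (ι → F)) :
    Cfsg.Geo.IsNondegenerateOn (QuadraticMap.polar ⇑Qs) W ↔ Nd Qs W := by
  constructor
  · intro h u hu hu0
    obtain ⟨v, hv, hne⟩ := (h u hu hu0).2
    exact ⟨v, hv, hne⟩
  · intro h w hw hw0
    obtain ⟨v, hv, hne⟩ := h w hw hw0
    have hne' : QuadraticMap.polar ⇑Qs w v ≠ 0 := hne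
    refine ⟨⟨v, hv, ?_⟩, ⟨v, hv, hne'⟩⟩
    rw [QuadraticMap.polar_comm]
    exact hne'

theorem geo_typed_minus (m : ℕ) (hme : Even m) (W : Submodule F (ι → F)) :
    (finrank F W = m ∧ Cfsg.Geo.IsNondegenerateOn (QuadraticMap.polar ⇑Qs) W ∧
      ¬ Cfsg.Geo.IsPlusTypeOn ⇑Qs W) ↔ W ∈ typedSet Qs m (-1) := by
  constructor
  · rintro ⟨h1, h3, h4⟩
    have hnd := (geo_nd_iff' Qs W).1 h3
    have hev : Even (finrank F W) := by rw [h1]; exact hme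
    obtain ⟨ε, hε, ht⟩ := typeOn_exists Qs W hnd hev
    rcases hε with rfl | rfl
    · exact absurd ((typeOn_one_iff Qs W hnd hev).1 ht) h4
    · exact ⟨h1, hnd, ht⟩
  · rintro ⟨h1, h3, h4⟩
    have hev : Even (finrank F W) := by rw [h1]; exact hme
    refine ⟨h1, (geo_nd_iff' Qs W).2 h3, ?_⟩
    intro hplus
    have h5 := (typeOn_one_iff Qs W h3 hev).2 hplus
    have := typeOn_unique Qs W h4 h5
    omega

theorem geo_typed_plus (m : ℕ) (hme : Even m) (W : Submodule F (ι → F)) :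
    (finrank F W = m ∧ (∀ u ∈ W, u ≠ 0 → ∃ v ∈ W, QuadraticMap.polar ⇑Qs u v ≠ 0) ∧
      ∃ U : Submodule F (ι → F), U ≤ W ∧ 2 * finrank F U = m ∧ ∀ u ∈ U, Qs u = 0) ↔
      W ∈ typedSet Qs m 1 := by
  constructor
  · rintro ⟨h1, h3, U, hUW, hUdim, hUts⟩
    have hnd : Nd Qs W := h3
    have hev : Even (finrank F W) := by rw [h1]; exact hme
    exact ⟨h1, hnd, (typeOn_one_iff Qs W hnd hev).2 ⟨U, hUW, hUts, by rw [hUdim, h1]⟩⟩
  · rintro ⟨h1, h3, h4⟩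
    have hev : Even (finrank F W) := by rw [h1]; exact hme
    obtain ⟨U, hUW, hUts, hUdim⟩ := (typeOn_one_iff Qs W h3 hev).1 h4
    exact ⟨h1, h3, U, hUW, by rw [hUdim, h1], hUts⟩

/-- the hypothesis of S5988 / S5990 in terms of `OmegaFixT` -/
theorem lhs_minus_iff (m : ℕ) (hme : Even m) (r : ℕ) :
    (∀ x : GL ι F, x ∈ Cfsg.Geo.omegaGL ⇑Qs →
      (∃ z : F, ((x ^ r : GL ι F) : Matrix ι ι F) = z • (1 : Matrix ι ι F)) →
      (∀ z : F, (x : Matrix ι ι F) ≠ z • (1 : Matrix ι ι F)) →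
      ∃ W : Submodule F (ι → F), (finrank F W = m ∧
        Cfsg.Geo.IsNondegenerateOn (QuadraticMap.polar ⇑Qs) W ∧
        ¬ Cfsg.Geo.IsPlusTypeOn ⇑Qs W) ∧ W.map (Matrix.toLin' (x : Matrix ι ι F)) ≤ W) ↔
    OmegaFixT Qs m (-1) r := by
  constructor
  · intro h x hxΩ hxr hxs
    obtain ⟨W, hW, hWinv⟩ := h x hxΩ hxr hxs
    exact ⟨W, (geo_typed_minus Qs m hme W).1 hW, hWinv⟩
  · intro h x hxΩ hxr hxs
    obtain ⟨W, hW, hWinv⟩ := h x hxΩ hxr hxs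
    exact ⟨W, (geo_typed_minus Qs m hme W).2 hW, hWinv⟩

/-- the hypothesis of S5974 in terms of `OmegaFixT` -/
theorem lhs_plus_iff (m : ℕ) (hme : Even m) (r : ℕ) :
    (∀ x : GL ι F, x ∈ Cfsg.Geo.omegaGL ⇑Qs →
      (∃ z : F, ((x ^ r : GL ι F) : Matrix ι ι F) = z • (1 : Matrix ι ι F)) →
      (∀ z : F, (x : Matrix ι ι F) ≠ z • (1 : Matrix ι ι F)) →
      ∃ W : Submodule F (ι → F), (finrank F W = m ∧
        (∀ u ∈ W, u ≠ 0 → ∃ v ∈ W, QuadraticMap.polar ⇑Qs u v ≠ 0) ∧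
        ∃ U : Submodule F (ι → F), U ≤ W ∧ 2 * finrank F U = m ∧ ∀ u ∈ U, Qs u = 0) ∧
        W.map (Matrix.toLin' (x : Matrix ι ι F)) ≤ W) ↔
    OmegaFixT Qs m 1 r := by
  constructor
  · intro h x hxΩ hxr hxs
    obtain ⟨W, hW, hWinv⟩ := h x hxΩ hxr hxs
    exact ⟨W, (geo_typed_plus Qs m hme W).1 hW, hWinv⟩
  · intro h x hxΩ hxr hxs
    obtain ⟨W, hW, hWinv⟩ := h x hxΩ hxr hxs
    exact ⟨W, (geo_typed_plus Qs m hme W).2 hW, hWinv⟩

theorem card_minus_eq (m : ℕ) (hme : Even m) :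
    Nat.card {W : Submodule F (ι → F) // finrank F W = m ∧
        Cfsg.Geo.IsNondegenerateOn (QuadraticMap.polar ⇑Qs) W ∧
        ¬ Cfsg.Geo.IsPlusTypeOn ⇑Qs W} = Nat.card (typedSet Qs m (-1)) :=
  Nat.card_congr (Equiv.subtypeEquivRight (fun W => geo_typed_minus Qs m hme W))

theorem card_plus_eq (m : ℕ) (hme : Even m) :
    Nat.card {W : Submodule F (ι → F) // finrank F W = m ∧
        (∀ u ∈ W, u ≠ 0 → ∃ v ∈ W, QuadraticMap.polar ⇑Qs u v ≠ 0) ∧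
        ∃ U : Submodule F (ι → F), U ≤ W ∧ 2 * finrank F U = m ∧ ∀ u ∈ U, Qs u = 0} =
      Nat.card (typedSet Qs m 1) :=
  Nat.card_congr (Equiv.subtypeEquivRight (fun W => geo_typed_plus Qs m hme W))

end glue

end Cfsg.Agent.Lib.Helper24.Ot
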