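/- helper24: S5974, S5988, S5990 in terms of typed nondegenerate subspaces -/
import Mathlib
import Cfsg.Agent.Lib.Helper24.OtT

set_option autoImplicit false
set_option linter.unusedSectionVars false

namespace Cfsg.Agent.Lib.Helper24.Ot

open Module Polynomial QuadraticMap Cfsg.Agent.Lib.Helper12.Elus Cfsg.Agent.Lib.Helper12.Un
  Cfsg.Agent.Lib.Helper12 Cfsg.Agent.Lib.Helper12.OrN
  Cfsg.Agent.Lib.Helper15 Cfsg.Agent.Lib.Helper15.QuadType

universe u

section mains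

variable {F : Type u} [Field F] [Fintype F] {p : ℕ} [Fact p.Prime] [CharP F p]

theorem two_eq_zero_of_char (hp2 : p = 2) : (2 : F) = 0 := by
  subst hp2
  have := CharP.cast_eq_zero F 2
  exact_mod_cast this

theorem card_mod_four_of_char_two (hp2 : p = 2) : Fintype.card F % 4 ≠ 1 := by
  subst hp2
  obtain ⟨k, -, hk⟩ := FiniteField.card F 2
  rw [hk]
  obtain ⟨k', hk'⟩ : ∃ k', (k : ℕ) = k' + 1 := ⟨(k : ℕ) - 1, by have := k.pos; omega⟩
  rw [hk', pow_succ]
  omega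

/-- the common odd-prime step -/
theorem odd_step (r : ℕ) [Fact r.Prime] (hrp : r ≠ p) (i c : ℕ)
    (hi : i = orderOf ((Fintype.card F : ℕ) : ZMod r)) (hc : c = if Even i then i else 2 * i) :
    0 < i ∧ Sp.blockDim (Fintype.card F) r = c ∧
      wt (Fintype.card F) r = if Even i then 1 else 0 := by
  refine ⟨?_, ?_, ?_⟩
  · rw [hi]
    exact orderOf_card_pos r hrp
  · unfold Sp.blockDim
    rw [← hi, hc]
  · unfold wt
    rw [← hi]

/-- S5974 in terms of `OmegaFixT` -/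
theorem main74 (d m : ℕ) (hd : 4 ≤ d) (hm : 2 ≤ m) (hme : Even m) (hmd : m < d)
    (r : ℕ) [Fact r.Prime] (hr : r = 2 ∨ r ≠ p)
    (hrΩ : r ∣ Nat.card (typedSet (plusQF d (F := F)) m 1))
    (i c : ℕ) (hi : i = orderOf ((Fintype.card F : ℕ) : ZMod r))
    (hc : c = if Even i then i else 2 * i) :
    OmegaFixT (plusQF d (F := F)) m 1 r ↔
    ((r = 2 ∧ ((2 * d) % 4 = 2 ∨ m % 4 = 0 ∨ Fintype.card F % 4 = 1)) ∨
     (r ≠ p ∧ 2 < r ∧ Odd i ∧ c ≤ m ∧ m % c ≤ (2 * d) % c) ∨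
     (r ≠ p ∧ 2 < r ∧ Even i ∧
       (((2 * d) % c = 0 ∧ (Odd ((2 * d) / i) ∨ (m % c = 0 ∧ Even (m / i)))) ∨
        (i ≤ m ∧ ((m % c < (2 * d) % c ∧ 0 < m % c) ∨
                  ((2 * d) % c = m % c ∧ 0 < m % c ∧
                    Even ((2 * d + m - 2 * ((2 * d) % c)) / i)) ∨
                  (0 < (2 * d) % c ∧ m % c = 0 ∧ Even (m / i))))))) := by
  have hrpr : r.Prime := Fact.out
  have hnd := plusQF_nondegenerate (F := F) d
  obtain ⟨v₀, hv₀⟩ := Or.plus_nonzero (F := F) d (by omega)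
  obtain ⟨μ, hμ⟩ := hme
  have hm2 : m = 2 * μ := by omega
  by_cases hr2 : r = 2
  · subst hr2
    have hRHS : ((2 = 2 ∧ ((2 * d) % 4 = 2 ∨ m % 4 = 0 ∨ Fintype.card F % 4 = 1)) ∨
        (2 ≠ p ∧ 2 < 2 ∧ Odd i ∧ c ≤ m ∧ m % c ≤ (2 * d) % c) ∨
        (2 ≠ p ∧ 2 < 2 ∧ Even i ∧
          (((2 * d) % c = 0 ∧ (Odd ((2 * d) / i) ∨ (m % c = 0 ∧ Even (m / i)))) ∨
           (i ≤ m ∧ ((m % c < (2 * d) % c ∧ 0 < m % c) ∨
                  ((2 * d) % c = m % c ∧ 0 < m % c ∧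
                    Even ((2 * d + m - 2 * ((2 * d) % c)) / i)) ∨
                  (0 < (2 * d) % c ∧ m % c = 0 ∧ Even (m / i))))))) ↔
        (Odd d ∨ Even μ ∨ Fintype.card F % 4 = 1) := by
      have e1 : (2 * d) % 4 = 2 ↔ Odd d := by
        rw [Nat.odd_iff]; omega
      have e2 : m % 4 = 0 ↔ Even μ := by
        rw [Nat.even_iff]; omega
      rw [e1, e2]
      simp only [lt_irrefl, false_and, and_false, or_false, true_and]
    rw [hRHS, hm2]
    by_cases hp2 : p = 2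
    · have h2 : (2 : F) = 0 := two_eq_zero_of_char (p := p) hp2
      have hq4 := card_mod_four_of_char_two (F := F) (p := p) hp2
      constructor
      · intro hfix
        by_contra hcon
        push Not at hcon
        obtain ⟨hd', hμ', -⟩ := hcon
        rw [Nat.not_odd_iff_even] at hd'
        rw [Nat.not_even_iff_odd] at hμ'
        subst hp2
        exact not_fix_74_p (F := F) (p := 2) d hd hd' μ hμ' hfix
      · intro hcond
        apply omegaFixT_two_char2_plus (plusQF d (F := F)) h2 hnd d (Or.card_idx_plus d) v₀ hv₀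
          (Or.hasType_plusQF d) μ (by omega)
        rcases hcond with h | h | h
        · exact Or.inl h
        · exact Or.inr h
        · exact absurd h hq4
    · have hodd := Or.odd_card_of_char_ne_two (F := F) (p := p) hp2
      exact two_iff_74 hodd d hd μ (by omega) (by omega)
  · have hrp : r ≠ p := by
      rcases hr with h | h
      · exact absurd h hr2
      · exact h
    have hr3 : 2 < r := by
      have := hrpr.two_le
      omega
    obtain ⟨hi0, hbd, hwt⟩ := odd_step (F := F) (p := p) r hrp i c hi hc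
    have hmaster := master_odd (p := p) (plusQF d (F := F)) hnd d (by omega) (Or.card_idx_plus d) 0
      (by rw [pow_zero]; exact Or.hasType_plusQF d) v₀ hv₀ r hr2 hrp m hm ⟨μ, hμ⟩ (by omega) 0
      (by rw [pow_zero]; exact hrΩ)
    rw [pow_zero, hbd] at hmaster
    rw [hmaster, ← rhs74 i c _ d m hi0 hm hc hwt]
    constructor
    · rintro (⟨h1, h3⟩ | ⟨h1, h3⟩)
      · exact Or.inr (Or.inl ⟨hrp, hr3, h1, h3⟩)
      · exact Or.inr (Or.inr ⟨hrp, hr3, h1, h3⟩)
    · rintro (⟨h1, -⟩ | ⟨-, -, h1, h3⟩ | ⟨-, -, h1, h3⟩)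
      · exact absurd h1 hr2
      · exact Or.inl ⟨h1, h3⟩
      · exact Or.inr ⟨h1, h3⟩

/-- S5988 in terms of `OmegaFixT` -/
theorem main88 (d m : ℕ) (hd : 4 ≤ d) (hm : 2 ≤ m) (hme : Even m) (hmd : m < d)
    (r : ℕ) [Fact r.Prime]
    (hrΩ : r ∣ Nat.card (typedSet (plusQF d (F := F)) m (-1)))
    (i c : ℕ) (hi : i = orderOf ((Fintype.card F : ℕ) : ZMod r))
    (hc : c = if Even i then i else 2 * i) :
    OmegaFixT (plusQF d (F := F)) m (-1) r ↔
    ((r = 2 ∧ p ≠ 2 ∧ ((Even d ∧ Fintype.card F % 4 = 3 ∧ m % 4 = 2) ∨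
        (Odd d ∧ Fintype.card F % 8 ≠ 1))) ∨
     (r ≠ p ∧ 2 < r ∧ Odd i ∧ c ≤ m ∧ 0 < m % c ∧ m % c < (2 * d) % c) ∨
     (r ≠ p ∧ 2 < r ∧ Even i ∧
       (((2 * d) % c = 0 ∧ (Odd ((2 * d) / i) ∨ (m % c = 0 ∧ Odd (m / i)))) ∨
        (i ≤ m ∧ ((0 < m % c ∧ m % c < (2 * d) % c) ∨
                  (0 < m % c ∧ m % c = (2 * d) % c ∧
                    Odd ((2 * d + m - 2 * ((2 * d) % c)) / i)) ∨
                  (m % c = 0 ∧ 0 < (2 * d) % c ∧ Odd (m / i))))))) := by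
  have hrpr : r.Prime := Fact.out
  have hnd := plusQF_nondegenerate (F := F) d
  obtain ⟨v₀, hv₀⟩ := Or.plus_nonzero (F := F) d (by omega)
  obtain ⟨μ, hμ⟩ := hme
  have hm2 : m = 2 * μ := by omega
  by_cases hrp : r = p
  · -- the characteristic prime: never
    subst hrp
    constructor
    · intro hfix
      rw [hm2] at hfix
      exact absurd hfix (not_fix_88_p (F := F) (p := r) d hd μ)
    · rintro (⟨h1, h3, -⟩ | ⟨h1, -⟩ | ⟨h1, -⟩)
      · exact absurd h1 h3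
      · exact absurd rfl h1
      · exact absurd rfl h1
  by_cases hr2 : r = 2
  · subst hr2
    have hp2 : p ≠ 2 := fun h => hrp h.symm
    have hodd := Or.odd_card_of_char_ne_two (F := F) (p := p) hp2
    have e2 : m % 4 = 2 ↔ Odd μ := by
      rw [Nat.odd_iff]; omega
    rw [hm2, two_iff_88 hodd d hd μ (by omega) (by omega), ← hm2, e2]
    constructor
    · intro h
      exact Or.inl ⟨rfl, hp2, h⟩
    · rintro (⟨-, -, h⟩ | ⟨-, h, -⟩ | ⟨-, h, -⟩)
      · exact h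
      · exact absurd h (lt_irrefl 2)
      · exact absurd h (lt_irrefl 2)
  · have hr3 : 2 < r := by
      have := hrpr.two_le
      omega
    obtain ⟨hi0, hbd, hwt⟩ := odd_step (F := F) (p := p) r hrp i c hi hc
    have hmaster := master_odd (p := p) (plusQF d (F := F)) hnd d (by omega) (Or.card_idx_plus d) 0
      (by rw [pow_zero]; exact Or.hasType_plusQF d) v₀ hv₀ r hr2 hrp m hm ⟨μ, hμ⟩ (by omega) 1
      (by rw [pow_one]; exact hrΩ)
    rw [pow_one, hbd] at hmaster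
    rw [hmaster, ← rhs88 i c _ d m hi0 hm hc hwt]
    constructor
    · rintro (⟨h1, h3⟩ | ⟨h1, h3⟩)
      · exact Or.inr (Or.inl ⟨hrp, hr3, h1, h3⟩)
      · exact Or.inr (Or.inr ⟨hrp, hr3, h1, h3⟩)
    · rintro (⟨h1, -⟩ | ⟨-, -, h1, h3⟩ | ⟨-, -, h1, h3⟩)
      · exact absurd h1 hr2
      · exact Or.inl ⟨h1, h3⟩
      · exact Or.inr ⟨h1, h3⟩

/-- S5990 in terms of `OmegaFixT`, with `d = k + 1` -/
theorem main90 (k m : ℕ) (hk : 3 ≤ k) (hm : 2 ≤ m) (hme : Even m) (hmn : m ≤ 2 * k) (a b : F)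
    (hab : ∀ x y : F, x ^ 2 + a * x * y + b * y ^ 2 = 0 → x = 0 ∧ y = 0)
    (r : ℕ) [Fact r.Prime] (hr : r = 2 ∨ r ≠ p)
    (hrΩ : r ∣ Nat.card (typedSet (minusQFab k a b) m (-1)))
    (i c : ℕ) (hi : i = orderOf ((Fintype.card F : ℕ) : ZMod r))
    (hc : c = if Even i then i else 2 * i) :
    OmegaFixT (minusQFab k a b) m (-1) r ↔
    ((r = 2 ∧ p = 2 ∧ (Even (k + 1) ∨ m % 4 = 2)) ∨
     (r = 2 ∧ p ≠ 2 ∧ (Even (k + 1) ∨ Fintype.card F % 8 ≠ 7 ∨ m % 4 = 2)) ∨
     (r ≠ p ∧ 2 < r ∧ Odd i ∧ ((2 * (k + 1)) % c = 0 ∨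
        (c ≤ m ∧ 0 < m % c ∧ m % c ≤ (2 * (k + 1)) % c))) ∨
     (r ≠ p ∧ 2 < r ∧ Even i ∧
       (((2 * (k + 1)) % c = 0 ∧ (Even ((2 * (k + 1)) / i) ∨ (m % c = 0 ∧ Odd (m / i)))) ∨
        (0 < (2 * (k + 1)) % c ∧ i ≤ m ∧ ((0 < m % c ∧ m % c < (2 * (k + 1)) % c) ∨
          (m % c = 0 ∧ Odd (m / i)) ∨
          (m % c = (2 * (k + 1)) % c ∧
            Even ((2 * (k + 1) + m - 2 * ((2 * (k + 1)) % c)) / i))))))) := by
  have hrpr : r.Prime := Fact.out
  have hnd := Or.minusQF_nd k a b hab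
  obtain ⟨v₀, hv₀⟩ := Or.minus_nonzero (F := F) k a b
  have htV := Or.hasType_minusQF k a b hab
  obtain ⟨μ, hμ⟩ := hme
  have hm2 : m = 2 * μ := by omega
  have e2 : m % 4 = 2 ↔ Odd μ := by
    rw [Nat.odd_iff]; omega
  by_cases hr2 : r = 2
  · subst hr2
    by_cases hp2 : p = 2
    · have h2 : (2 : F) = 0 := two_eq_zero_of_char (p := p) hp2
      rw [e2]
      constructor
      · intro hfix
        refine Or.inl ⟨rfl, hp2, ?_⟩
        by_contra hcon
        push Not at hcon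
        obtain ⟨hd', hμ'⟩ := hcon
        rw [Nat.not_odd_iff_even] at hμ'
        have hke : Even k := by
          rcases Nat.even_or_odd k with h | h
          · exact h
          · exact absurd (Odd.add_one h) hd'
        subst hp2
        rw [hm2] at hfix
        exact not_fix_90_p (F := F) (p := 2) k hk hke a b hab μ hμ' hfix
      · rintro (⟨-, -, hcond⟩ | ⟨-, h, -⟩ | ⟨-, h, -⟩ | ⟨-, h, -⟩)
        · rw [hm2]
          exact omegaFixT_two_char2_minus (minusQFab k a b) h2 hnd (k + 1) (Or.card_idx_minus k) v₀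
            hv₀ htV μ (by omega) (by omega) hcond
        · exact absurd hp2 h
        · exact absurd h (lt_irrefl 2)
        · exact absurd h (lt_irrefl 2)
    · have hodd := Or.odd_card_of_char_ne_two (F := F) (p := p) hp2
      rw [hm2, two_iff_90 hodd k hk a b hab μ (by omega) (by omega), ← hm2, e2]
      constructor
      · intro h
        exact Or.inr (Or.inl ⟨rfl, hp2, h⟩)
      · rintro (⟨-, h, -⟩ | ⟨-, -, h⟩ | ⟨-, h, -⟩ | ⟨-, h, -⟩)
        · exact absurd h hp2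
        · exact h
        · exact absurd h (lt_irrefl 2)
        · exact absurd h (lt_irrefl 2)
  · have hrp : r ≠ p := by
      rcases hr with h | h
      · exact absurd h hr2
      · exact h
    have hr3 : 2 < r := by
      have := hrpr.two_le
      omega
    obtain ⟨hi0, hbd, hwt⟩ := odd_step (F := F) (p := p) r hrp i c hi hc
    have hmaster := master_odd (p := p) (minusQFab k a b) hnd (k + 1) (by omega)
      (Or.card_idx_minus k) 1 (by rw [pow_one]; exact htV) v₀ hv₀ r hr2 hrp m hm ⟨μ, hμ⟩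
      (by omega) 1 (by rw [pow_one]; exact hrΩ)
    rw [pow_one, hbd] at hmaster
    rw [hmaster, ← rhs90 i c _ (k + 1) m hi0 hm hc hwt]
    constructor
    · rintro (⟨h1, h3⟩ | ⟨h1, h3⟩)
      · exact Or.inr (Or.inr (Or.inl ⟨hrp, hr3, h1, h3⟩))
      · exact Or.inr (Or.inr (Or.inr ⟨hrp, hr3, h1, h3⟩))
    · rintro (⟨h1, -⟩ | ⟨h1, -⟩ | ⟨-, -, h1, h3⟩ | ⟨-, -, h1, h3⟩)
      · exact absurd h1 hr2
      · exact absurd h1 hr2
      · exact Or.inl ⟨h1, h3⟩
      · exact Or.inr ⟨h1, h3⟩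

end mains

end Cfsg.Agent.Lib.Helper24.Ot
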