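/-
helper24: S4640 leaf (F12): `N P = G` and `P ∩ N` is a defect group of `b`, from helper6's Fong theorem
and the uniqueness of the covering block for a `p`-power index.
-/
import Mathlib
import Cfsg.Agent.Lib.Helper6.Fong
import Cfsg.Agent.Lib.Helper6.FongGen
import Cfsg.Agent.Lib.Helper6.SubsectionCount

set_option autoImplicit false

namespace Cfsg.Agent.Lib.Helper24.PIF12

open Cfsg Cfsg.Agent.CharLib Cfsg.Agent.Lib.Helper6 Cfsg.Agent.Lib.Helper23

universe u

variable {G : Type u} [Group G] [Fintype G] {p : ℕ} [hpp : Fact p.Prime] {M : Ideal AlgInt}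
  (N : Subgroup G) [hN : N.Normal] [Fintype N]

omit [Fintype G] [Fintype N] in
/-- statement-form invariance from `StabilizesBlock` -/
theorem hinv_of_stab (b : Set (IrrCharacter N)) (hstab : ∀ g : G, StabilizesBlock N b g) :
    ∀ g : G, ∀ θ ∈ b, ∀ θ' : IrrCharacter N,
      (∀ n : N, (θ' : N → ℂ) n = (θ : N → ℂ) ⟨g * n * g⁻¹, hN.conj_mem n n.2 g⟩) → θ' ∈ b := by
  intro g θ hθ θ' h
  obtain ⟨χ', hχ', hconj⟩ := (hstab g⁻¹).2 θ hθ
  have : χ' = θ' := by
    apply Subtype.ext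
    funext n
    rw [h n]
    apply hconj ⟨g * n * g⁻¹, hN.conj_mem n n.2 g⟩ n
    simp only [inv_inv]
    group
  rw [← this]
  exact hχ'

/-- (F12) conjuncts 1 and 2 (Fong). -/
theorem sup_eq_top_and_isDefectGroup (hM : IsPModular p M) (hNi : ∃ k : ℕ, N.index = p ^ k)
    (b : Set (IrrCharacter N)) (hb : IsPBlock M b) (hstab : ∀ g : G, StabilizesBlock N b g)
    (B : Set (IrrCharacter G)) (hB : IsPBlock M B)
    (hcov : ∃ χ ∈ B, ∃ θ ∈ b, classInner (fun n : N => (χ : G → ℂ) n) (θ : N → ℂ) ≠ 0)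
    (P : Subgroup G) (hPD : IsDefectGroup p M B P) :
    N ⊔ P = ⊤ ∧ IsDefectGroup p M b ((P ⊓ N).subgroupOf N) := by
  classical
  have hp : p.Prime := hpp.out
  have hmax : ∀ B' : Set (IrrCharacter G), IsPBlock M B' →
      (∃ χ ∈ B', ∃ θ ∈ b, classInner (fun n : N => (χ : G → ℂ) n) (θ : N → ℂ) ≠ 0) →
      blockDefect p B' ≤ blockDefect p B := by
    intro B' hB' hcov'
    have huniq := (existsUnique_covering_block N p hM hNi b hb).unique ⟨hB', hcov'⟩ ⟨hB, hcov⟩
    rw [huniq]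
  obtain ⟨h1, h2, -⟩ := Fong.fong N hM b hb (hinv_of_stab N b hstab) B hB hcov hmax P hPD
  refine ⟨?_, h2⟩
  -- the index of `P ⊔ N` divides `p ^ k` and is prime to `p`
  obtain ⟨k, hk⟩ := hNi
  have hdvd : (P ⊔ N).index ∣ N.index := Subgroup.index_dvd_of_le le_sup_right
  rw [hk] at hdvd
  obtain ⟨j, -, hj⟩ := (Nat.dvd_prime_pow hp).mp hdvd
  have hj0 : j = 0 := by
    by_contra hne
    apply h1
    rw [hj]
    exact dvd_pow_self p hne
  rw [hj0, pow_zero] at hj
  rw [sup_comm]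
  exact Subgroup.index_eq_one.mp hj

end Cfsg.Agent.Lib.Helper24.PIF12
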