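/-
helper24: the principal block over a normal subgroup containing all `p`-regular elements
(e.g. a normal subgroup of `p`-power index): every irreducible character lying over a member of
the principal block of `N` lies in the principal block of `G`.
-/
import Mathlib
import Cfsg.Agent.Lib.Lead.OddIndexBlock
import Cfsg.Agent.Lib.Helper6.Osima2

set_option autoImplicit false

namespace Cfsg.Agent.Lib.Helper24

open Cfsg Cfsg.Agent.CharLib Cfsg.Agent.Lib.Helper6
open scoped ComplexConjugate

universe u

section
variable {G : Type u} [Group G] [Fintype G] (N : Subgroup G) [hN : N.Normal] [Fintype N]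

/-- If `N` is a normal subgroup containing all `p`-regular elements of `G`, then every
irreducible character of `G` lying over a member of the principal block of `N` belongs to the
principal block of `G`. -/
theorem mem_principalBlock_of_over_of_regular_le {M : Ideal AlgInt} {p : ℕ} [hpp : Fact p.Prime]
    (hM : IsPModular p M) (hreg : ∀ g : G, ¬ p ∣ orderOf g → g ∈ N)
    (χ : IrrCharacter G) (θ : IrrCharacter N)
    (hover : classInner (fun n : N => (χ : G → ℂ) n) (θ : N → ℂ) ≠ 0)
    (hθ : θ ∈ principalBlock M N) : χ ∈ principalBlock M G := by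
  classical
  have hp : M.IsPrime := isPrime_of_isPModular hM
  have hM1 := one_not_mem_of_isPModular hM
  have hBG : principalBlock M G = blockOf M ((trivIrr G : IrrCharacter G) : G → ℂ) := rfl
  set b := blockCoeff (principalBlock M G) with hb
  have hbcls : IsClassFunction G b := blockCoeff_isClassFunction _
  have hb0 : ∀ g : G, g ∉ N → b g = 0 := by
    intro g hg
    have hdvd : p ∣ orderOf g := by
      by_contra h
      exact hg (hreg g h)
    rw [hb, hBG]
    exact blockCoeff_eq_zero_of_dvd_orderOf hM (trivIrr G) g hdvd
  set a : N → ℂ := fun n => b (n : G) with ha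
  have hainv : ∀ (g : G) (n : N), a (conjN N g n) = a n := by
    intro g n
    exact hbcls (n : G) g
  have hext : extN N a = b := by
    funext g
    by_cases hg : g ∈ N
    · exact extN_apply_mem N a ⟨g, hg⟩
    · rw [extN_apply_not_mem N a hg, hb0 g hg]
  have haR : ∀ n : N, MemLocalRing M (a n) := by
    intro n
    rw [ha, hb, hBG]
    exact memLocalRing_blockCoeff_blockOf (trivIrr G) (n : G)
  have hacls : IsClassFunction N a := by
    intro n h
    exact hainv (h : G) n
  -- central characters on `b`
  have hR : ∀ (ψ : IrrCharacter G) (η : IrrCharacter N),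
      classInner (fun n : N => (ψ : G → ℂ) n) (η : N → ℂ) ≠ 0 →
      omegaFun (ψ : G → ℂ) b = omegaFun (η : N → ℂ) a := by
    intro ψ η hov
    rw [← hext, omegaFun_extN, omega_restrict_eq N ψ.2 η.2 hov a hainv]
    rfl
  have h11 : classInner (fun n : N => ((trivIrr G : IrrCharacter G) : G → ℂ) n)
      ((trivIrr N : IrrCharacter N) : N → ℂ) ≠ 0 := by
    have := classInner_irr (trivIrr N).2 (trivIrr N).2
    rw [if_pos rfl] at this
    have h2 : (fun n : N => ((trivIrr G : IrrCharacter G) : G → ℂ) n) =
        ((trivIrr N : IrrCharacter N) : N → ℂ) := rfl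
    rw [h2, this]
    exact one_ne_zero
  have h1G : trivIrr G ∈ principalBlock M G := by
    intro g
    change MemLocalIdeal M (centralChar ((trivIrr G : IrrCharacter G) : G → ℂ) g -
      centralChar ((trivIrr G : IrrCharacter G) : G → ℂ) g)
    rw [sub_self]
    exact memLocalIdeal_zero hM1
  have e1 : omegaFun ((trivIrr N : IrrCharacter N) : N → ℂ) a = 1 := by
    rw [← hR (trivIrr G) (trivIrr N) h11, hb, omegaFun_blockCoeff, if_pos h1G]
  have e2 : omegaFun (θ : N → ℂ) a = if χ ∈ principalBlock M G then 1 else 0 := by
    rw [← hR χ θ hover, hb, omegaFun_blockCoeff]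
  have hθ' : ∀ n, MemLocalIdeal M (centralChar ((trivIrr N : IrrCharacter N) : N → ℂ) n -
      centralChar (θ : N → ℂ) n) := hθ
  have key := memLocalIdeal_omegaFun_sub (M := M) (trivIrr N) θ hθ' hacls haR
  by_contra hχ
  rw [e1, e2, if_neg hχ, sub_zero] at key
  exact not_memLocalIdeal_one key

end

end Cfsg.Agent.Lib.Helper24
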