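/-
helper24: S4581 leaf (AQ) for helper5's plan: `AllOddReal` passes to quotients (inflation).
-/
import Mathlib
import Cfsg.Prelude.Def_Blocks
import Cfsg.Agent.Lib.Helper6.Clifford
import Cfsg.Agent.Lib.Helper5.RODefs
import Cfsg.Agent.Lib.Lead.CharMore

set_option autoImplicit false

namespace Cfsg.Agent.Lib.Helper24.RO

open Cfsg Cfsg.Agent.CharLib Cfsg.Agent.Lib.Helper6 Cfsg.Agent.Lib.Helper5.RO

universe u

/-- inflation of an irreducible character from a quotient (local copy, light imports) -/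
theorem isIrrCharacter_inflateRO {X : Type u} [Group X] (V : Subgroup X) [V.Normal]
    {ψ : X ⧸ V → ℂ} (hψ : IsIrrCharacter (X ⧸ V) ψ) :
    IsIrrCharacter X (fun x => ψ (QuotientGroup.mk' V x)) := by
  obtain ⟨m, ρ', hirr', hρ'⟩ := hψ
  refine ⟨m, MonoidHom.comp ρ' (QuotientGroup.mk' V),
    isIrreducible_comp_of_surjective ρ' hirr' _ (QuotientGroup.mk'_surjective _), ?_⟩
  funext x
  rw [← hρ']
  rfl

/-- (AQ) the hypothesis passes to quotients (inflation). -/
theorem allOddReal_quotient {G : Type u} [Group G] [Finite G] (K : Subgroup G) [K.Normal]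
    (h : AllOddReal G) : AllOddReal (G ⧸ K) := by
  intro χ hodd x
  obtain ⟨g, rfl⟩ := QuotientGroup.mk'_surjective K x
  let χ' : IrrCharacter G := ⟨fun y => (χ : G ⧸ K → ℂ) (QuotientGroup.mk' K y),
    isIrrCharacter_inflateRO K χ.2⟩
  have hdeg : charDegree (χ' : G → ℂ) = charDegree (χ : G ⧸ K → ℂ) := by
    unfold charDegree
    change ⌊((χ : G ⧸ K → ℂ) (QuotientGroup.mk' K 1)).re⌋₊ = _
    rw [map_one]
  exact h χ' (hdeg ▸ hodd) g

end Cfsg.Agent.Lib.Helper24.RO
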