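/-
helper24: S4581 leaf (TOP) for helper5's plan: if the Sylow 2-subgroup is normal, the count of real
odd-degree irreducible characters of `G` and of `N_G(P) = ⊤` agree (transport along `⊤ ≃* G`).
Also `rcount_congr`: `rcount` is invariant under isomorphism.
-/
import Mathlib
import Cfsg.Prelude.Def_Blocks
import Cfsg.Agent.Lib.Helper6.Clifford
import Cfsg.Agent.Lib.Helper5.RODefs
import Cfsg.Agent.Lib.Lead.CharMore

set_option autoImplicit false

namespace Cfsg.Agent.Lib.Helper24.RO

open Cfsg Cfsg.Agent.CharLib Cfsg.Agent.Lib.Helper6 Cfsg.Agent.Lib.Helper5.RO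

universe u

/-- transport of irreducible characters along an isomorphism (local copy, same universe) -/
noncomputable def irrCongrRO {A B : Type u} [Group A] [Group B] (e : A ≃* B) :
    IrrCharacter B ≃ IrrCharacter A where
  toFun χ := ⟨(χ : B → ℂ) ∘ e, IsIrrCharacter.comp_mulEquiv χ.2 e⟩
  invFun χ := ⟨(χ : A → ℂ) ∘ e.symm, IsIrrCharacter.comp_mulEquiv χ.2 e.symm⟩
  left_inv χ := by
    apply Subtype.ext
    funext x
    simp
  right_inv χ := by
    apply Subtype.ext
    funext x
    simp

theorem irrCongrRO_apply {A B : Type u} [Group A] [Group B] (e : A ≃* B) (χ : IrrCharacter B)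
    (a : A) : ((irrCongrRO e χ : IrrCharacter A) : A → ℂ) a = (χ : B → ℂ) (e a) := rfl

/-- `rcount` is invariant under isomorphism. -/
theorem rcount_congr {A B : Type u} [Group A] [Group B] (e : A ≃* B) : rcount B = rcount A := by
  unfold rcount
  apply Nat.card_congr
  apply Equiv.subtypeEquiv (irrCongrRO e)
  intro χ
  have h1 : charDegree ((irrCongrRO e χ : IrrCharacter A) : A → ℂ) = charDegree (χ : B → ℂ) := by
    unfold charDegree
    rw [irrCongrRO_apply, map_one]
  rw [h1]
  constructor
  · rintro ⟨h, h2⟩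
    refine ⟨fun g => ?_, h2⟩
    rw [irrCongrRO_apply]
    exact h (e g)
  · rintro ⟨h, h2⟩
    refine ⟨fun g => ?_, h2⟩
    have := h (e.symm g)
    rw [irrCongrRO_apply, MulEquiv.apply_symm_apply] at this
    exact this

theorem rcount_eq_of_eq_top {G : Type u} [Group G] (N : Subgroup G) (h : N = ⊤) :
    rcount G = rcount ↥N := by
  subst h
  exact rcount_congr (Subgroup.topEquiv : ↥(⊤ : Subgroup G) ≃* G)

/-- (TOP) trivial case `P ⊴ G`. -/
theorem rcount_normalizer_of_eq_top {G : Type u} [Group G] [Finite G] (P : Sylow 2 G)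
    (h : Subgroup.normalizer ((P : Subgroup G) : Set G) = ⊤) :
    rcount G = rcount ↥(Subgroup.normalizer ((P : Subgroup G) : Set G)) :=
  rcount_eq_of_eq_top _ h

end Cfsg.Agent.Lib.Helper24.RO
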