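/-
Helper24 library (S4751): characters taking unit values off the identity of a subgroup.
-/
import Mathlib
import Cfsg.Prelude.Def_Characters
import Cfsg.Agent.Lib.Lead.CharOrtho
import Cfsg.Agent.Lib.Lead.CharEquiv
import Cfsg.Agent.Lib.Helper6.Clifford
import Cfsg.Agent.Lib.Helper6.CliffordCorr
import Cfsg.Agent.Lib.Helper10.AbelianRestrict

set_option autoImplicit false
set_option linter.unusedSectionVars false

namespace Cfsg.Agent.Lib.Helper24.RootChar

open Cfsg Cfsg.Agent.CharLib Cfsg.Agent.Lib.Helper6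
open scoped ComplexConjugate

universe u
variable {G : Type u} [Group G] [Fintype G]

/-- self inner product of the restriction of a function with unit values off the identity. -/
theorem classInner_self_of_unit (T : Subgroup G) [Fintype T] (χ : G → ℂ) (n : ℕ) (hn : χ 1 = n)
    (hunit : ∀ x : T, x ≠ 1 → ‖χ x‖ = 1) :
    classInner (resFun T χ) (resFun T χ) =
      (Nat.card T : ℂ)⁻¹ * ((n : ℂ) ^ 2 + ((Nat.card T : ℂ) - 1)) := by
  classical
  unfold classInner
  congr 1
  rw [← Finset.add_sum_erase Finset.univ _ (Finset.mem_univ (1 : T))]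
  congr 1
  · rw [resFun_apply, Subgroup.coe_one, hn, Complex.conj_natCast]
    ring
  · have h1 : ∀ x ∈ (Finset.univ : Finset T).erase 1, resFun T χ x * conj (resFun T χ x) = 1 := by
      intro x hx
      have hx1 : x ≠ 1 := (Finset.mem_erase.mp hx).1
      rw [resFun_apply, Complex.mul_conj, Complex.normSq_eq_norm_sq, hunit x hx1]
      simp
    rw [Finset.sum_congr rfl h1, Finset.sum_const, Finset.card_erase_of_mem (Finset.mem_univ _),
      Finset.card_univ, Nat.card_eq_fintype_card, nsmul_eq_mul, mul_one,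
      Nat.cast_sub Fintype.card_pos, Nat.cast_one]

/-- a subgroup on whose non-identity elements a character has unit values has order dividing
`χ(1)² - 1`. -/
theorem card_dvd_of_unit (T : Subgroup G) [Fintype T] {χ : G → ℂ} (hχ : IsCharacter G χ) (n : ℕ)
    (hn : χ 1 = n) (hn1 : 1 ≤ n) (hunit : ∀ x : T, x ≠ 1 → ‖χ x‖ = 1) :
    Nat.card T ∣ n ^ 2 - 1 := by
  have hres : IsCharacter T (resFun T χ) := isCharacter_resFun T hχ
  obtain ⟨m, hm⟩ := IsCharacter.classInner_nat hres hres
  rw [classInner_self_of_unit T χ n hn hunit] at hm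
  have hpos : 0 < Nat.card T := Nat.card_pos
  have hne : (Nat.card T : ℂ) ≠ 0 := by exact_mod_cast hpos.ne'
  have h1 : ((n ^ 2 + (Nat.card T - 1) : ℕ) : ℂ) = ((m * Nat.card T : ℕ) : ℂ) := by
    rw [Nat.cast_add, Nat.cast_pow, Nat.cast_sub hpos, Nat.cast_one, Nat.cast_mul, ← hm]
    field_simp
  have h2 : n ^ 2 + (Nat.card T - 1) = m * Nat.card T := by exact_mod_cast h1
  have h3 : 1 ≤ n ^ 2 := Nat.one_le_pow _ _ hn1
  have h4 : (n ^ 2 - 1) + Nat.card T = m * Nat.card T := by omega
  have h5 : Nat.card T ∣ (n ^ 2 - 1) + Nat.card T := ⟨m, by rw [h4, mul_comm]⟩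
  exact (Nat.dvd_add_left (dvd_refl _)).mp h5

/-- arithmetic behind the abelian case. -/
theorem arith_abelian (a e t n : ℕ) (hnet : n = e * t) (h : a * e ^ 2 * t = n ^ 2 + (a - 1))
    (ha : 2 ≤ a) (hn : 2 ≤ n) : n + 1 = a := by
  subst hnet
  have he : 1 ≤ e := by
    rcases Nat.eq_zero_or_pos e with h0 | h0
    · subst h0; simp at hn
    · exact h0
  have ht : 1 ≤ t := by
    rcases Nat.eq_zero_or_pos t with h0 | h0
    · subst h0; simp at hn
    · exact h0
  -- a e n + 1 = n² + a
  obtain ⟨b, rfl⟩ : ∃ b, a = b + 1 := ⟨a - 1, by omega⟩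
  simp only [Nat.add_sub_cancel] at h
  -- (b+1) e² t = e² t² + b
  have hb : 1 ≤ b := by omega
  -- e * t divides b
  have h1 : (b + 1) * e ^ 2 * t = e * t * ((b + 1) * e) := by ring
  have h2 : (e * t) ^ 2 = e * t * (e * t) := by ring
  have hdvd : e * t ∣ b := by
    have : e * t ∣ (e * t) ^ 2 + b := ⟨(b + 1) * e, by rw [← h, h1]⟩
    rw [h2] at this
    exact (Nat.dvd_add_right ⟨e * t, rfl⟩).mp this
  obtain ⟨c, rfl⟩ := hdvd
  have hc : 1 ≤ c := by
    rcases Nat.eq_zero_or_pos c with h0 | h0
    · subst h0; simp at hb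
    · exact h0
  -- (e t c + 1) e = e t + c
  have h3 : (e * t * c + 1) * e = e * t + c := by
    have h4 : e * t * ((e * t * c + 1) * e) = e * t * (e * t + c) := by
      rw [← h1, h, h2]; ring
    exact Nat.eq_of_mul_eq_mul_left (by positivity) h4
  have he1 : e = 1 := by
    by_contra hne
    have he2 : 2 ≤ e := by omega
    have h5 : (e * t * c + 1) * 2 ≤ (e * t * c + 1) * e := Nat.mul_le_mul_left _ he2
    have h6 : e * t ≤ e * t * c := Nat.le_mul_of_pos_right _ hc
    have h7 : c ≤ e * t * c := by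
      calc c = 1 * c := (one_mul c).symm
        _ ≤ (e * t) * c := Nat.mul_le_mul_right _ (by nlinarith)
    omega
  subst he1
  simp only [one_mul, mul_one] at h3 hn ⊢
  -- t c + 1 = t + c → (t-1)(c-1) = 0
  have hc1 : c = 1 := by
    by_contra hne
    have hc2 : 2 ≤ c := by omega
    have : t * c + 1 > t + c := by nlinarith
    omega
  subst hc1
  simp

/-- **abelian normal subgroups**: if an irreducible character of degree `n ≥ 2` has unit values on the
non-identity elements of a non-trivial abelian normal subgroup `A`, then `|A| = n + 1`. -/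
theorem card_abelian_normal_of_unit (A : Subgroup G) [A.Normal] [Fintype A]
    (hab : ∀ a b : A, a * b = b * a) (hA : 2 ≤ Nat.card A) {χ : G → ℂ} (hχ : IsIrrCharacter G χ)
    (n : ℕ) (hn : χ 1 = n) (hn2 : 2 ≤ n) (hunit : ∀ x : A, x ≠ 1 → ‖χ x‖ = 1) :
    n + 1 = Nat.card A := by
  classical
  have hχc : IsCharacter G χ := IsIrrCharacter.isCharacter hχ
  have hcls : IsClassFunction G χ := IsCharacter.isClassFunction hχc
  have hres : IsCharacter A (resFun A χ) := isCharacter_resFun A hχc
  have hne : resFun A χ ≠ 0 := by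
    intro h
    have h1 := congrFun h 1
    rw [resFun_apply, Subgroup.coe_one, hn] at h1
    have : (n : ℂ) = 0 := h1
    have : n = 0 := by exact_mod_cast this
    omega
  obtain ⟨θ, hθ, hθne⟩ := IsCharacter.exists_constituent hres hne
  obtain ⟨e, he⟩ := IsCharacter.classInner_nat hres (IsIrrCharacter.isCharacter hθ)
  have hcl := clifford A hχ hθ hθne
  have hdeg := clifford_degree A hχ hθ hθne
  have hθ1 : θ 1 = 1 := Cfsg.Agent.Lib.Helper10.irr_one_of_comm hab hθ
  set t := (conjOrbit A θ).card with ht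
  rw [he, hθ1, mul_one, hn] at hdeg
  have hnet : n = e * t := by exact_mod_cast hdeg
  -- the self inner product
  have hself : classInner (resFun A χ) (resFun A χ) = ((e ^ 2 * t : ℕ) : ℂ) := by
    conv_lhs => arg 1; rw [hcl]
    rw [classInner_smul_left, classInner_sum_left, he]
    have h1 : ∀ ψ ∈ conjOrbit A θ, classInner ψ (resFun A χ) = (e : ℂ) := by
      intro ψ hψ
      obtain ⟨g, rfl⟩ := (mem_conjOrbit A).mp hψ
      rw [← classInner_conj_symm, classInner_resFun_conjFun A hcls, he, Complex.conj_natCast]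
    rw [Finset.sum_congr rfl h1, Finset.sum_const, nsmul_eq_mul]
    push_cast
    ring
  rw [classInner_self_of_unit A χ n hn hunit] at hself
  have hpos : 0 < Nat.card A := Nat.card_pos
  have hneA : (Nat.card A : ℂ) ≠ 0 := by exact_mod_cast hpos.ne'
  have h1 : ((Nat.card A * e ^ 2 * t : ℕ) : ℂ) = ((n ^ 2 + (Nat.card A - 1) : ℕ) : ℂ) := by
    rw [Nat.cast_add, Nat.cast_pow, Nat.cast_sub hpos, Nat.cast_one, mul_assoc, Nat.cast_mul, ← hself]
    field_simp
  have h2 : Nat.card A * e ^ 2 * t = n ^ 2 + (Nat.card A - 1) := by exact_mod_cast h1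
  exact arith_abelian (Nat.card A) e t n hnet h2 hA hn2

end Cfsg.Agent.Lib.Helper24.RootChar
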