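/-
Helper24 library (S4751): faithful irreducible characters with unit values on a normal subgroup.
-/
import Mathlib
import Cfsg.Agent.Lib.Helper24.RootA
import Cfsg.Agent.Lib.Helper6.LinChar

set_option autoImplicit false
set_option linter.unusedSectionVars false

namespace Cfsg.Agent.Lib.Helper24.RootChar

open Cfsg Cfsg.Agent.CharLib Cfsg.Agent.Lib.Helper6
open scoped ComplexConjugate

universe u
variable {G : Type u} [Group G] [Fintype G]

theorem isIrrCharacter_one (P : Type u) [Group P] : IsIrrCharacter P (fun _ : P => (1 : ℂ)) := by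
  have := isIrrCharacter_of_hom (1 : P →* ℂˣ)
  simpa using this

/-- a faithful irreducible character has no trivial constituent on a non-trivial normal subgroup. -/
theorem sum_eq_zero_of_faithful (P : Subgroup G) [P.Normal] [Fintype P] (hP : P ≠ ⊥) {χ : G → ℂ}
    (hχ : IsIrrCharacter G χ) (hfaith : ∀ g : G, χ g = χ 1 → g = 1) : ∑ x : P, χ x = 0 := by
  classical
  by_contra hne
  have h1irr := isIrrCharacter_one P
  have hin : classInner (resFun P χ) (fun _ : P => (1 : ℂ)) ≠ 0 := by
    unfold classInner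
    have hpos : 0 < Nat.card P := Nat.card_pos
    have hneP : (Nat.card P : ℂ) ≠ 0 := by exact_mod_cast hpos.ne'
    apply mul_ne_zero (inv_ne_zero hneP)
    simpa [resFun_apply] using hne
  have hcl := clifford_of_invariant P hχ h1irr hin (fun g => rfl)
  apply hP
  rw [Subgroup.eq_bot_iff_forall]
  intro x hx
  apply hfaith
  have h1 := congrFun hcl ⟨x, hx⟩
  have h2 := congrFun hcl 1
  rw [resFun_apply] at h1 h2
  rw [Subgroup.coe_one] at h2
  show χ x = χ 1
  rw [show χ x = χ ((⟨x, hx⟩ : P) : G) from rfl, h1, h2]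
  rfl

/-- if moreover the values on `P ∖ 1` are units and `|P| = χ(1) + 1` then they are all `-1`. -/
theorem apply_eq_neg_one (P : Subgroup G) [Fintype P] {χ : G → ℂ} (n : ℕ) (hn : χ 1 = n)
    (hcard : n + 1 = Nat.card P) (hsum : ∑ x : P, χ x = 0)
    (hunit : ∀ x : P, x ≠ 1 → ‖χ x‖ = 1) (x : P) (hx : x ≠ 1) : χ x = -1 := by
  classical
  have h1 : ∑ i : {y : P // y ≠ 1}, χ (i : P) = -(n : ℂ) := by
    have h2 := Finset.add_sum_erase Finset.univ (fun y : P => χ y) (Finset.mem_univ (1 : P))
    rw [hsum, Subgroup.coe_one, hn] at h2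
    have h3 : ∑ i : {y : P // y ≠ 1}, χ (i : P) = ∑ y ∈ (Finset.univ : Finset P).erase 1, χ y := by
      rw [← Finset.sum_subtype (p := fun y : P => y ≠ 1) ((Finset.univ : Finset P).erase 1)
        (fun y => by simp) (fun y : P => χ y)]
    rw [h3]
    linear_combination h2
  have hcardι : Fintype.card {y : P // y ≠ 1} = n := by
    rw [Fintype.card_subtype_compl, Fintype.card_subtype_eq, ← Nat.card_eq_fintype_card, ← hcard]
    simp
  obtain ⟨ω, _, hω⟩ := all_eq_of_norm_sum_eq_card (fun i : {y : P // y ≠ 1} => χ (i : P))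
    (fun i => hunit i.1 i.2) (by rw [h1, norm_neg, Complex.norm_natCast, hcardι])
  have h4 : (n : ℂ) * ω = -(n : ℂ) := by
    rw [← h1, Finset.sum_congr rfl (fun i _ => hω i), Finset.sum_const, Finset.card_univ, hcardι,
      nsmul_eq_mul]
  have hn0 : (n : ℂ) ≠ 0 := by
    intro h0
    have hn0' : n = 0 := by exact_mod_cast h0
    have : Nat.card P = 1 := by omega
    have hx' := (Nat.card_eq_one_iff_unique.mp this).1
    exact hx (Subsingleton.elim _ _)
  have h5 : ω = -1 := by
    have : (n : ℂ) * ω = (n : ℂ) * (-1) := by rw [h4]; ring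
    exact mul_left_cancel₀ hn0 this
  rw [← h5]
  exact hω ⟨x, hx⟩

/-- multiplicity of a non-principal linear character in `χ_P` when `χ = -1` off the identity. -/
theorem classInner_res_linear (P : Subgroup G) [Fintype P] {χ : G → ℂ} (n : ℕ) (hn : χ 1 = n)
    (hcard : n + 1 = Nat.card P) (hval : ∀ x : P, x ≠ 1 → χ x = -1)
    {lam : P → ℂ} (hlam : IsCharacter P lam) (hlam1 : lam 1 = 1) (hne : lam ≠ fun _ => (1 : ℂ)) :
    classInner (resFun P χ) lam = 1 := by
  classical
  have hlamirr : IsIrrCharacter P lam := IsCharacter.isIrrCharacter_of_apply_one hlam hlam1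
  have h0 : classInner (fun _ : P => (1 : ℂ)) lam = 0 := by
    rw [classInner_irr (isIrrCharacter_one P) hlamirr, if_neg (fun h => hne h.symm)]
  have hdec : resFun P χ = (((n : ℂ) + 1) • fun y : P => if y = 1 then (1 : ℂ) else 0) -
      fun _ : P => (1 : ℂ) := by
    funext y
    rw [resFun_apply, Pi.sub_apply, Pi.smul_apply, smul_eq_mul]
    by_cases hy : y = 1
    · rw [if_pos hy, hy, Subgroup.coe_one, hn]; ring
    · rw [if_neg hy, hval y hy]; ring
  rw [hdec, classInner_sub_left, classInner_smul_left, h0, sub_zero]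
  unfold classInner
  rw [Finset.sum_eq_single (1 : P)]
  · simp only [if_true]
    rw [hlam1, map_one, mul_one, ← hcard]
    have : ((n + 1 : ℕ) : ℂ) ≠ 0 := by exact_mod_cast Nat.succ_ne_zero n
    push_cast at this ⊢
    field_simp
  · intro b _ hb
    simp only [if_neg hb, zero_mul]
  · intro h; exact absurd (Finset.mem_univ _) h

end Cfsg.Agent.Lib.Helper24.RootChar
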