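/-
Helper24 library: twisted fixed-point character.  For a subgroup `K`, a homomorphism `lam : K →* ℂˣ`
invariant under a group `N` normalizing `K`, the function `n ↦ |K|⁻¹ ∑_{h ∈ K} (lam h)⁻¹ χ (φ n * h)`
is a character of `N` (the character of `N` on the `lam`-isotypic part).
-/
import Mathlib
import Cfsg.Prelude.Def_Characters
import Cfsg.Agent.Lib.Lead.CharBasic
import Cfsg.Agent.Lib.Helper24.FixChar

set_option autoImplicit false
set_option linter.unusedSectionVars false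

namespace Cfsg.Agent.Lib.Helper24.RootTw

open Cfsg Module

variable {G : Type*} [Group G]

/-- the character of the `lam`-isotypic part of a subgroup `K`, as a character of any group `N` mapping
to `G`, normalizing `K` and fixing `lam`. -/
theorem isCharacter_twAvg {N : Type*} [Group N] (φ : N →* G) (K : Subgroup G) [Fintype K]
    (hK : ∀ n : N, ∀ h ∈ K, φ n * h * (φ n)⁻¹ ∈ K) (lam : K →* ℂˣ)
    (hlam : ∀ (n : N) (h : K) (hh : φ n * (h : G) * (φ n)⁻¹ ∈ K), lam ⟨_, hh⟩ = lam h)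
    (χ : G → ℂ) (hχ : IsCharacter G χ) :
    IsCharacter N (fun n => (Fintype.card K : ℂ)⁻¹ *
      ∑ h : K, (((lam h)⁻¹ : ℂˣ) : ℂ) * χ (φ n * (h : G))) := by
  obtain ⟨d, ρ, rfl⟩ := hχ
  have hcard : (Fintype.card K : ℂ) ≠ 0 := by
    have : 0 < Fintype.card K := Fintype.card_pos
    exact_mod_cast this.ne'
  -- the isotypic space
  let W : Submodule ℂ (Fin d → ℂ) :=
    { carrier := {v | ∀ h : K, ρ (h : G) v = ((lam h : ℂˣ) : ℂ) • v}
      add_mem' := by
        intro a b ha hb h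
        rw [map_add, ha h, hb h, smul_add]
      zero_mem' := by
        intro h
        rw [map_zero, smul_zero]
      smul_mem' := by
        intro c v hv h
        rw [map_smul, hv h, smul_comm] }
  have hmemW : ∀ v, v ∈ W ↔ ∀ h : K, ρ (h : G) v = ((lam h : ℂˣ) : ℂ) • v := fun v => Iff.rfl
  -- the projection
  let e : (Fin d → ℂ) →ₗ[ℂ] (Fin d → ℂ) :=
    (Fintype.card K : ℂ)⁻¹ • ∑ h : K, (((lam h)⁻¹ : ℂˣ) : ℂ) • ρ (h : G)
  have he : LinearMap.IsProj W e := by
    constructor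
    · intro v
      rw [hmemW]
      intro h'
      show ρ (h' : G) (((Fintype.card K : ℂ)⁻¹ • ∑ h : K, (((lam h)⁻¹ : ℂˣ) : ℂ) • ρ (h : G)) v) =
        ((lam h' : ℂˣ) : ℂ) • (((Fintype.card K : ℂ)⁻¹ • ∑ h : K, (((lam h)⁻¹ : ℂˣ) : ℂ) • ρ (h : G)) v)
      have key : ∀ h : K, (ρ (h' : G)) (((((lam h)⁻¹ : ℂˣ) : ℂ) • ρ (h : G)) v) =
          ((lam h' : ℂˣ) : ℂ) • (((((lam (h' * h))⁻¹ : ℂˣ) : ℂ) • ρ ((h' * h : K) : G)) v) := by
        intro h
        have hs : (((lam h)⁻¹ : ℂˣ) : ℂ) = ((lam h' : ℂˣ) : ℂ) * (((lam (h' * h))⁻¹ : ℂˣ) : ℂ) := by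
          rw [← Units.val_mul]
          congr 1
          rw [map_mul, mul_inv_rev, mul_comm ((lam h)⁻¹), mul_inv_cancel_left]
        have hr : ρ ((h' * h : K) : G) v = ρ (h' : G) (ρ (h : G) v) := by
          rw [Subgroup.coe_mul, map_mul]
          rfl
        rw [LinearMap.smul_apply, LinearMap.smul_apply, map_smul, smul_smul, hr, ← hs]
      rw [LinearMap.smul_apply, LinearMap.sum_apply, map_smul, map_sum, smul_comm]
      congr 1
      rw [Finset.smul_sum, ← Equiv.sum_comp (Equiv.mulLeft h')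
        (fun h : K => ((lam h' : ℂˣ) : ℂ) • ((((lam h)⁻¹ : ℂˣ) : ℂ) • ρ (h : G)) v)]
      apply Finset.sum_congr rfl
      intro h _
      rw [Equiv.coe_mulLeft]
      exact key h
    · intro v hv
      rw [hmemW] at hv
      show ((Fintype.card K : ℂ)⁻¹ • ∑ h : K, (((lam h)⁻¹ : ℂˣ) : ℂ) • ρ (h : G)) v = v
      rw [LinearMap.smul_apply, LinearMap.sum_apply]
      have : ∀ h ∈ (Finset.univ : Finset K), ((((lam h)⁻¹ : ℂˣ) : ℂ) • ρ (h : G)) v = v := by
        intro h _
        rw [LinearMap.smul_apply, hv h, smul_smul, ← Units.val_mul, inv_mul_cancel, Units.val_one,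
          one_smul]
      rw [Finset.sum_congr rfl this,
        Finset.sum_const, Finset.card_univ, ← Nat.cast_smul_eq_nsmul ℂ, smul_smul, inv_mul_cancel₀ hcard,
        one_smul]
  -- invariance of the isotypic space under `N`
  have hW : ∀ n : N, ∀ w ∈ W, ρ (φ n) w ∈ W := by
    intro n w hw
    rw [hmemW] at hw ⊢
    intro h
    have h1 : (φ n)⁻¹ * (h : G) * φ n ∈ K := by
      have := hK n⁻¹ h h.2
      rwa [map_inv, inv_inv] at this
    have h2 : (h : G) * φ n = φ n * ((φ n)⁻¹ * (h : G) * φ n) := by group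
    rw [← Module.End.mul_apply, ← map_mul, h2, map_mul, Module.End.mul_apply]
    have h3 := hw ⟨_, h1⟩
    rw [h3, map_smul]
    congr 2
    have h4 : φ n * ((⟨_, h1⟩ : K) : G) * (φ n)⁻¹ ∈ K := by
      have : φ n * ((φ n)⁻¹ * (h : G) * φ n) * (φ n)⁻¹ = h := by group
      show φ n * ((φ n)⁻¹ * (h : G) * φ n) * (φ n)⁻¹ ∈ K
      rw [this]; exact h.2
    have h5 := hlam n ⟨_, h1⟩ h4
    rw [← h5]
    congr 1
    apply Subtype.ext
    show φ n * ((φ n)⁻¹ * (h : G) * φ n) * (φ n)⁻¹ = h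
    group
  let σ : Representation ℂ N W :=
    { toFun := fun n => (ρ (φ n)).restrict (hW n)
      map_one' := by
        ext w
        simp
      map_mul' := by
        intro a b
        ext w
        simp }
  have hσ := Cfsg.Agent.CharLib.isCharacter_of_rep σ
  convert hσ using 1
  funext n
  show _ = LinearMap.trace ℂ W ((ρ (φ n)).restrict (hW n))
  rw [Cfsg.Agent.Lib.Helper24.FixChar.trace_restrict_eq W e he (ρ (φ n)) (hW n)]
  show _ = LinearMap.trace ℂ _ (ρ (φ n) ∘ₗ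
    ((Fintype.card K : ℂ)⁻¹ • ∑ h : K, (((lam h)⁻¹ : ℂˣ) : ℂ) • ρ (h : G)))
  rw [LinearMap.comp_smul, map_smul, smul_eq_mul, ← Module.End.mul_eq_comp]
  congr 1
  rw [Finset.mul_sum, map_sum]
  apply Finset.sum_congr rfl
  intro h _
  rw [mul_smul_comm, map_smul, smul_eq_mul, ← map_mul]
  rfl

end Cfsg.Agent.Lib.Helper24.RootTw
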