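/-
Helper24 library (S4751): the sum of `|χ|²` over a coset `g P` of an abelian normal subgroup, in terms of the
`g`-fixed linear characters of `P`, when `χ_P` is multiplicity free.
-/
import Mathlib
import Cfsg.Agent.Lib.Helper24.RootB
import Cfsg.Agent.Lib.Helper24.RootTw
import Cfsg.Agent.Lib.Helper6.CharNorm
import Cfsg.Agent.Lib.Helper13.SLBridge
import Cfsg.Agent.Lib.Lead.CharMain
import Cfsg.Agent.Lib.Lead.CharDecomp

set_option autoImplicit false
set_option linter.unusedSectionVars false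

namespace Cfsg.Agent.Lib.Helper24.RootChar

open Cfsg Cfsg.Agent.CharLib Cfsg.Agent.Lib.Helper6
open scoped ComplexConjugate

universe u

section dual
variable {P : Type u} [Group P] [Finite P]

/-- irreducible characters of an abelian group correspond to homomorphisms to `ℂˣ`. -/
noncomputable def irrEquivHom (hab : ∀ a b : P, a * b = b * a) : IrrCharacter P ≃ (P →* ℂˣ) :=
  (Equiv.subtypeUnivEquiv
    (fun ψ : IrrCharacter P => Cfsg.Agent.Lib.Helper10.irr_one_of_comm hab ψ.2)).symm.trans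
    linIrrEquivHom

theorem irrEquivHom_symm_apply (hab : ∀ a b : P, a * b = b * a) (μ : P →* ℂˣ) (x : P) :
    (((irrEquivHom hab).symm μ : IrrCharacter P) : P → ℂ) x = ((μ x : ℂˣ) : ℂ) := rfl

theorem finite_hom (hab : ∀ a b : P, a * b = b * a) : Finite (P →* ℂˣ) :=
  Finite.of_equiv _ (irrEquivHom hab)

/-- Parseval for class functions. -/
theorem parseval [Fintype P] [Fintype (IrrCharacter P)] {f : P → ℂ} (hf : IsClassFunction P f) :
    classInner f f = ∑ ψ : IrrCharacter P, classInner f (ψ : P → ℂ) * conj (classInner f (ψ : P → ℂ)) := by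
  conv_lhs => arg 1; rw [classFunction_eq_sum hf]
  rw [classInner_sum_left]
  apply Finset.sum_congr rfl
  intro ψ _
  rw [classInner_smul_left, classInner_conj_symm]

end dual

variable {G : Type u} [Group G]

/-- the stabilizer in `G` of a linear character of a normal subgroup. -/
def stabHom (P : Subgroup G) [P.Normal] (μ : P →* ℂˣ) : Subgroup G where
  carrier := {g | ∀ x : P, μ (MulAut.conjNormal g x) = μ x}
  mul_mem' := by
    intro a b ha hb x
    rw [map_mul, MulAut.mul_apply, ha, hb]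
  one_mem' := by
    intro x
    rw [map_one, MulAut.one_apply]
  inv_mem' := by
    intro a ha x
    have := ha (MulAut.conjNormal a⁻¹ x)
    rw [← MulAut.mul_apply, ← map_mul, mul_inv_cancel, map_one, MulAut.one_apply] at this
    exact this.symm

theorem mem_stabHom (P : Subgroup G) [P.Normal] (μ : P →* ℂˣ) (g : G) :
    g ∈ stabHom P μ ↔ ∀ x : P, μ (MulAut.conjNormal g x) = μ x := Iff.rfl

variable [Fintype G]

/-- the `μ`-coefficient of `x ↦ χ (g x)` vanishes when `g` does not fix `μ`. -/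
theorem coeff_eq_zero_of_not_fixed (P : Subgroup G) [P.Normal] [Fintype P]
    (hab : ∀ a b : P, a * b = b * a) {χ : G → ℂ} (hχ : IsClassFunction G χ) (μ : P →* ℂˣ) (g : G)
    (hg : g ∉ stabHom P μ) :
    ∑ x : P, χ (g * x) * conj ((μ x : ℂˣ) : ℂ) = 0 := by
  rw [mem_stabHom] at hg
  push Not at hg
  obtain ⟨y, hy⟩ := hg
  set d : P := y⁻¹ * MulAut.conjNormal g y with hd
  -- invariance of `x ↦ χ (g x)` under translation by `d`
  have hinv : ∀ x : P, χ (g * ((x * d : P) : G)) = χ (g * (x : G)) := by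
    intro x
    have h1 : x * d = y⁻¹ * x * MulAut.conjNormal g y := by
      rw [hd, ← mul_assoc, hab x y⁻¹]
    have h2 : g * ((x * d : P) : G) = (g * y * g⁻¹)⁻¹ * (g * (x : G)) * (g * y * g⁻¹) := by
      rw [h1, Subgroup.coe_mul, Subgroup.coe_mul, MulAut.conjNormal_apply, Subgroup.coe_inv]
      group
    rw [h2]
    have := hχ (g * (x : G)) (g * y * g⁻¹)⁻¹
    rw [inv_inv] at this
    exact this
  have hnorm : ∀ x : P, conj ((μ x : ℂˣ) : ℂ) = (((μ x)⁻¹ : ℂˣ) : ℂ) := by
    intro x
    have h1 := IsCharacter.mul_conj_eq_one_of_apply_one (isCharacter_of_hom μ)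
      (by simp) x
    have h2 : ((μ x : ℂˣ) : ℂ) ≠ 0 := Units.ne_zero _
    rw [Units.val_inv_eq_inv_val]
    field_simp
    rw [mul_comm]
    exact h1
  set S := ∑ x : P, χ (g * x) * conj ((μ x : ℂˣ) : ℂ) with hS
  have hshift : S = (((μ d)⁻¹ : ℂˣ) : ℂ) * S := by
    rw [hS, Finset.mul_sum]
    rw [← Equiv.sum_comp (Equiv.mulRight d)
      (fun x : P => χ (g * (x : G)) * conj ((μ x : ℂˣ) : ℂ))]
    apply Finset.sum_congr rfl
    intro x _
    rw [Equiv.coe_mulRight, hinv x, hnorm, hnorm, map_mul, mul_inv_rev, Units.val_mul]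
    ring
  have hμd : (((μ d)⁻¹ : ℂˣ) : ℂ) ≠ 1 := by
    intro h
    apply hy
    have h1 : (μ d)⁻¹ = 1 := Units.ext h
    rw [inv_eq_one, hd, map_mul, map_inv, inv_mul_eq_one] at h1
    exact h1.symm
  have : (1 - (((μ d)⁻¹ : ℂˣ) : ℂ)) * S = 0 := by linear_combination hshift
  rcases mul_eq_zero.mp this with h | h
  · exact absurd (sub_eq_zero.mp h).symm hμd
  · exact h

theorem conj_hom_apply {P : Type u} [Group P] [Finite P] (μ : P →* ℂˣ) (x : P) :
    conj ((μ x : ℂˣ) : ℂ) = (((μ x)⁻¹ : ℂˣ) : ℂ) := by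
  have h1 := IsCharacter.mul_conj_eq_one_of_apply_one (isCharacter_of_hom μ) (by simp) x
  have h2 : ((μ x : ℂˣ) : ℂ) ≠ 0 := Units.ne_zero _
  rw [Units.val_inv_eq_inv_val]
  field_simp
  rw [mul_comm]
  exact h1

/-- the `μ`-coefficient of `x ↦ χ (g x)` when `g` fixes `μ`: it is the value at `g` of a character of the
stabilizer whose degree is the multiplicity of `μ` in `χ_P`. -/
theorem coeff_of_fixed (P : Subgroup G) [P.Normal] [Fintype P] {χ : G → ℂ} (hχ : IsCharacter G χ)
    (μ : P →* ℂˣ) (g : G) (hg : g ∈ stabHom P μ) :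
    (classInner (resFun P χ) (fun x : P => ((μ x : ℂˣ) : ℂ)) = 0 →
      ∑ x : P, χ (g * x) * conj ((μ x : ℂˣ) : ℂ) = 0) ∧
    (classInner (resFun P χ) (fun x : P => ((μ x : ℂˣ) : ℂ)) = 1 →
      ‖(Nat.card P : ℂ)⁻¹ * ∑ x : P, χ (g * x) * conj ((μ x : ℂˣ) : ℂ)‖ = 1) := by
  have hτ := Cfsg.Agent.Lib.Helper24.RootTw.isCharacter_twAvg (stabHom P μ).subtype P
    (fun n h hh => Subgroup.Normal.conj_mem inferInstance h hh _) μ
    (by
      intro n h hh
      have := (mem_stabHom P μ n).mp n.2 h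
      rw [← this]
      congr 1)
    χ hχ
  set τ : stabHom P μ → ℂ := fun n => (Fintype.card P : ℂ)⁻¹ *
      ∑ h : P, (((μ h)⁻¹ : ℂˣ) : ℂ) * χ ((stabHom P μ).subtype n * (h : G)) with hτdef
  have hτg : τ ⟨g, hg⟩ = (Nat.card P : ℂ)⁻¹ * ∑ x : P, χ (g * x) * conj ((μ x : ℂˣ) : ℂ) := by
    rw [hτdef]
    simp only [Subgroup.subtype_apply, Nat.card_eq_fintype_card]
    congr 1
    apply Finset.sum_congr rfl
    intro x _
    rw [conj_hom_apply, mul_comm]
  have hτ1 : τ 1 = classInner (resFun P χ) (fun x : P => ((μ x : ℂˣ) : ℂ)) := by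
    rw [hτdef]
    unfold classInner
    simp only [map_one, one_mul, Nat.card_eq_fintype_card]
    congr 1
    apply Finset.sum_congr rfl
    intro x _
    rw [conj_hom_apply, mul_comm, resFun_apply]
  have hcard : (Nat.card P : ℂ) ≠ 0 := by
    have : 0 < Nat.card P := Nat.card_pos
    exact_mod_cast this.ne'
  constructor
  · intro h0
    rw [← hτ1] at h0
    have hz := Cfsg.Agent.Lib.Helper13.isCharacter_eq_zero_of_apply_one hτ h0
    have := congrFun hz ⟨g, hg⟩
    rw [hτg] at this
    rcases mul_eq_zero.mp this with h | h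
    · exact absurd (inv_eq_zero.mp h) hcard
    · exact h
  · intro h1
    rw [← hτ1] at h1
    have := IsCharacter.norm_eq_one_of_apply_one hτ h1 ⟨g, hg⟩
    rw [hτg] at this
    exact this

/-- **coset formula**: if `P` is an abelian normal subgroup and `χ_P` contains each non-principal linear
character exactly once and the principal character not at all, then `∑_{x ∈ P} |χ (g x)|²` is `|P|` times the
number of non-principal linear characters of `P` fixed by `g`. -/
theorem sum_coset_normSq (P : Subgroup G) [P.Normal] [Fintype P] (hab : ∀ a b : P, a * b = b * a)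
    {χ : G → ℂ} (hχ : IsCharacter G χ)
    (hmult : ∀ μ : P →* ℂˣ, classInner (resFun P χ) (fun x : P => ((μ x : ℂˣ) : ℂ)) =
      if μ = 1 then 0 else 1) (g : G) :
    ∑ x : P, χ (g * x) * conj (χ (g * x)) =
      (Nat.card P : ℂ) * (Nat.card {μ : P →* ℂˣ // μ ≠ 1 ∧ g ∈ stabHom P μ} : ℂ) := by
  classical
  letI := fintypeIrr P
  set f : P → ℂ := fun x => χ (g * x) with hfdef
  have hf : IsClassFunction P f := by
    intro x h
    show χ (g * ((h * x * h⁻¹ : P) : G)) = χ (g * (x : G))
    rw [hab h x, mul_inv_cancel_right]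
  have hpars := parseval hf
  have hcard : (Nat.card P : ℂ) ≠ 0 := by
    have : 0 < Nat.card P := Nat.card_pos
    exact_mod_cast this.ne'
  have h1 : ∑ x : P, χ (g * x) * conj (χ (g * x)) = (Nat.card P : ℂ) * classInner f f := by
    unfold classInner
    rw [← mul_assoc, mul_inv_cancel₀ hcard, one_mul]
  rw [h1, hpars]
  congr 1
  haveI : Finite (P →* ℂˣ) := finite_hom hab
  letI : Fintype (P →* ℂˣ) := Fintype.ofFinite _
  rw [← Equiv.sum_comp (irrEquivHom hab).symm]
  have hterm : ∀ μ : P →* ℂˣ,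
      classInner f (((irrEquivHom hab).symm μ : IrrCharacter P) : P → ℂ) *
        conj (classInner f (((irrEquivHom hab).symm μ : IrrCharacter P) : P → ℂ)) =
      if (μ ≠ 1 ∧ g ∈ stabHom P μ) then 1 else 0 := by
    intro μ
    have hc : classInner f (((irrEquivHom hab).symm μ : IrrCharacter P) : P → ℂ) =
        (Nat.card P : ℂ)⁻¹ * ∑ x : P, χ (g * x) * conj ((μ x : ℂˣ) : ℂ) := rfl
    rw [hc]
    by_cases hg : g ∈ stabHom P μ
    · by_cases hμ : μ = 1
      · have := (coeff_of_fixed P hχ μ g hg).1 (by rw [hmult, if_pos hμ])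
        rw [this, mul_zero, zero_mul, if_neg (fun h => h.1 hμ)]
      · have := (coeff_of_fixed P hχ μ g hg).2 (by rw [hmult, if_neg hμ])
        rw [Complex.mul_conj, Complex.normSq_eq_norm_sq, this, if_pos ⟨hμ, hg⟩]
        simp
    · have := coeff_eq_zero_of_not_fixed P hab (IsCharacter.isClassFunction hχ) μ g hg
      rw [this, mul_zero, zero_mul, if_neg (fun h => hg h.2)]
  rw [Finset.sum_congr rfl (fun μ _ => hterm μ), Finset.sum_boole, Nat.card_eq_fintype_card,
    Fintype.card_subtype]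

end Cfsg.Agent.Lib.Helper24.RootChar
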