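/-
Helper24 library (S4751): structure of a group with a faithful irreducible character of degree `|P| - 1`
taking the value `-1` on `P ∖ 1` and unit values on `p`-singular elements (`P` abelian normal `p`-subgroup).
-/
import Mathlib
import Cfsg.Agent.Lib.Helper24.RootC
import Cfsg.Agent.Lib.Lead.Blich2
import Cfsg.Agent.Lib.Helper2.FTLemma

set_option autoImplicit false
set_option linter.unusedSectionVars false

namespace Cfsg.Agent.Lib.Helper24.RootChar

open Cfsg Cfsg.Agent.CharLib Cfsg.Agent.Lib.Helper6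
open scoped ComplexConjugate

universe u
variable {G : Type u} [Group G] [Fintype G]

/-- the configuration reached after the first reductions. -/
structure RData (p : ℕ) (P : Subgroup G) (χ : G → ℂ) (n : ℕ) : Prop where
  normal : P.Normal
  irr : IsIrrCharacter G χ
  faith : ∀ g : G, χ g = χ 1 → g = 1
  unit : ∀ g : G, p ∣ orderOf g → ‖χ g‖ = 1
  pgroup : IsPGroup p P
  ab : ∀ a b : P, a * b = b * a
  deg : χ 1 = n
  card : n + 1 = Nat.card P
  two : 2 ≤ n

namespace RData

variable {p : ℕ} [hp : Fact p.Prime] {P : Subgroup G} [Fintype P] {χ : G → ℂ} {n : ℕ}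

theorem dvd_orderOf (h : RData p P χ n) (x : P) (hx : x ≠ 1) : p ∣ orderOf (x : G) := by
  obtain ⟨k, hk⟩ := (IsPGroup.iff_orderOf.mp h.pgroup) x
  rw [Subgroup.orderOf_coe, hk]
  rcases Nat.eq_zero_or_pos k with h0 | h0
  · exfalso
    rw [h0, pow_zero, orderOf_eq_one_iff] at hk
    exact hx hk
  · exact dvd_pow_self p h0.ne'

theorem unit' (h : RData p P χ n) (x : P) (hx : x ≠ 1) : ‖χ x‖ = 1 :=
  h.unit _ (h.dvd_orderOf x hx)

theorem ne_bot (h : RData p P χ n) : P ≠ ⊥ := by
  intro hb
  have := h.card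
  rw [hb, Subgroup.card_bot] at this
  have := h.two
  omega

theorem sum_zero (h : RData p P χ n) : ∑ x : P, χ x = 0 :=
  haveI := h.normal
  sum_eq_zero_of_faithful P h.ne_bot h.irr h.faith

theorem val (h : RData p P χ n) (x : P) (hx : x ≠ 1) : χ x = -1 :=
  apply_eq_neg_one P n h.deg h.card h.sum_zero h.unit' x hx

theorem hmult (h : RData p P χ n) (μ : P →* ℂˣ) :
    classInner (resFun P χ) (fun x : P => ((μ x : ℂˣ) : ℂ)) = if μ = 1 then 0 else 1 := by
  by_cases hμ : μ = 1
  · rw [if_pos hμ, hμ]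
    unfold classInner
    have : ∑ g : P, resFun P χ g * conj (((1 : P →* ℂˣ) g : ℂˣ) : ℂ) = ∑ x : P, χ x := by
      apply Finset.sum_congr rfl
      intro x _
      simp [resFun_apply]
    rw [this, h.sum_zero, mul_zero]
  · rw [if_neg hμ]
    apply classInner_res_linear P n h.deg h.card h.val (isCharacter_of_hom μ) (by simp)
    intro hc
    apply hμ
    ext x
    have := congrFun hc x
    simpa using this

theorem card_hom (h : RData p P χ n) : Nat.card (P →* ℂˣ) = n + 1 := by
  letI : CommGroup P := { (inferInstance : Group P) with mul_comm := h.ab }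
  have hne : NeZero ((Monoid.exponent P : ℕ) : ℂ) :=
    ⟨by exact_mod_cast Monoid.exponent_ne_zero_of_finite⟩
  rw [h.card]
  exact CommGroup.card_monoidHom_of_hasEnoughRootsOfUnity P ℂ

/-- the coset formula in the present situation. -/
theorem coset (h : RData p P χ n) (g : G) :
    ∑ x : P, χ (g * x) * conj (χ (g * x)) =
      ((n : ℂ) + 1) * (Nat.card {μ : P →* ℂˣ // μ ≠ 1 ∧ g ∈ @stabHom G _ P h.normal μ} : ℂ) := by
  haveI := h.normal
  have := sum_coset_normSq P h.ab (IsIrrCharacter.isCharacter h.irr) h.hmult g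
  rw [this, ← h.card]
  push_cast
  rfl

/-- transitivity on the non-principal linear characters. -/
theorem trans (h : RData p P χ n) (lam mu : P → ℂ) (hlam : IsCharacter P lam) (hlam1 : lam 1 = 1)
    (hlamne : lam ≠ fun _ => (1 : ℂ)) (hmu : IsCharacter P mu) (hmu1 : mu 1 = 1)
    (hmune : mu ≠ fun _ => (1 : ℂ)) :
    ∃ g : G, ∀ (x : G) (hx : x ∈ P) (hgx : g * x * g⁻¹ ∈ P), mu ⟨x, hx⟩ = lam ⟨g * x * g⁻¹, hgx⟩ := by
  haveI := h.normal
  have h1 : classInner (resFun P χ) lam ≠ 0 := by
    rw [classInner_res_linear P n h.deg h.card h.val hlam hlam1 hlamne]; exact one_ne_zero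
  have h2 : classInner (resFun P χ) mu ≠ 0 := by
    rw [classInner_res_linear P n h.deg h.card h.val hmu hmu1 hmune]; exact one_ne_zero
  obtain ⟨g, hg⟩ := exists_conjFun_eq_of_constituent P h.irr
    (IsCharacter.isIrrCharacter_of_apply_one hlam hlam1)
    (IsCharacter.isIrrCharacter_of_apply_one hmu hmu1) h1 h2
  refine ⟨g, fun x hx hgx => ?_⟩
  rw [← hg]
  rfl

/-- `P` has exponent `p`. -/
theorem exp (h : RData p P χ n) (x : P) : x ^ p = 1 := by
  by_contra hx
  letI : CommGroup P := { (inferInstance : Group P) with mul_comm := h.ab }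
  have hne : NeZero ((Monoid.exponent P : ℕ) : ℂ) :=
    ⟨by exact_mod_cast Monoid.exponent_ne_zero_of_finite⟩
  obtain ⟨φ, hφ⟩ := CommGroup.exists_apply_ne_one_of_hasEnoughRootsOfUnity P ℂ hx
  have hφ1 : φ ≠ 1 := by
    intro h1
    apply hφ
    rw [h1, MonoidHom.one_apply]
  obtain ⟨k, hk⟩ := IsPGroup.iff_card.mp h.pgroup
  have hpow : φ ^ (p ^ k) = 1 := by
    ext y
    rw [MonoidHom.pow_apply, ← map_pow, ← hk, pow_card_eq_one', map_one, MonoidHom.one_apply]
  have hord : orderOf φ ∣ p ^ k := orderOf_dvd_of_pow_eq_one hpow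
  obtain ⟨j, _, hj⟩ := (Nat.dvd_prime_pow hp.out).mp hord
  have hj1 : j ≠ 0 := by
    intro h0
    rw [h0, pow_zero, orderOf_eq_one_iff] at hj
    exact hφ1 hj
  have hpdvd : p ∣ orderOf φ := by
    rw [hj]; exact dvd_pow_self p hj1
  have hord0 : orderOf φ ≠ 0 := by
    rw [hj]; exact pow_ne_zero _ hp.out.ne_zero
  set ψ := φ ^ (orderOf φ / p) with hψ
  have hψord : orderOf ψ = p := orderOf_pow_orderOf_div hord0 hpdvd
  have hψ1 : ψ ≠ 1 := by
    intro h1
    rw [h1, orderOf_one] at hψord
    exact hp.out.one_lt.ne hψord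
  have hψp : ψ ^ p = 1 := by
    rw [← hψord]; exact pow_orderOf_eq_one ψ
  have hne' : ∀ ν : P →* ℂˣ, ν ≠ 1 → (fun y : P => ((ν y : ℂˣ) : ℂ)) ≠ fun _ => (1 : ℂ) := by
    intro ν hν hc
    apply hν
    ext y
    have := congrFun hc y
    simpa using this
  obtain ⟨g, hg⟩ := h.trans (fun y : P => ((ψ y : ℂˣ) : ℂ)) (fun y : P => ((φ y : ℂˣ) : ℂ))
    (isCharacter_of_hom ψ) (by simp) (hne' ψ hψ1) (isCharacter_of_hom φ) (by simp) (hne' φ hφ1)
  haveI := h.normal
  have hmem : g * ((x ^ p : P) : G) * g⁻¹ ∈ P := Subgroup.Normal.conj_mem inferInstance _ (x ^ p).2 g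
  have h1 := hg ((x ^ p : P) : G) (x ^ p).2 hmem
  have h2 : (⟨g * ((x ^ p : P) : G) * g⁻¹, hmem⟩ : P) = (MulAut.conjNormal g x) ^ p := by
    apply Subtype.ext
    show g * ((x ^ p : P) : G) * g⁻¹ = (((MulAut.conjNormal g x) ^ p : P) : G)
    simp only [Subgroup.coe_pow, MulAut.conjNormal_apply, conj_pow]
  apply hφ
  apply Units.ext
  have h3 : (⟨((x ^ p : P) : G), (x ^ p).2⟩ : P) = x ^ p := rfl
  rw [h3] at h1
  rw [h1, h2, map_pow, ← MonoidHom.pow_apply, hψp, MonoidHom.one_apply]

theorem inf_center (h : RData p P χ n) : P ⊓ Subgroup.center G = ⊥ := by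
  rw [Subgroup.eq_bot_iff_forall]
  intro z hz
  by_contra hz1
  have h1 := h.val ⟨z, hz.1⟩ (fun hc => hz1 (congrArg Subtype.val hc))
  have h2 := Cfsg.Agent.Lib.Helper2.norm_apply_center h.irr hz.2
  rw [show χ z = χ ((⟨z, hz.1⟩ : P) : G) from rfl, h1, h.deg] at h2
  simp at h2
  have := h.two
  have h3 : (n : ℝ) = 1 := h2.symm
  have : n = 1 := by exact_mod_cast h3
  omega

theorem mul_conj_of_norm_one {z : ℂ} (hz : ‖z‖ = 1) : z * conj z = 1 := by
  rw [Complex.mul_conj, Complex.normSq_eq_norm_sq, hz]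
  simp

/-- if all elements of the coset `g P` are `p`-singular then `g` fixes exactly one non-principal linear
character of `P`. -/
theorem card_fixed_of_singular (h : RData p P χ n) (g : G) (hg : ∀ x : P, p ∣ orderOf (g * (x : G))) :
    Nat.card {μ : P →* ℂˣ // μ ≠ 1 ∧ g ∈ @stabHom G _ P h.normal μ} = 1 := by
  have h1 := h.coset g
  have h2 : ∑ x : P, χ (g * x) * conj (χ (g * x)) = ((n : ℂ) + 1) := by
    rw [Finset.sum_congr rfl (fun x _ => mul_conj_of_norm_one (h.unit _ (hg x))), Finset.sum_const,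
      Finset.card_univ, ← Nat.card_eq_fintype_card, ← h.card]
    simp
  rw [h2] at h1
  have hne : ((n : ℂ) + 1) ≠ 0 := by exact_mod_cast Nat.succ_ne_zero n
  have h3 : (1 : ℂ) = (Nat.card {μ : P →* ℂˣ // μ ≠ 1 ∧ g ∈ @stabHom G _ P h.normal μ} : ℂ) := by
    apply mul_left_cancel₀ hne
    rw [mul_one]
    exact h1
  exact_mod_cast h3.symm

theorem mem_stabHom_of_centralizer (h : RData p P χ n) {c : G}
    (hc : c ∈ Subgroup.centralizer (P : Set G)) (μ : P →* ℂˣ) : c ∈ @stabHom G _ P h.normal μ := by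
  haveI := h.normal
  rw [mem_stabHom]
  intro x
  congr 1
  apply Subtype.ext
  rw [MulAut.conjNormal_apply]
  have := (Subgroup.mem_centralizer_iff.mp hc) x x.2
  rw [← this, mul_inv_cancel_right]

theorem card_fixed_of_centralizer (h : RData p P χ n) {c : G}
    (hc : c ∈ Subgroup.centralizer (P : Set G)) :
    Nat.card {μ : P →* ℂˣ // μ ≠ 1 ∧ c ∈ @stabHom G _ P h.normal μ} = n := by
  classical
  haveI : Finite (P →* ℂˣ) := finite_hom h.ab
  letI : Fintype (P →* ℂˣ) := Fintype.ofFinite _
  have h1 : Nat.card {μ : P →* ℂˣ // μ ≠ 1 ∧ c ∈ @stabHom G _ P h.normal μ} =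
      Nat.card {μ : P →* ℂˣ // μ ≠ 1} :=
    Nat.card_congr (Equiv.subtypeEquivRight (fun μ =>
      ⟨fun hh => hh.1, fun hh => ⟨hh, h.mem_stabHom_of_centralizer hc μ⟩⟩))
  rw [h1, Nat.card_eq_fintype_card, Fintype.card_subtype_compl, Fintype.card_subtype_eq,
    ← Nat.card_eq_fintype_card, h.card_hom]
  simp

/-- `C_G(P) = P Z(G)`. -/
theorem centralizer_eq (h : RData p P χ n) :
    Subgroup.centralizer (P : Set G) = P ⊔ Subgroup.center G := by
  classical
  apply le_antisymm
  · intro c hc
    have hcomm : ∀ x : P, (x : G) * c = c * x := fun x => (Subgroup.mem_centralizer_iff.mp hc) x x.2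
    have h1 := h.coset c
    rw [h.card_fixed_of_centralizer hc] at h1
    by_cases hall : ∀ x : P, p ∣ orderOf (c * (x : G))
    · exfalso
      have h2 := h.card_fixed_of_singular c hall
      rw [h.card_fixed_of_centralizer hc] at h2
      have := h.two
      omega
    · push Not at hall
      obtain ⟨x₀, hx₀⟩ := hall
      have huniq : ∀ x : P, x ≠ x₀ → p ∣ orderOf (c * (x : G)) := by
        intro x hx
        by_contra hnd
        have hcm : Commute (c * (x₀ : G))⁻¹ (c * (x : G)) := by
          apply Commute.inv_left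
          show c * (x₀ : G) * (c * (x : G)) = c * (x : G) * (c * (x₀ : G))
          have e1 : (x₀ : G) * (x : G) = (x : G) * (x₀ : G) := by
            have := congrArg Subtype.val (h.ab x₀ x)
            simpa using this
          calc c * (x₀ : G) * (c * (x : G)) = c * ((x₀ : G) * c) * x := by group
            _ = c * (c * x₀) * x := by rw [hcomm x₀]
            _ = c * c * ((x₀ : G) * x) := by group
            _ = c * c * ((x : G) * x₀) := by rw [e1]
            _ = c * (c * x) * x₀ := by group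
            _ = c * ((x : G) * c) * x₀ := by rw [hcomm x]
            _ = c * (x : G) * (c * (x₀ : G)) := by group
        have hprod : (c * (x₀ : G))⁻¹ * (c * (x : G)) = ((x₀⁻¹ * x : P) : G) := by
          rw [Subgroup.coe_mul, Subgroup.coe_inv]
          group
        have hdvd := hcm.orderOf_mul_dvd_lcm
        rw [hprod, orderOf_inv] at hdvd
        have hne1 : x₀⁻¹ * x ≠ 1 := by
          intro h1
          apply hx
          rw [inv_mul_eq_one] at h1
          exact h1.symm
        have hpd := h.dvd_orderOf _ hne1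
        have hpl : p ∣ Nat.lcm (orderOf (c * (x₀ : G))) (orderOf (c * (x : G))) := hpd.trans hdvd
        have hpm : p ∣ orderOf (c * (x₀ : G)) * orderOf (c * (x : G)) :=
          hpl.trans (Nat.lcm_dvd_mul _ _)
        rcases (Nat.Prime.dvd_mul hp.out).mp hpm with h' | h'
        · exact hx₀ h'
        · exact hnd h'
      -- the value at `c x₀` has norm `n`
      have h2 : ∑ x : P, χ (c * x) * conj (χ (c * x)) =
          χ (c * x₀) * conj (χ (c * x₀)) + (n : ℂ) := by
        rw [← Finset.add_sum_erase Finset.univ _ (Finset.mem_univ x₀)]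
        congr 1
        have : ∀ x ∈ (Finset.univ : Finset P).erase x₀, χ (c * x) * conj (χ (c * x)) = 1 := by
          intro x hx
          exact mul_conj_of_norm_one (h.unit _ (huniq x (Finset.mem_erase.mp hx).1))
        rw [Finset.sum_congr rfl this, Finset.sum_const, Finset.card_erase_of_mem (Finset.mem_univ _),
          Finset.card_univ, ← Nat.card_eq_fintype_card, ← h.card]
        simp
      rw [h2] at h1
      have h3 : χ (c * x₀) * conj (χ (c * x₀)) = (n : ℂ) ^ 2 := by linear_combination h1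
      have h4 : ‖χ (c * x₀)‖ = n := by
        rw [Complex.mul_conj, Complex.normSq_eq_norm_sq] at h3
        have h5 : ‖χ (c * (x₀ : G))‖ ^ 2 = (n : ℝ) ^ 2 := by exact_mod_cast h3
        exact (sq_eq_sq₀ (norm_nonneg _) (Nat.cast_nonneg n)).mp h5
      have hcen : c * (x₀ : G) ∈ Subgroup.center G := by
        rw [Subgroup.mem_center_iff]
        intro z
        have := (Cfsg.Agent.CharLib.Blich.apply_commutator_of_norm_eq
          (IsIrrCharacter.isCharacter h.irr) h.deg h4 z).1
        have h7 := h.faith _ this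
        have : c * (x₀ : G) * z = z * (c * (x₀ : G)) := by
          have h8 : c * (x₀ : G) * z = (c * (x₀ : G) * z * (c * (x₀ : G))⁻¹ * z⁻¹) * (z * (c * (x₀ : G))) := by
            group
          rw [h8, h7, one_mul]
        exact this.symm
      have : c = (x₀⁻¹ : P) * (c * (x₀ : G)) := by
        rw [Subgroup.coe_inv]
        have := hcomm x₀
        calc c = (x₀ : G)⁻¹ * ((x₀ : G) * c) := by group
          _ = (x₀ : G)⁻¹ * (c * x₀) := by rw [this]
      rw [this]
      exact Subgroup.mul_mem_sup (x₀⁻¹).2 hcen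
  · apply sup_le
    · intro x hx
      rw [Subgroup.mem_centralizer_iff]
      intro y hy
      have := congrArg Subtype.val (h.ab ⟨y, hy⟩ ⟨x, hx⟩)
      simpa using this
    · exact Subgroup.center_le_centralizer _

end RData

end Cfsg.Agent.Lib.Helper24.RootChar
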