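/-
Helper24 library (S4751): reduction of the hypotheses of S4751 to the configuration `RData`.
-/
import Mathlib
import Cfsg.Agent.Lib.Helper24.RootD
import Cfsg.Agent.Lib.Helper16.PCore

set_option autoImplicit false
set_option linter.unusedSectionVars false

namespace Cfsg.Agent.Lib.Helper24.RootChar

open Cfsg Cfsg.Agent.CharLib Cfsg.Agent.Lib.Helper6
open scoped ComplexConjugate

universe u

theorem norm_eq_one_of_pow_eq_one {z : ℂ} {m : ℕ} (hm : 0 < m) (h : z ^ m = 1) : ‖z‖ = 1 := by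
  have h2 : ‖z‖ ^ m = 1 := by rw [← norm_pow, h, norm_one]
  exact (pow_eq_one_iff_of_nonneg (norm_nonneg _) hm.ne').mp h2

/-- number theory: a power of `p` dividing `p^j (p^j - 2)`. -/
theorem pow_dvd_cases (p i j : ℕ) (hp : p.Prime) (hj : 3 ≤ p ^ j) (h : p ^ i ∣ p ^ j * (p ^ j - 2)) :
    i ≤ j ∨ (p = 2 ∧ i = j + 1) := by
  by_cases hij : i ≤ j
  · exact Or.inl hij
  · right
    push Not at hij
    have hj1 : 1 ≤ j := by
      rcases Nat.eq_zero_or_pos j with h0 | h0
      · rw [h0, pow_zero] at hj; omega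
      · exact h0
    have h1 : p ^ (j + 1) ∣ p ^ j * (p ^ j - 2) := (pow_dvd_pow p hij).trans h
    rw [pow_succ] at h1
    have h2 : p ∣ p ^ j - 2 := Nat.dvd_of_mul_dvd_mul_left (pow_pos hp.pos j) h1
    have h3 : p ∣ p ^ j := dvd_pow_self p (by omega)
    have h4 : p ∣ 2 := by
      have : p ^ j = (p ^ j - 2) + 2 := by omega
      rw [this] at h3
      exact (Nat.dvd_add_right h2).mp h3
    have hp2 : p = 2 := (Nat.prime_dvd_prime_iff_eq hp Nat.prime_two).mp h4
    refine ⟨hp2, ?_⟩
    subst hp2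
    by_contra hne
    have hij2 : j + 2 ≤ i := by omega
    have h5 : 2 ^ (j + 2) ∣ 2 ^ j * (2 ^ j - 2) := (pow_dvd_pow 2 hij2).trans h
    rw [pow_add] at h5
    have h6 : 2 ^ 2 ∣ 2 ^ j - 2 := Nat.dvd_of_mul_dvd_mul_left (pow_pos (by norm_num) j) h5
    have hj2 : 2 ≤ j := by
      by_contra hlt
      have : j = 1 := by omega
      rw [this] at hj
      norm_num at hj
    have h7 : 2 ^ 2 ∣ 2 ^ j := pow_dvd_pow 2 hj2
    have h8 : 2 ^ 2 ∣ 2 := by
      have : 2 ^ j = (2 ^ j - 2) + 2 := by omega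
      rw [this] at h7
      exact (Nat.dvd_add_right h6).mp h7
    norm_num at h8

variable {G : Type u} [Group G] [Fintype G]

/-- a subgroup whose centre has index two is impossible. -/
theorem not_index_two_center (P : Subgroup G)
    (h : (P ⊓ Subgroup.centralizer (P : Set G)).relIndex P = 2) : False := by
  set A := P ⊓ Subgroup.centralizer (P : Set G) with hA
  have hidx : (A.subgroupOf P).index = 2 := h
  have hmem : ∀ x : P, x ∈ A.subgroupOf P ↔ (x : G) ∈ A := fun x => Subgroup.mem_subgroupOf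
  -- an element outside
  have hex : ∃ y : P, y ∉ A.subgroupOf P := by
    by_contra hcon
    push Not at hcon
    have : A.subgroupOf P = ⊤ := by
      rw [Subgroup.eq_top_iff']; exact hcon
    rw [this, Subgroup.index_top] at hidx
    omega
  obtain ⟨y, hy⟩ := hex
  have hy' : (y : G) ∉ Subgroup.centralizer (P : Set G) := by
    intro hc
    apply hy
    rw [hmem]
    exact ⟨y.2, hc⟩
  rw [Subgroup.mem_centralizer_iff] at hy'
  push Not at hy'
  obtain ⟨x, hxP, hxy⟩ := hy'
  have hx : (⟨x, hxP⟩ : P) ∉ A.subgroupOf P := by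
    intro hc
    rw [hmem] at hc
    have := (Subgroup.mem_centralizer_iff.mp hc.2) y y.2
    exact hxy this.symm
  have hyinv : y⁻¹ ∉ A.subgroupOf P := fun hc => hy (by simpa using (A.subgroupOf P).inv_mem hc)
  have h1 : y⁻¹ * ⟨x, hxP⟩ ∈ A.subgroupOf P := by
    rw [Subgroup.mul_mem_iff_of_index_two hidx]
    exact ⟨fun hc => absurd hc hyinv, fun hc => absurd hc hx⟩
  rw [hmem] at h1
  have h2 := (Subgroup.mem_centralizer_iff.mp h1.2) y y.2
  apply hxy
  have h3 : (y : G) * ((y : G)⁻¹ * x) = (y : G)⁻¹ * x * y := by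
    simpa using h2
  have : x = (y : G)⁻¹ * x * y := by
    rw [← h3]; group
  calc x * (y : G) = (y : G) * ((y : G)⁻¹ * x * y) := by group
    _ = y * x := by rw [← this]

/-- **reduction**: under the hypotheses of S4751 the `p`-core `P` is abelian of order `χ(1) + 1`, and a Sylow
`p`-subgroup has order `|P|` or (for `p = 2`) `2 |P|`. -/
theorem reduction (p : ℕ) [hp : Fact p.Prime] {χ : G → ℂ} (hχ : IsIrrCharacter G χ)
    (hfaith : ∀ g : G, χ g = χ 1 → g = 1) (hnl : χ 1 ≠ 1)
    (hroot : ∀ g : G, p ∣ orderOf g → ∃ m : ℕ, 0 < m ∧ χ g ^ m = 1)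
    (hP : Cfsg.pCore p G ≠ ⊥) (S : Sylow p G) :
    ∃ n : ℕ, RData p (Cfsg.pCore p G) χ n ∧
      (Nat.card S = Nat.card (Cfsg.pCore p G) ∨
        (p = 2 ∧ Nat.card S = 2 * Nat.card (Cfsg.pCore p G))) := by
  classical
  set P := Cfsg.pCore p G with hPdef
  haveI hPn : P.Normal := Subgroup.sSup_normal _ (fun _ h => h.1)
  have hPp : IsPGroup p P := Cfsg.Agent.Lib.Helper16.pCore_isPGroup
  obtain ⟨n, hnpos, hn⟩ := IsIrrCharacter.apply_one_pos hχ
  have hn2 : 2 ≤ n := by
    by_contra hlt
    have : n = 1 := by omega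
    rw [this] at hn
    exact hnl (by simpa using hn)
  have hunit : ∀ g : G, p ∣ orderOf g → ‖χ g‖ = 1 := by
    intro g hg
    obtain ⟨m, hm, hgm⟩ := hroot g hg
    exact norm_eq_one_of_pow_eq_one hm hgm
  have hunitT : ∀ T : Subgroup G, IsPGroup p T → ∀ x : T, x ≠ 1 → ‖χ x‖ = 1 := by
    intro T hT x hx
    apply hunit
    obtain ⟨k, hk⟩ := (IsPGroup.iff_orderOf.mp hT) x
    rw [Subgroup.orderOf_coe, hk]
    rcases Nat.eq_zero_or_pos k with h0 | h0
    · exfalso
      rw [h0, pow_zero, orderOf_eq_one_iff] at hk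
      exact hx hk
    · exact dvd_pow_self p h0.ne'
  set A := P ⊓ Subgroup.centralizer (P : Set G) with hAdef
  haveI hAn : A.Normal := Subgroup.normal_inf_normal _ _
  have hAP : A ≤ P := inf_le_left
  have hAp : IsPGroup p A := hPp.to_le hAP
  have hAab : ∀ a b : A, a * b = b * a := by
    intro a b
    apply Subtype.ext
    have := (Subgroup.mem_centralizer_iff.mp a.2.2) b b.2.1
    simpa using this.symm
  -- `A` is non-trivial
  have hA2 : 2 ≤ Nat.card A := by
    haveI : Nontrivial P := by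
      rw [← Subgroup.nontrivial_iff_ne_bot] at hP
      exact hP
    haveI := hPp.center_nontrivial
    obtain ⟨z, hz⟩ := exists_ne (1 : Subgroup.center P)
    have hzA : ((z : P) : G) ∈ A := by
      refine ⟨(z : P).2, ?_⟩
      show ((z : P) : G) ∈ Subgroup.centralizer (P : Set G)
      rw [Subgroup.mem_centralizer_iff]
      intro y hy
      have := (Subgroup.mem_center_iff.mp z.2) ⟨y, hy⟩
      have := congrArg Subtype.val this
      simpa using this
    have hzne : (⟨((z : P) : G), hzA⟩ : A) ≠ 1 := by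
      intro hc
      apply hz
      have := congrArg Subtype.val hc
      apply Subtype.ext
      apply Subtype.ext
      simpa using this
    have : Nontrivial A := ⟨⟨_, _, hzne⟩⟩
    exact Finite.one_lt_card
  have hcardA : n + 1 = Nat.card A :=
    card_abelian_normal_of_unit A hAab hA2 hχ n hn hn2 (hunitT A hAp)
  -- the Sylow subgroup
  have hχc : IsCharacter G χ := IsIrrCharacter.isCharacter hχ
  have hSdvd : Nat.card S ∣ n ^ 2 - 1 :=
    card_dvd_of_unit (S : Subgroup G) hχc n hn hnpos (hunitT S S.2)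
  have hPS : P ≤ S := Cfsg.Agent.Lib.Helper16.pCore_le_sylow S
  obtain ⟨j, hj⟩ := IsPGroup.iff_card.mp hAp
  obtain ⟨k, hk⟩ := IsPGroup.iff_card.mp hPp
  obtain ⟨i, hi⟩ := IsPGroup.iff_card.mp S.2
  have hp1 : 1 < p := hp.out.one_lt
  have hjk : j ≤ k := by
    have := Subgroup.card_dvd_of_le hAP
    rw [hj, hk] at this
    exact (Nat.pow_dvd_pow_iff_le_right hp1).mp this
  have hki : k ≤ i := by
    have := Subgroup.card_dvd_of_le hPS
    rw [hk] at this
    have h2 : Nat.card (S : Subgroup G) = p ^ i := hi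
    rw [h2] at this
    exact (Nat.pow_dvd_pow_iff_le_right hp1).mp this
  have hn21 : n ^ 2 - 1 = p ^ j * (p ^ j - 2) := by
    rw [← hj, ← hcardA]
    have : (n + 1) * (n + 1 - 2) = (n + 1) * (n - 1) := by congr 1
    rw [this]
    obtain ⟨m, rfl⟩ : ∃ m, n = m + 1 := ⟨n - 1, by omega⟩
    simp only [Nat.add_sub_cancel]
    have : (m + 1) ^ 2 = (m + 1 + 1) * m + 1 := by ring
    rw [this, Nat.add_sub_cancel]
  have hcases := pow_dvd_cases p i j hp.out (by rw [← hj, ← hcardA]; omega)
    (by rw [← hn21]; exact hi ▸ hSdvd)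
  -- `A = P`
  have hkj : k = j := by
    by_contra hne
    have hk1 : k = j + 1 := by
      rcases hcases with h | ⟨_, h⟩ <;> omega
    have hp2 : p = 2 := by
      rcases hcases with h | ⟨h, _⟩
      · omega
      · exact h
    apply not_index_two_center P
    have h1 : A.relIndex P * Nat.card A = Nat.card P := by
      have := Subgroup.relIndex_mul_relIndex (⊥ : Subgroup G) A P bot_le hAP
      rw [Subgroup.relIndex_bot_left, Subgroup.relIndex_bot_left] at this
      rw [mul_comm]; exact this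
    rw [hj, hk, hk1, hp2, pow_succ] at h1
    have hpos : 0 < 2 ^ j := pow_pos (by norm_num) j
    have : A.relIndex P * 2 ^ j = 2 * 2 ^ j := by rw [h1, mul_comm]
    exact Nat.eq_of_mul_eq_mul_right hpos this
  have hAeq : A = P := by
    apply Subgroup.eq_of_le_of_card_ge hAP
    rw [hj, hk, hkj]
  have hPab : ∀ a b : P, a * b = b * a := by
    intro a b
    apply Subtype.ext
    have ha : (a : G) ∈ A := by rw [hAeq]; exact a.2
    have := (Subgroup.mem_centralizer_iff.mp ha.2) b b.2
    simpa using this.symm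
  refine ⟨n, ⟨hPn, hχ, hfaith, hunit, hPp, hPab, hn, by rw [hcardA, hAeq], hn2⟩, ?_⟩
  have hSc : Nat.card S = p ^ i := hi
  rw [hSc, hk, hkj]
  rcases hcases with h | ⟨h2, h⟩
  · left
    have : i = j := by omega
    rw [this]
  · right
    refine ⟨h2, ?_⟩
    rw [h, h2, pow_succ, mul_comm]

end Cfsg.Agent.Lib.Helper24.RootChar
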