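/-
Helper24 library (S4751): group-theoretic endgame.  A finite group with a normal four-group `P`,
`C_G(P) = P × Z(G)`, `Z(G)` of odd order, and two elements acting as distinct involutions on `P`, is the
direct product of a copy of `S₄` and `Z(G)`.
-/
import Mathlib
import Cfsg.Agent.S1012

set_option autoImplicit false
set_option linter.unusedSectionVars false

namespace Cfsg.Agent.Lib.Helper24.RootGrp

universe u

set_option synthInstance.maxSize 1000 in
set_option synthInstance.maxHeartbeats 200000 in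
set_option maxRecDepth 100000 in
theorem s3_prod : ∀ a b : Equiv.Perm (Fin 3), a ^ 2 = 1 → b ^ 2 = 1 → a ≠ 1 → b ≠ 1 → a ≠ b →
    (a * b) ^ 3 = 1 ∧ a * b ≠ 1 := by decide

set_option synthInstance.maxSize 1000 in
set_option synthInstance.maxHeartbeats 200000 in
set_option maxRecDepth 100000 in
theorem s3_gen : ∀ a b σ : Equiv.Perm (Fin 3), a ^ 2 = 1 → b ^ 2 = 1 → a ≠ 1 → b ≠ 1 → a ≠ b →
    (σ = 1 ∨ σ = a ∨ σ = b ∨ σ = a * b ∨ σ = b * a ∨ σ = a * b * a) := by decide

theorem s3_sq_or_cube : ∀ σ : Equiv.Perm (Fin 3), σ ^ 2 = 1 ∨ σ ^ 3 = 1 := by decide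

theorem s3_fix : ∀ (σ : Equiv.Perm (Fin 3)) (i : Fin 3), σ ^ 3 = 1 → σ i = i → σ = 1 := by decide

variable {G : Type u} [Group G]

/-- the permutation of the non-identity elements of a normal subgroup induced by conjugation. -/
def conjPerm (P : Subgroup G) [P.Normal] : G →* Equiv.Perm {x : P // x ≠ 1} where
  toFun g := Equiv.Perm.subtypePerm ((MulAut.conjNormal g : MulAut P).toEquiv : Equiv.Perm P)
    (fun x => by simp)
  map_one' := by
    ext x
    simp
  map_mul' := by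
    intro a b
    ext x
    show ((MulAut.conjNormal (a * b) (x : P) : P) : G) =
      ((MulAut.conjNormal a (MulAut.conjNormal b (x : P)) : P) : G)
    rw [map_mul]
    rfl

theorem conjPerm_apply (P : Subgroup G) [P.Normal] (g : G) (x : {x : P // x ≠ 1}) :
    ((conjPerm P g x : {x : P // x ≠ 1}) : P) = MulAut.conjNormal g (x : P) := rfl

theorem conjPerm_eq_one_iff (P : Subgroup G) [P.Normal] (g : G) :
    conjPerm P g = 1 ↔ g ∈ Subgroup.centralizer (P : Set G) := by
  constructor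
  · intro h
    rw [Subgroup.mem_centralizer_iff]
    intro x hx
    by_cases hx1 : (⟨x, hx⟩ : P) = 1
    · have : x = 1 := congrArg Subtype.val hx1
      rw [this]; simp
    · have h1 := congrArg (fun σ : Equiv.Perm {x : P // x ≠ 1} => ((σ ⟨⟨x, hx⟩, hx1⟩ : {x : P // x ≠ 1}) : P)) h
      simp only [Equiv.Perm.coe_one, id_eq] at h1
      rw [conjPerm_apply] at h1
      have h2 := congrArg Subtype.val h1
      rw [MulAut.conjNormal_apply] at h2
      simp only at h2
      calc x * g = (g * x * g⁻¹) * g := by rw [h2]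
        _ = g * x := by group
  · intro h
    ext x
    rw [conjPerm_apply, MulAut.conjNormal_apply]
    have := (Subgroup.mem_centralizer_iff.mp h) (x : P) (x : P).2
    simp only [Equiv.Perm.coe_one, id_eq]
    rw [← this, mul_inv_cancel_right]

/-- the configuration of the endgame. -/
structure Cfg (P : Subgroup G) (s t : G) : Prop where
  normal : P.Normal
  card : Nat.card P = 4
  exp : ∀ x ∈ P, x ^ 2 = 1
  cent : Subgroup.centralizer (P : Set G) = P ⊔ Subgroup.center G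
  inf : P ⊓ Subgroup.center G = ⊥
  odd : Odd (Nat.card (Subgroup.center G))
  hs2 : s ^ 2 ∈ P
  ht2 : t ^ 2 ∈ P
  hsC : s ∉ Subgroup.centralizer (P : Set G)
  htC : t ∉ Subgroup.centralizer (P : Set G)
  hst : t * s⁻¹ ∉ Subgroup.centralizer (P : Set G)

/-- two elements with `x² = 1`, `y³ = 1`, `x = y` are trivial. -/
theorem eq_one_of_sq_of_cube {M : Type*} [Group M] {x : M} (h2 : x ^ 2 = 1) (h3 : x ^ 3 = 1) : x = 1 := by
  have : x ^ 3 = x ^ 2 * x := pow_succ x 2
  rw [h3, h2, one_mul] at this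
  exact this.symm

/-- dihedral words: every element of `⟨u, w⟩` with `u² = 1`, `w³ = 1`, `u w u⁻¹ = w⁻¹` is `u^j w^i`. -/
theorem mem_closure_pair_dihedral {M : Type*} [Group M] {u w : M} (hu : u ^ 2 = 1) (hw : w ^ 3 = 1)
    (hinv : u * w * u⁻¹ = w⁻¹) {d : M} (hd : d ∈ Subgroup.closure ({u, w} : Set M)) :
    ∃ j i : ℕ, d = u ^ j * w ^ i := by
  have huinv : u⁻¹ = u := by
    rw [inv_eq_iff_mul_eq_one, ← pow_two, hu]
  have hwinv : w⁻¹ = w ^ 2 := by
    rw [inv_eq_iff_mul_eq_one]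
    have : w * w ^ 2 = w ^ 3 := (pow_succ' w 2).symm
    rw [this, hw]
  have hwu : w * u = u * w ^ 2 := by
    rw [huinv, hwinv] at hinv
    have : u * (u * w * u) = u * w ^ 2 := by rw [hinv]
    rw [← mul_assoc, ← mul_assoc, ← pow_two, hu, one_mul] at this
    exact this
  have hwk : ∀ k : ℕ, w ^ k * u = u * w ^ (2 * k) := by
    intro k
    induction k with
    | zero => simp
    | succ k ih =>
      rw [pow_succ, mul_assoc, hwu, ← mul_assoc, ih, mul_assoc, ← pow_add]
      congr 2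
  have hwj : ∀ j : ℕ, w * u ^ j = u ^ j * w ^ (2 ^ j) := by
    intro j
    induction j with
    | zero => simp
    | succ j ih =>
      rw [pow_succ, ← mul_assoc, ih, mul_assoc, hwk, ← mul_assoc]
      congr 2
      ring
  have hmulw : ∀ y : M, (∃ j i : ℕ, y = u ^ j * w ^ i) → ∃ j i : ℕ, w * y = u ^ j * w ^ i := by
    rintro y ⟨j, i, rfl⟩
    refine ⟨j, 2 ^ j + i, ?_⟩
    rw [← mul_assoc, hwj, mul_assoc, ← pow_add]
  have hmulu : ∀ y : M, (∃ j i : ℕ, y = u ^ j * w ^ i) → ∃ j i : ℕ, u * y = u ^ j * w ^ i := by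
    rintro y ⟨j, i, rfl⟩
    refine ⟨j + 1, i, ?_⟩
    rw [← mul_assoc, ← pow_succ']
  induction hd using Subgroup.closure_induction_left with
  | one => exact ⟨0, 0, by simp⟩
  | mul_left x hx y hy ih =>
    rcases hx with rfl | hx
    · exact hmulu y ih
    · rw [Set.mem_singleton_iff] at hx
      subst hx
      exact hmulw y ih
  | inv_mul_cancel x hx y hy ih =>
    rcases hx with rfl | hx
    · rw [huinv]
      exact hmulu y ih
    · rw [Set.mem_singleton_iff] at hx
      subst hx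
      rw [hwinv, pow_two, mul_assoc]
      exact hmulw _ (hmulw y ih)

/-- **endgame**: in the configuration `Cfg`, `G = H × Z(G)` with `H ≅ S₄`. -/
theorem exists_S4_complement [Finite G] {P : Subgroup G} {s t : G} (c : Cfg P s t) :
    ∃ H : Subgroup G, Nonempty (↥H ≃* Equiv.Perm (Fin 4)) ∧ H ⊓ Subgroup.center G = ⊥ ∧
      H ⊔ Subgroup.center G = ⊤ := by
  classical
  haveI := c.normal
  set C := Subgroup.centralizer (P : Set G) with hCdef
  set Z := Subgroup.center G with hZdef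
  have hPC : P ≤ C := by rw [hCdef, c.cent]; exact le_sup_left
  -- the action on the three non-identity elements
  have hX : Nat.card {x : P // x ≠ 1} = 3 := by
    haveI : Fintype P := Fintype.ofFinite P
    rw [Nat.card_eq_fintype_card, Fintype.card_subtype_compl, Fintype.card_subtype_eq,
      ← Nat.card_eq_fintype_card, c.card]
  let e : {x : P // x ≠ 1} ≃ Fin 3 := Finite.equivFinOfCardEq hX
  let π : G →* Equiv.Perm (Fin 3) := (e.permCongrHom).toMonoidHom.comp (conjPerm P)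
  have hπ : ∀ g : G, π g = 1 ↔ g ∈ C := by
    intro g
    rw [← conjPerm_eq_one_iff]
    show e.permCongrHom (conjPerm P g) = 1 ↔ _
    exact map_eq_one_iff _ e.permCongrHom.injective
  have hπP : ∀ x ∈ P, π x = 1 := fun x hx => (hπ x).mpr (hPC hx)
  set a := π s with ha
  set b := π t with hb
  have ha2 : a ^ 2 = 1 := by rw [ha, ← map_pow]; exact hπP _ c.hs2
  have hb2 : b ^ 2 = 1 := by rw [hb, ← map_pow]; exact hπP _ c.ht2
  have ha1 : a ≠ 1 := fun h => c.hsC ((hπ s).mp h)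
  have hb1 : b ≠ 1 := fun h => c.htC ((hπ t).mp h)
  have hab : a ≠ b := by
    intro h
    apply c.hst
    rw [← hCdef, ← hπ, map_mul, map_inv, ← ha, ← hb, h, mul_inv_cancel]
  obtain ⟨hc3, hc1⟩ := s3_prod a b ha2 hb2 ha1 hb1 hab
  -- the quotient by `P`
  let mk : G →* G ⧸ P := QuotientGroup.mk' P
  have hmk1 : ∀ g : G, mk g = 1 ↔ g ∈ P := fun g => QuotientGroup.eq_one_iff g
  set u := mk s with hu
  set v := mk t with hv
  set w := u * v with hw
  have hu2 : u ^ 2 = 1 := by rw [hu, ← map_pow]; exact (hmk1 _).mpr c.hs2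
  have hv2 : v ^ 2 = 1 := by rw [hv, ← map_pow]; exact (hmk1 _).mpr c.ht2
  have huinv : u⁻¹ = u := by rw [inv_eq_iff_mul_eq_one, ← pow_two, hu2]
  have hvinv : v⁻¹ = v := by rw [inv_eq_iff_mul_eq_one, ← pow_two, hv2]
  have hinv : u * w * u⁻¹ = w⁻¹ := by
    rw [hw, mul_inv_rev, huinv, hvinv, ← mul_assoc, ← pow_two, hu2, one_mul]
  -- `w³ = 1`
  have hw3 : w ^ 3 = 1 := by
    have h1 : (s * t) ^ 3 ∈ C := by
      rw [← hπ, map_pow, map_mul]; exact hc3
    rw [hCdef, c.cent] at h1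
    obtain ⟨x, hx, z, hz, hxz⟩ := Subgroup.mem_sup_of_normal_left.mp h1
    have h2 : w ^ 3 = mk z := by
      rw [hw, hu, hv, ← map_mul, ← map_pow, ← hxz, map_mul, (hmk1 x).mpr hx, one_mul]
    have h3 : u * w ^ 3 * u⁻¹ = (w ^ 3)⁻¹ := by
      rw [← conj_pow, hinv, inv_pow]
    have h4 : u * mk z * u⁻¹ = mk z := by
      rw [hu, ← map_mul, ← map_inv, ← map_mul]
      congr 1
      have := (Subgroup.mem_center_iff.mp hz) s
      rw [this, mul_inv_cancel_right]
    rw [h2, h4] at h3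
    have h5 : mk (z ^ 2) = 1 := by
      rw [map_pow, pow_two]
      nth_rewrite 1 [h3]
      exact inv_mul_cancel _
    have h6 : z ^ 2 ∈ P ⊓ Z := ⟨(hmk1 _).mp h5, Subgroup.pow_mem _ hz 2⟩
    rw [c.inf, Subgroup.mem_bot] at h6
    have h7 : orderOf z ∣ 2 := orderOf_dvd_of_pow_eq_one h6
    have h8 : orderOf z ∣ Nat.card Z := by
      have := orderOf_dvd_natCard (⟨z, hz⟩ : Z)
      rwa [Subgroup.orderOf_mk] at this
    have h9 : orderOf z = 1 := by
      rcases (Nat.dvd_prime Nat.prime_two).mp h7 with h | h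
      · exact h
      · exfalso
        rw [h] at h8
        exact (Nat.not_even_iff_odd.mpr c.odd) (even_iff_two_dvd.mpr h8)
    rw [orderOf_eq_one_iff] at h9
    rw [h2, h9, map_one]
  -- the lift of `π`
  let πbar : G ⧸ P →* Equiv.Perm (Fin 3) := QuotientGroup.lift P π hπP
  have hπbar : ∀ g : G, πbar (mk g) = π g := fun g => rfl
  have hπu : πbar u = a := rfl
  have hπw : πbar w = a * b := by rw [hw, map_mul]; rfl
  set D := Subgroup.closure ({u, w} : Set (G ⧸ P)) with hD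
  have hDinj : ∀ d ∈ D, πbar d = 1 → d = 1 := by
    intro d hd h1
    obtain ⟨j, i, rfl⟩ := mem_closure_pair_dihedral hu2 hw3 hinv hd
    rw [map_mul, map_pow, map_pow, hπu, hπw] at h1
    have h2 : a ^ j = ((a * b) ^ i)⁻¹ := eq_inv_of_mul_eq_one_left h1
    have h3 : (a ^ j) ^ 2 = 1 := by rw [← pow_mul, mul_comm, pow_mul, ha2, one_pow]
    have h4 : (a ^ j) ^ 3 = 1 := by
      rw [h2, inv_pow, ← pow_mul, mul_comm, pow_mul, hc3, one_pow, inv_one]
    have h5 : a ^ j = 1 := eq_one_of_sq_of_cube h3 h4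
    have h6 : (a * b) ^ i = 1 := by rw [h5] at h2; exact inv_eq_one.mp h2.symm
    have hoa : orderOf a = 2 := orderOf_eq_prime ha2 ha1
    have hoc : orderOf (a * b) = 3 := orderOf_eq_prime hc3 hc1
    have h7 : 2 ∣ j := hoa ▸ orderOf_dvd_of_pow_eq_one h5
    have h8 : 3 ∣ i := hoc ▸ orderOf_dvd_of_pow_eq_one h6
    obtain ⟨j', rfl⟩ := h7
    obtain ⟨i', rfl⟩ := h8
    rw [pow_mul, hu2, one_pow, pow_mul, hw3, one_pow, one_mul]
  -- the subgroup `H`
  set H := D.comap mk with hH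
  have hsH : s ∈ H := Subgroup.subset_closure (by simp [hu])
  have htH : t ∈ H := by
    show mk t ∈ D
    have : mk t = u⁻¹ * w := by rw [hw, inv_mul_cancel_left]
    rw [this]
    exact D.mul_mem (D.inv_mem (Subgroup.subset_closure (by simp)))
      (Subgroup.subset_closure (by simp))
  have hPH : P ≤ H := by
    intro x hx
    show mk x ∈ D
    rw [(hmk1 x).mpr hx]
    exact D.one_mem
  have hHC : ∀ h ∈ H, h ∈ C → h ∈ P := by
    intro h hh hhC
    rw [← hmk1]
    apply hDinj _ hh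
    rw [hπbar]
    exact (hπ h).mpr hhC
  have hHZ : H ⊓ Z = ⊥ := by
    rw [Subgroup.eq_bot_iff_forall]
    intro z hz
    have h1 : z ∈ P := hHC z hz.1 (Subgroup.center_le_centralizer _ hz.2)
    have h2 : z ∈ P ⊓ Z := ⟨h1, hz.2⟩
    rw [c.inf] at h2
    exact h2
  have hsurj : ∀ σ : Equiv.Perm (Fin 3), ∃ h ∈ H, π h = σ := by
    intro σ
    rcases s3_gen a b σ ha2 hb2 ha1 hb1 hab with h | h | h | h | h | h
    · exact ⟨1, H.one_mem, by rw [h, map_one]⟩
    · exact ⟨s, hsH, h.symm⟩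
    · exact ⟨t, htH, h.symm⟩
    · exact ⟨s * t, H.mul_mem hsH htH, by rw [h, map_mul]⟩
    · exact ⟨t * s, H.mul_mem htH hsH, by rw [h, map_mul]⟩
    · exact ⟨s * t * s, H.mul_mem (H.mul_mem hsH htH) hsH, by rw [h, map_mul, map_mul]⟩
  have hHZtop : H ⊔ Z = ⊤ := by
    rw [eq_top_iff]
    intro g _
    obtain ⟨h, hh, hπh⟩ := hsurj (π g)
    have h1 : g * h⁻¹ ∈ C := by
      rw [← hπ, map_mul, map_inv, hπh, mul_inv_cancel]
    rw [hCdef, c.cent] at h1
    have h2 : g * h⁻¹ ∈ H ⊔ Z := sup_le_sup_right hPH Z h1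
    have h3 : g = g * h⁻¹ * h := by group
    rw [h3]
    exact (H ⊔ Z).mul_mem h2 (Subgroup.mem_sup_left hh)
  refine ⟨H, ?_, hHZ, hHZtop⟩
  -- order of `H`
  let f : H →* Equiv.Perm (Fin 3) := π.comp H.subtype
  have hfker : f.ker = P.subgroupOf H := by
    ext x
    rw [MonoidHom.mem_ker, Subgroup.mem_subgroupOf]
    show π (x : G) = 1 ↔ _
    rw [hπ]
    exact ⟨fun h => hHC _ x.2 h, fun h => hPC h⟩
  have hfrange : f.range = ⊤ := by
    rw [eq_top_iff]
    intro σ _
    obtain ⟨h, hh, hπh⟩ := hsurj σ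
    exact ⟨⟨h, hh⟩, hπh⟩
  have hcardH : Nat.card H = 24 := by
    have h1 := Subgroup.card_mul_index f.ker
    rw [Subgroup.index_ker, hfrange, Subgroup.card_top, Nat.card_perm, Nat.card_fin, hfker,
      Nat.card_congr (Subgroup.subgroupOfEquivOfLe hPH).toEquiv, c.card] at h1
    rw [← h1]
    rfl
  apply Cfsg.Agent.S1012.result hcardH
  intro h h6
  have hsq : ∀ k : H, π (k : G) ^ 2 = 1 → k ^ 4 = 1 := by
    intro k hk
    have h1 : ((k ^ 2 : H) : G) ∈ C := by
      rw [← hπ, Subgroup.coe_pow, map_pow]; exact hk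
    have h2 := c.exp _ (hHC _ (k ^ 2).2 h1)
    apply Subtype.ext
    rw [Subgroup.coe_pow, Subgroup.coe_one, show 4 = 2 * 2 from rfl, pow_mul, ← Subgroup.coe_pow]
    exact h2
  have hcase1 : π (h : G) ^ 2 ≠ 1 := by
    intro hk
    have h1 : orderOf h ∣ 4 := orderOf_dvd_of_pow_eq_one (hsq h hk)
    rw [h6] at h1
    norm_num at h1
  rcases s3_sq_or_cube (π (h : G)) with hk | hk
  · exact hcase1 hk
  · apply hcase1
    -- `h³ ∈ P ∖ 1` is fixed by `h²`
    have h1 : ((h ^ 3 : H) : G) ∈ C := by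
      rw [← hπ, Subgroup.coe_pow, map_pow]; exact hk
    have h2 : ((h ^ 3 : H) : G) ∈ P := hHC _ (h ^ 3).2 h1
    have h3 : h ^ 3 ≠ 1 := pow_ne_one_of_lt_orderOf (by norm_num) (by rw [h6]; norm_num)
    have h4 : (⟨((h ^ 3 : H) : G), h2⟩ : P) ≠ 1 := by
      intro hc
      apply h3
      apply Subtype.ext
      exact congrArg (fun y : P => (y : G)) hc
    have h5 : (π (h : G) ^ 2) ^ 3 = 1 := by rw [← pow_mul, mul_comm, pow_mul, hk, one_pow]
    apply s3_fix _ (e ⟨⟨((h ^ 3 : H) : G), h2⟩, h4⟩) h5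
    rw [← map_pow]
    show e.permCongr (conjPerm P ((h : G) ^ 2)) (e ⟨⟨((h ^ 3 : H) : G), h2⟩, h4⟩) = _
    rw [Equiv.permCongr_apply, Equiv.symm_apply_apply]
    congr 1
    apply Subtype.ext
    rw [conjPerm_apply]
    apply Subtype.ext
    rw [MulAut.conjNormal_apply]
    show (h : G) ^ 2 * ((h ^ 3 : H) : G) * ((h : G) ^ 2)⁻¹ = ((h ^ 3 : H) : G)
    rw [Subgroup.coe_pow]
    group

end Cfsg.Agent.Lib.Helper24.RootGrp
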