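/-
Helper24 library (S4751): the exceptional case `p = 2`, `|S| = 2 |P|`: `|P| = 4` and the endgame configuration.
-/
import Mathlib
import Cfsg.Agent.Lib.Helper24.RootE
import Cfsg.Agent.Lib.Helper24.RootG

set_option autoImplicit false
set_option linter.unusedSectionVars false

namespace Cfsg.Agent.Lib.Helper24.RootChar

open Cfsg Cfsg.Agent.CharLib Cfsg.Agent.Lib.Helper6
open scoped ComplexConjugate

universe u
variable {G : Type u} [Group G] [Fintype G]

namespace RData

variable {P : Subgroup G} [Fintype P] {χ : G → ℂ} {n : ℕ}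

/-- an element `s` with `s² ∈ P` fixing exactly one non-principal linear character forces `|P| ≤ 4`. -/
theorem card_le_four_of_fixed (h : RData 2 P χ n) (s : G) (hs2 : s ^ 2 ∈ P)
    (hfix : Nat.card {μ : P →* ℂˣ // μ ≠ 1 ∧ s ∈ @stabHom G _ P h.normal μ} = 1) : n + 1 ≤ 4 := by
  classical
  haveI := h.normal
  haveI : Finite (P →* ℂˣ) := finite_hom h.ab
  let α : P ≃* P := MulAut.conjNormal s
  let σ : (P →* ℂˣ) →* (P →* ℂˣ) :=
    { toFun := fun μ => μ.comp α.toMonoidHom
      map_one' := rfl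
      map_mul' := fun μ ν => rfl }
  have hσ : ∀ (μ : P →* ℂˣ) (x : P), σ μ x = μ (α x) := fun μ x => rfl
  have hαα : ∀ x : P, α (α x) = x := by
    intro x
    apply Subtype.ext
    show s * (s * (x : G) * s⁻¹) * s⁻¹ = x
    have h1 := congrArg Subtype.val (h.ab ⟨s ^ 2, hs2⟩ x)
    simp only [Subgroup.coe_mul] at h1
    calc s * (s * (x : G) * s⁻¹) * s⁻¹ = (s ^ 2 * (x : G)) * (s ^ 2)⁻¹ := by
          rw [pow_two, mul_inv_rev]; simp only [mul_assoc]
      _ = ((x : G) * s ^ 2) * (s ^ 2)⁻¹ := by rw [h1]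
      _ = x := mul_inv_cancel_right _ _
  have hσσ : ∀ μ : P →* ℂˣ, σ (σ μ) = μ := by
    intro μ
    ext x
    rw [hσ, hσ, hαα]
  have hsq : ∀ μ : P →* ℂˣ, μ * μ = 1 := by
    intro μ
    ext x
    rw [MonoidHom.mul_apply, ← map_mul, ← pow_two, h.exp x, map_one, MonoidHom.one_apply]
  have hfixiff : ∀ μ : P →* ℂˣ, s ∈ stabHom P μ ↔ σ μ = μ := by
    intro μ
    rw [mem_stabHom]
    constructor
    · intro hh
      ext x
      rw [hσ]
      exact congrArg Units.val (hh x)
    · intro hh x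
      have := congrArg (fun ν : P →* ℂˣ => ν x) hh
      exact this
  let N : (P →* ℂˣ) →* (P →* ℂˣ) := MonoidHom.id _ * σ
  have hN : ∀ μ, N μ = μ * σ μ := fun μ => rfl
  let F : Subgroup (P →* ℂˣ) := MonoidHom.eqLocus σ (MonoidHom.id _)
  have hF : ∀ μ, μ ∈ F ↔ σ μ = μ := fun μ => Iff.rfl
  have hker : N.ker ≤ F := by
    intro μ hμ
    rw [MonoidHom.mem_ker, hN] at hμ
    rw [hF]
    calc σ μ = 1 * σ μ := (one_mul (σ μ)).symm
      _ = (μ * μ) * σ μ := by rw [hsq]
      _ = μ * (μ * σ μ) := mul_assoc μ μ (σ μ)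
      _ = μ * 1 := by rw [hμ]
      _ = μ := mul_one μ
  have hrange : N.range ≤ F := by
    rintro _ ⟨μ, rfl⟩
    rw [hF, hN, map_mul, hσσ]
    exact mul_comm (σ μ) μ
  -- `F` has at most two elements
  obtain ⟨hsub, ⟨μ₀⟩⟩ := Nat.card_eq_one_iff_unique.mp hfix
  have hFsub : (F : Set (P →* ℂˣ)) ⊆ {1, μ₀.1} := by
    intro μ hμ
    by_cases h1 : μ = 1
    · left; exact h1
    · right
      have : (⟨μ, h1, (hfixiff μ).mpr hμ⟩ : {μ : P →* ℂˣ // μ ≠ 1 ∧ s ∈ stabHom P μ}) = μ₀ :=
        Subsingleton.elim _ _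
      exact congrArg Subtype.val this
  have hFcard : Nat.card F ≤ 2 := by
    have h1 : Nat.card F = (F : Set (P →* ℂˣ)).ncard := Nat.card_coe_set_eq _
    rw [h1]
    calc (F : Set (P →* ℂˣ)).ncard ≤ ({1, μ₀.1} : Set (P →* ℂˣ)).ncard :=
          Set.ncard_le_ncard hFsub (Set.toFinite _)
      _ ≤ ({μ₀.1} : Set (P →* ℂˣ)).ncard + 1 := Set.ncard_insert_le _ _
      _ = 2 := by rw [Set.ncard_singleton]
  have h1 := Subgroup.card_mul_index N.ker
  rw [Subgroup.index_ker, h.card_hom] at h1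
  have h2 : Nat.card N.ker ≤ 2 := (Subgroup.card_le_of_le hker).trans hFcard
  have h3 : Nat.card N.range ≤ 2 := (Subgroup.card_le_of_le hrange).trans hFcard
  calc n + 1 = Nat.card N.ker * Nat.card N.range := h1.symm
    _ ≤ 2 * 2 := Nat.mul_le_mul h2 h3

/-- the centre has odd order when `P = O₂(G)`. -/
theorem odd_card_center (h : RData 2 P χ n) (hcore : P = Cfsg.pCore 2 G) :
    Odd (Nat.card (Subgroup.center G)) := by
  rw [← Nat.not_even_iff_odd, even_iff_two_dvd]
  intro h2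
  haveI : Fact (Nat.Prime 2) := ⟨Nat.prime_two⟩
  obtain ⟨z, hz⟩ := exists_prime_orderOf_dvd_card' 2 h2
  have hzn : (Subgroup.zpowers (z : G)).Normal := by
    constructor
    intro x hx g
    have : g * x * g⁻¹ = x := by
      have hxc : x ∈ Subgroup.center G :=
        (Subgroup.zpowers_le.mpr z.2) hx
      have := (Subgroup.mem_center_iff.mp hxc) g
      rw [this, mul_inv_cancel_right]
    rw [this]; exact hx
  have hzp : IsPGroup 2 (Subgroup.zpowers (z : G)) := by
    apply IsPGroup.of_card (n := 1)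
    rw [Nat.card_zpowers, Subgroup.orderOf_coe, hz, pow_one]
  have hle : Subgroup.zpowers (z : G) ≤ P := by
    rw [hcore]
    exact Cfsg.Agent.Lib.Helper16.le_pCore hzn hzp
  have hzP : (z : G) ∈ P ⊓ Subgroup.center G := ⟨hle (Subgroup.mem_zpowers _), z.2⟩
  rw [h.inf_center, Subgroup.mem_bot] at hzP
  have : z = 1 := Subtype.ext hzP
  rw [this, orderOf_one] at hz
  norm_num at hz

/-- the endgame configuration in the exceptional case. -/
theorem exists_cfg (h : RData 2 P χ n) (hcore : P = Cfsg.pCore 2 G) (S : Sylow 2 G)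
    (hPS : P ≤ S) (hcard : Nat.card S = 2 * Nat.card P) :
    ∃ s t : G, Cfsg.Agent.Lib.Helper24.RootGrp.Cfg P s t := by
  classical
  haveI := h.normal
  haveI : Fact (Nat.Prime 2) := ⟨Nat.prime_two⟩
  haveI : Finite (P →* ℂˣ) := finite_hom h.ab
  -- an element of `S ∖ P`
  have hex : ∃ s ∈ (S : Subgroup G), s ∉ P := by
    by_contra hcon
    push Not at hcon
    have hle : (S : Subgroup G) ≤ P := hcon
    have := Subgroup.card_le_of_le hle
    have hpos : 0 < Nat.card P := Nat.card_pos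
    have h2 : Nat.card (S : Subgroup G) = 2 * Nat.card P := hcard
    omega
  obtain ⟨s, hsS, hsP⟩ := hex
  have hidx : (P.subgroupOf S).index = 2 := by
    have h1 := Subgroup.relIndex_mul_relIndex (⊥ : Subgroup G) P S bot_le hPS
    rw [Subgroup.relIndex_bot_left, Subgroup.relIndex_bot_left] at h1
    have h2 : Nat.card (S : Subgroup G) = 2 * Nat.card P := hcard
    rw [h2] at h1
    have hpos : 0 < Nat.card P := Nat.card_pos
    have : Nat.card P * P.relIndex S = Nat.card P * 2 := by rw [h1, mul_comm]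
    exact Nat.eq_of_mul_eq_mul_left hpos this
  have hs2 : s ^ 2 ∈ P := by
    have := Subgroup.sq_mem_of_index_two hidx (⟨s, hsS⟩ : (S : Subgroup G))
    rw [Subgroup.mem_subgroupOf] at this
    exact this
  have hsing : ∀ x : P, 2 ∣ orderOf (s * (x : G)) := by
    intro x
    have hmem : s * (x : G) ∈ (S : Subgroup G) := Subgroup.mul_mem _ hsS (hPS x.2)
    obtain ⟨k, hk⟩ := (IsPGroup.iff_orderOf.mp S.2) ⟨s * (x : G), hmem⟩
    rw [Subgroup.orderOf_mk] at hk
    rw [hk]
    rcases Nat.eq_zero_or_pos k with h0 | h0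
    · exfalso
      rw [h0, pow_zero, orderOf_eq_one_iff] at hk
      apply hsP
      have : s = (x : G)⁻¹ := eq_inv_of_mul_eq_one_left hk
      rw [this]
      exact P.inv_mem x.2
    · exact dvd_pow_self 2 h0.ne'
  have hfix := h.card_fixed_of_singular s hsing
  have hsC : s ∉ Subgroup.centralizer (P : Set G) := by
    intro hc
    have := h.card_fixed_of_centralizer hc
    rw [hfix] at this
    have := h.two
    omega
  -- `|P| = 4`
  have hn4 : n + 1 ≤ 4 := h.card_le_four_of_fixed s hs2 hfix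
  have hcardP : Nat.card P = 4 := by
    obtain ⟨k, hk⟩ := IsPGroup.iff_card.mp h.pgroup
    have h1 := h.card
    have h2 := h.two
    rw [hk] at h1
    have hk2 : k ≤ 2 := by
      by_contra hlt
      push Not at hlt
      have : 2 ^ 3 ≤ 2 ^ k := Nat.pow_le_pow_right (by norm_num) hlt
      omega
    rw [hk]
    interval_cases k <;> omega
  have hn3 : n = 3 := by have := h.card; omega
  -- the characters
  obtain ⟨hsub, ⟨μ₀⟩⟩ := Nat.card_eq_one_iff_unique.mp hfix
  have hex1 : ∃ μ₁ : P →* ℂˣ, μ₁ ≠ 1 ∧ μ₁ ≠ μ₀.1 := by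
    by_contra hcon
    push Not at hcon
    have hsubs : (Set.univ : Set (P →* ℂˣ)) ⊆ {1, μ₀.1} := by
      intro μ _
      by_cases h1 : μ = 1
      · left; exact h1
      · right; exact hcon μ h1
    have h1 : Nat.card (P →* ℂˣ) ≤ 2 := by
      rw [← Set.ncard_univ]
      calc (Set.univ : Set (P →* ℂˣ)).ncard ≤ ({1, μ₀.1} : Set (P →* ℂˣ)).ncard :=
            Set.ncard_le_ncard hsubs (Set.toFinite _)
        _ ≤ ({μ₀.1} : Set (P →* ℂˣ)).ncard + 1 := Set.ncard_insert_le _ _
        _ = 2 := by rw [Set.ncard_singleton]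
    rw [h.card_hom] at h1
    omega
  obtain ⟨μ₁, hμ₁1, hμ₁0⟩ := hex1
  have hne' : ∀ ν : P →* ℂˣ, ν ≠ 1 → (fun y : P => ((ν y : ℂˣ) : ℂ)) ≠ fun _ => (1 : ℂ) := by
    intro ν hν hc
    apply hν
    ext y
    have := congrArg (fun f : P → ℂ => f y) hc
    simpa using this
  obtain ⟨g, hg⟩ := h.trans (fun y : P => ((μ₀.1 y : ℂˣ) : ℂ)) (fun y : P => ((μ₁ y : ℂˣ) : ℂ))
    (isCharacter_of_hom μ₀.1) (by simp) (hne' μ₀.1 μ₀.2.1) (isCharacter_of_hom μ₁) (by simp)
    (hne' μ₁ hμ₁1)
  have hg' : ∀ x : P, μ₁ x = μ₀.1 (MulAut.conjNormal g x) := by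
    intro x
    apply Units.ext
    have := hg (x : G) x.2 (Subgroup.Normal.conj_mem inferInstance _ x.2 g)
    exact this
  set t := g⁻¹ * s * g with ht
  have ht2 : t ^ 2 ∈ P := by
    have : t ^ 2 = g⁻¹ * s ^ 2 * g := by
      rw [ht, pow_two, pow_two]
      simp only [mul_assoc, mul_inv_cancel_left]
    rw [this]
    have := Subgroup.Normal.conj_mem (inferInstance : P.Normal) _ hs2 g⁻¹
    rwa [inv_inv] at this
  have htstab : t ∈ stabHom P μ₁ := by
    rw [mem_stabHom]
    intro x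
    rw [hg', hg']
    have h1 : MulAut.conjNormal g (MulAut.conjNormal t x) =
        MulAut.conjNormal s (MulAut.conjNormal g x) := by
      apply Subtype.ext
      simp only [MulAut.conjNormal_apply]
      rw [ht]
      group
    rw [h1]
    exact (mem_stabHom P μ₀.1 s).mp μ₀.2.2 _
  haveI hCn : (Subgroup.centralizer (P : Set G)).Normal := Subgroup.normal_centralizer
  have htC : t ∉ Subgroup.centralizer (P : Set G) := by
    intro hc
    apply hsC
    have := hCn.conj_mem t hc g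
    have e : g * t * g⁻¹ = s := by rw [ht]; group
    rwa [e] at this
  have hst : t * s⁻¹ ∉ Subgroup.centralizer (P : Set G) := by
    intro hc
    have h1 : t * s⁻¹ ∈ stabHom P μ₁ := h.mem_stabHom_of_centralizer hc μ₁
    have h2 : s ∈ stabHom P μ₁ := by
      have := (stabHom P μ₁).mul_mem ((stabHom P μ₁).inv_mem h1) htstab
      have e : (t * s⁻¹)⁻¹ * t = s := by group
      rwa [e] at this
    have : (⟨μ₁, hμ₁1, h2⟩ : {μ : P →* ℂˣ // μ ≠ 1 ∧ s ∈ stabHom P μ}) = μ₀ :=
      Subsingleton.elim _ _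
    exact hμ₁0 (congrArg Subtype.val this)
  exact ⟨s, t, ⟨h.normal, hcardP, fun x hx => by
      have := h.exp ⟨x, hx⟩
      exact congrArg Subtype.val this,
    h.centralizer_eq, h.inf_center, h.odd_card_center hcore, hs2, ht2, hsC, htC, hst⟩⟩

end RData

end Cfsg.Agent.Lib.Helper24.RootChar
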