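import Mathlib
import Cfsg.Agent.Lib.Helper5.LSubC

/-!
# S5798 (sl6 geometric types), subfield conjunct, hard case `r ≥ n`: definitions (helper24)

`lineGroup M e y` : the elements `x` of `M` with `(x - 1) V ⊆ span {e, y}`.
-/

set_option autoImplicit false

namespace Cfsg.Agent.Lib.Helper24.SL6S
open Cfsg Matrix

variable {F : Type*} [Field F] {n : ℕ}

/-- the elements `x` of `M` with `x v - v ∈ span {e, y}` for all `v` -/
def lineGroup (M : Subgroup (GL (Fin n) F)) (e y : Fin n → F) : Subgroup (GL (Fin n) F) where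
  carrier := {x | x ∈ M ∧ ∀ v, (x : Matrix (Fin n) (Fin n) F) *ᵥ v - v ∈ Submodule.span F {e, y}}
  one_mem' := ⟨M.one_mem, fun v => by simp⟩
  mul_mem' := by
    rintro a b ⟨haM, ha⟩ ⟨hbM, hb⟩
    refine ⟨M.mul_mem haM hbM, fun v => ?_⟩
    have h1 : ((a * b : GL (Fin n) F) : Matrix (Fin n) (Fin n) F) *ᵥ v - v =
        ((a : Matrix (Fin n) (Fin n) F) *ᵥ ((b : Matrix (Fin n) (Fin n) F) *ᵥ v) -
          (b : Matrix (Fin n) (Fin n) F) *ᵥ v) + ((b : Matrix (Fin n) (Fin n) F) *ᵥ v - v) := by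
      rw [Units.val_mul, ← Matrix.mulVec_mulVec]; abel
    rw [h1]
    exact Submodule.add_mem _ (ha _) (hb v)
  inv_mem' := by
    rintro a ⟨haM, ha⟩
    refine ⟨M.inv_mem haM, fun v => ?_⟩
    have h := ha (((a⁻¹ : GL (Fin n) F) : Matrix (Fin n) (Fin n) F) *ᵥ v)
    have h2 : (a : Matrix (Fin n) (Fin n) F) *ᵥ
        (((a⁻¹ : GL (Fin n) F) : Matrix (Fin n) (Fin n) F) *ᵥ v) = v := by
      rw [Matrix.mulVec_mulVec, ← Units.val_mul, mul_inv_cancel, Units.val_one, Matrix.one_mulVec]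
    rw [h2] at h
    have h3 := Submodule.neg_mem _ h
    rwa [neg_sub] at h3

lemma mem_lineGroup {M : Subgroup (GL (Fin n) F)} {e y : Fin n → F} {x : GL (Fin n) F} :
    x ∈ lineGroup M e y ↔
      x ∈ M ∧ ∀ v, (x : Matrix (Fin n) (Fin n) F) *ᵥ v - v ∈ Submodule.span F {e, y} := Iff.rfl

lemma lineGroup_le (M : Subgroup (GL (Fin n) F)) (e y : Fin n → F) : lineGroup M e y ≤ M :=
  fun _ hx => hx.1

end Cfsg.Agent.Lib.Helper24.SL6S
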