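import Mathlib
import Cfsg.Agent.Lib.Helper24.SL6SDefs
import Cfsg.Agent.Lib.Helper9.SL6S1
import Cfsg.Agent.Lib.Helper6.SL6SS2
import Cfsg.Agent.Lib.Helper1.LowDimSL

/-!
# S5798 (sl6 geometric types), subfield conjunct: the hard case `[F : F₀] ≥ n` for `4 ≤ n` (helper24)

`hard_case_frob`: an overgroup `M ≤ SL_n(F)` of the subfield group not containing `SL_n(F)` lies in the subfield group.
Frobenius-type argument on the line group (leaves: helper9 `frob_noncyclic`, helper6 `stab_lineGroup`).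
`c5_max_four`: the subfield groups are maximal in `SL_n(F)` for `4 ≤ n`.
-/

set_option autoImplicit false

namespace Cfsg.Agent.Lib.Helper24.SL6S
open Cfsg Matrix Cfsg.Agent.Lib.Helper5.SpMax Cfsg.Agent.Lib.Helper5.TMCalc
  Cfsg.Agent.Lib.Helper5.USub Cfsg.Agent.Lib.Helper5.LSub

variable {F : Type*} [Field F] {n : ℕ}

/-- the transvections with centre `e` (and `1`) -/
def tvGroup (e : Fin n → F) : Subgroup (GL (Fin n) F) where
  carrier := {x | ∃ s : (Fin n → F) →ₗ[F] F, s e = 0 ∧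
    ∀ v, (x : Matrix (Fin n) (Fin n) F) *ᵥ v = v + s v • e}
  one_mem' := ⟨0, rfl, fun v => by simp⟩
  mul_mem' := by
    rintro a b ⟨s, hs, ha⟩ ⟨s', hs', hb⟩
    refine ⟨s + s', by rw [LinearMap.add_apply, hs, hs', add_zero], fun v => ?_⟩
    rw [Units.val_mul, ← Matrix.mulVec_mulVec, hb, ha, map_add, map_smul, hs, smul_eq_mul,
      mul_zero, add_zero, LinearMap.add_apply, add_smul]
    abel
  inv_mem' := by
    rintro a ⟨s, hs, ha⟩
    refine ⟨-s, by rw [LinearMap.neg_apply, hs, neg_zero], fun v => ?_⟩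
    rw [inv_apply_of hs ha, LinearMap.neg_apply, neg_smul, sub_eq_add_neg]

lemma mem_tvGroup {e : Fin n → F} {x : GL (Fin n) F} :
    x ∈ tvGroup e ↔ ∃ s : (Fin n → F) →ₗ[F] F, s e = 0 ∧
      ∀ v, (x : Matrix (Fin n) (Fin n) F) *ᵥ v = v + s v • e := Iff.rfl

lemma tv_pow {e : Fin n → F} {x : GL (Fin n) F} {s : (Fin n → F) →ₗ[F] F} (hs : s e = 0)
    (hx : ∀ v, (x : Matrix (Fin n) (Fin n) F) *ᵥ v = v + s v • e) (k : ℕ) (v : Fin n → F) :
    ((x ^ k : GL (Fin n) F) : Matrix (Fin n) (Fin n) F) *ᵥ v = v + ((k : F) * s v) • e := by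
  induction k generalizing v with
  | zero => simp
  | succ k ih =>
    rw [pow_succ, Units.val_mul, ← Matrix.mulVec_mulVec, hx, Matrix.mulVec_add, Matrix.mulVec_smul,
      ih v, ih e, hs, mul_zero, zero_smul, add_zero, Nat.cast_succ, add_mul, one_mul, add_smul]
    abel

lemma tv_comm {e : Fin n → F} {a b : GL (Fin n) F} (ha : a ∈ tvGroup e) (hb : b ∈ tvGroup e) :
    a * b = b * a := by
  obtain ⟨s, hs, ha⟩ := ha
  obtain ⟨s', hs', hb⟩ := hb
  apply Units.ext
  apply mat_eq_of_mulVec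
  intro v
  rw [Units.val_mul, Units.val_mul, ← Matrix.mulVec_mulVec, ← Matrix.mulVec_mulVec, hb, ha, ha, hb,
    map_add, map_add, map_smul, map_smul, hs, hs', smul_eq_mul, smul_eq_mul, mul_zero, mul_zero,
    add_zero, add_zero]
  abel

lemma tv_pow_char [Fintype F] {e : Fin n → F} {a : GL (Fin n) F} (ha : a ∈ tvGroup e) :
    a ^ (ringChar F) = 1 := by
  obtain ⟨s, hs, ha⟩ := ha
  apply Units.ext
  apply mat_eq_of_mulVec
  intro v
  rw [tv_pow hs ha, CharP.cast_eq_zero, zero_mul, zero_smul, add_zero, Units.val_one,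
    Matrix.one_mulVec]


open Cfsg.Agent.Lib.Helper9.SL6SLeaf Cfsg.Agent.Lib.Helper6.SL6SLeaf in
/-- the hard case `[F : F₀] ≥ n` of the subfield conjunct, for `n ≥ 4` and `M ≤ SL` -/
theorem hard_case_frob [Fintype F] {F₀ : Subfield F} {P : GL (Fin n) F}
    {M : Subgroup (GL (Fin n) F)} (hn : 4 ≤ n) (h : Ctx F₀ P M)
    (hMS : M ≤ Cfsg.Geo.specialLinear (Fin n) F) {g : GL (Fin n) F} (hg : g ∈ M) :
    g ∈ Cfsg.Geo.subfieldSubgroup F₀ P := by
  by_contra hgS
  obtain ⟨i0, hi0⟩ : ∃ i : Fin n, i = ⟨0, by omega⟩ := ⟨_, rfl⟩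
  obtain ⟨i1, hi1⟩ : ∃ i : Fin n, i = ⟨1, by omega⟩ := ⟨_, rfl⟩
  obtain ⟨i2, hi2⟩ : ∃ i : Fin n, i = ⟨2, by omega⟩ := ⟨_, rfl⟩
  have h10 : i1 ≠ i0 := by
    intro h'; rw [hi0, hi1] at h'; have := congrArg Fin.val h'; simp at this
  have h20 : i2 ≠ i0 := by
    intro h'; rw [hi0, hi2] at h'; have := congrArg Fin.val h'; simp at this
  have h12 : i1 ≠ i2 := by
    intro h'; rw [hi1, hi2] at h'; have := congrArg Fin.val h'; simp at this
  obtain ⟨e, hedef⟩ : ∃ e : Fin n → F, e = ev P i0 := ⟨_, rfl⟩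
  have he : IsRat F₀ P e := by rw [hedef]; exact isRat_ev P i0
  have he0 : e ≠ 0 := by rw [hedef]; exact ev_ne_zero P i0
  obtain ⟨y, hydef⟩ : ∃ y : Fin n → F, y = (g : Matrix (Fin n) (Fin n) F) *ᵥ e := ⟨_, rfl⟩
  have hy0 : y ≠ 0 := by
    intro hy
    apply he0
    have := inv_mul_mulVec g e
    rw [← hydef, hy, Matrix.mulVec_zero] at this
    exact this.symm
  have : Fact (ringChar F).Prime := ⟨CharP.char_is_prime F (ringChar F)⟩
  -- two rational transvections with centre `e`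
  obtain ⟨-, a0, ha0M, ha0v⟩ := h.rat (by omega) (isRatF_cf P i1) he
    (by rw [hedef]; exact cf_ev_ne P h10)
  obtain ⟨-, b0, hb0M, hb0v⟩ := h.rat (by omega) (isRatF_cf P i2) he
    (by rw [hedef]; exact cf_ev_ne P h20)
  have hsmulX : ∀ (t : GL (Fin n) F) (s : (Fin n → F) →ₗ[F] F), t ∈ M →
      (∀ v, (t : Matrix (Fin n) (Fin n) F) *ᵥ v = v + s v • e) → t ∈ lineGroup M e y := by
    intro t s ht htv
    refine ⟨ht, fun v => ?_⟩
    rw [htv, add_sub_cancel_left]
    exact Submodule.smul_mem _ _ (Submodule.subset_span (by simp))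
  have ha0X := hsmulX a0 _ ha0M ha0v
  have hb0X := hsmulX b0 _ hb0M hb0v
  have ha0T : a0 ∈ tvGroup e := ⟨_, by rw [hedef]; exact cf_ev_ne P h10, ha0v⟩
  have hb0T : b0 ∈ tvGroup e := ⟨_, by rw [hedef]; exact cf_ev_ne P h20, hb0v⟩
  -- the Frobenius argument
  have hEtop : (tvGroup e).subgroupOf (lineGroup M e y) = ⊤ := by
    refine frob_noncyclic (ringChar F) _ ?_ ?_ ?_ ⟨a0, ha0X⟩ ⟨b0, hb0X⟩ ?_ ?_ ?_ ?_
    · intro a ha
      rw [Subgroup.mem_subgroupOf] at ha
      apply Subtype.ext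
      rw [Subgroup.coe_pow, Subgroup.coe_one]
      exact tv_pow_char ha
    · intro a ha b hb
      rw [Subgroup.mem_subgroupOf] at ha hb
      apply Subtype.ext
      rw [Subgroup.coe_mul, Subgroup.coe_mul]
      exact tv_comm ha hb
    · intro x hx a ha hc
      rw [Subgroup.mem_subgroupOf] at ha hc hx
      rw [Subgroup.coe_mul, Subgroup.coe_mul, Subgroup.coe_inv] at hc
      obtain ⟨s, hs, hav⟩ := ha
      obtain ⟨s', hs', hcv⟩ := hc
      by_contra ha1
      have hs0 : s ≠ 0 := by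
        intro h0
        apply ha1
        apply Subtype.ext
        apply Units.ext
        apply mat_eq_of_mulVec
        intro v
        rw [hav, h0, LinearMap.zero_apply, zero_smul, add_zero, Subgroup.coe_one, Units.val_one,
          Matrix.one_mulVec]
      obtain ⟨w, hw⟩ : ∃ w, s w ≠ 0 := by
        by_contra hall
        push Not at hall
        exact hs0 (LinearMap.ext hall)
      have h1 := hcv (((x : GL (Fin n) F) : Matrix (Fin n) (Fin n) F) *ᵥ w)
      rw [Units.val_mul, Units.val_mul, ← Matrix.mulVec_mulVec, ← Matrix.mulVec_mulVec,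
        inv_mul_mulVec, hav, Matrix.mulVec_add, Matrix.mulVec_smul] at h1
      have h2 : s w • (((x : GL (Fin n) F) : Matrix (Fin n) (Fin n) F) *ᵥ e) =
          s' (((x : GL (Fin n) F) : Matrix (Fin n) (Fin n) F) *ᵥ w) • e := add_left_cancel h1
      have h3 : ((x : GL (Fin n) F) : Matrix (Fin n) (Fin n) F) *ᵥ e =
          ((s w)⁻¹ * s' (((x : GL (Fin n) F) : Matrix (Fin n) (Fin n) F) *ᵥ w)) • e := by
        rw [mul_smul, ← h2, smul_smul, inv_mul_cancel₀ hw, one_smul]
      have hxX : (x : GL (Fin n) F) ∈ lineGroup M e ((g : Matrix (Fin n) (Fin n) F) *ᵥ e) := by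
        rw [← hydef]; exact x.2
      exact hx (stab_lineGroup hn h hMS hg hgS he he0 hxX h3)
    · rw [Subgroup.mem_subgroupOf]; exact ha0T
    · rw [Subgroup.mem_subgroupOf]; exact hb0T
    · intro h1
      have h2 : a0 = 1 := congrArg Subtype.val h1
      have h3 := ha0v (ev P i1)
      rw [h2, Units.val_one, Matrix.one_mulVec, cf_ev_same, one_smul] at h3
      exact he0 (by simpa using h3.symm)
    · intro hmem
      rw [← mem_powers_iff_mem_zpowers] at hmem
      obtain ⟨k, hk⟩ := (Submonoid.mem_powers_iff _ _).mp hmem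
      have hk' : a0 ^ k = b0 := by
        have := congrArg Subtype.val hk
        rwa [Subgroup.coe_pow] at this
      have h3 := tv_pow (by rw [hedef]; exact cf_ev_ne P h10) ha0v k (ev P i2)
      rw [hk', hb0v, cf_ev_same, one_smul, cf_ev_ne P h12, mul_zero, zero_smul, add_zero] at h3
      exact he0 (by simpa using h3)
  -- a conjugate transvection in the line group with centre `g e`
  have hginv : g⁻¹ ∈ M := M.inv_mem hg
  obtain ⟨z, hzdef⟩ : ∃ z : Fin n → F,
      z = ((g⁻¹ : GL (Fin n) F) : Matrix (Fin n) (Fin n) F) *ᵥ e := ⟨_, rfl⟩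
  have hz0 : z ≠ 0 := by
    intro hz
    apply he0
    have := mul_inv_mulVec g e
    rw [← hzdef, hz, Matrix.mulVec_zero] at this
    exact this.symm
  obtain ⟨j, hj0, hjz⟩ : ∃ j : Fin n, j ≠ i0 ∧ cf P j z ≠ 0 := by
    by_contra hall
    push Not at hall
    obtain ⟨c, hcdef⟩ : ∃ c : F, c = cf P i0 z := ⟨_, rfl⟩
    have hzz : z = c • e := by
      conv_lhs => rw [decomp P z]
      rw [Finset.sum_eq_single i0]
      · rw [hedef, hcdef]
      · intro l _ hl
        rw [hall l hl, zero_smul]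
      · intro hni
        exact absurd (Finset.mem_univ _) hni
    have hc0 : c ≠ 0 := by
      intro h0
      rw [h0, zero_smul] at hzz
      exact hz0 hzz
    have hgi : g⁻¹ ∈ Cfsg.Geo.subfieldSubgroup F₀ P := by
      apply L5_gen (by omega) h hginv he he0 (inv_ne_zero hc0)
      rw [← hzdef, hzz, smul_smul, inv_mul_cancel₀ hc0, one_smul]
      exact he
    apply hgS
    have := (Cfsg.Geo.subfieldSubgroup F₀ P).inv_mem hgi
    rwa [inv_inv] at this
  have hT := TM_conj hg (h.rat (by omega) (isRatF_cf P j) he (by rw [hedef]; exact cf_ev_ne P hj0))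
  obtain ⟨-, t, htM, htv⟩ := hT
  have htX : t ∈ lineGroup M e y := by
    refine ⟨htM, fun v => ?_⟩
    rw [htv, add_sub_cancel_left, ← hydef]
    exact Submodule.smul_mem _ _ (Submodule.subset_span (by simp))
  have htE : (⟨t, htX⟩ : lineGroup M e y) ∈ (tvGroup e).subgroupOf (lineGroup M e y) := by
    rw [hEtop]; exact Subgroup.mem_top _
  rw [Subgroup.mem_subgroupOf] at htE
  obtain ⟨s, hs, hsv⟩ := htE
  have h1 := htv e
  rw [hsv e, hs, zero_smul, LinearMap.comp_apply, Matrix.toLin'_apply, ← hzdef, ← hydef] at h1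
  have h2 : cf P j z • y = 0 := by
    have := add_left_cancel h1
    exact this.symm
  rcases smul_eq_zero.mp h2 with h3 | h3
  · exact hjz h3
  · exact hy0 h3

end Cfsg.Agent.Lib.Helper24.SL6S

namespace Cfsg.Agent.Lib.Helper24.SL6S
open Cfsg Cfsg.Geo Matrix Cfsg.Agent.Lib.Helper5.LSub

/-- C5: subfield groups, `4 ≤ n`. -/
theorem c5_max_four {F : Type*} [Field F] [Fintype F] (n : ℕ) (hn : 4 ≤ n) (F₀ : Subfield F) (r : ℕ)
    (hr : r.Prime) (hcard : Fintype.card F = Nat.card F₀ ^ r) (P : GL (Fin n) F) :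
    IsMaximalIn (specialLinear (Fin n) F) (subfieldSubgroup F₀ P ⊓ specialLinear (Fin n) F) := by
  have hfr : Module.finrank F₀ F = r := finrank_eq_of_card F₀ hcard
  have hp : (Module.finrank F₀ F).Prime := by rw [hfr]; exact hr
  refine ⟨subfield_lt (by omega) F₀ P hp.two_le, fun M hHM hMS => ?_⟩
  by_cases hM : Cfsg.Geo.specialLinear (Fin n) F ≤ M
  · right
    exact le_antisymm hMS hM
  · left
    have hctx : Ctx F₀ P M := ⟨hHM, hM, hp⟩
    apply le_antisymm _ hHM
    intro g hg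
    exact Subgroup.mem_inf.mpr ⟨hard_case_frob hn hctx hMS hg, hMS hg⟩

end Cfsg.Agent.Lib.Helper24.SL6S
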