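import Cfsg.Agent.Lib.Helper17.SLMDefs

/-!
# SLnMax stage 2, leaf Q8 `lines4_five` (S5781, `q = 5`): definitions (helper24, sub-planner)

`R₀ = 4 ∘ 2^{1+4} ≤ GL_4(F)` in the standard basis, for a field `F` with an element `i`, `i² = -1`:
`R₀ = {W(k,a,b) = i^k X_a Z_b}`, `X_a e_y = e_{y ⊕ a}`, `Z_b e_y = (-1)^{b·y} e_y` (`y, a, b ∈ Fin 4 = F_2²`, `⊕` = bitwise xor).
`G64` is the abstract group of the parameters `(k, a, b)`; `WGL : G64 →* GL_4(F)` is the representation.
All index functions are defined with the bit operations of `ℕ`, so that `decide +kernel` is fast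
(4096 cases in about 5 s; write statements with explicit `∀ k a b : Fin 4`, not `∀ p : G64`).
-/

set_option autoImplicit false

namespace Cfsg.Agent.Lib.Helper24.SLMQ8

open Matrix

/-- bitwise xor on `Fin 4` (addition of `F_2²`) -/
def vx (x a : Fin 4) : Fin 4 := ⟨x.val ^^^ a.val, Nat.xor_lt_two_pow (n := 2) x.isLt a.isLt⟩

/-- the `F_2`-bilinear dot product on `Fin 4 = F_2²`, with values `0, 1 : ℕ` -/
def dt (b y : Fin 4) : ℕ := ((b.val &&& y.val) % 2 + (b.val &&& y.val) / 2) % 2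

/-- twice the dot product, in `Fin 4 = ℤ/4` -/
def tw (b y : Fin 4) : Fin 4 := ⟨2 * dt b y, by unfold dt; omega⟩

theorem vx_assoc : ∀ x a b : Fin 4, vx (vx x a) b = vx x (vx a b) := by decide
theorem vx_comm : ∀ x a : Fin 4, vx x a = vx a x := by decide
theorem vx_self : ∀ x : Fin 4, vx x x = 0 := by decide
theorem vx_zero : ∀ x : Fin 4, vx x 0 = x := by decide
theorem zero_vx : ∀ x : Fin 4, vx 0 x = x := by decide
theorem vx_vx_cancel : ∀ x a : Fin 4, vx (vx x a) a = x := by decide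
theorem tw_vx_left : ∀ b b' a : Fin 4, tw (vx b b') a = tw b a + tw b' a := by decide
theorem tw_vx_right : ∀ b a a' : Fin 4, tw b (vx a a') = tw b a + tw b a' := by decide
theorem tw_add_self : ∀ b a : Fin 4, tw b a + tw b a = 0 := by decide
theorem tw_zero_left : ∀ a : Fin 4, tw 0 a = 0 := by decide
theorem tw_zero_right : ∀ b : Fin 4, tw b 0 = 0 := by decide
theorem dt_lt_two : ∀ b y : Fin 4, dt b y < 2 := by decide
theorem dt_zero_left : ∀ y : Fin 4, dt 0 y = 0 := by decide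
theorem dt_zero_right : ∀ b : Fin 4, dt b 0 = 0 := by decide
theorem dt_comm : ∀ b y : Fin 4, dt b y = dt y b := by decide
theorem dt_vx_right : ∀ b y a : Fin 4, (dt b (vx y a)) % 2 = (dt b y + dt b a) % 2 := by decide
theorem dt_vx_left : ∀ b b' y : Fin 4, (dt (vx b b') y) % 2 = (dt b y + dt b' y) % 2 := by decide

/-- the parameters `(k, a, b)` of `i^k X_a Z_b` -/
structure G64 where
  k : Fin 4
  a : Fin 4
  b : Fin 4
  deriving DecidableEq

namespace G64

/-- `G64 ≃ Fin 4 × Fin 4 × Fin 4` -/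
def equivProd : G64 ≃ Fin 4 × Fin 4 × Fin 4 where
  toFun p := (p.k, p.a, p.b)
  invFun t := ⟨t.1, t.2.1, t.2.2⟩
  left_inv _ := rfl
  right_inv _ := rfl

instance : Fintype G64 := Fintype.ofEquiv _ equivProd.symm

instance : Mul G64 := ⟨fun p q => ⟨p.k + q.k + tw p.b q.a, vx p.a q.a, vx p.b q.b⟩⟩
instance : One G64 := ⟨⟨0, 0, 0⟩⟩
instance : Inv G64 := ⟨fun p => ⟨-p.k + tw p.b p.a, p.a, p.b⟩⟩

theorem mul_def (p q : G64) : p * q = ⟨p.k + q.k + tw p.b q.a, vx p.a q.a, vx p.b q.b⟩ := rfl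
theorem one_def : (1 : G64) = ⟨0, 0, 0⟩ := rfl
theorem inv_def (p : G64) : p⁻¹ = ⟨-p.k + tw p.b p.a, p.a, p.b⟩ := rfl

@[ext] theorem ext' {p q : G64} (hk : p.k = q.k) (ha : p.a = q.a) (hb : p.b = q.b) : p = q := by
  cases p; cases q; simp_all

instance : Group G64 :=
  Group.ofLeftAxioms
    (fun p q r => by
      apply ext'
      · show p.k + q.k + tw p.b q.a + r.k + tw (vx p.b q.b) r.a =
          p.k + (q.k + r.k + tw q.b r.a) + tw p.b (vx q.a r.a)
        rw [tw_vx_left, tw_vx_right]; abel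
      · exact vx_assoc _ _ _
      · exact vx_assoc _ _ _)
    (fun p => by
      apply ext'
      · show (0 : Fin 4) + p.k + tw 0 p.a = p.k
        rw [tw_zero_left]; abel
      · exact zero_vx _
      · exact zero_vx _)
    (fun p => by
      apply ext'
      · show -p.k + tw p.b p.a + p.k + tw p.b p.a = 0
        have := tw_add_self p.b p.a
        calc -p.k + tw p.b p.a + p.k + tw p.b p.a = tw p.b p.a + tw p.b p.a := by abel
          _ = 0 := this
      · exact vx_self _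
      · exact vx_self _)

end G64

variable {F : Type*} [Field F]

/-- the monomial matrix `e_y ↦ c y • e_(σ y)` -/
def mono (σ : Fin 4 → Fin 4) (c : Fin 4 → F) : Matrix (Fin 4) (Fin 4) F := fun x y => if x = σ y then c y else 0

theorem mono_apply (σ : Fin 4 → Fin 4) (c : Fin 4 → F) (x y : Fin 4) :
    mono σ c x y = if x = σ y then c y else 0 := rfl

theorem mono_mul (σ σ' : Fin 4 → Fin 4) (c c' : Fin 4 → F) :
    mono σ c * mono σ' c' = mono (σ ∘ σ') (fun y => c (σ' y) * c' y) := by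
  ext x z
  rw [Matrix.mul_apply, Finset.sum_eq_single (σ' z)]
  · simp only [mono_apply, if_true, Function.comp_apply]
    split_ifs <;> simp
  · intro y _ hy
    simp only [mono_apply, if_neg hy, mul_zero]
  · intro h; exact absurd (Finset.mem_univ _) h

theorem mono_id_one : mono (F := F) id (fun _ => 1) = 1 := by
  ext x y
  simp only [mono_apply, id, Matrix.one_apply]

theorem mono_mulVec_single (σ : Fin 4 → Fin 4) (c : Fin 4 → F) (y : Fin 4) :
    mono σ c *ᵥ Pi.single y 1 = c y • Pi.single (σ y) 1 := by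
  ext x
  simp only [Matrix.mulVec_single_one, Pi.smul_apply, smul_eq_mul, Pi.single_apply, Matrix.col_apply, mono_apply,
    mul_ite, mul_one, mul_zero]

/-- the coefficient function of `W(k,a,b)`: `y ↦ i^k (-1)^(b·y)` -/
def Wc (i : F) (p : G64) (y : Fin 4) : F := i ^ p.k.val * (-1) ^ dt p.b y

/-- the matrix `W(k,a,b) = i^k X_a Z_b`: `e_y ↦ i^k (-1)^(b·y) e_(y ⊕ a)` -/
def Wm (i : F) (p : G64) : Matrix (Fin 4) (Fin 4) F := mono (fun y => vx y p.a) (Wc i p)

theorem Wm_one (i : F) : Wm i 1 = 1 := by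
  rw [← mono_id_one]
  unfold Wm Wc
  congr 1
  · funext y; exact vx_zero y
  · funext y
    show i ^ (0 : Fin 4).val * (-1) ^ dt 0 y = 1
    rw [dt_zero_left]; simp

theorem Wc_mul_aux : ∀ k k' b b' a' y : Fin 4,
    (k.val + 2 * dt b (vx y a') + (k'.val + 2 * dt b' y)) % 4 =
      ((k + k' + tw b a').val + 2 * dt (vx b b') y) % 4 := by decide +kernel

theorem Wm_mul {i : F} (hi : i * i = -1) (p q : G64) : Wm i p * Wm i q = Wm i (p * q) := by
  have hm1 : (-1 : F) = i ^ 2 := by rw [pow_two, hi]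
  have hi4 : i ^ 4 = 1 := by
    have : i ^ 4 = (i * i) * (i * i) := by ring
    rw [this, hi]; ring
  unfold Wm
  rw [mono_mul]
  congr 1
  · funext y
    show vx (vx y q.a) p.a = vx y (vx p.a q.a)
    rw [vx_assoc, vx_comm q.a]
  · funext y
    show Wc i p (vx y q.a) * Wc i q y = Wc i (p * q) y
    unfold Wc
    have hL : i ^ p.k.val * (-1) ^ dt p.b (vx y q.a) * (i ^ q.k.val * (-1) ^ dt q.b y) =
        i ^ (p.k.val + 2 * dt p.b (vx y q.a) + (q.k.val + 2 * dt q.b y)) := by
      rw [hm1, ← pow_mul, ← pow_mul, ← pow_add, ← pow_add, ← pow_add]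
    have hR : i ^ (p * q).k.val * (-1) ^ dt (p * q).b y = i ^ ((p * q).k.val + 2 * dt (p * q).b y) := by
      rw [hm1, ← pow_mul, ← pow_add]
    rw [hL, hR, pow_eq_pow_mod _ hi4, pow_eq_pow_mod ((p * q).k.val + _) hi4]
    congr 1
    exact Wc_mul_aux p.k q.k p.b q.b q.a y

/-- the representation `G64 → GL_4(F)`, `(k,a,b) ↦ i^k X_a Z_b` -/
def WGL (i : F) (hi : i * i = -1) : G64 →* GL (Fin 4) F where
  toFun p := ⟨Wm i p, Wm i p⁻¹, by rw [Wm_mul hi, mul_inv_cancel, Wm_one],
    by rw [Wm_mul hi, inv_mul_cancel, Wm_one]⟩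
  map_one' := Units.ext (Wm_one i)
  map_mul' p q := Units.ext (Wm_mul hi p q).symm

@[simp] theorem WGL_val (i : F) (hi : i * i = -1) (p : G64) :
    ((WGL i hi p : GL (Fin 4) F) : Matrix (Fin 4) (Fin 4) F) = Wm i p := rfl

/-- `R₀ = 4 ∘ 2^{1+4}` in the standard basis -/
def R0 (i : F) (hi : i * i = -1) : Subgroup (GL (Fin 4) F) := (WGL i hi).range

end Cfsg.Agent.Lib.Helper24.SLMQ8
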