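import Cfsg.Agent.Lib.Helper24.SLMinC1Rel
import Cfsg.Agent.Lib.Helper13.SLMinW
import Cfsg.Agent.Lib.Helper10.SLMinStage
import Cfsg.Agent.Lib.Helper25.SLMinSym3

/-!
# S2332, leaf C1 (`stage0`): inputs (M1), (M2) and the assembly

`stage0_core` is `stage0` with the two levi-diagonal symmetry inputs (S2) (`|J| = 2`, `q ≥ 4`) and
(X1) (`|J| = 1`, `q ∉ {2, 4}`) as hypotheses, in the shapes fixed by the C1 sub-plan.
-/

set_option autoImplicit false
set_option linter.unusedSectionVars false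

namespace Cfsg.Agent.Lib.Helper24.SLMin

open Matrix Module Cfsg.Agent.Lib.Helper16.SLMin

variable {F : Type*} [Field F] [Fintype F] [DecidableEq F] {M : Type*} [AddCommGroup M]
  [Module ℂ M] [FiniteDimensional ℂ M] {J : Type*} [Fintype J] [DecidableEq J]
  (ρ : Representation ℂ (SpecialLinearGroup (Unit ⊕ (Unit ⊕ J)) F) M)

/-- the weight spaces of the first-row radical split along `rx` and `ra` -/
theorem wt_rad_elim (a : Unit → F) (v : J → F) :
    wt ρ (rad (F := F) (ι' := Unit ⊕ J)) (Sum.elim a v) =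
      wt ρ (rx (F := F) (J := J)) a ⊓ wt ρ (ra (F := F) (J := J)) v :=
  Cfsg.Agent.Lib.Helper13.SLMin.wt_sum_elim ρ (rad (F := F) (ι' := Unit ⊕ J)) rad_add a v

theorem elim_ne_zero {a : Unit → F} {v : J → F} (h : a ≠ 0 ∨ v ≠ 0) :
    (Sum.elim a v : Unit ⊕ J → F) ≠ 0 := by
  intro h0
  rcases h with h | h
  · apply h
    funext u
    exact congrFun h0 (Sum.inl u)
  · apply h
    funext j
    exact congrFun h0 (Sum.inr j)

/-- (M1) -/
theorem stage0_hM1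
    (hm1 : ∀ u : Unit ⊕ J → F, u ≠ 0 →
      finrank ℂ ↥(wt ρ (rad (F := F) (ι' := Unit ⊕ J)) u) = 1) :
    ∀ (a : Unit → F) (v : J → F), (a ≠ 0 ∨ v ≠ 0) →
      finrank ℂ ↥((⊤ : Submodule ℂ M) ⊓ wt ρ (rx (F := F) (J := J)) a ⊓
        wt ρ (ra (F := F) (J := J)) v) = 1 := by
  intro a v h
  rw [top_inf_eq, ← wt_rad_elim]
  exact hm1 _ (elim_ne_zero h)

/-- (M2), via the Weyl element -/
theorem stage0_hM2
    (hm1 : ∀ u : Unit ⊕ J → F, u ≠ 0 →
      finrank ℂ ↥(wt ρ (rad (F := F) (ι' := Unit ⊕ J)) u) = 1) :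
    ∀ w : J → F, w ≠ 0 →
      finrank ℂ ↥((⊤ : Submodule ℂ M) ⊓ wt ρ (rb (F := F) (J := J)) w) = Fintype.card F := by
  intro w hw
  rw [top_inf_eq]
  have h1 : Submodule.map (ρ weyl) (wt ρ (ra (F := F) (J := J)) w) =
      wt ρ (rb (F := F) (J := J)) w :=
    Cfsg.Agent.Lib.Helper13.SLMin.map_wt_of_conj ρ ra rb weyl id Function.surjective_id
      (fun r => weyl_ra r) w w (fun _ => rfl)
  rw [← h1, Cfsg.Agent.Lib.Helper13.SLMin.finrank_map_rho,
    Cfsg.Agent.Lib.Helper13.SLMin.finrank_eq_sum_inf_wt ρ (rx (F := F) (J := J)) rx_add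
      (wt ρ (ra (F := F) (J := J)) w)]
  · have h2 : ∀ a : Unit → F, finrank ℂ ↥(wt ρ (ra (F := F) (J := J)) w ⊓
        wt ρ (rx (F := F) (J := J)) a) = 1 := by
      intro a
      rw [inf_comm, ← wt_rad_elim]
      exact hm1 _ (elim_ne_zero (Or.inr hw))
    simp only [h2, Finset.sum_const, Finset.card_univ, smul_eq_mul, mul_one]
    rw [Fintype.card_fun, Fintype.card_unit, pow_one]
  · intro r m hm
    exact Cfsg.Agent.Lib.Helper10.SLMin.wt_map_of_comm ρ ra (rx r) (fun s => rx_ra_comm r s) w hm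

/-- in a one-dimensional coordinate space there are no independent pairs -/
theorem not_linearIndependent_of_card_eq_one (h1 : Fintype.card J = 1) (v w : J → F) :
    ¬ LinearIndependent F ![v, w] := by
  intro h
  have := h.fintype_card_le_finrank
  rw [Fintype.card_fin, Module.finrank_fintype_fun_eq_card, h1] at this
  omega

/-- `stage0`, with the two levi-diagonal symmetry inputs as hypotheses. -/
theorem stage0_core
    (hm1 : ∀ u : Unit ⊕ J → F, u ≠ 0 →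
      finrank ℂ ↥(wt ρ (rad (F := F) (ι' := Unit ⊕ J)) u) = 1)
    (hgen : 3 ≤ Fintype.card J ∨ (Fintype.card J = 2 ∧ 4 ≤ Fintype.card F) ∨
      (Fintype.card J = 1 ∧ Fintype.card F ≠ 2 ∧ Fintype.card F ≠ 4))
    (hS2 : Fintype.card J = 2 → 4 ≤ Fintype.card F →
      ∀ v w : J → F, LinearIndependent F ![v, w] → ∃ S : Finset (J → F),
        Fintype.card F < S.card ∧ ∀ w' ∈ S,
          finrank ℂ ↥((⊤ : Submodule ℂ M) ⊓ wt ρ (ra (F := F) (J := J)) v ⊓
            wt ρ (rb (F := F) (J := J)) w') =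
          finrank ℂ ↥((⊤ : Submodule ℂ M) ⊓ wt ρ (ra (F := F) (J := J)) v ⊓
            wt ρ (rb (F := F) (J := J)) w))
    (hX1 : Fintype.card J = 1 → Fintype.card F ≠ 2 → Fintype.card F ≠ 4 →
      ∀ a : Unit → F, a ≠ 0 → ∀ w : J → F, w ≠ 0 →
        ∃ (g : SpecialLinearGroup (Unit ⊕ (Unit ⊕ J)) F) (w' : J → F), w' ≠ w ∧
          Submodule.map (ρ g) ((⊤ : Submodule ℂ M) ⊓ wt ρ (rx (F := F) (J := J)) a ⊓
            wt ρ (ra (F := F) (J := J)) 0) =
            (⊤ : Submodule ℂ M) ⊓ wt ρ (rx (F := F) (J := J)) a ⊓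
              wt ρ (ra (F := F) (J := J)) 0 ∧
          Submodule.map (ρ g) ((⊤ : Submodule ℂ M) ⊓ wt ρ (ra (F := F) (J := J)) 0 ⊓
            wt ρ (rb (F := F) (J := J)) w) =
            (⊤ : Submodule ℂ M) ⊓ wt ρ (ra (F := F) (J := J)) 0 ⊓
              wt ρ (rb (F := F) (J := J)) w') :
    ∀ w : J → F, w ≠ 0 →
      finrank ℂ ↥(wt ρ (rad (F := F) (ι' := Unit ⊕ J)) 0 ⊓ wt ρ (rb (F := F) (J := J)) w) = 1 := by
  have hM1 := stage0_hM1 ρ hm1
  have hM2 := stage0_hM2 ρ hm1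
  have hN : ∀ (g : SpecialLinearGroup (Unit ⊕ (Unit ⊕ J)) F), ∀ m ∈ (⊤ : Submodule ℂ M),
      ρ g m ∈ (⊤ : Submodule ℂ M) := fun _ _ _ => Submodule.mem_top
  -- the symmetry input of A1
  have hSym : ∀ v w : J → F, LinearIndependent F ![v, w] → ∃ S : Finset (J → F),
      Fintype.card F < S.card ∧ ∀ w' ∈ S,
        finrank ℂ ↥((⊤ : Submodule ℂ M) ⊓ wt ρ (ra (F := F) (J := J)) v ⊓
          wt ρ (rb (F := F) (J := J)) w') =
        finrank ℂ ↥((⊤ : Submodule ℂ M) ⊓ wt ρ (ra (F := F) (J := J)) v ⊓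
          wt ρ (rb (F := F) (J := J)) w) := by
    rcases hgen with h3 | ⟨h2, hq⟩ | ⟨h1, _, _⟩
    · exact Cfsg.Agent.Lib.Helper25.SLMin.stage0_hSym_ge3 ρ h3
    · exact hS2 h2 hq
    · intro v w hvw
      exact absurd hvw (not_linearIndependent_of_card_eq_one h1 v w)
  have hC := Cfsg.Agent.Lib.Helper10.SLMin.rank2_excl_abstract ρ (rx (F := F) (J := J)) ra rb
    rx_add ra_add rb_add rx_ra_comm ra_rb_comm rx_rb_conj ⊤ (fun t => hN (rx t))
    (fun v => hN (ra v)) (fun w => hN (rb w)) hM1 hSym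
  -- the mixing input of A2
  have hMix : ∀ a : Unit → F, a ≠ 0 → ∀ w : J → F, w ≠ 0 →
      ∃ (g : SpecialLinearGroup (Unit ⊕ (Unit ⊕ J)) F) (w' : J → F), w' ≠ w ∧
        Submodule.map (ρ g) ((⊤ : Submodule ℂ M) ⊓ wt ρ (rx (F := F) (J := J)) a ⊓
          wt ρ (ra (F := F) (J := J)) 0) =
          (⊤ : Submodule ℂ M) ⊓ wt ρ (rx (F := F) (J := J)) a ⊓ wt ρ (ra (F := F) (J := J)) 0 ∧
        Submodule.map (ρ g) ((⊤ : Submodule ℂ M) ⊓ wt ρ (ra (F := F) (J := J)) 0 ⊓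
          wt ρ (rb (F := F) (J := J)) w) =
          (⊤ : Submodule ℂ M) ⊓ wt ρ (ra (F := F) (J := J)) 0 ⊓
            wt ρ (rb (F := F) (J := J)) w' := by
    rcases hgen with h3 | ⟨h2, _⟩ | ⟨h1, hq2, hq4⟩
    · exact Cfsg.Agent.Lib.Helper25.SLMin.stage0_hMix_ge2 ρ (by omega)
    · exact Cfsg.Agent.Lib.Helper25.SLMin.stage0_hMix_ge2 ρ (by omega)
    · exact hX1 h1 hq2 hq4
  have hA2 := Cfsg.Agent.Lib.Helper10.SLMin.stage_abstract ρ (rx (F := F) (J := J)) ra rb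
    rx_add ra_add rb_add rx_ra_comm ra_rb_comm rx_rb_conj ⊤ (fun t => hN (rx t))
    (fun v => hN (ra v)) (fun w => hN (rb w)) hM1 hM2 hC hMix
  intro w hw
  have h := hA2 w hw
  rw [top_inf_eq, ← wt_rad_elim] at h
  have e : (Sum.elim (0 : Unit → F) (0 : J → F) : Unit ⊕ J → F) = 0 := by
    funext i
    cases i <;> rfl
  rw [e] at h
  exact h

end Cfsg.Agent.Lib.Helper24.SLMin
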