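import Cfsg.Agent.Lib.Helper16.SLMinDefs
import Cfsg.Agent.Lib.Helper27.MinDegA

/-!
# S2332, leaf C1: the stage-0 relations in `SL (Unit ⊕ (Unit ⊕ J)) F`

Pure matrix identities for the root maps `rx`, `ra`, `rb` of `Helper16.SLMinDefs`:
additivity, commutation, the commutator relation `rx t * rb w * (rx t)⁻¹ = rb w * ra (t () • w)`,
the action of `emb (emb h)` (`h ∈ SL J`), of the Weyl element swapping rows 1 and 2, and of the
torus elements `levi (bd c h)`.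
-/

set_option autoImplicit false

namespace Cfsg.Agent.Lib.Helper24.SLMin

open Matrix Cfsg.Agent.Lib.Helper16.SLMin Cfsg.Agent.Lib.Helper27.MinDeg

section rel

variable {F : Type*} [Field F] {J : Type*} [Fintype J] [DecidableEq J]

theorem rad_inv {ι' : Type*} [Fintype ι'] [DecidableEq ι'] (r : ι' → F) :
    (rad r)⁻¹ = rad (-r) := by
  rw [inv_eq_iff_mul_eq_one, ← rad_add, add_neg_cancel, rad_zero]

theorem rad_comm {ι' : Type*} [Fintype ι'] [DecidableEq ι'] (r s : ι' → F) :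
    rad r * rad s = rad s * rad r := by
  rw [← rad_add, ← rad_add, add_comm]

omit [Fintype J] [DecidableEq J] in
theorem elim_add_elim (a b : Unit → F) (v w : J → F) :
    (Sum.elim (a + b) (v + w) : Unit ⊕ J → F) = Sum.elim a v + Sum.elim b w := by
  ext i
  cases i <;> rfl

theorem rx_add (s t : Unit → F) : rx (J := J) (s + t) = rx s * rx t := by
  unfold rx
  rw [← rad_add, ← elim_add_elim, add_zero]

theorem ra_add (v w : J → F) : ra (v + w) = ra v * ra w := by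
  unfold ra
  rw [← rad_add, ← elim_add_elim, add_zero]

theorem rb_add (v w : J → F) : rb (v + w) = rb v * rb w := by
  unfold rb
  rw [rad_add, map_mul]

theorem rx_ra_comm (t : Unit → F) (v : J → F) : rx t * ra v = ra v * rx t := by
  unfold rx ra
  exact rad_comm _ _

theorem rx_mul_ra (t : Unit → F) (v : J → F) : rx t * ra v = rad (Sum.elim t v) := by
  unfold rx ra
  rw [← rad_add, ← elim_add_elim, add_zero, zero_add]

/-- row vector `(a, v)` times the block matrix `[[1, s], [0, 1]]` -/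
theorem elim_vecMul_rad (a : Unit → F) (v s : J → F) :
    (Sum.elim a v : Unit ⊕ J → F) ᵥ* ((rad s : SpecialLinearGroup (Unit ⊕ J) F) :
      Matrix (Unit ⊕ J) (Unit ⊕ J) F) = Sum.elim a (a () • s + v) := by
  rw [rad_coe]
  ext i
  cases i with
  | inl u =>
    cases u
    simp [vecMul, dotProduct, fromBlocks]
  | inr j =>
    simp [vecMul, dotProduct, fromBlocks, Matrix.one_apply, replicateRow_apply]

/-- `rb w` conjugates the first-row radical -/
theorem rb_rad (w : J → F) (a : Unit → F) (v : J → F) :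
    rb w * rad (Sum.elim a v) * (rb w)⁻¹ = rad (Sum.elim a (v - a () • w)) := by
  unfold rb
  rw [emb_rad, rad_inv, elim_vecMul_rad]
  congr 2
  rw [smul_neg, neg_add_eq_sub]

theorem ra_rb_comm (v w : J → F) : ra v * rb w = rb w * ra v := by
  have h := rb_rad w (0 : Unit → F) v
  rw [Pi.zero_apply, zero_smul, sub_zero] at h
  rw [mul_inv_eq_iff_eq_mul] at h
  exact h.symm

theorem rx_rb_conj (t : Unit → F) (w : J → F) :
    rx t * rb w * (rx t)⁻¹ = rb w * ra (t () • w) := by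
  have h := rb_rad w (-t) (0 : J → F)
  rw [Pi.neg_apply, neg_smul, zero_sub, neg_neg, mul_inv_eq_iff_eq_mul] at h
  -- h : rb w * rad (elim (-t) 0) = rad (elim (-t) (t • w)) * rb w
  have e1 : rad (Sum.elim (-t) (0 : J → F)) = (rx t)⁻¹ := by
    unfold rx
    rw [rad_inv]
    congr 1
    ext i
    cases i <;> simp
  have e2 : rad (Sum.elim (-t) (t () • w)) = (rx t)⁻¹ * ra (t () • w) := by
    rw [← e1]
    unfold ra
    rw [← rad_add, ← elim_add_elim, add_zero, zero_add]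
  rw [e1, e2] at h
  -- h : rb w * (rx t)⁻¹ = (rx t)⁻¹ * ra (t • w) * rb w
  rw [mul_assoc, h, ← mul_assoc, ← mul_assoc, mul_inv_cancel, one_mul, ra_rb_comm]

end rel


section embemb

variable {F : Type*} [Field F] {J : Type*} [Fintype J] [DecidableEq J]

/-- row vector `(a, v)` times `[[1, 0], [0, g]]` -/
theorem elim_vecMul_emb (a : Unit → F) (v : J → F) (g : SpecialLinearGroup J F) :
    (Sum.elim a v : Unit ⊕ J → F) ᵥ* ((emb g : SpecialLinearGroup (Unit ⊕ J) F) :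
      Matrix (Unit ⊕ J) (Unit ⊕ J) F) = Sum.elim a (v ᵥ* (g : Matrix J J F)) := by
  rw [emb_coe]
  ext i
  cases i with
  | inl u =>
    cases u
    simp [vecMul, dotProduct, fromBlocks]
  | inr j =>
    simp [vecMul, dotProduct, fromBlocks]

/-- `emb (emb h)` acts on the first-row radical through `h` on the `J`-part. -/
theorem embemb_rad (h : SpecialLinearGroup J F) (a : Unit → F) (v : J → F) :
    emb (emb h) * rad (Sum.elim a v) * (emb (emb h))⁻¹ =
      rad (Sum.elim a (v ᵥ* ((h⁻¹ : SpecialLinearGroup J F) : Matrix J J F))) := by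
  rw [emb_rad, ← map_inv, elim_vecMul_emb]

theorem embemb_rx (h : SpecialLinearGroup J F) (t : Unit → F) :
    emb (emb h) * rx t * (emb (emb h))⁻¹ = rx t := by
  unfold rx
  rw [embemb_rad, zero_vecMul]

theorem embemb_ra (h : SpecialLinearGroup J F) (v : J → F) :
    emb (emb h) * ra v * (emb (emb h))⁻¹ =
      ra (v ᵥ* ((h⁻¹ : SpecialLinearGroup J F) : Matrix J J F)) := by
  unfold ra
  rw [embemb_rad]

theorem embemb_rb (h : SpecialLinearGroup J F) (w : J → F) :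
    emb (emb h) * rb w * (emb (emb h))⁻¹ =
      rb (w ᵥ* ((h⁻¹ : SpecialLinearGroup J F) : Matrix J J F)) := by
  unfold rb
  rw [← map_inv, ← map_mul, ← map_mul, emb_rad]

/-- the pairing identity used to move weights: `(h v) ⬝ (r h⁻¹) = v ⬝ r` -/
theorem mulVec_dot_vecMul_inv (h : SpecialLinearGroup J F) (v r : J → F) :
    ((h : Matrix J J F) *ᵥ v) ⬝ᵥ (r ᵥ* ((h⁻¹ : SpecialLinearGroup J F) : Matrix J J F)) = v ⬝ᵥ r := by
  rw [dotProduct_comm, ← dotProduct_mulVec, mulVec_mulVec]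
  have : ((h⁻¹ : SpecialLinearGroup J F) : Matrix J J F) * (h : Matrix J J F) = 1 := by
    have e : ((h⁻¹ * h : SpecialLinearGroup J F) : Matrix J J F) = 1 := by
      rw [inv_mul_cancel]
      rfl
    exact e
  rw [this, one_mulVec, dotProduct_comm]

end embemb

section bridge

variable {F : Type*} [Field F] {ι' : Type*} [Fintype ι'] [DecidableEq ι']

/-- the first-row radical as a transvection `1 + e₀ (0, r)ᵀ` -/
theorem rad_eq_T (r : ι' → F) :
    rad r = T (Pi.single (Sum.inl ()) (1 : F)) (Sum.elim (0 : Unit → F) r) := by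
  have h : (Sum.elim (0 : Unit → F) r) ⬝ᵥ (Pi.single (Sum.inl ()) (1 : F) : Unit ⊕ ι' → F) = 0 := by
    rw [dotProduct_single]
    simp
  apply sl_ext
  rw [T_coe h, rad_coe]
  ext i j
  rcases i with u | i <;> rcases j with u' | j <;>
    simp [vecMulVec_apply, Matrix.one_apply]

/-- the block embedding of a transvection -/
theorem emb_T (v f : ι' → F) (h : f ⬝ᵥ v = 0) :
    emb (T v f) = T (Sum.elim (0 : Unit → F) v) (Sum.elim (0 : Unit → F) f) := by
  have h' : (Sum.elim (0 : Unit → F) f) ⬝ᵥ (Sum.elim (0 : Unit → F) v) = 0 := by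
    rw [dotProduct, Fintype.sum_sum_type]
    simpa [dotProduct] using h
  apply sl_ext
  rw [T_coe h', emb_coe, T_coe h]
  ext i j
  rcases i with u | i <;> rcases j with u' | j <;>
    simp [vecMulVec_apply, Matrix.one_apply, Matrix.add_apply]

end bridge

section weyl

variable {F : Type*} [Field F] {J : Type*} [Fintype J] [DecidableEq J]

/-- first basis vector of `F^(Unit ⊕ (Unit ⊕ J))` -/
def e0 : Unit ⊕ (Unit ⊕ J) → F := Pi.single (Sum.inl ()) 1

/-- second basis vector -/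
def e1 : Unit ⊕ (Unit ⊕ J) → F := Pi.single (Sum.inr (Sum.inl ())) 1

/-- a `J`-vector padded with two zeros -/
def eJ (w : J → F) : Unit ⊕ (Unit ⊕ J) → F := Sum.elim 0 (Sum.elim 0 w)

theorem e1_dot_e0 : (e1 : Unit ⊕ (Unit ⊕ J) → F) ⬝ᵥ e0 = 0 := by
  unfold e0 e1
  rw [dotProduct_single]
  simp

theorem e0_dot_e1 : (e0 : Unit ⊕ (Unit ⊕ J) → F) ⬝ᵥ e1 = 0 := by
  rw [dotProduct_comm, e1_dot_e0]

theorem e0_dot_e0 : (e0 : Unit ⊕ (Unit ⊕ J) → F) ⬝ᵥ e0 = 1 := by
  unfold e0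
  rw [dotProduct_single]
  simp

theorem e1_dot_e1 : (e1 : Unit ⊕ (Unit ⊕ J) → F) ⬝ᵥ e1 = 1 := by
  unfold e1
  rw [dotProduct_single]
  simp

theorem eJ_dot_e0 (w : J → F) : eJ w ⬝ᵥ (e0 : Unit ⊕ (Unit ⊕ J) → F) = 0 := by
  unfold e0 eJ
  rw [dotProduct_single]
  simp

theorem eJ_dot_e1 (w : J → F) : eJ w ⬝ᵥ (e1 : Unit ⊕ (Unit ⊕ J) → F) = 0 := by
  unfold e1 eJ
  rw [dotProduct_single]
  simp

theorem ra_eq_T (v : J → F) : ra v = T (e0 : Unit ⊕ (Unit ⊕ J) → F) (eJ v) := by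
  unfold ra e0 eJ
  rw [rad_eq_T]

theorem rx_eq_T (t : Unit → F) : rx (J := J) t = T (e0 : Unit ⊕ (Unit ⊕ J) → F) (t () • e1) := by
  unfold rx e0 e1
  rw [rad_eq_T]
  congr 1
  ext i
  rcases i with u | u | j <;> simp

theorem rb_eq_T (w : J → F) : rb w = T (e1 : Unit ⊕ (Unit ⊕ J) → F) (eJ w) := by
  unfold rb e1 eJ
  rw [rad_eq_T, emb_T]
  · congr 1
    ext i
    rcases i with u | u | j <;> simp
  · rw [dotProduct_single]
    simp

/-- the Weyl element `[[0,-1,0],[1,0,0],[0,0,1]]` -/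
noncomputable def weyl : SpecialLinearGroup (Unit ⊕ (Unit ⊕ J)) F :=
  T e0 (-e1) * T e1 e0 * T e0 (-e1)

theorem neg_e1_dot_e0 : (-(e1 : Unit ⊕ (Unit ⊕ J) → F)) ⬝ᵥ e0 = 0 := by
  rw [neg_dotProduct, e1_dot_e0, neg_zero]

theorem weyl_mulVec_e0 : ((weyl : SpecialLinearGroup (Unit ⊕ (Unit ⊕ J)) F) :
    Matrix (Unit ⊕ (Unit ⊕ J)) (Unit ⊕ (Unit ⊕ J)) F) *ᵥ e0 = e1 := by
  have s1 : ((T e0 (-e1) : SpecialLinearGroup (Unit ⊕ (Unit ⊕ J)) F) :
      Matrix (Unit ⊕ (Unit ⊕ J)) (Unit ⊕ (Unit ⊕ J)) F) *ᵥ e0 = e0 := by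
    rw [T_mulVec neg_e1_dot_e0, neg_e1_dot_e0, zero_smul, add_zero]
  have s2 : ((T e1 e0 : SpecialLinearGroup (Unit ⊕ (Unit ⊕ J)) F) :
      Matrix (Unit ⊕ (Unit ⊕ J)) (Unit ⊕ (Unit ⊕ J)) F) *ᵥ e0 = e0 + e1 := by
    rw [T_mulVec e0_dot_e1, e0_dot_e0, one_smul]
  have s3 : ((T e0 (-e1) : SpecialLinearGroup (Unit ⊕ (Unit ⊕ J)) F) :
      Matrix (Unit ⊕ (Unit ⊕ J)) (Unit ⊕ (Unit ⊕ J)) F) *ᵥ (e0 + e1) = e1 := by
    rw [T_mulVec neg_e1_dot_e0, neg_dotProduct, dotProduct_add, e1_dot_e0, e1_dot_e1, zero_add,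
      neg_smul, one_smul]
    abel
  unfold weyl
  rw [Matrix.SpecialLinearGroup.coe_mul, Matrix.SpecialLinearGroup.coe_mul, ← mulVec_mulVec,
    ← mulVec_mulVec, s1, s2, s3]

theorem eJ_vecMul_weyl (w : J → F) : eJ w ᵥ* ((weyl : SpecialLinearGroup (Unit ⊕ (Unit ⊕ J)) F) :
    Matrix (Unit ⊕ (Unit ⊕ J)) (Unit ⊕ (Unit ⊕ J)) F) = eJ w := by
  have s1 : eJ w ᵥ* ((T e0 (-e1) : SpecialLinearGroup (Unit ⊕ (Unit ⊕ J)) F) :
      Matrix (Unit ⊕ (Unit ⊕ J)) (Unit ⊕ (Unit ⊕ J)) F) = eJ w := by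
    rw [vecMul_T neg_e1_dot_e0, eJ_dot_e0, zero_smul, add_zero]
  have s2 : eJ w ᵥ* ((T e1 e0 : SpecialLinearGroup (Unit ⊕ (Unit ⊕ J)) F) :
      Matrix (Unit ⊕ (Unit ⊕ J)) (Unit ⊕ (Unit ⊕ J)) F) = eJ w := by
    rw [vecMul_T e0_dot_e1, eJ_dot_e1, zero_smul, add_zero]
  unfold weyl
  rw [Matrix.SpecialLinearGroup.coe_mul, Matrix.SpecialLinearGroup.coe_mul, ← vecMul_vecMul,
    ← vecMul_vecMul, s1, s2, s1]

theorem eJ_vecMul_weyl_inv (w : J → F) :
    eJ w ᵥ* (((weyl : SpecialLinearGroup (Unit ⊕ (Unit ⊕ J)) F)⁻¹ :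
      SpecialLinearGroup (Unit ⊕ (Unit ⊕ J)) F) :
      Matrix (Unit ⊕ (Unit ⊕ J)) (Unit ⊕ (Unit ⊕ J)) F) = eJ w := by
  conv_lhs => rw [← eJ_vecMul_weyl w]
  rw [vecMul_vecMul, coe_mul_coe_inv, vecMul_one]

/-- the Weyl element moves row 1 to row 2 -/
theorem weyl_ra (w : J → F) : weyl * ra w * (weyl)⁻¹ = rb w := by
  rw [ra_eq_T, rb_eq_T, conj_T, weyl_mulVec_e0, eJ_vecMul_weyl_inv]

end weyl

section torus

variable {F : Type*} [Field F] {J : Type*} [Fintype J] [DecidableEq J]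

/-- the block diagonal element `diag(c; h)` of `GL (Unit ⊕ J) F` -/
noncomputable def bd (c : Fˣ) (h : GL J F) : GL (Unit ⊕ J) F where
  val := fromBlocks ((c : F) • (1 : Matrix Unit Unit F)) 0 0 (h : Matrix J J F)
  inv := fromBlocks (((c⁻¹ : Fˣ) : F) • (1 : Matrix Unit Unit F)) 0 0 ((h⁻¹ : GL J F) : Matrix J J F)
  val_inv := by
    rw [fromBlocks_multiply, ← fromBlocks_one]
    congr 1
    · simp [smul_smul]
    · simp
    · simp
    · simp
  inv_val := by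
    rw [fromBlocks_multiply, ← fromBlocks_one]
    congr 1
    · simp [smul_smul]
    · simp
    · simp
    · simp

theorem bd_coe (c : Fˣ) (h : GL J F) :
    ((bd c h : GL (Unit ⊕ J) F) : Matrix (Unit ⊕ J) (Unit ⊕ J) F) =
      fromBlocks ((c : F) • (1 : Matrix Unit Unit F)) 0 0 (h : Matrix J J F) := rfl

theorem bd_inv_coe (c : Fˣ) (h : GL J F) :
    (((bd c h)⁻¹ : GL (Unit ⊕ J) F) : Matrix (Unit ⊕ J) (Unit ⊕ J) F) =
      fromBlocks (((c⁻¹ : Fˣ) : F) • (1 : Matrix Unit Unit F)) 0 0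
        ((h⁻¹ : GL J F) : Matrix J J F) := rfl

theorem det_bd (c : Fˣ) (h : GL J F) :
    ((bd c h : GL (Unit ⊕ J) F) : Matrix (Unit ⊕ J) (Unit ⊕ J) F).det =
      (c : F) * (h : Matrix J J F).det := by
  rw [bd_coe, det_fromBlocks_zero₂₁, det_smul, det_one, Fintype.card_unit, pow_one, mul_one]

omit [DecidableEq J] in
/-- row vector `(a, v)` times `diag(d; H)` -/
theorem elim_vecMul_diag (a : Unit → F) (v : J → F) (d : F) (H : Matrix J J F) :
    (Sum.elim a v : Unit ⊕ J → F) ᵥ* fromBlocks (d • (1 : Matrix Unit Unit F)) 0 0 H =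
      Sum.elim (d • a) (v ᵥ* H) := by
  ext i
  cases i with
  | inl u =>
    cases u
    simp [vecMul, dotProduct, fromBlocks, mul_comm]
  | inr j =>
    simp [vecMul, dotProduct, fromBlocks]

/-- the torus element `levi (bd c h) = diag((c det h)⁻¹; c; h)` acting on the first-row radical -/
theorem levi_bd_rad (c : Fˣ) (h : GL J F) (a : Unit → F) (v : J → F) :
    levi (bd c h) * rad (Sum.elim a v) * (levi (bd c h))⁻¹ =
      rad (Sum.elim ((((c : F) * (h : Matrix J J F).det)⁻¹ * ((c⁻¹ : Fˣ) : F)) • a)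
        ((((c : F) * (h : Matrix J J F).det)⁻¹) • (v ᵥ* ((h⁻¹ : GL J F) : Matrix J J F)))) := by
  rw [levi_rad, det_bd, bd_inv_coe, elim_vecMul_diag]
  congr 1
  ext i
  cases i with
  | inl u => simp [mul_assoc]
  | inr j => simp

/-- conjugating `emb x` by `levi g`: it is enough to conjugate `x` by `g` as matrices -/
theorem levi_emb_conj (g : GL (Unit ⊕ J) F) (x x' : SpecialLinearGroup (Unit ⊕ J) F)
    (hx : (g : Matrix (Unit ⊕ J) (Unit ⊕ J) F) * (x : Matrix (Unit ⊕ J) (Unit ⊕ J) F) =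
      (x' : Matrix (Unit ⊕ J) (Unit ⊕ J) F) * (g : Matrix (Unit ⊕ J) (Unit ⊕ J) F)) :
    levi g * emb x * (levi g)⁻¹ = emb x' := by
  rw [mul_inv_eq_iff_eq_mul]
  apply Subtype.ext
  show (levi g : Matrix (Unit ⊕ (Unit ⊕ J)) (Unit ⊕ (Unit ⊕ J)) F) *
      (emb x : Matrix (Unit ⊕ (Unit ⊕ J)) (Unit ⊕ (Unit ⊕ J)) F) =
    (emb x' : Matrix (Unit ⊕ (Unit ⊕ J)) (Unit ⊕ (Unit ⊕ J)) F) *
      (levi g : Matrix (Unit ⊕ (Unit ⊕ J)) (Unit ⊕ (Unit ⊕ J)) F)
  rw [levi_coe, emb_coe, emb_coe, fromBlocks_multiply, fromBlocks_multiply]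
  congr 1
  · simp
  · simp
  · simp
  · simpa using hx

/-- the torus element acting on row 2 -/
theorem levi_bd_rb (c : Fˣ) (h : GL J F) (w : J → F) :
    levi (bd c h) * rb w * (levi (bd c h))⁻¹ =
      rb ((c : F) • (w ᵥ* ((h⁻¹ : GL J F) : Matrix J J F))) := by
  unfold rb
  apply levi_emb_conj
  rw [bd_coe, rad_coe, rad_coe, fromBlocks_multiply, fromBlocks_multiply]
  have hgg : ((h⁻¹ : GL J F) : Matrix J J F) * (h : Matrix J J F) = 1 := by
    rw [← Units.val_mul, inv_mul_cancel, Units.val_one]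
  congr 1
  · simp
  · rw [← replicateRow_vecMul, smul_vecMul, vecMul_vecMul, hgg, vecMul_one]
    ext i j
    simp
  · simp
  · simp

end torus

end Cfsg.Agent.Lib.Helper24.SLMin
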