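import Mathlib
import Cfsg.Agent.Lib.Helper29.SOT4A3

/-!
S4004, leaf A3_sylow_card (helper18's plan `notes/S4004_leaves.lean`), on top of helper29's `A3_abs`.
-/

set_option autoImplicit false

namespace Cfsg.Agent.Lib.Helper24.SOT4

/-- an element of order `r'` acts fixed point freely on `V` -/
theorem fpf_a3 {G : Type*} [Group G] [Finite G] (r r' : ℕ) (hr : r.Prime) (hr' : r'.Prime) (hne : r ≠ r')
    (hord : ∀ g : G, orderOf g = 1 ∨ orderOf g = r ∨ orderOf g = r')
    (V : Subgroup G) (hVr : ∀ v ∈ V, v ^ r = 1)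
    (g : G) (hg : orderOf g = r') (v : G) (hv : v ∈ V) (hfix : g * v * g⁻¹ = v) : v = 1 := by
  by_contra hv1
  have hov : orderOf v = r := by
    have h1 : orderOf v ∣ r := orderOf_dvd_of_pow_eq_one (hVr v hv)
    rcases (Nat.dvd_prime hr).mp h1 with h2 | h2
    · exact absurd (orderOf_eq_one_iff.mp h2) hv1
    · exact h2
  have hc : Commute g v := by
    have : g * v = v * g := by
      calc g * v = g * v * g⁻¹ * g := by group
        _ = v * g := by rw [hfix]
    exact this
  have hcop : Nat.Coprime (orderOf g) (orderOf v) := by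
    rw [hg, hov]; exact (Nat.coprime_primes hr' hr).mpr (Ne.symm hne)
  have ho := hc.orderOf_mul_eq_mul_orderOf_of_coprime hcop
  rw [hg, hov] at ho
  have h2r := hr.two_le
  have h2r' := hr'.two_le
  rcases hord (g * v) with h0 | h0 | h0 <;> rw [ho] at h0 <;> nlinarith

theorem A3_sylow_card {G : Type*} [Group G] [Finite G] (r r' : ℕ) (hr : r.Prime) [Fact r'.Prime] (hne : r ≠ r')
    (hord : ∀ g : G, orderOf g = 1 ∨ orderOf g = r ∨ orderOf g = r')
    (V : Subgroup G) [V.Normal] (hVc : ∀ a ∈ V, ∀ b ∈ V, a * b = b * a) (hVr : ∀ v ∈ V, v ^ r = 1) (hV : V ≠ ⊥)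
    (R : Sylow r' G) (hR : r' ∣ Nat.card G) : Nat.card (R : Subgroup G) = r' := by
  have hr' : r'.Prime := Fact.out
  by_contra hcard
  -- |R| = r'^k, k ≥ 2
  have hRcard : Nat.card (R : Subgroup G) = r' ^ (Nat.card G).factorization r' := R.card_eq_multiplicity
  have hk1 : 1 ≤ (Nat.card G).factorization r' :=
    (hr'.dvd_iff_one_le_factorization Nat.card_pos.ne').mp hR
  have hk2 : 2 ≤ (Nat.card G).factorization r' := by
    rcases Nat.lt_or_ge 1 ((Nat.card G).factorization r') with h1 | h1
    · exact h1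
    · exfalso
      have : (Nat.card G).factorization r' = 1 := le_antisymm h1 hk1
      rw [this, pow_one] at hRcard
      exact hcard hRcard
  have hRlt : r' < Nat.card (R : Subgroup G) := by
    rw [hRcard]
    calc r' = r' ^ 1 := (pow_one _).symm
      _ < r' ^ (Nat.card G).factorization r' := Nat.pow_lt_pow_right hr'.one_lt hk2
  -- orders in R
  have hordR : ∀ g : G, g ∈ (R : Subgroup G) → g ≠ 1 → orderOf g = r' := by
    intro g hgR hg1
    obtain ⟨j, hj⟩ := (IsPGroup.iff_orderOf.mp R.isPGroup') ⟨g, hgR⟩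
    rw [Subgroup.orderOf_mk] at hj
    rcases hord g with h0 | h0 | h0
    · exact absurd (orderOf_eq_one_iff.mp h0) hg1
    · exfalso
      rw [h0] at hj
      have hj0 : j ≠ 0 := by
        rintro rfl
        rw [pow_zero] at hj
        exact hr.one_lt.ne' hj
      have : r' ∣ r := by rw [hj]; exact dvd_pow_self r' hj0
      exact hne ((Nat.prime_dvd_prime_iff_eq hr' hr).mp this).symm
    · exact h0
  -- a central element
  have hnt : Nontrivial (R : Subgroup G) := by
    rw [← Finite.one_lt_card_iff_nontrivial]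
    exact lt_trans hr'.one_lt hRlt
  have hcnt : Nontrivial (Subgroup.center (R : Subgroup G)) := R.isPGroup'.center_nontrivial
  obtain ⟨z', hz'⟩ := exists_ne (1 : Subgroup.center (R : Subgroup G))
  have hz1 : ((z' : (R : Subgroup G)) : G) ≠ 1 := by
    intro h0
    apply hz'
    apply Subtype.ext
    apply Subtype.ext
    simpa using h0
  set z : G := ((z' : (R : Subgroup G)) : G) with hzdef
  have hzR : z ∈ (R : Subgroup G) := (z' : (R : Subgroup G)).2
  have hzc : ∀ g ∈ (R : Subgroup G), g * z = z * g := by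
    intro g hg
    have := (Subgroup.mem_center_iff.mp z'.2) ⟨g, hg⟩
    exact congrArg Subtype.val this
  have hoz : orderOf z = r' := hordR z hzR hz1
  -- y outside ⟨z⟩
  obtain ⟨y, hyR, hyz⟩ : ∃ y ∈ (R : Subgroup G), y ∉ Subgroup.zpowers z := by
    by_contra hall
    push Not at hall
    have hle : (R : Subgroup G) ≤ Subgroup.zpowers z := hall
    have h1 := Subgroup.card_le_of_le hle
    rw [Nat.card_zpowers, hoz] at h1
    omega
  have hy1 : y ≠ 1 := by
    rintro rfl
    exact hyz (one_mem _)
  have hoy : orderOf y = r' := hordR y hyR hy1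
  have hcomm : Commute y z := hzc y hyR
  -- the CommGroup structure on V
  let _ : CommGroup ↥V :=
    { (inferInstance : Group ↥V) with mul_comm := fun a b => Subtype.ext (hVc a a.2 b b.2) }
  have key := Cfsg.Agent.Lib.Helper29.SOT4.A3_abs (H := G) (A := ↥V) (MulAut.conjNormal) r' hr' y z hoy hoz hcomm
    (by
      intro a ha
      have h1 : z * (a : G) * z⁻¹ = a := by
        rw [← MulAut.conjNormal_apply]; exact congrArg Subtype.val ha
      exact Subtype.ext (fpf_a3 r r' hr hr' hne hord V hVr z hoz a a.2 h1))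
    (by
      intro w hw a ha
      have hwR : w ∈ (R : Subgroup G) := by
        have : Subgroup.zpowers z ≤ (R : Subgroup G) := by
          rw [Subgroup.zpowers_le]; exact hzR
        exact this hw
      have hyw1 : y * w ≠ 1 := by
        intro h0
        apply hyz
        have : y = w⁻¹ := eq_inv_of_mul_eq_one_left h0
        rw [this]
        exact inv_mem hw
      have hoyw : orderOf (y * w) = r' := hordR (y * w) (mul_mem hyR hwR) hyw1
      have h1 : (y * w) * (a : G) * (y * w)⁻¹ = a := by
        rw [← MulAut.conjNormal_apply]; exact congrArg Subtype.val ha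
      exact Subtype.ext (fpf_a3 r r' hr hr' hne hord V hVr (y * w) hoyw a a.2 h1))
  -- V = ⊥
  apply hV
  rw [eq_bot_iff]
  intro v hv
  rw [Subgroup.mem_bot]
  have h1 : v ^ r' = 1 := by
    have := key ⟨v, hv⟩
    exact congrArg Subtype.val this
  have h2 : v ^ r = 1 := hVr v hv
  have h3 : orderOf v ∣ Nat.gcd r' r := Nat.dvd_gcd (orderOf_dvd_of_pow_eq_one h1) (orderOf_dvd_of_pow_eq_one h2)
  rw [(Nat.coprime_primes hr' hr).mpr (Ne.symm hne)] at h3
  exact orderOf_eq_one_iff.mp (Nat.dvd_one.mp h3)

end Cfsg.Agent.Lib.Helper24.SOT4
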