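/-
helper24: S2282, `n = d + 1 + d ≥ 5`: the concrete instantiation of `SU5Top.top5` with helper26's explicit
elements `u0`, `w0 = Jw u0 Jw⁻¹` (J-model), transported to the standard model by helper16's `suIso`
through helper23's `SUFrame`; third conjugate = the Siegel element `Sg θ e₀ e₁ s`.
-/
import Mathlib
import Cfsg.Agent.Lib.Helper24.SU5Top
import Cfsg.Agent.Lib.Helper23.SUFrame
import Cfsg.Agent.Lib.Helper26.SURegB
import Cfsg.Agent.Lib.Helper8.SUField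
import Cfsg.Agent.Lib.Helper29.SUWeyl

set_option autoImplicit false
set_option linter.unusedSectionVars false
set_option linter.unusedVariables false
set_option linter.unusedSimpArgs false
set_option maxHeartbeats 1600000

namespace Cfsg.Agent.Lib.Helper24.SU5Conc

open Cfsg Matrix Cfsg.Agent.Lib.Helper5.SUGen Cfsg.Agent.Lib.Helper5.HermBridge
  Cfsg.Agent.Lib.Helper5.UForm Cfsg.Agent.Lib.Helper6.SUApi Cfsg.Agent.Lib.Helper16.FusSU
  Cfsg.Agent.Lib.Helper26.SUReg Cfsg.Agent.Lib.Helper23.SUFrame Cfsg.Agent.Lib.Helper23.SUBridge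

variable {F : Type*} [Field F] [Fintype F]

/-- **S2282 for `n = d + 1 + d`, `d ≥ 2`** (frozen conclusion, standard model) -/
theorem core_ge5 (q : ℕ) (hF : Fintype.card F = q ^ 2) (d : ℕ) (hd : 2 ≤ d) :
    ∃ u g h : ↥(Cfsg.SU (d + 1 + d) F q),
      (IsNilpotent (((u : Matrix.SpecialLinearGroup (Fin (d + 1 + d)) F) :
          Matrix (Fin (d + 1 + d)) (Fin (d + 1 + d)) F) - 1) ∧
        (((u : Matrix.SpecialLinearGroup (Fin (d + 1 + d)) F) :
          Matrix (Fin (d + 1 + d)) (Fin (d + 1 + d)) F) - 1) ^ (d + 1 + d - 1) ≠ 0) ∧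
      Subgroup.closure ({u, g * u * g⁻¹, h * u * h⁻¹} : Set ↥(Cfsg.SU (d + 1 + d) F q)) = ⊤ := by
  classical
  have hf := herm_unitary (n := d + 1 + d) hF
  obtain ⟨ζc, τ, -, hτ, hζc⟩ := Cfsg.Agent.Lib.Helper18.PSUMod.exists_consts hF
  have hσ : ∀ x, frobHom hF (frobHom hF x) = x := frob_invol hF
  -- field data
  have hm1 : (-1 : F) ^ q = -1 := by
    show frobHom hF (-1) = -1
    rw [map_neg, map_one]
  obtain ⟨β, hβtr, hβnf⟩ := Cfsg.Agent.Lib.Helper8.SUField.exists_trace_eq_not_fixed hF (-1) hm1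
    (fun _ => neg_ne_zero.2 one_ne_zero)
  have hrel : β + frobHom hF β + (1 : F) * frobHom hF 1 = 0 := by
    show β + β ^ q + (1 : F) * (1 : F) ^ q = 0
    rw [one_pow, mul_one, hβtr]; ring
  have hαβ : β + β ^ q + (1 : F) * (1 : F) ^ q = 0 := hrel
  obtain ⟨ζ, hζ0, hζq, hζgen⟩ := Cfsg.Agent.Lib.Helper8.SUField.exists_fixed_gen hF
  have hbb : β - β ^ q ≠ 0 := Cfsg.Agent.Lib.Helper8.SUField.sub_frob_ne_zero hβnf
  obtain ⟨g0, hg0def⟩ : ∃ g0 : F, g0 = ζ / (β - β ^ q) := ⟨_, rfl⟩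
  have hg0 : (β - β ^ q) * g0 = ζ := by rw [hg0def, mul_div_cancel₀ _ hbb]
  have hg0s : g0 ^ q = -g0 := by
    rw [hg0def]
    exact Cfsg.Agent.Lib.Helper8.SUField.fixed_div_skew hζq
      (Cfsg.Agent.Lib.Helper8.SUField.sub_frob_skew hF β)
  obtain ⟨s, hs⟩ := Cfsg.Agent.Lib.Helper8.SUField.exists_frob_sub_eq hF g0 hg0s
  obtain ⟨θ, hθ0, hθ⟩ := Cfsg.Agent.Lib.Helper29.SUWeyl.exists_skew_ne hF
  -- indices
  obtain ⟨l, hldef⟩ : ∃ l : Fin d, l = ⟨d - 1, by omega⟩ := ⟨_, rfl⟩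
  have hl : (l : ℕ) + 1 = d := by rw [hldef]; show d - 1 + 1 = d; omega
  obtain ⟨i0, hi0def⟩ : ∃ i0 : Fin d, i0 = ⟨0, by omega⟩ := ⟨_, rfl⟩
  obtain ⟨i1, hi1def⟩ : ∃ i1 : Fin d, i1 = ⟨1, by omega⟩ := ⟨_, rfl⟩
  have h0v : (i0 : ℕ) = 0 := by rw [hi0def]
  have h1v : (i1 : ℕ) = (i0 : ℕ) + 1 := by rw [hi1def, hi0def]
  -- elements
  obtain ⟨uJ, huJ⟩ : ∃ uJ : ↥(UJ (frobHom hF) (d + 1 + d)), uJ = u0 (frobHom hF) hσ l hrel :=
    ⟨_, rfl⟩
  obtain ⟨wJ, hwJ⟩ : ∃ wJ : ↥(UJ (frobHom hF) (d + 1 + d)), wJ = w0 (frobHom hF) hσ l hrel :=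
    ⟨_, rfl⟩
  obtain ⟨φ, hφ⟩ : ∃ φ : ↥(UJ (frobHom hF) (d + 1 + d)) ≃* ↥(Cfsg.SU (d + 1 + d) F q),
    φ = (suIso hF (d + 1 + d) hζc hτ).symm := ⟨_, rfl⟩
  obtain ⟨u, hudef⟩ : ∃ u, u = φ uJ := ⟨_, rfl⟩
  obtain ⟨w, hwdef⟩ : ∃ w, w = φ wJ := ⟨_, rfl⟩
  obtain ⟨hh, hhdef⟩ : ∃ hh, hh = φ (Jw (frobHom hF) d) := ⟨_, rfl⟩
  have hw_eq : w = hh * u * hh⁻¹ := by
    rw [hwdef, hhdef, hudef, hwJ, huJ]
    show φ (Jw (frobHom hF) d * u0 (frobHom hF) hσ l hrel * (Jw (frobHom hF) d)⁻¹) = _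
    rw [map_mul, map_mul, map_inv]
  -- the frame
  obtain ⟨E, hE⟩ : ∃ E : Fin d → (Fin (d + 1 + d) → F), E = EW hF ζc τ := ⟨_, rfl⟩
  obtain ⟨Fv, hFv⟩ : ∃ Fv : Fin d → (Fin (d + 1 + d) → F), Fv = FW hF ζc τ := ⟨_, rfl⟩
  obtain ⟨D, hD⟩ : ∃ D : Fin (d + 1 + d) → F, D = DW hF ζc τ := ⟨_, rfl⟩
  have W := ws (d := d) hF hζc hτ
  rw [← hE, ← hFv, ← hD] at W
  have hEq : ∀ i, E i = Qv hF ζc τ (eJ i) := fun i => by rw [hE]; rfl
  have hFq : ∀ i, Fv i = Qv hF ζc τ (fJ i) := fun i => by rw [hFv]; rfl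
  have hDq : D = Qv hF ζc τ dJ := by rw [hD]; rfl
  -- transport of actions
  have tr : ∀ (g : ↥(UJ (frobHom hF) (d + 1 + d))) {x y : Fin (d + 1 + d) → F},
      ((g : Matrix.SpecialLinearGroup (Fin (d + 1 + d)) F) :
        Matrix (Fin (d + 1 + d)) (Fin (d + 1 + d)) F) *ᵥ x = y →
      av (φ g) (Qv hF ζc τ x) = Qv hF ζc τ y := by
    intro g x y hxy
    rw [hφ]
    exact av_symm_Qv_eq hF hζc hτ g hxy
  have trinv : ∀ (g : ↥(UJ (frobHom hF) (d + 1 + d))) {x y : Fin (d + 1 + d) → F},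
      ((g : Matrix.SpecialLinearGroup (Fin (d + 1 + d)) F) :
        Matrix (Fin (d + 1 + d)) (Fin (d + 1 + d)) F) *ᵥ x = y →
      av (φ g)⁻¹ (Qv hF ζc τ y) = Qv hF ζc τ x := by
    intro g x y hxy
    rw [← tr g hxy, av_inv_av]
  -- the third conjugate
  obtain ⟨G, hG⟩ : ∃ G : ↥(Cfsg.SU (d + 1 + d) F q), G = Sg hF θ (E i0) (E i1) s := ⟨_, rfl⟩
  refine ⟨u, G, hh, ?_, ?_⟩
  · rw [hudef, hφ, huJ]
    exact reg_symm hF hζc hτ (d + 1 + d - 1) _ (u0_regular (frobHom hF) hσ l hl hrel one_ne_zero)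
  obtain ⟨X, hX⟩ : ∃ X : Subgroup ↥(Cfsg.SU (d + 1 + d) F q),
    X = Subgroup.closure ({u, G * u * G⁻¹, hh * u * hh⁻¹} : Set ↥(Cfsg.SU (d + 1 + d) F q)) :=
    ⟨_, rfl⟩
  rw [← hX]
  have hu : u ∈ X := by rw [hX]; exact Subgroup.subset_closure (by simp)
  have hGu : G * u * G⁻¹ ∈ X := by rw [hX]; exact Subgroup.subset_closure (by simp)
  have hw : w ∈ X := by rw [hX, hw_eq]; exact Subgroup.subset_closure (by simp)
  -- action formulas
  have hue : ∀ i j : Fin d, j.val = i.val + 1 → av u (E i - E j) = -E j := by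
    intro i j hij
    rw [hEq, hEq, ← map_sub, ← map_neg, hudef, huJ]
    exact tr _ (u0_eJ_diff (frobHom hF) hσ l hrel i j hij)
  have hwe : ∀ i j : Fin d, j.val = i.val + 1 → av w (E i) = E i - E j := by
    intro i j hij
    rw [hEq, hEq, ← map_sub, hwdef, hwJ]
    exact tr _ (w0_eJ_succ (frobHom hF) hσ l hl hrel i j hij)
  have huf : ∀ i j : Fin d, j.val = i.val + 1 → av u (Fv i) = Fv i - Fv j := by
    intro i j hij
    rw [hFq, hFq, ← map_sub, hudef, huJ]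
    exact tr _ (u0_fJ_succ (frobHom hF) hσ l hl hrel i j hij)
  have hwf : ∀ i j : Fin d, j.val = i.val + 1 → av w (Fv j - Fv i) = Fv j := by
    intro i j hij
    rw [hFq, hFq, ← map_sub, hwdef, hwJ]
    apply tr
    rw [Matrix.mulVec_sub, w0_fJ_succ (frobHom hF) hσ l hrel i j hij]
    abel
  have hzQ : Qv hF ζc τ (zJ (frobHom hF) l (1 : F) β) =
      E l + ((1 : F) * (1 : F) ^ q) • D + β ^ q • Fv l := by
    unfold zJ
    rw [map_add, map_add, map_smul, map_smul, ← hEq, ← hDq, ← hFq]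
    have e1 : frobHom hF (1 : F) = (1 : F) * (1 : F) ^ q := by rw [map_one, one_pow, mul_one]
    have e2 : frobHom hF β = β ^ q := rfl
    rw [e1, e2]
  have hwl : ∀ il : Fin d, il.val + 1 = d →
      av w⁻¹ (E il) = E il + ((1 : F) * (1 : F) ^ q) • D + β ^ q • Fv il := by
    intro il hil
    have : il = l := Fin.ext (by omega)
    rw [this, ← hzQ, hEq, hwdef, hwJ]
    exact trinv _ (w0_zJ (frobHom hF) hσ l hl hrel)
  have hwp : ∀ ip il : Fin d, il.val = ip.val + 1 → il.val + 1 = d →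
      av w⁻¹ (E ip) = E ip + (E il + ((1 : F) * (1 : F) ^ q) • D + β ^ q • Fv il) := by
    intro ip il hip hil
    have : il = l := Fin.ext (by omega)
    rw [this, ← hzQ, hEq, ← map_add, hwdef, hwJ]
    exact trinv _ (w0_eJ_add_zJ (frobHom hF) hσ l hl hrel ip (by omega))
  have hul : ∀ ip il : Fin d, il.val = ip.val + 1 → il.val + 1 = d →
      av u⁻¹ (E il) = E il - E ip ∧ av u⁻¹ D = D - (1 : F) • E il ∧
        av u⁻¹ (Fv il) = Fv il + (1 : F) ^ q • D + β ^ q • E il := by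
    intro ip il hip hil
    have hill : il = l := Fin.ext (by omega)
    have hlp : (l : ℕ) = (ip : ℕ) + 1 := by omega
    rw [hill]
    refine ⟨?_, ?_, ?_⟩
    · rw [hEq, hEq, ← map_sub, hudef, huJ]
      apply trinv
      rw [Matrix.mulVec_sub, u0_eJ_succ (frobHom hF) hσ l hrel ip l hlp]
      abel
    · rw [hDq, hEq, ← map_smul, ← map_sub, hudef, huJ]
      apply trinv
      rw [Matrix.mulVec_sub, Matrix.mulVec_smul, u0_dJ (frobHom hF) hσ l hl hrel,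
        u0_eJ_last (frobHom hF) hσ l hl hrel]
      abel
    · rw [hFq, hDq, hEq, ← map_smul, ← map_smul, ← map_add, ← map_add, hudef, huJ]
      apply trinv
      rw [Matrix.mulVec_add, Matrix.mulVec_add, Matrix.mulVec_smul, Matrix.mulVec_smul,
        u0_fJ_last (frobHom hF) hσ l hl hrel, u0_dJ (frobHom hF) hσ l hl hrel,
        u0_eJ_last (frobHom hF) hσ l hl hrel]
      have e1 : frobHom hF (1 : F) = 1 := map_one _
      have e2 : β + 1 + β ^ q = 0 := by rw [add_right_comm, hβtr]; ring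
      rw [e1, one_pow, one_smul, one_smul, one_smul]
      have e3 : fJ l - dJ + β • seJ + (dJ + seJ) + β ^ q • seJ =
          (fJ l : Fin (d + 1 + d) → F) + (β + 1 + β ^ q) • seJ := by
        rw [add_smul, add_smul, one_smul]
        abel
      rw [e3, e2, zero_smul, add_zero]
  -- the transvection from the third conjugate
  have hT : ∀ j0 : Fin d, j0.val = 0 → Tu hF (E j0) g0 ∈ X := by
    intro j0 hj0
    have : j0 = i0 := Fin.ext (by rw [hj0, h0v])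
    rw [this]
    have hu0 : av u (E i0) = E i0 := by
      rw [hEq, hudef, huJ]
      exact tr _ (u0_eJ_zero (frobHom hF) hσ l hrel i0 h0v)
    have hu1 : av u (E i1) = E i0 + E i1 := by
      rw [hEq, hEq, ← map_add, hudef, huJ]
      apply tr
      rw [u0_eJ_succ (frobHom hF) hσ l hrel i0 i1 h1v, u0_eJ_zero (frobHom hF) hσ l hrel i0 h0v]
    have hne01 : i0 ≠ i1 := by
      intro h
      rw [h] at h1v
      omega
    have hc := Sg_conj_u hF hθ hθ0 (W.EE i0 i0) (W.EE i1 i1) (W.EE i0 i1) u hu0 hu1 s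
    have hs' : frobQ hF s - s = g0 := by rw [frobQ_apply]; exact hs
    rw [hs', ← hG] at hc
    have h2 := X.mul_mem hGu (X.inv_mem hu)
    rwa [hc, mul_inv_cancel_right] at h2
  have hW13 : Cfsg.Agent.Lib.Helper13.SU5.Witt q d E Fv D :=
    ⟨W.EE, W.FF, W.EF, W.DD, W.ED, W.FD⟩
  exact Cfsg.Agent.Lib.Helper24.SU5Top.top5 hF (by omega) (by omega) hd hW13 W.perp hu hw hue hwe
    huf hwf one_ne_zero hαβ hβnf hwl hwp hul hζgen hg0 hg0s hT

end Cfsg.Agent.Lib.Helper24.SU5Conc
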