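import Mathlib
import Cfsg.Agent.Lib.Helper29.SpAschDefs
import Cfsg.Agent.Lib.Helper24.AschA7Main
import Cfsg.Agent.Lib.Helper13.SpNILBridge
import Cfsg.Agent.Lib.Helper13.ThRMain
import Cfsg.Agent.Lib.Helper25.SpNILMinGrp
import Cfsg.Agent.Lib.Helper25.SpNILMinForm
import Cfsg.Agent.Lib.Helper25.SpNILMinFree

/-!
# S5662 (Aschbacher for `Sp_2m(F)`, planner helper29), block **[NIL]** `sgeo_of_nilpotent` (helper24): assembly

`N` minimal non-scalar `H`-normal with `[N,N] ≤ Z`, `H ≤ isoG J`, `QP H`: `N` is extraspecial `2^(1+2k)`, `n = 2^k`, `p` odd;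
`|F| = p`: class C6 (`IsOfMinusType k N` by the free-vector argument, block MIN of helper25); `|F| = p^e`, `e ≥ 2`: Theorem R
(helper13) + form-aware descent [DSC] (a hypothesis of the core form).  Leaves: notes/S5662_NIL_leaves.lean (NIL-1..4 helper13,
MIN-1..5 helper25) and the A7 leaves of S5630.
-/

set_option autoImplicit false
set_option linter.unusedSectionVars false
set_option linter.unusedVariables false

namespace Cfsg.Agent.Lib.Helper24.SpAschLeaf
open Matrix Cfsg Cfsg.Geo Cfsg.Agent.Lib.Helper20.Asch Cfsg.Agent.Lib.Helper29.SpAsch Cfsg.Agent.Lib.Helper24.AschA7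
open scoped Kronecker commutatorElement

variable {F : Type*} [Field F] {n m : ℕ} {J : Matrix (Fin n) (Fin n) F} {H N : Subgroup (GL (Fin n) F)}

/-! ## Assemblies (helper24) -/

open Cfsg.Agent.Lib.Helper24.AschA7Leaf Cfsg.Agent.Lib.Helper12.AschLeaf Cfsg.Agent.Lib.Helper4.AschLeaf
  Cfsg.Agent.Lib.Helper4.AschA7Leaf Cfsg.Agent.Lib.Helper15.AschA7Leaf
  Cfsg.Agent.Lib.Helper27.AschA7Leaf Cfsg.Agent.Lib.Helper14.AschA7Leaf Cfsg.Agent.Lib.Helper24.AschLeaf

/-- `isoG J ≤ similarityGroup (bfm J)` -/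
theorem isoG_le_similarityGroup : isoG J ≤ similarityGroup (bfm J) := by
  intro g hg
  exact ⟨1, fun u v => by rw [Units.val_one, one_mul]; exact hg u v⟩

/-- MIN (assembly): minus type -/
theorem minusType_of_alt (hJ : IsAltGram J) (hNJ : N ≤ isoG J) (habs : AbsIrr N)
    (hcomm : ⁅N, N⁆ ≤ scalars (Fin n) F) (h2 : (2 : F) ≠ 0) [Fintype F] {k : ℕ} (hn : n = 2 ^ k) :
    IsOfMinusType k N := by
  intro A hAc hA2
  classical
  have hA2' : ∀ x : A, x * x = 1 := fun x => Subtype.ext (hA2 x.1 x.2)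
  -- the complement of `-1`
  obtain ⟨A₀, hz, hcard⟩ : ∃ A₀ : Subgroup A,
      (∀ a ∈ A₀, a ≠ 1 → ((a : N) : GL (Fin n) F) ∉ scalars (Fin n) F) ∧ Nat.card A ≤ 2 * Nat.card A₀ := by
    by_cases hex : ∃ z : A, z ≠ 1 ∧ ((z : N) : GL (Fin n) F) ∈ scalars (Fin n) F
    · obtain ⟨z, hz1, hzs⟩ := hex
      obtain ⟨A₀, hzA₀, hc⟩ := Cfsg.Agent.Lib.Helper25.SpNILLeaf.exists_complement hA2' z hz1
      refine ⟨A₀, ?_, hc⟩
      intro a ha ha1 has
      -- both `a` and `z` are scalars of square one, different from `1`: they are equal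
      apply hzA₀
      have key : ∀ y : A, y ≠ 1 → ((y : N) : GL (Fin n) F) ∈ scalars (Fin n) F →
          (((y : N) : GL (Fin n) F) : Matrix (Fin n) (Fin n) F) = -1 := by
        intro y hy1 hys
        obtain ⟨c, hc⟩ := (mem_scalars_iff _).1 hys
        have hyy : (((y : N) : GL (Fin n) F) : Matrix (Fin n) (Fin n) F) *
            (((y : N) : GL (Fin n) F) : Matrix (Fin n) (Fin n) F) = 1 := by
          have := hA2' y
          have h3 : (((y * y : A) : N) : GL (Fin n) F) = 1 := by rw [this]; rfl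
          have h4 := congrArg Units.val h3
          simpa using h4
        rw [hc] at hyy ⊢
        have hcc : (c : F) * c = 1 ∨ n = 0 := by
          rcases Nat.eq_zero_or_pos n with h0 | hpos
          · exact Or.inr h0
          · left
            have h5 := congrFun (congrFun hyy ⟨0, hpos⟩) ⟨0, hpos⟩
            simpa [Matrix.smul_apply, Matrix.mul_apply, Matrix.one_apply, Finset.sum_ite_eq] using h5
        rcases hcc with hcc | h0
        · have h6 : ((c : F) - 1) * ((c : F) + 1) = 0 := by linear_combination hcc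
          rcases mul_eq_zero.1 h6 with h7 | h7
          · exfalso
            apply hy1
            have hc1 : (c : F) = 1 := by linear_combination h7
            apply Subtype.ext; apply Subtype.ext; apply Units.ext
            rw [hc, hc1, one_smul]; rfl
          · have hc1 : (c : F) = -1 := by linear_combination h7
            rw [hc1, neg_smul, one_smul]
        · subst h0
          ext i; exact i.elim0
      have e1 := key a ha1 has
      have e2 := key z hz1 hzs
      have : a = z := by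
        apply Subtype.ext; apply Subtype.ext; apply Units.ext
        rw [e1, e2]
      rwa [← this]
    · push Not at hex
      refine ⟨⊤, fun a _ ha1 has => ha1 (by_contra fun h => (hex a h) has), ?_⟩
      rw [Subgroup.card_top]; omega
  -- the image of `A₀` in `GL`
  let ι₀ : A₀ →* GL (Fin n) F := N.subtype.comp (A.subtype.comp A₀.subtype)
  have hι₀inj : Function.Injective ι₀ := fun x y hxy => Subtype.ext (Subtype.ext (Subtype.ext hxy))
  let B : Subgroup (GL (Fin n) F) := ι₀.range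
  have hBcard : Nat.card B = Nat.card A₀ := (Nat.card_congr (MonoidHom.ofInjective hι₀inj).toEquiv).symm
  have : Finite B := Nat.finite_of_card_ne_zero (by rw [hBcard]; exact Nat.card_pos.ne')
  have hBN : ∀ a ∈ B, a ∈ N := by rintro _ ⟨x, rfl⟩; exact (x : A).1.2
  have hB2 : ∀ a ∈ B, a * a = 1 := by
    rintro _ ⟨x, rfl⟩
    rw [← map_mul]
    have : (x * x : A₀) = 1 := Subtype.ext (hA2' x.1)
    rw [this, map_one]
  have hBc : ∀ a ∈ B, ∀ b ∈ B, a * b = b * a := by
    rintro _ ⟨x, rfl⟩ _ ⟨y, rfl⟩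
    rw [← map_mul, ← map_mul]
    congr 1
    apply Subtype.ext
    exact hAc.is_comm.comm x.1 y.1
  have hBns : ∀ a ∈ B, a ≠ 1 → a ∉ scalars (Fin n) F := by
    rintro _ ⟨x, rfl⟩ hx1
    apply hz x.1 x.2
    intro h
    apply hx1
    have : x = 1 := Subtype.ext h
    rw [this, map_one]
  have hn0 : (n : F) ≠ 0 := by rw [hn]; push_cast; exact pow_ne_zero _ h2
  obtain ⟨u, -, hli⟩ := Cfsg.Agent.Lib.Helper25.SpNILLeaf.exists_free_vector h2 B hB2 hBc 1 (by rw [Matrix.mul_one])
    (fun a _ => by rw [Matrix.mul_one, Matrix.one_mul])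
    (by rw [Matrix.trace_one, Fintype.card_fin]; exact hn0)
    (fun a ha ha1 => by rw [Matrix.one_mul]; exact trace_eq_zero habs hcomm (hBN a ha) (hBns a ha ha1))
  have : Fintype B := Fintype.ofFinite B
  have hle := Cfsg.Agent.Lib.Helper25.SpNILLeaf.card_le_of_isotropic hJ _ hli (fun a b =>
    Cfsg.Agent.Lib.Helper25.SpNILLeaf.orbit_isotropic hJ h2 (hNJ (hBN a a.2)) (hNJ (hBN b b.2)) (hB2 a a.2) (hB2 b b.2) (hBc a a.2 b b.2) u)
  rw [← Nat.card_eq_fintype_card, hBcard] at hle
  calc Nat.card A ≤ 2 * Nat.card A₀ := hcard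
    _ ≤ n := hle
    _ = 2 ^ k := hn
    _ < 2 ^ (k + 1) := by rw [pow_succ]; have := Nat.two_pow_pos k; omega



/-- [NIL] core form: the form-aware subfield descent [DSC] `sgeo_of_realisable` is a hypothesis. -/
theorem sgeo_of_nilpotent_core [Fintype F]
    (hDSC : ∀ (F₀ : Subfield F), F₀ ≠ ⊤ → RealisableOver F₀ (matrixSet N) → SGeo J m H)
    (h : SpCtx J m H) (hirr : Irr H) (hqp : QP H) (hN : N ≤ H)
    (hnorm : NormBy H N) (hns : ¬ N ≤ scalars (Fin n) F)
    (hmin : ∀ M : Subgroup (GL (Fin n) F), M ≤ N → NormBy H M → M = N ∨ M ≤ scalars (Fin n) F)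
    (hcomm : ⁅N, N⁆ ≤ scalars (Fin n) F) : SGeo J m H := by
  have habs : AbsIrr N := (hqp N hN hnorm).resolve_left hns
  have hNJ : N ≤ isoG J := hN.trans h.le
  have hcm : CM N := cm_of_ctx habs hN hnorm hns hmin hcomm
  obtain ⟨r, hr, hpg⟩ := cm_exists_prime hcm
  obtain ⟨p, hchar⟩ := CharP.exists F
  obtain ⟨e, hp, hcardF⟩ := FiniteField.card F p
  have hrp : r ≠ p := prime_ne_char habs.1 hns hr hchar hpg
  have hpow := cm_pow_mem_center hcm hr hpg
  have hcp := cm_comm_pow hcm.comm_central hpow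
  have hZ2 := Cfsg.Agent.Lib.Helper13.SpNILLeaf.card_center_eq_two h.alt hNJ habs hcm
  have hexp : ∀ x : N, x ^ (r * Nat.gcd 2 r) = 1 := by
    intro x
    by_cases h2 : r = 2
    · subst h2
      exact cm_pow_four hcm hpg hpow hcp x
    · have hg : Nat.gcd 2 r = 1 := by
        rcases Nat.Prime.eq_one_or_self_of_dvd Nat.prime_two (Nat.gcd 2 r) (Nat.gcd_dvd_left 2 r) with h | h
        · exact h
        · exfalso
          have h3 : 2 ∣ r := h ▸ Nat.gcd_dvd_right 2 r
          exact h2 ((Nat.prime_dvd_prime_iff_eq Nat.prime_two hr).1 h3).symm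
      rw [hg, mul_one]
      exact cm_pow_eq_one_odd hcm hr h2 hpg hpow hcp x
  obtain ⟨hzo, -⟩ := cm_card_center hcm hr hpg hexp
  have hr2 : r = 2 := by
    by_contra hne
    exact hne ((hzo hne).symm.trans hZ2)
  subst hr2
  obtain ⟨k, hk1, hcardN⟩ := cm_card hcm hr hpg hcp
  have hn0 : 0 < n := by have := h.dim; have := h.two_le; omega
  have hsq := card_eq_sq_mul hn0 habs (burnside habs) hcomm
  have hst := symplecticType_of_cm hcm hr hpg hexp
  have hnn : n * n = 2 ^ (2 * k) := by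
    have h1 : n * n * Nat.card (Subgroup.center N) = 2 ^ (2 * k) * Nat.card (Subgroup.center N) := by
      rw [← hsq, hcardN]
    exact Nat.eq_of_mul_eq_mul_right Nat.card_pos h1
  have hnk : n = 2 ^ k := by
    have h1 : n * n = 2 ^ k * 2 ^ k := by rw [hnn, two_mul, pow_add]
    exact Nat.mul_self_inj.1 h1
  have h2F : (2 : F) ≠ 0 := by
    intro h0
    have : ((2 : ℕ) : F) = 0 := by exact_mod_cast h0
    rw [CharP.cast_eq_zero_iff F p] at this
    exact hrp ((Nat.prime_dvd_prime_iff_eq hp Nat.prime_two).1 this).symm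
  by_cases he : (e : ℕ) = 1
  · -- class C6
    have hcF : Fintype.card F = p := by rw [hcardF, he, pow_one]
    have hpodd : Odd p := hp.odd_of_ne_two (fun h => hrp h.symm)
    have hcN : Nat.card N = 2 ^ (1 + 2 * k) := by rw [hcardN, hZ2, pow_add, pow_one, mul_comm]
    exact SGeo.of_C6 h.le N p k hst habs (hNJ.trans isoG_le_similarityGroup) hp hpodd hcF hcN hZ2
      (minusType_of_alt h.alt hNJ habs hcomm h2F hnk) (le_subgroupNormalizer hnorm)
  · -- class C5
    have he2 : 2 ≤ (e : ℕ) := by have := e.pos; omega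
    obtain ⟨φ, F₀, hφ, hF₀, hne⟩ := Cfsg.Agent.Lib.Helper13.SpNILLeaf.exists_frobenius hp hchar hcardF he2
    refine hDSC F₀ hne (Cfsg.Agent.Lib.Helper13.ThR.theoremR N habs φ ?_ F₀ hF₀)
    intro x hx
    rw [hφ]
    exact Cfsg.Agent.Lib.Helper13.SpNILLeaf.trace_frobenius_fixed h.alt hNJ habs hcomm hp hchar hx

end Cfsg.Agent.Lib.Helper24.SpAschLeaf
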