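/- helper24: strongly real induced characters of N ⋊ P (N abelian, an involution central in P inverting N):
   Setup, npart/ppart, stabilizer T of a linear character lam of N, lamHat, psi φ = lamHat * φ|T,
   indFun_psi_irr (Clifford), indFun_psi_injective, indFun_psi_one, indicator_indFun_psi (FS = 1).
   Also card_le_index_of_agree: homs to ℂˣ agreeing on T number at most |G:T|. -/
import Mathlib
import Cfsg.Agent.Lib.Helper6.IndFun
import Cfsg.Agent.Lib.Helper6.CliffordCorr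
import Cfsg.Agent.Lib.Helper6.LinChar
import Cfsg.Agent.Lib.Helper24.IndicatorInduced

set_option autoImplicit false

namespace Cfsg.Agent.Lib.Helper24.StrongReal

open Cfsg Cfsg.Agent.CharLib Cfsg.Agent.Lib.Helper6

universe u

section decomp

variable {G : Type u} [Group G] (N P : Subgroup G) [hN : N.Normal]

/-- every element of `G = N P` is a product -/
theorem exists_mul_of_sup_eq_top (hprod : N ⊔ P = ⊤) (g : G) :
    ∃ n ∈ N, ∃ h ∈ P, g = n * h := by
  have h1 : g ∈ N ⊔ P := by rw [hprod]; exact Subgroup.mem_top g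
  rw [← SetLike.mem_coe, Subgroup.normal_mul] at h1
  obtain ⟨n, hn, h, hh, rfl⟩ := Set.mem_mul.mp h1
  exact ⟨n, hn, h, hh, rfl⟩

/-- uniqueness of the decomposition -/
theorem mul_eq_mul_iff_of_inf_eq_bot (hdisj : N ⊓ P = ⊥) {n n' h h' : G} (hn : n ∈ N) (hn' : n' ∈ N)
    (hh : h ∈ P) (hh' : h' ∈ P) (he : n * h = n' * h') : n = n' ∧ h = h' := by
  have h1 : n'⁻¹ * n = h' * h⁻¹ := by
    have : n = n' * h' * h⁻¹ := by rw [← he]; group
    rw [this]; group
  have h2 : n'⁻¹ * n ∈ N ⊓ P := by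
    refine ⟨N.mul_mem (N.inv_mem hn') hn, ?_⟩
    rw [h1]
    exact P.mul_mem hh' (P.inv_mem hh)
  rw [hdisj, Subgroup.mem_bot] at h2
  have h3 : n = n' := by
    have : n = n' * (n'⁻¹ * n) := by group
    rw [this, h2, mul_one]
  refine ⟨h3, ?_⟩
  rw [h3] at he
  exact mul_left_cancel he

end decomp

/-- the data: `G = N ⋊ P`, `N` abelian, a linear character `lam` of `N`, and an involution `z`
central in `P` inverting `N` -/
structure Setup (G : Type u) [Group G] where
  N : Subgroup G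
  P : Subgroup G
  hN : N.Normal
  hab : ∀ a ∈ N, ∀ b ∈ N, a * b = b * a
  hdisj : N ⊓ P = ⊥
  hprod : N ⊔ P = ⊤
  lam : N →* ℂˣ
  z : G
  hzP : z ∈ P
  hzc : ∀ h ∈ P, z * h = h * z
  hz2 : z * z = 1
  hzinv : ∀ n ∈ N, z * n * z⁻¹ = n⁻¹

namespace Setup

variable {G : Type u} [Group G] (S : Setup G)

instance : S.N.Normal := S.hN

theorem exists_decomp (g : G) : ∃ p : G × G, p.1 ∈ S.N ∧ p.2 ∈ S.P ∧ g = p.1 * p.2 := by
  obtain ⟨n, hn, h, hh, he⟩ := exists_mul_of_sup_eq_top S.N S.P S.hprod g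
  exact ⟨(n, h), hn, hh, he⟩

/-- the `N`-part -/
noncomputable def npart (g : G) : G := (Classical.choose (S.exists_decomp g)).1

/-- the `P`-part -/
noncomputable def ppart (g : G) : G := (Classical.choose (S.exists_decomp g)).2

theorem npart_mem (g : G) : S.npart g ∈ S.N := (Classical.choose_spec (S.exists_decomp g)).1

theorem ppart_mem (g : G) : S.ppart g ∈ S.P := (Classical.choose_spec (S.exists_decomp g)).2.1

theorem npart_mul_ppart (g : G) : S.npart g * S.ppart g = g :=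
  (Classical.choose_spec (S.exists_decomp g)).2.2.symm

theorem parts_unique {g n h : G} (hn : n ∈ S.N) (hh : h ∈ S.P) (he : g = n * h) :
    S.npart g = n ∧ S.ppart g = h := by
  apply mul_eq_mul_iff_of_inf_eq_bot S.N S.P S.hdisj (S.npart_mem g) hn (S.ppart_mem g) hh
  rw [S.npart_mul_ppart, he]

theorem npart_mul' {n h : G} (hn : n ∈ S.N) (hh : h ∈ S.P) : S.npart (n * h) = n :=
  (S.parts_unique hn hh rfl).1

theorem ppart_mul' {n h : G} (hn : n ∈ S.N) (hh : h ∈ S.P) : S.ppart (n * h) = h :=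
  (S.parts_unique hn hh rfl).2

theorem conj_mem_N {n : G} (hn : n ∈ S.N) (g : G) : g * n * g⁻¹ ∈ S.N := S.hN.conj_mem n hn g

theorem ppart_mul (g g' : G) : S.ppart (g * g') = S.ppart g * S.ppart g' := by
  have he : g * g' = (S.npart g * (S.ppart g * S.npart g' * (S.ppart g)⁻¹)) *
      (S.ppart g * S.ppart g') := by
    conv_lhs => rw [← S.npart_mul_ppart g, ← S.npart_mul_ppart g']
    group
  exact (S.parts_unique (S.N.mul_mem (S.npart_mem g) (S.conj_mem_N (S.npart_mem g') _))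
    (S.P.mul_mem (S.ppart_mem g) (S.ppart_mem g')) he).2

theorem npart_mul (g g' : G) :
    S.npart (g * g') = S.npart g * (S.ppart g * S.npart g' * (S.ppart g)⁻¹) := by
  have he : g * g' = (S.npart g * (S.ppart g * S.npart g' * (S.ppart g)⁻¹)) *
      (S.ppart g * S.ppart g') := by
    conv_lhs => rw [← S.npart_mul_ppart g, ← S.npart_mul_ppart g']
    group
  exact (S.parts_unique (S.N.mul_mem (S.npart_mem g) (S.conj_mem_N (S.npart_mem g') _))
    (S.P.mul_mem (S.ppart_mem g) (S.ppart_mem g')) he).1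

theorem npart_of_mem {n : G} (hn : n ∈ S.N) : S.npart n = n := by
  have := S.npart_mul' hn S.P.one_mem
  rwa [mul_one] at this

theorem ppart_of_mem_N {n : G} (hn : n ∈ S.N) : S.ppart n = 1 := by
  have := S.ppart_mul' hn S.P.one_mem
  rwa [mul_one] at this

theorem ppart_of_mem {h : G} (hh : h ∈ S.P) : S.ppart h = h := by
  have := S.ppart_mul' S.N.one_mem hh
  rwa [one_mul] at this

theorem npart_of_mem_P {h : G} (hh : h ∈ S.P) : S.npart h = 1 := by
  have := S.npart_mul' S.N.one_mem hh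
  rwa [one_mul] at this

/-- the conjugate of `lam` -/
noncomputable def lamc (g : G) (n : S.N) : ℂˣ := S.lam ⟨g * n * g⁻¹, S.conj_mem_N n.2 g⟩

/-- the stabilizer of `lam` -/
def T : Subgroup G where
  carrier := {g | ∀ n : S.N, S.lamc g n = S.lam n}
  one_mem' := by
    intro n
    unfold lamc
    congr 1
    apply Subtype.ext
    simp
  mul_mem' := by
    intro a b ha hb n
    have h1 := hb n
    have h2 := ha ⟨b * n * b⁻¹, S.conj_mem_N n.2 b⟩
    unfold lamc at h1 h2 ⊢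
    rw [← h1, ← h2]
    congr 1
    apply Subtype.ext
    simp [mul_assoc]
  inv_mem' := by
    intro a ha n
    have h2 := ha ⟨a⁻¹ * n * a⁻¹⁻¹, S.conj_mem_N n.2 a⁻¹⟩
    unfold lamc at h2 ⊢
    rw [← h2]
    congr 1
    apply Subtype.ext
    simp [mul_assoc]

theorem mem_T_iff (g : G) : g ∈ S.T ↔ ∀ n : S.N, S.lamc g n = S.lam n := Iff.rfl

theorem N_le_T : S.N ≤ S.T := by
  intro a ha n
  unfold lamc
  congr 1
  apply Subtype.ext
  change a * n * a⁻¹ = n
  rw [S.hab a ha n n.2, mul_assoc, mul_inv_cancel, mul_one]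

theorem ppart_mem_T {t : G} (ht : t ∈ S.T) : S.ppart t ∈ S.T := by
  have h1 : S.ppart t = (S.npart t)⁻¹ * t := by
    have h2 := S.npart_mul_ppart t
    rw [eq_inv_mul_iff_mul_eq]
    exact h2
  rw [h1]
  exact S.T.mul_mem (S.T.inv_mem (S.N_le_T (S.npart_mem t))) ht

/-- the canonical extension of `lam` to `T` -/
noncomputable def lamHat : S.T →* ℂˣ where
  toFun t := S.lam ⟨S.npart t, S.npart_mem t⟩
  map_one' := by
    have : (⟨S.npart ((1 : S.T) : G), S.npart_mem _⟩ : S.N) = 1 := by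
      apply Subtype.ext
      exact S.npart_of_mem S.N.one_mem
    rw [this, map_one]
  map_mul' := by
    intro a b
    have h1 : (⟨S.npart ((a * b : S.T) : G), S.npart_mem _⟩ : S.N) =
        ⟨S.npart a, S.npart_mem a⟩ * ⟨S.ppart a * S.npart b * (S.ppart a)⁻¹,
          S.conj_mem_N (S.npart_mem b) _⟩ := by
      apply Subtype.ext
      exact S.npart_mul a b
    rw [h1, map_mul]
    congr 1
    exact S.ppart_mem_T a.2 ⟨S.npart b, S.npart_mem b⟩

theorem lamHat_apply (t : S.T) : S.lamHat t = S.lam ⟨S.npart t, S.npart_mem t⟩ := rfl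

theorem lamHat_of_mem_N (n : S.N) : S.lamHat ⟨n, S.N_le_T n.2⟩ = S.lam n := by
  rw [lamHat_apply]
  congr 1
  apply Subtype.ext
  exact S.npart_of_mem n.2

section chars

variable [Fintype G]

noncomputable instance instFintypeN : Fintype S.N := Fintype.ofFinite _

noncomputable instance instFintypeT : Fintype S.T := Fintype.ofFinite _

/-- `lam` as a complex function -/
noncomputable def theta : S.N → ℂ := fun n => ((S.lam n : ℂˣ) : ℂ)

theorem theta_irr : IsIrrCharacter S.N S.theta := isIrrCharacter_of_hom S.lam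

/-- the linear character `lamHat * φ` of `T` -/
noncomputable def psiHom (φ : G →* ℂˣ) : S.T →* ℂˣ := S.lamHat * φ.comp S.T.subtype

/-- as a function -/
noncomputable def psi (φ : G →* ℂˣ) : S.T → ℂ := fun t => ((S.psiHom φ t : ℂˣ) : ℂ)

theorem psi_irr (φ : G →* ℂˣ) : IsIrrCharacter S.T (S.psi φ) := isIrrCharacter_of_hom (S.psiHom φ)

theorem psi_apply (φ : G →* ℂˣ) (t : S.T) :
    S.psi φ t = ((S.lam ⟨S.npart t, S.npart_mem t⟩ : ℂˣ) : ℂ) * ((φ t : ℂˣ) : ℂ) := by
  unfold psi psiHom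
  rw [MonoidHom.mul_apply, Units.val_mul, lamHat_apply]
  rfl

theorem resLE_psi (φ : G →* ℂˣ) (hφN : ∀ n ∈ S.N, φ n = 1) :
    resLE S.N_le_T (S.psi φ) = S.theta := by
  funext n
  rw [resLE_apply, psi_apply]
  unfold theta
  have h1 : (⟨S.npart ((⟨n, S.N_le_T n.2⟩ : S.T) : G), S.npart_mem _⟩ : S.N) = n := by
    apply Subtype.ext
    exact S.npart_of_mem n.2
  rw [h1]
  have h2 : φ ((⟨(n : G), S.N_le_T n.2⟩ : S.T) : G) = 1 := hφN n n.2
  rw [h2, Units.val_one, mul_one]

theorem mem_T_iff_conjFun (g : G) : g ∈ S.T ↔ conjFun S.N g S.theta = S.theta := by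
  rw [mem_T_iff]
  constructor
  · intro h
    funext n
    rw [conjFun_apply]
    unfold theta
    have := h n
    unfold lamc at this
    rw [this]
  · intro h n
    have h1 := congrFun h n
    rw [conjFun_apply] at h1
    unfold theta at h1
    unfold lamc
    exact Units.ext h1

theorem classInner_resLE_psi_ne_zero (φ : G →* ℂˣ) (hφN : ∀ n ∈ S.N, φ n = 1) :
    classInner (resLE S.N_le_T (S.psi φ)) S.theta ≠ 0 := by
  rw [S.resLE_psi φ hφN, classInner_irr S.theta_irr S.theta_irr, if_pos rfl]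
  exact one_ne_zero

/-- the induced characters are irreducible -/
theorem indFun_psi_irr (φ : G →* ℂˣ) (hφN : ∀ n ∈ S.N, φ n = 1) :
    IsIrrCharacter G (indFun S.T (S.psi φ)) :=
  (isIrrCharacter_indFun_inertia S.N_le_T S.theta_irr S.mem_T_iff_conjFun (S.psi_irr φ)
    (S.classInner_resLE_psi_ne_zero φ hφN)).1

/-- injectivity -/
theorem indFun_psi_injective {φ φ' : G →* ℂˣ} (hφN : ∀ n ∈ S.N, φ n = 1)
    (hφN' : ∀ n ∈ S.N, φ' n = 1) (h : indFun S.T (S.psi φ) = indFun S.T (S.psi φ')) :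
    ∀ t ∈ S.T, φ t = φ' t := by
  have h1 := indFun_inertia_injective S.N_le_T S.theta_irr S.mem_T_iff_conjFun (S.psi_irr φ)
    (S.psi_irr φ') (S.classInner_resLE_psi_ne_zero φ hφN)
    (S.classInner_resLE_psi_ne_zero φ' hφN') h
  intro t ht
  have h2 := congrFun h1 ⟨t, ht⟩
  rw [psi_apply, psi_apply] at h2
  have h3 : ((S.lam ⟨S.npart t, S.npart_mem t⟩ : ℂˣ) : ℂ) ≠ 0 := Units.ne_zero _
  exact Units.ext (mul_left_cancel₀ h3 h2)

theorem indFun_psi_one (φ : G →* ℂˣ) : indFun S.T (S.psi φ) 1 = (S.T.index : ℂ) := by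
  rw [indFun_apply_one]
  have h1 : S.psi φ 1 = 1 := by
    unfold psi
    rw [map_one, Units.val_one]
  rw [h1, mul_one]
  have hT : (Nat.card S.T : ℂ) ≠ 0 := Nat.cast_ne_zero.mpr Nat.card_pos.ne'
  rw [← Subgroup.card_mul_index S.T]
  push_cast
  field_simp

/-- the conjugate of `lam` as a homomorphism -/
noncomputable def lamcHom (g : G) : S.N →* ℂˣ where
  toFun n := S.lamc g n
  map_one' := by
    unfold lamc
    have : (⟨g * ((1 : S.N) : G) * g⁻¹, S.conj_mem_N (1 : S.N).2 g⟩ : S.N) = 1 := by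
      apply Subtype.ext
      simp
    rw [this, map_one]
  map_mul' := by
    intro a b
    unfold lamc
    rw [← map_mul]
    congr 1
    apply Subtype.ext
    simp [mul_assoc]

theorem lamcHom_apply (g : G) (n : S.N) : S.lamcHom g n = S.lamc g n := rfl

/-- `z⁻¹ h` stabilizes `lam` iff `lam * lam^h = 1` -/
theorem zinv_mul_mem_T_iff (h : G) :
    S.z⁻¹ * h ∈ S.T ↔ S.lam * S.lamcHom h = 1 := by
  have hzinv' : ∀ n ∈ S.N, S.z⁻¹ * n * S.z⁻¹⁻¹ = n⁻¹ := by
    intro n hn
    have h1 : S.z⁻¹ = S.z := inv_eq_of_mul_eq_one_left S.hz2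
    rw [h1]
    exact S.hzinv n hn
  have key : ∀ n : S.N, S.lamc (S.z⁻¹ * h) n = (S.lamc h n)⁻¹ := by
    intro n
    unfold lamc
    rw [← map_inv]
    congr 1
    apply Subtype.ext
    change S.z⁻¹ * h * n * (S.z⁻¹ * h)⁻¹ = (h * n * h⁻¹)⁻¹
    rw [← hzinv' (h * n * h⁻¹) (S.conj_mem_N n.2 h)]
    group
  rw [mem_T_iff]
  constructor
  · intro hh
    ext n
    rw [MonoidHom.mul_apply, lamcHom_apply, MonoidHom.one_apply]
    have := hh n
    rw [key] at this
    rw [← this, inv_mul_cancel]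
  · intro hh n
    rw [key]
    have h1 := DFunLike.congr_fun hh n
    rw [MonoidHom.mul_apply, lamcHom_apply, MonoidHom.one_apply] at h1
    rw [inv_eq_iff_eq_inv]
    exact (eq_inv_of_mul_eq_one_left h1).symm ▸ (by
      rw [inv_inv])

theorem sq_decomp (n h : G) : (n * h) * (n * h) = (n * (h * n * h⁻¹)) * (h * h) := by group

theorem sq_mem_T_iff {n h : G} (hn : n ∈ S.N) (hh : h ∈ S.P) :
    (n * h) * (n * h) ∈ S.T ↔ h * h ∈ S.T := by
  rw [sq_decomp]
  have hm : n * (h * n * h⁻¹) ∈ S.N := S.N.mul_mem hn (S.conj_mem_N hn h)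
  constructor
  · intro ht
    have := S.ppart_mem_T ht
    rwa [S.ppart_mul' hm (S.P.mul_mem hh hh)] at this
  · intro ht
    exact S.T.mul_mem (S.N_le_T hm) ht

theorem psi_sq (φ : G →* ℂˣ) (hφ2 : ∀ g, φ g * φ g = 1) {n h : G} (hn : n ∈ S.N) (hh : h ∈ S.P)
    (ht : (n * h) * (n * h) ∈ S.T) :
    S.psi φ ⟨(n * h) * (n * h), ht⟩ = (((S.lam * S.lamcHom h) ⟨n, hn⟩ : ℂˣ) : ℂ) := by
  rw [psi_apply]
  have hm : n * (h * n * h⁻¹) ∈ S.N := S.N.mul_mem hn (S.conj_mem_N hn h)
  have h1 : (⟨S.npart ((⟨(n * h) * (n * h), ht⟩ : S.T) : G), S.npart_mem _⟩ : S.N) =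
      ⟨n, hn⟩ * ⟨h * n * h⁻¹, S.conj_mem_N hn h⟩ := by
    apply Subtype.ext
    change S.npart ((n * h) * (n * h)) = n * (h * n * h⁻¹)
    rw [sq_decomp]
    exact S.npart_mul' hm (S.P.mul_mem hh hh)
  rw [h1, map_mul]
  have h2 : φ ((⟨(n * h) * (n * h), ht⟩ : S.T) : G) = 1 := by
    change φ ((n * h) * (n * h)) = 1
    rw [map_mul]
    exact hφ2 _
  rw [h2, Units.val_one, mul_one, MonoidHom.mul_apply, lamcHom_apply]
  rfl

theorem inner_sum (φ : G →* ℂˣ) (hφ2 : ∀ g, φ g * φ g = 1) {h : G} (hh : h ∈ S.P)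
    [Decidable (S.z⁻¹ * h ∈ S.T)] :
    ∑ n : S.N, extendByZero S.T (S.psi φ) (((n : G) * h) * ((n : G) * h)) =
      if S.z⁻¹ * h ∈ S.T then (Nat.card S.N : ℂ) else 0 := by
  split_ifs with hz
  · have hhh : h * h ∈ S.T := by
      have h1 : h * h = (S.z⁻¹ * h) * (S.z⁻¹ * h) := by
        have h2 : S.z⁻¹ = S.z := inv_eq_of_mul_eq_one_left S.hz2
        rw [h2]
        calc h * h = (S.z * S.z) * (h * h) := by rw [S.hz2, one_mul]
          _ = S.z * (S.z * h) * h := by group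
          _ = S.z * (h * S.z) * h := by rw [S.hzc h hh]
          _ = (S.z * h) * (S.z * h) := by group
      rw [h1]
      exact S.T.mul_mem hz hz
    have h1 := (S.zinv_mul_mem_T_iff h).mp hz
    have h2 : ∀ n : S.N, extendByZero S.T (S.psi φ) (((n : G) * h) * ((n : G) * h)) = 1 := by
      intro n
      have ht := (S.sq_mem_T_iff n.2 hh).mpr hhh
      rw [extendByZero_mem S.T _ ht, S.psi_sq φ hφ2 n.2 hh ht, h1, MonoidHom.one_apply,
        Units.val_one]
    rw [Finset.sum_congr rfl (fun n _ => h2 n), Finset.sum_const, Finset.card_univ,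
      nsmul_eq_mul, mul_one, Nat.card_eq_fintype_card]
  · by_cases hhh : h * h ∈ S.T
    · have h2 : ∀ n : S.N, extendByZero S.T (S.psi φ) (((n : G) * h) * ((n : G) * h)) =
          ((Units.coeHom ℂ).comp (S.lam * S.lamcHom h)) n := by
        intro n
        have ht := (S.sq_mem_T_iff n.2 hh).mpr hhh
        rw [extendByZero_mem S.T _ ht, S.psi_sq φ hφ2 n.2 hh ht]
        rfl
      rw [Finset.sum_congr rfl (fun n _ => h2 n)]
      apply sum_hom_units_eq_zero
      intro h3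
      apply hz
      rw [S.zinv_mul_mem_T_iff]
      ext n
      have h4 := DFunLike.congr_fun h3 n
      exact h4
    · apply Finset.sum_eq_zero
      intro n _
      apply extendByZero_not_mem
      rw [S.sq_mem_T_iff n.2 hh]
      exact hhh

/-- the product decomposition as an equivalence -/
noncomputable def prodEquiv : S.N × S.P ≃ G where
  toFun p := (p.1 : G) * (p.2 : G)
  invFun g := (⟨S.npart g, S.npart_mem g⟩, ⟨S.ppart g, S.ppart_mem g⟩)
  left_inv p := by
    apply Prod.ext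
    · apply Subtype.ext
      exact S.npart_mul' p.1.2 p.2.2
    · apply Subtype.ext
      exact S.ppart_mul' p.1.2 p.2.2
  right_inv g := S.npart_mul_ppart g

/-- decomposition of the stabilizer -/
noncomputable def stabEquiv : S.N × {h : S.P // S.z⁻¹ * (h : G) ∈ S.T} ≃ S.T where
  toFun p := ⟨(p.1 : G) * (S.z⁻¹ * (p.2.1 : G)), S.T.mul_mem (S.N_le_T p.1.2) p.2.2⟩
  invFun t := (⟨S.npart t, S.npart_mem t⟩,
    ⟨⟨S.z * S.ppart t, S.P.mul_mem S.hzP (S.ppart_mem t)⟩, by
      change S.z⁻¹ * (S.z * S.ppart t) ∈ S.T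
      rw [inv_mul_cancel_left]
      exact S.ppart_mem_T t.2⟩)
  left_inv p := by
    have hzh : S.z⁻¹ * (p.2.1 : G) ∈ S.P := S.P.mul_mem (S.P.inv_mem S.hzP) p.2.1.2
    apply Prod.ext
    · apply Subtype.ext
      exact S.npart_mul' p.1.2 hzh
    · apply Subtype.ext
      apply Subtype.ext
      change S.z * S.ppart ((p.1 : G) * (S.z⁻¹ * (p.2.1 : G))) = p.2.1
      rw [S.ppart_mul' p.1.2 hzh, mul_inv_cancel_left]
  right_inv t := by
    apply Subtype.ext
    change S.npart t * (S.z⁻¹ * (S.z * S.ppart t)) = t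
    rw [inv_mul_cancel_left]
    exact S.npart_mul_ppart t

theorem card_T_eq : Nat.card S.T = Nat.card S.N * Nat.card {h : S.P // S.z⁻¹ * (h : G) ∈ S.T} := by
  rw [← Nat.card_prod]
  exact (Nat.card_congr S.stabEquiv).symm

/-- the Frobenius–Schur sum of the extension by zero -/
theorem sum_extendByZero_sq (φ : G →* ℂˣ) (hφ2 : ∀ g, φ g * φ g = 1) :
    ∑ g : G, extendByZero S.T (S.psi φ) (g * g) = (Nat.card S.T : ℂ) := by
  classical
  rw [← S.prodEquiv.sum_comp, Fintype.sum_prod_type_right]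
  have h1 : ∀ h : S.P, ∑ n : S.N, extendByZero S.T (S.psi φ)
      (S.prodEquiv (n, h) * S.prodEquiv (n, h)) =
      if S.z⁻¹ * (h : G) ∈ S.T then (Nat.card S.N : ℂ) else 0 := by
    intro h
    exact S.inner_sum φ hφ2 h.2
  rw [Finset.sum_congr rfl (fun h _ => h1 h), Finset.sum_ite, Finset.sum_const_zero, add_zero,
    Finset.sum_const, nsmul_eq_mul, card_T_eq, Nat.cast_mul, mul_comm]
  congr 1
  rw [Nat.card_eq_fintype_card, Fintype.card_subtype]

/-- the Frobenius–Schur indicator of the induced characters is `1` -/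
theorem indicator_indFun_psi (φ : G →* ℂˣ) (hφ2 : ∀ g, φ g * φ g = 1) :
    (Nat.card G : ℂ)⁻¹ * ∑ g : G, indFun S.T (S.psi φ) (g * g) = 1 := by
  rw [sum_indFun_sq, S.sum_extendByZero_sq φ hφ2]
  have hG : (Nat.card G : ℂ) ≠ 0 := Nat.cast_ne_zero.mpr Nat.card_pos.ne'
  have hT : (Nat.card S.T : ℂ) ≠ 0 := Nat.cast_ne_zero.mpr Nat.card_pos.ne'
  field_simp

end chars

end Setup

/-- homomorphisms to `ℂˣ` agreeing on a subgroup `T` number at most the index of `T` -/
theorem card_le_index_of_agree {G : Type u} [Group G] [Finite G] (T : Subgroup G)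
    (A : Finset (G →* ℂˣ)) (hA : ∀ φ ∈ A, ∀ φ' ∈ A, ∀ t ∈ T, φ t = φ' t) :
    A.card ≤ T.index := by
  classical
  haveI : Fintype (G ⧸ T) := Fintype.ofFinite _
  rcases A.eq_empty_or_nonempty with hAe | ⟨φ₀, hφ₀⟩
  · rw [hAe, Finset.card_empty]; exact Nat.zero_le _
  have hwd : ∀ φ : A, ∀ a b : G, QuotientGroup.leftRel T a b →
      (((φ.1 a * (φ₀ a)⁻¹ : ℂˣ)) : ℂ) = (((φ.1 b * (φ₀ b)⁻¹ : ℂˣ)) : ℂ) := by
    intro φ a b hab
    rw [QuotientGroup.leftRel_apply] at hab
    have h2 := hA φ.1 φ.2 φ₀ hφ₀ _ hab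
    congr 1
    have h3 : φ.1 b = φ.1 a * φ.1 (a⁻¹ * b) := by rw [← map_mul]; congr 1; group
    have h4 : φ₀ b = φ₀ a * φ₀ (a⁻¹ * b) := by rw [← map_mul]; congr 1; group
    rw [h3, h4, h2, mul_inv, mul_mul_mul_comm, mul_inv_cancel, mul_one]
  let F : A → (G ⧸ T → ℂ) := fun φ => Quotient.lift (fun g => (((φ.1 g * (φ₀ g)⁻¹ : ℂˣ)) : ℂ))
    (hwd φ)
  have hli : LinearIndependent ℂ F := by
    apply LinearIndependent.of_comp (LinearMap.funLeft ℂ ℂ (QuotientGroup.mk : G → G ⧸ T))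
    let ι : A → (G →* ℂ) := fun φ => (Units.coeHom ℂ).comp (φ.1 * φ₀⁻¹)
    have hι : Function.Injective ι := by
      intro φ φ' h
      apply Subtype.ext
      ext g
      have h1 := DFunLike.congr_fun h g
      have h2 : (φ.1 g * (φ₀ g)⁻¹ : ℂˣ) = (φ'.1 g * (φ₀ g)⁻¹ : ℂˣ) := Units.ext h1
      have h3 := mul_right_cancel h2
      rw [h3]
    have h4 := (linearIndependent_monoidHom G ℂ).comp ι hι
    have h5 : ⇑(LinearMap.funLeft ℂ ℂ (QuotientGroup.mk : G → G ⧸ T)) ∘ F =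
        (fun f : G →* ℂ => (f : G → ℂ)) ∘ ι := by
      funext φ g
      rfl
    rw [h5]
    exact h4
  have h5 := hli.fintype_card_le_finrank
  rw [Module.finrank_fintype_fun_eq_card, Fintype.card_coe] at h5
  rw [Subgroup.index_eq_card, Nat.card_eq_fintype_card]
  exact h5

end Cfsg.Agent.Lib.Helper24.StrongReal
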