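import Mathlib
import Cfsg.Agent.S4713
import Cfsg.Agent.Lib.Helper6.DetChar
import Cfsg.Agent.Lib.Helper6.AbelianQuot
import Cfsg.Agent.Lib.Helper6.QuotBlock
import Cfsg.Agent.Lib.Helper6.LinChar
import Cfsg.Agent.Lib.Helper6.LinExt
import Cfsg.Agent.Lib.Helper6.CliffordCorr
import Cfsg.Agent.Lib.Helper6.Ramification2
import Cfsg.Agent.Lib.Helper25.PSolvableSub
import Cfsg.Agent.Lib.Helper12.Basic
import Cfsg.Agent.Lib.Helper24.NormalDegrees
import Cfsg.Agent.Lib.Helper24.PSolvable
import Cfsg.Agent.Lib.Helper24.IrrFacts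

/-!
# Sylow commutators and characters of degree divisible by `p` in `p`-solvable groups

* `exists_hom_extension_of_det`: a linear character `lam` of a normal `p`-subgroup `N` such
  that some character restricts to `e • lam` with `p ∤ e` extends to the whole group.
* `commutator_mem_of_over`: in a `p`-solvable group, if all irreducible characters over an
  invariant linear character `lam` of a normal `p`-subgroup `N` have `p'`-degree, then
  commutators of a Sylow `p`-subgroup lie in `N`.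
* `commutator_sylow_mem_of_kernel`: if `N ≠ ⊥` is an abelian normal `p`-subgroup contained in
  the kernel of every irreducible character of degree divisible by `p`, then `P' ≤ N`.
-/

set_option autoImplicit false

open Cfsg Cfsg.Agent.CharLib Cfsg.Agent.Lib.Helper6
open scoped ComplexConjugate

namespace Cfsg.Agent.Lib.Helper24

universe u

open scoped commutatorElement

section detExt

variable {X : Type u} [Group X] [Finite X]

/-- The determinantal character of a multiple of a linear character. -/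
theorem detChar_nat_smul_linear {lam : X → ℂ} (hlam : IsCharacter X lam) (h1 : lam 1 = 1) (e : ℕ) :
    detChar ((e : ℂ) • lam) = lam ^ e := by
  let ρ : Representation ℂ X (Fin e → ℂ) := 1
  have hρ : ρ.character = fun _ : X => (e : ℂ) := by
    funext g
    change LinearMap.trace ℂ (Fin e → ℂ) ((1 : Representation ℂ X (Fin e → ℂ)) g) = _
    rw [MonoidHom.one_apply]
    simp
  have hχ : IsCharacter X (fun _ : X => (e : ℂ)) := ⟨e, ρ, hρ⟩
  have hdet : detChar (fun _ : X => (e : ℂ)) = 1 := by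
    rw [← hρ, detChar_eq_of_rep]
    funext g
    change LinearMap.det ((1 : Representation ℂ X (Fin e → ℂ)) g) = 1
    rw [MonoidHom.one_apply]
    simp
  have h2 := detChar_linear_mul hlam h1 hχ (d := e) rfl
  have h3 : lam * (fun _ : X => (e : ℂ)) = (e : ℂ) • lam := by
    funext g
    simp [mul_comm]
  rw [h3, hdet, mul_one] at h2
  exact h2

/-- A linear character `lam` of a normal `p`-subgroup `N` lying under an irreducible character of
degree prime to `p` whose restriction to `N` is a multiple of `lam` extends to the group. -/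
theorem exists_hom_extension_of_det {p : ℕ} [hpp : Fact p.Prime] (N : Subgroup X)
    (hN : IsPGroup p N) (lam : N →* ℂˣ) {ψ : X → ℂ} (hψ : IsCharacter X ψ) (e : ℕ)
    (he : ¬ p ∣ e) (hres : ∀ n : N, ψ n = (e : ℂ) * ((lam n : ℂˣ) : ℂ)) :
    ∃ φ : X →* ℂˣ, ∀ n : N, φ n = lam n := by
  classical
  have hδ := detChar_isCharacter hψ
  set δ : X →* ℂˣ := linCharUnitsHom hδ.1 hδ.2 with hδdef
  have hδapp : ∀ x : X, ((δ x : ℂˣ) : ℂ) = detChar ψ x := fun x => rfl
  have hlamc : IsCharacter N (fun n : N => ((lam n : ℂˣ) : ℂ)) := isCharacter_of_hom lam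
  have hresf : resFun N ψ = (e : ℂ) • (fun n : N => ((lam n : ℂˣ) : ℂ)) := by
    funext n
    rw [resFun_apply, hres n]
    rfl
  have hδN : ∀ n : N, δ n = lam n ^ e := by
    intro n
    apply Units.ext
    rw [hδapp]
    have h1 := congrFun (detChar_resFun N hψ) n
    rw [resFun_apply] at h1
    rw [← h1, hresf, detChar_nat_smul_linear hlamc (by simp)]
    simp
  obtain ⟨j, hj⟩ := IsPGroup.iff_card.mp hN
  have hlamk : ∀ n : N, lam n ^ (p ^ j) = 1 := by
    intro n
    rw [← map_pow, ← hj, pow_card_eq_one', map_one]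
  have hcop : Nat.Coprime e (p ^ j) :=
    Nat.Coprime.pow_right j ((Nat.Prime.coprime_iff_not_dvd hpp.out).mpr he).symm
  -- Bezout
  obtain ⟨c, hc⟩ : ∃ c : ℕ, e * c ≡ 1 [MOD p ^ j] := by
    rcases Nat.eq_zero_or_pos j with h0 | hpos
    · refine ⟨0, ?_⟩
      rw [h0, pow_zero]
      exact Nat.modEq_one
    · have h1 : 1 < p ^ j := Nat.one_lt_pow hpos.ne' hpp.out.one_lt
      obtain ⟨m, -, hm⟩ := Nat.exists_mul_mod_eq_one_of_coprime hcop h1
      refine ⟨m, ?_⟩
      unfold Nat.ModEq
      rw [hm, Nat.mod_eq_of_lt h1]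
  refine ⟨δ ^ c, fun n => ?_⟩
  rw [MonoidHom.pow_apply, hδN, ← pow_mul]
  have h2 : lam n ^ (e * c) = lam n ^ 1 := by
    rw [pow_eq_pow_iff_modEq]
    exact hc.of_dvd (orderOf_dvd_of_pow_eq_one (hlamk n))
  rw [h2, pow_one]

end detExt

section lemmaL

variable {X : Type u} [Group X] [Fintype X]

/-- An irreducible character lying over a given irreducible character of a normal subgroup. -/
theorem exists_irr_lying_over (N : Subgroup X) [N.Normal] [Fintype N] {θ : N → ℂ}
    (hθ : IsIrrCharacter N θ) :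
    ∃ χ : IrrCharacter X, classInner (resFun N (χ : X → ℂ)) θ ≠ 0 := by
  classical
  have hθc : IsCharacter N θ := IsIrrCharacter.isCharacter hθ
  have hind : IsCharacter X (indFun N θ) := IsCharacter.indFun N hθc
  have hθ1 : θ 1 ≠ 0 := irr_apply_one_ne_zero ⟨θ, hθ⟩
  have hne : indFun N θ ≠ 0 := by
    intro h0
    have h1 := congrFun h0 1
    rw [Cfsg.Agent.Lib.Helper6.indFun_apply_one] at h1
    have hH : (Nat.card N : ℂ) ≠ 0 := by
      have : 0 < Nat.card N := Nat.card_pos
      exact_mod_cast this.ne'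
    have hG : (Nat.card X : ℂ) ≠ 0 := by
      have : 0 < Nat.card X := Nat.card_pos
      exact_mod_cast this.ne'
    have : (Nat.card N : ℂ)⁻¹ * (Nat.card X : ℂ) * θ 1 ≠ 0 :=
      mul_ne_zero (mul_ne_zero (inv_ne_zero hH) hG) hθ1
    exact this h1
  obtain ⟨χ, hχ, hχne⟩ := IsCharacter.exists_constituent hind hne
  have hχc : IsCharacter X χ := IsIrrCharacter.isCharacter hχ
  have hcls : IsClassFunction X χ := IsCharacter.isClassFunction hχc
  rw [frobenius_reciprocity N θ hcls] at hχne
  refine ⟨⟨χ, hχ⟩, ?_⟩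
  intro h0
  apply hχne
  rw [Cfsg.Agent.Lib.Helper10.classInner_conj_symm]
  have : classInner (fun h : N => χ h) θ = 0 := h0
  rw [this, map_zero]

end lemmaL

section lemmaL2

variable {X : Type u} [Group X] [Finite X]

/-- **Key lemma.**  Let `N` be a normal `p`-subgroup of the `p`-solvable group `X` and `lam` an
`X`-invariant linear character of `N` such that every irreducible character of `X` over `lam` has
degree prime to `p`.  Then `S' ≤ N` for every Sylow `p`-subgroup `S`. -/
theorem commutator_mem_of_over {p : ℕ} [hpp : Fact p.Prime] (hsolv : IsPSolvable p X)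
    (N : Subgroup X) [hNn : N.Normal] (hN : IsPGroup p N) (lam : N →* ℂˣ)
    (hinv : ∀ (x : X) (n : N), lam ⟨x * n * x⁻¹, hNn.conj_mem n n.2 x⟩ = lam n)
    (hover : ∀ ψ : IrrCharacter X, (∃ e : ℕ, e ≠ 0 ∧ ∀ n : N, (ψ : X → ℂ) n =
      (e : ℂ) * ((lam n : ℂˣ) : ℂ)) → ¬ p ∣ charDegree (ψ : X → ℂ))
    (S : Sylow p X) : ∀ a ∈ (S : Subgroup X), ∀ b ∈ (S : Subgroup X), ⁅a, b⁆ ∈ N := by
  classical
  letI : Fintype X := Fintype.ofFinite X
  letI : Fintype N := Fintype.ofFinite N
  set θ : N → ℂ := fun n => ((lam n : ℂˣ) : ℂ) with hθdef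
  have hθ : IsIrrCharacter N θ := isIrrCharacter_of_hom lam
  have hθinv : ∀ g : X, conjFun N g θ = θ := by
    intro g
    funext n
    rw [conjFun_apply]
    simp only [hθdef]
    rw [hinv g n]
  -- a character over `θ`
  obtain ⟨ψ, hψ⟩ := exists_irr_lying_over N hθ
  have hres := clifford_of_invariant N ψ.2 hθ hψ hθinv
  obtain ⟨e, he⟩ := IsCharacter.classInner_nat
    (isCharacter_resFun N (IsIrrCharacter.isCharacter ψ.2)) (IsIrrCharacter.isCharacter hθ)
  have he0 : e ≠ 0 := by
    intro h0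
    apply hψ
    rw [he, h0, Nat.cast_zero]
  have hψN : ∀ n : N, (ψ : X → ℂ) n = (e : ℂ) * ((lam n : ℂˣ) : ℂ) := by
    intro n
    have := congrFun hres n
    rw [resFun_apply, Pi.smul_apply, smul_eq_mul, he] at this
    exact this
  have hψdeg : charDegree (ψ : X → ℂ) = e := by
    have h1 := hψN 1
    rw [map_one, Units.val_one, mul_one] at h1
    have h2 := irr_apply_one ψ
    rw [Subgroup.coe_one] at h1
    rw [h1] at h2
    exact_mod_cast h2.symm
  have hpe : ¬ p ∣ e := by
    rw [← hψdeg]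
    exact hover ψ ⟨e, he0, hψN⟩
  -- extension of `lam`
  obtain ⟨φ, hφ⟩ := exists_hom_extension_of_det N hN lam (IsIrrCharacter.isCharacter ψ.2) e hpe hψN
  -- all characters of `X ⧸ N` have degree prime to `p`
  have hquot : ∀ β : IrrCharacter (X ⧸ N), ¬ p ∣ charDegree (β : X ⧸ N → ℂ) := by
    intro β
    obtain ⟨χ, hχ⟩ := exists_inflation N β
    have hφc : IsCharacter X (fun g => ((φ g : ℂˣ) : ℂ)) := isCharacter_of_hom φ
    have hξ : IsIrrCharacter X ((fun g => ((φ g : ℂˣ) : ℂ)) * (χ : X → ℂ)) :=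
      isIrrCharacter_linear_mul hφc (by simp) χ.2
    have hdegχ : charDegree (χ : X → ℂ) = charDegree (β : X ⧸ N → ℂ) := by
      unfold charDegree
      rw [hχ 1, QuotientGroup.mk_one]
    have hdegξ : charDegree ((fun g => ((φ g : ℂˣ) : ℂ)) * (χ : X → ℂ)) =
        charDegree (χ : X → ℂ) := by
      unfold charDegree
      rw [Pi.mul_apply, map_one, Units.val_one, one_mul]
    have hβ1 := irr_apply_one β
    have hβpos : charDegree (β : X ⧸ N → ℂ) ≠ 0 := by
      intro h0
      have := irr_apply_one_ne_zero β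
      rw [hβ1, h0, Nat.cast_zero] at this
      exact this rfl
    have := hover ⟨_, hξ⟩ ⟨charDegree (β : X ⧸ N → ℂ), hβpos, fun n => by
      change ((φ n : ℂˣ) : ℂ) * (χ : X → ℂ) n = _
      rw [hφ n, hχ n, (QuotientGroup.eq_one_iff (n : X)).mpr n.2, hβ1, mul_comm]⟩
    rw [← hdegχ, ← hdegξ]
    exact this
  -- Sylow subgroups of the quotient are abelian
  have hsolvQ : IsPSolvable p (X ⧸ N) :=
    isPSolvable_of_surjective p (QuotientGroup.mk' N) (QuotientGroup.mk'_surjective N) hsolv
  have hSmap : IsPGroup p ((S : Subgroup X).map (QuotientGroup.mk' N)) :=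
    S.isPGroup'.map _
  obtain ⟨Q, hQ⟩ := hSmap.exists_le_sylow
  have hQab := ((Cfsg.Agent.S4713.result p hsolvQ Q).mpr hquot).2
  intro a ha b hb
  have ha' : QuotientGroup.mk' N a ∈ (Q : Subgroup (X ⧸ N)) := hQ ⟨a, ha, rfl⟩
  have hb' : QuotientGroup.mk' N b ∈ (Q : Subgroup (X ⧸ N)) := hQ ⟨b, hb, rfl⟩
  have hcomm := hQab.is_comm.comm (⟨_, ha'⟩ : ↥(Q : Subgroup (X ⧸ N))) ⟨_, hb'⟩
  have hcomm' : QuotientGroup.mk' N a * QuotientGroup.mk' N b =
      QuotientGroup.mk' N b * QuotientGroup.mk' N a := congrArg Subtype.val hcomm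
  rw [← QuotientGroup.eq_one_iff, commutatorElement_def]
  have : ((a * b * a⁻¹ * b⁻¹ : X) : X ⧸ N) =
      QuotientGroup.mk' N a * QuotientGroup.mk' N b * (QuotientGroup.mk' N a)⁻¹ *
        (QuotientGroup.mk' N b)⁻¹ := by
    simp
  rw [this, hcomm']
  group

end lemmaL2


section partD

variable {G : Type u} [Group G] [Finite G]

/-- A nontrivial finite abelian group has a nontrivial linear character. -/
theorem exists_hom_ne_one_of_comm (N : Subgroup G) (hNab : ∀ a ∈ N, ∀ b ∈ N, a * b = b * a)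
    (hNne : N ≠ ⊥) : ∃ lam : N →* ℂˣ, lam ≠ 1 := by
  classical
  have hcomm : commutator N = ⊥ := by
    rw [commutator_def, Subgroup.commutator_eq_bot_iff_le_centralizer]
    intro x _ y _
    exact Subtype.ext (hNab y y.2 x x.2)
  have hcard : Nat.card (N →* ℂˣ) = Nat.card N := by
    rw [card_hom_units, hcomm, Subgroup.index_bot]
  have h1 : 1 < Nat.card N := by
    rw [Subgroup.one_lt_card_iff_ne_bot]; exact hNne
  haveI : Finite (N →* ℂˣ) := Nat.finite_of_card_ne_zero (by rw [hcard]; omega)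
  rw [← hcard, Finite.one_lt_card_iff_nontrivial] at h1
  obtain ⟨lam, hlam⟩ := exists_ne (1 : N →* ℂˣ)
  exact ⟨lam, hlam⟩

/-- **Part (D).**  If every irreducible character of degree divisible by `p` of the `p`-solvable
group `G` contains the nontrivial abelian normal `p`-subgroup `N` in its kernel, then `P' ≤ N`
for a Sylow `p`-subgroup `P`. -/
theorem commutator_sylow_mem_of_kernel {p : ℕ} [hpp : Fact p.Prime] (hsolv : IsPSolvable p G)
    (N : Subgroup G) [hNn : N.Normal] (hN : IsPGroup p N)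
    (hNab : ∀ a ∈ N, ∀ b ∈ N, a * b = b * a) (hNne : N ≠ ⊥)
    (hker : ∀ χ : IrrCharacter G, p ∣ charDegree (χ : G → ℂ) →
      ∀ x ∈ N, (χ : G → ℂ) x = (χ : G → ℂ) 1)
    (P : Sylow p G) : ∀ a ∈ (P : Subgroup G), ∀ b ∈ (P : Subgroup G), ⁅a, b⁆ ∈ N := by
  classical
  letI : Fintype G := Fintype.ofFinite G
  letI : Fintype N := Fintype.ofFinite N
  obtain ⟨lam, hlam⟩ := exists_hom_ne_one_of_comm N hNab hNne
  set θ : N → ℂ := fun n => ((lam n : ℂˣ) : ℂ) with hθdef
  have hθ : IsIrrCharacter N θ := isIrrCharacter_of_hom lam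
  have hθne : θ ≠ (1 : N → ℂ) := by
    intro h
    apply hlam
    apply MonoidHom.ext
    intro n
    apply Units.ext
    have := congrFun h n
    simpa [hθdef] using this
  set T : Subgroup G := inertiaSubgroup N θ with hTdef
  letI : Fintype T := Fintype.ofFinite T
  have hT : ∀ g : G, g ∈ T ↔ conjFun N g θ = θ := fun g => Iff.rfl
  have hNT : N ≤ T := by
    intro n hn
    rw [hT]
    exact conjFun_of_mem N (IsCharacter.isClassFunction (IsIrrCharacter.isCharacter hθ)) hn
  -- step 4: characters over `θ` have degree prime to `p`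
  have hoverG : ∀ χ : IrrCharacter G, classInner (resFun N (χ : G → ℂ)) θ ≠ 0 →
      ¬ p ∣ charDegree (χ : G → ℂ) := by
    intro χ hχ hpd
    apply hχ
    have h1 : resFun N (χ : G → ℂ) = ((χ : G → ℂ) 1) • (1 : N → ℂ) := by
      funext n
      rw [resFun_apply, hker χ hpd n n.2]
      simp
    rw [h1, Cfsg.Agent.Lib.Helper10.classInner_smul_left,
      classInner_irr (isIrrCharacter_one N) hθ, if_neg (fun h => hθne h.symm), mul_zero]
  -- step 5: the orbit has size prime to `p`
  have horb : ¬ p ∣ (conjOrbit N θ).card := by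
    obtain ⟨χ, hχ⟩ := exists_irr_lying_over N hθ
    have h1 := clifford_degree N χ.2 hθ hχ
    obtain ⟨c, hc⟩ := IsCharacter.classInner_nat
      (isCharacter_resFun N (IsIrrCharacter.isCharacter χ.2)) (IsIrrCharacter.isCharacter hθ)
    have hθ1 : θ 1 = 1 := by simp [hθdef]
    rw [hc, hθ1, mul_one, irr_apply_one] at h1
    have h2 : charDegree (χ : G → ℂ) = c * (conjOrbit N θ).card := by exact_mod_cast h1
    intro hd
    apply hoverG χ hχ
    rw [h2]
    exact dvd_mul_of_dvd_right hd _
  have hcardT : (conjOrbit N θ).card * Nat.card T = Nat.card G := by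
    rw [card_eq_card_stab hT]; exact card_conjOrbit_mul N θ
  -- step 6: characters of `T` over `θ` have degree prime to `p`
  have hoverT : ∀ ψ : IrrCharacter T, classInner (resLE hNT (ψ : T → ℂ)) θ ≠ 0 →
      ¬ p ∣ charDegree (ψ : T → ℂ) := by
    intro ψ hψ hpd
    obtain ⟨hirr, hinner⟩ := isIrrCharacter_indFun_inertia hNT hθ hT ψ.2 hψ
    have hover := hoverG ⟨_, hirr⟩ (by rw [hinner]; exact hψ)
    apply hover
    have h1 := indFun_inertia_apply_one hNT hθ hT ψ.2 hψ
    have hψN := resLE_eq_smul_of_invariant hNT ψ.2 hθ (fun t ht => (hT t).mp ht) hψ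
    have hψ1 : (ψ : T → ℂ) 1 = classInner (resLE hNT (ψ : T → ℂ)) θ * θ 1 := by
      have := congrFun hψN 1
      rw [Pi.smul_apply, smul_eq_mul] at this
      exact this
    rw [mul_assoc, ← hψ1, irr_apply_one ψ] at h1
    have h2 := irr_apply_one (⟨_, hirr⟩ : IrrCharacter G)
    have h3 : (indFun T (ψ : T → ℂ)) 1 = (charDegree (indFun T (ψ : T → ℂ)) : ℂ) := h2
    rw [h3] at h1
    have h4 : charDegree (indFun T (ψ : T → ℂ)) =
        (conjOrbit N θ).card * charDegree (ψ : T → ℂ) := by exact_mod_cast h1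
    show p ∣ charDegree (indFun T (ψ : T → ℂ))
    rw [h4]
    exact dvd_mul_of_dvd_right hpd _
  -- step 7: apply the key lemma in `T`
  have hsolvT : IsPSolvable p T := Cfsg.Agent.Lib.Helper25.isPSolvable_subgroup p hsolv T
  set NT : Subgroup T := N.subgroupOf T with hNTdef
  haveI hNTn : NT.Normal := Subgroup.Normal.subgroupOf hNn T
  set eqv : NT ≃* N := Subgroup.subgroupOfEquivOfLe hNT with heqv
  have hNTp : IsPGroup p NT := hN.comap_subtype
  set lamT : NT →* ℂˣ := lam.comp eqv.toMonoidHom with hlamT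
  have hlamTapp : ∀ n : NT, lamT n = lam ⟨((n : T) : G), n.2⟩ := fun n => rfl
  have hinvT : ∀ (x : T) (n : NT), lamT ⟨x * n * x⁻¹, hNTn.conj_mem n n.2 x⟩ = lamT n := by
    intro x n
    rw [hlamTapp, hlamTapp]
    have h1 := congrFun ((hT x).mp x.2) ⟨((n : T) : G), n.2⟩
    rw [conjFun_apply] at h1
    apply Units.ext
    exact h1
  have hkeyT := commutator_mem_of_over hsolvT NT hNTp lamT hinvT (by
    rintro ψ ⟨e, he0, hψe⟩
    apply hoverT ψ
    have h1 : resLE hNT (ψ : T → ℂ) = (e : ℂ) • θ := by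
      funext n
      rw [resLE_apply, Pi.smul_apply, smul_eq_mul]
      have := hψe ⟨⟨(n : G), hNT n.2⟩, n.2⟩
      rw [hlamTapp] at this
      exact this
    rw [h1, Cfsg.Agent.Lib.Helper10.classInner_smul_left, classInner_irr hθ hθ, if_pos rfl,
      mul_one]
    exact_mod_cast he0)
  -- step 9: conjugate `P` into a Sylow subgroup of `T`
  obtain ⟨ST⟩ : Nonempty (Sylow p T) := inferInstance
  set S : Subgroup G := (ST : Subgroup T).map T.subtype with hSdef
  have hSp : IsPGroup p S := ST.isPGroup'.map _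
  have hScard : Nat.card S = p ^ (Nat.card G).factorization p := by
    rw [hSdef, Subgroup.card_map_of_injective T.subtype_injective, Sylow.card_eq_multiplicity,
      ← hcardT, Nat.factorization_mul (Finset.card_pos.mpr ⟨θ, self_mem_conjOrbit N θ⟩).ne'
        Nat.card_pos.ne']
    simp only [Finsupp.coe_add, Pi.add_apply]
    rw [Nat.factorization_eq_zero_of_not_dvd horb, zero_add]
  have hSidx : ¬ p ∣ S.relIndex ⊤ := by
    rw [Subgroup.relIndex_top_right]
    intro hd
    have h1 := Subgroup.card_mul_index S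
    rw [hScard] at h1
    have h2 : p ^ ((Nat.card G).factorization p + 1) ∣ Nat.card G := by
      have h3 : p ^ (Nat.card G).factorization p * p ∣
          p ^ (Nat.card G).factorization p * S.index := Nat.mul_dvd_mul_left _ hd
      rw [h1] at h3
      rw [pow_succ]
      exact h3
    exact (Nat.pow_succ_factorization_not_dvd Nat.card_pos.ne' hpp.out) h2
  obtain ⟨y, -, hy⟩ := Cfsg.Agent.Lib.Helper12.exists_conj_mem_of_relIndex S ⊤ (P : Subgroup G)
    hSp hSidx le_top P.isPGroup'
  intro a ha b hb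
  obtain ⟨a', ha', haa'⟩ := hy a ha
  obtain ⟨b', hb', hbb'⟩ := hy b hb
  have hab' := hkeyT ST a' ha' b' hb'
  rw [hNTdef, Subgroup.mem_subgroupOf] at hab'
  have h1 : ((⁅a', b'⁆ : T) : G) = ⁅y * a * y⁻¹, y * b * y⁻¹⁆ := by
    rw [commutatorElement_def, commutatorElement_def]
    push_cast
    rw [← haa', ← hbb']
    rfl
  rw [h1] at hab'
  have h2 : ⁅a, b⁆ = y⁻¹ * ⁅y * a * y⁻¹, y * b * y⁻¹⁆ * y⁻¹⁻¹ := by
    rw [commutatorElement_def, commutatorElement_def]; group
  rw [h2]
  exact hNn.conj_mem _ hab' y⁻¹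

end partD

end Cfsg.Agent.Lib.Helper24
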