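import Mathlib
import Cfsg.Agent.Lib.Helper5.TWS.Defs
import Cfsg.Agent.Lib.Helper5.TWS.StageIDefs
import Cfsg.Agent.Lib.Helper9.TWST
import Cfsg.Agent.Lib.Helper5.TWS.ITwist
import Cfsg.Agent.Lib.Helper28.TWUI5
import Cfsg.Agent.Lib.Helper4.TWUQCm
import Cfsg.Agent.Lib.Helper26.TWFibA
import Cfsg.Agent.Lib.Helper26.TWFibB
import Cfsg.Agent.Lib.Helper16.TWImg
import Cfsg.Agent.Lib.Helper16.TWRootA
import Cfsg.Agent.Lib.Helper16.TWRootC

/-!
S5668 Stage I leaf I4a `same_pos_ti` (`notes/S5668_I_leaves.lean`): case (β) with a totally isotropic pair contradicts (CM).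
Symplectic twin of `Helper5.TWULeaf.same_pos_ti` (TWU/I4a).
-/

set_option autoImplicit false
set_option linter.unusedSectionVars false
set_option linter.unusedVariables false

namespace Cfsg.Agent.Lib.Helper24.TWSLeaf
open Matrix Cfsg.Geo Cfsg.Agent.Lib.Helper18.AschA89 Cfsg.Agent.Lib.Helper8.TW Cfsg.Agent.Lib.Helper5.TWS
open Cfsg.Agent.Lib.Helper25.SpT (sf Jm sfv)
open Cfsg.Agent.Lib.Helper16.TWLeaf (img_mul img_one finrank_img RD_finrank_W RD_W_le_C img_le_img_iff)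
open Cfsg.Agent.Lib.Helper5.TWSLeaf (N_mulVec_mem_W N_mulVec_eq_zero mv_mem_img inv_mv_mem_of_mem_img)

variable {F : Type*} [Field F] [Fintype F] {t k : ℕ}

lemma mat_eq_zero_of_mulVec24 {ι : Type} [Fintype ι] [DecidableEq ι] (M : Matrix ι ι F) (h : ∀ v, M *ᵥ v = 0) :
    M = 0 := by
  apply Matrix.toLin'.injective
  apply LinearMap.ext
  intro v
  rw [Matrix.toLin'_apply, h, map_zero]
  rfl

/-- for admissible `r`: dual fibre = perp of the fibre -/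
lemma C_eq_perpT24 (hk : Even k) (r : RD t k F) (hr : RS r) : r.C = perpT r.W := by
  change Cf r.i r.η = perpT (Wf r.i r.y)
  rw [Cfsg.Agent.Lib.Helper9.TWST.perpT_Wf hk r.i r.y r.hy, hr]

/-- I4a case (β), totally isotropic pair: contradiction with (CM) -/
theorem same_pos_ti {X : Subgroup (GL (Idx t k) F)} (c : CtxS X) (g : GL (Idx t k) F) (hgX : g ∈ X)
    (hgG : g ∉ Gstd t k F) (r₁ r₂ r₃ : RD t k F) (hr₁ : RS r₁) (hr₂ : RS r₂) (x : GL (Idx t k) F)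
    (K : KeyS g r₁ r₂ x r₃) (hi : r₃.i = r₁.i) (hne : r₃.W ≠ r₁.W) (hperp : sf r₁.y r₃.y = 0) : False := by
  have hk := c.hk
  have hk2 : 2 ≤ k := c.hk2
  have hgD : g ∈ DSV t k F := c.hXD hgX
  -- `y₃ ∉ F y`
  have hind : ¬ ∃ a : F, r₃.y = a • r₁.y := by
    rintro ⟨a, ha⟩
    apply hne
    change Wf r₃.i r₃.y = Wf r₁.i r₁.y
    rw [hi, ha]
    unfold Wf
    congr 1
    have ha0 : a ≠ 0 := by
      rintro rfl
      rw [zero_smul] at ha
      exact r₃.hy ha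
    exact Submodule.span_singleton_smul_eq (IsUnit.mk0 a ha0) r₁.y
  -- `W₁ ⊓ W₃ = ⊥`, so `W₁ ⊔ W₃ = W₁ ⊔ W'`
  have hinf : r₁.W ⊓ r₃.W = ⊥ := by
    change Wf r₁.i r₁.y ⊓ Wf r₃.i r₃.y = ⊥
    rw [hi]
    exact Cfsg.Agent.Lib.Helper28.TWULeaf.Wf_inf_Wf_same r₁.i r₃.y r₁.y r₁.hy hind
  have hle : r₁.W ⊔ r₃.W ≤ r₁.W ⊔ img g r₂.W := sup_le le_sup_left K.h1
  have heq : r₁.W ⊔ r₃.W = r₁.W ⊔ img g r₂.W := by
    apply Submodule.eq_of_le_of_finrank_le hle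
    have h1 := Submodule.finrank_sup_add_finrank_inf_eq r₁.W r₃.W
    rw [hinf, finrank_bot, add_zero, RD_finrank_W, RD_finrank_W] at h1
    have h2 := Submodule.finrank_add_le_finrank_add_finrank r₁.W (img g r₂.W)
    rw [finrank_img, RD_finrank_W, RD_finrank_W] at h2
    omega
  have hW'le : img g r₂.W ≤ r₁.W ⊔ r₃.W := by
    rw [heq]; exact le_sup_right
  -- `W₁ ⊔ W₃ ≤ C₁`
  have h3C : r₃.W ≤ r₁.C := by
    change fib r₃.i (F ∙ r₃.y) ≤ fib r₁.i (kerF r₁.η)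
    rw [hi]
    apply Cfsg.Agent.Lib.Helper26.TWLeaf.fib_mono
    rw [Submodule.span_le, Set.singleton_subset_iff, SetLike.mem_coe, mem_kerF, hr₁,
      Cfsg.Agent.Lib.Helper25.SpT.sfv_dot, Cfsg.Agent.Lib.Helper25.SpT.sf_skew, hperp, neg_zero]
  have hW'C : img g r₂.W ≤ r₁.C := hW'le.trans (sup_le (RD_W_le_C r₁) h3C)
  -- `W₁ ≤ C'`
  have hC' : img g r₂.C = perpT (img g r₂.W) := by
    rw [C_eq_perpT24 hk r₂ hr₂, Cfsg.Agent.Lib.Helper9.TWST.img_perpT hgD]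
  have hW₁C' : r₁.W ≤ img g r₂.C := by
    rw [hC']
    intro w₁ hw₁
    rw [mem_perpT]
    intro w' hw'
    have h1 : w' ∈ perpT r₁.W := by
      rw [← C_eq_perpT24 hk r₁ hr₁]; exact hW'C hw'
    exact Cfsg.Agent.Lib.Helper9.TWST.sfT_symm_zero hk ((mem_perpT.1 h1) w₁ hw₁)
  -- the two nilpotents annihilate each other
  set N' : Matrix (Idx t k) (Idx t k) F :=
    (g : Matrix (Idx t k) (Idx t k) F) * r₂.N * ((g⁻¹ : GL (Idx t k) F) : Matrix (Idx t k) (Idx t k) F) with hN'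
  have hN'mem : ∀ v, N' *ᵥ v ∈ img g r₂.W := by
    intro v
    rw [hN', ← Matrix.mulVec_mulVec, ← Matrix.mulVec_mulVec]
    exact mv_mem_img (N_mulVec_mem_W r₂ _)
  have h1 : r₁.N * N' = 0 := by
    apply mat_eq_zero_of_mulVec24
    intro v
    rw [← Matrix.mulVec_mulVec]
    exact N_mulVec_eq_zero r₁ (hW'C (hN'mem v))
  have h2 : N' * r₁.N = 0 := by
    apply mat_eq_zero_of_mulVec24
    intro v
    rw [← Matrix.mulVec_mulVec, hN', ← Matrix.mulVec_mulVec, ← Matrix.mulVec_mulVec]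
    have h0 : r₂.N *ᵥ (((g⁻¹ : GL (Idx t k) F) : Matrix (Idx t k) (Idx t k) F) *ᵥ (r₁.N *ᵥ v)) = 0 :=
      N_mulVec_eq_zero r₂ (inv_mv_mem_of_mem_img (hW₁C' (N_mulVec_mem_W r₁ v)))
    rw [h0, Matrix.mulVec_zero]
  have hval : ∀ d : F, ((g * r₂.elt d * g⁻¹ : GL (Idx t k) F) : Matrix (Idx t k) (Idx t k) F) = 1 + d • N' := by
    intro d
    rw [Units.val_mul, Units.val_mul, RD.elt_val, mul_add, add_mul, mul_one, ← Units.val_mul, mul_inv_cancel,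
      Units.val_one, Matrix.mul_smul, Matrix.smul_mul]
  -- (CM)
  have : CharP F (ringChar F) := ringChar.charP F
  have : Fact (ringChar F).Prime := ⟨CharP.char_is_prime F (ringChar F)⟩
  refine Cfsg.Agent.Lib.Helper4.TWUQLeaf.cm_of_fcp (p := ringChar F) c.fc
    (fun r hr d _ => c.hHX (Cfsg.Agent.Lib.Helper9.TWST.elt_mem_HS hk hr d)) r₁ r₂ hr₁ hr₂ g hgX hgG ?_
  intro a _ d _
  apply Units.ext
  have e1 : ((r₁.elt a * (g * r₂.elt d * g⁻¹) : GL (Idx t k) F) : Matrix (Idx t k) (Idx t k) F)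
      = (1 + a • r₁.N) * (1 + d • N') := by
    rw [Units.val_mul (r₁.elt a), hval d, RD.elt_val]
  have e2 : (((g * r₂.elt d * g⁻¹) * r₁.elt a : GL (Idx t k) F) : Matrix (Idx t k) (Idx t k) F)
      = (1 + d • N') * (1 + a • r₁.N) := by
    rw [Units.val_mul _ (r₁.elt a), hval d, RD.elt_val]
  rw [e1, e2]
  have hAB : (a • r₁.N) * (d • N') = 0 := by
    rw [Matrix.smul_mul, Matrix.mul_smul, h1, smul_zero, smul_zero]
  have hBA : (d • N') * (a • r₁.N) = 0 := by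
    rw [Matrix.smul_mul, Matrix.mul_smul, h2, smul_zero, smul_zero]
  simp only [add_mul, mul_add, one_mul, mul_one, hAB, hBA]
  abel

end Cfsg.Agent.Lib.Helper24.TWSLeaf
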