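import Mathlib
import Cfsg.Agent.Lib.Helper5.TWS.Defs
import Cfsg.Agent.Lib.Helper5.TWS.StageIDefs
import Cfsg.Agent.Lib.Helper9.TWST
import Cfsg.Agent.Lib.Helper17.TWSIKeyCore
import Cfsg.Agent.Lib.Helper28.TWSIWeyl
import Cfsg.Agent.Lib.Helper16.TWImg

/-!
S5668 Stage I leaf I4b `same_pos_hyp` (`notes/S5668_I_leaves.lean`), CORE form: in the case (β) with a hyperbolic pair, change `x`
by the Weyl element.  Symplectic twin of `Helper5.TWULeaf.same_pos_hyp` (TWU/I4b); the toolkit facts ST7 (`G_act_RS`) and ST7'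
(`grp_eq_of_W`) enter as the hypotheses `Helper17.TWSKey.ST7`, `ST7'` (the exact-signature wrapper is `Helper24.TWSI4b`).
-/

set_option autoImplicit false
set_option linter.unusedSectionVars false
set_option linter.unusedVariables false

namespace Cfsg.Agent.Lib.Helper24.TWSLeaf
open Matrix Cfsg.Geo Cfsg.Agent.Lib.Helper18.AschA89 Cfsg.Agent.Lib.Helper8.TW Cfsg.Agent.Lib.Helper5.TWS
open Cfsg.Agent.Lib.Helper25.SpT (sf Jm sfv)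
open Cfsg.Agent.Lib.Helper16.TWLeaf (img_mul img_one conjG_mul mem_img_iff img_le_img_iff RD_W_le_C)
open Cfsg.Agent.Lib.Helper17.TWSKey (ST3 ST7 ST7' sup_le_X keyS_congr_of)

variable {F : Type*} [Field F] [Fintype F] {t k : ℕ}

/-- the key from ANY `x ∈ ⟨T₁, T'⟩` with `x⁻¹ g ∈ G` (body of helper17's `keyS_of`) -/
theorem keyS_of_x (h3 : ST3 t k F) (h7 : ST7 t k F) {X : Subgroup (GL (Idx t k) F)} (c : CtxS X)
    (g : GL (Idx t k) F) (hgX : g ∈ X) (r₁ r₂ : RD t k F) (hr₁ : RS r₁) (hr₂ : RS r₂) (x : GL (Idx t k) F)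
    (hx : x ∈ r₁.grp ⊔ conjG g r₂.grp) (hh : x⁻¹ * g ∈ Gstd t k F) :
    ∃ r₃ : RD t k F, KeyS g r₁ r₂ x r₃ := by
  have hxX : x ∈ X := sup_le_X h3 c g hgX r₁ r₂ hr₁ hr₂ hx
  have hhD : x⁻¹ * g ∈ DSV t k F := c.hXD (X.mul_mem (X.inv_mem hxX) hgX)
  obtain ⟨r₃, hr₃, hW3, hC3, hT3⟩ := h7 (x⁻¹ * g) hh hhD r₂ hr₂
  have hxg : x * (x⁻¹ * g) = g := by group
  have hxi : x⁻¹ ∈ r₁.grp ⊔ conjG g r₂.grp := Subgroup.inv_mem _ hx
  obtain ⟨hx1, hx2⟩ := Cfsg.Agent.Lib.Helper23.TWLeaf.G0_props g r₁ r₂ x hx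
  obtain ⟨hxi1, hxi2⟩ := Cfsg.Agent.Lib.Helper23.TWLeaf.G0_props g r₁ r₂ x⁻¹ hxi
  have hW3' : r₃.W = img x⁻¹ (img g r₂.W) := by
    rw [← hW3, img_mul]
  have hWC' : img g r₂.W ≤ img g r₂.C := (img_le_img_iff g _ _).2 (RD_W_le_C r₂)
  refine ⟨r₃, ⟨hr₃, hx, hh, ?_, ?_, ?_, ?_, hx1, hx2⟩⟩
  · rw [← hW3, ← img_mul, hxg]
  · rw [← hT3, ← conjG_mul, hxg]
  · intro w hw
    rw [hW3', mem_img_iff, inv_inv] at hw
    have h1 := hxi1 (mv x w)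
    rw [Cfsg.Agent.Lib.Helper23.TWLeaf.i1_mv_inv_mv] at h1
    have : w = mv x w + (w - mv x w) := by abel
    rw [this]
    exact Submodule.add_mem _ (Submodule.mem_sup_right hw) h1
  · intro v hv'
    have hvD : v ∈ r₁.C ⊓ img g r₂.C := ⟨hv'.2, hWC' hv'.1⟩
    have hfix := hxi2 v hvD
    rw [hW3', ← hfix]
    exact Cfsg.Agent.Lib.Helper23.TWLeaf.i1_mv_mem_img x⁻¹ _ hv'.1

lemma conj_mem_of_mem24 {G₀ : Subgroup (GL (Idx t k) F)} {a : GL (Idx t k) F} (ha : a ∈ G₀)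
    {T : Subgroup (GL (Idx t k) F)} (hT : T ≤ G₀) : conjG a T ≤ G₀ := by
  intro u hu
  obtain ⟨v, hv, rfl⟩ := mem_conjG.1 hu
  exact G₀.mul_mem (G₀.mul_mem ha (hT hv)) (G₀.inv_mem ha)

lemma conjG_one24 (T : Subgroup (GL (Idx t k) F)) : conjG (1 : GL (Idx t k) F) T = T := by
  ext u
  rw [mem_conjG]
  constructor
  · rintro ⟨v, hv, rfl⟩
    simpa using hv
  · intro hu
    exact ⟨u, hu, by simp⟩

/-- I4b case (β), hyperbolic pair: CORE form (ST7, ST7' as hypotheses) -/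
theorem same_pos_hyp_of (h7 : ST7 t k F) (h7' : ST7' t k F) {X : Subgroup (GL (Idx t k) F)} (c : CtxS X)
    (g : GL (Idx t k) F) (hgX : g ∈ X)
    (r₁ r₂ r₃ : RD t k F) (hr₁ : RS r₁) (hr₂ : RS r₂) (x : GL (Idx t k) F)
    (K : KeyS g r₁ r₂ x r₃) (hi : r₃.i = r₁.i) (hnp : sf r₁.y r₃.y ≠ 0) :
    ∃ x' : GL (Idx t k) F, KeyS g r₁ r₂ x' r₁ := by
  have hk := c.hk
  have hk2 : 2 ≤ k := c.hk2
  have h3 : ST3 t k F := fun r hr d => Cfsg.Agent.Lib.Helper9.TWST.elt_mem_HS hk hr d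
  set G₀ : Subgroup (GL (Idx t k) F) := r₁.grp ⊔ conjG g r₂.grp with hG₀
  have hxG₀ : x ∈ G₀ := K.x_mem
  -- `r₃.grp ≤ G₀`
  have h3le : r₃.grp ≤ G₀ := by
    have e : r₃.grp = conjG x⁻¹ (conjG g r₂.grp) := by
      rw [← K.hT, ← conjG_mul, inv_mul_cancel, conjG_one24]
    rw [e]
    exact conj_mem_of_mem24 (G₀.inv_mem hxG₀) le_sup_right
  -- the Weyl element
  obtain ⟨w, hw, hwG, hwimg⟩ := Cfsg.Agent.Lib.Helper28.TWSLeaf.weylS hk r₁.i r₁.y r₃.y r₁.hy r₃.hy hnp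
  have hu1 : (srd hk r₁.i r₁.y r₁.hy : RD t k F).grp = r₁.grp :=
    h7' _ _ (srd_RS hk _ _ _) hr₁ rfl
  have hu3 : (srd hk r₁.i r₃.y r₃.hy : RD t k F).grp = r₃.grp := by
    apply h7' _ _ (srd_RS hk _ _ _) K.hr₃
    change Wf r₁.i r₃.y = Wf r₃.i r₃.y
    rw [hi]
  rw [hu1, hu3] at hw
  have hwG₀ : w ∈ G₀ := (sup_le le_sup_left h3le) hw
  -- `x' := x * w⁻¹`
  have hx'G₀ : x * w⁻¹ ∈ G₀ := G₀.mul_mem hxG₀ (G₀.inv_mem hwG₀)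
  have hh' : (x * w⁻¹)⁻¹ * g ∈ Gstd t k F := by
    have : (x * w⁻¹)⁻¹ * g = w * (x⁻¹ * g) := by group
    rw [this]
    exact (Gstd t k F).mul_mem hwG K.h_mem
  obtain ⟨r₃', K'⟩ := keyS_of_x h3 h7 c g hgX r₁ r₂ hr₁ hr₂ (x * w⁻¹) hx'G₀ hh'
  refine ⟨x * w⁻¹, keyS_congr_of h7' K' hr₁ ?_⟩
  -- `r₁.W = r₃'.W`
  have e1 : r₃'.W = img (x * w⁻¹)⁻¹ (img g r₂.W) := by
    rw [← K'.hW, ← img_mul, inv_mul_cancel, img_one]
  have e2 : img (x * w⁻¹)⁻¹ (img g r₂.W) = img w r₃.W := by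
    rw [← K.hW, ← img_mul]
    have : (x * w⁻¹)⁻¹ * x = w := by group
    rw [this]
  have e3 : img w r₃.W = r₁.W := by
    change img w (Wf r₃.i r₃.y) = Wf r₁.i r₁.y
    rw [hi]
    exact hwimg
  rw [e1, e2, e3]

end Cfsg.Agent.Lib.Helper24.TWSLeaf
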