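import Mathlib
import Cfsg.Agent.Lib.Helper24.TWSI4bCore
import Cfsg.Agent.Lib.Helper9.TWSIG
import Cfsg.Agent.Lib.Helper16.TWSIGrpW

/-!
S5668 Stage I leaf I4b `same_pos_hyp` with the EXACT signature of `notes/S5668_I_leaves.lean`:
`same_pos_hyp_of` (TWSI4bCore) fed with helper9's `G_act_RS` (ST7) and helper16's `grp_eq_of_W` (ST7').
-/

set_option autoImplicit false
set_option linter.unusedSectionVars false
set_option linter.unusedVariables false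

namespace Cfsg.Agent.Lib.Helper24.TWSLeaf
open Matrix Cfsg.Geo Cfsg.Agent.Lib.Helper18.AschA89 Cfsg.Agent.Lib.Helper8.TW Cfsg.Agent.Lib.Helper5.TWS
open Cfsg.Agent.Lib.Helper25.SpT (sf Jm sfv)

variable {F : Type*} [Field F] [Fintype F] {t k : ℕ}

/-- I4b (M) case (β), `Y` HYPERBOLIC: change `x` by the Weyl element -/
theorem same_pos_hyp {X : Subgroup (GL (Idx t k) F)} (c : CtxS X) (g : GL (Idx t k) F) (hgX : g ∈ X)
    (r₁ r₂ r₃ : RD t k F) (hr₁ : RS r₁) (hr₂ : RS r₂) (x : GL (Idx t k) F)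
    (K : KeyS g r₁ r₂ x r₃) (hi : r₃.i = r₁.i) (hnp : sf r₁.y r₃.y ≠ 0) :
    ∃ x' : GL (Idx t k) F, KeyS g r₁ r₂ x' r₁ :=
  same_pos_hyp_of
    (fun g hgG hgD r hr => Cfsg.Agent.Lib.Helper9.TWSLeaf.G_act_RS c.hk c.hk2 g hgG hgD r hr)
    (fun r r' hr hr' hW => Cfsg.Agent.Lib.Helper16.TWSLeaf.grp_eq_of_W c.hk c.hk2 r r' hr hr' hW)
    c g hgX r₁ r₂ r₃ hr₁ hr₂ x K hi hnp

end Cfsg.Agent.Lib.Helper24.TWSLeaf
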