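import Mathlib
import Cfsg.Agent.Lib.Helper5.TWS.Defs
import Cfsg.Agent.Lib.Helper8.TW.Defs
import Cfsg.Agent.Lib.Helper22.TWExtBasic
import Cfsg.Agent.Lib.Helper22.TWExtMore
import Cfsg.Agent.Lib.Helper12.TWIIBZ
import Cfsg.Agent.Lib.Helper11.TWSIIB1b

/-!
S5668 Stage II-B, leaf B1 `B1S_blocks`, sub-step "`γ` is a unit" (form-free): an element stabilising the fibre `W(i,y)`
acts on it as `b ⊗ y ↦ γ b ⊗ y` with `γ ∈ GL(B)`.
-/

set_option autoImplicit false
set_option linter.unusedSectionVars false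
set_option linter.unusedVariables false

namespace Cfsg.Agent.Lib.Helper24.TWSIILeaf
open Matrix Cfsg.Agent.Lib.Helper18.AschA89 Cfsg.Agent.Lib.Helper8.TW
open Cfsg.Agent.Lib.Helper12.TWIIBLeaf (mv_mul' mv_inv_mv mv_mv_inv img_inv_eq)
open Cfsg.Agent.Lib.Helper11.TWSIILeaf (tens_add_left11 tens_smul_left11)

variable {F : Type*} [Field F] [Fintype F] {t k : ℕ}

lemma exists_mat_of_linear24 {κ : Type} [Fintype κ] [DecidableEq κ] (f : (κ → F) → (κ → F))
    (hadd : ∀ b b', f (b + b') = f b + f b') (hsmul : ∀ (c : F) b, f (c • b) = c • f b) :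
    ∃ T : Matrix κ κ F, ∀ b, T *ᵥ b = f b := by
  let L : (κ → F) →ₗ[F] (κ → F) :=
    { toFun := f
      map_add' := hadd
      map_smul' := by
        intro c b
        rw [hsmul]
        rfl }
  refine ⟨LinearMap.toMatrix' L, fun b => ?_⟩
  rw [← Matrix.toLin'_apply, Matrix.toLin'_toMatrix']
  rfl

lemma mat_eq_one_of_mulVec24 {κ : Type} [Fintype κ] [DecidableEq κ] (M : Matrix κ κ F) (h : ∀ v, M *ᵥ v = v) :
    M = 1 := by
  apply Matrix.toLin'.injective
  apply LinearMap.ext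
  intro v
  rw [Matrix.toLin'_apply, h, Matrix.toLin'_one]
  rfl

lemma mv_add24' {ι : Type} [Fintype ι] [DecidableEq ι] (g : GL ι F) (x z : ι → F) : mv g (x + z) = mv g x + mv g z := by
  unfold mv; rw [Matrix.mulVec_add]

lemma mv_smul24' {ι : Type} [Fintype ι] [DecidableEq ι] (g : GL ι F) (c : F) (x : ι → F) : mv g (c • x) = c • mv g x := by
  unfold mv; rw [Matrix.mulVec_smul]

/-- `b ↦ b ⊗ y` is injective for `y ≠ 0` -/
lemma tens_left_injective24 (i : Fin (t + 1)) (y : Fin k → F) (hy0 : y ≠ 0) {b b' : Idx t k → F}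
    (h : tens i b y = tens i b' y) : b = b' := by
  obtain ⟨φ, hφ⟩ : ∃ φ : Fin k → F, φ ⬝ᵥ y = 1 := by
    obtain ⟨j, hj⟩ : ∃ j, y j ≠ 0 := by
      by_contra hcon
      simp only [not_exists, not_not] at hcon
      exact hy0 (funext hcon)
    refine ⟨(y j)⁻¹ • Pi.single j 1, ?_⟩
    rw [smul_dotProduct, single_dotProduct, one_mul, smul_eq_mul, inv_mul_cancel₀ hj]
  have := congrArg (ctr i φ) h
  rwa [Cfsg.Agent.Lib.Helper22.TWLeaf.ctr_tens, Cfsg.Agent.Lib.Helper22.TWLeaf.ctr_tens, hφ, one_smul, one_smul] at this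

/-- the matrix of `g` on a stable fibre (no invertibility yet) -/
lemma exists_mat_of_stab (i : Fin (t + 1)) (y : Fin k → F) (hy0 : y ≠ 0) (g : GL (Idx (t + 1) k) F)
    (hstab : img g (Wf i y) = Wf i y) :
    ∃ Γ : Matrix (Idx t k) (Idx t k) F, ∀ b, mv g (tens i b y) = tens i (Γ *ᵥ b) y := by
  classical
  have hmem : ∀ b, ∃ b₁, mv g (tens i b y) = tens i b₁ y := by
    intro b
    have h1 : mv g (tens i b y) ∈ img g (Wf i y) := by
      refine ⟨tens i b y, ?_, ?_⟩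
      · rw [SetLike.mem_coe, Cfsg.Agent.Lib.Helper22.TWLeaf.mem_Wf_iff_tens i y hy0]
        exact ⟨b, rfl⟩
      · rw [Matrix.toLin'_apply]; rfl
    rw [hstab, Cfsg.Agent.Lib.Helper22.TWLeaf.mem_Wf_iff_tens i y hy0] at h1
    exact h1
  choose f hf using hmem
  have hadd : ∀ b b', f (b + b') = f b + f b' := by
    intro b b'
    apply tens_left_injective24 i y hy0
    rw [← hf, tens_add_left11, mv_add24', hf, hf, tens_add_left11]
  have hsmul : ∀ (c : F) b, f (c • b) = c • f b := by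
    intro c b
    apply tens_left_injective24 i y hy0
    rw [← hf, tens_smul_left11, mv_smul24', hf, tens_smul_left11]
  obtain ⟨Γ, hΓ⟩ := exists_mat_of_linear24 f hadd hsmul
  exact ⟨Γ, fun b => by rw [hΓ, hf]⟩

/-- "`γ` is a unit": an element stabilising `W(i,y)` acts on it by `b ⊗ y ↦ γ b ⊗ y`, `γ ∈ GL(B)` -/
theorem exists_gamma_of_stab (i : Fin (t + 1)) (y : Fin k → F) (hy0 : y ≠ 0) (g : GL (Idx (t + 1) k) F)
    (hstab : img g (Wf i y) = Wf i y) :
    ∃ γ : GL (Idx t k) F, ∀ b, mv g (tens i b y) = tens i ((γ : Matrix (Idx t k) (Idx t k) F) *ᵥ b) y := by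
  obtain ⟨Γ, hΓ⟩ := exists_mat_of_stab i y hy0 g hstab
  obtain ⟨Γ', hΓ'⟩ := exists_mat_of_stab i y hy0 g⁻¹ (img_inv_eq g _ _ hstab)
  have h1 : Γ' * Γ = 1 := by
    apply mat_eq_one_of_mulVec24
    intro b
    apply tens_left_injective24 i y hy0
    rw [← Matrix.mulVec_mulVec, ← hΓ', ← hΓ, mv_inv_mv]
  have h2 : Γ * Γ' = 1 := by
    apply mat_eq_one_of_mulVec24
    intro b
    apply tens_left_injective24 i y hy0
    rw [← Matrix.mulVec_mulVec, ← hΓ, ← hΓ', mv_mv_inv]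
  exact ⟨⟨Γ, Γ', h2, h1⟩, hΓ⟩

end Cfsg.Agent.Lib.Helper24.TWSIILeaf
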