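import Cfsg.Agent.Lib.Helper7.ThetaDefs

/-!
# S1632 leaf C2: the theta series of an even unimodular form of rank 24 is a modular form
of weight 12 and level 1.

`exists_modularForm_of` takes the three other leaves it needs as explicit hypotheses
(B3a summability, B3b the `S`-law, C1 a `q`-expansion), stated for the unfolded theta series.
-/

set_option autoImplicit false

noncomputable section

namespace Cfsg.Agent.Lib.Helper24.ThetaC2

open Complex
open scoped Real MatrixGroups Manifold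
open UpperHalfPlane hiding I
open ModularForm SlashInvariantForm

/-- the theta series of an integral quadratic form (same body as the planner's `latticeTheta`) -/
def theta {n : ℕ} (B : Matrix (Fin n) (Fin n) ℤ) (τ : ℂ) : ℂ :=
  ∑' x : Fin n → ℤ, cexp (π * I * τ * ((x ⬝ᵥ (B.mulVec x) : ℤ) : ℂ))

lemma theta_def {n : ℕ} (B : Matrix (Fin n) (Fin n) ℤ) (τ : ℂ) :
    theta B τ = ∑' x : Fin n → ℤ, cexp (π * I * τ * ((x ⬝ᵥ (B.mulVec x) : ℤ) : ℂ)) := rfl

/-- the form is nonnegative -/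
lemma form_nonneg {n : ℕ} (B : Matrix (Fin n) (Fin n) ℤ)
    (hpos : ∀ x : Fin n → ℤ, x ≠ 0 → 0 < x ⬝ᵥ (B.mulVec x)) (x : Fin n → ℤ) :
    0 ≤ x ⬝ᵥ (B.mulVec x) := by
  by_cases hx : x = 0
  · subst hx; simp
  · exact (hpos x hx).le

lemma norm_term {n : ℕ} (B : Matrix (Fin n) (Fin n) ℤ) (τ : ℂ) (x : Fin n → ℤ) :
    ‖cexp (π * I * τ * ((x ⬝ᵥ (B.mulVec x) : ℤ) : ℂ))‖ =
      Real.exp (-(π * τ.im) * ((x ⬝ᵥ (B.mulVec x) : ℤ) : ℝ)) := by
  rw [Complex.norm_exp]
  congr 1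
  have : (π * I * τ * ((x ⬝ᵥ (B.mulVec x) : ℤ) : ℂ)) =
      ((π * ((x ⬝ᵥ (B.mulVec x) : ℤ) : ℝ) : ℝ) : ℂ) * (I * τ) := by
    push_cast; ring
  rw [this, Complex.re_ofReal_mul]
  simp
  ring

/-- `T`-invariance of the theta series of an even form -/
lemma theta_add_one {n : ℕ} (B : Matrix (Fin n) (Fin n) ℤ)
    (heven : ∀ x : Fin n → ℤ, (2 : ℤ) ∣ x ⬝ᵥ (B.mulVec x)) (τ : ℂ) :
    theta B (τ + 1) = theta B τ := by
  unfold theta
  congr 1
  funext x
  obtain ⟨k, hk⟩ := heven x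
  rw [hk]
  have : (π * I * (τ + 1) * ((2 * k : ℤ) : ℂ)) =
      π * I * τ * ((2 * k : ℤ) : ℂ) + (k : ℤ) * (2 * π * I) := by
    push_cast; ring
  rw [this, Complex.exp_add, Complex.exp_int_mul_two_pi_mul_I, mul_one]

/-- holomorphy on the upper half plane -/
lemma differentiableOn_theta {n : ℕ} (B : Matrix (Fin n) (Fin n) ℤ)
    (hpos : ∀ x : Fin n → ℤ, x ≠ 0 → 0 < x ⬝ᵥ (B.mulVec x))
    (hsum : ∀ t : ℝ, 0 < t →
      Summable (fun x : Fin n → ℤ => Real.exp (-t * ((x ⬝ᵥ (B.mulVec x) : ℤ) : ℝ)))) :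
    DifferentiableOn ℂ (theta B) {z : ℂ | 0 < z.im} := by
  intro z hz
  have hz' : 0 < z.im := hz
  set T : ℝ := z.im / 2 with hT
  have hTpos : 0 < T := by positivity
  have hopen : IsOpen {w : ℂ | T < w.im} := isOpen_lt continuous_const Complex.continuous_im
  have hmem : z ∈ {w : ℂ | T < w.im} := by
    show T < z.im
    rw [hT]; linarith
  have hd : DifferentiableOn ℂ
      (fun w : ℂ => ∑' x : Fin n → ℤ, cexp (π * I * w * ((x ⬝ᵥ (B.mulVec x) : ℤ) : ℂ)))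
      {w : ℂ | T < w.im} := by
    refine differentiableOn_tsum_of_summable_norm (hsum (π * T) (by positivity)) ?_ hopen ?_
    · intro x
      apply Differentiable.differentiableOn
      fun_prop
    · intro x w hw
      have hw' : T < w.im := hw
      rw [norm_term]
      apply Real.exp_le_exp.mpr
      have h0 : (0 : ℝ) ≤ ((x ⬝ᵥ (B.mulVec x) : ℤ) : ℝ) := by
        exact_mod_cast form_nonneg B hpos x
      have : π * T ≤ π * w.im := by
        apply mul_le_mul_of_nonneg_left hw'.le Real.pi_pos.le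
      nlinarith
  exact ((hd z hmem).differentiableAt (hopen.mem_nhds hmem)).differentiableWithinAt

variable (B : Matrix (Fin 24) (Fin 24) ℤ)

/-- the theta series as a function on the upper half plane -/
def thetaFun (τ : ℍ) : ℂ := theta B (τ : ℂ)

set_option backward.isDefEq.respectTransparency.types false in
lemma thetaFun_T (heven : ∀ x : Fin 24 → ℤ, (2 : ℤ) ∣ x ⬝ᵥ (B.mulVec x)) :
    (thetaFun B ∣[(12 : ℤ)] ModularGroup.T) = thetaFun B := by
  ext z
  rw [SL_slash_apply, denom, modular_T_smul, ModularGroup.T]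
  simp only [thetaFun]
  have h1 : ((((1 : ℝ) +ᵥ z : ℍ)) : ℂ) = (z : ℂ) + 1 := by
    simp [add_comm]
  rw [h1, theta_add_one B heven]
  simp

set_option backward.isDefEq.respectTransparency.types false in
lemma thetaFun_S
    (hS : ∀ τ : ℂ, 0 < τ.im → theta B (-1 / τ) = τ ^ 12 * theta B τ) :
    (thetaFun B ∣[(12 : ℤ)] ModularGroup.S) = thetaFun B := by
  ext z
  rw [SL_slash_apply, UpperHalfPlane.modular_S_smul]
  simp only [thetaFun]
  have h1 : (-(z : ℂ))⁻¹ = -1 / (z : ℂ) := by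
    rw [inv_neg, neg_div, one_div]
  have hz : (z : ℂ) ≠ 0 := ne_zero z
  rw [h1, hS (z : ℂ) z.im_pos]
  simp [denom, ModularGroup.S]
  field_simp

/-- LEAF C2 with its inputs as hypotheses. -/
theorem exists_modularForm_of
    (hpos : ∀ x : Fin 24 → ℤ, x ≠ 0 → 0 < x ⬝ᵥ (B.mulVec x))
    (heven : ∀ x : Fin 24 → ℤ, (2 : ℤ) ∣ x ⬝ᵥ (B.mulVec x))
    (hsum : ∀ t : ℝ, 0 < t →
      Summable (fun x : Fin 24 → ℤ => Real.exp (-t * ((x ⬝ᵥ (B.mulVec x) : ℤ) : ℝ))))
    (hS : ∀ τ : ℂ, 0 < τ.im →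
      (∑' x : Fin 24 → ℤ, cexp (π * I * (-1 / τ) * ((x ⬝ᵥ (B.mulVec x) : ℤ) : ℂ))) =
        τ ^ 12 * ∑' x : Fin 24 → ℤ, cexp (π * I * τ * ((x ⬝ᵥ (B.mulVec x) : ℤ) : ℂ)))
    (c : ℕ → ℂ)
    (hq : ∀ τ : ℍ, HasSum (fun m : ℕ => c m • Function.Periodic.qParam 1 τ ^ m)
      (∑' x : Fin 24 → ℤ, cexp (π * I * (τ : ℂ) * ((x ⬝ᵥ (B.mulVec x) : ℤ) : ℂ)))) :
    ∃ f : ModularForm 𝒮ℒ 12, ∀ τ : ℍ,
      f τ = ∑' x : Fin 24 → ℤ, cexp (π * I * (τ : ℂ) * ((x ⬝ᵥ (B.mulVec x) : ℤ) : ℂ)) := by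
  have hS' := thetaFun_S B hS
  have hT' := thetaFun_T B heven
  refine ⟨{ toFun := thetaFun B
            slash_action_eq' := ?_
            holo' := ?_
            bdd_at_cusps' := ?_ }, fun τ => rfl⟩
  · intro A hA
    obtain ⟨A, rfl⟩ := hA
    exact slash_action_generators_SL2Z hS' hT' A
  · rw [UpperHalfPlane.mdifferentiable_iff]
    refine (differentiableOn_theta B hpos hsum).congr fun z hz => ?_
    simp [thetaFun, ofComplex_apply_of_im_pos hz]
  · intro cusp hc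
    rw [Subgroup.IsArithmetic.isCusp_iff_isCusp_SL2Z] at hc
    rw [OnePoint.isBoundedAt_iff_forall_SL2Z hc]
    intro γ _
    rw [slash_action_generators_SL2Z hS' hT']
    exact isBoundedAtImInfty_of_hasSum_qExpansion one_pos hq

end Cfsg.Agent.Lib.Helper24.ThetaC2

end
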