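import Cfsg.Agent.Lib.Helper24.ThetaC2
import Cfsg.Agent.Lib.Helper7.ThetaDefs2

/-!
# S1632 leaf C2, stated with the shared constants `latticeTheta` / `repCount`

`exists_modularForm_of_leaves` has the planner's exact conclusion and takes the three leaves
B3a (`summable_latticeTheta`), B3b (`latticeTheta_S`), C1 (`hasSum_repCount`) for the given `B`
in their frozen form as hypotheses.
-/

set_option autoImplicit false

noncomputable section

namespace Cfsg.Agent.Lib.Helper24.ThetaC2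

open Complex Cfsg.Agent.Lib.Helper7.Theta
open scoped Real MatrixGroups
open UpperHalfPlane hiding I
open ModularForm

theorem exists_modularForm_of_leaves (B : Matrix (Fin 24) (Fin 24) ℤ)
    (hpos : ∀ x : Fin 24 → ℤ, x ≠ 0 → 0 < x ⬝ᵥ (B.mulVec x))
    (heven : ∀ x : Fin 24 → ℤ, (2 : ℤ) ∣ x ⬝ᵥ (B.mulVec x))
    (hB3a : ∀ t : ℝ, 0 < t →
      Summable (fun x : Fin 24 → ℤ => Real.exp (-t * ((x ⬝ᵥ (B.mulVec x) : ℤ) : ℝ))))
    (hB3b : ∀ τ : ℂ, 0 < τ.im → latticeTheta B (-1 / τ) = τ ^ 12 * latticeTheta B τ)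
    (hC1 : ∀ τ : ℍ, HasSum (fun m : ℕ => (repCount B m : ℂ) • Function.Periodic.qParam 1 τ ^ m)
      (latticeTheta B τ)) :
    ∃ f : ModularForm 𝒮ℒ 12, ∀ τ : ℍ, f τ = latticeTheta B τ :=
  exists_modularForm_of B hpos heven hB3a hB3b (fun m => (repCount B m : ℂ)) hC1

end Cfsg.Agent.Lib.Helper24.ThetaC2

end
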