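import Cfsg.Agent.Lib.Helper24.ThetaC2b
import Cfsg.Agent.Lib.Helper16.ThetaB3a
import Cfsg.Agent.Lib.Helper13.ThetaB3b
import Cfsg.Agent.Lib.Helper29.ThetaC1

/-!
# S1632 leaf C2 (`exists_modularForm`), exact name and binders of the planner's leaf list.
-/

set_option autoImplicit false

noncomputable section

namespace Cfsg.Agent.Lib.Helper24.ThetaC2c

open Complex Cfsg.Agent.Lib.Helper7.Theta
open scoped Real MatrixGroups
open UpperHalfPlane hiding I
open ModularForm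

/-- LEAF C2: the lattice theta series is a modular form of weight 12 and level 1. -/
theorem exists_modularForm (B : Matrix (Fin 24) (Fin 24) ℤ) (hsymm : B.IsSymm)
    (hpos : ∀ x : Fin 24 → ℤ, x ≠ 0 → 0 < x ⬝ᵥ (B.mulVec x))
    (heven : ∀ x : Fin 24 → ℤ, (2 : ℤ) ∣ x ⬝ᵥ (B.mulVec x)) (hdet : B.det = 1) :
    ∃ f : ModularForm 𝒮ℒ 12, ∀ τ : ℍ, f τ = latticeTheta B τ :=
  Cfsg.Agent.Lib.Helper24.ThetaC2.exists_modularForm_of_leaves B hpos heven
    (Cfsg.Agent.Lib.Helper16.ThetaB3a.summable_latticeTheta B hsymm hpos)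
    (Cfsg.Agent.Lib.Helper13.ThetaB3b.latticeTheta_S B hsymm hpos hdet)
    (Cfsg.Agent.Lib.Helper29.ThetaC1.hasSum_repCount B hsymm hpos heven)

end Cfsg.Agent.Lib.Helper24.ThetaC2c

end
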