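/-
helper24: the coprime case of Isaacs 12.15 (S4460): Case I (p-group quotient) is impossible, Case II
(Frobenius quotient) gives a normal subgroup with abelian quotient and at most two character degrees.
-/
import Mathlib
import Cfsg.Prelude.Def_Blocks
import Cfsg.Agent.S0887
import Cfsg.Agent.Lib.Helper21.IsaacsMain
import Cfsg.Agent.Lib.Helper23.CoprimeExt
import Cfsg.Agent.Lib.Helper25.Inflate
import Cfsg.Agent.Lib.Helper6.Gallagher2

set_option autoImplicit false
set_option linter.unusedSectionVars false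
set_option linter.style.haveILetI false

namespace Cfsg.Agent.Lib.Helper24.ThreeDeg

open Cfsg Cfsg.Agent.CharLib Cfsg.Agent.Lib.Helper6 Cfsg.Agent.Lib.Helper24 Cfsg.Agent.Lib.Helper25
open Cfsg.Agent.Lib.Helper23 Cfsg.Agent.Lib.Helper21.Isaacs
open scoped ComplexConjugate

universe u

variable {G : Type u} [Group G] [Finite G]

/-- every irreducible character `θ` of a normal subgroup lies under an irreducible character `χ` of `G`
with `θ(1) ∣ χ(1)` and `χ(1)/θ(1) ∣ |G : N|`. -/
theorem exists_irr_over_ratio (N : Subgroup G) [hN : N.Normal] (θ : IrrCharacter N) :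
    ∃ χ : IrrCharacter G, charDegree (θ : N → ℂ) ∣ charDegree (χ : G → ℂ) ∧
      charDegree (χ : G → ℂ) / charDegree (θ : N → ℂ) ∣ N.index := by
  classical
  letI : Fintype G := Fintype.ofFinite G
  letI : Fintype N := Fintype.ofFinite N
  have hθc : IsCharacter N θ.1 := IsIrrCharacter.isCharacter θ.2
  have hind : IsCharacter G (indFun N θ.1) := IsCharacter.indFun N hθc
  have hne : indFun N θ.1 ≠ 0 := by
    intro h
    have h1 := congrFun h 1
    rw [indFun_apply_one, Pi.zero_apply] at h1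
    have hN0 : (Nat.card N : ℂ)⁻¹ ≠ 0 := by
      apply inv_ne_zero
      exact_mod_cast (Nat.card_pos (α := N)).ne'
    have hG0 : (Nat.card G : ℂ) ≠ 0 := by exact_mod_cast (Nat.card_pos (α := G)).ne'
    exact mul_ne_zero (mul_ne_zero hN0 hG0) (irr_apply_one_ne_zero θ) h1
  obtain ⟨χ, hχ, hc⟩ := IsCharacter.exists_constituent hind hne
  have hχc : IsCharacter G χ := IsIrrCharacter.isCharacter hχ
  have hfr := frobenius_reciprocity N θ.1 (IsCharacter.isClassFunction hχc)
  have hc2 : classInner (fun n : N => χ n) θ.1 ≠ 0 := by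
    rw [hfr] at hc
    have : classInner (fun n : N => χ n) θ.1 = conj (classInner θ.1 (fun h : N => χ h)) := by
      rw [classInner_conj_symm]
    rw [this]
    exact (map_ne_zero _).mpr hc
  have h1 := irr_apply_one (⟨χ, hχ⟩ : IrrCharacter G)
  have h2 := irr_apply_one θ
  exact ⟨⟨χ, hχ⟩, Cfsg.Agent.S0887.result N χ hχ θ.1 θ.2 hc2 _ _ h1 h2⟩

/-- the same for a given `χ` and a constituent `θ` of its restriction -/
theorem ratio_of_constituent (N : Subgroup G) [hN : N.Normal] [Fintype G] [Fintype N]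
    (χ : IrrCharacter G) (θ : IrrCharacter N)
    (h : classInner (resFun N (χ : G → ℂ)) (θ : N → ℂ) ≠ 0) :
    charDegree (θ : N → ℂ) ∣ charDegree (χ : G → ℂ) ∧
      charDegree (χ : G → ℂ) / charDegree (θ : N → ℂ) ∣ N.index :=
  Cfsg.Agent.S0887.result N χ.1 χ.2 θ.1 θ.2 h _ _ (irr_apply_one χ) (irr_apply_one θ)


/-- **Case I**: if `G/K` is a nonabelian `p`-group, `χ₀` is an irreducible character of `G` with `K` in
its kernel of degree `f` divisible by `p`, and `ψ` is irreducible of degree `g` prime to `p`, then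
`χ₀ ψ` is irreducible of degree `f g`. -/
theorem exists_irr_mul_degree (K : Subgroup G) [hK : K.Normal] (p : ℕ) [hp : Fact p.Prime]
    (hQp : IsPGroup p (G ⧸ K)) (χ' : IrrCharacter (G ⧸ K)) (ψ : IrrCharacter G)
    (hpd : ¬ p ∣ charDegree (ψ : G → ℂ)) :
    ∃ ξ : IrrCharacter G, charDegree (ξ : G → ℂ) =
      charDegree (χ' : G ⧸ K → ℂ) * charDegree (ψ : G → ℂ) := by
  classical
  letI : Fintype G := Fintype.ofFinite G
  obtain ⟨M, hMn, ⟨k, hk⟩, hmin⟩ := exists_min_normal_ppow_index G p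
  haveI := hMn
  letI : Fintype M := Fintype.ofFinite M
  have hhom := coprime_orderOf_hom_of_min M hk hmin
  -- `M ≤ K`
  have hMK : M ≤ K := by
    obtain ⟨j, hj⟩ := hQp.exists_card_eq
    have hKidx : K.index = p ^ j := by rw [Subgroup.index_eq_card, hj]
    have h1 : (M ⊓ K).index ∣ p ^ (j + k) := by
      have h2 : (M ⊓ K).index = K.relIndex M * M.index := by
        rw [← Subgroup.inf_relIndex_left, inf_comm M K]
        exact (Subgroup.relIndex_mul_index (inf_le_right : K ⊓ M ≤ M)).symm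
      rw [h2, pow_add, ← hKidx, ← hk]
      exact Nat.mul_dvd_mul (Subgroup.relIndex_dvd_index_of_normal K M) dvd_rfl
    obtain ⟨i, -, hi⟩ := (Nat.dvd_prime_pow hp.out).mp h1
    have := hmin (M ⊓ K) inferInstance ⟨i, hi⟩ inf_le_left
    rw [← this]
    exact inf_le_right
  have hψM : IsIrrCharacter M (resFun M (ψ : G → ℂ)) :=
    isIrrCharacter_resFun_of_not_dvd M hk hhom ψ.2 hpd
  set χ₀ : IrrCharacter G := inflateIrr K χ' with hχ₀
  have hχ₀M : ∀ x : M, (χ₀ : G → ℂ) x = (χ' : G ⧸ K → ℂ) 1 := by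
    intro x
    rw [hχ₀, inflateIrr_apply, (QuotientGroup.eq_one_iff (x : G)).mpr (hMK x.2)]
  have hB : classInner (indFun M (1 : M → ℂ)) (χ₀ : G → ℂ) ≠ 0 := by
    rw [classInner_indFun_one M (IsCharacter.isClassFunction (IsIrrCharacter.isCharacter χ₀.2))]
    rw [Finset.sum_congr rfl (fun x _ => hχ₀M x), Finset.sum_const, Finset.card_univ, nsmul_eq_mul]
    have h1 : (Nat.card M : ℂ)⁻¹ ≠ 0 := by
      apply inv_ne_zero
      exact_mod_cast (Nat.card_pos (α := M)).ne'
    have h2 : (Fintype.card M : ℂ) ≠ 0 := by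
      exact_mod_cast (Fintype.card_pos (α := M)).ne'
    have h3 : (χ' : G ⧸ K → ℂ) 1 ≠ 0 := irr_apply_one_ne_zero χ'
    exact mul_ne_zero h1 ((map_ne_zero _).mpr (mul_ne_zero h2 h3))
  have hirr := ((gallagher_bijOn M ψ.2 hψM).mapsTo ⟨χ₀.2, hB⟩).1
  refine ⟨⟨_, hirr⟩, ?_⟩
  have h1 := irr_apply_one (⟨_, hirr⟩ : IrrCharacter G)
  simp only [Pi.mul_apply] at h1
  rw [irr_apply_one ψ, hχ₀, inflateIrr_apply, QuotientGroup.mk_one, irr_apply_one χ'] at h1
  exact_mod_cast h1.symm


/-- **Case I is impossible** when the two nonlinear degrees are coprime. -/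
theorem caseI_false (K : Subgroup G) [hK : K.Normal] {m n : ℕ} (hm : 1 < m) (hn : 1 < n)
    (hcop : Nat.Coprime m n)
    (hcd : ∀ χ : IrrCharacter G, charDegree (χ : G → ℂ) = 1 ∨ charDegree (χ : G → ℂ) = m ∨
      charDegree (χ : G → ℂ) = n)
    (hχm : ∃ χ : IrrCharacter G, charDegree (χ : G → ℂ) = m)
    (hχn : ∃ χ : IrrCharacter G, charDegree (χ : G → ℂ) = n)
    (p : ℕ) (hp : p.Prime) (hQp : IsPGroup p (G ⧸ K)) (hQna : ¬ ∀ a b : G ⧸ K, a * b = b * a) :
    False := by
  classical
  haveI : Fact p.Prime := ⟨hp⟩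
  obtain ⟨χ', hχ'⟩ : ∃ χ' : IrrCharacter (G ⧸ K), charDegree (χ' : G ⧸ K → ℂ) ≠ 1 := by
    by_contra hcon
    push Not at hcon
    apply hQna
    apply (comm_iff_forall_irr_apply_one (G := G ⧸ K)).mpr
    intro χ
    rw [irr_apply_one, hcon χ, Nat.cast_one]
  obtain ⟨j, hj⟩ := hQp.exists_card_eq
  have hfdvd : charDegree (χ' : G ⧸ K → ℂ) ∣ p ^ j := by
    rw [← hj]
    exact irr_charDegree_dvd_card χ'
  obtain ⟨e, -, he⟩ := (Nat.dvd_prime_pow hp).mp hfdvd
  have he0 : e ≠ 0 := by
    rintro rfl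
    exact hχ' (by rw [he, pow_zero])
  have hpf : p ∣ charDegree (χ' : G ⧸ K → ℂ) := by
    rw [he]
    exact dvd_pow_self p he0
  have h2 : charDegree ((inflateIrr K χ' : IrrCharacter G) : G → ℂ) = charDegree (χ' : G ⧸ K → ℂ) := by
    unfold charDegree
    rw [inflateIrr_apply, QuotientGroup.mk_one]
  have key : ∀ a b : ℕ, 1 < a → 1 < b → Nat.Coprime a b →
      (∀ χ : IrrCharacter G, charDegree (χ : G → ℂ) = 1 ∨ charDegree (χ : G → ℂ) = a ∨
        charDegree (χ : G → ℂ) = b) →
      charDegree (χ' : G ⧸ K → ℂ) = a → (∃ ψ : IrrCharacter G, charDegree (ψ : G → ℂ) = b) → False := by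
    intro a b ha hb hab hcd' hfa ⟨ψ, hψ⟩
    have hpb : ¬ p ∣ charDegree (ψ : G → ℂ) := by
      intro h
      rw [hψ] at h
      rw [hfa] at hpf
      have := Nat.dvd_gcd hpf h
      rw [hab] at this
      exact hp.one_lt.ne' (Nat.dvd_one.mp this)
    obtain ⟨ξ, hξ⟩ := exists_irr_mul_degree K p hQp χ' ψ hpb
    rw [hfa, hψ] at hξ
    rcases hcd' ξ with h | h | h
    · rw [hξ] at h
      nlinarith
    · rw [hξ] at h
      nlinarith
    · rw [hξ] at h
      nlinarith
  rcases hcd (inflateIrr K χ') with h | h | h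
  · rw [h2] at h
    exact hχ' h
  · rw [h2] at h
    exact key m n hm hn hcop hcd h hχn
  · rw [h2] at h
    exact key n m hn hm hcop.symm (fun χ => by rcases hcd χ with h | h | h <;> tauto) h hχm


/-- **Case II**: if `G/K` is a Frobenius group with kernel `(G/K)'` an abelian `p`-group, and the two
nonlinear degrees of `G` are coprime, then the preimage `L` of `(G/K)'` has at most two character degrees. -/
theorem caseII_three (K : Subgroup G) [hK : K.Normal] {m n : ℕ} (hm : 1 < m) (hn : 1 < n)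
    (hcop : Nat.Coprime m n)
    (hcd : ∀ χ : IrrCharacter G, charDegree (χ : G → ℂ) = 1 ∨ charDegree (χ : G → ℂ) = m ∨
      charDegree (χ : G → ℂ) = n)
    (hne : commutator (G ⧸ K) ≠ ⊥)
    (hab : ∀ a ∈ commutator (G ⧸ K), ∀ b ∈ commutator (G ⧸ K), a * b = b * a)
    (p : ℕ) (hp : p.Prime) (hMp : IsPGroup p (commutator (G ⧸ K)))
    (hcopi : ((commutator (G ⧸ K)).index).Coprime p)
    (hfpf : ∀ g, g ∉ commutator (G ⧸ K) → ∀ n ∈ commutator (G ⧸ K), g * n = n * g → n = 1) :
    ∃ L : Subgroup G, L.Normal ∧ commutator G ≤ L ∧ ∃ x : ℕ, ∀ ψ : IrrCharacter L,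
      charDegree (ψ : L → ℂ) = 1 ∨ charDegree (ψ : L → ℂ) = x := by
  classical
  haveI : Fact p.Prime := ⟨hp⟩
  set M : Subgroup (G ⧸ K) := commutator (G ⧸ K) with hM
  set π : G →* G ⧸ K := QuotientGroup.mk' K with hπ
  have hπs : Function.Surjective π := QuotientGroup.mk'_surjective K
  set L : Subgroup G := M.comap π with hL
  haveI hLn : L.Normal := Subgroup.Normal.comap inferInstance π
  have hmemL : ∀ g : G, g ∈ L ↔ π g ∈ M := fun g => Iff.rfl
  have hmemK : ∀ g : G, g ∈ K ↔ π g = 1 := fun g => (QuotientGroup.eq_one_iff g).symm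
  have hKL : K ≤ L := by
    intro k hk
    rw [hmemL, (hmemK k).mp hk]
    exact M.one_mem
  have hA : ∀ a ∈ L, ∀ b ∈ L, a * b * a⁻¹ * b⁻¹ ∈ K := by
    intro a ha b hb
    rw [hmemK, map_mul, map_mul, map_mul, map_inv, map_inv, hab (π a) ha (π b) hb]
    group
  have hF : ∀ g, g ∉ L → ∀ n ∈ L, g * n * g⁻¹ * n⁻¹ ∈ K → n ∈ K := by
    intro g hg n hn h
    rw [hmemK, map_mul, map_mul, map_mul, map_inv, map_inv] at h
    rw [hmemK]
    apply hfpf (π g) hg (π n) hn
    calc π g * π n = (π g * π n * (π g)⁻¹ * (π n)⁻¹) * (π n * π g) := by group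
      _ = π n * π g := by rw [h, one_mul]
  have hrel : K.relIndex L = Nat.card M := by
    have h1 : K = (⊥ : Subgroup (G ⧸ K)).comap π := by
      rw [MonoidHom.comap_bot, hπ, QuotientGroup.ker_mk']
    conv_lhs => rw [h1]
    rw [Subgroup.relIndex_comap, hL, Subgroup.map_comap_eq_self_of_surjective hπs,
      Subgroup.relIndex_bot_left]
  obtain ⟨a, ha⟩ := hMp.exists_card_eq
  have hP : ∃ a, K.relIndex L = p ^ a := ⟨a, by rw [hrel, ha]⟩
  have hLidx : L.index = M.index := Subgroup.index_comap_of_surjective M hπs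
  have hcopL : (L.index).Coprime p := by rw [hLidx]; exact hcopi
  have ha0 : a ≠ 0 := by
    intro h0
    rw [h0, pow_zero] at ha
    exact hne (Subgroup.card_eq_one.mp ha)
  obtain ⟨n₀, hn₀L, hn₀K⟩ : ∃ n₀ ∈ L, n₀ ∉ K := by
    by_contra hcon
    push Not at hcon
    have : K.relIndex L = 1 := Subgroup.relIndex_eq_one.mpr hcon
    rw [hrel, ha] at this
    have h2 : p ∣ p ^ a := dvd_pow_self p ha0
    rw [this] at h2
    exact hp.one_lt.ne' (Nat.dvd_one.mp h2)
  have hone : L.index ≠ 1 := by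
    intro h1
    rw [hLidx] at h1
    have hMtop : M = ⊤ := Subgroup.index_eq_one.mp h1
    apply hne
    rw [eq_bot_iff]
    intro x hx
    rw [Subgroup.mem_bot]
    have hcommQ : ∀ u v : G ⧸ K, u * v = v * u := fun u v =>
      hab u (hMtop ▸ Subgroup.mem_top u) v (hMtop ▸ Subgroup.mem_top v)
    have hle : commutator (G ⧸ K) ≤ ⊥ := by
      rw [commutator_def, Subgroup.commutator_le]
      intro u _ v _
      rw [Subgroup.mem_bot, commutatorElement_def, hcommQ u v]
      group
    exact (Subgroup.mem_bot.mp (hle hx))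
  letI : Fintype L := Fintype.ofFinite L
  -- step 1: the index of `L` is `m` or `n`
  have hLf : L.index = m ∨ L.index = n := by
    rcases isaacs_12_4 K L p hA hF hP hcopL ⟨1, isIrrCharacter_one L⟩ with ⟨χ, hχ⟩ | ⟨hvan, -⟩
    · have h1 := irr_apply_one χ
      rw [hχ] at h1
      simp only [Pi.one_apply, mul_one] at h1
      have h2 : L.index = charDegree (χ : G → ℂ) := by exact_mod_cast h1
      rcases hcd χ with h | h | h
      · rw [h] at h2; exact absurd h2 hone
      · left; rw [h] at h2; exact h2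
      · right; rw [h] at h2; exact h2
    · have := hvan ⟨n₀, hn₀L⟩ hn₀K
      simp at this
  have hcomL : commutator G ≤ L := (commutator_quotient_le_iff K M).mp le_rfl
  -- step 2
  have key : ∀ f g : ℕ, 1 < f → 1 < g → Nat.Coprime f g →
      (∀ χ : IrrCharacter G, charDegree (χ : G → ℂ) = 1 ∨ charDegree (χ : G → ℂ) = f ∨
        charDegree (χ : G → ℂ) = g) → L.index = f →
      ∀ ψ : IrrCharacter L, charDegree (ψ : L → ℂ) = 1 ∨ charDegree (ψ : L → ℂ) = g := by
    intro f g hf hg hfg hcd' hLf' ψ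
    have hψ1 := irr_apply_one ψ
    have hdpos := irr_charDegree_pos ψ
    rcases isaacs_12_4 K L p hA hF hP hcopL ψ with ⟨χ, hχ⟩ | ⟨-, e, t, d, het, hψd⟩
    · left
      have h1 := irr_apply_one χ
      rw [hχ, hψ1, hLf'] at h1
      have h2 : f * charDegree (ψ : L → ℂ) = charDegree (χ : G → ℂ) := by exact_mod_cast h1
      rcases hcd' χ with h | h | h
      · rw [h] at h2
        have := Nat.eq_one_of_mul_eq_one_right h2
        omega
      · rw [h] at h2
        exact Nat.eq_of_mul_eq_mul_left (by omega : 0 < f) (by rw [h2, mul_one])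
      · rw [h] at h2
        have h3 : f ∣ g := ⟨_, h2.symm⟩
        have h4 : f ∣ Nat.gcd f g := Nat.dvd_gcd dvd_rfl h3
        rw [hfg] at h4
        have := Nat.dvd_one.mp h4
        omega
    · right
      rw [hψ1] at hψd
      have h1 : charDegree (ψ : L → ℂ) = e * t * d := by exact_mod_cast hψd
      have h2 : p ∣ e * e * t := by
        rw [het, hrel, ha]
        exact dvd_pow_self p ha0
      have h3 : p ∣ e * t := by
        rcases (Nat.Prime.dvd_mul hp).mp h2 with h | h
        · rcases (Nat.Prime.dvd_mul hp).mp h with h' | h'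
          · exact dvd_mul_of_dvd_left h' t
          · exact dvd_mul_of_dvd_left h' t
        · exact dvd_mul_of_dvd_right h e
      have h4 : p ∣ charDegree (ψ : L → ℂ) := by
        rw [h1]
        exact dvd_mul_of_dvd_left h3 d
      obtain ⟨χ, hχdvd, hχratio⟩ := exists_irr_over_ratio L ψ
      have h5 : p ∣ charDegree (χ : G → ℂ) := h4.trans hχdvd
      have hχg : charDegree (χ : G → ℂ) = g := by
        rcases hcd' χ with h | h | h
        · rw [h] at h5
          exact absurd (Nat.dvd_one.mp h5) hp.one_lt.ne'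
        · rw [h, ← hLf'] at h5
          have := Nat.Coprime.eq_one_of_dvd hcopL.symm h5
          exact absurd this hp.one_lt.ne'
        · exact h
      rw [hχg, hLf'] at hχratio
      rw [hχg] at hχdvd
      have h6 : g / charDegree (ψ : L → ℂ) ∣ g := Nat.div_dvd_of_dvd hχdvd
      have h7 : g / charDegree (ψ : L → ℂ) ∣ Nat.gcd f g := Nat.dvd_gcd hχratio h6
      rw [hfg] at h7
      have h8 := Nat.dvd_one.mp h7
      have h9 := Nat.div_mul_cancel hχdvd
      rw [h8, one_mul] at h9
      exact h9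
  rcases hLf with h | h
  · exact ⟨L, hLn, hcomL, n, key m n hm hn hcop hcd h⟩
  · exact ⟨L, hLn, hcomL, m, key n m hn hm hcop.symm
      (fun χ => by rcases hcd χ with h | h | h <;> tauto) h⟩

end Cfsg.Agent.Lib.Helper24.ThreeDeg
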