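/- helper24: Isaacs 12.15 (three character degrees), part 3: derived series bookkeeping, degrees of normal Hall subgroups and quotients, Case (A) (common prime divisor, via Thompson's normal p-complement). -/
import Mathlib
import Cfsg.Prelude.Def_Blocks
import Cfsg.Agent.Lib.Helper24.ThreeDeg2
import Cfsg.Agent.Lib.Helper21.IsaacsCor126
import Cfsg.Agent.Lib.Helper2.Ito

set_option autoImplicit false
set_option linter.unusedSectionVars false
set_option linter.style.haveILetI false

namespace Cfsg.Agent.Lib.Helper24.ThreeDeg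

open Cfsg Cfsg.Agent.CharLib Cfsg.Agent.Lib.Helper6 Cfsg.Agent.Lib.Helper24 Cfsg.Agent.Lib.Helper25
open Cfsg.Agent.Lib.Helper23 Cfsg.Agent.Lib.Helper21.Isaacs
open scoped ComplexConjugate commutatorElement

universe u

section derived
variable {G : Type u} [Group G]

/-- (D1) pushing the derived series of `G` into a subgroup -/
theorem derivedSeries_le_map_subtype (H : Subgroup G) (i i' : ℕ)
    (h : derivedSeries G i ≤ (derivedSeries H i').map H.subtype) (j : ℕ) :
    derivedSeries G (i + j) ≤ (derivedSeries H (i' + j)).map H.subtype := by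
  induction j with
  | zero => simpa using h
  | succ j ih =>
    rw [← add_assoc, ← add_assoc, derivedSeries_succ, derivedSeries_succ, Subgroup.map_commutator]
    exact Subgroup.commutator_mono ih ih

/-- (D2) a trivial term of the derived series of a quotient -/
theorem derivedSeries_le_of_quotient (K : Subgroup G) [K.Normal] (i : ℕ)
    (h : derivedSeries (G ⧸ K) i = ⊥) : derivedSeries G i ≤ K := by
  have h1 := map_derivedSeries_le_derivedSeries (QuotientGroup.mk' K) i
  rw [h, le_bot_iff] at h1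
  intro x hx
  have h2 : QuotientGroup.mk' K x ∈ (derivedSeries G i).map (QuotientGroup.mk' K) :=
    Subgroup.mem_map_of_mem _ hx
  rw [h1, Subgroup.mem_bot] at h2
  exact (QuotientGroup.eq_one_iff x).mp h2

/-- (D3) an abelian commutator subgroup -/
theorem derivedSeries_two_eq_bot
    (h : ∀ a ∈ commutator G, ∀ b ∈ commutator G, a * b = b * a) : derivedSeries G 2 = ⊥ := by
  rw [derivedSeries_succ, derivedSeries_one, eq_bot_iff, Subgroup.commutator_le]
  intro a ha b hb
  rw [Subgroup.mem_bot, commutatorElement_def, h a ha b hb]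
  group

/-- (D4) an abelian group -/
theorem derivedSeries_one_eq_bot (h : ∀ a b : G, a * b = b * a) : derivedSeries G 1 = ⊥ := by
  rw [derivedSeries_one, commutator_def, eq_bot_iff, Subgroup.commutator_le]
  intro a _ b _
  rw [Subgroup.mem_bot, commutatorElement_def, h a b]
  group

theorem derivedSeries_eq_bot_of_le {i j : ℕ} (hij : i ≤ j) (h : derivedSeries G i = ⊥) :
    derivedSeries G j = ⊥ := by
  rw [eq_bot_iff, ← h]
  exact derivedSeries_antitone G hij

omit [Group G] in
theorem map_subtype_derivedSeries_one {G : Type u} [Group G] (H : Subgroup G) :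
    (derivedSeries H 1).map H.subtype = ⁅H, H⁆ := by
  rw [derivedSeries_one, commutator_def, Subgroup.map_commutator, ← MonoidHom.range_eq_map,
    Subgroup.range_subtype]

omit [Group G] in
theorem map_subtype_derivedSeries_zero {G : Type u} [Group G] (H : Subgroup G) :
    (derivedSeries H 0).map H.subtype = H := by
  rw [derivedSeries_zero, ← MonoidHom.range_eq_map, Subgroup.range_subtype]

end derived

section two
variable {G : Type u} [Group G] [Finite G]

/-- (D5) at most two character degrees: the second derived subgroup is trivial -/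
theorem derivedSeries_two_of_two_degrees (x : ℕ)
    (hcd : ∀ χ : IrrCharacter G, charDegree (χ : G → ℂ) = 1 ∨ charDegree (χ : G → ℂ) = x) :
    derivedSeries G 2 = ⊥ := by
  by_cases hx : ∃ χ : IrrCharacter G, charDegree (χ : G → ℂ) = x ∧ x ≠ 1
  · obtain ⟨χ, hχ, hx1⟩ := hx
    exact derivedSeries_two_eq_bot (isaacs_12_6 x hcd ⟨χ, hχ⟩ hx1)
  · push Not at hx
    apply derivedSeries_eq_bot_of_le (by omega : 1 ≤ 2)
    apply derivedSeries_one_eq_bot
    apply (comm_iff_forall_irr_apply_one (G := G)).mpr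
    intro χ
    rw [irr_apply_one]
    rcases hcd χ with h | h
    · rw [h, Nat.cast_one]
    · rw [h, hx χ h, Nat.cast_one]

/-- degrees of a quotient -/
theorem cd_quotient_three (K : Subgroup G) [hK : K.Normal] (m n : ℕ)
    (hcd : ∀ χ : IrrCharacter G, charDegree (χ : G → ℂ) = 1 ∨ charDegree (χ : G → ℂ) = m ∨
      charDegree (χ : G → ℂ) = n)
    (χ : IrrCharacter (G ⧸ K)) :
    charDegree (χ : G ⧸ K → ℂ) = 1 ∨ charDegree (χ : G ⧸ K → ℂ) = m ∨
      charDegree (χ : G ⧸ K → ℂ) = n := by
  have h2 : charDegree ((inflateIrr K χ : IrrCharacter G) : G → ℂ) = charDegree (χ : G ⧸ K → ℂ) := by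
    unfold charDegree
    rw [inflateIrr_apply, QuotientGroup.mk_one]
  rw [← h2]
  exact hcd _


theorem ppart_unique {p : ℕ} {x y i j : ℕ} (hx : Nat.Coprime p x) (hy : Nat.Coprime p y)
    (h : x * p ^ i = p ^ j * y) : x = y := by
  apply Nat.dvd_antisymm
  · have h1 : x ∣ p ^ j * y := ⟨p ^ i, h.symm⟩
    exact (Nat.Coprime.pow_right j hx.symm).dvd_of_dvd_mul_left h1
  · have h1 : y ∣ x * p ^ i := ⟨p ^ j, by rw [h, mul_comm]⟩
    exact (Nat.Coprime.pow_right i hy.symm).dvd_of_dvd_mul_right h1

/-- character degrees of a normal `p`-complement -/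
theorem cd_normal_hall (H : Subgroup G) [hH : H.Normal] (p : ℕ) (hp : p.Prime)
    (hcopH : (Nat.card H).Coprime p) {k : ℕ} (hk : H.index = p ^ k) {m n m' n' a b : ℕ}
    (hma : m = p ^ a * m') (hm' : Nat.Coprime p m') (hnb : n = p ^ b * n') (hn' : Nat.Coprime p n')
    (hcd : ∀ χ : IrrCharacter G, charDegree (χ : G → ℂ) = 1 ∨ charDegree (χ : G → ℂ) = m ∨
      charDegree (χ : G → ℂ) = n)
    (θ : IrrCharacter H) :
    charDegree (θ : H → ℂ) = 1 ∨ charDegree (θ : H → ℂ) = m' ∨ charDegree (θ : H → ℂ) = n' := by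
  obtain ⟨χ, hdvd, hratio⟩ := exists_irr_over_ratio H θ
  rw [hk] at hratio
  obtain ⟨j, -, hj⟩ := (Nat.dvd_prime_pow hp).mp hratio
  have h1 : charDegree (θ : H → ℂ) * p ^ j = charDegree (χ : G → ℂ) := by
    rw [← hj, mul_comm]
    exact Nat.div_mul_cancel hdvd
  have hθcop : Nat.Coprime p (charDegree (θ : H → ℂ)) :=
    (hcopH.coprime_dvd_left (irr_charDegree_dvd_card θ)).symm
  rcases hcd χ with h | h | h
  · left
    rw [h] at h1
    exact Nat.eq_one_of_mul_eq_one_right h1
  · right; left
    rw [h, hma] at h1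
    exact ppart_unique hθcop hm' h1
  · right; right
    rw [h, hnb] at h1
    exact ppart_unique hθcop hn' h1

/-- the character degrees of `G/H'` are powers of `p`, for `H` normal of `p`-power index -/
theorem ppow_degree_quotient_commutator (H : Subgroup G) [hH : H.Normal] (p : ℕ) (hp : p.Prime)
    {k : ℕ} (hk : H.index = p ^ k) (χ : IrrCharacter (G ⧸ ⁅H, H⁆)) :
    ∃ j : ℕ, charDegree (χ : G ⧸ ⁅H, H⁆ → ℂ) = p ^ j := by
  classical
  letI : Fintype (G ⧸ ⁅H, H⁆) := Fintype.ofFinite _
  set π : G →* G ⧸ ⁅H, H⁆ := QuotientGroup.mk' ⁅H, H⁆ with hπ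
  have hπs : Function.Surjective π := QuotientGroup.mk'_surjective _
  haveI hNn : (H.map π).Normal := Subgroup.Normal.map hH π hπs
  have hab : ∀ a ∈ H.map π, ∀ b ∈ H.map π, a * b = b * a := by
    rintro _ ⟨x, hx, rfl⟩ _ ⟨y, hy, rfl⟩
    have h1 : ⁅x, y⁆ ∈ ⁅H, H⁆ := Subgroup.commutator_mem_commutator hx hy
    have h2 : π ⁅x, y⁆ = 1 := (QuotientGroup.eq_one_iff _).mpr h1
    rw [commutatorElement_def, map_mul, map_mul, map_mul, map_inv, map_inv] at h2
    calc π x * π y = (π x * π y * (π x)⁻¹ * (π y)⁻¹) * (π y * π x) := by group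
      _ = π y * π x := by rw [h2, one_mul]
  obtain ⟨d, hd1, hd2⟩ := Cfsg.Agent.Lib.Helper2.ito_aux (Fintype.card (G ⧸ ⁅H, H⁆)) (G ⧸ ⁅H, H⁆) rfl
    χ.1 χ.2 (H.map π) hab
  have hidx : (H.map π).index = H.index := by
    apply Subgroup.index_map_eq _ hπs
    rw [hπ, QuotientGroup.ker_mk']
    exact Subgroup.commutator_le_right H H
  rw [hidx, hk] at hd2
  obtain ⟨j, -, hj⟩ := (Nat.dvd_prime_pow hp).mp hd2
  refine ⟨j, ?_⟩
  have h3 := irr_apply_one χ
  rw [hd1] at h3
  have : d = charDegree (χ : G ⧸ ⁅H, H⁆ → ℂ) := by exact_mod_cast h3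
  rw [← this, hj]

/-- combining a solvable quotient `G/H'` with the solvable subgroup `H` -/
theorem derivedSeries_eq_bot_of_commutator_quotient (H : Subgroup G) [hH : H.Normal] (i j : ℕ)
    (hQ : derivedSeries (G ⧸ ⁅H, H⁆) i = ⊥) (hH' : derivedSeries H (1 + j) = ⊥) :
    derivedSeries G (i + j) = ⊥ := by
  have h1 : derivedSeries G i ≤ (derivedSeries H 1).map H.subtype := by
    rw [map_subtype_derivedSeries_one]
    exact derivedSeries_le_of_quotient _ i hQ
  have h2 := derivedSeries_le_map_subtype H i 1 h1 j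
  rw [hH', Subgroup.map_bot] at h2
  exact le_bot_iff.mp h2

/-- Case (A) of Isaacs 12.15: a prime divides both nontrivial degrees. -/
theorem caseA
    (ih : ∀ (H : Type u) [Group H] [Finite H], Nat.card H < Nat.card G → ∀ m n : ℕ,
      (∀ χ : IrrCharacter H, charDegree (χ : H → ℂ) = 1 ∨ charDegree (χ : H → ℂ) = m ∨
        charDegree (χ : H → ℂ) = n) → derivedSeries H 3 = ⊥)
    (hpp : ∀ (H : Subgroup G), H.Normal → ∀ (p k : ℕ), p.Prime → H.index = p ^ k →
      (∀ a b : H, a * b = b * a) → derivedSeries G 3 = ⊥)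
    (m n : ℕ) (hm0 : m ≠ 0) (hn0 : n ≠ 0)
    (hcd : ∀ χ : IrrCharacter G, charDegree (χ : G → ℂ) = 1 ∨ charDegree (χ : G → ℂ) = m ∨
      charDegree (χ : G → ℂ) = n)
    (hχm : ∃ χ : IrrCharacter G, charDegree (χ : G → ℂ) = m)
    (p : ℕ) (hp : p.Prime) (hpm : p ∣ m) (hpn : p ∣ n) : derivedSeries G 3 = ⊥ := by
  classical
  have hdeg : ∀ χ : IrrCharacter G, charDegree (χ : G → ℂ) ≠ 1 → p ∣ charDegree (χ : G → ℂ) := by
    intro χ h1
    rcases hcd χ with h | h | h
    · exact absurd h h1
    · rw [h]; exact hpm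
    · rw [h]; exact hpn
  obtain ⟨H, hHn, hcop, k, hk⟩ := thompson_normal_p_complement p hp hdeg
  haveI := hHn
  have hlt : Nat.card H < Nat.card G := by
    obtain ⟨χ, hχ⟩ := hχm
    have h1 : p ∣ Nat.card G := by
      have := irr_charDegree_dvd_card χ
      rw [hχ] at this
      exact hpm.trans this
    have h2 : Nat.card H ∣ Nat.card G := Subgroup.card_subgroup_dvd_card H
    have h3 : Nat.card H ≠ Nat.card G := by
      intro h
      rw [h] at hcop
      exact hp.one_lt.ne' (Nat.Coprime.eq_one_of_dvd hcop.symm h1)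
    exact lt_of_le_of_ne (Nat.le_of_dvd Nat.card_pos h2) h3
  obtain ⟨a, m', hm', hma⟩ := Nat.exists_eq_pow_mul_and_not_dvd hm0 p hp.ne_one
  obtain ⟨b, n', hn', hnb⟩ := Nat.exists_eq_pow_mul_and_not_dvd hn0 p hp.ne_one
  have hm'c : Nat.Coprime p m' := (Nat.Prime.coprime_iff_not_dvd hp).mpr hm'
  have hn'c : Nat.Coprime p n' := (Nat.Prime.coprime_iff_not_dvd hp).mpr hn'
  have hcdH := cd_normal_hall H p hp hcop hk hma hm'c hnb hn'c hcd
  have hQ1 := ppow_degree_quotient_commutator H p hp hk
  haveI : (⁅H, H⁆ : Subgroup G).Normal := Subgroup.commutator_normal H H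
  have hQ2 := cd_quotient_three ⁅H, H⁆ m n hcd
  -- a degree of the quotient equal to `m` forces `m' = 1`
  have hQm : ∀ χ : IrrCharacter (G ⧸ ⁅H, H⁆), charDegree (χ : G ⧸ ⁅H, H⁆ → ℂ) = m → m' = 1 := by
    intro χ h
    obtain ⟨j, hj⟩ := hQ1 χ
    rw [h, hma] at hj
    have h1 : m' ∣ p ^ j := ⟨p ^ a, by rw [← hj, mul_comm]⟩
    exact Nat.Coprime.eq_one_of_dvd (Nat.Coprime.pow_right j hm'c.symm) h1
  have hQn : ∀ χ : IrrCharacter (G ⧸ ⁅H, H⁆), charDegree (χ : G ⧸ ⁅H, H⁆ → ℂ) = n → n' = 1 := by
    intro χ h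
    obtain ⟨j, hj⟩ := hQ1 χ
    rw [h, hnb] at hj
    have h1 : n' ∣ p ^ j := ⟨p ^ b, by rw [← hj, mul_comm]⟩
    exact Nat.Coprime.eq_one_of_dvd (Nat.Coprime.pow_right j hn'c.symm) h1
  by_cases h1 : m' = 1
  · by_cases h2 : n' = 1
    · -- all degrees are powers of `p`: `H` is abelian
      apply hpp H hHn p k hp hk
      apply (comm_iff_forall_irr_apply_one (G := H)).mpr
      intro θ
      have h3 := irr_apply_one θ
      rcases hcdH θ with h | h | h
      · rw [h, Nat.cast_one] at h3; exact h3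
      · rw [h, h1, Nat.cast_one] at h3; exact h3
      · rw [h, h2, Nat.cast_one] at h3; exact h3
    · -- quotient has degrees `{1, m}`, `H` has degrees `{1, n'}`
      have hQ : derivedSeries (G ⧸ ⁅H, H⁆) 2 = ⊥ := by
        apply derivedSeries_two_of_two_degrees m
        intro χ
        rcases hQ2 χ with h | h | h
        · exact Or.inl h
        · exact Or.inr h
        · exact absurd (hQn χ h) h2
      have hH2 : derivedSeries H (1 + 1) = ⊥ := by
        apply derivedSeries_two_of_two_degrees n'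
        intro θ
        rcases hcdH θ with h | h | h
        · exact Or.inl h
        · exact Or.inl (h.trans h1)
        · exact Or.inr h
      exact derivedSeries_eq_bot_of_commutator_quotient H 2 1 hQ hH2
  · by_cases h2 : n' = 1
    · have hQ : derivedSeries (G ⧸ ⁅H, H⁆) 2 = ⊥ := by
        apply derivedSeries_two_of_two_degrees n
        intro χ
        rcases hQ2 χ with h | h | h
        · exact Or.inl h
        · exact absurd (hQm χ h) h1
        · exact Or.inr h
      have hH2 : derivedSeries H (1 + 1) = ⊥ := by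
        apply derivedSeries_two_of_two_degrees m'
        intro θ
        rcases hcdH θ with h | h | h
        · exact Or.inl h
        · exact Or.inr h
        · exact Or.inl (h.trans h2)
      exact derivedSeries_eq_bot_of_commutator_quotient H 2 1 hQ hH2
    · have hQ : derivedSeries (G ⧸ ⁅H, H⁆) 1 = ⊥ := by
        apply derivedSeries_one_eq_bot
        apply (comm_iff_forall_irr_apply_one (G := G ⧸ ⁅H, H⁆)).mpr
        intro χ
        have h3 := irr_apply_one χ
        rcases hQ2 χ with h | h | h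
        · rw [h, Nat.cast_one] at h3; exact h3
        · exact absurd (hQm _ h) h1
        · exact absurd (hQn _ h) h2
      have hH3 : derivedSeries H (1 + 2) = ⊥ := ih H hlt m' n' hcdH
      exact derivedSeries_eq_bot_of_commutator_quotient H 1 2 hQ hH3

end two

end Cfsg.Agent.Lib.Helper24.ThreeDeg
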