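/- helper24: Isaacs 12.15 (three character degrees), part 4: chief factors above a normal subgroup of p-power index have order p; abelian-by-p-group groups are M-groups (via S0858); Taketa's inductive step and Taketa's bound for at most three degrees. -/
import Mathlib
import Cfsg.Prelude.Def_Blocks
import Cfsg.Agent.Lib.Helper24.ThreeDeg3
import Cfsg.Agent.Lib.Helper10.PGroupBasic
import Cfsg.Agent.Lib.Lead.Taketa
import Cfsg.Agent.S0858

set_option autoImplicit false
set_option linter.unusedSectionVars false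
set_option linter.style.haveILetI false

namespace Cfsg.Agent.Lib.Helper24.ThreeDeg

open Cfsg Cfsg.Agent.CharLib Cfsg.Agent.Lib.Helper6 Cfsg.Agent.Lib.Helper24 Cfsg.Agent.Lib.Helper25
open scoped ComplexConjugate commutatorElement

universe u

section chief
variable {G : Type u} [Group G] [Finite G]

/-- chief factors of sections above a normal subgroup of `p`-power index have order `p` -/
theorem relIndex_eq_prime_of_chief (N : Subgroup G) [hN : N.Normal] (p k : ℕ) (hp : p.Prime)
    (hk : N.index = p ^ k) (T K L : Subgroup G) (hNL : N ≤ L) (hLK : L < K) (hKT : K ≤ T)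
    (hKn : ∀ h ∈ T, ∀ k ∈ K, h * k * h⁻¹ ∈ K) (hLn : ∀ h ∈ T, ∀ l ∈ L, h * l * h⁻¹ ∈ L)
    (hmin : ∀ M : Subgroup G, L ≤ M → M ≤ K → (∀ h ∈ T, ∀ m ∈ M, h * m * h⁻¹ ∈ M) →
      M = L ∨ M = K) :
    L.relIndex K = p := by
  classical
  haveI : Fact p.Prime := ⟨hp⟩
  have hLT : L ≤ T := hLK.le.trans hKT
  set L' : Subgroup T := L.subgroupOf T with hL'
  set K' : Subgroup T := K.subgroupOf T with hK'
  haveI hL'n : L'.Normal := by
    constructor
    intro x hx g
    rw [hL', Subgroup.mem_subgroupOf] at hx ⊢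
    exact hLn g g.2 x hx
  haveI hK'n : K'.Normal := by
    constructor
    intro x hx g
    rw [hK', Subgroup.mem_subgroupOf] at hx ⊢
    exact hKn g g.2 x hx
  set π : T →* T ⧸ L' := QuotientGroup.mk' L' with hπ
  have hπs : Function.Surjective π := QuotientGroup.mk'_surjective _
  have hker : π.ker = L' := QuotientGroup.ker_mk' L'
  -- the quotient is a `p`-group
  have hcardQ : Nat.card (T ⧸ L') = L.relIndex T := by
    rw [← Subgroup.index_eq_card]
    rfl
  have hQp : IsPGroup p (T ⧸ L') := by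
    have h1 : L.relIndex T ∣ N.relIndex T := Subgroup.relIndex_dvd_of_le_left T hNL
    have h2 : N.relIndex T ∣ N.index := Subgroup.relIndex_dvd_index_of_normal N T
    have h3 : Nat.card (T ⧸ L') ∣ p ^ k := by
      rw [hcardQ, ← hk]
      exact h1.trans h2
    obtain ⟨j, -, hj⟩ := (Nat.dvd_prime_pow hp).mp h3
    exact IsPGroup.of_card hj
  -- the image of `K`
  set K'' : Subgroup (T ⧸ L') := K'.map π with hK''
  haveI hK''n : K''.Normal := Subgroup.Normal.map hK'n π hπs
  have hK''ne : K'' ≠ ⊥ := by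
    obtain ⟨x, hxK, hxL⟩ := SetLike.exists_of_lt hLK
    intro h
    have h1 : π ⟨x, hKT hxK⟩ ∈ K'' := Subgroup.mem_map_of_mem π (by
      rw [hK', Subgroup.mem_subgroupOf]; exact hxK)
    rw [h, Subgroup.mem_bot, ← MonoidHom.mem_ker, hker, hL', Subgroup.mem_subgroupOf] at h1
    exact hxL h1
  obtain ⟨z, hzK, hzc, hz1⟩ :=
    Cfsg.Agent.Lib.Helper10.exists_mem_center_of_normal_ne_bot p hQp K'' hK''ne
  obtain ⟨j, hj⟩ := (IsPGroup.iff_orderOf.mp hQp) z
  have hj0 : j ≠ 0 := by
    intro h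
    rw [h, pow_zero, orderOf_eq_one_iff] at hj
    exact hz1 hj
  set z' := z ^ (p ^ (j - 1)) with hz'
  have hz'ord : orderOf z' = p := by
    rw [hz', orderOf_pow_of_dvd (pow_ne_zero _ hp.ne_zero) (by rw [hj]; exact pow_dvd_pow p (by omega)),
      hj]
    have : p ^ j = p ^ (j - 1) * p := by
      rw [← pow_succ]; congr 1; omega
    rw [this, Nat.mul_div_cancel_left _ (pow_pos hp.pos _)]
  have hz'c : z' ∈ Subgroup.center (T ⧸ L') := Subgroup.pow_mem _ hzc _
  have hz'K : z' ∈ K'' := Subgroup.pow_mem _ hzK _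
  set M'' : Subgroup (T ⧸ L') := Subgroup.zpowers z' with hM''
  haveI hM''n : M''.Normal := by
    constructor
    intro x hx g
    have h1 : M'' ≤ Subgroup.center (T ⧸ L') := by
      rw [hM'', Subgroup.zpowers_le]; exact hz'c
    have h2 := Subgroup.mem_center_iff.mp (h1 hx) g
    rw [h2, mul_inv_cancel_right]
    exact hx
  have hM''K : M'' ≤ K'' := by
    rw [hM'', Subgroup.zpowers_le]; exact hz'K
  have hM''card : Nat.card M'' = p := by
    rw [hM'', Nat.card_zpowers, hz'ord]
  set M' : Subgroup T := M''.comap π with hM'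
  haveI hM'n : M'.Normal := Subgroup.Normal.comap hM''n π
  have hL'M' : L' ≤ M' := by
    intro x hx
    rw [hM', Subgroup.mem_comap]
    rw [← hker, MonoidHom.mem_ker] at hx
    rw [hx]
    exact Subgroup.one_mem _
  have hL'K' : L' ≤ K' := by
    intro x hx
    rw [hL', Subgroup.mem_subgroupOf] at hx
    rw [hK', Subgroup.mem_subgroupOf]
    exact hLK.le hx
  have hM'K' : M' ≤ K' := by
    have h1 : M' ≤ K''.comap π := Subgroup.comap_mono hM''K
    rw [hK'', Subgroup.comap_map_eq_self (by rw [hker]; exact hL'K')] at h1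
    exact h1
  -- the subgroup `M` of `G`
  set M : Subgroup G := M'.map T.subtype with hM
  have hLM : L ≤ M := by
    intro l hl
    rw [hM, Subgroup.mem_map]
    refine ⟨⟨l, hLT hl⟩, hL'M' ?_, rfl⟩
    rw [hL', Subgroup.mem_subgroupOf]
    exact hl
  have hMK : M ≤ K := by
    intro x hx
    rw [hM, Subgroup.mem_map] at hx
    obtain ⟨y, hy, rfl⟩ := hx
    have := hM'K' hy
    rw [hK', Subgroup.mem_subgroupOf] at this
    exact this
  have hMn : ∀ h ∈ T, ∀ m ∈ M, h * m * h⁻¹ ∈ M := by
    intro h hh m hm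
    rw [hM, Subgroup.mem_map] at hm ⊢
    obtain ⟨y, hy, rfl⟩ := hm
    exact ⟨⟨h, hh⟩ * y * ⟨h, hh⟩⁻¹, hM'n.conj_mem y hy ⟨h, hh⟩, rfl⟩
  have hML : M ≠ L := by
    intro h
    obtain ⟨t, ht⟩ := hπs z'
    have h1 : t ∈ M' := by
      rw [hM', Subgroup.mem_comap, ht, hM'']
      exact Subgroup.mem_zpowers z'
    have h2 : (t : G) ∈ M := by
      rw [hM, Subgroup.mem_map]
      exact ⟨t, h1, rfl⟩
    rw [h] at h2
    have h3 : t ∈ π.ker := by
      rw [hker, hL', Subgroup.mem_subgroupOf]
      exact h2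
    rw [MonoidHom.mem_ker, ht] at h3
    rw [h3, orderOf_one] at hz'ord
    exact hp.one_lt.ne hz'ord
  have hMK' : M = K := (hmin M hLM hMK hMn).resolve_left hML
  -- counting
  have hM'eq : M.subgroupOf T = M' := by
    rw [hM]
    exact Subgroup.comap_map_eq_self_of_injective (Subgroup.subtype_injective T) M'
  have h1 : L'.index = p * M'.index := by
    rw [hM', Subgroup.index_comap_of_surjective M'' hπs, Subgroup.index_eq_card L', ← hM''card,
      Subgroup.card_mul_index]
  have h2 : L.relIndex T = p * K.relIndex T := by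
    have : M'.index = K.relIndex T := by
      rw [← hM'eq, hMK']
      rfl
    rw [← this, ← h1]
    rfl
  have h3 := Subgroup.relIndex_mul_relIndex L K T hLK.le hKT
  rw [h2] at h3
  have h4 : K.relIndex T ≠ 0 := by
    show (K.subgroupOf T).index ≠ 0
    exact Subgroup.index_ne_zero_of_finite
  exact Nat.eq_of_mul_eq_mul_right (Nat.pos_of_ne_zero h4) h3

end chief

section monomial
variable {G : Type u} [Group G] [Fintype G]

/-- abelian-by-`p`-group groups are M-groups -/
theorem monomial_of_abelian_by_pgroup (N : Subgroup G) [hN : N.Normal]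
    (hab : ∀ a b : N, a * b = b * a)
    (p k : ℕ) (hp : p.Prime) (hk : N.index = p ^ k) (χ : G → ℂ) (hχ : IsIrrCharacter G χ) :
    ∃ (U : Subgroup G) (lam : U →* ℂˣ), χ = indFun U (fun h => ((lam h : ℂˣ) : ℂ)) := by
  haveI : Fact p.Prime := ⟨hp⟩
  have hQp : IsPGroup p (G ⧸ N) := IsPGroup.of_card (by rw [← Subgroup.index_eq_card, hk])
  haveI : Group.IsNilpotent (G ⧸ N) := hQp.isNilpotent
  have hsolv : Group.IsSolvable (G ⧸ N) := inferInstance
  have hchief : ∀ (H K L : Subgroup G), N ≤ L → L < K → K ≤ H → (∀ h ∈ H, ∀ k ∈ K, h * k * h⁻¹ ∈ K) →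
      (∀ h ∈ H, ∀ l ∈ L, h * l * h⁻¹ ∈ L) → (∀ M : Subgroup G, L ≤ M → M ≤ K →
        (∀ h ∈ H, ∀ m ∈ M, h * m * h⁻¹ ∈ M) → M = L ∨ M = K) → ¬ IsSquare (L.relIndex K) := by
    intro T K L hNL hLK hKT hKn hLn hmin
    rw [relIndex_eq_prime_of_chief N p k hp hk T K L hNL hLK hKT hKn hLn hmin]
    exact (Nat.prime_iff.mp hp).irreducible.not_isSquare
  obtain ⟨T, hNT, ψ, hψ, hind, hres⟩ := Cfsg.Agent.S0858.result N hsolv hchief χ hχ
  have h1 : ψ 1 = 1 := by
    have := (comm_iff_forall_irr_apply_one (G := N)).mp hab ⟨_, hres⟩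
    exact this
  refine ⟨T, linCharUnitsHom (IsIrrCharacter.isCharacter hψ) h1, ?_⟩
  rw [← hind]
  rfl

/-- the inductive step of Taketa's theorem -/
theorem taketa_step (k : ℕ) (χ : IrrCharacter G) (H : Subgroup G) (lam : H →* ℂˣ)
    (hχ : (χ : G → ℂ) = indFun H (fun h => ((lam h : ℂˣ) : ℂ)))
    (hsmall : ∀ ψ : IrrCharacter G, charDegree (ψ : G → ℂ) < charDegree (χ : G → ℂ) →
      ∀ g ∈ derivedSeries G k, (ψ : G → ℂ) g = (ψ : G → ℂ) 1) :
    ∀ g ∈ derivedSeries G (k + 1), (χ : G → ℂ) g = (χ : G → ℂ) 1 := by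
  classical
  letI := fintypeIrr G
  letI : Fintype H := Fintype.ofFinite H
  have hH : (Nat.card H : ℂ) ≠ 0 := card_ne_zero_complex_of_finite
  set d := charDegree (χ : G → ℂ) with hd
  set π : G → ℂ := indFun H (fun _ => (1:ℂ)) with hπ
  have hπchar : IsCharacter G π := IsCharacter.indFun H (isCharacter_one (G := H))
  have hπcf := IsCharacter.isClassFunction hπchar
  have hπ1 : π 1 = d := by
    rw [hπ, CharLib.indFun_apply_one, mul_one, hd, ← irr_apply_one χ, hχ, CharLib.indFun_apply_one]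
    simp
  -- multiplicities
  have hmult : ∀ ψ : IrrCharacter G, ∃ n : ℕ, classInner π (ψ : G → ℂ) = n :=
    fun ψ => IsCharacter.classInner_nat hπchar (IsIrrCharacter.isCharacter ψ.2)
  choose m hm using hmult
  have hdecomp := classFunction_eq_sum hπcf
  simp only [hm] at hdecomp
  -- the trivial character
  let triv : IrrCharacter G := ⟨1, isIrrCharacter_one⟩
  have hmtriv : m triv = 1 := by
    have h1 := hm triv
    have h2 : classInner π ((triv : IrrCharacter G) : G → ℂ) = 1 := by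
      show classInner (indFun H (fun _ => (1:ℂ))) (1 : G → ℂ) = 1
      rw [frobenius_reciprocity H _ (IsCharacter.isClassFunction isCharacter_one)]
      simp only [classInner, Pi.one_apply, map_one, mul_one, Finset.sum_const, Finset.card_univ,
        nsmul_eq_mul]
      rw [← Nat.card_eq_fintype_card, inv_mul_cancel₀ hH]
    rw [h2] at h1
    exact_mod_cast h1.symm
  have hdegtriv : charDegree ((triv : IrrCharacter G) : G → ℂ) = 1 := by
    have := irr_apply_one triv
    have h2 : ((triv : IrrCharacter G) : G → ℂ) 1 = 1 := rfl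
    rw [h2] at this
    exact_mod_cast this.symm
  -- degree sum
  have hsum : d = ∑ ψ : IrrCharacter G, m ψ * charDegree (ψ : G → ℂ) := by
    have h1 := congrFun hdecomp 1
    rw [hπ1, Finset.sum_apply] at h1
    have h2 : (d : ℂ) = ((∑ ψ : IrrCharacter G, m ψ * charDegree (ψ : G → ℂ) : ℕ) : ℂ) := by
      rw [h1]
      push_cast
      apply Finset.sum_congr rfl
      intro ψ _
      rw [Pi.smul_apply, smul_eq_mul, irr_apply_one ψ]
    exact_mod_cast h2
  have hlt : ∀ ψ : IrrCharacter G, m ψ ≠ 0 → ψ ≠ triv → charDegree (ψ : G → ℂ) < d := by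
    intro ψ hψ hψt
    have h1 : ∑ φ ∈ ({triv, ψ} : Finset (IrrCharacter G)), m φ * charDegree (φ : G → ℂ) ≤
        ∑ φ : IrrCharacter G, m φ * charDegree (φ : G → ℂ) :=
      Finset.sum_le_sum_of_subset (Finset.subset_univ _)
    rw [Finset.sum_pair (Ne.symm hψt), ← hsum, hmtriv, hdegtriv] at h1
    have h2 : charDegree (ψ : G → ℂ) ≤ m ψ * charDegree (ψ : G → ℂ) :=
      Nat.le_mul_of_pos_left _ (Nat.pos_of_ne_zero hψ)
    omega
  -- D ≤ ker π ≤ H
  have hDH : derivedSeries G k ≤ H := by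
    intro g hg
    apply mem_of_indFun_one_apply_eq H g
    show π g = π 1
    have h1 := congrFun hdecomp g
    have h2 := congrFun hdecomp 1
    rw [h1, h2, Finset.sum_apply, Finset.sum_apply]
    apply Finset.sum_congr rfl
    intro ψ _
    rw [Pi.smul_apply, Pi.smul_apply]
    by_cases hψ : m ψ = 0
    · rw [hψ]; simp
    · by_cases hψt : ψ = triv
      · rw [hψt]; rfl
      · rw [hsmall ψ (hlt ψ hψ hψt) g hg]
  intro g hg
  rw [hχ]
  apply indFun_hom_apply_eq_of_forall
  intro x
  have hnorm : (derivedSeries G (k + 1)).Normal := derivedSeries_normal G (k + 1)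
  have hxg : x⁻¹ * g * x ∈ derivedSeries G (k + 1) := by
    have := hnorm.conj_mem g hg x⁻¹
    simpa using this
  rw [derivedSeries_succ] at hxg
  have hle : ⁅derivedSeries G k, derivedSeries G k⁆ ≤ (lam.ker).map H.subtype := by
    rw [Subgroup.commutator_le]
    intro a ha b hb
    let a' : H := ⟨a, hDH ha⟩
    let b' : H := ⟨b, hDH hb⟩
    refine Subgroup.mem_map.mpr ⟨a' * b' * a'⁻¹ * b'⁻¹, ?_, ?_⟩
    · rw [MonoidHom.mem_ker, map_mul, map_mul, map_mul, map_inv, map_inv]
      rw [mul_comm (lam a') (lam b'), mul_inv_cancel_right, mul_inv_cancel]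
    · rw [commutatorElement_def]
      rfl
  obtain ⟨y, hy, hyx⟩ := Subgroup.mem_map.mp (hle hxg)
  have hxH : x⁻¹ * g * x ∈ H := by rw [← hyx]; exact y.2
  refine ⟨hxH, ?_⟩
  have : (⟨x⁻¹ * g * x, hxH⟩ : H) = y := Subtype.ext hyx.symm
  rw [this]
  exact hy

/-- Taketa's bound for M-groups with at most three character degrees (ordered version) -/
theorem taketa_three_le (m n : ℕ) (hmn : m ≤ n)
    (hcd : ∀ χ : IrrCharacter G, charDegree (χ : G → ℂ) = 1 ∨ charDegree (χ : G → ℂ) = m ∨
      charDegree (χ : G → ℂ) = n)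
    (hM : ∀ χ : G → ℂ, IsIrrCharacter G χ → ∃ (U : Subgroup G) (lam : U →* ℂˣ),
      χ = indFun U (fun h => ((lam h : ℂˣ) : ℂ))) :
    derivedSeries G 3 = ⊥ := by
  have h1 : ∀ χ : IrrCharacter G, charDegree (χ : G → ℂ) = 1 →
      ∀ g ∈ derivedSeries G 1, (χ : G → ℂ) g = (χ : G → ℂ) 1 := by
    intro χ hχ g hg
    have hχ1 : (χ : G → ℂ) 1 = 1 := by rw [irr_apply_one, hχ, Nat.cast_one]
    rw [hχ1]
    apply apply_eq_one_of_mem_commutator (IsIrrCharacter.isCharacter χ.2) hχ1
    rwa [derivedSeries_one] at hg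
  have h2 : ∀ χ : IrrCharacter G, (charDegree (χ : G → ℂ) = 1 ∨ charDegree (χ : G → ℂ) = m) →
      ∀ g ∈ derivedSeries G 2, (χ : G → ℂ) g = (χ : G → ℂ) 1 := by
    intro χ hχ
    by_cases hχ1 : charDegree (χ : G → ℂ) = 1
    · intro g hg
      exact h1 χ hχ1 g (derivedSeries_antitone G (by omega : 1 ≤ 2) hg)
    · have hχm : charDegree (χ : G → ℂ) = m := hχ.resolve_left hχ1
      obtain ⟨U, lam, hU⟩ := hM χ χ.2
      apply taketa_step 1 χ U lam hU
      intro ψ hψ
      apply h1 ψ
      rcases hcd ψ with h | h | h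
      · exact h
      · omega
      · omega
  have h3 : ∀ χ : IrrCharacter G, ∀ g ∈ derivedSeries G 3, (χ : G → ℂ) g = (χ : G → ℂ) 1 := by
    intro χ
    by_cases hχ1 : charDegree (χ : G → ℂ) = 1 ∨ charDegree (χ : G → ℂ) = m
    · intro g hg
      exact h2 χ hχ1 g (derivedSeries_antitone G (by omega : 2 ≤ 3) hg)
    · have hχn : charDegree (χ : G → ℂ) = n := by
        rcases hcd χ with h | h | h
        · exact absurd (Or.inl h) hχ1
        · exact absurd (Or.inr h) hχ1
        · exact h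
      obtain ⟨U, lam, hU⟩ := hM χ χ.2
      apply taketa_step 2 χ U lam hU
      intro ψ hψ
      apply h2 ψ
      rcases hcd ψ with h | h | h
      · exact Or.inl h
      · exact Or.inr h
      · omega
  rw [eq_bot_iff]
  intro g hg
  rw [Subgroup.mem_bot]
  exact eq_one_of_forall_irr_apply_eq g (fun χ => h3 χ g hg)

/-- Taketa's bound for M-groups with at most three character degrees -/
theorem taketa_three (m n : ℕ)
    (hcd : ∀ χ : IrrCharacter G, charDegree (χ : G → ℂ) = 1 ∨ charDegree (χ : G → ℂ) = m ∨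
      charDegree (χ : G → ℂ) = n)
    (hM : ∀ χ : G → ℂ, IsIrrCharacter G χ → ∃ (U : Subgroup G) (lam : U →* ℂˣ),
      χ = indFun U (fun h => ((lam h : ℂˣ) : ℂ))) :
    derivedSeries G 3 = ⊥ := by
  rcases le_total m n with h | h
  · exact taketa_three_le m n h hcd hM
  · exact taketa_three_le n m h (fun χ => by have := hcd χ; tauto) hM

end monomial

section final
variable {G : Type u} [Group G] [Finite G]

/-- an abelian normal subgroup of prime power index and at most three character degrees -/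
theorem abelian_by_pgroup_three (H : Subgroup G) [H.Normal] (p k : ℕ) (hp : p.Prime)
    (hk : H.index = p ^ k) (hab : ∀ a b : H, a * b = b * a) (m n : ℕ)
    (hcd : ∀ χ : IrrCharacter G, charDegree (χ : G → ℂ) = 1 ∨ charDegree (χ : G → ℂ) = m ∨
      charDegree (χ : G → ℂ) = n) :
    derivedSeries G 3 = ⊥ := by
  letI := Fintype.ofFinite G
  exact taketa_three m n hcd (fun χ hχ => monomial_of_abelian_by_pgroup H hab p k hp hk χ hχ)

end final

end Cfsg.Agent.Lib.Helper24.ThreeDeg
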