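import Mathlib
import Cfsg.Prelude.Def_ClassicalGeometry
import Cfsg.Prelude.Def_GeometricClasses
import Cfsg.Agent.Lib.Helper11.T23UDefs
import Cfsg.Agent.Lib.Helper24.U23GC
import Cfsg.Agent.Lib.Helper28.U23Q4

/-!
S5801 (8), q = 3 glue (GC), final form: helper28's `exists_h_meet_two` composed with the dimension count
`Helper24.U23GC.meet_two_of_meet_one'`.
-/

set_option autoImplicit false
set_option linter.unusedSectionVars false
set_option linter.unusedVariables false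

namespace Cfsg.Agent.Lib.Helper24.U23GC
open Matrix Module
open Cfsg.Agent.Lib.Helper25.Tens Cfsg.Agent.Lib.Helper25.TensLeaf
open Cfsg.Agent.Lib.Helper20.UT Cfsg.Agent.Lib.Helper11.T23U

variable {F : Type*} [Field F] [Fintype F]

/-- **GC** if `R ∩ gR = x ⊗ <w>` with `w` nonsingular (`g` an isometry), some `h` of the tensor group makes
`R ∩ (g⁻¹ h g) R` two-dimensional. -/
theorem meet_two_of_meet_one (hF : Fintype.card F = 3 ^ 2) {x : Fin 2 → F} (hx0 : x ≠ 0)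
    (hx : hv 3 x x = 0) {g : GL (Idx 2 3) F} (hg : g ∈ GUI 2 3 3 F) {w : Fin 3 → F}
    (hw : hv 3 w w ≠ 0) (hxw : pt x w ∈ mvS g (FibA (b := 3) x))
    (hK : ∀ y : Fin 3 → F, pt x y ∈ mvS g (FibA (b := 3) x) → ∃ c : F, y = c • w) :
    ∃ h ∈ KG 2 3 F ⊓ GS 2 3 3 F,
      finrank F ↥(FibA (b := 3) x ⊓ mvS (g⁻¹ * h * g) (FibA (b := 3) x)) = 2 :=
  meet_two_of_meet_one' hx0 g
    (Cfsg.Agent.Lib.Helper28.U23Q4.exists_h_meet_two hF x hx0 hx w hw _ (isotropic_mvS hx hg)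
      (by rw [finrank_mvS, finrank_FibA hx0]) hxw hK)

/-- the same with `g ∈ M ≤ GS`: the new element `g₁ := g⁻¹ h g` lies in `M`. -/
theorem meet_two_of_meet_one_mem (hF : Fintype.card F = 3 ^ 2) {M : Subgroup (GL (Idx 2 3) F)}
    (hle : KG 2 3 F ⊓ GS 2 3 3 F ≤ M) (hleG : M ≤ GS 2 3 3 F) {x : Fin 2 → F} (hx0 : x ≠ 0)
    (hx : hv 3 x x = 0) {g : GL (Idx 2 3) F} (hg : g ∈ M) {w : Fin 3 → F}
    (hw : hv 3 w w ≠ 0) (hxw : pt x w ∈ mvS g (FibA (b := 3) x))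
    (hK : ∀ y : Fin 3 → F, pt x y ∈ mvS g (FibA (b := 3) x) → ∃ c : F, y = c • w) :
    ∃ g₁ ∈ M, finrank F ↥(FibA (b := 3) x ⊓ mvS g₁ (FibA (b := 3) x)) = 2 := by
  obtain ⟨h, hh, hfr⟩ := meet_two_of_meet_one hF hx0 hx (hleG hg).1 hw hxw hK
  exact ⟨g⁻¹ * h * g, M.mul_mem (M.mul_mem (M.inv_mem hg) (hle hh)) hg, hfr⟩

end Cfsg.Agent.Lib.Helper24.U23GC
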