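import Mathlib
import Cfsg.Agent.Lib.Helper15.AschUCtx
import Cfsg.Agent.Lib.Helper18.AschA89Defs
import Cfsg.Agent.Lib.Helper17.UAE3Defs
import Cfsg.Agent.Lib.Helper24.AschUNIL
import Cfsg.Agent.Lib.Helper17.UAE3W

/-!
S5663 SUB-BLOCK E3 (sub-planner helper17), packet **E3-K** (helper24): THE KEY LEMMA `E₀ ⊴ GU_3(2)`.
Exact signature of `notes/S5663_E3_leaves.lean`.

Proof: a concrete model `K4 = Bool × Bool` of the field with four elements (`(a, b) = a + b ω`); the statement for the two generators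
`W 1 0`, `W 0 1` is checked in the model for all `648` unitary matrices by kernel evaluation (organised by columns: `36 · 6 · 3`);
transfer along `dec : K4 → F`; closure under products (`W_mul`).
-/

set_option autoImplicit false
set_option linter.unusedSectionVars false
set_option linter.unusedVariables false

namespace Cfsg.Agent.Lib.Helper24.UAE3Leaf
open Matrix Cfsg Cfsg.Geo Cfsg.Agent.Lib.Helper20.Asch
open Cfsg.Agent.Lib.Helper15.AschU Cfsg.Agent.Lib.Helper15.AschForm Cfsg.Agent.Lib.Helper18.AschA89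
open Cfsg.Agent.Lib.Helper17.E3 Cfsg.Agent.Lib.Helper17.UAE3Leaf

/-! ### the model -/

/-- the field with four elements: `(a, b) = a + b ω` -/
abbrev K4 : Type := Bool × Bool

def kadd (x y : K4) : K4 := (xor x.1 y.1, xor x.2 y.2)
def kmul (x y : K4) : K4 :=
  (xor (x.1 && y.1) (x.2 && y.2), xor (xor (x.1 && y.2) (x.2 && y.1)) (x.2 && y.2))
def kone : K4 := (true, false)
def kzero : K4 := (false, false)
def kw (k : Fin 3) : K4 := if k = 0 then (true, false) else if k = 1 then (false, true) else (true, true)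

/-- the hermitian product of two columns -/
def kherm (x0 x1 x2 y0 y1 y2 : K4) : K4 :=
  kadd (kadd (kmul x0 (kmul y0 y0)) (kmul x1 (kmul y1 y1))) (kmul x2 (kmul y2 y2))

/-- the matrix with the given columns -/
def kmk (x0 x1 x2 y0 y1 y2 z0 z1 z2 : K4) : Fin 3 → Fin 3 → K4 := fun i j =>
  if j = 0 then (if i = 0 then x0 else if i = 1 then x1 else x2)
  else if j = 1 then (if i = 0 then y0 else if i = 1 then y1 else y2)
  else (if i = 0 then z0 else if i = 1 then z1 else z2)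

/-- the monomial form of `g * W a b = (ω^c • W a' b') * g` -/
def kconcl (g : Fin 3 → Fin 3 → K4) (a b : Fin 3) : Prop :=
  ∃ c a' b' : Fin 3, ∀ i j : Fin 3,
    kmul (g i (j + b)) (kw (a * (j + b))) = kmul (kw (c + a' * i)) (g (i - b') j)

instance (g : Fin 3 → Fin 3 → K4) (a b : Fin 3) : Decidable (kconcl g a b) := by
  unfold kconcl; infer_instance

set_option maxRecDepth 100000 in
theorem key_model : ∀ a0 b0 a1 b1 a2 b2 : Bool,
    kherm (a0,b0) (a1,b1) (a2,b2) (a0,b0) (a1,b1) (a2,b2) = kone →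
    ∀ c0 d0 c1 d1 c2 d2 : Bool,
    (kherm (c0,d0) (c1,d1) (c2,d2) (c0,d0) (c1,d1) (c2,d2) = kone ∧
      kherm (a0,b0) (a1,b1) (a2,b2) (c0,d0) (c1,d1) (c2,d2) = kzero) →
    ∀ e0 f0 e1 f1 e2 f2 : Bool,
    (kherm (e0,f0) (e1,f1) (e2,f2) (e0,f0) (e1,f1) (e2,f2) = kone ∧
      kherm (a0,b0) (a1,b1) (a2,b2) (e0,f0) (e1,f1) (e2,f2) = kzero ∧
      kherm (c0,d0) (c1,d1) (c2,d2) (e0,f0) (e1,f1) (e2,f2) = kzero) →
    kconcl (kmk (a0,b0) (a1,b1) (a2,b2) (c0,d0) (c1,d1) (c2,d2) (e0,f0) (e1,f1) (e2,f2)) 1 0 ∧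
    kconcl (kmk (a0,b0) (a1,b1) (a2,b2) (c0,d0) (c1,d1) (c2,d2) (e0,f0) (e1,f1) (e2,f2)) 0 1 := by
  decide +kernel

theorem kmk_eq (G : Fin 3 → Fin 3 → K4) :
    kmk (G 0 0) (G 1 0) (G 2 0) (G 0 1) (G 1 1) (G 2 1) (G 0 2) (G 1 2) (G 2 2) = G := by
  funext i j
  fin_cases i <;> fin_cases j <;> rfl

/-- the model statement for a matrix of `K4` -/
theorem key_model' (G : Fin 3 → Fin 3 → K4)
    (h : ∀ k l : Fin 3, kherm (G 0 k) (G 1 k) (G 2 k) (G 0 l) (G 1 l) (G 2 l) = if k = l then kone else kzero) :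
    kconcl G 1 0 ∧ kconcl G 0 1 := by
  have := key_model (G 0 0).1 (G 0 0).2 (G 1 0).1 (G 1 0).2 (G 2 0).1 (G 2 0).2 (h 0 0)
    (G 0 1).1 (G 0 1).2 (G 1 1).1 (G 1 1).2 (G 2 1).1 (G 2 1).2 ⟨h 1 1, h 0 1⟩
    (G 0 2).1 (G 0 2).2 (G 1 2).1 (G 1 2).2 (G 2 2).1 (G 2 2).2 ⟨h 2 2, h 0 2, h 1 2⟩
  have hG := kmk_eq G
  rw [← hG]
  exact this

/-! ### transfer to `F` -/

variable {F : Type*} [Field F] [Fintype F]

/-- decoding -/
def dec (ω : F) (x : K4) : F := (if x.1 then 1 else 0) + (if x.2 then ω else 0)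

theorem dec_add (h2 : (2 : F) = 0) (ω : F) (x y : K4) : dec ω (kadd x y) = dec ω x + dec ω y := by
  obtain ⟨a, b⟩ := x
  obtain ⟨c, d⟩ := y
  cases a <;> cases b <;> cases c <;> cases d <;> simp [dec, kadd] <;>
    first | ring1 | linear_combination (-1 : F) * h2 | linear_combination (-ω) * h2 |
      linear_combination (-1 - ω) * h2

theorem dec_mul {ω : F} (hω : ω ^ 2 + ω + 1 = 0) (h2 : (2 : F) = 0) (x y : K4) :
    dec ω (kmul x y) = dec ω x * dec ω y := by
  obtain ⟨a, b⟩ := x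
  obtain ⟨c, d⟩ := y
  cases a <;> cases b <;> cases c <;> cases d <;> simp [dec, kmul] <;>
    first | ring1 | linear_combination (-1 : F) * hω + h2 | linear_combination (-1 : F) * hω + (1 + ω) * h2 |
      linear_combination (-1 : F) * hω + ω * h2 | linear_combination (-1 : F) * hω + (-ω) * h2 |
      linear_combination (-1 : F) * hω + (1 - ω) * h2 | linear_combination (-1 : F) * hω

theorem dec_kw {ω : F} (hω : ω ^ 2 + ω + 1 = 0) (h2 : (2 : F) = 0) (k : Fin 3) : dec ω (kw k) = wp ω k := by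
  fin_cases k
  · simp [dec, kw, wp]
  · simp [dec, kw, wp]
  · simp [dec, kw, wp]
    linear_combination (-1 : F) * hω + (1 + ω) * h2

theorem dec_kzero (ω : F) : dec ω kzero = 0 := by simp [dec, kzero]
theorem dec_kone (ω : F) : dec ω kone = 1 := by simp [dec, kone]

theorem dec_eq_zero {ω : F} (hω : ω ^ 2 + ω + 1 = 0) (h2 : (2 : F) = 0) (x : K4) (h : dec ω x = 0) : x = kzero := by
  obtain ⟨a, b⟩ := x
  have h0 := omega_ne_zero hω
  cases a <;> cases b
  · rfl
  · exfalso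
    simp [dec] at h
    exact h0 h
  · exfalso
    simp [dec] at h
  · exfalso
    simp [dec] at h
    apply h0
    have : ω ^ 2 = 0 := by linear_combination hω - h
    exact pow_eq_zero_iff (by norm_num) |>.mp this

theorem kadd_self : ∀ x y : K4, kadd x y = kzero → x = y := by decide

theorem dec_injective {ω : F} (hω : ω ^ 2 + ω + 1 = 0) (h2 : (2 : F) = 0) : Function.Injective (dec ω) := by
  intro x y hxy
  apply kadd_self
  apply dec_eq_zero hω h2
  rw [dec_add h2, hxy]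
  linear_combination (dec ω y) * h2

theorem dec_surjective (hF : Fintype.card F = 2 ^ 2) {ω : F} (hω : ω ^ 2 + ω + 1 = 0) (x : F) :
    ∃ k : K4, dec ω k = x := by
  have h2 := two_eq_zero' hF
  rcases eq_zero_or_wp hF hω x with h | ⟨k, h⟩
  · exact ⟨kzero, by rw [h, dec_kzero]⟩
  · exact ⟨kw k, by rw [h, dec_kw hω h2]⟩

theorem f3_sub_iff : ∀ i k b : Fin 3, i = k + b ↔ k = i - b := by decide

/-- from the model conclusion to the matrix identity -/
theorem concl_transfer {ω : F} (hω : ω ^ 2 + ω + 1 = 0) (h2 : (2 : F) = 0) (g : Matrix (Fin 3) (Fin 3) F)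
    (G : Fin 3 → Fin 3 → K4) (hG : ∀ i j, dec ω (G i j) = g i j) (a b : Fin 3) (h : kconcl G a b) :
    ∃ (c a' b' : Fin 3), g * W ω a b = (wp ω c • W ω a' b') * g := by
  obtain ⟨c, a', b', hc⟩ := h
  refine ⟨c, a', b', ?_⟩
  ext i j
  have h1 := congrArg (dec ω) (hc i j)
  rw [dec_mul hω h2, dec_mul hω h2, dec_kw hω h2, dec_kw hω h2, hG, hG, wp_add hω] at h1
  rw [Matrix.mul_apply, Matrix.mul_apply, Finset.sum_eq_single (j + b), Finset.sum_eq_single (i - b')]
  · rw [W_apply, if_pos rfl, Matrix.smul_apply, W_apply, if_pos ((f3_sub_iff i (i - b') b').mpr rfl), smul_eq_mul, h1]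
  · intro k _ hk
    rw [Matrix.smul_apply, W_apply, if_neg (fun h' => hk ((f3_sub_iff i k b').mp h')), smul_zero, zero_mul]
  · intro h'
    exact absurd (Finset.mem_univ _) h'
  · intro k _ hk
    rw [W_apply, if_neg hk, mul_zero]
  · intro h'
    exact absurd (Finset.mem_univ _) h'

/-! ### closure under products -/

theorem nr_mul {ω : F} (hω : ω ^ 2 + ω + 1 = 0) (g M₁ M₂ : Matrix (Fin 3) (Fin 3) F)
    (h₁ : ∃ (c a' b' : Fin 3), g * M₁ = (wp ω c • W ω a' b') * g)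
    (h₂ : ∃ (c a' b' : Fin 3), g * M₂ = (wp ω c • W ω a' b') * g) :
    ∃ (c a' b' : Fin 3), g * (M₁ * M₂) = (wp ω c • W ω a' b') * g := by
  obtain ⟨c₁, a₁, b₁, e₁⟩ := h₁
  obtain ⟨c₂, a₂, b₂, e₂⟩ := h₂
  refine ⟨c₁ + c₂ + -(a₂ * b₁), a₁ + a₂, b₁ + b₂, ?_⟩
  rw [← Matrix.mul_assoc, e₁, Matrix.mul_assoc, e₂, ← Matrix.mul_assoc]
  congr 1
  rw [Matrix.smul_mul, Matrix.mul_smul, W_mul hω, smul_smul, smul_smul, wp_add hω, wp_add hω]

theorem f3_mul_zero : ∀ a : Fin 3, -(0 * (0 : Fin 3)) = 0 ∧ a + 0 = a ∧ 0 + a = a := by decide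

/-- K1 -/
theorem key (hF : Fintype.card F = 2 ^ 2) {ω : F} (hω : ω ^ 2 + ω + 1 = 0) {σ : F ≃+* F} (hσ : IsFrob 2 σ)
    (g : Matrix (Fin 3) (Fin 3) F) (hg : gᵀ * g.map σ = 1) (a b : Fin 3) :
    ∃ (c a' b' : Fin 3), g * W ω a b = (wp ω c • W ω a' b') * g := by
  have h2 := two_eq_zero' hF
  -- the model matrix
  choose G hG using fun i j => dec_surjective hF hω (g i j)
  have hunit : ∀ k l : Fin 3,
      kherm (G 0 k) (G 1 k) (G 2 k) (G 0 l) (G 1 l) (G 2 l) = if k = l then kone else kzero := by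
    intro k l
    apply dec_injective hω h2
    have h1 := congrFun (congrFun hg k) l
    rw [Matrix.mul_apply, Fin.sum_univ_three, Matrix.one_apply] at h1
    simp only [Matrix.transpose_apply, Matrix.map_apply, hσ.pow] at h1
    unfold kherm
    rw [dec_add h2, dec_add h2, dec_mul hω h2, dec_mul hω h2, dec_mul hω h2, dec_mul hω h2, dec_mul hω h2,
      dec_mul hω h2, hG, hG, hG, hG, hG, hG]
    have h3 : dec ω (if k = l then kone else kzero) = if k = l then (1 : F) else 0 := by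
      split_ifs
      · exact dec_kone ω
      · exact dec_kzero ω
    rw [h3, ← h1]
    ring
  obtain ⟨hX, hY⟩ := key_model' G hunit
  have nX := concl_transfer hω h2 g G hG 1 0 hX
  have nY := concl_transfer hω h2 g G hG 0 1 hY
  -- `W 0 0`, `W 2 0`, `W 0 2`
  have n0 : ∃ (c a' b' : Fin 3), g * W ω 0 0 = (wp ω c • W ω a' b') * g :=
    ⟨0, 0, 0, by rw [W_zero, wp_zero, one_smul, Matrix.mul_one, Matrix.one_mul]⟩
  have hW20 : W ω 2 0 = W ω 1 0 * W ω 1 0 := by
    rw [W_mul hω]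
    have : (-(1 * 0) : Fin 3) = 0 := by decide
    rw [this, wp_zero, one_smul]
    rfl
  have hW02 : W ω 0 2 = W ω 0 1 * W ω 0 1 := by
    rw [W_mul hω]
    have : (-(0 * 1) : Fin 3) = 0 := by decide
    rw [this, wp_zero, one_smul]
    rfl
  have nXa : ∀ a : Fin 3, ∃ (c a' b' : Fin 3), g * W ω a 0 = (wp ω c • W ω a' b') * g := by
    intro a
    fin_cases a
    · exact n0
    · exact nX
    · show ∃ (c a' b' : Fin 3), g * W ω 2 0 = (wp ω c • W ω a' b') * g
      rw [hW20]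
      exact nr_mul hω g _ _ nX nX
  have nYb : ∀ b : Fin 3, ∃ (c a' b' : Fin 3), g * W ω 0 b = (wp ω c • W ω a' b') * g := by
    intro b
    fin_cases b
    · exact n0
    · exact nY
    · show ∃ (c a' b' : Fin 3), g * W ω 0 2 = (wp ω c • W ω a' b') * g
      rw [hW02]
      exact nr_mul hω g _ _ nY nY
  have hWab : W ω a b = W ω a 0 * W ω 0 b := by
    rw [W_mul hω]
    obtain ⟨h1, h2', -⟩ := f3_mul_zero a
    obtain ⟨-, -, h3⟩ := f3_mul_zero b
    rw [h1, wp_zero, one_smul, h2', h3]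
  rw [hWab]
  exact nr_mul hω g _ _ (nXa a) (nYb b)

end Cfsg.Agent.Lib.Helper24.UAE3Leaf
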