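/-
helper24: Winter-type divisibility (S4467), part 1: the arithmetic predicate `Good p n` (a prime power divisor of `n`
congruent to 0, 1 or -1 mod p), fixed point counting for p-power automorphisms of r-groups, and the decomposition
`V = C_V(s) x [V, s]` for abelian r-groups.
-/
import Mathlib

set_option autoImplicit false

namespace Cfsg.Agent.Lib.Helper24.Winter

/-- `n` has a prime power divisor congruent to `0, ±1` modulo `p`. -/
def Good (p n : ℕ) : Prop :=
  ∃ q : ℕ, IsPrimePow q ∧ q ∣ n ∧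
    ((q : ℤ) ≡ -1 [ZMOD p] ∨ (q : ℤ) ≡ 0 [ZMOD p] ∨ (q : ℤ) ≡ 1 [ZMOD p])

theorem Good.mono {p m n : ℕ} (h : Good p m) (hmn : m ∣ n) : Good p n := by
  obtain ⟨q, hq, hqm, hc⟩ := h
  exact ⟨q, hq, hqm.trans hmn, hc⟩

theorem good_of_dvd_self {p n : ℕ} (hp : p.Prime) (h : p ∣ n) : Good p n := by
  refine ⟨p, hp.isPrimePow, h, Or.inr (Or.inl ?_)⟩
  exact (Int.modEq_zero_iff_dvd).mpr dvd_rfl

theorem good_of_pow_sub_one {p r a d n : ℕ} (hr : r.Prime) (hd1 : 1 ≤ d) (hda : d ≤ a)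
    (h : p ∣ r ^ d - 1) (hn : r ^ a ∣ n) : Good p n := by
  refine ⟨r ^ d, ?_, (pow_dvd_pow r hda).trans hn, Or.inr (Or.inr ?_)⟩
  · exact (isPrimePow_pow_iff (by omega)).mpr hr.isPrimePow
  · have h1 : 1 ≤ r ^ d := Nat.one_le_pow _ _ hr.pos
    have h2 : (p : ℤ) ∣ ((r ^ d : ℕ) : ℤ) - 1 := by
      have : ((r ^ d - 1 : ℕ) : ℤ) = ((r ^ d : ℕ) : ℤ) - 1 := by
        rw [Nat.cast_sub h1]; simp
      rw [← this]
      exact_mod_cast h
    exact (Int.modEq_iff_dvd.mpr h2).symm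

theorem good_of_sq {p q n : ℕ} (hp : p.Prime) (hq : IsPrimePow q) (h : q ^ 2 ≡ 1 [MOD p])
    (hn : q ∣ n) : Good p n := by
  refine ⟨q, hq, hn, ?_⟩
  have h1 : ((q : ℤ)) ^ 2 ≡ 1 [ZMOD p] := by
    have := (Int.natCast_modEq_iff).mpr h
    simpa using this
  have h2 : (p : ℤ) ∣ ((q : ℤ) - 1) * ((q : ℤ) + 1) := by
    have := (Int.modEq_iff_dvd.mp h1.symm)
    have e : ((q : ℤ) - 1) * ((q : ℤ) + 1) = (q : ℤ) ^ 2 - 1 := by ring
    rw [e]; exact this
  have hp' : Prime (p : ℤ) := Nat.prime_iff_prime_int.mp hp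
  rcases hp'.dvd_or_dvd h2 with h3 | h3
  · right; right
    exact (Int.modEq_iff_dvd.mpr h3).symm
  · left
    refine (Int.modEq_iff_dvd.mpr ?_).symm
    have : (q : ℤ) - -1 = (q : ℤ) + 1 := by ring
    rw [this]; exact h3

/-- Fixed point counting: a nontrivial `p`-power order automorphism of a group of order `r ^ a`. -/
theorem exists_pow_sub_one {W : Type*} [Group W] [Finite W] {p r : ℕ} (hp : p.Prime) (hr : r.Prime)
    (hpr : p ≠ r) (a : ℕ) (hW : Nat.card W = r ^ a) (σ : MulAut W) (k : ℕ) (hσ : σ ^ (p ^ k) = 1)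
    (hσ1 : σ ≠ 1) : ∃ d, 1 ≤ d ∧ d ≤ a ∧ p ∣ r ^ d - 1 := by
  have : Fact p.Prime := ⟨hp⟩
  have hPG : IsPGroup p (Subgroup.zpowers σ) := by
    rintro ⟨τ, hτ⟩
    obtain ⟨j, rfl⟩ := Subgroup.mem_zpowers_iff.mp hτ
    refine ⟨k, Subtype.ext ?_⟩
    show (σ ^ j) ^ (p ^ k) = 1
    rw [← zpow_natCast, ← zpow_mul, mul_comm, zpow_mul, zpow_natCast, hσ, one_zpow]
  have hmod := hPG.card_modEq_card_fixedPoints W
  let F : Subgroup W := MonoidHom.eqLocus (σ : W ≃* W).toMonoidHom (MonoidHom.id W)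
  have hFmem : ∀ w, w ∈ F ↔ σ w = w := fun w => Iff.rfl
  have hfix : (MulAction.fixedPoints (Subgroup.zpowers σ) W) = (F : Set W) := by
    ext w
    rw [MulAction.mem_fixedPoints, SetLike.mem_coe, hFmem]
    constructor
    · intro h
      exact h ⟨σ, Subgroup.mem_zpowers σ⟩
    · rintro h ⟨τ, hτ⟩
      obtain ⟨j, rfl⟩ := Subgroup.mem_zpowers_iff.mp hτ
      show (σ ^ j) w = w
      have h1 : ∀ n : ℕ, (σ ^ n) w = w := by
        intro n
        induction n with
        | zero => simp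
        | succ n ih => rw [pow_succ, MulAut.mul_apply, h, ih]
      have h2 : ∀ n : ℕ, (σ ^ n)⁻¹ w = w := by
        intro n
        have := h1 n
        calc (σ ^ n)⁻¹ w = (σ ^ n)⁻¹ ((σ ^ n) w) := by rw [this]
          _ = w := by rw [← MulAut.mul_apply, inv_mul_cancel]; rfl
      rcases Int.eq_nat_or_neg j with ⟨n, rfl | rfl⟩
      · rw [zpow_natCast]; exact h1 n
      · rw [zpow_neg, zpow_natCast]; exact h2 n
  rw [hfix] at hmod
  have hFcard : Nat.card F ∣ r ^ a := hW ▸ Subgroup.card_subgroup_dvd_card F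
  obtain ⟨c, hca, hc⟩ := (Nat.dvd_prime_pow hr).mp hFcard
  have hcne : c ≠ a := by
    intro h
    apply hσ1
    have hFtop : F = ⊤ := by
      apply Subgroup.eq_top_of_card_eq
      rw [hc, h, hW]
    ext w
    have : w ∈ F := hFtop ▸ Subgroup.mem_top w
    exact (hFmem w).mp this
  have hclt : c < a := lt_of_le_of_ne hca hcne
  refine ⟨a - c, by omega, by omega, ?_⟩
  have h3 : r ^ a ≡ r ^ c [MOD p] := by
    have : Nat.card (F : Set W) = Nat.card F := rfl
    rw [hW, this, hc] at hmod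
    exact hmod
  have h4 : r ^ c * r ^ (a - c) ≡ r ^ c * 1 [MOD p] := by
    rw [← pow_add, mul_one]
    have : c + (a - c) = a := by omega
    rw [this]; exact h3
  have hcop : Nat.gcd p (r ^ c) = 1 := by
    apply Nat.Coprime.pow_right
    exact (Nat.coprime_primes hp hr).mpr hpr
  have h5 := Nat.ModEq.cancel_left_of_coprime hcop h4
  exact (Nat.modEq_iff_dvd' (Nat.one_le_pow _ _ hr.pos)).mp h5.symm

theorem mulAut_pow_apply_of_fixed' {R : Type*} [Group R] (σ : MulAut R) (a c : R) (h1 : σ a = a * c)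
    (h2 : σ c = c) (j : ℕ) : (σ ^ j) a = a * c ^ j := by
  induction j with
  | zero => simp
  | succ j ih =>
    rw [pow_succ', MulAut.mul_apply, ih, map_mul, map_pow, h1, h2, mul_assoc, ← pow_succ']

/-- Coprime action of a `p`-power order automorphism on an abelian `r`-group: the subgroup `[V, σ]`. -/
theorem abelian_decomp {V : Type*} [Group V] [Finite V] (hcomm : ∀ u v : V, u * v = v * u)
    {p r : ℕ} (hp : p.Prime) (hr : r.Prime) (hpr : p ≠ r) (hV : IsPGroup r V)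
    (σ : MulAut V) (k : ℕ) (hσ : σ ^ (p ^ k) = 1) (hσ1 : σ ≠ 1) :
    ∃ V₁ : Subgroup V, (∀ u : V, u⁻¹ * σ u ∈ V₁) ∧ (∀ v ∈ V₁, σ v = v → v = 1) ∧
      Nat.card V₁ ≡ 1 [MOD p] ∧ 1 < Nat.card V₁ := by
  have : Fact p.Prime := ⟨hp⟩
  have : Fact r.Prime := ⟨hr⟩
  let δ : V →* V := MonoidHom.mk' (fun v => v⁻¹ * σ v) (by
    intro a b
    show (a * b)⁻¹ * σ (a * b) = a⁻¹ * σ a * (b⁻¹ * σ b)
    rw [map_mul, mul_inv_rev, hcomm b⁻¹ a⁻¹, mul_assoc, mul_assoc, ← mul_assoc b⁻¹, hcomm b⁻¹ (σ a),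
      mul_assoc])
  have hδ : ∀ v, δ v = v⁻¹ * σ v := fun v => rfl
  have hker : ∀ v, v ∈ δ.ker ↔ σ v = v := by
    intro v
    rw [MonoidHom.mem_ker, hδ, inv_mul_eq_one, eq_comm]
  refine ⟨δ.range, fun u => ⟨u, rfl⟩, ?_, ?_, ?_⟩
  · rintro v ⟨u, rfl⟩ hfix
    rw [hδ] at hfix ⊢
    set c := u⁻¹ * σ u with hc
    have h1 : σ u = u * c := by rw [hc, mul_inv_cancel_left]
    have h2 := mulAut_pow_apply_of_fixed' σ u c h1 hfix (p ^ k)
    rw [hσ, MulAut.one_apply] at h2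
    have h3 : c ^ (p ^ k) = 1 := by
      have : u * 1 = u * c ^ (p ^ k) := by rw [mul_one]; exact h2
      exact (mul_left_cancel this).symm
    obtain ⟨s, hs⟩ := hV c
    have hcop : Nat.Coprime (p ^ k) (r ^ s) :=
      Nat.Coprime.pow _ _ ((Nat.coprime_primes hp hr).mpr hpr)
    have := (pow_gcd_eq_one (a := c)).mpr ⟨h3, hs⟩
    rw [hcop.gcd_eq_one, pow_one] at this
    exact this
  · -- counting
    have hcardV : Nat.card V = Nat.card δ.ker * Nat.card δ.range := by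
      rw [Subgroup.card_eq_card_quotient_mul_card_subgroup δ.ker,
        Nat.card_congr (QuotientGroup.quotientKerEquivRange δ).toEquiv, mul_comm]
    obtain ⟨N, hN⟩ := hV.exists_card_eq
    have hPG : IsPGroup p (Subgroup.zpowers σ) := by
      rintro ⟨τ, hτ⟩
      obtain ⟨j, rfl⟩ := Subgroup.mem_zpowers_iff.mp hτ
      refine ⟨k, Subtype.ext ?_⟩
      show (σ ^ j) ^ (p ^ k) = 1
      rw [← zpow_natCast, ← zpow_mul, mul_comm, zpow_mul, zpow_natCast, hσ, one_zpow]
    have hmod := hPG.card_modEq_card_fixedPoints V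
    have hfix : (MulAction.fixedPoints (Subgroup.zpowers σ) V) = (δ.ker : Set V) := by
      ext w
      rw [MulAction.mem_fixedPoints, SetLike.mem_coe, hker]
      constructor
      · intro h
        exact h ⟨σ, Subgroup.mem_zpowers σ⟩
      · rintro h ⟨τ, hτ⟩
        obtain ⟨j, rfl⟩ := Subgroup.mem_zpowers_iff.mp hτ
        show (σ ^ j) w = w
        have h1 : ∀ n : ℕ, (σ ^ n) w = w := by
          intro n
          induction n with
          | zero => simp
          | succ n ih => rw [pow_succ, MulAut.mul_apply, h, ih]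
        have h2 : ∀ n : ℕ, (σ ^ n)⁻¹ w = w := by
          intro n
          have := h1 n
          calc (σ ^ n)⁻¹ w = (σ ^ n)⁻¹ ((σ ^ n) w) := by rw [this]
            _ = w := by rw [← MulAut.mul_apply, inv_mul_cancel]; rfl
        rcases Int.eq_nat_or_neg j with ⟨n, rfl | rfl⟩
        · rw [zpow_natCast]; exact h1 n
        · rw [zpow_neg, zpow_natCast]; exact h2 n
    rw [hfix] at hmod
    have hmod' : Nat.card δ.ker * Nat.card δ.range ≡ Nat.card δ.ker * 1 [MOD p] := by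
      rw [← hcardV, mul_one]
      exact hmod
    have hkdvd : Nat.card δ.ker ∣ r ^ N := hN ▸ Subgroup.card_subgroup_dvd_card δ.ker
    obtain ⟨c, -, hc⟩ := (Nat.dvd_prime_pow hr).mp hkdvd
    have hcop : Nat.gcd p (Nat.card δ.ker) = 1 := by
      rw [hc]
      apply Nat.Coprime.pow_right
      exact (Nat.coprime_primes hp hr).mpr hpr
    exact Nat.ModEq.cancel_left_of_coprime hcop hmod'
  · rw [Subgroup.one_lt_card_iff_ne_bot]
    intro hbot
    apply hσ1
    ext v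
    have : δ v ∈ δ.range := ⟨v, rfl⟩
    rw [hbot, Subgroup.mem_bot, hδ, inv_mul_eq_one] at this
    rw [MulAut.one_apply]
    exact this.symm

end Cfsg.Agent.Lib.Helper24.Winter
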