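/-
helper24: Winter-type divisibility (S4467), part 2: commutator identities in class two groups and the symplectic counting
lemma `exists_sub_class2`.
-/
import Mathlib
import Cfsg.Agent.Lib.Helper24.Winter1

set_option autoImplicit false

namespace Cfsg.Agent.Lib.Helper24.Winter

open scoped commutatorElement

universe u

section class2

variable {A : Type u} [Group A]

theorem comm_mul_right (hc : ∀ a b : A, ⁅a, b⁆ ∈ Subgroup.center A) (a b c : A) :
    ⁅a, b * c⁆ = ⁅a, b⁆ * ⁅a, c⁆ := by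
  have hz : b⁻¹ * ⁅a, c⁆ = ⁅a, c⁆ * b⁻¹ := (Subgroup.mem_center_iff.mp (hc a c)) b⁻¹
  have h1 : ⁅a, b⁆ * ⁅a, c⁆ = a * b * a⁻¹ * (b⁻¹ * ⁅a, c⁆) := by
    rw [commutatorElement_def a b]; group
  rw [h1, hz, commutatorElement_def, commutatorElement_def]
  group

theorem comm_one_right (a : A) : ⁅a, (1 : A)⁆ = 1 := by
  rw [commutatorElement_def]; group

theorem comm_inv_right (hc : ∀ a b : A, ⁅a, b⁆ ∈ Subgroup.center A) (a b : A) :
    ⁅a, b⁻¹⁆ = ⁅a, b⁆⁻¹ := by
  have h := comm_mul_right hc a b b⁻¹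
  rw [mul_inv_cancel, comm_one_right] at h
  exact eq_inv_of_mul_eq_one_right h.symm

theorem comm_mul_left (hc : ∀ a b : A, ⁅a, b⁆ ∈ Subgroup.center A) (a b c : A) :
    ⁅a * b, c⁆ = ⁅a, c⁆ * ⁅b, c⁆ := by
  have h := comm_mul_right hc c a b
  have h2 : ⁅a * b, c⁆ = ⁅c, a * b⁆⁻¹ := (commutatorElement_inv c (a * b)).symm
  rw [h2, h, mul_inv_rev, commutatorElement_inv, commutatorElement_inv]
  exact ((Subgroup.mem_center_iff.mp (hc a c)) ⁅b, c⁆)

theorem comm_inv_left (hc : ∀ a b : A, ⁅a, b⁆ ∈ Subgroup.center A) (a b : A) :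
    ⁅a⁻¹, b⁆ = ⁅a, b⁆⁻¹ := by
  have h := comm_mul_left hc a a⁻¹ b
  rw [mul_inv_cancel] at h
  have h1 : ⁅(1 : A), b⁆ = 1 := by rw [commutatorElement_def]; group
  rw [h1] at h
  exact eq_inv_of_mul_eq_one_right h.symm

end class2

/-- The symplectic counting lemma: a group `A` of class at most two with `A / Z(A)` an `r`-group, and an
automorphism `τ` of `p`-power order fixing the centre pointwise and acting nontrivially: there is a subgroup `B`
containing `Z(A)` with `Z(B) = Z(A)` and `|B : Z(A)| ≡ 1 mod p`, `|B : Z(A)| > 1`. -/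
theorem exists_sub_class2 {A : Type u} [Group A] [Finite A]
    (hc : ∀ a b : A, ⁅a, b⁆ ∈ Subgroup.center A) {p r : ℕ} (hp : p.Prime) (hr : r.Prime) (hpr : p ≠ r)
    (hrA : ∀ a : A, ∃ s : ℕ, a ^ (r ^ s) ∈ Subgroup.center A)
    (τ : MulAut A) (k : ℕ) (hτ : τ ^ (p ^ k) = 1) (hτZ : ∀ z ∈ Subgroup.center A, τ z = z)
    (hτ1 : τ ≠ 1) :
    ∃ B : Subgroup A, Subgroup.center A ≤ B ∧
      (∀ b ∈ B, (∀ c ∈ B, b * c = c * b) → b ∈ Subgroup.center A) ∧
      ∃ v : ℕ, Nat.card B = Nat.card (Subgroup.center A) * v ∧ v ≡ 1 [MOD p] ∧ 1 < v ∧ ∃ t : ℕ, v = r ^ t := by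
  classical
  let Z : Subgroup A := Subgroup.center A
  let π : A →* A ⧸ Z := QuotientGroup.mk' Z
  have hπ : ∀ a : A, π a = 1 ↔ a ∈ Z := fun a => QuotientGroup.eq_one_iff a
  have hmap : Z.map (τ : A ≃* A).toMonoidHom = Z := by
    have hchar : Z.Characteristic := inferInstance
    exact Subgroup.characteristic_iff_map_eq.mp hchar τ
  let σ : MulAut (A ⧸ Z) := QuotientGroup.congr Z Z τ hmap
  have hσπ : ∀ a : A, σ (π a) = π (τ a) := fun a => rfl
  have hσpow : ∀ (n : ℕ) (a : A), (σ ^ n) (π a) = π ((τ ^ n) a) := by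
    intro n
    induction n with
    | zero => intro a; simp
    | succ n ih =>
      intro a
      rw [pow_succ', MulAut.mul_apply, ih, hσπ, pow_succ', MulAut.mul_apply]
  have hcommV : ∀ u v : A ⧸ Z, u * v = v * u := by
    intro u v
    obtain ⟨a, rfl⟩ := QuotientGroup.mk'_surjective Z u
    obtain ⟨b, rfl⟩ := QuotientGroup.mk'_surjective Z v
    have h1 : a * b = ⁅a, b⁆ * (b * a) := by rw [commutatorElement_def]; group
    show π a * π b = π b * π a
    rw [← map_mul, ← map_mul, h1, map_mul, (hπ _).mpr (hc a b), one_mul]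
  have hV : IsPGroup r (A ⧸ Z) := by
    intro v
    obtain ⟨a, rfl⟩ := QuotientGroup.mk'_surjective Z v
    obtain ⟨s, hs⟩ := hrA a
    refine ⟨s, ?_⟩
    show (π a) ^ (r ^ s) = 1
    rw [← map_pow, hπ]
    exact hs
  have hσ : σ ^ (p ^ k) = 1 := by
    ext v
    obtain ⟨a, rfl⟩ := QuotientGroup.mk'_surjective Z v
    show (σ ^ (p ^ k)) (π a) = π a
    rw [hσpow, hτ, MulAut.one_apply]
  -- nontriviality mod the centre
  have hσ1 : σ ≠ 1 := by
    intro hone
    apply hτ1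
    ext a
    rw [MulAut.one_apply]
    have h1 : π (a⁻¹ * τ a) = 1 := by
      rw [map_mul, map_inv, ← hσπ, hone, MulAut.one_apply, inv_mul_cancel]
    have hz : a⁻¹ * τ a ∈ Z := (hπ _).mp h1
    set z := a⁻¹ * τ a with hzdef
    have h2 : τ a = a * z := by rw [hzdef, mul_inv_cancel_left]
    have h3 := mulAut_pow_apply_of_fixed' τ a z h2 (hτZ z hz) (p ^ k)
    rw [hτ, MulAut.one_apply] at h3
    have h4 : z ^ (p ^ k) = 1 := by
      have : a * 1 = a * z ^ (p ^ k) := by rw [mul_one]; exact h3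
      exact (mul_left_cancel this).symm
    obtain ⟨s, hs⟩ := hrA a
    have h5 : τ (a ^ (r ^ s)) = a ^ (r ^ s) := hτZ _ hs
    have hza : Commute a z := ((Subgroup.mem_center_iff.mp hz) a)
    rw [map_pow, h2, hza.mul_pow] at h5
    have h6 : z ^ (r ^ s) = 1 := by
      have : a ^ (r ^ s) * z ^ (r ^ s) = a ^ (r ^ s) * 1 := by rw [mul_one]; exact h5
      exact mul_left_cancel this
    have hcop : Nat.Coprime (p ^ k) (r ^ s) :=
      Nat.Coprime.pow _ _ ((Nat.coprime_primes hp hr).mpr hpr)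
    have h7 := (pow_gcd_eq_one (a := z)).mpr ⟨h4, h6⟩
    rw [hcop.gcd_eq_one, pow_one] at h7
    rw [h2, h7, mul_one]
  obtain ⟨V₁, hV1, hV2, hV3, hV4⟩ := abelian_decomp hcommV hp hr hpr hV σ k hσ hσ1
  have hV5 : ∃ t : ℕ, Nat.card V₁ = r ^ t := by
    have : Fact r.Prime := ⟨hr⟩
    exact (hV.to_subgroup V₁).exists_card_eq
  refine ⟨V₁.comap π, ?_, ?_, Nat.card V₁, ?_, hV3, hV4, hV5⟩
  · intro z hz
    rw [Subgroup.mem_comap, (hπ z).mpr hz]
    exact V₁.one_mem
  · intro b hb hbc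
    -- `b` commutes with all `u⁻¹ τ u`
    have hw : ∀ u : A, u⁻¹ * τ u ∈ V₁.comap π := by
      intro u
      rw [Subgroup.mem_comap, map_mul, map_inv, ← hσπ]
      exact hV1 (π u)
    have h1 : ∀ u : A, ⁅b, τ u⁆ = ⁅b, u⁆ := by
      intro u
      have h2 : ⁅b, u⁻¹ * τ u⁆ = 1 := by
        rw [commutatorElement_eq_one_iff_mul_comm]
        exact hbc _ (hw u)
      rw [comm_mul_right hc, comm_inv_right hc, inv_mul_eq_one] at h2
      exact h2.symm
    have h3 : ∀ u : A, ⁅τ⁻¹ b, u⁆ = ⁅b, u⁆ := by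
      intro u
      have h4 : τ ⁅τ⁻¹ b, u⁆ = ⁅b, τ u⁆ := by
        rw [map_commutatorElement]
        congr 1
        exact MulAut.apply_inv_self A τ b
      rw [hτZ _ (hc _ _)] at h4
      rw [h4, h1]
    have h5 : b⁻¹ * τ⁻¹ b ∈ Z := by
      rw [Subgroup.mem_center_iff]
      intro u
      have h6 : ⁅b⁻¹ * τ⁻¹ b, u⁆ = 1 := by
        rw [comm_mul_left hc, comm_inv_left hc, h3, inv_mul_cancel]
      exact ((commutatorElement_eq_one_iff_mul_comm).mp h6).symm
    have h7 : π (τ⁻¹ b) = π b := by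
      have := (hπ _).mpr h5
      rw [map_mul, map_inv, inv_mul_eq_one] at this
      exact this.symm
    have h8 : σ (π b) = π b := by
      have h9 : σ (π (τ⁻¹ b)) = π b := by
        rw [hσπ]
        congr 1
        exact MulAut.apply_inv_self A τ b
      rw [h7] at h9
      exact h9
    have h10 := hV2 (π b) hb h8
    exact (hπ b).mp h10
  · -- cardinality
    have hsurj : Function.Surjective π := QuotientGroup.mk'_surjective Z
    have hidx : (V₁.comap π).index = V₁.index := Subgroup.index_comap_of_surjective V₁ hsurj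
    have h1 := Subgroup.card_mul_index (V₁.comap π)
    have h2 := Subgroup.card_mul_index V₁
    have h3 : Nat.card A = Nat.card (A ⧸ Z) * Nat.card Z :=
      Subgroup.card_eq_card_quotient_mul_card_subgroup Z
    have hpos : 0 < V₁.index := Nat.pos_of_ne_zero (Subgroup.index_ne_zero_of_finite)
    apply Nat.eq_of_mul_eq_mul_right hpos
    rw [← hidx] at h2 ⊢
    rw [h1, h3, ← h2]
    ring

end Cfsg.Agent.Lib.Helper24.Winter
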