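/-
helper24: Winter-type divisibility (S4467), part 3: maximal subgroups of solvable groups (index r^a, action of a Sylow
p-subgroup on the chief factor).
-/
import Mathlib
import Cfsg.Agent.Lib.Helper1.MinNormal
import Cfsg.Agent.Lib.Helper24.Winter1

set_option autoImplicit false

namespace Cfsg.Agent.Lib.Helper24.Winter

open Cfsg.Agent.Lib.Helper1

universe u

/-- A `p`-subgroup lies in every normal subgroup of index prime to `p`. -/
theorem pgroup_le_of_normal_of_not_dvd_index {G : Type u} [Group G] [Finite G] {p : ℕ} [hp : Fact p.Prime]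
    (P : Subgroup G) (hP : IsPGroup p P) (M : Subgroup G) [M.Normal] (hM : ¬ p ∣ M.index) : P ≤ M := by
  have h1 : IsPGroup p (P.map (QuotientGroup.mk' M)) := hP.map _
  have h2 : Nat.card (P.map (QuotientGroup.mk' M)) ∣ M.index := by
    rw [Subgroup.index_eq_card]
    exact Subgroup.card_subgroup_dvd_card _
  rcases h1.card_eq_or_dvd with h3 | h3
  · have h4 : P.map (QuotientGroup.mk' M) = ⊥ := Subgroup.card_eq_one.mp h3
    intro x hx
    have h5 : QuotientGroup.mk' M x ∈ P.map (QuotientGroup.mk' M) := Subgroup.mem_map_of_mem _ hx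
    rw [h4, Subgroup.mem_bot] at h5
    exact (QuotientGroup.eq_one_iff x).mp h5
  · exact absurd (h3.trans h2) hM

/-- A minimal normal abelian subgroup not contained in a maximal subgroup `M` has order `|G : M|`. -/
theorem card_eq_index_of_minNormal {G : Type u} [Group G] [Finite G] {N : Subgroup G}
    (hN : IsMinNormal N) (hNc : ∀ a ∈ N, ∀ b ∈ N, a * b = b * a) (M : Subgroup G) (hM : IsCoatom M)
    (hNM : ¬ N ≤ M) : Nat.card N = M.index ∧ N ⊔ M = ⊤ := by
  obtain ⟨hNn, hN1, hmin⟩ := hN
  have := hNn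
  have hsup : N ⊔ M = ⊤ := by
    by_contra hne
    have h1 : M < N ⊔ M := lt_of_le_of_ne le_sup_right (fun h => hNM (h ▸ le_sup_left))
    exact hne (hM.2 _ h1)
  have hinfn : (N ⊓ M).Normal := by
    constructor
    intro y hy g
    have hg : g ∈ N ⊔ M := hsup ▸ Subgroup.mem_top g
    obtain ⟨n, hn, m, hm, rfl⟩ := Subgroup.mem_sup_of_normal_left.mp hg
    obtain ⟨hyN, hyM⟩ := Subgroup.mem_inf.mp hy
    have h1 : m * y * m⁻¹ ∈ N ⊓ M :=
      Subgroup.mem_inf.mpr ⟨hNn.conj_mem y hyN m, M.mul_mem (M.mul_mem hm hyM) (M.inv_mem hm)⟩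
    have h2 : n * m * y * (n * m)⁻¹ = n * (m * y * m⁻¹) * n⁻¹ := by group
    rw [h2, hNc n hn _ (Subgroup.mem_inf.mp h1).1, mul_assoc, mul_inv_cancel, mul_one]
    exact h1
  have hinf : N ⊓ M = ⊥ := by
    rcases hmin _ hinfn inf_le_left with h | h
    · exact h
    · exact absurd (h ▸ inf_le_right : N ≤ M) hNM
  have hcompl : Subgroup.IsComplement' N M := by
    apply Subgroup.isComplement'_of_disjoint_and_mul_eq_univ (disjoint_iff.mpr hinf)
    rw [← Subgroup.normal_mul, hsup, Subgroup.coe_top]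
  exact ⟨hcompl.index_eq_card.symm, hsup⟩

theorem maximal_index_aux {G : Type u} [Group G] [Finite G] [hsol : Group.IsSolvable G] {p : ℕ} [hp : Fact p.Prime]
    (P : Sylow p G) (hNC : ∀ K : Subgroup G, K.Normal → (P : Subgroup G) ≤ K → K = ⊤)
    (M : Subgroup G) (hM : IsCoatom M) (hpM : ¬ p ∣ M.index)
    (K : Subgroup G) [hKn : K.Normal] (hKM : K ≤ M)
    (hcore : ∀ L : Subgroup G, L.Normal → L ≤ M → L ≤ K) :
    ∃ r a d : ℕ, r.Prime ∧ M.index = r ^ a ∧ 1 ≤ d ∧ d ≤ a ∧ p ∣ r ^ d - 1 := by
  classical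
  let π : G →* G ⧸ K := QuotientGroup.mk' K
  have hπs : Function.Surjective π := QuotientGroup.mk'_surjective K
  have hker : π.ker = K := QuotientGroup.ker_mk' K
  have hKtop : K ≠ ⊤ := fun h => hM.1 (top_le_iff.mp (h ▸ hKM))
  have : Nontrivial (G ⧸ K) := by
    rw [← not_subsingleton_iff_nontrivial]
    intro hs
    apply hKtop
    rw [eq_top_iff]
    intro g _
    have : π g = π 1 := Subsingleton.elim _ _
    rw [map_one] at this
    exact (QuotientGroup.eq_one_iff g).mp this
  obtain ⟨N, hN⟩ := exists_isMinNormal (G := G ⧸ K)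
  have hNab : IsMulCommutative N := hN.isMulCommutative
  obtain ⟨r, hr, hNr⟩ := hN.exists_prime_isPGroup
  have hNc : ∀ a ∈ N, ∀ b ∈ N, a * b = b * a := by
    intro a ha b hb
    have := mul_comm' (⟨a, ha⟩ : N) ⟨b, hb⟩
    exact congrArg Subtype.val this
  -- the image of M is a coatom
  have hcm : (M.map π).comap π = M := by
    rw [Subgroup.comap_map_eq, hker, sup_eq_left.mpr hKM]
  have hMbar : IsCoatom (M.map π) := by
    constructor
    · intro h
      apply hM.1
      rw [← hcm, h, Subgroup.comap_top]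
    · intro H hlt
      have h1 : M ≤ H.comap π := by
        rw [← hcm]; exact Subgroup.comap_mono hlt.le
      have h2 : M ≠ H.comap π := by
        intro h
        apply hlt.ne
        rw [h, Subgroup.map_comap_eq_self_of_surjective hπs]
      have h3 := hM.2 _ (lt_of_le_of_ne h1 h2)
      rw [← Subgroup.map_comap_eq_self_of_surjective hπs H, h3, Subgroup.map_top_of_surjective π hπs]
  have hNn : N.Normal := hN.1
  have hNM : ¬ N ≤ M.map π := by
    intro h
    have h1 : N.comap π ≤ M := by
      rw [← hcm]; exact Subgroup.comap_mono h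
    have : (N.comap π).Normal := hNn.comap π
    have h2 : N.comap π ≤ K := hcore _ this h1
    have h3 : N = ⊥ := by
      rw [← Subgroup.map_comap_eq_self_of_surjective hπs N, eq_bot_iff]
      intro y hy
      obtain ⟨x, hx, rfl⟩ := Subgroup.mem_map.mp hy
      rw [Subgroup.mem_bot]
      exact (QuotientGroup.eq_one_iff x).mpr (h2 hx)
    exact hN.2.1 h3
  obtain ⟨hcard, hsup⟩ := card_eq_index_of_minNormal hN hNc (M.map π) hMbar hNM
  have hidx : (M.map π).index = M.index := Subgroup.index_map_eq M hπs (by rw [hker]; exact hKM)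
  have : Fact r.Prime := ⟨hr⟩
  obtain ⟨a, ha⟩ := hNr.exists_card_eq
  have hMa : M.index = r ^ a := by rw [← hidx, ← hcard, ha]
  have hpr : p ≠ r := by
    rintro rfl
    apply hpM
    rw [hMa]
    have ha0 : a ≠ 0 := by
      rintro rfl
      rw [pow_zero] at ha
      exact hN.2.1 (Subgroup.card_eq_one.mp ha)
    exact dvd_pow_self p ha0
  -- some element of P acts nontrivially on N
  have hex : ∃ x ∈ (P : Subgroup G), π x ∉ Subgroup.centralizer (N : Set (G ⧸ K)) := by
    by_contra hcon
    push Not at hcon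
    have hCn : (Subgroup.centralizer (N : Set (G ⧸ K))).Normal := Subgroup.normal_centralizer
    have h1 := hNC ((Subgroup.centralizer (N : Set (G ⧸ K))).comap π) (hCn.comap π)
      (fun x hx => Subgroup.mem_comap.mpr (hcon x hx))
    have hcent : ∀ q : G ⧸ K, ∀ n ∈ N, n * q = q * n := by
      intro q n hn
      obtain ⟨g, rfl⟩ := hπs q
      have : g ∈ (Subgroup.centralizer (N : Set (G ⧸ K))).comap π := h1 ▸ Subgroup.mem_top g
      exact (Subgroup.mem_centralizer_iff.mp (Subgroup.mem_comap.mp this)) n hn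
    have hMn : (M.map π).Normal := by
      constructor
      intro y hy q
      have hq : q ∈ N ⊔ M.map π := hsup ▸ Subgroup.mem_top q
      obtain ⟨n, hn, m, hm, rfl⟩ := Subgroup.mem_sup_of_normal_left.mp hq
      have h2 : n * m * y * (n * m)⁻¹ = n * (m * y * m⁻¹) * n⁻¹ := by group
      rw [h2, hcent _ n hn, mul_assoc, mul_inv_cancel, mul_one]
      exact (M.map π).mul_mem ((M.map π).mul_mem hm hy) ((M.map π).inv_mem hm)
    have hMnG : M.Normal := by
      rw [← hcm]; exact hMn.comap π
    have h3 := pgroup_le_of_normal_of_not_dvd_index (P : Subgroup G) P.2 M hpM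
    exact hM.1 (hNC M hMnG h3)
  obtain ⟨x, hxP, hx⟩ := hex
  obtain ⟨k, hk⟩ := P.2 ⟨x, hxP⟩
  have hxk : x ^ (p ^ k) = 1 := by
    have := congrArg Subtype.val hk
    simpa using this
  let σ : MulAut N := MulAut.conjNormal (π x)
  have hσ : σ ^ (p ^ k) = 1 := by
    show (MulAut.conjNormal (π x)) ^ (p ^ k) = 1
    rw [← map_pow, ← map_pow, hxk, map_one, map_one]
  have hσ1 : σ ≠ 1 := by
    intro h
    apply hx
    rw [Subgroup.mem_centralizer_iff]
    intro n hn
    have h1 : σ ⟨n, hn⟩ = ⟨n, hn⟩ := by rw [h, MulAut.one_apply]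
    have h2 := congrArg Subtype.val h1
    rw [MulAut.conjNormal_apply] at h2
    have h3 : π x * n = n * π x := by
      calc π x * n = π x * n * (π x)⁻¹ * π x := by group
        _ = n * π x := by rw [h2]
    exact h3.symm
  obtain ⟨d, hd1, hda, hd⟩ := exists_pow_sub_one hp.out hr hpr a ha σ k hσ hσ1
  exact ⟨r, a, d, hr, hMa, hd1, hda, hd⟩

/-- Maximal subgroups of solvable groups: the index is a prime power `r ^ a`, and if the normal closure of a Sylow
`p`-subgroup is everything and `p` does not divide the index then `p ∣ r ^ d - 1` for some `1 ≤ d ≤ a`. -/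
theorem maximal_index {G : Type u} [Group G] [Finite G] [hsol : Group.IsSolvable G] {p : ℕ} [hp : Fact p.Prime]
    (P : Sylow p G) (hNC : ∀ K : Subgroup G, K.Normal → (P : Subgroup G) ≤ K → K = ⊤)
    (M : Subgroup G) (hM : IsCoatom M) (hpM : ¬ p ∣ M.index) :
    ∃ r a d : ℕ, r.Prime ∧ M.index = r ^ a ∧ 1 ≤ d ∧ d ≤ a ∧ p ∣ r ^ d - 1 :=
  maximal_index_aux P hNC M hM hpM M.normalCore (Subgroup.normalCore_le M)
    (fun L hL hLM => by
      have := hL
      exact Subgroup.normal_le_normalCore.mpr hLM)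

end Cfsg.Agent.Lib.Helper24.Winter
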