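/-
helper24: Winter-type divisibility (S4467), part 4: character theoretic input (degrees of induced characters and of
constituents on normal subgroups, noncentral abelian normal subgroups force imprimitivity, faithful constituents on
class two subgroups).
-/
import Mathlib
import Cfsg.Agent.Lib.Helper6.Clifford
import Cfsg.Agent.Lib.Helper6.CliffordCorr
import Cfsg.Agent.Lib.Helper6.CharExtra
import Cfsg.Agent.Lib.Helper6.CentralHom
import Cfsg.Agent.Lib.Helper6.LinChar
import Cfsg.Agent.Lib.Lead.CharEquiv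
import Cfsg.Agent.Lib.Lead.CharOrtho
import Cfsg.Agent.Lib.Lead.ItoA
import Cfsg.Agent.Lib.Helper24.NormalDegrees
import Cfsg.Agent.Lib.Helper24.Deflation

set_option autoImplicit false

namespace Cfsg.Agent.Lib.Helper24.Winter

open Cfsg Cfsg.Agent.CharLib Cfsg.Agent.Lib.Helper6 Cfsg.Agent.Lib.Helper24
open scoped ComplexConjugate commutatorElement

universe u

variable {G : Type u} [Group G]

theorem isCharacter_apply_one_nat {X : Type u} [Group X] {ψ : X → ℂ} (hψ : IsCharacter X ψ) :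
    ∃ m : ℕ, ψ 1 = m := by
  obtain ⟨m, ρ, rfl⟩ := hψ
  exact ⟨m, by rw [Representation.char_one, Module.finrank_fin_fun]⟩

/-- The index of `T` divides the degree of a character induced from `T`. -/
theorem index_dvd_of_induced [Fintype G] (T : Subgroup G) {ψ : T → ℂ} (hψ : IsCharacter T ψ) {d : ℕ}
    (h : indFun T ψ 1 = d) : T.index ∣ d := by
  classical
  obtain ⟨m, hm⟩ := isCharacter_apply_one_nat hψ
  rw [Cfsg.Agent.Lib.Helper6.indFun_apply_one, hm] at h
  have hT : (Nat.card T : ℂ) ≠ 0 := by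
    have : 0 < Nat.card T := Nat.card_pos
    exact_mod_cast this.ne'
  have h1 : (Nat.card G : ℂ) = (Nat.card T : ℂ) * (T.index : ℂ) := by
    exact_mod_cast (Subgroup.card_mul_index T).symm
  rw [h1] at h
  have h2 : ((T.index * m : ℕ) : ℂ) = (d : ℂ) := by
    rw [← h]; push_cast; field_simp
  have h3 : T.index * m = d := by exact_mod_cast h2
  exact ⟨m, h3.symm⟩

/-- The degree of a constituent of the restriction to a normal subgroup divides the degree. -/
theorem degree_dvd_of_normal [Fintype G] (H : Subgroup G) [H.Normal] [Fintype H] {χ : G → ℂ}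
    (hχ : IsIrrCharacter G χ)
    {θ : H → ℂ} (hθ : IsIrrCharacter H θ) (h1 : classInner (resFun H χ) θ ≠ 0) {d e : ℕ}
    (hd : χ 1 = d) (he : θ 1 = e) : e ∣ d := by
  classical
  have h2 := clifford_degree H hχ hθ h1
  obtain ⟨c, hc⟩ := IsCharacter.classInner_nat (isCharacter_resFun H (IsIrrCharacter.isCharacter hχ))
    (IsIrrCharacter.isCharacter hθ)
  rw [hc, hd, he] at h2
  have h3 : d = c * (conjOrbit H θ).card * e := by exact_mod_cast h2
  exact ⟨c * (conjOrbit H θ).card, by rw [h3]; ring⟩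

/-- If an element `z` acts on `Φ` by the scalar `c` and lies in the kernel of a constituent, then `c = 1`. -/
theorem scalar_eq_one_of_constituent {X : Type u} [Group X] [Fintype X] (Φ : X → ℂ) {ψ : X → ℂ}
    (hψ : IsIrrCharacter X ψ) (h1 : classInner Φ ψ ≠ 0) (z : X) (c : ℂ)
    (hc : ∀ a, Φ (z * a) = c * Φ a) (hz : ψ z = ψ 1) : c = 1 := by
  obtain ⟨n, ρ, hirr, rfl⟩ := hψ
  have hρz : ρ z = 1 := by
    apply rep_eq_one_of_char_eq_finrank ρ z
    rw [hz, Representation.char_one]
  have hψz : ∀ a, ρ.character (z * a) = ρ.character a := by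
    intro a
    unfold Representation.character
    rw [map_mul, hρz, one_mul]
  have h2 : classInner Φ ρ.character = c * classInner Φ ρ.character := by
    unfold classInner
    rw [← mul_assoc, mul_comm c, mul_assoc]
    congr 1
    rw [Finset.mul_sum]
    rw [← Equiv.sum_comp (Equiv.mulLeft z) (fun g => Φ g * conj (ρ.character g))]
    apply Finset.sum_congr rfl
    intro a _
    rw [Equiv.coe_mulLeft, hc, hψz, mul_assoc]
  have h3 : (1 - c) * classInner Φ ρ.character = 0 := by linear_combination h2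
  rcases mul_eq_zero.mp h3 with h | h
  · exact (sub_eq_zero.mp h).symm
  · exact absurd h h1

/-- A non-central abelian normal subgroup forces a faithful irreducible character to be induced from a proper
subgroup. -/
theorem induced_of_abelian_normal [Fintype G] {χ : G → ℂ} (hχ : IsIrrCharacter G χ)
    (hfaith : ∀ g, χ g = χ 1 → g = 1) (N : Subgroup G) [hNn : N.Normal]
    (hNc : ∀ a ∈ N, ∀ b ∈ N, a * b = b * a) (hNZ : ¬ N ≤ Subgroup.center G) :
    ∃ T : Subgroup G, T ≠ ⊤ ∧ ∃ ψ : T → ℂ, IsCharacter T ψ ∧ indFun T ψ = χ := by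
  classical
  have hχc : IsCharacter G χ := IsIrrCharacter.isCharacter hχ
  have hχ1 : χ 1 ≠ 0 := irr_apply_one_ne_zero ⟨χ, hχ⟩
  have hres : IsCharacter N (resFun N χ) := isCharacter_resFun N hχc
  have hne : resFun N χ ≠ 0 := by
    intro h
    have := congrFun h 1
    rw [resFun_apply] at this
    exact hχ1 this
  obtain ⟨θ, hθ, hθne⟩ := IsCharacter.exists_constituent hres hne
  have hθc : IsCharacter N θ := IsIrrCharacter.isCharacter hθ
  have hθcls : IsClassFunction N θ := IsCharacter.isClassFunction hθc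
  let T : Subgroup G := inertia N hθcls
  have hNT : N ≤ T := le_inertia N hθcls
  have hT : ∀ g : G, g ∈ T ↔ conjFun N g θ = θ := fun g => mem_inertia N hθcls g
  obtain ⟨ψ, hψ, hind, -⟩ := exists_indFun_inertia_eq hNT hθ hT hχ hθne
  refine ⟨T, ?_, ψ, IsIrrCharacter.isCharacter hψ, hind⟩
  intro htop
  apply hNZ
  have hinv : ∀ g : G, conjFun N g θ = θ := fun g => (hT g).mp (htop ▸ Subgroup.mem_top g)
  have hcl := clifford_of_invariant N hχ hθ hθne hinv
  -- θ is linear
  have hθ1 : θ 1 = 1 := by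
    apply IsIrrCharacter.apply_one_eq_one_of_commutator hθ
    intro g k
    have : ⁅g, k⁆ = 1 := by
      rw [commutatorElement_eq_one_iff_mul_comm]
      exact Subtype.ext (hNc g g.2 k k.2)
    rw [this]
  let f : N →* ℂˣ := linCharUnitsHom hθc hθ1
  have hf : ∀ a : N, ((f a : ℂˣ) : ℂ) = θ a := fun a => linCharUnitsHom_apply hθc hθ1 a
  intro a ha
  rw [Subgroup.mem_center_iff]
  intro g
  -- the commutator lies in the kernel
  have hmem : g * a⁻¹ * g⁻¹ ∈ N := hNn.conj_mem a⁻¹ (N.inv_mem ha) g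
  have hc : a * (g * a⁻¹ * g⁻¹) ∈ N := N.mul_mem ha hmem
  have h1 : χ (a * (g * a⁻¹ * g⁻¹)) = χ 1 := by
    have e1 := congrFun hcl ⟨a * (g * a⁻¹ * g⁻¹), hc⟩
    have e2 := congrFun hcl 1
    rw [resFun_apply, Pi.smul_apply, smul_eq_mul] at e1 e2
    have e3 : θ ⟨a * (g * a⁻¹ * g⁻¹), hc⟩ = θ 1 := by
      have e4 : (⟨a * (g * a⁻¹ * g⁻¹), hc⟩ : N) = ⟨a, ha⟩ * ⟨g * a⁻¹ * g⁻¹, hmem⟩ := rfl
      rw [e4, ← hf, map_mul, Units.val_mul, hf, hf]
      have e5 : θ ⟨g * a⁻¹ * g⁻¹, hmem⟩ = θ ⟨a⁻¹, N.inv_mem ha⟩ := by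
        have := congrFun (hinv g) ⟨a⁻¹, N.inv_mem ha⟩
        rw [conjFun_apply] at this
        exact this
      rw [e5, ← hf, ← hf ⟨a⁻¹, N.inv_mem ha⟩, ← Units.val_mul, ← map_mul]
      have e6 : (⟨a, ha⟩ : N) * ⟨a⁻¹, N.inv_mem ha⟩ = 1 := Subtype.ext (mul_inv_cancel a)
      rw [e6, hf]
    have e7 : χ (a * (g * a⁻¹ * g⁻¹)) = classInner (resFun N χ) θ * θ 1 := by
      rw [← e3]; exact e1
    rw [e7]
    exact e2.symm
  have h2 := hfaith _ h1
  have h3 : a * g * a⁻¹ * g⁻¹ = 1 := by
    rw [← h2]; group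
  calc g * a = (a * g * a⁻¹ * g⁻¹)⁻¹ * (a * g) := by group
    _ = a * g := by rw [h3, inv_one, one_mul]

/-- A subgroup `B` of class at most two (commutators central in `G`) whose centre lies in `Z(G)`: some constituent
of the restriction of a faithful irreducible character is faithful, so `|B| = |Z(B)| d²`. -/
theorem exists_faithful_constituent [Fintype G] {χ : G → ℂ} (hχ : IsIrrCharacter G χ)
    (hfaith : ∀ g, χ g = χ 1 → g = 1) (B : Subgroup G) [Fintype B]
    (hBc : ∀ a ∈ B, ∀ b ∈ B, ⁅a, b⁆ ∈ Subgroup.center G)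
    (hBZ : ∀ b ∈ B, (∀ c ∈ B, b * c = c * b) → b ∈ Subgroup.center G) :
    ∃ (d : ℕ) (ψ : B → ℂ), IsIrrCharacter B ψ ∧ classInner (resFun B χ) ψ ≠ 0 ∧ ψ 1 = d ∧
      Nat.card B = Nat.card (Subgroup.center B) * d ^ 2 := by
  classical
  have hχc : IsCharacter G χ := IsIrrCharacter.isCharacter hχ
  have hχ1 : χ 1 ≠ 0 := irr_apply_one_ne_zero ⟨χ, hχ⟩
  have hres : IsCharacter B (resFun B χ) := isCharacter_resFun B hχc
  have hne : resFun B χ ≠ 0 := by
    intro h
    have := congrFun h 1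
    rw [resFun_apply] at this
    exact hχ1 this
  obtain ⟨ψ, hψ, hψne⟩ := IsCharacter.exists_constituent hres hne
  obtain ⟨c, hc, -⟩ := IsIrrCharacter.exists_central_hom hχ
  obtain ⟨d, ρ, hirr, hρ⟩ := hψ
  have hψ' : IsIrrCharacter B ρ.character := ⟨d, ρ, hirr, rfl⟩
  have hψne' : classInner (resFun B χ) ρ.character ≠ 0 := by rw [hρ]; exact hψne
  have key : ∀ z : B, (z : G) ∈ Subgroup.center G → ρ z = 1 → z = 1 := by
    intro z hzc hρz
    have hz' : ρ.character z = ρ.character 1 := by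
      unfold Representation.character
      rw [hρz, ← map_one ρ]
    have h1 := scalar_eq_one_of_constituent (resFun B χ) hψ' hψne' z (c ⟨z, hzc⟩)
      (fun a => by
        rw [resFun_apply, resFun_apply]
        exact hc ⟨z, hzc⟩ a) hz'
    have h2 : χ z = χ 1 := by
      have := hc ⟨z, hzc⟩ 1
      rw [h1, one_mul, mul_one] at this
      exact this
    exact Subtype.ext (hfaith _ h2)
  have hfaithρ : ∀ a : B, ρ a = 1 → a = 1 := by
    intro a ha
    have hainv : ρ a⁻¹ = 1 := by
      have : ρ a⁻¹ * ρ a = 1 := by rw [← map_mul, inv_mul_cancel, map_one]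
      rw [ha, mul_one] at this
      exact this
    have hcomm : ∀ b : B, a * b = b * a := by
      intro b
      have h1 : ρ ⁅a, b⁆ = 1 := by
        rw [commutatorElement_def, map_mul, map_mul, map_mul, ha, hainv, one_mul, mul_one, ← map_mul,
          mul_inv_cancel, map_one]
      have h2 : ((⁅a, b⁆ : B) : G) ∈ Subgroup.center G := hBc a a.2 b b.2
      have h3 := key _ h2 h1
      exact commutatorElement_eq_one_iff_mul_comm.mp h3
    have h4 : (a : G) ∈ Subgroup.center G := by
      apply hBZ a a.2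
      intro b hb
      exact congrArg Subtype.val (hcomm ⟨b, hb⟩)
    exact key a h4 ha
  have hcommB : commutator B ≤ Subgroup.center B := by
    rw [commutator_def, Subgroup.commutator_le]
    intro g₁ _ g₂ _
    rw [Subgroup.mem_center_iff]
    intro h
    apply Subtype.ext
    have := (Subgroup.mem_center_iff.mp (hBc g₁ g₁.2 g₂ g₂.2)) (h : G)
    exact this
  have hcard := @Cfsg.Agent.CharLib.Ito.card_eq_card_center_mul_sq B _ d ρ hirr _ hfaithρ hcommB
  refine ⟨d, ρ.character, hψ', hψne', ?_, hcard⟩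
  rw [Representation.char_one, Module.finrank_fin_fun]

/-- The centre of a subgroup `B ⊇ Z(G)` whose centre lies in `Z(G)` has the order of `Z(G)`. -/
theorem card_center_sub (B : Subgroup G) (hZB : Subgroup.center G ≤ B)
    (hBZ : ∀ b ∈ B, (∀ c ∈ B, b * c = c * b) → b ∈ Subgroup.center G) :
    Nat.card (Subgroup.center B) = Nat.card (Subgroup.center G) := by
  have h1 : (Subgroup.center B).map B.subtype = Subgroup.center G := by
    ext z
    constructor
    · rintro ⟨b, hb, rfl⟩
      apply hBZ b b.2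
      intro c hc
      have := (Subgroup.mem_center_iff.mp hb) ⟨c, hc⟩
      exact (congrArg Subtype.val this).symm
    · intro hz
      refine ⟨⟨z, hZB hz⟩, ?_, rfl⟩
      rw [SetLike.mem_coe, Subgroup.mem_center_iff]
      intro g
      apply Subtype.ext
      exact (Subgroup.mem_center_iff.mp hz) g
  rw [← h1, Subgroup.card_map_of_injective B.subtype_injective]

theorem exists_faithful_constituent' [Fintype G] {χ : G → ℂ} (hχ : IsIrrCharacter G χ)
    (hfaith : ∀ g, χ g = χ 1 → g = 1) (B : Subgroup G) [Fintype B]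
    (hZB : Subgroup.center G ≤ B)
    (hBc : ∀ a ∈ B, ∀ b ∈ B, ⁅a, b⁆ ∈ Subgroup.center G)
    (hBZ : ∀ b ∈ B, (∀ c ∈ B, b * c = c * b) → b ∈ Subgroup.center G) :
    ∃ (d : ℕ) (ψ : B → ℂ), IsIrrCharacter B ψ ∧ classInner (resFun B χ) ψ ≠ 0 ∧ ψ 1 = d ∧
      Nat.card B = Nat.card (Subgroup.center G) * d ^ 2 := by
  obtain ⟨d, ψ, h1, h2, h3, h4⟩ := exists_faithful_constituent hχ hfaith B hBc hBZ
  exact ⟨d, ψ, h1, h2, h3, by rw [h4, card_center_sub B hZB hBZ]⟩

end Cfsg.Agent.Lib.Helper24.Winter
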