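/-
helper24: Winter-type divisibility (S4467), part 5: the induction. `holdsA_all`: for a solvable group, an irreducible
representation of degree d such that the image of a Sylow p-subgroup modulo the kernel is not normal has `Good p d`.
-/
import Mathlib
import Cfsg.Agent.Lib.Helper24.Winter1
import Cfsg.Agent.Lib.Helper24.Winter2
import Cfsg.Agent.Lib.Helper24.Winter3
import Cfsg.Agent.Lib.Helper24.Winter4

set_option autoImplicit false

namespace Cfsg.Agent.Lib.Helper24.Winter

open Cfsg Cfsg.Agent.CharLib Cfsg.Agent.Lib.Helper6 Cfsg.Agent.Lib.Helper24 Cfsg.Agent.Lib.Helper1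
open scoped ComplexConjugate commutatorElement

universe u

/-- The theorem for a group `G`, in kernel-relative form. -/
def HoldsA (p : ℕ) (G : Type u) [Group G] : Prop :=
  ∀ (d : ℕ) (ρ : Representation ℂ G (Fin d → ℂ)), ρ.IsIrreducible →
    (∃ P : Sylow p G, ¬ ((P : Subgroup G) ⊔ MonoidHom.ker (ρ : G →* Module.End ℂ (Fin d → ℂ))).Normal) →
      Good p d

theorem card_lt_of_ne_top {G : Type u} [Group G] [Finite G] (K : Subgroup G) (h : K ≠ ⊤) :
    Nat.card K < Nat.card G := by
  have h1 := Subgroup.card_mul_index K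
  have h2 : K.index ≠ 1 := fun h' => h (Subgroup.index_eq_one.mp h')
  have h3 : K.index ≠ 0 := Subgroup.index_ne_zero_of_finite
  have h4 : 0 < Nat.card K := Nat.card_pos
  have h5 : 2 ≤ K.index := by omega
  nlinarith

theorem card_quotient_lt {G : Type u} [Group G] [Finite G] (N : Subgroup G) [N.Normal] (h : N ≠ ⊥) :
    Nat.card (G ⧸ N) < Nat.card G := by
  have h1 := Subgroup.card_eq_card_quotient_mul_card_subgroup N
  have h2 : 1 < Nat.card N := (Subgroup.one_lt_card_iff_ne_bot N).mpr h
  have h3 : 0 < Nat.card (G ⧸ N) := Nat.card_pos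
  nlinarith

/-- Passing to the quotient by the kernel. -/
theorem good_of_quotient {G : Type u} [Group G] [Finite G] {p : ℕ} [hp : Fact p.Prime] (d : ℕ)
    (ρ : Representation ℂ G (Fin d → ℂ)) (hirr : ρ.IsIrreducible) (P : Sylow p G)
    (hP : ¬ ((P : Subgroup G) ⊔ MonoidHom.ker (ρ : G →* Module.End ℂ (Fin d → ℂ))).Normal)
    (IH : HoldsA p (G ⧸ MonoidHom.ker (ρ : G →* Module.End ℂ (Fin d → ℂ)))) : Good p d := by
  set N : Subgroup G := MonoidHom.ker (ρ : G →* Module.End ℂ (Fin d → ℂ)) with hN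
  have hN' : ∀ n ∈ N, ρ n = 1 := fun n hn => MonoidHom.mem_ker.mp hn
  let ρ' : Representation ℂ (G ⧸ N) (Fin d → ℂ) := deflate N ρ hN'
  have hirr' : ρ'.IsIrreducible := by
    have := hirr
    exact deflate_isIrreducible N ρ hN'
  have hπs : Function.Surjective (QuotientGroup.mk' N) := QuotientGroup.mk'_surjective N
  let P' : Sylow p (G ⧸ N) := Sylow.mapSurjective hπs P
  have hker' : MonoidHom.ker (ρ' : G ⧸ N →* Module.End ℂ (Fin d → ℂ)) = ⊥ := by
    rw [eq_bot_iff]
    intro x hx
    obtain ⟨g, rfl⟩ := hπs x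
    rw [MonoidHom.mem_ker] at hx
    have h1 : ρ g = 1 := hx
    rw [Subgroup.mem_bot]
    exact (QuotientGroup.eq_one_iff g).mpr (MonoidHom.mem_ker.mpr h1)
  apply IH d ρ' hirr' ⟨P', ?_⟩
  rw [hker', sup_bot_eq]
  intro hnorm
  apply hP
  have h1 : ((P' : Subgroup (G ⧸ N)).comap (QuotientGroup.mk' N)).Normal := hnorm.comap _
  have h2 : (P' : Subgroup (G ⧸ N)).comap (QuotientGroup.mk' N) = (P : Subgroup G) ⊔ N := by
    rw [Sylow.coe_mapSurjective, Subgroup.comap_map_eq, QuotientGroup.ker_mk']
  rw [h2] at h1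
  exact h1

/-- Step 1: a proper normal subgroup containing the Sylow subgroup. -/
theorem good_of_normal_sub {G : Type u} [Group G] [Fintype G] {p : ℕ} [hp : Fact p.Prime] {χ : G → ℂ}
    (hχ : IsIrrCharacter G χ) (hfaith : ∀ g, χ g = χ 1 → g = 1) {d : ℕ} (hd : χ 1 = d)
    (P : Sylow p G) (hP : ¬ (P : Subgroup G).Normal) (K : Subgroup G) [hKn : K.Normal]
    (hPK : (P : Subgroup G) ≤ K) (IH : HoldsA p K) : Good p d := by
  classical
  by_contra hbad
  letI : Fintype K := Fintype.ofFinite K
  letI := fintypeIrr K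
  let PK : Sylow p K := P.subtype hPK
  choose e ρθ hirrθ hcharθ using (fun θ : IrrCharacter K => θ.2)
  have hnorm : ∀ θ : IrrCharacter K, classInner (resFun K χ) (θ : K → ℂ) ≠ 0 →
      ((PK : Subgroup K) ⊔ MonoidHom.ker (ρθ θ : K →* Module.End ℂ (Fin (e θ) → ℂ))).Normal := by
    intro θ hθ
    by_contra hn
    apply hbad
    have h1 : Good p (e θ) := IH (e θ) (ρθ θ) (hirrθ θ) ⟨PK, hn⟩
    have h2 : (θ : K → ℂ) 1 = e θ := by
      rw [← hcharθ θ, Representation.char_one, Module.finrank_fin_fun]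
    exact h1.mono (degree_dvd_of_normal K hχ θ.2 hθ hd h2)
  let D : Subgroup K := ⨅ θ : {θ : IrrCharacter K // classInner (resFun K χ) (θ : K → ℂ) ≠ 0},
      (PK : Subgroup K) ⊔ MonoidHom.ker (ρθ θ.1 : K →* Module.End ℂ (Fin (e θ.1) → ℂ))
  have hPD : (PK : Subgroup K) ≤ D := le_iInf (fun θ => le_sup_left)
  obtain ⟨n₀, hn₀⟩ := PK.2.exists_card_eq
  have hχc : IsCharacter G χ := IsIrrCharacter.isCharacter hχ
  have hres : IsCharacter K (resFun K χ) := isCharacter_resFun K hχc
  obtain ⟨m, hm, hcoef⟩ := IsCharacter.exists_decomp_sum hres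
  have hDp : IsPGroup p D := by
    rintro ⟨k, hk⟩
    refine ⟨n₀, Subtype.ext ?_⟩
    show k ^ (p ^ n₀) = 1
    have hker : ∀ θ : IrrCharacter K, classInner (resFun K χ) (θ : K → ℂ) ≠ 0 →
        (ρθ θ) (k ^ (p ^ n₀)) = 1 := by
      intro θ hθ
      have hkθ : k ∈ (PK : Subgroup K) ⊔ MonoidHom.ker (ρθ θ : K →* Module.End ℂ (Fin (e θ) → ℂ)) :=
        (Subgroup.mem_iInf.mp hk) ⟨θ, hθ⟩
      obtain ⟨u, hu, n, hn, rfl⟩ := Subgroup.mem_sup_of_normal_right.mp hkθ
      have hn1 : (ρθ θ) n = 1 := MonoidHom.mem_ker.mp hn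
      have hu1 : u ^ (p ^ n₀) = 1 := by
        have := pow_card_eq_one' (G := (PK : Subgroup K)) (x := ⟨u, hu⟩)
        rw [hn₀] at this
        exact congrArg Subtype.val this
      rw [map_pow, map_mul, hn1, mul_one, ← map_pow, hu1, map_one]
    have hval : resFun K χ (k ^ (p ^ n₀)) = resFun K χ 1 := by
      rw [hm, Finset.sum_apply, Finset.sum_apply]
      apply Finset.sum_congr rfl
      intro θ _
      rw [Pi.smul_apply, Pi.smul_apply]
      by_cases h0 : m θ = 0
      · rw [h0, zero_smul, zero_smul]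
      · have hne : classInner (resFun K χ) (θ : K → ℂ) ≠ 0 := by
          rw [hcoef θ]; exact_mod_cast h0
        congr 1
        rw [← hcharθ θ]
        unfold Representation.character
        rw [hker θ hne, ← map_one (ρθ θ)]
    rw [resFun_apply, resFun_apply] at hval
    have := hfaith _ hval
    exact Subtype.ext this
  have hDeq : D = PK := PK.is_maximal' hDp hPD
  have hDn : D.Normal := Subgroup.normal_iInf_normal (fun θ => hnorm θ.1 θ.2)
  have hPKn : (PK : Subgroup K).Normal := hDeq ▸ hDn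
  have hchar : (PK : Subgroup K).Characteristic := Sylow.characteristic_of_normal PK hPKn
  have hn : ((PK : Subgroup K).map K.subtype).Normal :=
    @ConjAct.normal_of_characteristic_of_normal G _ K hKn (PK : Subgroup K) hchar
  rw [Sylow.coe_subtype, Subgroup.map_subgroupOf_eq_of_le hPK] at hn
  exact hP hn

/-- Step 3: the character is induced from a proper subgroup. -/
theorem good_of_induced {G : Type u} [Group G] [Fintype G] [Group.IsSolvable G] {p : ℕ} [hp : Fact p.Prime]
    {χ : G → ℂ} {d : ℕ} (hd : χ 1 = d) (hpd : ¬ p ∣ d) (P : Sylow p G)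
    (hNC : ∀ K : Subgroup G, K.Normal → (P : Subgroup G) ≤ K → K = ⊤)
    (T : Subgroup G) (hT : T ≠ ⊤) (ψ : T → ℂ) (hψ : IsCharacter T ψ) (hind : indFun T ψ = χ) :
    Good p d := by
  have h1 : T.index ∣ d := index_dvd_of_induced T hψ (by rw [hind]; exact hd)
  rcases eq_top_or_exists_le_coatom T with h | ⟨M, hM, hTM⟩
  · exact absurd h hT
  · have h2 : M.index ∣ d := (Subgroup.index_dvd_of_le hTM).trans h1
    have h3 : ¬ p ∣ M.index := fun h => hpd (h.trans h2)
    obtain ⟨r, a, d', hr, hMa, hd1, hda, hdvd⟩ := maximal_index P hNC M hM h3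
    exact good_of_pow_sub_one hr hd1 hda hdvd (hMa ▸ h2)

/-- Step 4: a normal subgroup of class two over the centre. -/
theorem good_of_class2 {G : Type u} [Group G] [Fintype G] {p : ℕ} [hp : Fact p.Prime] {χ : G → ℂ}
    (hχ : IsIrrCharacter G χ) (hfaith : ∀ g, χ g = χ 1 → g = 1) {d : ℕ} (hd : χ 1 = d) (hpd : ¬ p ∣ d)
    (P : Sylow p G) (hNC : ∀ K : Subgroup G, K.Normal → (P : Subgroup G) ≤ K → K = ⊤)
    (A : Subgroup G) [hAn : A.Normal] (hZA : Subgroup.center G ≤ A)
    (hAc : ∀ a ∈ A, ∀ b ∈ A, ⁅a, b⁆ ∈ Subgroup.center G)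
    (hAZ : ∀ a ∈ A, (∀ b ∈ A, a * b = b * a) → a ∈ Subgroup.center G)
    (hAnc : ¬ A ≤ Subgroup.center G) {r : ℕ} (hr : r.Prime)
    (hrA : ∀ a ∈ A, ∃ s : ℕ, a ^ (r ^ s) ∈ Subgroup.center G) : Good p d := by
  classical
  letI : Fintype A := Fintype.ofFinite A
  have : Fact r.Prime := ⟨hr⟩
  obtain ⟨dA, η, hη, hηne, hη1, hcardA⟩ := exists_faithful_constituent' hχ hfaith A hZA hAc hAZ
  have hdA : dA ∣ d := degree_dvd_of_normal A hχ hη hηne hd hη1
  have hZpos : 0 < Nat.card (Subgroup.center G) := Nat.card_pos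
  -- |A : Z| is a power of r
  have hAcard : ∃ a : ℕ, Nat.card A = Nat.card (Subgroup.center G) * r ^ a := by
    have h1 := Subgroup.card_eq_card_quotient_mul_card_subgroup ((Subgroup.center G).subgroupOf A)
    have h2 : IsPGroup r (A ⧸ (Subgroup.center G).subgroupOf A) := by
      intro v
      obtain ⟨a, rfl⟩ := QuotientGroup.mk'_surjective _ v
      obtain ⟨s, hs⟩ := hrA a a.2
      refine ⟨s, ?_⟩
      rw [QuotientGroup.mk'_apply, ← QuotientGroup.mk_pow, QuotientGroup.eq_one_iff]
      exact Subgroup.mem_subgroupOf.mpr hs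
    obtain ⟨a, ha⟩ := h2.exists_card_eq
    refine ⟨a, ?_⟩
    rw [h1, ha, Nat.card_congr (Subgroup.subgroupOfEquivOfLe hZA).toEquiv, mul_comm]
  obtain ⟨a, ha⟩ := hAcard
  have hdA2 : dA ^ 2 = r ^ a := by
    have : Nat.card (Subgroup.center G) * dA ^ 2 = Nat.card (Subgroup.center G) * r ^ a := by
      rw [← hcardA, ha]
    exact Nat.eq_of_mul_eq_mul_left hZpos this
  have hdA1 : dA ≠ 1 := by
    intro h1
    apply hAnc
    rw [h1, one_pow, mul_one] at hcardA
    have := Subgroup.eq_of_le_of_card_ge hZA hcardA.le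
    rw [← this]
  have hpr : p ≠ r := by
    rintro rfl
    apply hpd
    have ha0 : a ≠ 0 := by
      rintro rfl
      rw [pow_zero] at hdA2
      exact hdA1 ((Nat.pow_eq_one).mp hdA2 |>.resolve_right (by norm_num))
    have h1 : p ∣ dA ^ 2 := hdA2 ▸ dvd_pow_self p ha0
    exact (hp.out.dvd_of_dvd_pow h1).trans hdA
  -- an element of P acting nontrivially on A
  have hex : ∃ x ∈ (P : Subgroup G), x ∉ Subgroup.centralizer (A : Set G) := by
    by_contra hcon
    push Not at hcon
    have hCn : (Subgroup.centralizer (A : Set G)).Normal := Subgroup.normal_centralizer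
    have h1 := hNC _ hCn hcon
    apply hAnc
    intro a ha
    rw [Subgroup.mem_center_iff]
    intro g
    have : g ∈ Subgroup.centralizer (A : Set G) := h1 ▸ Subgroup.mem_top g
    exact ((Subgroup.mem_centralizer_iff.mp this) a ha).symm
  obtain ⟨x, hxP, hx⟩ := hex
  obtain ⟨k, hk⟩ := P.2 ⟨x, hxP⟩
  have hxk : x ^ (p ^ k) = 1 := by
    have := congrArg Subtype.val hk
    simpa using this
  let τ : MulAut A := MulAut.conjNormal x
  have hτ : τ ^ (p ^ k) = 1 := by
    show (MulAut.conjNormal x) ^ (p ^ k) = 1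
    rw [← map_pow, hxk, map_one]
  have hcenA : ∀ z : A, z ∈ Subgroup.center A → (z : G) ∈ Subgroup.center G := by
    intro z hz
    apply hAZ z z.2
    intro b hb
    have := (Subgroup.mem_center_iff.mp hz) ⟨b, hb⟩
    exact (congrArg Subtype.val this).symm
  have hτZ : ∀ z ∈ Subgroup.center A, τ z = z := by
    intro z hz
    apply Subtype.ext
    rw [MulAut.conjNormal_apply]
    have := (Subgroup.mem_center_iff.mp (hcenA z hz)) x
    rw [this, mul_inv_cancel_right]
  have hτ1 : τ ≠ 1 := by
    intro h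
    apply hx
    rw [Subgroup.mem_centralizer_iff]
    intro a ha
    have h1 : τ ⟨a, ha⟩ = ⟨a, ha⟩ := by rw [h, MulAut.one_apply]
    have h2 := congrArg Subtype.val h1
    rw [MulAut.conjNormal_apply] at h2
    have h3 : x * a = a * x := by
      calc x * a = x * a * x⁻¹ * x := by group
        _ = a * x := by rw [h2]
    exact h3.symm
  have hc : ∀ a b : A, ⁅a, b⁆ ∈ Subgroup.center A := by
    intro a b
    rw [Subgroup.mem_center_iff]
    intro g
    apply Subtype.ext
    exact (Subgroup.mem_center_iff.mp (hAc a a.2 b b.2)) (g : G)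
  have hrA' : ∀ a : A, ∃ s : ℕ, a ^ (r ^ s) ∈ Subgroup.center A := by
    intro a
    obtain ⟨s, hs⟩ := hrA a a.2
    refine ⟨s, ?_⟩
    rw [Subgroup.mem_center_iff]
    intro g
    apply Subtype.ext
    exact (Subgroup.mem_center_iff.mp hs) (g : G)
  obtain ⟨B', hZB', hcenB', v, hcardB', hv1, hvlt, t, hvt⟩ :=
    exists_sub_class2 hc hp.out hr hpr hrA' τ k hτ hτZ hτ1
  let B : Subgroup G := B'.map A.subtype
  have hBA : B ≤ A := by
    rintro _ ⟨b, -, rfl⟩
    exact b.2
  have hZB : Subgroup.center G ≤ B := by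
    intro z hz
    refine ⟨⟨z, hZA hz⟩, hZB' ?_, rfl⟩
    rw [Subgroup.mem_center_iff]
    intro g
    apply Subtype.ext
    exact (Subgroup.mem_center_iff.mp hz) (g : G)
  have hBc : ∀ a ∈ B, ∀ b ∈ B, ⁅a, b⁆ ∈ Subgroup.center G :=
    fun a ha b hb => hAc a (hBA ha) b (hBA hb)
  have hBZ : ∀ b ∈ B, (∀ c ∈ B, b * c = c * b) → b ∈ Subgroup.center G := by
    rintro _ ⟨b, hb, rfl⟩ hcomm
    apply hcenA b
    apply hcenB' b hb
    intro c hc'
    apply Subtype.ext
    exact hcomm (c : G) ⟨c, hc', rfl⟩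
  letI : Fintype B := Fintype.ofFinite B
  obtain ⟨dB, ψ, hψ, hψne, hψ1, hcardB⟩ := exists_faithful_constituent' hχ hfaith B hZB hBc hBZ
  have hcB : Nat.card B = Nat.card B' := Subgroup.card_map_of_injective A.subtype_injective
  have hcZA : Nat.card (Subgroup.center A) = Nat.card (Subgroup.center G) := card_center_sub A hZA hAZ
  have hv : v = dB ^ 2 := by
    have : Nat.card (Subgroup.center G) * v = Nat.card (Subgroup.center G) * dB ^ 2 := by
      rw [← hcardB, hcB, hcardB', hcZA]
    exact Nat.eq_of_mul_eq_mul_left hZpos this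
  have hdBA : dB ∣ dA := by
    have h1 : Nat.card B' ∣ Nat.card A := Subgroup.card_subgroup_dvd_card B'
    rw [← hcB, hcardB, hcardA] at h1
    have h2 : dB ^ 2 ∣ dA ^ 2 := (Nat.mul_dvd_mul_iff_left hZpos).mp h1
    exact (Nat.pow_dvd_pow_iff (by norm_num)).mp h2
  have hdB1 : 1 < dB := by
    rw [hv] at hvlt
    by_contra h
    have : dB ≤ 1 := by omega
    have : dB ^ 2 ≤ 1 := by nlinarith
    omega
  have hdBpp : IsPrimePow dB := by
    have h1 : dB ∣ r ^ t := by
      rw [← hvt, hv]; exact dvd_pow_self dB (by norm_num)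
    obtain ⟨j, -, hj⟩ := (Nat.dvd_prime_pow hr).mp h1
    rw [hj]
    have hj0 : j ≠ 0 := by
      rintro rfl
      rw [pow_zero] at hj
      omega
    exact hr.isPrimePow.pow hj0
  exact good_of_sq hp.out hdBpp (hv ▸ hv1) (hdBA.trans hdA)

/-- The main theorem, by induction on the order. -/
theorem holdsA_all (p : ℕ) [hp : Fact p.Prime] :
    ∀ (n : ℕ) (G : Type u) [Group G] [Finite G], Nat.card G = n → Group.IsSolvable G → HoldsA p G := by
  intro n
  induction n using Nat.strong_induction_on with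
  | _ n IH =>
  intro G _ _ hn hsol d ρ hirr hP
  obtain ⟨P, hP⟩ := hP
  classical
  letI := Fintype.ofFinite G
  have := hsol
  by_cases hker : MonoidHom.ker (ρ : G →* Module.End ℂ (Fin d → ℂ)) = ⊥
  · -- faithful case
    have hP' : ¬ (P : Subgroup G).Normal := by
      have h := hP
      rw [hker, sup_bot_eq] at h
      exact h
    have hχ : IsIrrCharacter G ρ.character := ⟨d, ρ, hirr, rfl⟩
    have hd : ρ.character 1 = d := by rw [Representation.char_one, Module.finrank_fin_fun]
    have hfaith : ∀ g, ρ.character g = ρ.character 1 → g = 1 := by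
      intro g hg
      have h1 : ρ g = 1 := rep_eq_one_of_char_eq_finrank ρ g (by rw [hg, Representation.char_one])
      have h2 : g ∈ MonoidHom.ker (ρ : G →* Module.End ℂ (Fin d → ℂ)) := MonoidHom.mem_ker.mpr h1
      rw [hker] at h2
      exact Subgroup.mem_bot.mp h2
    by_cases hpd : p ∣ d
    · exact good_of_dvd_self hp.out hpd
    by_cases hK : ∃ K : Subgroup G, K.Normal ∧ K ≠ ⊤ ∧ (P : Subgroup G) ≤ K
    · obtain ⟨K, hKn, hKtop, hPK⟩ := hK
      have := hKn
      have hIH : HoldsA p K :=
        IH (Nat.card K) (hn ▸ card_lt_of_ne_top K hKtop) K rfl inferInstance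
      exact good_of_normal_sub hχ hfaith hd P hP' K hPK hIH
    · have hNC : ∀ K : Subgroup G, K.Normal → (P : Subgroup G) ≤ K → K = ⊤ := by
        intro K hKn hPK
        by_contra hne
        exact hK ⟨K, hKn, hne, hPK⟩
      by_cases hab : ∃ N : Subgroup G, N.Normal ∧ (∀ a ∈ N, ∀ b ∈ N, a * b = b * a) ∧
          ¬ N ≤ Subgroup.center G
      · obtain ⟨N, hNn, hNc, hNZ⟩ := hab
        have := hNn
        obtain ⟨T, hT, ψ, hψ, hind⟩ := induced_of_abelian_normal hχ hfaith N hNc hNZ
        exact good_of_induced hd hpd P hNC T hT ψ hψ hind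
      · push Not at hab
        let Z : Subgroup G := Subgroup.center G
        let π : G →* G ⧸ Z := QuotientGroup.mk' Z
        have hπ : ∀ g : G, π g = 1 ↔ g ∈ Z := fun g => QuotientGroup.eq_one_iff g
        have hπs : Function.Surjective π := QuotientGroup.mk'_surjective Z
        have hZtop : Z ≠ ⊤ := by
          intro h
          apply hP'
          constructor
          intro y hy g
          have hyc : y ∈ Z := h ▸ Subgroup.mem_top y
          have := (Subgroup.mem_center_iff.mp hyc) g
          rw [this, mul_inv_cancel_right]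
          exact hy
        have : Nontrivial (G ⧸ Z) := by
          rw [← not_subsingleton_iff_nontrivial]
          intro hs
          apply hZtop
          rw [eq_top_iff]
          intro g _
          have : π g = π 1 := Subsingleton.elim _ _
          rw [map_one] at this
          exact (hπ g).mp this
        obtain ⟨N, hN⟩ := exists_isMinNormal (G := G ⧸ Z)
        have hNab : IsMulCommutative N := hN.isMulCommutative
        obtain ⟨r, hr, hNr⟩ := hN.exists_prime_isPGroup
        have hNn : N.Normal := hN.1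
        let A : Subgroup G := N.comap π
        have hAn : A.Normal := hNn.comap π
        have hZA : Subgroup.center G ≤ A := by
          intro z hz
          show π z ∈ N
          rw [(hπ z).mpr hz]
          exact N.one_mem
        have hAc : ∀ a ∈ A, ∀ b ∈ A, ⁅a, b⁆ ∈ Subgroup.center G := by
          intro a ha b hb
          apply (hπ _).mp
          rw [map_commutatorElement, commutatorElement_eq_one_iff_mul_comm]
          have := mul_comm' (⟨π a, ha⟩ : N) ⟨π b, hb⟩
          exact congrArg Subtype.val this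
        have hAZ : ∀ a ∈ A, (∀ b ∈ A, a * b = b * a) → a ∈ Subgroup.center G := by
          intro a ha hcomm
          have hCn : (Subgroup.centralizer (A : Set G)).Normal := Subgroup.normal_centralizer
          have hZAn : (A ⊓ Subgroup.centralizer (A : Set G)).Normal := Subgroup.normal_inf_normal _ _
          have h1 := hab (A ⊓ Subgroup.centralizer (A : Set G)) hZAn (by
            intro u hu w hw
            have := (Subgroup.mem_centralizer_iff.mp (Subgroup.mem_inf.mp hu).2) w (Subgroup.mem_inf.mp hw).1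
            exact this.symm)
          apply h1
          refine Subgroup.mem_inf.mpr ⟨ha, ?_⟩
          rw [Subgroup.mem_centralizer_iff]
          intro b hb
          exact (hcomm b hb).symm
        have hAnc : ¬ A ≤ Subgroup.center G := by
          intro h
          apply hN.2.1
          rw [← Subgroup.map_comap_eq_self_of_surjective hπs N, eq_bot_iff]
          rintro _ ⟨a, ha, rfl⟩
          rw [Subgroup.mem_bot]
          exact (hπ a).mpr (h ha)
        have hrA : ∀ a ∈ A, ∃ s : ℕ, a ^ (r ^ s) ∈ Subgroup.center G := by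
          intro a ha
          obtain ⟨s, hs⟩ := hNr ⟨π a, ha⟩
          refine ⟨s, (hπ _).mp ?_⟩
          rw [map_pow]
          exact congrArg Subtype.val hs
        exact good_of_class2 hχ hfaith hd hpd P hNC A hZA hAc hAZ hAnc hr hrA
  · have hIH := IH (Nat.card (G ⧸ MonoidHom.ker (ρ : G →* Module.End ℂ (Fin d → ℂ))))
      (hn ▸ card_quotient_lt _ hker) (G ⧸ MonoidHom.ker (ρ : G →* Module.End ℂ (Fin d → ℂ))) rfl inferInstance
    exact good_of_quotient d ρ hirr P hP hIH

end Cfsg.Agent.Lib.Helper24.Winter
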